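import Cfsg.Agent.H8.Out
import Cfsg.Agent.H8.Cover

/-! H8.GM22: permutation model of order 443520 on 24 points: `P`, `lets`, `std`, `card`, `base` (generated certificate) -/

set_option autoImplicit false
set_option maxRecDepth 200000

namespace H8.M22

noncomputable def t0 : ℕ := (nat_lit 0xbb5135bdd63160aa1ea964a2418820)
noncomputable def t1 : ℕ := (nat_lit 0xbc12ba18ad946c79b11553dc418820)
noncomputable def t2 : ℕ := (nat_lit 0xbc92655a2c3b9706cea47d0a818820)
noncomputable def t3 : ℕ := (nat_lit 0xb9e086be3593a6952d94b10a618820)
noncomputable def t4 : ℕ := (nat_lit 0xb9da32494673eac5c4a8b4133a0820)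
noncomputable def t5 : ℕ := (nat_lit 0xba611732953cdb212ac8798851ac20)
noncomputable def t6 : ℕ := (nat_lit 0xbc8e22d9d07c5ac20528a8e6b35140)
noncomputable def G0 : Tr ℕ := (.node (nat_lit 3) (.node (nat_lit 1) (.leaf t0)
 (.node (nat_lit 2) (.leaf t1)
 (.leaf t2)))
 (.node (nat_lit 5) (.node (nat_lit 4) (.leaf t3)
 (.leaf t4))
 (.node (nat_lit 6) (.leaf t5)
 (.leaf t6))))
noncomputable def T' : Tr ℕ := (.node (nat_lit 3) (.node (nat_lit 1) (.leaf t0)
 (.node (nat_lit 2) (.leaf t1)
 (.leaf t2)))
 (.node (nat_lit 5) (.node (nat_lit 4) (.leaf t3)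
 (.leaf t4))
 (.node (nat_lit 6) (.leaf t5)
 (.leaf t6))))
noncomputable def D : Tr (List ℕ) := (.node (nat_lit 3) (.node (nat_lit 1) (.leaf [])
 (.node (nat_lit 2) (.leaf [])
 (.leaf [])))
 (.node (nat_lit 5) (.node (nat_lit 4) (.leaf [])
 (.leaf []))
 (.node (nat_lit 6) (.leaf [])
 (.leaf []))))
noncomputable def T : Tr ℕ := (.node (nat_lit 3) (.node (nat_lit 1) (.leaf t0)
 (.node (nat_lit 2) (.leaf t1)
 (.leaf t2)))
 (.node (nat_lit 5) (.node (nat_lit 4) (.leaf t3)
 (.leaf t4))
 (.node (nat_lit 6) (.leaf t5)
 (.leaf t6))))
noncomputable def RL_0 : Tr (List ℕ) := (.node (nat_lit 2) (.node (nat_lit 1) (.leaf [nat_lit 5, nat_lit 0, nat_lit 2, nat_lit 3, nat_lit 5, nat_lit 0, nat_lit 2, nat_lit 3])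
 (.leaf [nat_lit 4, nat_lit 0, nat_lit 4, nat_lit 0, nat_lit 4, nat_lit 0, nat_lit 4, nat_lit 0, nat_lit 4, nat_lit 0]))
 (.node (nat_lit 3) (.leaf [nat_lit 2, nat_lit 3, nat_lit 4, nat_lit 0, nat_lit 4, nat_lit 1, nat_lit 4])
 (.leaf [nat_lit 1, nat_lit 2, nat_lit 3, nat_lit 4, nat_lit 6, nat_lit 4, nat_lit 0, nat_lit 6, nat_lit 2, nat_lit 6])))
noncomputable def RL_1 : Tr (List ℕ) := (.node (nat_lit 6) (.node (nat_lit 5) (.leaf [nat_lit 2, nat_lit 0, nat_lit 2, nat_lit 0, nat_lit 2, nat_lit 0])
 (.leaf [nat_lit 0, nat_lit 0, nat_lit 0]))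
 (.node (nat_lit 7) (.leaf [nat_lit 0, nat_lit 1])
 (.leaf [nat_lit 6, nat_lit 0, nat_lit 4, nat_lit 1, nat_lit 6, nat_lit 0, nat_lit 4, nat_lit 1])))
noncomputable def RL_2 : Tr (List ℕ) := (.node (nat_lit 10) (.node (nat_lit 9) (.leaf [nat_lit 4, nat_lit 3, nat_lit 1, nat_lit 5, nat_lit 0, nat_lit 5, nat_lit 4, nat_lit 6, nat_lit 3, nat_lit 0, nat_lit 2, nat_lit 6])
 (.leaf [nat_lit 0, nat_lit 3, nat_lit 0, nat_lit 3, nat_lit 0, nat_lit 3]))
 (.node (nat_lit 11) (.leaf [nat_lit 5, nat_lit 2, nat_lit 5, nat_lit 2, nat_lit 5, nat_lit 2])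
 (.leaf [nat_lit 2, nat_lit 2])))
noncomputable def RL_3 : Tr (List ℕ) := (.node (nat_lit 14) (.node (nat_lit 13) (.leaf [nat_lit 6, nat_lit 2, nat_lit 6, nat_lit 2, nat_lit 6, nat_lit 2, nat_lit 6, nat_lit 2])
 (.leaf [nat_lit 2, nat_lit 3, nat_lit 2, nat_lit 3]))
 (.node (nat_lit 15) (.leaf [nat_lit 2, nat_lit 3, nat_lit 1, nat_lit 5, nat_lit 6, nat_lit 0, nat_lit 6, nat_lit 1, nat_lit 6])
 (.leaf [nat_lit 1, nat_lit 2, nat_lit 3, nat_lit 5, nat_lit 1, nat_lit 6, nat_lit 1, nat_lit 3, nat_lit 2, nat_lit 5, nat_lit 1, nat_lit 6])))
noncomputable def RL_4 : Tr (List ℕ) := (.node (nat_lit 18) (.node (nat_lit 17) (.leaf [nat_lit 5, nat_lit 3, nat_lit 5, nat_lit 3, nat_lit 5, nat_lit 3])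
 (.leaf [nat_lit 4, nat_lit 3, nat_lit 4, nat_lit 3, nat_lit 4, nat_lit 3]))
 (.node (nat_lit 19) (.leaf [nat_lit 0, nat_lit 2, nat_lit 3, nat_lit 1, nat_lit 6, nat_lit 2, nat_lit 6, nat_lit 3, nat_lit 6, nat_lit 2, nat_lit 6])
 (.leaf [nat_lit 3, nat_lit 3])))
noncomputable def RL_5 : Tr (List ℕ) := (.node (nat_lit 22) (.node (nat_lit 21) (.leaf [nat_lit 4, nat_lit 1, nat_lit 3, nat_lit 4, nat_lit 1, nat_lit 3, nat_lit 4, nat_lit 1, nat_lit 3])
 (.leaf [nat_lit 4, nat_lit 4]))
 (.node (nat_lit 23) (.leaf [nat_lit 2, nat_lit 1, nat_lit 4, nat_lit 0, nat_lit 2, nat_lit 6, nat_lit 3, nat_lit 4, nat_lit 3, nat_lit 6])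
 (.leaf [nat_lit 5, nat_lit 4, nat_lit 5, nat_lit 4, nat_lit 5, nat_lit 4, nat_lit 5, nat_lit 4])))
noncomputable def RL_6 : Tr (List ℕ) := (.node (nat_lit 26) (.node (nat_lit 25) (.leaf [nat_lit 5, nat_lit 5])
 (.leaf [nat_lit 5, nat_lit 0, nat_lit 5, nat_lit 0, nat_lit 5, nat_lit 0, nat_lit 5, nat_lit 0]))
 (.node (nat_lit 27) (.leaf [nat_lit 1, nat_lit 2, nat_lit 3, nat_lit 1, nat_lit 5, nat_lit 0, nat_lit 5, nat_lit 6, nat_lit 5, nat_lit 6])
 (.leaf [nat_lit 6, nat_lit 6])))
noncomputable def RL_7 : Tr (List ℕ) := (.node (nat_lit 30) (.node (nat_lit 29) (.leaf [nat_lit 1, nat_lit 2, nat_lit 4, nat_lit 3, nat_lit 1, nat_lit 6, nat_lit 2, nat_lit 5, nat_lit 6, nat_lit 4, nat_lit 6])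
 (.leaf [nat_lit 1, nat_lit 3, nat_lit 0, nat_lit 2, nat_lit 5, nat_lit 1, nat_lit 5, nat_lit 2, nat_lit 5, nat_lit 0, nat_lit 5]))
 (.node (nat_lit 31) (.leaf [nat_lit 2, nat_lit 3, nat_lit 5, nat_lit 0, nat_lit 4, nat_lit 5, nat_lit 3, nat_lit 5, nat_lit 4, nat_lit 1, nat_lit 5])
 (.leaf [nat_lit 2, nat_lit 0, nat_lit 3, nat_lit 1, nat_lit 2, nat_lit 0, nat_lit 3, nat_lit 1])))
noncomputable def RL : Tr (List ℕ) := (.node (nat_lit 16) (.node (nat_lit 8) (.node (nat_lit 4) RL_0 RL_1) (.node (nat_lit 12) RL_2 RL_3)) (.node (nat_lit 24) (.node (nat_lit 20) RL_4 RL_5) (.node (nat_lit 28) RL_6 RL_7)))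
noncomputable def L0 : Lev := ⟨(nat_lit 1), (nat_lit 7), (nat_lit 0x407010306050303060401040704010205070505060000), (nat_lit 0x303030203020303030302020103040204030304030000),
 (.node (nat_lit 3) (.node (nat_lit 1) (.leaf (nat_lit 0x30006000000020005000a0004000d000b0003000000030001000700000002000c000200040005000e00000000))
 (.node (nat_lit 2) (.leaf (nat_lit 0x5000800040001000d000300040006000b0004000300030001000100070000000e000c00050006000f00000000))
 (.leaf (nat_lit 0x30004000b0000000200040000000000030003000100020001000300060001000a000200070008000d00000000))))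
 (.node (nat_lit 5) (.node (nat_lit 4) (.leaf (nat_lit 0x6000400010004000300050005000d0000000100000001000000050001000a000200090007000300000000))
 (.leaf (nat_lit 0xb000800010001000d00000001000f000e0009000200020001000a0006000a0000000900000000001200000000)))
 (.node (nat_lit 6) (.leaf (nat_lit 0x90008000f0001000000100007000a0000000c000100010002000a000d000b000e000e000f0011000000000000))
 (.leaf (nat_lit 0x1200000011000100110002000e000d0003000c000200080000000c000d0001000f000000070010001000010000))))),
 (.node (nat_lit 3) (.node (nat_lit 1) (.leaf (nat_lit 0x904000900000000000809000401000705000501000500000500000401000000000502000600000501000000000502000405000306000203000109000005000000000000))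
 (.node (nat_lit 2) (.leaf (nat_lit 0x601000601000601000601000601000601000601000601000601000601000601000601000601000601000601000000000601000601000601000601000601000000000000))
 (.leaf (nat_lit 0xb00000b00000b00000000000f08000200000000000000000a03000b00000b01000d02000b01000e00000200000b01000d02000c03000b01000200000a05000000000000))))
 (.node (nat_lit 5) (.node (nat_lit 4) (.leaf (nat_lit 0x1300000901001300000d01001101000d01001301001003000000001300000000001301000000001301001301001300001207001105001105001005000000000000))
 (.leaf (nat_lit 0x1500001403001500001500000202000000001500001500000204001501000702001607001501001500001400000204000000000204000000000000000706000000000000)))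
 (.node (nat_lit 6) (.leaf (nat_lit 0xa00001800001904001800000000001801000004001000000000000000001801001800001a08001801001900001801001900000000001801001700000000000000000000))
 (.leaf (nat_lit 0x1b00000000001b00001b00000e04001c08000704000c06001b01000704000e06001b00000000000e06000e06001b01000700000000000e08001b01000e08001b01000000)))))⟩
noncomputable def L1 : Lev := ⟨(nat_lit 2), (nat_lit 6), (nat_lit 0x105020102060205060301060402040203060505000000), (nat_lit 0x303020204030304030203010204030303040303000000),
 (.node (nat_lit 3) (.node (nat_lit 1) (.leaf (nat_lit 0xd000200000013000200020012000d0001000000010001000e000100020001000e0009000a000000000000))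
 (.node (nat_lit 2) (.leaf (nat_lit 0x3000f000000030000000f00000014000300010003000100010000000c00000013000e000a000b000000000000))
 (.leaf (nat_lit 0x3000f000100030002000200030014000400000004000100020010000b00150000000d000c000b000000000000))))
 (.node (nat_lit 4) (.leaf (nat_lit 0x6000f0001000500130006000e001400060004000300010000000200000005000d0002000c000a000000000000))
 (.node (nat_lit 5) (.leaf (nat_lit 0x17000000010001001500070010000000010001000800080006001100090016000f001000000000000000000000))
 (.leaf (nat_lit 0x150016000100010006000000170014000000020005000000020016000700130003000000010008000100000000))))),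
 (.node (nat_lit 3) (.node (nat_lit 1) (.leaf (nat_lit 0x600000501000000000501001903000501000203000001000600000000000600000600000501000600000502000600000502000203000109000000000000000000))
 (.node (nat_lit 2) (.leaf (nat_lit 0x601000601000000000601000000000601000000000601000601000601000601000601000601000000001404000000000601000601000601000601000000000000000000))
 (.leaf (nat_lit 0xb00000d00000b00000b00000404001d07000400000d00000a03000000000b01000b01000002000b01000200000b01000000000a01000b01000200000000000000000000))))
 (.node (nat_lit 4) (.leaf (nat_lit 0x1300001300001300001300000903000007000901001301001003000d01001300001300000000000905000000000905001300001e06000d03001105000000000000000000))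
 (.node (nat_lit 5) (.leaf (nat_lit 0x1500000000001500001500001102001500001500000000001501001501000204001104001e04001500001400000206001104000204000000000000000000000000000000))
 (.leaf (nat_lit 0x1004000a04001800001800001800000000001801001800000000000a02001d04000000001002001801001000001902000a00000000001801001700001801000000000000)))))⟩
noncomputable def L2 : Lev := ⟨(nat_lit 3), (nat_lit 5), (nat_lit 0x101050202050501050301010402040203050500000000), (nat_lit 0x403010203040303040304020303020402040300000000),
 (.node (nat_lit 2) (.node (nat_lit 1) (.leaf (nat_lit 0x100020002000a00090000000900080000000000010002000100020001000800030000000000000000))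
 (.leaf (nat_lit 0xa0003000100000000000700090003000b00010003000300010000000100000001000800040000000000000000)))
 (.node (nat_lit 3) (.leaf (nat_lit 0x30005000100060002001100090007000f00000008000100070004000200080000001000030000000000000000))
 (.node (nat_lit 4) (.leaf (nat_lit 0x70008000100040005000300070006000e00050003000100000002000000060004000f00030000000000000000))
 (.leaf (nat_lit 0xd000600000001000d0000000000010000000700100002000100010002000c0001000000000001000000000000))))),
 (.node (nat_lit 2) (.node (nat_lit 1) (.leaf (nat_lit 0x600000500000501000501000501000000000600000902000000000000000600000501000600000502000600000600000105000000000000000000000000))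
 (.leaf (nat_lit 0x601000601000601000000000000000205000601000601000601000601000601000601000601000000000601000000000601000205000601000000000000000000000000)))
 (.node (nat_lit 3) (.leaf (nat_lit 0xb00000b00000b00000d00000404000404000b00000d00000200000000000d02000b01000b01000402000200000b01000000000200000b01000000000000000000000000))
 (.node (nat_lit 4) (.leaf (nat_lit 0x1300001300001300000201000903001101001103001301001105001301001300001300000000000905000000000905001300000905000d03000000000000000000000000))
 (.leaf (nat_lit 0x1500001403000000001500000202000000000000001500000000001501001102000204001501001500001102000202001501000000000000001501000000000000000000)))))⟩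
noncomputable def L3 : Lev := ⟨(nat_lit 4), (nat_lit 4), (nat_lit 0x301040202000401000104010202030304000000000000), (nat_lit 0x302020302000302000403030402010301000000000000),
 (.node (nat_lit 2) (.node (nat_lit 1) (.leaf (nat_lit 0x40000000100020002000000030000000000000001000000050002000100060001000000000000000000000000))
 (.leaf (nat_lit 0x20003000100000000000000010003000000050007000300000000000100060001000000000000000000000000)))
 (.node (nat_lit 3) (.leaf (nat_lit 0x3000300070001000000050001000000050004000600080002000000000002000000010000000000000000))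
 (.leaf (nat_lit 0x40001000000020002000000000003000000030000000300020001000100030000000000010000000000000000)))),
 (.node (nat_lit 2) (.node (nat_lit 1) (.leaf (nat_lit 0x500000000000600000500000501000000000600000000000000000000000600000000000900000501000600000502000600000000000000000000000000000000000000))
 (.leaf (nat_lit 0x1f03000601000601000000000000000000000601000601000000000601000601000601000000000000000601000601000601000000000000000000000000000000000000)))
 (.node (nat_lit 3) (.leaf (nat_lit 0xb00000b00000d00000b01000000000b00000b00000000000402000d02000b01000b01000402000000000000000d02000000000b01000000000000000000000000))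
 (.leaf (nat_lit 0x1300001300000000000903000903000000000000001301000000001301000000001300000903001301001301000d03000000000000001301000000000000000000000000))))⟩
noncomputable def L4 : Lev := ⟨(nat_lit 5), (nat_lit 2), (nat_lit 0x20000010000000000000000000000000000), (nat_lit 0x10000010000000000000000000000000000),
 (.node (nat_lit 1) (.leaf (nat_lit 0x200000000000000000000000000000000000000000000000100000000000000000000))
 (.leaf (nat_lit 0x300000000000000000000000000000000000100000000000000000000))),
 (.node (nat_lit 1) (.leaf (nat_lit 0x501000000000000000000000000000000000000000000000000000000000000000000000600000000000000000000000000000000))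
 (.leaf (nat_lit 0x601000000000000000000000000000000000000000000000000000601000000000000000000000000000000)))⟩
noncomputable def L : List Lev := [L0, L1, L2, L3, L4]
noncomputable abbrev P := PG 24 (nat_lit 5) (nat_lit 31) G0 7
theorem gen : genChk 24 (nat_lit 5) (nat_lit 31) G0 7 = true := by decide +kernel
theorem slp : slpChk 24 (nat_lit 5) (nat_lit 31) T' D 7 0 = true := by decide +kernel
theorem lets : Lets P 24 (nat_lit 5) (nat_lit 31) (Fin.ofNat 24) T := lets_PG (T' := T') D 0 gen (by decide +kernel) slp
theorem lev0 : levChk 24 (nat_lit 5) (nat_lit 31) T RL L0 L1.N = true := by decide +kernel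
theorem lev1 : levChk 24 (nat_lit 5) (nat_lit 31) T RL L1 L2.N = true := by decide +kernel
theorem lev2 : levChk 24 (nat_lit 5) (nat_lit 31) T RL L2 L3.N = true := by decide +kernel
theorem lev3 : levChk 24 (nat_lit 5) (nat_lit 31) T RL L3 L4.N = true := by decide +kernel
theorem lev4 : levChk 24 (nat_lit 5) (nat_lit 31) T RL L4 0 = true := by decide +kernel
theorem chain : Chain 24 (nat_lit 5) (nat_lit 31) T RL L := chain_cons lev0 <| chain_cons lev1 <| chain_cons lev2 <| chain_cons lev3 <| chain_one lev4
theorem rels : RL.all (fixAll 24 (nat_lit 5) (nat_lit 31) T) = true := by decide +kernel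
theorem std : Std P 24 (nat_lit 5) (nat_lit 31) (Fin.ofNat 24) T RL L := std_PG gen lets chain rels (by decide +kernel)
theorem card : Nat.card P = 443520 := std.card.trans (by decide +kernel)
def B : List ℕ := [nat_lit 1, nat_lit 2, nat_lit 3, nat_lit 4, nat_lit 5]
theorem base : IsB P 24 (Fin.ofNat 24) B := std.base

end H8.M22
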