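import Cfsg.Agent.H8.Out
import Cfsg.Agent.H8.Cover

/-! H8.GM23: permutation model of order 10200960 on 24 points: `P`, `lets`, `std`, `card`, `base` (generated certificate) -/

set_option autoImplicit false
set_option maxRecDepth 200000

namespace H8.M23

noncomputable def t0 : ℕ := (nat_lit 0xbc12ba18ad946c79b11553dc418820)
noncomputable def t1 : ℕ := (nat_lit 0xbb5135bdd63160aa1ea964a2418820)
noncomputable def t2 : ℕ := (nat_lit 0xbd6cb22627638cfa224a834b318820)
noncomputable def t3 : ℕ := (nat_lit 0xb926faa22da3a0b6255231cb618820)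
noncomputable def t4 : ℕ := (nat_lit 0xb9da32494673eac5c4a8b4133a0820)
noncomputable def t5 : ℕ := (nat_lit 0xbd8948ca636a9e2438eb498b583020)
noncomputable def t6 : ℕ := (nat_lit 0xbdaa77b9909c8514292ba18612b480)
noncomputable def t7 : ℕ := (nat_lit 0xbc8145da217a5a29a9c8390662b215)
noncomputable def G0 : Tr ℕ := (.node (nat_lit 4) (.node (nat_lit 2) (.node (nat_lit 1) (.leaf t0)
 (.leaf t1))
 (.node (nat_lit 3) (.leaf t2)
 (.leaf t3)))
 (.node (nat_lit 6) (.node (nat_lit 5) (.leaf t4)
 (.leaf t5))
 (.node (nat_lit 7) (.leaf t6)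
 (.leaf t7))))
noncomputable def T' : Tr ℕ := (.node (nat_lit 4) (.node (nat_lit 2) (.node (nat_lit 1) (.leaf t0)
 (.leaf t1))
 (.node (nat_lit 3) (.leaf t2)
 (.leaf t3)))
 (.node (nat_lit 6) (.node (nat_lit 5) (.leaf t4)
 (.leaf t5))
 (.node (nat_lit 7) (.leaf t6)
 (.leaf t7))))
noncomputable def D : Tr (List ℕ) := (.node (nat_lit 4) (.node (nat_lit 2) (.node (nat_lit 1) (.leaf [])
 (.leaf []))
 (.node (nat_lit 3) (.leaf [])
 (.leaf [])))
 (.node (nat_lit 6) (.node (nat_lit 5) (.leaf [])
 (.leaf []))
 (.node (nat_lit 7) (.leaf [])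
 (.leaf []))))
noncomputable def T : Tr ℕ := (.node (nat_lit 4) (.node (nat_lit 2) (.node (nat_lit 1) (.leaf t0)
 (.leaf t1))
 (.node (nat_lit 3) (.leaf t2)
 (.leaf t3)))
 (.node (nat_lit 6) (.node (nat_lit 5) (.leaf t4)
 (.leaf t5))
 (.node (nat_lit 7) (.leaf t6)
 (.leaf t7))))
noncomputable def RL_0 : Tr (List ℕ) := (.node (nat_lit 2) (.node (nat_lit 1) (.leaf [nat_lit 0, nat_lit 1])
 (.leaf [nat_lit 6, nat_lit 0, nat_lit 4, nat_lit 2, nat_lit 6, nat_lit 0, nat_lit 4, nat_lit 2]))
 (.node (nat_lit 3) (.leaf [nat_lit 2, nat_lit 4, nat_lit 1, nat_lit 3, nat_lit 0, nat_lit 7, nat_lit 5, nat_lit 0, nat_lit 5, nat_lit 7])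
 (.node (nat_lit 4) (.leaf [nat_lit 0, nat_lit 0, nat_lit 0])
 (.leaf [nat_lit 2, nat_lit 3, nat_lit 4, nat_lit 0, nat_lit 5, nat_lit 1, nat_lit 6, nat_lit 7, nat_lit 5, nat_lit 2, nat_lit 3, nat_lit 7]))))
noncomputable def RL_1 : Tr (List ℕ) := (.node (nat_lit 7) (.node (nat_lit 6) (.leaf [nat_lit 0, nat_lit 4, nat_lit 3, nat_lit 4, nat_lit 1, nat_lit 5, nat_lit 3, nat_lit 4, nat_lit 3, nat_lit 5])
 (.leaf [nat_lit 0, nat_lit 3, nat_lit 0, nat_lit 3, nat_lit 0, nat_lit 3]))
 (.node (nat_lit 8) (.leaf [nat_lit 2, nat_lit 0, nat_lit 2, nat_lit 0, nat_lit 2, nat_lit 0])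
 (.node (nat_lit 9) (.leaf [nat_lit 1, nat_lit 4, nat_lit 3, nat_lit 0, nat_lit 5, nat_lit 1, nat_lit 2, nat_lit 6, nat_lit 1, nat_lit 6])
 (.leaf [nat_lit 4, nat_lit 1, nat_lit 2, nat_lit 4, nat_lit 1, nat_lit 2]))))
noncomputable def RL_2 : Tr (List ℕ) := (.node (nat_lit 12) (.node (nat_lit 11) (.leaf [nat_lit 2, nat_lit 3, nat_lit 1, nat_lit 5, nat_lit 0, nat_lit 3, nat_lit 6, nat_lit 3, nat_lit 7, nat_lit 1, nat_lit 4, nat_lit 1, nat_lit 7, nat_lit 0, nat_lit 7])
 (.leaf [nat_lit 5, nat_lit 2, nat_lit 5, nat_lit 2, nat_lit 5, nat_lit 2, nat_lit 5, nat_lit 2, nat_lit 5, nat_lit 2]))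
 (.node (nat_lit 13) (.leaf [nat_lit 2, nat_lit 2])
 (.node (nat_lit 14) (.leaf [nat_lit 4, nat_lit 2, nat_lit 4, nat_lit 2, nat_lit 4, nat_lit 2])
 (.leaf [nat_lit 2, nat_lit 3, nat_lit 2, nat_lit 3]))))
noncomputable def RL_3 : Tr (List ℕ) := (.node (nat_lit 16) (.leaf [nat_lit 2, nat_lit 0, nat_lit 3, nat_lit 1, nat_lit 2, nat_lit 0, nat_lit 3, nat_lit 1])
 (.node (nat_lit 17) (.leaf [nat_lit 2, nat_lit 4, nat_lit 3, nat_lit 1, nat_lit 5, nat_lit 0, nat_lit 3, nat_lit 4, nat_lit 7, nat_lit 5, nat_lit 6, nat_lit 3, nat_lit 6, nat_lit 5, nat_lit 7])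
 (.leaf [nat_lit 5, nat_lit 2, nat_lit 3, nat_lit 5, nat_lit 2, nat_lit 3, nat_lit 5, nat_lit 2, nat_lit 3])))
noncomputable def RL_4 : Tr (List ℕ) := (.node (nat_lit 19) (.leaf [nat_lit 4, nat_lit 3, nat_lit 4, nat_lit 3, nat_lit 4, nat_lit 3, nat_lit 4, nat_lit 3])
 (.node (nat_lit 20) (.leaf [nat_lit 3, nat_lit 3])
 (.leaf [nat_lit 2, nat_lit 1, nat_lit 4, nat_lit 0, nat_lit 2, nat_lit 5, nat_lit 0, nat_lit 3, nat_lit 6, nat_lit 5, nat_lit 4, nat_lit 1, nat_lit 3, nat_lit 6])))
noncomputable def RL_5 : Tr (List ℕ) := (.node (nat_lit 23) (.node (nat_lit 22) (.leaf [nat_lit 0, nat_lit 4, nat_lit 0, nat_lit 5, nat_lit 3, nat_lit 1, nat_lit 6, nat_lit 2, nat_lit 1, nat_lit 3, nat_lit 6, nat_lit 2, nat_lit 6])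
 (.leaf [nat_lit 4, nat_lit 4]))
 (.node (nat_lit 24) (.leaf [nat_lit 1, nat_lit 3, nat_lit 0, nat_lit 4, nat_lit 0, nat_lit 3, nat_lit 0, nat_lit 5, nat_lit 6, nat_lit 2, nat_lit 6, nat_lit 7, nat_lit 3, nat_lit 4, nat_lit 5, nat_lit 7])
 (.node (nat_lit 25) (.leaf [nat_lit 6, nat_lit 5, nat_lit 6, nat_lit 5, nat_lit 6, nat_lit 5])
 (.leaf [nat_lit 4, nat_lit 1, nat_lit 5, nat_lit 0, nat_lit 4, nat_lit 7, nat_lit 6, nat_lit 7]))))
noncomputable def RL_6 : Tr (List ℕ) := (.node (nat_lit 28) (.node (nat_lit 27) (.leaf [nat_lit 5, nat_lit 5])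
 (.leaf [nat_lit 0, nat_lit 2, nat_lit 6, nat_lit 2, nat_lit 1, nat_lit 7, nat_lit 0, nat_lit 3, nat_lit 5, nat_lit 3, nat_lit 1, nat_lit 7]))
 (.node (nat_lit 29) (.leaf [nat_lit 3, nat_lit 1, nat_lit 5, nat_lit 0, nat_lit 3, nat_lit 7, nat_lit 3, nat_lit 1, nat_lit 5, nat_lit 0, nat_lit 3, nat_lit 7])
 (.node (nat_lit 30) (.leaf [nat_lit 6, nat_lit 6])
 (.leaf [nat_lit 6, nat_lit 0, nat_lit 5, nat_lit 1, nat_lit 6, nat_lit 0, nat_lit 5, nat_lit 1, nat_lit 6, nat_lit 0, nat_lit 5, nat_lit 1]))))
noncomputable def RL_7 : Tr (List ℕ) := (.node (nat_lit 33) (.node (nat_lit 32) (.leaf [nat_lit 7, nat_lit 2, nat_lit 6, nat_lit 2, nat_lit 7, nat_lit 2, nat_lit 6, nat_lit 2])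
 (.leaf [nat_lit 7, nat_lit 7]))
 (.node (nat_lit 34) (.leaf [nat_lit 2, nat_lit 4, nat_lit 3, nat_lit 0, nat_lit 4, nat_lit 5, nat_lit 1, nat_lit 7, nat_lit 1, nat_lit 5, nat_lit 7, nat_lit 5, nat_lit 0, nat_lit 7])
 (.node (nat_lit 35) (.leaf [nat_lit 1, nat_lit 3, nat_lit 4, nat_lit 3, nat_lit 4, nat_lit 0, nat_lit 5, nat_lit 2, nat_lit 5, nat_lit 6, nat_lit 7, nat_lit 0, nat_lit 7, nat_lit 1, nat_lit 7])
 (.leaf [nat_lit 2, nat_lit 0, nat_lit 4, nat_lit 0, nat_lit 3, nat_lit 4, nat_lit 7, nat_lit 3, nat_lit 5, nat_lit 7, nat_lit 5, nat_lit 3, nat_lit 7]))))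
noncomputable def RL_8 : Tr (List ℕ) := (.node (nat_lit 37) (.leaf [nat_lit 4, nat_lit 2, nat_lit 3, nat_lit 4, nat_lit 2, nat_lit 3, nat_lit 4, nat_lit 2, nat_lit 3])
 (.node (nat_lit 38) (.leaf [nat_lit 1, nat_lit 2, nat_lit 4, nat_lit 3, nat_lit 5, nat_lit 3, nat_lit 1, nat_lit 6, nat_lit 5, nat_lit 0, nat_lit 4, nat_lit 1, nat_lit 5, nat_lit 6])
 (.leaf [nat_lit 6, nat_lit 4, nat_lit 5, nat_lit 4, nat_lit 6, nat_lit 4, nat_lit 5, nat_lit 4, nat_lit 6, nat_lit 4, nat_lit 5, nat_lit 4])))
noncomputable def RL_9 : Tr (List ℕ) := (.node (nat_lit 40) (.leaf [nat_lit 1, nat_lit 2, nat_lit 1, nat_lit 4, nat_lit 5, nat_lit 1, nat_lit 4, nat_lit 6, nat_lit 3, nat_lit 4, nat_lit 6, nat_lit 0, nat_lit 2, nat_lit 6])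
 (.node (nat_lit 41) (.leaf [nat_lit 1, nat_lit 2, nat_lit 4, nat_lit 3, nat_lit 0, nat_lit 5, nat_lit 2, nat_lit 0, nat_lit 3, nat_lit 0, nat_lit 5])
 (.leaf [nat_lit 4, nat_lit 0, nat_lit 2, nat_lit 3, nat_lit 4, nat_lit 0, nat_lit 2, nat_lit 3, nat_lit 4, nat_lit 0, nat_lit 2, nat_lit 3])))
noncomputable def RL : Tr (List ℕ) := (.node (nat_lit 21) (.node (nat_lit 10) (.node (nat_lit 5) RL_0 RL_1) (.node (nat_lit 15) RL_2 (.node (nat_lit 18) RL_3 RL_4))) (.node (nat_lit 31) (.node (nat_lit 26) RL_5 RL_6) (.node (nat_lit 36) RL_7 (.node (nat_lit 39) RL_8 RL_9))))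
noncomputable def L0 : Lev := ⟨(nat_lit 0), (nat_lit 8), (nat_lit 0x308020404060207080502060302010603050607070700), (nat_lit 0x201030203030303030204030302020303030204030300),
 (.node (nat_lit 4) (.node (nat_lit 2) (.node (nat_lit 1) (.leaf (nat_lit 0x100010005000100100016000e00080017000f001c0004000100020000001d001100030002001b002f00070000))
 (.leaf (nat_lit 0x1000010000000500090018000000120002000d00000006001e00000003001d001100150003001a003000060000)))
 (.node (nat_lit 3) (.leaf (nat_lit 0x100050002000900120020000e00180001000d00060000000a0001001f0000001300030029002c00090000))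
 (.leaf (nat_lit 0x4000100070000000000130010000600180011000b000c000b000a0001001f001e001500030029002d00020000))))
 (.node (nat_lit 6) (.node (nat_lit 5) (.leaf (nat_lit 0x200001002700030012001400220019001a0000001b0007001300010015001f0021000000020028002e00080000))
 (.leaf (nat_lit 0x110001000200010002000000290021002b0020002b0000002a0001000100000020002900000028002a00030000)))
 (.node (nat_lit 7) (.leaf (nat_lit 0x2000200230001002a0028000c0000002b00010029002700020008002600240013000100010000000000000000))
 (.leaf (nat_lit 0x2d000000080024002c0002000b00260000002e002d002500280001000200020023002d0024002c002e000a0001))))),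
 (.node (nat_lit 4) (.node (nat_lit 2) (.node (nat_lit 1) (.leaf (nat_lit 0x300000000000701000000000000000600000301000302000500000403000000000300000000000302000302000000000207000000000105000000000000))
 (.leaf (nat_lit 0x1000001000000000001000001000001000000000001000a0b000800000000000001000001000000000001000001000001000904000001000808000001000808000000)))
 (.node (nat_lit 3) (.leaf (nat_lit 0xc01000702000409000f00000b07000c00000c00000704000c00000e02000c01000000000c01000c01000e02000000000d05000c01000905000b09000107000000))
 (.leaf (nat_lit 0x130000130000130000000000000000110800060300140c000603001301000603001301001300000e01001301001300000605001207000e0300120700110800100b000000))))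
 (.node (nat_lit 6) (.node (nat_lit 5) (.leaf (nat_lit 0x1600001600000102001600000903001600001600000903001601000000000d00000903000201001600000d0000090300090300000000170d001601000507001501000000))
 (.leaf (nat_lit 0x1902001a00001c08001a00001b08000000001a00001a00001a00001106001a00000000000505001a00001a01000000000509001902000000001902001805001805000000)))
 (.node (nat_lit 7) (.leaf (nat_lit 0x1f02001906000100001d00000807000807001906000000001d01001d00001d01001d00001b02001e04001906001d01000100001d00001d00000000000000000000000000))
 (.leaf (nat_lit 0x2000000000000209001f04001905002309002000001905000000001905001f00002001001f0000200100220c00210a001907002000002001000209002001001b0b002001)))))⟩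
noncomputable def L1 : Lev := ⟨(nat_lit 1), (nat_lit 7), (nat_lit 0x406020302060207010104010502010501020705070000), (nat_lit 0x202030204030303040304030403030304040104040000),
 (.node (nat_lit 3) (.node (nat_lit 1) (.leaf (nat_lit 0x1000100020001000200010002000100000000000b0000001d00020000001c0000000200030009002600000000))
 (.node (nat_lit 2) (.leaf (nat_lit 0x1000100000001000000010000000100030003001e0003001d00000003000a0003000000020008002700000000))
 (.leaf (nat_lit 0x1100100004000000130019000900060015000e0005000500190012001a0008000f001800010007002300000000))))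
 (.node (nat_lit 5) (.node (nat_lit 4) (.leaf (nat_lit 0x12000300130013001c000400020015000500000001001b001a0014000c000d001b0001000c002400000000))
 (.leaf (nat_lit 0x1000300010004001400010007001400130002000b000600000017000200000008001600050000002500000000)))
 (.node (nat_lit 6) (.leaf (nat_lit 0x60000001f000100220000000a00200021001f002200200020001e0021001d000f00210001000b002100000000))
 (.leaf (nat_lit 0x230002000200010022001d0022000000230001001e000a00060004000900030015001b0000001c000000010000))))),
 (.node (nat_lit 3) (.node (nat_lit 1) (.leaf (nat_lit 0x300000000000300000000000300000000000000000000000000000000000301000300000000000604000000000302000000000000000105000000000000))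
 (.node (nat_lit 2) (.leaf (nat_lit 0x1000001000000000001000000000001000000000001000001000001000001000001000001000000000001000f03000001000000000808000904000001000000000000))
 (.leaf (nat_lit 0xc00000d03000702000000000c00000702000c00000c00000d03000e00000e02000c01000902000702000c01000107000c01000d05000c01000d05000b09000000000000))))
 (.node (nat_lit 5) (.node (nat_lit 4) (.leaf (nat_lit 0xe01001300001301000605000601000603001509001203001301000000001301001300000e01001301000605001301002408001301002408001108000000000000))
 (.leaf (nat_lit 0x160000160000160000010200090300160000150100160000050300140a00090000090300000000160000250a000000001601000900001601000000000507000000000000)))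
 (.node (nat_lit 6) (.leaf (nat_lit 0x2504000000001801001a00001106000000001405001a00001a00000505001a00001103000509001a00001a01000509001103000509001a01001a01001805000000000000))
 (.leaf (nat_lit 0x80700180200270a001d00000807000807001804000000001d01001d00001d01001d00002604001e04000809001d01000100000100000000001d01000000001d01000000)))))⟩
noncomputable def L2 : Lev := ⟨(nat_lit 2), (nat_lit 6), (nat_lit 0x502040202050303060606040104030204050406000000), (nat_lit 0x304030303030302030301020203030203040404000000),
 (.node (nat_lit 3) (.node (nat_lit 1) (.leaf (nat_lit 0xd0006000300040003000b001100010016001000010001000000050001000200020017000e001e000000000000))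
 (.node (nat_lit 2) (.leaf (nat_lit 0x1100000005000000000017000e0003001800120001000400030007000400000004000a000f001d000000000000))
 (.leaf (nat_lit 0xb000c0002000c0007000b000000000018001200010003000100080000000100130009000d0019000000000000))))
 (.node (nat_lit 4) (.leaf (nat_lit 0x1000800000007000700020011000100180012000100000001000000060001000000030000001a000000000000))
 (.node (nat_lit 5) (.leaf (nat_lit 0x13001b000e0008000000030019001a00140004000200010001000a000100020000000f001c000000000000))
 (.leaf (nat_lit 0x15000c0004001800180017000100010000000000000016000100150017001600050019000b0000000100000000))))),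
 (.node (nat_lit 3) (.node (nat_lit 1) (.leaf (nat_lit 0x701000301000602000301000300000000000300000000002804002804000000000000000000000000000000000302002807000302000705000000000000000000000000))
 (.node (nat_lit 2) (.leaf (nat_lit 0x1000000000001000000000000000001000001000001000001000001000001000001000001000001000f07000000000001000904000001000904000000000000000000))
 (.leaf (nat_lit 0x902000c01000e00000e00000e02000d03000000000000000704000e00000c01000c01000c00000c01000000000c01000c01000d05000c01000b09000000000000000000))))
 (.node (nat_lit 4) (.leaf (nat_lit 0x1300001300000000000601001300000502000603001301000603001301001300000000001300000000000601001300000000001207000000001108000000000000000000))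
 (.node (nat_lit 5) (.leaf (nat_lit 0x900000507000900002908000000001600000903001601001601000900000507001601001600002403001601002802000000001601001601000000000000000000))
 (.leaf (nat_lit 0x505001a00001103001a00002805000505001a00001a00000000000000000000001103001a01000509001a01001a0100280a000509000505000000001a01000000000000)))))⟩
noncomputable def L3 : Lev := ⟨(nat_lit 3), (nat_lit 5), (nat_lit 0x404050102020504050504020102010201010300000000), (nat_lit 0x403010203040402030403020404040403040300000000),
 (.node (nat_lit 2) (.node (nat_lit 1) (.leaf (nat_lit 0x700010001000000020002000c00010001000b0001000200000002000000020000000000030000000000000000))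
 (.leaf (nat_lit 0xc00010001000300000000000800010001000d0001000000030000000300000003000300040000000000000000)))
 (.node (nat_lit 3) (.leaf (nat_lit 0x20003000200010006000c00060004000600090003000300040007000500070008000b00000000000000000000))
 (.node (nat_lit 4) (.leaf (nat_lit 0x100010006000d000a00000002000b0000000100040003000500020003000c00010000000000000000))
 (.leaf (nat_lit 0x6000100000005000a000c000000010000000000050004000d0009000600050001000800060001000000000000))))),
 (.node (nat_lit 2) (.node (nat_lit 1) (.leaf (nat_lit 0x701000000000000000000000300000300000300000000000000000602000000000302000000000300000000000302000000000000000705000000000000000000000000))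
 (.leaf (nat_lit 0x1000001000001000001000000000000000001000001000001000001000001000000000001000000000001000000000001000001000001000000000000000000000000)))
 (.node (nat_lit 3) (.leaf (nat_lit 0xe02000c01000902000c00000e02000702000902000c00000d03000c00000e02000c01000f00000c01000c01000c01000d05000d05000000000000000000000000000000))
 (.node (nat_lit 4) (.leaf (nat_lit 0x1300001301001300000601000e01000000001203001301000000001301001300000605000601000605001301002408001301000000000000000000000000))
 (.leaf (nat_lit 0x1600001600000000000900000903000903000000001600000000000000002403000d02001601001600000900002904001601000900001601001601000000000000000000)))))⟩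
noncomputable def L4 : Lev := ⟨(nat_lit 4), (nat_lit 4), (nat_lit 0x404020302000204000104010102010303000000000000), (nat_lit 0x102020104000203000203020403030303000000000000),
 (.node (nat_lit 2) (.node (nat_lit 1) (.leaf (nat_lit 0x10001000200010005000000020001000000000003000000000002000000040006000000000000000000000000))
 (.leaf (nat_lit 0x10001000000010000000000000007000000030001000300050000000300020006000000000000000000000000)))
 (.node (nat_lit 3) (.leaf (nat_lit 0x20003000200000006000000010004000000010003000300050007000600000000000000010000000000000000))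
 (.leaf (nat_lit 0x100010002000000020000000000030000000100030002000300040003000000010000000000000000)))),
 (.node (nat_lit 2) (.node (nat_lit 1) (.leaf (nat_lit 0x300000000000600000000000300000000000000000000000000000000000000000300000000000302000302000000000000000000000000000000000000))
 (.leaf (nat_lit 0x1000001000000000001000000000000000000000001000000000001000001000001000001000000000001000f03000001000000000000000000000000000000000000)))
 (.node (nat_lit 3) (.leaf (nat_lit 0xe02000c01000702000000000e02000000000c00000c00000000000c00000e02000c01000704000c01000c01000000000000000000000c01000000000000000000000000))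
 (.leaf (nat_lit 0x1300001301000605000000000603000000000000001301000000001301001300000605001301001300000e03000000001301000000000000000000000000))))⟩
noncomputable def L5 : Lev := ⟨(nat_lit 5), (nat_lit 2), (nat_lit 0x10000020000000000000000000000000000), (nat_lit 0x10000010000000000000000000000000000),
 (.node (nat_lit 1) (.leaf (nat_lit 0x200000000000000000000000000000000000100000000000000000000))
 (.leaf (nat_lit 0x300000000000000000000000000000000000000000000000100000000000000000000))),
 (.node (nat_lit 1) (.leaf (nat_lit 0x301000000000000000000000000000000000000000000000000000000000000000000000000000000000000))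
 (.leaf (nat_lit 0x1000000000000000000000000000000000000000000000000000000000000000000000001000000000000000000000000000000)))⟩
noncomputable def L : List Lev := [L0, L1, L2, L3, L4, L5]
noncomputable abbrev P := PG 24 (nat_lit 5) (nat_lit 31) G0 8
theorem gen : genChk 24 (nat_lit 5) (nat_lit 31) G0 8 = true := by decide +kernel
theorem slp : slpChk 24 (nat_lit 5) (nat_lit 31) T' D 8 0 = true := by decide +kernel
theorem lets : Lets P 24 (nat_lit 5) (nat_lit 31) (Fin.ofNat 24) T := lets_PG (T' := T') D 0 gen (by decide +kernel) slp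
theorem lev0 : levChk 24 (nat_lit 5) (nat_lit 31) T RL L0 L1.N = true := by decide +kernel
theorem lev1 : levChk 24 (nat_lit 5) (nat_lit 31) T RL L1 L2.N = true := by decide +kernel
theorem lev2 : levChk 24 (nat_lit 5) (nat_lit 31) T RL L2 L3.N = true := by decide +kernel
theorem lev3 : levChk 24 (nat_lit 5) (nat_lit 31) T RL L3 L4.N = true := by decide +kernel
theorem lev4 : levChk 24 (nat_lit 5) (nat_lit 31) T RL L4 L5.N = true := by decide +kernel
theorem lev5 : levChk 24 (nat_lit 5) (nat_lit 31) T RL L5 0 = true := by decide +kernel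
theorem chain : Chain 24 (nat_lit 5) (nat_lit 31) T RL L := chain_cons lev0 <| chain_cons lev1 <| chain_cons lev2 <| chain_cons lev3 <| chain_cons lev4 <| chain_one lev5
theorem rels : RL.all (fixAll 24 (nat_lit 5) (nat_lit 31) T) = true := by decide +kernel
theorem std : Std P 24 (nat_lit 5) (nat_lit 31) (Fin.ofNat 24) T RL L := std_PG gen lets chain rels (by decide +kernel)
theorem card : Nat.card P = 10200960 := std.card.trans (by decide +kernel)
def B : List ℕ := [nat_lit 0, nat_lit 1, nat_lit 2, nat_lit 3, nat_lit 4, nat_lit 5]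
theorem base : IsB P 24 (Fin.ofNat 24) B := std.base

end H8.M23
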