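import Cfsg.Agent.H8.GU62
import Cfsg.Agent.H8.Glue
import Cfsg.Agent.S0280

/-! H8.XU62: `iso`: PSU(6,2) is isomorphic to `P` (generated certificate) -/

set_option autoImplicit false
set_option maxRecDepth 200000

open Matrix

namespace H8.U62

noncomputable def V_0 : Tr ℕ := (.node (nat_lit 86) (.node (nat_lit 43) (.node (nat_lit 21) (.node (nat_lit 10) (.node (nat_lit 5) (.node (nat_lit 2) (.node (nat_lit 1) (.leaf (nat_lit 5)) (.leaf (nat_lit 9))) (.node (nat_lit 3) (.leaf (nat_lit 13)) (.node (nat_lit 4) (.leaf (nat_lit 17)) (.leaf (nat_lit 20)))))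
 (.node (nat_lit 7) (.node (nat_lit 6) (.leaf (nat_lit 33)) (.leaf (nat_lit 36))) (.node (nat_lit 8) (.leaf (nat_lit 49)) (.node (nat_lit 9) (.leaf (nat_lit 52)) (.leaf (nat_lit 65))))))
 (.node (nat_lit 15) (.node (nat_lit 12) (.node (nat_lit 11) (.leaf (nat_lit 68)) (.leaf (nat_lit 80))) (.node (nat_lit 13) (.leaf (nat_lit 85)) (.node (nat_lit 14) (.leaf (nat_lit 89)) (.leaf (nat_lit 93)))))
 (.node (nat_lit 18) (.node (nat_lit 16) (.leaf (nat_lit 101)) (.node (nat_lit 17) (.leaf (nat_lit 105)) (.leaf (nat_lit 109)))) (.node (nat_lit 19) (.leaf (nat_lit 117)) (.node (nat_lit 20) (.leaf (nat_lit 121)) (.leaf (nat_lit 125)))))))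
 (.node (nat_lit 32) (.node (nat_lit 26) (.node (nat_lit 23) (.node (nat_lit 22) (.leaf (nat_lit 129)) (.leaf (nat_lit 132))) (.node (nat_lit 24) (.leaf (nat_lit 144)) (.node (nat_lit 25) (.leaf (nat_lit 149)) (.leaf (nat_lit 153)))))
 (.node (nat_lit 29) (.node (nat_lit 27) (.leaf (nat_lit 157)) (.node (nat_lit 28) (.leaf (nat_lit 165)) (.leaf (nat_lit 169)))) (.node (nat_lit 30) (.leaf (nat_lit 173)) (.node (nat_lit 31) (.leaf (nat_lit 181)) (.leaf (nat_lit 185))))))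
 (.node (nat_lit 37) (.node (nat_lit 34) (.node (nat_lit 33) (.leaf (nat_lit 189)) (.leaf (nat_lit 193))) (.node (nat_lit 35) (.leaf (nat_lit 196)) (.node (nat_lit 36) (.leaf (nat_lit 208)) (.leaf (nat_lit 213)))))
 (.node (nat_lit 40) (.node (nat_lit 38) (.leaf (nat_lit 217)) (.node (nat_lit 39) (.leaf (nat_lit 221)) (.leaf (nat_lit 229)))) (.node (nat_lit 41) (.leaf (nat_lit 233)) (.node (nat_lit 42) (.leaf (nat_lit 237)) (.leaf (nat_lit 245))))))))
 (.node (nat_lit 64) (.node (nat_lit 53) (.node (nat_lit 48) (.node (nat_lit 45) (.node (nat_lit 44) (.leaf (nat_lit 249)) (.leaf (nat_lit 253))) (.node (nat_lit 46) (.leaf (nat_lit 257)) (.node (nat_lit 47) (.leaf (nat_lit 260)) (.leaf (nat_lit 272)))))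
 (.node (nat_lit 50) (.node (nat_lit 49) (.leaf (nat_lit 277)) (.leaf (nat_lit 281))) (.node (nat_lit 51) (.leaf (nat_lit 285)) (.node (nat_lit 52) (.leaf (nat_lit 293)) (.leaf (nat_lit 297))))))
 (.node (nat_lit 58) (.node (nat_lit 55) (.node (nat_lit 54) (.leaf (nat_lit 301)) (.leaf (nat_lit 309))) (.node (nat_lit 56) (.leaf (nat_lit 313)) (.node (nat_lit 57) (.leaf (nat_lit 317)) (.leaf (nat_lit 320)))))
 (.node (nat_lit 61) (.node (nat_lit 59) (.leaf (nat_lit 325)) (.node (nat_lit 60) (.leaf (nat_lit 329)) (.leaf (nat_lit 333)))) (.node (nat_lit 62) (.leaf (nat_lit 337)) (.node (nat_lit 63) (.leaf (nat_lit 340)) (.leaf (nat_lit 353)))))))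
 (.node (nat_lit 75) (.node (nat_lit 69) (.node (nat_lit 66) (.node (nat_lit 65) (.leaf (nat_lit 356)) (.leaf (nat_lit 369))) (.node (nat_lit 67) (.leaf (nat_lit 372)) (.node (nat_lit 68) (.leaf (nat_lit 389)) (.leaf (nat_lit 393)))))
 (.node (nat_lit 72) (.node (nat_lit 70) (.leaf (nat_lit 397)) (.node (nat_lit 71) (.leaf (nat_lit 401)) (.leaf (nat_lit 404)))) (.node (nat_lit 73) (.leaf (nat_lit 417)) (.node (nat_lit 74) (.leaf (nat_lit 420)) (.leaf (nat_lit 433))))))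
 (.node (nat_lit 80) (.node (nat_lit 77) (.node (nat_lit 76) (.leaf (nat_lit 436)) (.leaf (nat_lit 453))) (.node (nat_lit 78) (.leaf (nat_lit 457)) (.node (nat_lit 79) (.leaf (nat_lit 461)) (.leaf (nat_lit 465)))))
 (.node (nat_lit 83) (.node (nat_lit 81) (.leaf (nat_lit 468)) (.node (nat_lit 82) (.leaf (nat_lit 481)) (.leaf (nat_lit 484)))) (.node (nat_lit 84) (.leaf (nat_lit 497)) (.node (nat_lit 85) (.leaf (nat_lit 500)) (.leaf (nat_lit 513)))))))))
 (.node (nat_lit 129) (.node (nat_lit 107) (.node (nat_lit 96) (.node (nat_lit 91) (.node (nat_lit 88) (.node (nat_lit 87) (.leaf (nat_lit 516)) (.leaf (nat_lit 528))) (.node (nat_lit 89) (.leaf (nat_lit 533)) (.node (nat_lit 90) (.leaf (nat_lit 537)) (.leaf (nat_lit 541)))))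
 (.node (nat_lit 93) (.node (nat_lit 92) (.leaf (nat_lit 549)) (.leaf (nat_lit 553))) (.node (nat_lit 94) (.leaf (nat_lit 557)) (.node (nat_lit 95) (.leaf (nat_lit 565)) (.leaf (nat_lit 569))))))
 (.node (nat_lit 101) (.node (nat_lit 98) (.node (nat_lit 97) (.leaf (nat_lit 573)) (.leaf (nat_lit 576))) (.node (nat_lit 99) (.leaf (nat_lit 581)) (.node (nat_lit 100) (.leaf (nat_lit 585)) (.leaf (nat_lit 589)))))
 (.node (nat_lit 104) (.node (nat_lit 102) (.leaf (nat_lit 593)) (.node (nat_lit 103) (.leaf (nat_lit 596)) (.leaf (nat_lit 609)))) (.node (nat_lit 105) (.leaf (nat_lit 612)) (.node (nat_lit 106) (.leaf (nat_lit 625)) (.leaf (nat_lit 628)))))))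
 (.node (nat_lit 118) (.node (nat_lit 112) (.node (nat_lit 109) (.node (nat_lit 108) (.leaf (nat_lit 645)) (.leaf (nat_lit 649))) (.node (nat_lit 110) (.leaf (nat_lit 653)) (.node (nat_lit 111) (.leaf (nat_lit 657)) (.leaf (nat_lit 660)))))
 (.node (nat_lit 115) (.node (nat_lit 113) (.leaf (nat_lit 673)) (.node (nat_lit 114) (.leaf (nat_lit 676)) (.leaf (nat_lit 689)))) (.node (nat_lit 116) (.leaf (nat_lit 692)) (.node (nat_lit 117) (.leaf (nat_lit 709)) (.leaf (nat_lit 713))))))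
 (.node (nat_lit 123) (.node (nat_lit 120) (.node (nat_lit 119) (.leaf (nat_lit 717)) (.leaf (nat_lit 721))) (.node (nat_lit 121) (.leaf (nat_lit 724)) (.node (nat_lit 122) (.leaf (nat_lit 737)) (.leaf (nat_lit 740)))))
 (.node (nat_lit 126) (.node (nat_lit 124) (.leaf (nat_lit 753)) (.node (nat_lit 125) (.leaf (nat_lit 756)) (.leaf (nat_lit 769)))) (.node (nat_lit 127) (.leaf (nat_lit 772)) (.node (nat_lit 128) (.leaf (nat_lit 784)) (.leaf (nat_lit 789))))))))
 (.node (nat_lit 151) (.node (nat_lit 140) (.node (nat_lit 134) (.node (nat_lit 131) (.node (nat_lit 130) (.leaf (nat_lit 793)) (.leaf (nat_lit 797))) (.node (nat_lit 132) (.leaf (nat_lit 805)) (.node (nat_lit 133) (.leaf (nat_lit 809)) (.leaf (nat_lit 813)))))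
 (.node (nat_lit 137) (.node (nat_lit 135) (.leaf (nat_lit 821)) (.node (nat_lit 136) (.leaf (nat_lit 825)) (.leaf (nat_lit 829)))) (.node (nat_lit 138) (.leaf (nat_lit 832)) (.node (nat_lit 139) (.leaf (nat_lit 837)) (.leaf (nat_lit 841))))))
 (.node (nat_lit 145) (.node (nat_lit 142) (.node (nat_lit 141) (.leaf (nat_lit 845)) (.leaf (nat_lit 849))) (.node (nat_lit 143) (.leaf (nat_lit 852)) (.node (nat_lit 144) (.leaf (nat_lit 865)) (.leaf (nat_lit 868)))))
 (.node (nat_lit 148) (.node (nat_lit 146) (.leaf (nat_lit 881)) (.node (nat_lit 147) (.leaf (nat_lit 884)) (.leaf (nat_lit 901)))) (.node (nat_lit 149) (.leaf (nat_lit 905)) (.node (nat_lit 150) (.leaf (nat_lit 909)) (.leaf (nat_lit 913)))))))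
 (.node (nat_lit 162) (.node (nat_lit 156) (.node (nat_lit 153) (.node (nat_lit 152) (.leaf (nat_lit 916)) (.leaf (nat_lit 929))) (.node (nat_lit 154) (.leaf (nat_lit 932)) (.node (nat_lit 155) (.leaf (nat_lit 945)) (.leaf (nat_lit 948)))))
 (.node (nat_lit 159) (.node (nat_lit 157) (.leaf (nat_lit 965)) (.node (nat_lit 158) (.leaf (nat_lit 969)) (.leaf (nat_lit 973)))) (.node (nat_lit 160) (.leaf (nat_lit 977)) (.node (nat_lit 161) (.leaf (nat_lit 980)) (.leaf (nat_lit 993))))))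
 (.node (nat_lit 167) (.node (nat_lit 164) (.node (nat_lit 163) (.leaf (nat_lit 996)) (.leaf (nat_lit 1009))) (.node (nat_lit 165) (.leaf (nat_lit 1012)) (.node (nat_lit 166) (.leaf (nat_lit 1025)) (.leaf (nat_lit 1028)))))
 (.node (nat_lit 170) (.node (nat_lit 168) (.leaf (nat_lit 1040)) (.node (nat_lit 169) (.leaf (nat_lit 1045)) (.leaf (nat_lit 1049)))) (.node (nat_lit 171) (.leaf (nat_lit 1053)) (.node (nat_lit 172) (.leaf (nat_lit 1061)) (.leaf (nat_lit 1065))))))))))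
noncomputable def V_1 : Tr ℕ := (.node (nat_lit 259) (.node (nat_lit 216) (.node (nat_lit 194) (.node (nat_lit 183) (.node (nat_lit 178) (.node (nat_lit 175) (.node (nat_lit 174) (.leaf (nat_lit 1069)) (.leaf (nat_lit 1077))) (.node (nat_lit 176) (.leaf (nat_lit 1081)) (.node (nat_lit 177) (.leaf (nat_lit 1085)) (.leaf (nat_lit 1088)))))
 (.node (nat_lit 180) (.node (nat_lit 179) (.leaf (nat_lit 1093)) (.leaf (nat_lit 1097))) (.node (nat_lit 181) (.leaf (nat_lit 1101)) (.node (nat_lit 182) (.leaf (nat_lit 1105)) (.leaf (nat_lit 1108))))))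
 (.node (nat_lit 188) (.node (nat_lit 185) (.node (nat_lit 184) (.leaf (nat_lit 1121)) (.leaf (nat_lit 1124))) (.node (nat_lit 186) (.leaf (nat_lit 1137)) (.node (nat_lit 187) (.leaf (nat_lit 1140)) (.leaf (nat_lit 1157)))))
 (.node (nat_lit 191) (.node (nat_lit 189) (.leaf (nat_lit 1161)) (.node (nat_lit 190) (.leaf (nat_lit 1165)) (.leaf (nat_lit 1169)))) (.node (nat_lit 192) (.leaf (nat_lit 1172)) (.node (nat_lit 193) (.leaf (nat_lit 1185)) (.leaf (nat_lit 1188)))))))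
 (.node (nat_lit 205) (.node (nat_lit 199) (.node (nat_lit 196) (.node (nat_lit 195) (.leaf (nat_lit 1201)) (.leaf (nat_lit 1204))) (.node (nat_lit 197) (.leaf (nat_lit 1221)) (.node (nat_lit 198) (.leaf (nat_lit 1225)) (.leaf (nat_lit 1229)))))
 (.node (nat_lit 202) (.node (nat_lit 200) (.leaf (nat_lit 1233)) (.node (nat_lit 201) (.leaf (nat_lit 1236)) (.leaf (nat_lit 1249)))) (.node (nat_lit 203) (.leaf (nat_lit 1252)) (.node (nat_lit 204) (.leaf (nat_lit 1265)) (.leaf (nat_lit 1268))))))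
 (.node (nat_lit 210) (.node (nat_lit 207) (.node (nat_lit 206) (.leaf (nat_lit 1280)) (.leaf (nat_lit 1285))) (.node (nat_lit 208) (.leaf (nat_lit 1289)) (.node (nat_lit 209) (.leaf (nat_lit 1293)) (.leaf (nat_lit 1297)))))
 (.node (nat_lit 213) (.node (nat_lit 211) (.leaf (nat_lit 1300)) (.node (nat_lit 212) (.leaf (nat_lit 1313)) (.leaf (nat_lit 1316)))) (.node (nat_lit 214) (.leaf (nat_lit 1329)) (.node (nat_lit 215) (.leaf (nat_lit 1332)) (.leaf (nat_lit 1345))))))))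
 (.node (nat_lit 237) (.node (nat_lit 226) (.node (nat_lit 221) (.node (nat_lit 218) (.node (nat_lit 217) (.leaf (nat_lit 1348)) (.leaf (nat_lit 1360))) (.node (nat_lit 219) (.leaf (nat_lit 1365)) (.node (nat_lit 220) (.leaf (nat_lit 1369)) (.leaf (nat_lit 1373)))))
 (.node (nat_lit 223) (.node (nat_lit 222) (.leaf (nat_lit 1381)) (.leaf (nat_lit 1385))) (.node (nat_lit 224) (.leaf (nat_lit 1389)) (.node (nat_lit 225) (.leaf (nat_lit 1397)) (.leaf (nat_lit 1401))))))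
 (.node (nat_lit 231) (.node (nat_lit 228) (.node (nat_lit 227) (.leaf (nat_lit 1405)) (.leaf (nat_lit 1409))) (.node (nat_lit 229) (.leaf (nat_lit 1412)) (.node (nat_lit 230) (.leaf (nat_lit 1424)) (.leaf (nat_lit 1429)))))
 (.node (nat_lit 234) (.node (nat_lit 232) (.leaf (nat_lit 1433)) (.node (nat_lit 233) (.leaf (nat_lit 1437)) (.leaf (nat_lit 1445)))) (.node (nat_lit 235) (.leaf (nat_lit 1449)) (.node (nat_lit 236) (.leaf (nat_lit 1453)) (.leaf (nat_lit 1461)))))))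
 (.node (nat_lit 248) (.node (nat_lit 242) (.node (nat_lit 239) (.node (nat_lit 238) (.leaf (nat_lit 1465)) (.leaf (nat_lit 1469))) (.node (nat_lit 240) (.leaf (nat_lit 1473)) (.node (nat_lit 241) (.leaf (nat_lit 1476)) (.leaf (nat_lit 1488)))))
 (.node (nat_lit 245) (.node (nat_lit 243) (.leaf (nat_lit 1493)) (.node (nat_lit 244) (.leaf (nat_lit 1497)) (.leaf (nat_lit 1501)))) (.node (nat_lit 246) (.leaf (nat_lit 1509)) (.node (nat_lit 247) (.leaf (nat_lit 1513)) (.leaf (nat_lit 1517))))))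
 (.node (nat_lit 253) (.node (nat_lit 250) (.node (nat_lit 249) (.leaf (nat_lit 1525)) (.leaf (nat_lit 1529))) (.node (nat_lit 251) (.leaf (nat_lit 1533)) (.node (nat_lit 252) (.leaf (nat_lit 1541)) (.leaf (nat_lit 1545)))))
 (.node (nat_lit 256) (.node (nat_lit 254) (.leaf (nat_lit 1549)) (.node (nat_lit 255) (.leaf (nat_lit 1553)) (.leaf (nat_lit 1556)))) (.node (nat_lit 257) (.leaf (nat_lit 1569)) (.node (nat_lit 258) (.leaf (nat_lit 1572)) (.leaf (nat_lit 1585)))))))))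
 (.node (nat_lit 302) (.node (nat_lit 280) (.node (nat_lit 269) (.node (nat_lit 264) (.node (nat_lit 261) (.node (nat_lit 260) (.leaf (nat_lit 1588)) (.leaf (nat_lit 1601))) (.node (nat_lit 262) (.leaf (nat_lit 1604)) (.node (nat_lit 263) (.leaf (nat_lit 1616)) (.leaf (nat_lit 1621)))))
 (.node (nat_lit 266) (.node (nat_lit 265) (.leaf (nat_lit 1625)) (.leaf (nat_lit 1629))) (.node (nat_lit 267) (.leaf (nat_lit 1637)) (.node (nat_lit 268) (.leaf (nat_lit 1641)) (.leaf (nat_lit 1645))))))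
 (.node (nat_lit 274) (.node (nat_lit 271) (.node (nat_lit 270) (.leaf (nat_lit 1653)) (.leaf (nat_lit 1657))) (.node (nat_lit 272) (.leaf (nat_lit 1661)) (.node (nat_lit 273) (.leaf (nat_lit 1665)) (.leaf (nat_lit 1668)))))
 (.node (nat_lit 277) (.node (nat_lit 275) (.leaf (nat_lit 1680)) (.node (nat_lit 276) (.leaf (nat_lit 1685)) (.leaf (nat_lit 1689)))) (.node (nat_lit 278) (.leaf (nat_lit 1693)) (.node (nat_lit 279) (.leaf (nat_lit 1701)) (.leaf (nat_lit 1705)))))))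
 (.node (nat_lit 291) (.node (nat_lit 285) (.node (nat_lit 282) (.node (nat_lit 281) (.leaf (nat_lit 1709)) (.leaf (nat_lit 1717))) (.node (nat_lit 283) (.leaf (nat_lit 1721)) (.node (nat_lit 284) (.leaf (nat_lit 1725)) (.leaf (nat_lit 1729)))))
 (.node (nat_lit 288) (.node (nat_lit 286) (.leaf (nat_lit 1732)) (.node (nat_lit 287) (.leaf (nat_lit 1744)) (.leaf (nat_lit 1749)))) (.node (nat_lit 289) (.leaf (nat_lit 1753)) (.node (nat_lit 290) (.leaf (nat_lit 1757)) (.leaf (nat_lit 1765))))))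
 (.node (nat_lit 296) (.node (nat_lit 293) (.node (nat_lit 292) (.leaf (nat_lit 1769)) (.leaf (nat_lit 1773))) (.node (nat_lit 294) (.leaf (nat_lit 1781)) (.node (nat_lit 295) (.leaf (nat_lit 1785)) (.leaf (nat_lit 1789)))))
 (.node (nat_lit 299) (.node (nat_lit 297) (.leaf (nat_lit 1797)) (.node (nat_lit 298) (.leaf (nat_lit 1801)) (.leaf (nat_lit 1805)))) (.node (nat_lit 300) (.leaf (nat_lit 1809)) (.node (nat_lit 301) (.leaf (nat_lit 1812)) (.leaf (nat_lit 1825))))))))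
 (.node (nat_lit 324) (.node (nat_lit 313) (.node (nat_lit 307) (.node (nat_lit 304) (.node (nat_lit 303) (.leaf (nat_lit 1828)) (.leaf (nat_lit 1841))) (.node (nat_lit 305) (.leaf (nat_lit 1844)) (.node (nat_lit 306) (.leaf (nat_lit 1857)) (.leaf (nat_lit 1860)))))
 (.node (nat_lit 310) (.node (nat_lit 308) (.leaf (nat_lit 1872)) (.node (nat_lit 309) (.leaf (nat_lit 1877)) (.leaf (nat_lit 1881)))) (.node (nat_lit 311) (.leaf (nat_lit 1885)) (.node (nat_lit 312) (.leaf (nat_lit 1893)) (.leaf (nat_lit 1897))))))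
 (.node (nat_lit 318) (.node (nat_lit 315) (.node (nat_lit 314) (.leaf (nat_lit 1901)) (.leaf (nat_lit 1909))) (.node (nat_lit 316) (.leaf (nat_lit 1913)) (.node (nat_lit 317) (.leaf (nat_lit 1917)) (.leaf (nat_lit 1921)))))
 (.node (nat_lit 321) (.node (nat_lit 319) (.leaf (nat_lit 1924)) (.node (nat_lit 320) (.leaf (nat_lit 1936)) (.leaf (nat_lit 1941)))) (.node (nat_lit 322) (.leaf (nat_lit 1945)) (.node (nat_lit 323) (.leaf (nat_lit 1949)) (.leaf (nat_lit 1957)))))))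
 (.node (nat_lit 335) (.node (nat_lit 329) (.node (nat_lit 326) (.node (nat_lit 325) (.leaf (nat_lit 1961)) (.leaf (nat_lit 1965))) (.node (nat_lit 327) (.leaf (nat_lit 1973)) (.node (nat_lit 328) (.leaf (nat_lit 1977)) (.leaf (nat_lit 1981)))))
 (.node (nat_lit 332) (.node (nat_lit 330) (.leaf (nat_lit 1985)) (.node (nat_lit 331) (.leaf (nat_lit 1988)) (.leaf (nat_lit 2000)))) (.node (nat_lit 333) (.leaf (nat_lit 2005)) (.node (nat_lit 334) (.leaf (nat_lit 2009)) (.leaf (nat_lit 2013))))))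
 (.node (nat_lit 340) (.node (nat_lit 337) (.node (nat_lit 336) (.leaf (nat_lit 2021)) (.leaf (nat_lit 2025))) (.node (nat_lit 338) (.leaf (nat_lit 2029)) (.node (nat_lit 339) (.leaf (nat_lit 2037)) (.leaf (nat_lit 2041)))))
 (.node (nat_lit 343) (.node (nat_lit 341) (.leaf (nat_lit 2045)) (.node (nat_lit 342) (.leaf (nat_lit 2049)) (.leaf (nat_lit 2052)))) (.node (nat_lit 344) (.leaf (nat_lit 2064)) (.node (nat_lit 345) (.leaf (nat_lit 2069)) (.leaf (nat_lit 2073))))))))))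
noncomputable def V_2 : Tr ℕ := (.node (nat_lit 432) (.node (nat_lit 389) (.node (nat_lit 367) (.node (nat_lit 356) (.node (nat_lit 351) (.node (nat_lit 348) (.node (nat_lit 347) (.leaf (nat_lit 2077)) (.leaf (nat_lit 2085))) (.node (nat_lit 349) (.leaf (nat_lit 2089)) (.node (nat_lit 350) (.leaf (nat_lit 2093)) (.leaf (nat_lit 2101)))))
 (.node (nat_lit 353) (.node (nat_lit 352) (.leaf (nat_lit 2105)) (.leaf (nat_lit 2109))) (.node (nat_lit 354) (.leaf (nat_lit 2112)) (.node (nat_lit 355) (.leaf (nat_lit 2117)) (.leaf (nat_lit 2121))))))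
 (.node (nat_lit 361) (.node (nat_lit 358) (.node (nat_lit 357) (.leaf (nat_lit 2125)) (.leaf (nat_lit 2129))) (.node (nat_lit 359) (.leaf (nat_lit 2132)) (.node (nat_lit 360) (.leaf (nat_lit 2145)) (.leaf (nat_lit 2148)))))
 (.node (nat_lit 364) (.node (nat_lit 362) (.leaf (nat_lit 2161)) (.node (nat_lit 363) (.leaf (nat_lit 2164)) (.leaf (nat_lit 2181)))) (.node (nat_lit 365) (.leaf (nat_lit 2185)) (.node (nat_lit 366) (.leaf (nat_lit 2189)) (.leaf (nat_lit 2193)))))))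
 (.node (nat_lit 378) (.node (nat_lit 372) (.node (nat_lit 369) (.node (nat_lit 368) (.leaf (nat_lit 2196)) (.leaf (nat_lit 2209))) (.node (nat_lit 370) (.leaf (nat_lit 2212)) (.node (nat_lit 371) (.leaf (nat_lit 2225)) (.leaf (nat_lit 2228)))))
 (.node (nat_lit 375) (.node (nat_lit 373) (.leaf (nat_lit 2245)) (.node (nat_lit 374) (.leaf (nat_lit 2249)) (.leaf (nat_lit 2253)))) (.node (nat_lit 376) (.leaf (nat_lit 2257)) (.node (nat_lit 377) (.leaf (nat_lit 2260)) (.leaf (nat_lit 2273))))))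
 (.node (nat_lit 383) (.node (nat_lit 380) (.node (nat_lit 379) (.leaf (nat_lit 2276)) (.leaf (nat_lit 2289))) (.node (nat_lit 381) (.leaf (nat_lit 2292)) (.node (nat_lit 382) (.leaf (nat_lit 2304)) (.leaf (nat_lit 2309)))))
 (.node (nat_lit 386) (.node (nat_lit 384) (.leaf (nat_lit 2313)) (.node (nat_lit 385) (.leaf (nat_lit 2317)) (.leaf (nat_lit 2321)))) (.node (nat_lit 387) (.leaf (nat_lit 2324)) (.node (nat_lit 388) (.leaf (nat_lit 2337)) (.leaf (nat_lit 2340))))))))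
 (.node (nat_lit 410) (.node (nat_lit 399) (.node (nat_lit 394) (.node (nat_lit 391) (.node (nat_lit 390) (.leaf (nat_lit 2353)) (.leaf (nat_lit 2356))) (.node (nat_lit 392) (.leaf (nat_lit 2369)) (.node (nat_lit 393) (.leaf (nat_lit 2372)) (.leaf (nat_lit 2384)))))
 (.node (nat_lit 396) (.node (nat_lit 395) (.leaf (nat_lit 2389)) (.leaf (nat_lit 2393))) (.node (nat_lit 397) (.leaf (nat_lit 2397)) (.node (nat_lit 398) (.leaf (nat_lit 2405)) (.leaf (nat_lit 2409))))))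
 (.node (nat_lit 404) (.node (nat_lit 401) (.node (nat_lit 400) (.leaf (nat_lit 2413)) (.leaf (nat_lit 2421))) (.node (nat_lit 402) (.leaf (nat_lit 2425)) (.node (nat_lit 403) (.leaf (nat_lit 2429)) (.leaf (nat_lit 2433)))))
 (.node (nat_lit 407) (.node (nat_lit 405) (.leaf (nat_lit 2436)) (.node (nat_lit 406) (.leaf (nat_lit 2448)) (.leaf (nat_lit 2453)))) (.node (nat_lit 408) (.leaf (nat_lit 2457)) (.node (nat_lit 409) (.leaf (nat_lit 2461)) (.leaf (nat_lit 2469)))))))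
 (.node (nat_lit 421) (.node (nat_lit 415) (.node (nat_lit 412) (.node (nat_lit 411) (.leaf (nat_lit 2473)) (.leaf (nat_lit 2477))) (.node (nat_lit 413) (.leaf (nat_lit 2485)) (.node (nat_lit 414) (.leaf (nat_lit 2489)) (.leaf (nat_lit 2493)))))
 (.node (nat_lit 418) (.node (nat_lit 416) (.leaf (nat_lit 2497)) (.node (nat_lit 417) (.leaf (nat_lit 2500)) (.leaf (nat_lit 2512)))) (.node (nat_lit 419) (.leaf (nat_lit 2517)) (.node (nat_lit 420) (.leaf (nat_lit 2521)) (.leaf (nat_lit 2525))))))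
 (.node (nat_lit 426) (.node (nat_lit 423) (.node (nat_lit 422) (.leaf (nat_lit 2533)) (.leaf (nat_lit 2537))) (.node (nat_lit 424) (.leaf (nat_lit 2541)) (.node (nat_lit 425) (.leaf (nat_lit 2549)) (.leaf (nat_lit 2553)))))
 (.node (nat_lit 429) (.node (nat_lit 427) (.leaf (nat_lit 2557)) (.node (nat_lit 428) (.leaf (nat_lit 2565)) (.leaf (nat_lit 2569)))) (.node (nat_lit 430) (.leaf (nat_lit 2573)) (.node (nat_lit 431) (.leaf (nat_lit 2577)) (.leaf (nat_lit 2580)))))))))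
 (.node (nat_lit 475) (.node (nat_lit 453) (.node (nat_lit 442) (.node (nat_lit 437) (.node (nat_lit 434) (.node (nat_lit 433) (.leaf (nat_lit 2593)) (.leaf (nat_lit 2596))) (.node (nat_lit 435) (.leaf (nat_lit 2609)) (.node (nat_lit 436) (.leaf (nat_lit 2612)) (.leaf (nat_lit 2625)))))
 (.node (nat_lit 439) (.node (nat_lit 438) (.leaf (nat_lit 2628)) (.leaf (nat_lit 2640))) (.node (nat_lit 440) (.leaf (nat_lit 2645)) (.node (nat_lit 441) (.leaf (nat_lit 2649)) (.leaf (nat_lit 2653))))))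
 (.node (nat_lit 447) (.node (nat_lit 444) (.node (nat_lit 443) (.leaf (nat_lit 2661)) (.leaf (nat_lit 2665))) (.node (nat_lit 445) (.leaf (nat_lit 2669)) (.node (nat_lit 446) (.leaf (nat_lit 2677)) (.leaf (nat_lit 2681)))))
 (.node (nat_lit 450) (.node (nat_lit 448) (.leaf (nat_lit 2685)) (.node (nat_lit 449) (.leaf (nat_lit 2689)) (.leaf (nat_lit 2692)))) (.node (nat_lit 451) (.leaf (nat_lit 2704)) (.node (nat_lit 452) (.leaf (nat_lit 2709)) (.leaf (nat_lit 2713)))))))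
 (.node (nat_lit 464) (.node (nat_lit 458) (.node (nat_lit 455) (.node (nat_lit 454) (.leaf (nat_lit 2717)) (.leaf (nat_lit 2725))) (.node (nat_lit 456) (.leaf (nat_lit 2729)) (.node (nat_lit 457) (.leaf (nat_lit 2733)) (.leaf (nat_lit 2741)))))
 (.node (nat_lit 461) (.node (nat_lit 459) (.leaf (nat_lit 2745)) (.node (nat_lit 460) (.leaf (nat_lit 2749)) (.leaf (nat_lit 2753)))) (.node (nat_lit 462) (.leaf (nat_lit 2756)) (.node (nat_lit 463) (.leaf (nat_lit 2768)) (.leaf (nat_lit 2773))))))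
 (.node (nat_lit 469) (.node (nat_lit 466) (.node (nat_lit 465) (.leaf (nat_lit 2777)) (.leaf (nat_lit 2781))) (.node (nat_lit 467) (.leaf (nat_lit 2789)) (.node (nat_lit 468) (.leaf (nat_lit 2793)) (.leaf (nat_lit 2797)))))
 (.node (nat_lit 472) (.node (nat_lit 470) (.leaf (nat_lit 2805)) (.node (nat_lit 471) (.leaf (nat_lit 2809)) (.leaf (nat_lit 2813)))) (.node (nat_lit 473) (.leaf (nat_lit 2821)) (.node (nat_lit 474) (.leaf (nat_lit 2825)) (.leaf (nat_lit 2829))))))))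
 (.node (nat_lit 497) (.node (nat_lit 486) (.node (nat_lit 480) (.node (nat_lit 477) (.node (nat_lit 476) (.leaf (nat_lit 2833)) (.leaf (nat_lit 2836))) (.node (nat_lit 478) (.leaf (nat_lit 2849)) (.node (nat_lit 479) (.leaf (nat_lit 2852)) (.leaf (nat_lit 2865)))))
 (.node (nat_lit 483) (.node (nat_lit 481) (.leaf (nat_lit 2868)) (.node (nat_lit 482) (.leaf (nat_lit 2881)) (.leaf (nat_lit 2884)))) (.node (nat_lit 484) (.leaf (nat_lit 2896)) (.node (nat_lit 485) (.leaf (nat_lit 2901)) (.leaf (nat_lit 2905))))))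
 (.node (nat_lit 491) (.node (nat_lit 488) (.node (nat_lit 487) (.leaf (nat_lit 2909)) (.leaf (nat_lit 2917))) (.node (nat_lit 489) (.leaf (nat_lit 2921)) (.node (nat_lit 490) (.leaf (nat_lit 2925)) (.leaf (nat_lit 2933)))))
 (.node (nat_lit 494) (.node (nat_lit 492) (.leaf (nat_lit 2937)) (.node (nat_lit 493) (.leaf (nat_lit 2941)) (.leaf (nat_lit 2945)))) (.node (nat_lit 495) (.leaf (nat_lit 2948)) (.node (nat_lit 496) (.leaf (nat_lit 2960)) (.leaf (nat_lit 2965)))))))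
 (.node (nat_lit 508) (.node (nat_lit 502) (.node (nat_lit 499) (.node (nat_lit 498) (.leaf (nat_lit 2969)) (.leaf (nat_lit 2973))) (.node (nat_lit 500) (.leaf (nat_lit 2981)) (.node (nat_lit 501) (.leaf (nat_lit 2985)) (.leaf (nat_lit 2989)))))
 (.node (nat_lit 505) (.node (nat_lit 503) (.leaf (nat_lit 2997)) (.node (nat_lit 504) (.leaf (nat_lit 3001)) (.leaf (nat_lit 3005)))) (.node (nat_lit 506) (.leaf (nat_lit 3009)) (.node (nat_lit 507) (.leaf (nat_lit 3012)) (.leaf (nat_lit 3024))))))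
 (.node (nat_lit 513) (.node (nat_lit 510) (.node (nat_lit 509) (.leaf (nat_lit 3029)) (.leaf (nat_lit 3033))) (.node (nat_lit 511) (.leaf (nat_lit 3037)) (.node (nat_lit 512) (.leaf (nat_lit 3045)) (.leaf (nat_lit 3049)))))
 (.node (nat_lit 516) (.node (nat_lit 514) (.leaf (nat_lit 3053)) (.node (nat_lit 515) (.leaf (nat_lit 3061)) (.leaf (nat_lit 3065)))) (.node (nat_lit 517) (.leaf (nat_lit 3069)) (.node (nat_lit 518) (.leaf (nat_lit 3073)) (.leaf (nat_lit 3076))))))))))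
noncomputable def V_3 : Tr ℕ := (.node (nat_lit 606) (.node (nat_lit 562) (.node (nat_lit 540) (.node (nat_lit 529) (.node (nat_lit 524) (.node (nat_lit 521) (.node (nat_lit 520) (.leaf (nat_lit 3088)) (.leaf (nat_lit 3093))) (.node (nat_lit 522) (.leaf (nat_lit 3097)) (.node (nat_lit 523) (.leaf (nat_lit 3101)) (.leaf (nat_lit 3109)))))
 (.node (nat_lit 526) (.node (nat_lit 525) (.leaf (nat_lit 3113)) (.leaf (nat_lit 3117))) (.node (nat_lit 527) (.leaf (nat_lit 3125)) (.node (nat_lit 528) (.leaf (nat_lit 3129)) (.leaf (nat_lit 3133))))))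
 (.node (nat_lit 534) (.node (nat_lit 531) (.node (nat_lit 530) (.leaf (nat_lit 3136)) (.leaf (nat_lit 3141))) (.node (nat_lit 532) (.leaf (nat_lit 3145)) (.node (nat_lit 533) (.leaf (nat_lit 3149)) (.leaf (nat_lit 3153)))))
 (.node (nat_lit 537) (.node (nat_lit 535) (.leaf (nat_lit 3156)) (.node (nat_lit 536) (.leaf (nat_lit 3169)) (.leaf (nat_lit 3172)))) (.node (nat_lit 538) (.leaf (nat_lit 3185)) (.node (nat_lit 539) (.leaf (nat_lit 3188)) (.leaf (nat_lit 3205)))))))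
 (.node (nat_lit 551) (.node (nat_lit 545) (.node (nat_lit 542) (.node (nat_lit 541) (.leaf (nat_lit 3209)) (.leaf (nat_lit 3213))) (.node (nat_lit 543) (.leaf (nat_lit 3217)) (.node (nat_lit 544) (.leaf (nat_lit 3220)) (.leaf (nat_lit 3233)))))
 (.node (nat_lit 548) (.node (nat_lit 546) (.leaf (nat_lit 3236)) (.node (nat_lit 547) (.leaf (nat_lit 3249)) (.leaf (nat_lit 3252)))) (.node (nat_lit 549) (.leaf (nat_lit 3269)) (.node (nat_lit 550) (.leaf (nat_lit 3273)) (.leaf (nat_lit 3277))))))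
 (.node (nat_lit 556) (.node (nat_lit 553) (.node (nat_lit 552) (.leaf (nat_lit 3281)) (.leaf (nat_lit 3284))) (.node (nat_lit 554) (.leaf (nat_lit 3297)) (.node (nat_lit 555) (.leaf (nat_lit 3300)) (.leaf (nat_lit 3313)))))
 (.node (nat_lit 559) (.node (nat_lit 557) (.leaf (nat_lit 3316)) (.node (nat_lit 558) (.leaf (nat_lit 3328)) (.leaf (nat_lit 3333)))) (.node (nat_lit 560) (.leaf (nat_lit 3337)) (.node (nat_lit 561) (.leaf (nat_lit 3341)) (.leaf (nat_lit 3345))))))))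
 (.node (nat_lit 584) (.node (nat_lit 573) (.node (nat_lit 567) (.node (nat_lit 564) (.node (nat_lit 563) (.leaf (nat_lit 3348)) (.leaf (nat_lit 3361))) (.node (nat_lit 565) (.leaf (nat_lit 3364)) (.node (nat_lit 566) (.leaf (nat_lit 3377)) (.leaf (nat_lit 3380)))))
 (.node (nat_lit 570) (.node (nat_lit 568) (.leaf (nat_lit 3393)) (.node (nat_lit 569) (.leaf (nat_lit 3396)) (.leaf (nat_lit 3408)))) (.node (nat_lit 571) (.leaf (nat_lit 3413)) (.node (nat_lit 572) (.leaf (nat_lit 3417)) (.leaf (nat_lit 3421))))))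
 (.node (nat_lit 578) (.node (nat_lit 575) (.node (nat_lit 574) (.leaf (nat_lit 3429)) (.leaf (nat_lit 3433))) (.node (nat_lit 576) (.leaf (nat_lit 3437)) (.node (nat_lit 577) (.leaf (nat_lit 3445)) (.leaf (nat_lit 3449)))))
 (.node (nat_lit 581) (.node (nat_lit 579) (.leaf (nat_lit 3453)) (.node (nat_lit 580) (.leaf (nat_lit 3457)) (.leaf (nat_lit 3460)))) (.node (nat_lit 582) (.leaf (nat_lit 3472)) (.node (nat_lit 583) (.leaf (nat_lit 3477)) (.leaf (nat_lit 3481)))))))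
 (.node (nat_lit 595) (.node (nat_lit 589) (.node (nat_lit 586) (.node (nat_lit 585) (.leaf (nat_lit 3485)) (.leaf (nat_lit 3493))) (.node (nat_lit 587) (.leaf (nat_lit 3497)) (.node (nat_lit 588) (.leaf (nat_lit 3501)) (.leaf (nat_lit 3509)))))
 (.node (nat_lit 592) (.node (nat_lit 590) (.leaf (nat_lit 3513)) (.node (nat_lit 591) (.leaf (nat_lit 3517)) (.leaf (nat_lit 3521)))) (.node (nat_lit 593) (.leaf (nat_lit 3524)) (.node (nat_lit 594) (.leaf (nat_lit 3536)) (.leaf (nat_lit 3541))))))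
 (.node (nat_lit 600) (.node (nat_lit 597) (.node (nat_lit 596) (.leaf (nat_lit 3545)) (.leaf (nat_lit 3549))) (.node (nat_lit 598) (.leaf (nat_lit 3557)) (.node (nat_lit 599) (.leaf (nat_lit 3561)) (.leaf (nat_lit 3565)))))
 (.node (nat_lit 603) (.node (nat_lit 601) (.leaf (nat_lit 3573)) (.node (nat_lit 602) (.leaf (nat_lit 3577)) (.leaf (nat_lit 3581)))) (.node (nat_lit 604) (.leaf (nat_lit 3589)) (.node (nat_lit 605) (.leaf (nat_lit 3593)) (.leaf (nat_lit 3597)))))))))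
 (.node (nat_lit 649) (.node (nat_lit 627) (.node (nat_lit 616) (.node (nat_lit 611) (.node (nat_lit 608) (.node (nat_lit 607) (.leaf (nat_lit 3601)) (.leaf (nat_lit 3604))) (.node (nat_lit 609) (.leaf (nat_lit 3617)) (.node (nat_lit 610) (.leaf (nat_lit 3620)) (.leaf (nat_lit 3633)))))
 (.node (nat_lit 613) (.node (nat_lit 612) (.leaf (nat_lit 3636)) (.leaf (nat_lit 3649))) (.node (nat_lit 614) (.leaf (nat_lit 3652)) (.node (nat_lit 615) (.leaf (nat_lit 3664)) (.leaf (nat_lit 3669))))))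
 (.node (nat_lit 621) (.node (nat_lit 618) (.node (nat_lit 617) (.leaf (nat_lit 3673)) (.leaf (nat_lit 3677))) (.node (nat_lit 619) (.leaf (nat_lit 3685)) (.node (nat_lit 620) (.leaf (nat_lit 3689)) (.leaf (nat_lit 3693)))))
 (.node (nat_lit 624) (.node (nat_lit 622) (.leaf (nat_lit 3701)) (.node (nat_lit 623) (.leaf (nat_lit 3705)) (.leaf (nat_lit 3709)))) (.node (nat_lit 625) (.leaf (nat_lit 3713)) (.node (nat_lit 626) (.leaf (nat_lit 3716)) (.leaf (nat_lit 3728)))))))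
 (.node (nat_lit 638) (.node (nat_lit 632) (.node (nat_lit 629) (.node (nat_lit 628) (.leaf (nat_lit 3733)) (.leaf (nat_lit 3737))) (.node (nat_lit 630) (.leaf (nat_lit 3741)) (.node (nat_lit 631) (.leaf (nat_lit 3749)) (.leaf (nat_lit 3753)))))
 (.node (nat_lit 635) (.node (nat_lit 633) (.leaf (nat_lit 3757)) (.node (nat_lit 634) (.leaf (nat_lit 3765)) (.leaf (nat_lit 3769)))) (.node (nat_lit 636) (.leaf (nat_lit 3773)) (.node (nat_lit 637) (.leaf (nat_lit 3777)) (.leaf (nat_lit 3780))))))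
 (.node (nat_lit 643) (.node (nat_lit 640) (.node (nat_lit 639) (.leaf (nat_lit 3792)) (.leaf (nat_lit 3797))) (.node (nat_lit 641) (.leaf (nat_lit 3801)) (.node (nat_lit 642) (.leaf (nat_lit 3805)) (.leaf (nat_lit 3813)))))
 (.node (nat_lit 646) (.node (nat_lit 644) (.leaf (nat_lit 3817)) (.node (nat_lit 645) (.leaf (nat_lit 3821)) (.leaf (nat_lit 3829)))) (.node (nat_lit 647) (.leaf (nat_lit 3833)) (.node (nat_lit 648) (.leaf (nat_lit 3837)) (.leaf (nat_lit 3845))))))))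
 (.node (nat_lit 671) (.node (nat_lit 660) (.node (nat_lit 654) (.node (nat_lit 651) (.node (nat_lit 650) (.leaf (nat_lit 3849)) (.leaf (nat_lit 3853))) (.node (nat_lit 652) (.leaf (nat_lit 3857)) (.node (nat_lit 653) (.leaf (nat_lit 3860)) (.leaf (nat_lit 3873)))))
 (.node (nat_lit 657) (.node (nat_lit 655) (.leaf (nat_lit 3876)) (.node (nat_lit 656) (.leaf (nat_lit 3889)) (.leaf (nat_lit 3892)))) (.node (nat_lit 658) (.leaf (nat_lit 3905)) (.node (nat_lit 659) (.leaf (nat_lit 3908)) (.leaf (nat_lit 3920))))))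
 (.node (nat_lit 665) (.node (nat_lit 662) (.node (nat_lit 661) (.leaf (nat_lit 3925)) (.leaf (nat_lit 3929))) (.node (nat_lit 663) (.leaf (nat_lit 3933)) (.node (nat_lit 664) (.leaf (nat_lit 3941)) (.leaf (nat_lit 3945)))))
 (.node (nat_lit 668) (.node (nat_lit 666) (.leaf (nat_lit 3949)) (.node (nat_lit 667) (.leaf (nat_lit 3957)) (.leaf (nat_lit 3961)))) (.node (nat_lit 669) (.leaf (nat_lit 3965)) (.node (nat_lit 670) (.leaf (nat_lit 3969)) (.leaf (nat_lit 3972)))))))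
 (.node (nat_lit 682) (.node (nat_lit 676) (.node (nat_lit 673) (.node (nat_lit 672) (.leaf (nat_lit 3984)) (.leaf (nat_lit 3989))) (.node (nat_lit 674) (.leaf (nat_lit 3993)) (.node (nat_lit 675) (.leaf (nat_lit 3997)) (.leaf (nat_lit 4005)))))
 (.node (nat_lit 679) (.node (nat_lit 677) (.leaf (nat_lit 4009)) (.node (nat_lit 678) (.leaf (nat_lit 4013)) (.leaf (nat_lit 4021)))) (.node (nat_lit 680) (.leaf (nat_lit 4025)) (.node (nat_lit 681) (.leaf (nat_lit 4029)) (.leaf (nat_lit 4033))))))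
 (.node (nat_lit 687) (.node (nat_lit 684) (.node (nat_lit 683) (.leaf (nat_lit 4036)) (.leaf (nat_lit 4048))) (.node (nat_lit 685) (.leaf (nat_lit 4053)) (.node (nat_lit 686) (.leaf (nat_lit 4057)) (.leaf (nat_lit 4061)))))
 (.node (nat_lit 690) (.node (nat_lit 688) (.leaf (nat_lit 4069)) (.node (nat_lit 689) (.leaf (nat_lit 4073)) (.leaf (nat_lit 4077)))) (.node (nat_lit 691) (.leaf (nat_lit 4085)) (.node (nat_lit 692) (.leaf (nat_lit 4089)) (.leaf (nat_lit 4093))))))))))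
noncomputable def V : Tr ℕ := (.node (nat_lit 346) (.node (nat_lit 173) V_0 V_1) (.node (nat_lit 519) V_2 V_3))
theorem pts : ptR C4 6 true V 693 0 693 = true := by decide +kernel
noncomputable def M0 : Sp := [[(nat_lit 0, nat_lit 3), (nat_lit 1, nat_lit 3), (nat_lit 3, nat_lit 1), (nat_lit 4, nat_lit 2), (nat_lit 5, nat_lit 1)],
  [(nat_lit 1, nat_lit 1), (nat_lit 2, nat_lit 1), (nat_lit 3, nat_lit 1), (nat_lit 4, nat_lit 3), (nat_lit 5, nat_lit 1)],
  [(nat_lit 0, nat_lit 3), (nat_lit 1, nat_lit 1), (nat_lit 2, nat_lit 2), (nat_lit 3, nat_lit 1), (nat_lit 5, nat_lit 2)],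
  [(nat_lit 0, nat_lit 1), (nat_lit 4, nat_lit 2), (nat_lit 5, nat_lit 3)],
  [(nat_lit 0, nat_lit 2), (nat_lit 1, nat_lit 3), (nat_lit 3, nat_lit 2), (nat_lit 4, nat_lit 1), (nat_lit 5, nat_lit 3)],
  [(nat_lit 0, nat_lit 1), (nat_lit 1, nat_lit 1), (nat_lit 2, nat_lit 3), (nat_lit 3, nat_lit 1), (nat_lit 4, nat_lit 2)]]
noncomputable def M1 : Sp := [[(nat_lit 0, nat_lit 1), (nat_lit 2, nat_lit 2), (nat_lit 3, nat_lit 2), (nat_lit 4, nat_lit 3), (nat_lit 5, nat_lit 1)],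
  [(nat_lit 1, nat_lit 3), (nat_lit 2, nat_lit 2), (nat_lit 3, nat_lit 2), (nat_lit 4, nat_lit 3), (nat_lit 5, nat_lit 1)],
  [(nat_lit 0, nat_lit 2), (nat_lit 1, nat_lit 1), (nat_lit 3, nat_lit 2), (nat_lit 4, nat_lit 3), (nat_lit 5, nat_lit 2)],
  [(nat_lit 0, nat_lit 2), (nat_lit 1, nat_lit 1), (nat_lit 3, nat_lit 2), (nat_lit 4, nat_lit 1), (nat_lit 5, nat_lit 1)],
  [(nat_lit 0, nat_lit 2), (nat_lit 1, nat_lit 1), (nat_lit 2, nat_lit 3)],
  [(nat_lit 0, nat_lit 2), (nat_lit 1, nat_lit 1), (nat_lit 3, nat_lit 3), (nat_lit 4, nat_lit 3), (nat_lit 5, nat_lit 1)]]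
noncomputable def MT : Tr Sp := (.node (nat_lit 1) (.leaf M0) (.leaf M1))
noncomputable def SC : Tr ℕ := (.node (nat_lit 1) (.leaf (nat_lit 0x39a797dd7deeb6db699556bdb6da99e7af5a7965faaa7afae7d76db6ade7ddebffe96aa9dfffe55567f6db6b9d75eeb9a697ef9efd7ad769efaf5db6dad75d7eafffa76db6aefaefd696797eaa9d7fff9aaa7556f6abbe7d76db69eb9efd79a597eaa9fa7965f79d7eadb6dad555bde7dda996797efaebd75fb69556f7dbdaaa9d996697d556beb5daaa9fb9a797eaa9efffe5556ff6db697ffe9aaa7957b6afaebd76db6babbe7d59e697eaa9d)) (.leaf (nat_lit 0x2ffeae7fad5baa5676e7aeba959db56afe5bffab9b59a95abf96a5676ff9d5b96f95ed66a5be567aeb6a5676d5abf96a56f6ffad5b96f95feb56e9ffab956afe5e95fe7feae7fad5baa56f6e7aeb7a57f9eb9d6f957fad5bbf9d57abfeae55abf97a57f56afe5a95adbfe755e5be56a5676d5abf96bfeae6d66ad6f95b59aba57f95abf97a57f9eb9d6f957fbd5f96f95b59aba57f95abf96d66a5be567ae76a56b6d5abf96a56b6ffbd5f96f95)))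
theorem act : ActAll C4 6 true V 693 (nat_lit 10) (nat_lit 1023) MT G0 SC 2 := actAll_of (by decide +kernel)
noncomputable def OT : Tr ℕ := (.node (nat_lit 1) (.leaf (nat_lit 7)) (.leaf (nat_lit 5)))
theorem pw : ∀ j < 2, powChk C4 6 (MT.get j) (OT.get j) = true ∧ 0 < OT.get j ∧ Nat.Coprime (OT.get j) 3 ∧
    bilChk C4 6 idF (fun a => C4.pow a 2) (MT.get j) = true := by decide +kernel
theorem cen : Subgroup.center P = ⊥ := center_eq_bot lets base (nat_lit 0) [[nat_lit 5, nat_lit 8]] [[], [nat_lit 9, nat_lit 6, nat_lit 3, nat_lit 9, nat_lit 0, nat_lit 9], [nat_lit 9, nat_lit 5, nat_lit 7, nat_lit 8, nat_lit 2, nat_lit 9], [nat_lit 8, nat_lit 0, nat_lit 7, nat_lit 8, nat_lit 9], [nat_lit 9, nat_lit 5, nat_lit 8, nat_lit 2, nat_lit 0, nat_lit 9]] (by decide +kernel)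
theorem iso {F : Type*} [Field F] [Fintype F] (hF : Fintype.card F = 4) :
    Nonempty (Cfsg.PSU 6 F 2 ≃* P) := by
  haveI : CharP F 2 := charP_of_card (k := 2) (by norm_num) hF
  obtain ⟨ω, hω⟩ := exists_fm4 hF
  have h := fm4 hω
  refine iso_quot_center gen (h.pt_inj (ix_fin 6) (τSU 6 F 2) pts)
    (act.lets h (ix_fin 6) fun j hj => h.exists_SU 2 1 rfl (pw j hj).1 (pw j hj).2.1 (by rw [hF]; exact (pw j hj).2.2.1)
      (pw j hj).2.2.2) cen ?_
  have := Cfsg.Agent.S0280.result (q := 2) hF 6 (by norm_num)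
  rw [card]
  simp only [Finset.prod_range_succ, Finset.prod_range_zero] at this
  norm_num [Nat.even_iff] at this
  show Nat.card (Cfsg.PSU 6 F 2) ≤ _
  omega

end H8.U62
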