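import Cfsg.Agent.H8.OT
import Cfsg.Agent.H8.SpecC
import Cfsg.Agent.H8.GA

/-! H8.AG9: the affine semilinear group of the field with nine elements (generated certificate) -/

set_option autoImplicit false
set_option maxRecDepth 200000

set_option linter.all false
open Subgroup 

namespace H8.AG9

noncomputable def at0 : ℕ := (nat_lit 0x543876210)
noncomputable def at1 : ℕ := (nat_lit 0x318264750)
noncomputable def at2 : ℕ := (nat_lit 0x624138570)
noncomputable def at3 : ℕ := (nat_lit 0x678012345)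
noncomputable def aT : Tr ℕ := (.node (nat_lit 2) (.node (nat_lit 1) (.leaf at0) (.leaf at1)) (.node (nat_lit 3) (.leaf at2) (.leaf at3)))
noncomputable def aR : Tr (List ℕ) := (.node (nat_lit 4) (.node (nat_lit 2) (.node (nat_lit 1) (.leaf [nat_lit 3, nat_lit 1, nat_lit 0, nat_lit 2, nat_lit 3, nat_lit 1, nat_lit 0, nat_lit 2]) (.leaf [nat_lit 1, nat_lit 0, nat_lit 1, nat_lit 1, nat_lit 0, nat_lit 1])) (.node (nat_lit 3) (.leaf [nat_lit 0, nat_lit 0]) (.leaf [nat_lit 0, nat_lit 1, nat_lit 0, nat_lit 2, nat_lit 0, nat_lit 2, nat_lit 0, nat_lit 2])))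
 (.node (nat_lit 6) (.node (nat_lit 5) (.leaf [nat_lit 1, nat_lit 1, nat_lit 1, nat_lit 1]) (.leaf [nat_lit 3, nat_lit 1, nat_lit 1, nat_lit 3, nat_lit 1, nat_lit 1, nat_lit 3, nat_lit 1, nat_lit 1])) (.node (nat_lit 7) (.leaf [nat_lit 1, nat_lit 2]) (.node (nat_lit 8) (.leaf [nat_lit 3, nat_lit 3]) (.leaf [nat_lit 0, nat_lit 2, nat_lit 0, nat_lit 3, nat_lit 0, nat_lit 3, nat_lit 2, nat_lit 0, nat_lit 3])))))
noncomputable def aL0 : Lev := ⟨(nat_lit 0), (nat_lit 4), (nat_lit 0x10202040403030200), (nat_lit 0x20303010303020200),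
 (.node (nat_lit 2) (.node (nat_lit 1) (.leaf (nat_lit 0x90004000100080005000300020000))
 (.leaf (nat_lit 0x100000000000100060007000200000000)))
 (.node (nat_lit 3) (.leaf (nat_lit 0x100030007000100080000000000010000))
 (.leaf (nat_lit 0x300030002000000000005000600010001)))),
 (.node (nat_lit 2) (.node (nat_lit 1) (.leaf (nat_lit 0x200000304000201000101000201000104000002000000))
 (.leaf (nat_lit 0x600000000000000000600000505000403000401000000000000)))
 (.node (nat_lit 3) (.leaf (nat_lit 0x601000601000601000601000601000000000000000601000000))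
 (.leaf (nat_lit 0x700000503000805000000000000000808000701000701000701))))⟩
noncomputable def aL1 : Lev := ⟨(nat_lit 1), (nat_lit 3), (nat_lit 0x10203030102020000), (nat_lit 0x20103010203020000),
 (.node (nat_lit 1) (.leaf (nat_lit 0x10003000100000002000300000000))
 (.node (nat_lit 2) (.leaf (nat_lit 0x200000003000200010000000000010000))
 (.leaf (nat_lit 0x400010000000000010003000300010000)))),
 (.node (nat_lit 1) (.leaf (nat_lit 0x200000200000201000000000304000104000000000000))
 (.node (nat_lit 2) (.leaf (nat_lit 0x103000000000401000402000600000000000000000600000000))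
 (.leaf (nat_lit 0x601000601000000000000000601000601000601000601000000))))⟩
noncomputable def aL2 : Lev := ⟨(nat_lit 3), (nat_lit 1), (nat_lit 0x1000000000000), (nat_lit 0x1000000000000),
 (.leaf (nat_lit 0x1000000000000)),
 (.leaf (nat_lit 0x201000000000000000000))⟩
noncomputable def aL : List Lev := [aL0, aL1, aL2]
theorem as : aT.all (fun c => surjF 9 (ap (nat_lit 4) (nat_lit 15) c)) = true := by decide +kernel
theorem alev0 : levChk 9 (nat_lit 4) (nat_lit 15) aT aR aL0 aL1.N = true := by decide +kernel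
theorem alev1 : levChk 9 (nat_lit 4) (nat_lit 15) aT aR aL1 aL2.N = true := by decide +kernel
theorem alev2 : levChk 9 (nat_lit 4) (nat_lit 15) aT aR aL2 0 = true := by decide +kernel
theorem achain : Chain 9 (nat_lit 4) (nat_lit 15) aT aR aL := chain_cons alev0 <| chain_cons alev1 <| chain_one alev2
theorem asd : band (selChk aT aT (topN aL)) (aR.all fun w => eqB (List.range 9) (apL (nat_lit 4) (nat_lit 15) aT w) fun a => a) = true := by decide +kernel
theorem atc : tchainChk 9 (nat_lit 4) (nat_lit 15) aT aL = true := by decide +kernel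
noncomputable def nt0 : ℕ := (nat_lit 0x768435102)
noncomputable def nt1 : ℕ := (nat_lit 0x687354021)
noncomputable def nt2 : ℕ := (nat_lit 0x354021687)
noncomputable def nt3 : ℕ := (nat_lit 0x102768435)
noncomputable def nT : Tr ℕ := (.node (nat_lit 2) (.node (nat_lit 1) (.leaf nt0) (.leaf nt1)) (.node (nat_lit 3) (.leaf nt2) (.leaf nt3)))
noncomputable def nR : Tr (List ℕ) := (.node (nat_lit 2) (.node (nat_lit 1) (.leaf [nat_lit 0, nat_lit 1]) (.leaf [nat_lit 0, nat_lit 0, nat_lit 0])) (.node (nat_lit 3) (.leaf [nat_lit 0, nat_lit 2, nat_lit 1, nat_lit 3]) (.node (nat_lit 4) (.leaf [nat_lit 2, nat_lit 3]) (.leaf [nat_lit 2, nat_lit 2, nat_lit 2]))))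
noncomputable def nL0 : Lev := ⟨(nat_lit 0), (nat_lit 4), (nat_lit 0x40404030303020100), (nat_lit 0x20102010202010100),
 (.node (nat_lit 2) (.node (nat_lit 1) (.leaf (nat_lit 0x800070006000500040003000200000001))
 (.leaf (nat_lit 0x500090006000200060003000000030001)))
 (.node (nat_lit 3) (.leaf (nat_lit 0x200020002000000000000000100010001))
 (.leaf (nat_lit 0x300030003000100010001)))),
 (.node (nat_lit 2) (.node (nat_lit 1) (.leaf (nat_lit 0x101000000000000000101000000000000000101000000000000))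
 (.leaf (nat_lit 0x202000001000202000202000001000202000000000001000001)))
 (.node (nat_lit 3) (.leaf (nat_lit 0x401000401000401000000000000000000000300000300000300))
 (.leaf (nat_lit 0x301000301000301000301000301000301))))⟩
noncomputable def nL : List Lev := [nL0]
noncomputable def nE : Tr (List ℕ) := (.node (nat_lit 2) (.node (nat_lit 1) (.leaf [nat_lit 1, nat_lit 3, nat_lit 1]) (.leaf [nat_lit 2, nat_lit 3, nat_lit 2])) (.node (nat_lit 3) (.leaf [nat_lit 2, nat_lit 2, nat_lit 3]) (.leaf [nat_lit 3, nat_lit 2, nat_lit 2])))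
theorem nw_0 : nT.all2 (fun c w => isProd 9 (nat_lit 4) (nat_lit 15) aT c w) nE = true := by decide +kernel
theorem nw : nT.all2 (fun c w => isProd 9 (nat_lit 4) (nat_lit 15) aT c w) nE = true := nw_0
theorem nlev0 : levChk 9 (nat_lit 4) (nat_lit 15) nT nR nL0 0 = true := by decide +kernel
theorem nchain : Chain 9 (nat_lit 4) (nat_lit 15) nT nR nL := chain_one nlev0
theorem nsd : band (selChk nT nT (topN nL)) (nR.all fun w => eqB (aL.map Lev.b) (apL (nat_lit 4) (nat_lit 15) nT w) fun a => a) = true := by decide +kernel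
theorem ntc : tchainChk 9 (nat_lit 4) (nat_lit 15) nT nL = true := by decide +kernel
noncomputable def nnW : Tr (List ℕ) := (.node (nat_lit 8) (.node (nat_lit 4) (.node (nat_lit 2) (.node (nat_lit 1) (.leaf [nat_lit 0]) (.leaf [nat_lit 1])) (.node (nat_lit 3) (.leaf [nat_lit 3, nat_lit 0]) (.leaf [nat_lit 2, nat_lit 1])))
 (.node (nat_lit 6) (.node (nat_lit 5) (.leaf [nat_lit 2]) (.leaf [nat_lit 3])) (.node (nat_lit 7) (.leaf [nat_lit 1]) (.leaf [nat_lit 0]))))
 (.node (nat_lit 12) (.node (nat_lit 10) (.node (nat_lit 9) (.leaf [nat_lit 3]) (.leaf [nat_lit 2])) (.node (nat_lit 11) (.leaf [nat_lit 0]) (.leaf [nat_lit 1])))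
 (.node (nat_lit 14) (.node (nat_lit 13) (.leaf [nat_lit 1]) (.leaf [nat_lit 0])) (.node (nat_lit 15) (.leaf [nat_lit 3]) (.leaf [nat_lit 2])))))
theorem nn : nrmChk (nat_lit 4) (nat_lit 15) (aL.map Lev.b) aT nT (topN aL) (topN nL) nnW = true := by decide +kernel
noncomputable def st0 : ℕ := (nat_lit 0x543876210)
noncomputable def st1 : ℕ := (nat_lit 0x165327840)
noncomputable def st2 : ℕ := (nat_lit 0x237615480)
noncomputable def sT : Tr ℕ := (.node (nat_lit 1) (.leaf st0) (.node (nat_lit 2) (.leaf st1) (.leaf st2)))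
noncomputable def sR : Tr (List ℕ) := (.node (nat_lit 2) (.node (nat_lit 1) (.leaf [nat_lit 1, nat_lit 0, nat_lit 1, nat_lit 1, nat_lit 0, nat_lit 1]) (.leaf [nat_lit 0, nat_lit 1, nat_lit 0, nat_lit 1, nat_lit 0, nat_lit 1, nat_lit 0, nat_lit 2])) (.node (nat_lit 3) (.leaf [nat_lit 0, nat_lit 0]) (.node (nat_lit 4) (.leaf [nat_lit 1, nat_lit 2]) (.leaf [nat_lit 1, nat_lit 1, nat_lit 1, nat_lit 1]))))
noncomputable def sL0 : Lev := ⟨(nat_lit 1), (nat_lit 3), (nat_lit 0x20102010303020000), (nat_lit 0x10203020103020000),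
 (.node (nat_lit 1) (.leaf (nat_lit 0x100000003000000010002000300000000))
 (.node (nat_lit 2) (.leaf (nat_lit 0x20000000100020003000000010000))
 (.leaf (nat_lit 0x100040003000100000000000300010000)))),
 (.node (nat_lit 1) (.leaf (nat_lit 0x200000000000200000000000201000104000004000000000000))
 (.node (nat_lit 2) (.leaf (nat_lit 0x3000000000300000402000403000000000300000000))
 (.leaf (nat_lit 0x301000301000301000301000000000000000301000301000000))))⟩
noncomputable def sL1 : Lev := ⟨(nat_lit 3), (nat_lit 1), (nat_lit 0x1000000000000), (nat_lit 0x1000000000000),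
 (.leaf (nat_lit 0x1000000000000)),
 (.leaf (nat_lit 0x201000000000000000000))⟩
noncomputable def sL : List Lev := [sL0, sL1]
noncomputable def sE : Tr (List ℕ) := (.node (nat_lit 1) (.leaf [nat_lit 0]) (.node (nat_lit 2) (.leaf [nat_lit 0, nat_lit 2, nat_lit 0]) (.leaf [nat_lit 0, nat_lit 1, nat_lit 0])))
theorem sw_0 : sT.all2 (fun c w => isProd 9 (nat_lit 4) (nat_lit 15) aT c w) sE = true := by decide +kernel
theorem sw : sT.all2 (fun c w => isProd 9 (nat_lit 4) (nat_lit 15) aT c w) sE = true := sw_0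
theorem slev0 : levChk 9 (nat_lit 4) (nat_lit 15) sT sR sL0 sL1.N = true := by decide +kernel
theorem slev1 : levChk 9 (nat_lit 4) (nat_lit 15) sT sR sL1 0 = true := by decide +kernel
theorem schain : Chain 9 (nat_lit 4) (nat_lit 15) sT sR sL := chain_cons slev0 <| chain_one slev1
theorem ssd : band (selChk sT sT (topN sL)) (sR.all fun w => eqB (aL.map Lev.b) (apL (nat_lit 4) (nat_lit 15) sT w) fun a => a) = true := by decide +kernel
theorem stc : tchainChk 9 (nat_lit 4) (nat_lit 15) sT sL = true := by decide +kernel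
noncomputable def Z : List (List ℕ × List ℕ) := [([nat_lit 0], []), ([nat_lit 2, nat_lit 0, nat_lit 3, nat_lit 0, nat_lit 2, nat_lit 0], [nat_lit 1, nat_lit 0, nat_lit 3, nat_lit 0, nat_lit 1]), ([nat_lit 1, nat_lit 0, nat_lit 3, nat_lit 0, nat_lit 1, nat_lit 0], [nat_lit 2, nat_lit 0, nat_lit 3, nat_lit 0, nat_lit 2]), ([nat_lit 2, nat_lit 2, nat_lit 0], [nat_lit 2, nat_lit 0, nat_lit 2, nat_lit 0]), ([nat_lit 2, nat_lit 0, nat_lit 2], [nat_lit 0, nat_lit 2]), ([nat_lit 1, nat_lit 0, nat_lit 2], [nat_lit 1, nat_lit 0]), ([nat_lit 1, nat_lit 3, nat_lit 2, nat_lit 0], [nat_lit 2, nat_lit 3, nat_lit 0, nat_lit 1, nat_lit 0]), ([nat_lit 2, nat_lit 2, nat_lit 3, nat_lit 2, nat_lit 0, nat_lit 2], [nat_lit 2, nat_lit 3, nat_lit 2, nat_lit 0, nat_lit 2]), ([nat_lit 3, nat_lit 2, nat_lit 3, nat_lit 0, nat_lit 1], [nat_lit 2, nat_lit 3, nat_lit 0]), ([nat_lit 2, nat_lit 3, nat_lit 1, nat_lit 0], [nat_lit 1, nat_lit 3, nat_lit 0, nat_lit 2, nat_lit 0]), ([nat_lit 3, nat_lit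 1, nat_lit 0, nat_lit 2], [nat_lit 1, nat_lit 3, nat_lit 1, nat_lit 0, nat_lit 2]), ([nat_lit 0, nat_lit 3, nat_lit 1, nat_lit 0, nat_lit 2, nat_lit 0], [nat_lit 1, nat_lit 3, nat_lit 2, nat_lit 2, nat_lit 0])]
theorem Zc : (allL Z fun z => eqB (aL.map Lev.b) (fun x => (apL (nat_lit 4) (nat_lit 15) aT z.1) ((apL (nat_lit 4) (nat_lit 15) aT z.2) x)) fun x => (apL (nat_lit 4) (nat_lit 15) aT z.2) ((apL (nat_lit 4) (nat_lit 15) aT [nat_lit 0]) x)) = true := by decide +kernel
theorem e : allR 0 9 (refu 9 (nat_lit 4) (nat_lit 15) aT ⟨fun _ _ => 0, fun _ _ _ => true, fun f => bor (eqB (aL.map Lev.b) (itF f (2 ^ 3)) fun a => a) (anyL Z fun z => eqB (aL.map Lev.b) (fun x => f ((apL (nat_lit 4) (nat_lit 15) aT z.1) x)) fun x => (apL (nat_lit 4) (nat_lit 15) aT z.1) (f x))⟩ aL0 [aL1, aL2] []) = true := by decide +kernel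
theorem ex : ∃ (G : Type) (_ : Group G) (_ : Finite G) (a : G) (S : Subgroup G), Group.IsSolvable G ∧ orderOf a = 2 ∧ a ∈ S ∧
    IsPGroup 2 S ∧ ¬ 2 ∣ S.index ∧ (∀ c : G, c ^ 2 ^ 3 = 1 ∨ ∃ w, Commute c (w * a * w⁻¹)) ∧ ∃ g, orderOf (a * (g * a * g⁻¹)) = 3 := by
  obtain ⟨G, C, -⟩ := exists_pg as achain asd atc
  obtain ⟨N, D, -⟩ := (C.gen (lets_words C.lets nE nw) nchain nsd ntc)
  obtain ⟨S, E, -⟩ := (C.gen (lets_words C.lets sE sw) schain ssd stc)
  have r := apL_rep C.lets.rep
  have rS : ∀ w, RepF 9 (Fin.ofNat 9) (apL (nat_lit 4) (nat_lit 15) sT w) ((ev E.lets.e w : S) : G) := apL_rep E.lets.rep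
  refine ⟨G, inferInstance, inferInstance, ev C.lets.e [nat_lit 0], S, solv_step N (C.normal D nn) (solv_p (j := 2) Nat.prime_three (D.card.trans (by decide +kernel)))
    (j := 4) Nat.prime_two ?_, (ordF_spec C.inj C.base (r _) (fuel := 9) (by decide +kernel)).trans (by decide +kernel),
    (eqB_iff C.base C.inj (rS [nat_lit 0]) (r [nat_lit 0])).1 (by decide +kernel) ▸ Subtype.prop _, IsPGroup.of_card (n := 4) (E.card.trans (by decide +kernel)),
    ?_, fun c => ?_, ev C.lets.e [nat_lit 1, nat_lit 0, nat_lit 3, nat_lit 0, nat_lit 1], ?_⟩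
  · have := C.index D
    rw [show chainOrd 9 nL = 9 by decide +kernel, show chainOrd 9 aL = 144 by decide +kernel] at this
    omega
  · have := C.index E
    rw [show chainOrd 9 sL = 16 by decide +kernel, show chainOrd 9 aL = 144 by decide +kernel] at this
    omega
  · obtain ⟨f, rf, h⟩ := C.enum e c
    refine ((bor_eq_true _ _).1 h).imp (eqB_iff C.base C.inj (itF_rep rf _) (RepF.id _ _)).1 fun h => ?_
    obtain ⟨z, hz, h⟩ := anyL_spec h
    exact ⟨_, mul_inv_eq_iff_eq_mul.2 ((eqB_iff C.base C.inj ((r _).comp (r _)) ((r _).comp (r _))).1 (allL_iff.1 Zc z hz)).symm ▸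
      (eqB_iff C.base C.inj (rf.comp (r _)) ((r _).comp rf)).1 h⟩
  · rw [← eq_inv_of_mul_eq_one_right ((eqB_iff C.base C.inj ((r [nat_lit 1, nat_lit 0, nat_lit 3, nat_lit 0, nat_lit 1]).comp (r [nat_lit 2, nat_lit 0, nat_lit 3, nat_lit 0, nat_lit 2])) (RepF.id _ _)).1 (by decide +kernel))]
    exact (ordF_spec C.inj C.base ((r _).comp (((r _).comp (r _)).comp (r _))) (fuel := 9) (by decide +kernel)).trans (by decide +kernel)

end H8.AG9
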