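import Cfsg.Agent.H8.Sub2

/-! H8.Alt: chains `a4std .. a9std`, `s3std .. s8std` of small alternating and symmetric groups (generated certificate) -/

set_option autoImplicit false
set_option maxRecDepth 200000

set_option linter.all false
open Subgroup 

namespace H8.Alt

noncomputable def a4t0 : ℕ := (nat_lit 0x78)
noncomputable def a4t1 : ℕ := (nat_lit 0x9c)
noncomputable def a4t2 : ℕ := (nat_lit 0xc9)
noncomputable def a4t3 : ℕ := (nat_lit 0xd2)
noncomputable def a4T : Tr ℕ := (.node (nat_lit 2) (.node (nat_lit 1) (.leaf a4t0) (.leaf a4t1)) (.node (nat_lit 3) (.leaf a4t2) (.leaf a4t3)))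
noncomputable def a4R : Tr (List ℕ) := (.node (nat_lit 2) (.node (nat_lit 1) (.leaf [nat_lit 2, nat_lit 0, nat_lit 2, nat_lit 0]) (.leaf [nat_lit 0, nat_lit 1])) (.node (nat_lit 3) (.leaf [nat_lit 0, nat_lit 0, nat_lit 0]) (.node (nat_lit 4) (.leaf [nat_lit 2, nat_lit 3]) (.leaf [nat_lit 2, nat_lit 2, nat_lit 2]))))
noncomputable def a4L0 : Lev := ⟨(nat_lit 0), (nat_lit 4), (nat_lit 0x2030400), (nat_lit 0x2010100),
 (.node (nat_lit 2) (.node (nat_lit 1) (.leaf (nat_lit 0x3000100020000))
 (.leaf (nat_lit 0x300040000)))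
 (.node (nat_lit 3) (.leaf (nat_lit 0x4000000020001))
 (.leaf (nat_lit 0x5000300000001)))),
 (.node (nat_lit 2) (.node (nat_lit 1) (.leaf (nat_lit 0x200000100000001000000))
 (.leaf (nat_lit 0x101000101000000)))
 (.node (nat_lit 3) (.leaf (nat_lit 0x2000000000401000300))
 (.leaf (nat_lit 0x301000301000000000301))))⟩
noncomputable def a4L1 : Lev := ⟨(nat_lit 1), (nat_lit 2), (nat_lit 0x1020000), (nat_lit 0x1010000),
 (.node (nat_lit 1) (.leaf (nat_lit 0x200010000))
 (.leaf (nat_lit 0x3000000010000))),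
 (.node (nat_lit 1) (.leaf (nat_lit 0x201000100000000))
 (.leaf (nat_lit 0x101000000000101000000)))⟩
noncomputable def a4L : List Lev := [a4L0, a4L1]
theorem a4ch : Ch (alternatingGroup (Fin 4)) 4 (nat_lit 2) (nat_lit 3) (Fin.ofNat 4) a4T a4L := ch_alt (by decide +kernel)
theorem a4lev0 : levChk 4 (nat_lit 2) (nat_lit 3) a4T a4R a4L0 a4L1.N = true := by decide +kernel
theorem a4lev1 : levChk 4 (nat_lit 2) (nat_lit 3) a4T a4R a4L1 0 = true := by decide +kernel
theorem a4chain : Chain 4 (nat_lit 2) (nat_lit 3) a4T a4R a4L := chain_cons a4lev0 <| chain_one a4lev1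
theorem a4sd : band (a4R.all fun w => eqB (a4L.map Lev.b) (apL (nat_lit 2) (nat_lit 3) a4T w) fun a => a) (Nat.ble (chainOrd 4 a4L) (chainOrd 4 a4L)) = true := by decide +kernel
theorem a4std : Std (alternatingGroup (Fin 4)) 4 (nat_lit 2) (nat_lit 3) (Fin.ofNat 4) a4T a4R a4L := (a4ch.std a4ch.lets a4chain a4sd)
noncomputable def a5t0 : ℕ := (nat_lit 0x28c8)
noncomputable def a5t1 : ℕ := (nat_lit 0x3508)
noncomputable def a5t2 : ℕ := (nat_lit 0x42d0)
noncomputable def a5t3 : ℕ := (nat_lit 0x4458)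
noncomputable def a5t4 : ℕ := (nat_lit 0x4611)
noncomputable def a5t5 : ℕ := (nat_lit 0x4642)
noncomputable def a5T : Tr ℕ := (.node (nat_lit 3) (.node (nat_lit 1) (.leaf a5t0) (.node (nat_lit 2) (.leaf a5t1) (.leaf a5t2))) (.node (nat_lit 4) (.leaf a5t3) (.node (nat_lit 5) (.leaf a5t4) (.leaf a5t5))))
noncomputable def a5R : Tr (List ℕ) := (.node (nat_lit 4) (.node (nat_lit 2) (.node (nat_lit 1) (.leaf [nat_lit 1, nat_lit 2, nat_lit 5, nat_lit 0, nat_lit 4]) (.leaf [nat_lit 0, nat_lit 1])) (.node (nat_lit 3) (.leaf [nat_lit 0, nat_lit 0, nat_lit 0]) (.leaf [nat_lit 4, nat_lit 2, nat_lit 4, nat_lit 2])))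
 (.node (nat_lit 6) (.node (nat_lit 5) (.leaf [nat_lit 2, nat_lit 2, nat_lit 2]) (.leaf [nat_lit 2, nat_lit 0, nat_lit 2, nat_lit 0])) (.node (nat_lit 7) (.leaf [nat_lit 2, nat_lit 3]) (.node (nat_lit 8) (.leaf [nat_lit 4, nat_lit 5]) (.leaf [nat_lit 4, nat_lit 4, nat_lit 4])))))
noncomputable def a5L0 : Lev := ⟨(nat_lit 0), (nat_lit 6), (nat_lit 0x102050600), (nat_lit 0x202010100),
 (.node (nat_lit 3) (.node (nat_lit 1) (.leaf (nat_lit 0x2000100020000))
 (.node (nat_lit 2) (.leaf (nat_lit 0x30000000100030000))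
 (.leaf (nat_lit 0x50003000400020000))))
 (.node (nat_lit 4) (.leaf (nat_lit 0x60005000300040000))
 (.node (nat_lit 5) (.leaf (nat_lit 0x70005000000020001))
 (.leaf (nat_lit 0x60006000300000001))))),
 (.node (nat_lit 3) (.node (nat_lit 1) (.leaf (nat_lit 0x201000100000003000000))
 (.node (nat_lit 2) (.leaf (nat_lit 0x101000000000101000101000000))
 (.leaf (nat_lit 0x502000500000401000301000000))))
 (.node (nat_lit 4) (.leaf (nat_lit 0x601000601000601000601000000))
 (.node (nat_lit 5) (.leaf (nat_lit 0x700000302000000000801000700))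
 (.leaf (nat_lit 0x2000701000701000000000701)))))⟩
noncomputable def a5L1 : Lev := ⟨(nat_lit 1), (nat_lit 4), (nat_lit 0x203040000), (nat_lit 0x201010000),
 (.node (nat_lit 2) (.node (nat_lit 1) (.leaf (nat_lit 0x30001000200000000))
 (.leaf (nat_lit 0x3000400000000)))
 (.node (nat_lit 3) (.leaf (nat_lit 0x40000000200010000))
 (.leaf (nat_lit 0x50003000000010000)))),
 (.node (nat_lit 2) (.node (nat_lit 1) (.leaf (nat_lit 0x200000100000501000000000000))
 (.leaf (nat_lit 0x101000101000000000000)))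
 (.node (nat_lit 3) (.leaf (nat_lit 0x502000000000401000600000000))
 (.leaf (nat_lit 0x601000601000000000601000000))))⟩
noncomputable def a5L2 : Lev := ⟨(nat_lit 2), (nat_lit 2), (nat_lit 0x102000000), (nat_lit 0x101000000),
 (.node (nat_lit 1) (.leaf (nat_lit 0x2000100000000))
 (.leaf (nat_lit 0x30000000100000000))),
 (.node (nat_lit 1) (.leaf (nat_lit 0x201000100000000000000))
 (.leaf (nat_lit 0x101000000000101000000000000)))⟩
noncomputable def a5L : List Lev := [a5L0, a5L1, a5L2]
theorem a5ch : Ch (alternatingGroup (Fin 5)) 5 (nat_lit 3) (nat_lit 7) (Fin.ofNat 5) a5T a5L := ch_alt (by decide +kernel)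
theorem a5lev0 : levChk 5 (nat_lit 3) (nat_lit 7) a5T a5R a5L0 a5L1.N = true := by decide +kernel
theorem a5lev1 : levChk 5 (nat_lit 3) (nat_lit 7) a5T a5R a5L1 a5L2.N = true := by decide +kernel
theorem a5lev2 : levChk 5 (nat_lit 3) (nat_lit 7) a5T a5R a5L2 0 = true := by decide +kernel
theorem a5chain : Chain 5 (nat_lit 3) (nat_lit 7) a5T a5R a5L := chain_cons a5lev0 <| chain_cons a5lev1 <| chain_one a5lev2
theorem a5sd : band (a5R.all fun w => eqB (a5L.map Lev.b) (apL (nat_lit 3) (nat_lit 7) a5T w) fun a => a) (Nat.ble (chainOrd 5 a5L) (chainOrd 5 a5L)) = true := by decide +kernel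
theorem a5std : Std (alternatingGroup (Fin 5)) 5 (nat_lit 3) (nat_lit 7) (Fin.ofNat 5) a5T a5R a5L := (a5ch.std a5ch.lets a5chain a5sd)
noncomputable def a6t0 : ℕ := (nat_lit 0x1d888)
noncomputable def a6t1 : ℕ := (nat_lit 0x23a88)
noncomputable def a6t2 : ℕ := (nat_lit 0x2a8c8)
noncomputable def a6t3 : ℕ := (nat_lit 0x2b508)
noncomputable def a6t4 : ℕ := (nat_lit 0x2c2d0)
noncomputable def a6t5 : ℕ := (nat_lit 0x2c458)
noncomputable def a6t6 : ℕ := (nat_lit 0x2c611)
noncomputable def a6t7 : ℕ := (nat_lit 0x2c642)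
noncomputable def a6T : Tr ℕ := (.node (nat_lit 4) (.node (nat_lit 2) (.node (nat_lit 1) (.leaf a6t0) (.leaf a6t1)) (.node (nat_lit 3) (.leaf a6t2) (.leaf a6t3)))
 (.node (nat_lit 6) (.node (nat_lit 5) (.leaf a6t4) (.leaf a6t5)) (.node (nat_lit 7) (.leaf a6t6) (.leaf a6t7))))
noncomputable def a6R : Tr (List ℕ) := (.node (nat_lit 6) (.node (nat_lit 3) (.node (nat_lit 1) (.leaf [nat_lit 0, nat_lit 1]) (.node (nat_lit 2) (.leaf [nat_lit 6, nat_lit 0, nat_lit 7, nat_lit 1]) (.leaf [nat_lit 2, nat_lit 0, nat_lit 2, nat_lit 0]))) (.node (nat_lit 4) (.leaf [nat_lit 0, nat_lit 0, nat_lit 0]) (.node (nat_lit 5) (.leaf [nat_lit 1, nat_lit 2, nat_lit 5, nat_lit 0, nat_lit 4]) (.leaf [nat_lit 2, nat_lit 3]))))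
 (.node (nat_lit 9) (.node (nat_lit 7) (.leaf [nat_lit 2, nat_lit 2, nat_lit 2]) (.node (nat_lit 8) (.leaf [nat_lit 6, nat_lit 4, nat_lit 6, nat_lit 4]) (.leaf [nat_lit 4, nat_lit 4, nat_lit 4])))
 (.node (nat_lit 11) (.node (nat_lit 10) (.leaf [nat_lit 4, nat_lit 2, nat_lit 4, nat_lit 2]) (.leaf [nat_lit 4, nat_lit 5])) (.node (nat_lit 12) (.leaf [nat_lit 6, nat_lit 7]) (.leaf [nat_lit 6, nat_lit 6, nat_lit 6])))))
noncomputable def a6L0 : Lev := ⟨(nat_lit 0), (nat_lit 8), (nat_lit 0x20304070800), (nat_lit 0x30202010100),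
 (.node (nat_lit 4) (.node (nat_lit 2) (.node (nat_lit 1) (.leaf (nat_lit 0x400010003000200030000))
 (.leaf (nat_lit 0x40005000300020000)))
 (.node (nat_lit 3) (.leaf (nat_lit 0x500000002000100040000))
 (.leaf (nat_lit 0x600030000000100050000))))
 (.node (nat_lit 6) (.node (nat_lit 5) (.leaf (nat_lit 0x900070005000600020000))
 (.leaf (nat_lit 0x800080007000300060000)))
 (.node (nat_lit 7) (.leaf (nat_lit 0x900090007000000020001))
 (.leaf (nat_lit 0x8000a0008000300000001))))),
 (.node (nat_lit 4) (.node (nat_lit 2) (.node (nat_lit 1) (.leaf (nat_lit 0x300000000000201000101000000000000))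
 (.leaf (nat_lit 0x1000001000001000103000000)))
 (.node (nat_lit 3) (.leaf (nat_lit 0x202000000000601000500000401000000))
 (.leaf (nat_lit 0x501000501000000000501000501000000))))
 (.node (nat_lit 6) (.node (nat_lit 5) (.leaf (nat_lit 0xa00000902000900000801000701000000))
 (.leaf (nat_lit 0x402000a01000a01000a01000a01000000)))
 (.node (nat_lit 7) (.leaf (nat_lit 0xb00000100000702000000000c01000b00))
 (.leaf (nat_lit 0x102000b01000b01000b01000000000b01)))))⟩
noncomputable def a6L1 : Lev := ⟨(nat_lit 1), (nat_lit 6), (nat_lit 0x10205060000), (nat_lit 0x20201010000),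
 (.node (nat_lit 3) (.node (nat_lit 1) (.leaf (nat_lit 0x20001000200000000))
 (.node (nat_lit 2) (.leaf (nat_lit 0x300000001000300000000))
 (.leaf (nat_lit 0x500030004000200000000))))
 (.node (nat_lit 4) (.leaf (nat_lit 0x600050003000400000000))
 (.node (nat_lit 5) (.leaf (nat_lit 0x700050000000200010000))
 (.leaf (nat_lit 0x600060003000000010000))))),
 (.node (nat_lit 3) (.node (nat_lit 1) (.leaf (nat_lit 0x301000000000403000000000000))
 (.node (nat_lit 2) (.leaf (nat_lit 0x1000000000001000001000000000000))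
 (.leaf (nat_lit 0x202000200000601000901000000000000))))
 (.node (nat_lit 4) (.leaf (nat_lit 0x501000501000501000501000000000000))
 (.node (nat_lit 5) (.leaf (nat_lit 0xa00000902000000000801000a00000000))
 (.leaf (nat_lit 0x402000a01000a01000000000a01000000)))))⟩
noncomputable def a6L2 : Lev := ⟨(nat_lit 2), (nat_lit 4), (nat_lit 0x20304000000), (nat_lit 0x20101000000),
 (.node (nat_lit 2) (.node (nat_lit 1) (.leaf (nat_lit 0x300010002000000000000))
 (.leaf (nat_lit 0x30004000000000000)))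
 (.node (nat_lit 3) (.leaf (nat_lit 0x400000002000100000000))
 (.leaf (nat_lit 0x500030000000100000000)))),
 (.node (nat_lit 2) (.node (nat_lit 1) (.leaf (nat_lit 0x300000000000201000000000000000000))
 (.leaf (nat_lit 0x1000001000000000000000000)))
 (.node (nat_lit 3) (.leaf (nat_lit 0x202000000000601000500000000000000))
 (.leaf (nat_lit 0x501000501000000000501000000000000))))⟩
noncomputable def a6L3 : Lev := ⟨(nat_lit 3), (nat_lit 2), (nat_lit 0x10200000000), (nat_lit 0x10100000000),
 (.node (nat_lit 1) (.leaf (nat_lit 0x20001000000000000))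
 (.leaf (nat_lit 0x300000001000000000000))),
 (.node (nat_lit 1) (.leaf (nat_lit 0x301000000000000000000000000))
 (.leaf (nat_lit 0x1000000000001000000000000000000)))⟩
noncomputable def a6L : List Lev := [a6L0, a6L1, a6L2, a6L3]
theorem a6ch : Ch (alternatingGroup (Fin 6)) 6 (nat_lit 3) (nat_lit 7) (Fin.ofNat 6) a6T a6L := ch_alt (by decide +kernel)
theorem a6lev0 : levChk 6 (nat_lit 3) (nat_lit 7) a6T a6R a6L0 a6L1.N = true := by decide +kernel
theorem a6lev1 : levChk 6 (nat_lit 3) (nat_lit 7) a6T a6R a6L1 a6L2.N = true := by decide +kernel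
theorem a6lev2 : levChk 6 (nat_lit 3) (nat_lit 7) a6T a6R a6L2 a6L3.N = true := by decide +kernel
theorem a6lev3 : levChk 6 (nat_lit 3) (nat_lit 7) a6T a6R a6L3 0 = true := by decide +kernel
theorem a6chain : Chain 6 (nat_lit 3) (nat_lit 7) a6T a6R a6L := chain_cons a6lev0 <| chain_cons a6lev1 <| chain_cons a6lev2 <| chain_one a6lev3
theorem a6sd : band (a6R.all fun w => eqB (a6L.map Lev.b) (apL (nat_lit 3) (nat_lit 7) a6T w) fun a => a) (Nat.ble (chainOrd 6 a6L) (chainOrd 6 a6L)) = true := by decide +kernel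
theorem a6std : Std (alternatingGroup (Fin 6)) 6 (nat_lit 3) (nat_lit 7) (Fin.ofNat 6) a6T a6R a6L := (a6ch.std a6ch.lets a6chain a6sd)
noncomputable def a7t0 : ℕ := (nat_lit 0x135688)
noncomputable def a7t1 : ℕ := (nat_lit 0x166688)
noncomputable def a7t2 : ℕ := (nat_lit 0x19d888)
noncomputable def a7t3 : ℕ := (nat_lit 0x1a3a88)
noncomputable def a7t4 : ℕ := (nat_lit 0x1aa8c8)
noncomputable def a7t5 : ℕ := (nat_lit 0x1ab508)
noncomputable def a7t6 : ℕ := (nat_lit 0x1ac2d0)
noncomputable def a7t7 : ℕ := (nat_lit 0x1ac458)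
noncomputable def a7t8 : ℕ := (nat_lit 0x1ac611)
noncomputable def a7t9 : ℕ := (nat_lit 0x1ac642)
noncomputable def a7T : Tr ℕ := (.node (nat_lit 5) (.node (nat_lit 2) (.node (nat_lit 1) (.leaf a7t0) (.leaf a7t1)) (.node (nat_lit 3) (.leaf a7t2) (.node (nat_lit 4) (.leaf a7t3) (.leaf a7t4))))
 (.node (nat_lit 7) (.node (nat_lit 6) (.leaf a7t5) (.leaf a7t6)) (.node (nat_lit 8) (.leaf a7t7) (.node (nat_lit 9) (.leaf a7t8) (.leaf a7t9)))))
noncomputable def a7R : Tr (List ℕ) := (.node (nat_lit 9) (.node (nat_lit 4) (.node (nat_lit 2) (.node (nat_lit 1) (.leaf [nat_lit 0, nat_lit 1]) (.leaf [nat_lit 8, nat_lit 0, nat_lit 9, nat_lit 1])) (.node (nat_lit 3) (.leaf [nat_lit 2, nat_lit 0, nat_lit 2, nat_lit 0]) (.leaf [nat_lit 0, nat_lit 0, nat_lit 0])))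
 (.node (nat_lit 6) (.node (nat_lit 5) (.leaf [nat_lit 2, nat_lit 3]) (.leaf [nat_lit 8, nat_lit 2, nat_lit 9, nat_lit 3])) (.node (nat_lit 7) (.leaf [nat_lit 4, nat_lit 2, nat_lit 4, nat_lit 2]) (.node (nat_lit 8) (.leaf [nat_lit 1, nat_lit 2, nat_lit 5, nat_lit 0, nat_lit 4]) (.leaf [nat_lit 2, nat_lit 2, nat_lit 2])))))
 (.node (nat_lit 14) (.node (nat_lit 11) (.node (nat_lit 10) (.leaf [nat_lit 5, nat_lit 6, nat_lit 9, nat_lit 4, nat_lit 8]) (.leaf [nat_lit 4, nat_lit 5])) (.node (nat_lit 12) (.leaf [nat_lit 4, nat_lit 4, nat_lit 4]) (.node (nat_lit 13) (.leaf [nat_lit 8, nat_lit 6, nat_lit 8, nat_lit 6]) (.leaf [nat_lit 6, nat_lit 6, nat_lit 6]))))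
 (.node (nat_lit 16) (.node (nat_lit 15) (.leaf [nat_lit 6, nat_lit 4, nat_lit 6, nat_lit 4]) (.leaf [nat_lit 6, nat_lit 0, nat_lit 7, nat_lit 1])) (.node (nat_lit 17) (.leaf [nat_lit 6, nat_lit 7]) (.node (nat_lit 18) (.leaf [nat_lit 8, nat_lit 9]) (.leaf [nat_lit 8, nat_lit 8, nat_lit 8]))))))
noncomputable def a7L0 : Lev := ⟨(nat_lit 0), (nat_lit 10), (nat_lit 0x1020506090a00), (nat_lit 0x3030202010100),
 (.node (nat_lit 5) (.node (nat_lit 2) (.node (nat_lit 1) (.leaf (nat_lit 0x200010005000200030000))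
 (.leaf (nat_lit 0x3000000010006000300020000)))
 (.node (nat_lit 3) (.leaf (nat_lit 0x4000400030003000200030000))
 (.node (nat_lit 4) (.leaf (nat_lit 0x5000400040005000300020000))
 (.leaf (nat_lit 0x7000500000002000100020000)))))
 (.node (nat_lit 7) (.node (nat_lit 6) (.leaf (nat_lit 0x6000600030000000100030000))
 (.leaf (nat_lit 0x7000700050003000400020000)))
 (.node (nat_lit 8) (.leaf (nat_lit 0x6000800060005000300040000))
 (.node (nat_lit 9) (.leaf (nat_lit 0xb000700090005000000020001))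
 (.leaf (nat_lit 0xa000600080006000300000001)))))),
 (.node (nat_lit 5) (.node (nat_lit 2) (.node (nat_lit 1) (.leaf (nat_lit 0x301000000000203000101000000000000))
 (.leaf (nat_lit 0x1000000000001000001000001000103000000)))
 (.node (nat_lit 3) (.leaf (nat_lit 0x202000800000701000601000501000400000000))
 (.node (nat_lit 4) (.leaf (nat_lit 0x401000401000401000401000401000503000000))
 (.leaf (nat_lit 0xa00000602000000000b01000a00000903000000)))))
 (.node (nat_lit 7) (.node (nat_lit 6) (.leaf (nat_lit 0x702000a01000a01000000000a01000a01000000))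
 (.leaf (nat_lit 0x1000000f00000e02000e00000d01000c01000000)))
 (.node (nat_lit 8) (.leaf (nat_lit 0xf02001001001001001001001001001001000000))
 (.node (nat_lit 9) (.leaf (nat_lit 0x1100001100001100000c02000000001201001100))
 (.leaf (nat_lit 0x102000502000102001101001101000000001101))))))⟩
noncomputable def a7L1 : Lev := ⟨(nat_lit 1), (nat_lit 8), (nat_lit 0x2030407080000), (nat_lit 0x3020201010000),
 (.node (nat_lit 4) (.node (nat_lit 2) (.node (nat_lit 1) (.leaf (nat_lit 0x4000100030002000300000000))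
 (.leaf (nat_lit 0x400050003000200000000)))
 (.node (nat_lit 3) (.leaf (nat_lit 0x5000000020001000400000000))
 (.leaf (nat_lit 0x6000300000001000500000000))))
 (.node (nat_lit 6) (.node (nat_lit 5) (.leaf (nat_lit 0x9000700050006000200000000))
 (.leaf (nat_lit 0x8000800070003000600000000)))
 (.node (nat_lit 7) (.leaf (nat_lit 0x9000900070000000200010000))
 (.leaf (nat_lit 0x8000a00080003000000010000))))),
 (.node (nat_lit 4) (.node (nat_lit 2) (.node (nat_lit 1) (.leaf (nat_lit 0x300000000000201000f01000000000000000000))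
 (.leaf (nat_lit 0x1000001000001000f03000000000000)))
 (.node (nat_lit 3) (.leaf (nat_lit 0x202000000000801000400000701000000000000))
 (.leaf (nat_lit 0x401000401000000000401000401000000000000))))
 (.node (nat_lit 6) (.node (nat_lit 5) (.leaf (nat_lit 0xa00000602000600000b01000e01000000000000))
 (.leaf (nat_lit 0x702000a01000a01000a01000a01000000000000)))
 (.node (nat_lit 7) (.leaf (nat_lit 0x1000000f00000e02000000000d01001000000000))
 (.leaf (nat_lit 0xf02001001001001001001000000001001000000)))))⟩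
noncomputable def a7L2 : Lev := ⟨(nat_lit 2), (nat_lit 6), (nat_lit 0x1020506000000), (nat_lit 0x2020101000000),
 (.node (nat_lit 3) (.node (nat_lit 1) (.leaf (nat_lit 0x200010002000000000000))
 (.node (nat_lit 2) (.leaf (nat_lit 0x3000000010003000000000000))
 (.leaf (nat_lit 0x5000300040002000000000000))))
 (.node (nat_lit 4) (.leaf (nat_lit 0x6000500030004000000000000))
 (.node (nat_lit 5) (.leaf (nat_lit 0x7000500000002000100000000))
 (.leaf (nat_lit 0x6000600030000000100000000))))),
 (.node (nat_lit 3) (.node (nat_lit 1) (.leaf (nat_lit 0x301000000000703000000000000000000))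
 (.node (nat_lit 2) (.leaf (nat_lit 0x1000000000001000001000000000000000000))
 (.leaf (nat_lit 0x202000200000801000601000000000000000000))))
 (.node (nat_lit 4) (.leaf (nat_lit 0x401000401000401000401000000000000000000))
 (.node (nat_lit 5) (.leaf (nat_lit 0xa00000602000000000b01000a00000000000000))
 (.leaf (nat_lit 0x702000a01000a01000000000a01000000000000)))))⟩
noncomputable def a7L3 : Lev := ⟨(nat_lit 3), (nat_lit 4), (nat_lit 0x2030400000000), (nat_lit 0x2010100000000),
 (.node (nat_lit 2) (.node (nat_lit 1) (.leaf (nat_lit 0x3000100020000000000000000))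
 (.leaf (nat_lit 0x300040000000000000000)))
 (.node (nat_lit 3) (.leaf (nat_lit 0x4000000020001000000000000))
 (.leaf (nat_lit 0x5000300000001000000000000)))),
 (.node (nat_lit 2) (.node (nat_lit 1) (.leaf (nat_lit 0x300000000000201000000000000000000000000))
 (.leaf (nat_lit 0x1000001000000000000000000000000)))
 (.node (nat_lit 3) (.leaf (nat_lit 0x202000000000801000400000000000000000000))
 (.leaf (nat_lit 0x401000401000000000401000000000000000000))))⟩
noncomputable def a7L4 : Lev := ⟨(nat_lit 4), (nat_lit 2), (nat_lit 0x1020000000000), (nat_lit 0x1010000000000),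
 (.node (nat_lit 1) (.leaf (nat_lit 0x200010000000000000000))
 (.leaf (nat_lit 0x3000000010000000000000000))),
 (.node (nat_lit 1) (.leaf (nat_lit 0x301000000000000000000000000000000))
 (.leaf (nat_lit 0x1000000000001000000000000000000000000)))⟩
noncomputable def a7L : List Lev := [a7L0, a7L1, a7L2, a7L3, a7L4]
theorem a7ch : Ch (alternatingGroup (Fin 7)) 7 (nat_lit 3) (nat_lit 7) (Fin.ofNat 7) a7T a7L := ch_alt (by decide +kernel)
theorem a7lev0 : levChk 7 (nat_lit 3) (nat_lit 7) a7T a7R a7L0 a7L1.N = true := by decide +kernel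
theorem a7lev1 : levChk 7 (nat_lit 3) (nat_lit 7) a7T a7R a7L1 a7L2.N = true := by decide +kernel
theorem a7lev2 : levChk 7 (nat_lit 3) (nat_lit 7) a7T a7R a7L2 a7L3.N = true := by decide +kernel
theorem a7lev3 : levChk 7 (nat_lit 3) (nat_lit 7) a7T a7R a7L3 a7L4.N = true := by decide +kernel
theorem a7lev4 : levChk 7 (nat_lit 3) (nat_lit 7) a7T a7R a7L4 0 = true := by decide +kernel
theorem a7chain : Chain 7 (nat_lit 3) (nat_lit 7) a7T a7R a7L := chain_cons a7lev0 <| chain_cons a7lev1 <| chain_cons a7lev2 <| chain_cons a7lev3 <| chain_one a7lev4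
theorem a7sd : band (a7R.all fun w => eqB (a7L.map Lev.b) (apL (nat_lit 3) (nat_lit 7) a7T w) fun a => a) (Nat.ble (chainOrd 7 a7L) (chainOrd 7 a7L)) = true := by decide +kernel
theorem a7std : Std (alternatingGroup (Fin 7)) 7 (nat_lit 3) (nat_lit 7) (Fin.ofNat 7) a7T a7R a7L := (a7ch.std a7ch.lets a7chain a7sd)
noncomputable def a8t0 : ℕ := (nat_lit 0xbf4688)
noncomputable def a8t1 : ℕ := (nat_lit 0xd7c688)
noncomputable def a8t2 : ℕ := (nat_lit 0xf35688)
noncomputable def a8t3 : ℕ := (nat_lit 0xf66688)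
noncomputable def a8t4 : ℕ := (nat_lit 0xf9d888)
noncomputable def a8t5 : ℕ := (nat_lit 0xfa3a88)
noncomputable def a8t6 : ℕ := (nat_lit 0xfaa8c8)
noncomputable def a8t7 : ℕ := (nat_lit 0xfab508)
noncomputable def a8t8 : ℕ := (nat_lit 0xfac2d0)
noncomputable def a8t9 : ℕ := (nat_lit 0xfac458)
noncomputable def a8t10 : ℕ := (nat_lit 0xfac611)
noncomputable def a8t11 : ℕ := (nat_lit 0xfac642)
noncomputable def a8T : Tr ℕ := (.node (nat_lit 6) (.node (nat_lit 3) (.node (nat_lit 1) (.leaf a8t0) (.node (nat_lit 2) (.leaf a8t1) (.leaf a8t2))) (.node (nat_lit 4) (.leaf a8t3) (.node (nat_lit 5) (.leaf a8t4) (.leaf a8t5))))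
 (.node (nat_lit 9) (.node (nat_lit 7) (.leaf a8t6) (.node (nat_lit 8) (.leaf a8t7) (.leaf a8t8))) (.node (nat_lit 10) (.leaf a8t9) (.node (nat_lit 11) (.leaf a8t10) (.leaf a8t11)))))
noncomputable def a8R : Tr (List ℕ) := (.node (nat_lit 12) (.node (nat_lit 6) (.node (nat_lit 3) (.node (nat_lit 1) (.leaf [nat_lit 0, nat_lit 1]) (.node (nat_lit 2) (.leaf [nat_lit 10, nat_lit 0, nat_lit 11, nat_lit 1]) (.leaf [nat_lit 6, nat_lit 0, nat_lit 7, nat_lit 1]))) (.node (nat_lit 4) (.leaf [nat_lit 2, nat_lit 0, nat_lit 2, nat_lit 0]) (.node (nat_lit 5) (.leaf [nat_lit 0, nat_lit 0, nat_lit 0]) (.leaf [nat_lit 8, nat_lit 2, nat_lit 9, nat_lit 3]))))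
 (.node (nat_lit 9) (.node (nat_lit 7) (.leaf [nat_lit 10, nat_lit 2, nat_lit 11, nat_lit 3]) (.node (nat_lit 8) (.leaf [nat_lit 1, nat_lit 2, nat_lit 5, nat_lit 0, nat_lit 4]) (.leaf [nat_lit 2, nat_lit 3]))) (.node (nat_lit 10) (.leaf [nat_lit 2, nat_lit 2, nat_lit 2]) (.node (nat_lit 11) (.leaf [nat_lit 4, nat_lit 5]) (.leaf [nat_lit 10, nat_lit 4, nat_lit 11, nat_lit 5])))))
 (.node (nat_lit 18) (.node (nat_lit 15) (.node (nat_lit 13) (.leaf [nat_lit 6, nat_lit 4, nat_lit 6, nat_lit 4]) (.node (nat_lit 14) (.leaf [nat_lit 4, nat_lit 4, nat_lit 4]) (.leaf [nat_lit 4, nat_lit 2, nat_lit 4, nat_lit 2]))) (.node (nat_lit 16) (.leaf [nat_lit 5, nat_lit 6, nat_lit 9, nat_lit 4, nat_lit 8]) (.node (nat_lit 17) (.leaf [nat_lit 6, nat_lit 7]) (.leaf [nat_lit 6, nat_lit 6, nat_lit 6]))))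
 (.node (nat_lit 21) (.node (nat_lit 19) (.leaf [nat_lit 10, nat_lit 8, nat_lit 10, nat_lit 8]) (.node (nat_lit 20) (.leaf [nat_lit 8, nat_lit 8, nat_lit 8]) (.leaf [nat_lit 8, nat_lit 6, nat_lit 8, nat_lit 6])))
 (.node (nat_lit 23) (.node (nat_lit 22) (.leaf [nat_lit 8, nat_lit 9]) (.leaf [nat_lit 8, nat_lit 0, nat_lit 9, nat_lit 1])) (.node (nat_lit 24) (.leaf [nat_lit 10, nat_lit 11]) (.leaf [nat_lit 10, nat_lit 10, nat_lit 10]))))))
noncomputable def a8L0 : Lev := ⟨(nat_lit 0), (nat_lit 12), (nat_lit 0x2030407080b0c00), (nat_lit 0x403030202010100),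
 (.node (nat_lit 6) (.node (nat_lit 3) (.node (nat_lit 1) (.leaf (nat_lit 0x60001000500040004000200030000))
 (.node (nat_lit 2) (.leaf (nat_lit 0x6000700050003000300020000))
 (.leaf (nat_lit 0x70000000200010005000200040000))))
 (.node (nat_lit 4) (.leaf (nat_lit 0x80003000000010006000300050000))
 (.node (nat_lit 5) (.leaf (nat_lit 0xa0008000600070003000200030000))
 (.leaf (nat_lit 0x90009000800040007000300020000)))))
 (.node (nat_lit 9) (.node (nat_lit 7) (.leaf (nat_lit 0xa000a000800000002000100040000))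
 (.node (nat_lit 8) (.leaf (nat_lit 0x9000b000900030000000100050000))
 (.leaf (nat_lit 0xd0009000b00070005000600020000))))
 (.node (nat_lit 10) (.leaf (nat_lit 0xc0008000a00080007000300060000))
 (.node (nat_lit 11) (.leaf (nat_lit 0xb00090009000b0007000000020001))
 (.leaf (nat_lit 0xa000a0008000c0008000300000001)))))),
 (.node (nat_lit 6) (.node (nat_lit 3) (.node (nat_lit 1) (.leaf (nat_lit 0x400000000000301000201000000000101000000000000))
 (.node (nat_lit 2) (.leaf (nat_lit 0x1000001000001000203000001000103000000))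
 (.leaf (nat_lit 0x302000000000901000800000701000601000501000000))))
 (.node (nat_lit 4) (.leaf (nat_lit 0x801000801000000000801000801000801000801000000))
 (.node (nat_lit 5) (.leaf (nat_lit 0xa00000e02000e00000d01000c01000b01000a00000000))
 (.leaf (nat_lit 0x702000a01000a01000a01000a01000a01000b03000000)))))
 (.node (nat_lit 9) (.node (nat_lit 7) (.leaf (nat_lit 0x1000000200000c02000000001101001000000f01000000))
 (.node (nat_lit 8) (.leaf (nat_lit 0x202001001001001001001000000001001001001000000))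
 (.leaf (nat_lit 0x1500001500001500001402001400001301001201000000))))
 (.node (nat_lit 10) (.leaf (nat_lit 0x1602000502001602001501001501001501001501000000))
 (.node (nat_lit 11) (.leaf (nat_lit 0x1700000100001700000600001202000000001801001700))
 (.leaf (nat_lit 0x102001701000b02001701001701001701000000001701))))))⟩
noncomputable def a8L1 : Lev := ⟨(nat_lit 1), (nat_lit 10), (nat_lit 0x1020506090a0000), (nat_lit 0x303020201010000),
 (.node (nat_lit 5) (.node (nat_lit 2) (.node (nat_lit 1) (.leaf (nat_lit 0x2000100050002000300000000))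
 (.leaf (nat_lit 0x30000000100060003000200000000)))
 (.node (nat_lit 3) (.leaf (nat_lit 0x40004000300030002000300000000))
 (.node (nat_lit 4) (.leaf (nat_lit 0x50004000400050003000200000000))
 (.leaf (nat_lit 0x70005000000020001000200000000)))))
 (.node (nat_lit 7) (.node (nat_lit 6) (.leaf (nat_lit 0x60006000300000001000300000000))
 (.leaf (nat_lit 0x70007000500030004000200000000)))
 (.node (nat_lit 8) (.leaf (nat_lit 0x60008000600050003000400000000))
 (.node (nat_lit 9) (.leaf (nat_lit 0xb0007000900050000000200010000))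
 (.leaf (nat_lit 0xa0006000800060003000000010000)))))),
 (.node (nat_lit 5) (.node (nat_lit 2) (.node (nat_lit 1) (.leaf (nat_lit 0x401000000000303001601000000000000000000))
 (.leaf (nat_lit 0x1000000000001000001000001001603000000000000)))
 (.node (nat_lit 3) (.leaf (nat_lit 0x302000900000701000e01000501000800000000000000))
 (.node (nat_lit 4) (.leaf (nat_lit 0x801000801000801000801000801000503000000000000))
 (.leaf (nat_lit 0xa00000e02000000000d01000a00000f03000000000000)))))
 (.node (nat_lit 7) (.node (nat_lit 6) (.leaf (nat_lit 0x702000a01000a01000000000a01000a01000000000000))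
 (.leaf (nat_lit 0x1000000200000c02000c00001101001401000000000000)))
 (.node (nat_lit 8) (.leaf (nat_lit 0x202001001001001001001001001001001000000000000))
 (.node (nat_lit 9) (.leaf (nat_lit 0x1500001500001500001402000000001301001500000000))
 (.leaf (nat_lit 0x1602000502001602001501001501000000001501000000))))))⟩
noncomputable def a8L2 : Lev := ⟨(nat_lit 2), (nat_lit 8), (nat_lit 0x203040708000000), (nat_lit 0x302020101000000),
 (.node (nat_lit 4) (.node (nat_lit 2) (.node (nat_lit 1) (.leaf (nat_lit 0x40001000300020003000000000000))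
 (.leaf (nat_lit 0x4000500030002000000000000)))
 (.node (nat_lit 3) (.leaf (nat_lit 0x50000000200010004000000000000))
 (.leaf (nat_lit 0x60003000000010005000000000000))))
 (.node (nat_lit 6) (.node (nat_lit 5) (.leaf (nat_lit 0x90007000500060002000000000000))
 (.leaf (nat_lit 0x80008000700030006000000000000)))
 (.node (nat_lit 7) (.leaf (nat_lit 0x90009000700000002000100000000))
 (.leaf (nat_lit 0x8000a000800030000000100000000))))),
 (.node (nat_lit 4) (.node (nat_lit 2) (.node (nat_lit 1) (.leaf (nat_lit 0x400000000000301000201000000000000000000000000))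
 (.leaf (nat_lit 0x1000001000001000203000000000000000000)))
 (.node (nat_lit 3) (.leaf (nat_lit 0x302000000000901000800000701000000000000000000))
 (.leaf (nat_lit 0x801000801000000000801000801000000000000000000))))
 (.node (nat_lit 6) (.node (nat_lit 5) (.leaf (nat_lit 0xa00000e02000e00000d01000c01000000000000000000))
 (.leaf (nat_lit 0x702000a01000a01000a01000a01000000000000000000)))
 (.node (nat_lit 7) (.leaf (nat_lit 0x1000000200000c02000000001101001000000000000000))
 (.leaf (nat_lit 0x202001001001001001001000000001001000000000000)))))⟩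
noncomputable def a8L3 : Lev := ⟨(nat_lit 3), (nat_lit 6), (nat_lit 0x102050600000000), (nat_lit 0x202010100000000),
 (.node (nat_lit 3) (.node (nat_lit 1) (.leaf (nat_lit 0x2000100020000000000000000))
 (.node (nat_lit 2) (.leaf (nat_lit 0x30000000100030000000000000000))
 (.leaf (nat_lit 0x50003000400020000000000000000))))
 (.node (nat_lit 4) (.leaf (nat_lit 0x60005000300040000000000000000))
 (.node (nat_lit 5) (.leaf (nat_lit 0x70005000000020001000000000000))
 (.leaf (nat_lit 0x60006000300000001000000000000))))),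
 (.node (nat_lit 3) (.node (nat_lit 1) (.leaf (nat_lit 0x401000000000703000000000000000000000000))
 (.node (nat_lit 2) (.leaf (nat_lit 0x1000000000001000001000000000000000000000000))
 (.leaf (nat_lit 0x302000300000901000e01000000000000000000000000))))
 (.node (nat_lit 4) (.leaf (nat_lit 0x801000801000801000801000000000000000000000000))
 (.node (nat_lit 5) (.leaf (nat_lit 0xa00000e02000000000d01000a00000000000000000000))
 (.leaf (nat_lit 0x702000a01000a01000000000a01000000000000000000)))))⟩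
noncomputable def a8L4 : Lev := ⟨(nat_lit 4), (nat_lit 4), (nat_lit 0x203040000000000), (nat_lit 0x201010000000000),
 (.node (nat_lit 2) (.node (nat_lit 1) (.leaf (nat_lit 0x30001000200000000000000000000))
 (.leaf (nat_lit 0x3000400000000000000000000)))
 (.node (nat_lit 3) (.leaf (nat_lit 0x40000000200010000000000000000))
 (.leaf (nat_lit 0x50003000000010000000000000000)))),
 (.node (nat_lit 2) (.node (nat_lit 1) (.leaf (nat_lit 0x400000000000301000000000000000000000000000000))
 (.leaf (nat_lit 0x1000001000000000000000000000000000000)))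
 (.node (nat_lit 3) (.leaf (nat_lit 0x302000000000901000800000000000000000000000000))
 (.leaf (nat_lit 0x801000801000000000801000000000000000000000000))))⟩
noncomputable def a8L5 : Lev := ⟨(nat_lit 5), (nat_lit 2), (nat_lit 0x102000000000000), (nat_lit 0x101000000000000),
 (.node (nat_lit 1) (.leaf (nat_lit 0x2000100000000000000000000))
 (.leaf (nat_lit 0x30000000100000000000000000000))),
 (.node (nat_lit 1) (.leaf (nat_lit 0x401000000000000000000000000000000000000))
 (.leaf (nat_lit 0x1000000000001000000000000000000000000000000)))⟩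
noncomputable def a8L : List Lev := [a8L0, a8L1, a8L2, a8L3, a8L4, a8L5]
theorem a8ch : Ch (alternatingGroup (Fin 8)) 8 (nat_lit 3) (nat_lit 7) (Fin.ofNat 8) a8T a8L := ch_alt (by decide +kernel)
theorem a8lev0 : levChk 8 (nat_lit 3) (nat_lit 7) a8T a8R a8L0 a8L1.N = true := by decide +kernel
theorem a8lev1 : levChk 8 (nat_lit 3) (nat_lit 7) a8T a8R a8L1 a8L2.N = true := by decide +kernel
theorem a8lev2 : levChk 8 (nat_lit 3) (nat_lit 7) a8T a8R a8L2 a8L3.N = true := by decide +kernel
theorem a8lev3 : levChk 8 (nat_lit 3) (nat_lit 7) a8T a8R a8L3 a8L4.N = true := by decide +kernel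
theorem a8lev4 : levChk 8 (nat_lit 3) (nat_lit 7) a8T a8R a8L4 a8L5.N = true := by decide +kernel
theorem a8lev5 : levChk 8 (nat_lit 3) (nat_lit 7) a8T a8R a8L5 0 = true := by decide +kernel
theorem a8chain : Chain 8 (nat_lit 3) (nat_lit 7) a8T a8R a8L := chain_cons a8lev0 <| chain_cons a8lev1 <| chain_cons a8lev2 <| chain_cons a8lev3 <| chain_cons a8lev4 <| chain_one a8lev5
theorem a8sd : band (a8R.all fun w => eqB (a8L.map Lev.b) (apL (nat_lit 3) (nat_lit 7) a8T w) fun a => a) (Nat.ble (chainOrd 8 a8L) (chainOrd 8 a8L)) = true := by decide +kernel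
theorem a8std : Std (alternatingGroup (Fin 8)) 8 (nat_lit 3) (nat_lit 7) (Fin.ofNat 8) a8T a8R a8L := (a8ch.std a8ch.lets a8chain a8sd)
noncomputable def a9t0 : ℕ := (nat_lit 0x687543210)
noncomputable def a9t1 : ℕ := (nat_lit 0x768543210)
noncomputable def a9t2 : ℕ := (nat_lit 0x857643210)
noncomputable def a9t3 : ℕ := (nat_lit 0x865743210)
noncomputable def a9t4 : ℕ := (nat_lit 0x874653210)
noncomputable def a9t5 : ℕ := (nat_lit 0x875463210)
noncomputable def a9t6 : ℕ := (nat_lit 0x876354210)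
noncomputable def a9t7 : ℕ := (nat_lit 0x876435210)
noncomputable def a9t8 : ℕ := (nat_lit 0x876524310)
noncomputable def a9t9 : ℕ := (nat_lit 0x876532410)
noncomputable def a9t10 : ℕ := (nat_lit 0x876541320)
noncomputable def a9t11 : ℕ := (nat_lit 0x876542130)
noncomputable def a9t12 : ℕ := (nat_lit 0x876543021)
noncomputable def a9t13 : ℕ := (nat_lit 0x876543102)
noncomputable def a9T : Tr ℕ := (.node (nat_lit 7) (.node (nat_lit 3) (.node (nat_lit 1) (.leaf a9t0) (.node (nat_lit 2) (.leaf a9t1) (.leaf a9t2)))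
 (.node (nat_lit 5) (.node (nat_lit 4) (.leaf a9t3) (.leaf a9t4)) (.node (nat_lit 6) (.leaf a9t5) (.leaf a9t6))))
 (.node (nat_lit 10) (.node (nat_lit 8) (.leaf a9t7) (.node (nat_lit 9) (.leaf a9t8) (.leaf a9t9)))
 (.node (nat_lit 12) (.node (nat_lit 11) (.leaf a9t10) (.leaf a9t11)) (.node (nat_lit 13) (.leaf a9t12) (.leaf a9t13)))))
noncomputable def a9R : Tr (List ℕ) := (.node (nat_lit 16) (.node (nat_lit 8) (.node (nat_lit 4) (.node (nat_lit 2) (.node (nat_lit 1) (.leaf [nat_lit 0, nat_lit 1]) (.leaf [nat_lit 12, nat_lit 0, nat_lit 13, nat_lit 1])) (.node (nat_lit 3) (.leaf [nat_lit 8, nat_lit 0, nat_lit 9, nat_lit 1]) (.leaf [nat_lit 2, nat_lit 0, nat_lit 2, nat_lit 0])))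
 (.node (nat_lit 6) (.node (nat_lit 5) (.leaf [nat_lit 0, nat_lit 0, nat_lit 0]) (.leaf [nat_lit 10, nat_lit 2, nat_lit 11, nat_lit 3])) (.node (nat_lit 7) (.leaf [nat_lit 12, nat_lit 2, nat_lit 13, nat_lit 3]) (.leaf [nat_lit 2, nat_lit 3]))))
 (.node (nat_lit 12) (.node (nat_lit 10) (.node (nat_lit 9) (.leaf [nat_lit 8, nat_lit 2, nat_lit 9, nat_lit 3]) (.leaf [nat_lit 4, nat_lit 2, nat_lit 4, nat_lit 2])) (.node (nat_lit 11) (.leaf [nat_lit 1, nat_lit 2, nat_lit 5, nat_lit 0, nat_lit 4]) (.leaf [nat_lit 2, nat_lit 2, nat_lit 2])))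
 (.node (nat_lit 14) (.node (nat_lit 13) (.leaf [nat_lit 10, nat_lit 4, nat_lit 11, nat_lit 5]) (.leaf [nat_lit 12, nat_lit 4, nat_lit 13, nat_lit 5])) (.node (nat_lit 15) (.leaf [nat_lit 6, nat_lit 4, nat_lit 6, nat_lit 4]) (.leaf [nat_lit 4, nat_lit 5])))))
 (.node (nat_lit 24) (.node (nat_lit 20) (.node (nat_lit 18) (.node (nat_lit 17) (.leaf [nat_lit 4, nat_lit 4, nat_lit 4]) (.leaf [nat_lit 6, nat_lit 7])) (.node (nat_lit 19) (.leaf [nat_lit 12, nat_lit 6, nat_lit 13, nat_lit 7]) (.leaf [nat_lit 8, nat_lit 6, nat_lit 8, nat_lit 6])))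
 (.node (nat_lit 22) (.node (nat_lit 21) (.leaf [nat_lit 5, nat_lit 6, nat_lit 9, nat_lit 4, nat_lit 8]) (.leaf [nat_lit 6, nat_lit 6, nat_lit 6])) (.node (nat_lit 23) (.leaf [nat_lit 6, nat_lit 0, nat_lit 7, nat_lit 1]) (.leaf [nat_lit 9, nat_lit 10, nat_lit 13, nat_lit 8, nat_lit 12]))))
 (.node (nat_lit 28) (.node (nat_lit 26) (.node (nat_lit 25) (.leaf [nat_lit 8, nat_lit 9]) (.leaf [nat_lit 8, nat_lit 8, nat_lit 8])) (.node (nat_lit 27) (.leaf [nat_lit 12, nat_lit 10, nat_lit 12, nat_lit 10]) (.leaf [nat_lit 10, nat_lit 10, nat_lit 10])))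
 (.node (nat_lit 30) (.node (nat_lit 29) (.leaf [nat_lit 10, nat_lit 8, nat_lit 10, nat_lit 8]) (.leaf [nat_lit 10, nat_lit 11])) (.node (nat_lit 31) (.leaf [nat_lit 10, nat_lit 0, nat_lit 11, nat_lit 1]) (.node (nat_lit 32) (.leaf [nat_lit 12, nat_lit 13]) (.leaf [nat_lit 12, nat_lit 12, nat_lit 12])))))))
noncomputable def a9L0 : Lev := ⟨(nat_lit 0), (nat_lit 14), (nat_lit 0x1020506090a0d0e00), (nat_lit 0x40403030202010100),
 (.node (nat_lit 7) (.node (nat_lit 3) (.node (nat_lit 1) (.leaf (nat_lit 0x20001000700040004000200030000))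
 (.node (nat_lit 2) (.leaf (nat_lit 0x300000001000800050003000300020000))
 (.leaf (nat_lit 0x600060005000500040004000200040000))))
 (.node (nat_lit 5) (.node (nat_lit 4) (.leaf (nat_lit 0x700060006000700050003000300050000))
 (.leaf (nat_lit 0x900070000000200010005000200040000)))
 (.node (nat_lit 6) (.leaf (nat_lit 0x800080003000000010006000300050000))
 (.leaf (nat_lit 0x600060004000400030003000200030000)))))
 (.node (nat_lit 10) (.node (nat_lit 8) (.leaf (nat_lit 0x500070005000400040005000300020000))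
 (.node (nat_lit 9) (.leaf (nat_lit 0xd0009000b000500000002000100020000))
 (.leaf (nat_lit 0xc0008000a000600030000000100030000))))
 (.node (nat_lit 12) (.node (nat_lit 11) (.leaf (nat_lit 0x900070007000900050003000400020000))
 (.leaf (nat_lit 0x800080006000a00060005000300040000)))
 (.node (nat_lit 13) (.leaf (nat_lit 0xd0009000b0007000b0005000000020001))
 (.leaf (nat_lit 0xc0008000a0006000c0006000300000001)))))),
 (.node (nat_lit 7) (.node (nat_lit 3) (.node (nat_lit 1) (.leaf (nat_lit 0x401000000000303000201000000000101000000000000))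
 (.node (nat_lit 2) (.leaf (nat_lit 0x1000000000001000001000001000203000001000103000000))
 (.leaf (nat_lit 0x302000b00000a01000901000801000700000601000501000000))))
 (.node (nat_lit 5) (.node (nat_lit 4) (.leaf (nat_lit 0x701000701000701000701000701000803000701000701000000))
 (.leaf (nat_lit 0xf00000902000000001001000f00000e03000d01000c01000000)))
 (.node (nat_lit 6) (.leaf (nat_lit 0xa02000f01000f01000000000f01000f01000f01000f01000000))
 (.leaf (nat_lit 0x1100001600000e02001500001401001301001201001100000000)))))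
 (.node (nat_lit 10) (.node (nat_lit 8) (.leaf (nat_lit 0x1602001101001101001101001101001101001101001203000000))
 (.node (nat_lit 9) (.leaf (nat_lit 0x1800001800001800001302000000001901001800001703000000))
 (.leaf (nat_lit 0x202000802000202001801001801000000001801001801000000))))
 (.node (nat_lit 12) (.node (nat_lit 11) (.leaf (nat_lit 0x1d00001e00001d00000500001c02001c00001b01001a01000000))
 (.leaf (nat_lit 0x1e02001d01000c02001d01001d01001d01001d01001d01000000)))
 (.node (nat_lit 13) (.leaf (nat_lit 0x1f00001f00001f00001f00000d00001a02000000002001001f00))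
 (.leaf (nat_lit 0x102000602000102001202001f01001f01001f01000000001f01))))))⟩
noncomputable def a9L1 : Lev := ⟨(nat_lit 1), (nat_lit 12), (nat_lit 0x2030407080b0c0000), (nat_lit 0x40303020201010000),
 (.node (nat_lit 6) (.node (nat_lit 3) (.node (nat_lit 1) (.leaf (nat_lit 0x600010005000400040002000300000000))
 (.node (nat_lit 2) (.leaf (nat_lit 0x60007000500030003000200000000))
 (.leaf (nat_lit 0x700000002000100050002000400000000))))
 (.node (nat_lit 4) (.leaf (nat_lit 0x800030000000100060003000500000000))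
 (.node (nat_lit 5) (.leaf (nat_lit 0xa00080006000700030002000300000000))
 (.leaf (nat_lit 0x900090008000400070003000200000000)))))
 (.node (nat_lit 9) (.node (nat_lit 7) (.leaf (nat_lit 0xa000a0008000000020001000400000000))
 (.node (nat_lit 8) (.leaf (nat_lit 0x9000b0009000300000001000500000000))
 (.leaf (nat_lit 0xd0009000b000700050006000200000000))))
 (.node (nat_lit 10) (.leaf (nat_lit 0xc0008000a000800070003000600000000))
 (.node (nat_lit 11) (.leaf (nat_lit 0xb00090009000b00070000000200010000))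
 (.leaf (nat_lit 0xa000a0008000c00080003000000010000)))))),
 (.node (nat_lit 6) (.node (nat_lit 3) (.node (nat_lit 1) (.leaf (nat_lit 0x400000000000301001601000000001e01000000000000000000))
 (.node (nat_lit 2) (.leaf (nat_lit 0x1000001000001001603000001001e03000000000000))
 (.leaf (nat_lit 0x302000000000b01000700000a01000501000801000000000000))))
 (.node (nat_lit 4) (.leaf (nat_lit 0x701000701000000000701000701000701000701000000000000))
 (.node (nat_lit 5) (.leaf (nat_lit 0xf00000902000900001001000e01000c01000f00000000000000))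
 (.leaf (nat_lit 0xa02000f01000f01000f01000f01000f01000c03000000000000)))))
 (.node (nat_lit 9) (.node (nat_lit 7) (.leaf (nat_lit 0x1100001600000e02000000001501001100001401000000000000))
 (.node (nat_lit 8) (.leaf (nat_lit 0x1602001101001101001101000000001101001101000000000000))
 (.leaf (nat_lit 0x1800001800001800001302001300001901001c01000000000000))))
 (.node (nat_lit 10) (.leaf (nat_lit 0x202000802000202001801001801001801001801000000000000))
 (.node (nat_lit 11) (.leaf (nat_lit 0x1d00001e00001d00000500001c02000000001b01001d00000000))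
 (.leaf (nat_lit 0x1e02001d01000c02001d01001d01001d01000000001d01000000))))))⟩
noncomputable def a9L2 : Lev := ⟨(nat_lit 2), (nat_lit 10), (nat_lit 0x1020506090a000000), (nat_lit 0x30302020101000000),
 (.node (nat_lit 5) (.node (nat_lit 2) (.node (nat_lit 1) (.leaf (nat_lit 0x20001000500020003000000000000))
 (.leaf (nat_lit 0x300000001000600030002000000000000)))
 (.node (nat_lit 3) (.leaf (nat_lit 0x400040003000300020003000000000000))
 (.node (nat_lit 4) (.leaf (nat_lit 0x500040004000500030002000000000000))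
 (.leaf (nat_lit 0x700050000000200010002000000000000)))))
 (.node (nat_lit 7) (.node (nat_lit 6) (.leaf (nat_lit 0x600060003000000010003000000000000))
 (.leaf (nat_lit 0x700070005000300040002000000000000)))
 (.node (nat_lit 8) (.leaf (nat_lit 0x600080006000500030004000000000000))
 (.node (nat_lit 9) (.leaf (nat_lit 0xb00070009000500000002000100000000))
 (.leaf (nat_lit 0xa00060008000600030000000100000000)))))),
 (.node (nat_lit 5) (.node (nat_lit 2) (.node (nat_lit 1) (.leaf (nat_lit 0x401000000000303000201000000000000000000000000))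
 (.leaf (nat_lit 0x1000000000001000001000001000203000000000000000000)))
 (.node (nat_lit 3) (.leaf (nat_lit 0x302000b00000a01000901000801000700000000000000000000))
 (.node (nat_lit 4) (.leaf (nat_lit 0x701000701000701000701000701000803000000000000000000))
 (.leaf (nat_lit 0xf00000902000000001001000f00001403000000000000000000)))))
 (.node (nat_lit 7) (.node (nat_lit 6) (.leaf (nat_lit 0xa02000f01000f01000000000f01000f01000000000000000000))
 (.leaf (nat_lit 0x1100001600000e02000e00001501001301000000000000000000)))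
 (.node (nat_lit 8) (.leaf (nat_lit 0x1602001101001101001101001101001101000000000000000000))
 (.node (nat_lit 9) (.leaf (nat_lit 0x1800001800001800001302000000001901001800000000000000))
 (.leaf (nat_lit 0x202000802000202001801001801000000001801000000000000))))))⟩
noncomputable def a9L3 : Lev := ⟨(nat_lit 3), (nat_lit 8), (nat_lit 0x20304070800000000), (nat_lit 0x30202010100000000),
 (.node (nat_lit 4) (.node (nat_lit 2) (.node (nat_lit 1) (.leaf (nat_lit 0x400010003000200030000000000000000))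
 (.leaf (nat_lit 0x40005000300020000000000000000)))
 (.node (nat_lit 3) (.leaf (nat_lit 0x500000002000100040000000000000000))
 (.leaf (nat_lit 0x600030000000100050000000000000000))))
 (.node (nat_lit 6) (.node (nat_lit 5) (.leaf (nat_lit 0x900070005000600020000000000000000))
 (.leaf (nat_lit 0x800080007000300060000000000000000)))
 (.node (nat_lit 7) (.leaf (nat_lit 0x900090007000000020001000000000000))
 (.leaf (nat_lit 0x8000a0008000300000001000000000000))))),
 (.node (nat_lit 4) (.node (nat_lit 2) (.node (nat_lit 1) (.leaf (nat_lit 0x400000000000301001601000000000000000000000000000000))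
 (.leaf (nat_lit 0x1000001000001001603000000000000000000000000)))
 (.node (nat_lit 3) (.leaf (nat_lit 0x302000000000b01000700000a01000000000000000000000000))
 (.leaf (nat_lit 0x701000701000000000701000701000000000000000000000000))))
 (.node (nat_lit 6) (.node (nat_lit 5) (.leaf (nat_lit 0xf00000902000900001001000e01000000000000000000000000))
 (.leaf (nat_lit 0xa02000f01000f01000f01000f01000000000000000000000000)))
 (.node (nat_lit 7) (.leaf (nat_lit 0x1100001600000e02000000001501001100000000000000000000))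
 (.leaf (nat_lit 0x1602001101001101001101000000001101000000000000000000)))))⟩
noncomputable def a9L4 : Lev := ⟨(nat_lit 4), (nat_lit 6), (nat_lit 0x10205060000000000), (nat_lit 0x20201010000000000),
 (.node (nat_lit 3) (.node (nat_lit 1) (.leaf (nat_lit 0x20001000200000000000000000000))
 (.node (nat_lit 2) (.leaf (nat_lit 0x300000001000300000000000000000000))
 (.leaf (nat_lit 0x500030004000200000000000000000000))))
 (.node (nat_lit 4) (.leaf (nat_lit 0x600050003000400000000000000000000))
 (.node (nat_lit 5) (.leaf (nat_lit 0x700050000000200010000000000000000))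
 (.leaf (nat_lit 0x600060003000000010000000000000000))))),
 (.node (nat_lit 3) (.node (nat_lit 1) (.leaf (nat_lit 0x401000000000a03000000000000000000000000000000))
 (.node (nat_lit 2) (.leaf (nat_lit 0x1000000000001000001000000000000000000000000000000))
 (.leaf (nat_lit 0x302000300000b01000901000000000000000000000000000000))))
 (.node (nat_lit 4) (.leaf (nat_lit 0x701000701000701000701000000000000000000000000000000))
 (.node (nat_lit 5) (.leaf (nat_lit 0xf00000902000000001001000f00000000000000000000000000))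
 (.leaf (nat_lit 0xa02000f01000f01000000000f01000000000000000000000000)))))⟩
noncomputable def a9L5 : Lev := ⟨(nat_lit 5), (nat_lit 4), (nat_lit 0x20304000000000000), (nat_lit 0x20101000000000000),
 (.node (nat_lit 2) (.node (nat_lit 1) (.leaf (nat_lit 0x300010002000000000000000000000000))
 (.leaf (nat_lit 0x30004000000000000000000000000)))
 (.node (nat_lit 3) (.leaf (nat_lit 0x400000002000100000000000000000000))
 (.leaf (nat_lit 0x500030000000100000000000000000000)))),
 (.node (nat_lit 2) (.node (nat_lit 1) (.leaf (nat_lit 0x400000000000301000000000000000000000000000000000000))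
 (.leaf (nat_lit 0x1000001000000000000000000000000000000000000)))
 (.node (nat_lit 3) (.leaf (nat_lit 0x302000000000b01000700000000000000000000000000000000))
 (.leaf (nat_lit 0x701000701000000000701000000000000000000000000000000))))⟩
noncomputable def a9L6 : Lev := ⟨(nat_lit 6), (nat_lit 2), (nat_lit 0x10200000000000000), (nat_lit 0x10100000000000000),
 (.node (nat_lit 1) (.leaf (nat_lit 0x20001000000000000000000000000))
 (.leaf (nat_lit 0x300000001000000000000000000000000))),
 (.node (nat_lit 1) (.leaf (nat_lit 0x401000000000000000000000000000000000000000000))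
 (.leaf (nat_lit 0x1000000000001000000000000000000000000000000000000)))⟩
noncomputable def a9L : List Lev := [a9L0, a9L1, a9L2, a9L3, a9L4, a9L5, a9L6]
theorem a9ch : Ch (alternatingGroup (Fin 9)) 9 (nat_lit 4) (nat_lit 15) (Fin.ofNat 9) a9T a9L := ch_alt (by decide +kernel)
theorem a9lev0 : levChk 9 (nat_lit 4) (nat_lit 15) a9T a9R a9L0 a9L1.N = true := by decide +kernel
theorem a9lev1 : levChk 9 (nat_lit 4) (nat_lit 15) a9T a9R a9L1 a9L2.N = true := by decide +kernel
theorem a9lev2 : levChk 9 (nat_lit 4) (nat_lit 15) a9T a9R a9L2 a9L3.N = true := by decide +kernel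
theorem a9lev3 : levChk 9 (nat_lit 4) (nat_lit 15) a9T a9R a9L3 a9L4.N = true := by decide +kernel
theorem a9lev4 : levChk 9 (nat_lit 4) (nat_lit 15) a9T a9R a9L4 a9L5.N = true := by decide +kernel
theorem a9lev5 : levChk 9 (nat_lit 4) (nat_lit 15) a9T a9R a9L5 a9L6.N = true := by decide +kernel
theorem a9lev6 : levChk 9 (nat_lit 4) (nat_lit 15) a9T a9R a9L6 0 = true := by decide +kernel
theorem a9chain : Chain 9 (nat_lit 4) (nat_lit 15) a9T a9R a9L := chain_cons a9lev0 <| chain_cons a9lev1 <| chain_cons a9lev2 <| chain_cons a9lev3 <| chain_cons a9lev4 <| chain_cons a9lev5 <| chain_one a9lev6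
theorem a9sd : band (a9R.all fun w => eqB (a9L.map Lev.b) (apL (nat_lit 4) (nat_lit 15) a9T w) fun a => a) (Nat.ble (chainOrd 9 a9L) (chainOrd 9 a9L)) = true := by decide +kernel
theorem a9std : Std (alternatingGroup (Fin 9)) 9 (nat_lit 4) (nat_lit 15) (Fin.ofNat 9) a9T a9R a9L := (a9ch.std a9ch.lets a9chain a9sd)
noncomputable def s3t0 : ℕ := (nat_lit 0x18)
noncomputable def s3t1 : ℕ := (nat_lit 0x21)
noncomputable def s3T : Tr ℕ := (.node (nat_lit 1) (.leaf s3t0) (.leaf s3t1))
noncomputable def s3R : Tr (List ℕ) := (.node (nat_lit 1) (.leaf [nat_lit 0, nat_lit 0]) (.node (nat_lit 2) (.leaf [nat_lit 1, nat_lit 1]) (.leaf [nat_lit 1, nat_lit 0, nat_lit 1, nat_lit 0, nat_lit 1, nat_lit 0])))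
noncomputable def s3L0 : Lev := ⟨(nat_lit 0), (nat_lit 2), (nat_lit 0x10200), (nat_lit 0x20100),
 (.node (nat_lit 1) (.leaf (nat_lit 0x10000))
 (.leaf (nat_lit 0x200000001))),
 (.node (nat_lit 1) (.leaf (nat_lit 0x1000000))
 (.leaf (nat_lit 0x202000000000101)))⟩
noncomputable def s3L1 : Lev := ⟨(nat_lit 1), (nat_lit 1), (nat_lit 0x10000), (nat_lit 0x10000),
 (.leaf (nat_lit 0x10000)),
 (.leaf (nat_lit 0x1000000))⟩
noncomputable def s3L : List Lev := [s3L0, s3L1]
theorem s3ch : Ch (Equiv.Perm (Fin 3)) 3 (nat_lit 2) (nat_lit 3) (Fin.ofNat 3) s3T s3L := ch_perm (by decide +kernel)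
theorem s3lev0 : levChk 3 (nat_lit 2) (nat_lit 3) s3T s3R s3L0 s3L1.N = true := by decide +kernel
theorem s3lev1 : levChk 3 (nat_lit 2) (nat_lit 3) s3T s3R s3L1 0 = true := by decide +kernel
theorem s3chain : Chain 3 (nat_lit 2) (nat_lit 3) s3T s3R s3L := chain_cons s3lev0 <| chain_one s3lev1
theorem s3sd : band (s3R.all fun w => eqB (s3L.map Lev.b) (apL (nat_lit 2) (nat_lit 3) s3T w) fun a => a) (Nat.ble (chainOrd 3 s3L) (chainOrd 3 s3L)) = true := by decide +kernel
theorem s3std : Std (Equiv.Perm (Fin 3)) 3 (nat_lit 2) (nat_lit 3) (Fin.ofNat 3) s3T s3R s3L := (s3ch.std s3ch.lets s3chain s3sd)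
noncomputable def s4t0 : ℕ := (nat_lit 0xb4)
noncomputable def s4t1 : ℕ := (nat_lit 0xd8)
noncomputable def s4t2 : ℕ := (nat_lit 0xe1)
noncomputable def s4T : Tr ℕ := (.node (nat_lit 1) (.leaf s4t0) (.node (nat_lit 2) (.leaf s4t1) (.leaf s4t2)))
noncomputable def s4R : Tr (List ℕ) := (.node (nat_lit 3) (.node (nat_lit 1) (.leaf [nat_lit 2, nat_lit 0, nat_lit 2, nat_lit 0]) (.node (nat_lit 2) (.leaf [nat_lit 0, nat_lit 0]) (.leaf [nat_lit 1, nat_lit 1]))) (.node (nat_lit 4) (.leaf [nat_lit 1, nat_lit 0, nat_lit 1, nat_lit 0, nat_lit 1, nat_lit 0]) (.node (nat_lit 5) (.leaf [nat_lit 2, nat_lit 2]) (.leaf [nat_lit 2, nat_lit 1, nat_lit 2, nat_lit 1, nat_lit 2, nat_lit 1]))))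
noncomputable def s4L0 : Lev := ⟨(nat_lit 0), (nat_lit 3), (nat_lit 0x1020300), (nat_lit 0x3020100),
 (.node (nat_lit 1) (.leaf (nat_lit 0x100020000))
 (.node (nat_lit 2) (.leaf (nat_lit 0x3000000010000))
 (.leaf (nat_lit 0x3000200000001)))),
 (.node (nat_lit 1) (.leaf (nat_lit 0x101000001000000))
 (.node (nat_lit 2) (.leaf (nat_lit 0x302000000000201000000))
 (.leaf (nat_lit 0x2000502000000000401))))⟩
noncomputable def s4L1 : Lev := ⟨(nat_lit 1), (nat_lit 2), (nat_lit 0x1020000), (nat_lit 0x2010000),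
 (.node (nat_lit 1) (.leaf (nat_lit 0x100000000))
 (.leaf (nat_lit 0x2000000010000))),
 (.node (nat_lit 1) (.leaf (nat_lit 0x101000000000000))
 (.leaf (nat_lit 0x302000000000201000000)))⟩
noncomputable def s4L2 : Lev := ⟨(nat_lit 2), (nat_lit 1), (nat_lit 0x1000000), (nat_lit 0x1000000),
 (.leaf (nat_lit 0x100000000)),
 (.leaf (nat_lit 0x101000000000000))⟩
noncomputable def s4L : List Lev := [s4L0, s4L1, s4L2]
theorem s4ch : Ch (Equiv.Perm (Fin 4)) 4 (nat_lit 2) (nat_lit 3) (Fin.ofNat 4) s4T s4L := ch_perm (by decide +kernel)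
theorem s4lev0 : levChk 4 (nat_lit 2) (nat_lit 3) s4T s4R s4L0 s4L1.N = true := by decide +kernel
theorem s4lev1 : levChk 4 (nat_lit 2) (nat_lit 3) s4T s4R s4L1 s4L2.N = true := by decide +kernel
theorem s4lev2 : levChk 4 (nat_lit 2) (nat_lit 3) s4T s4R s4L2 0 = true := by decide +kernel
theorem s4chain : Chain 4 (nat_lit 2) (nat_lit 3) s4T s4R s4L := chain_cons s4lev0 <| chain_cons s4lev1 <| chain_one s4lev2
theorem s4sd : band (s4R.all fun w => eqB (s4L.map Lev.b) (apL (nat_lit 2) (nat_lit 3) s4T w) fun a => a) (Nat.ble (chainOrd 4 s4L) (chainOrd 4 s4L)) = true := by decide +kernel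
theorem s4std : Std (Equiv.Perm (Fin 4)) 4 (nat_lit 2) (nat_lit 3) (Fin.ofNat 4) s4T s4R s4L := (s4ch.std s4ch.lets s4chain s4sd)
noncomputable def s5t0 : ℕ := (nat_lit 0x3888)
noncomputable def s5t1 : ℕ := (nat_lit 0x44c8)
noncomputable def s5t2 : ℕ := (nat_lit 0x4650)
noncomputable def s5t3 : ℕ := (nat_lit 0x4681)
noncomputable def s5T : Tr ℕ := (.node (nat_lit 2) (.node (nat_lit 1) (.leaf s5t0) (.leaf s5t1)) (.node (nat_lit 3) (.leaf s5t2) (.leaf s5t3)))
noncomputable def s5R : Tr (List ℕ) := (.node (nat_lit 5) (.node (nat_lit 2) (.node (nat_lit 1) (.leaf [nat_lit 3, nat_lit 0, nat_lit 3, nat_lit 0]) (.leaf [nat_lit 2, nat_lit 0, nat_lit 2, nat_lit 0])) (.node (nat_lit 3) (.leaf [nat_lit 0, nat_lit 0]) (.node (nat_lit 4) (.leaf [nat_lit 3, nat_lit 1, nat_lit 3, nat_lit 1]) (.leaf [nat_lit 1, nat_lit 1]))))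
 (.node (nat_lit 7) (.node (nat_lit 6) (.leaf [nat_lit 1, nat_lit 0, nat_lit 1, nat_lit 0, nat_lit 1, nat_lit 0]) (.leaf [nat_lit 2, nat_lit 2])) (.node (nat_lit 8) (.leaf [nat_lit 2, nat_lit 1, nat_lit 2, nat_lit 1, nat_lit 2, nat_lit 1]) (.node (nat_lit 9) (.leaf [nat_lit 3, nat_lit 3]) (.leaf [nat_lit 3, nat_lit 2, nat_lit 3, nat_lit 2, nat_lit 3, nat_lit 2])))))
noncomputable def s5L0 : Lev := ⟨(nat_lit 0), (nat_lit 4), (nat_lit 0x102030400), (nat_lit 0x403020100),
 (.node (nat_lit 2) (.node (nat_lit 1) (.leaf (nat_lit 0x1000300020000))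
 (.leaf (nat_lit 0x40000000100020000)))
 (.node (nat_lit 3) (.leaf (nat_lit 0x40003000000010000))
 (.leaf (nat_lit 0x40003000200000001)))),
 (.node (nat_lit 2) (.node (nat_lit 1) (.leaf (nat_lit 0x201000101000001000000))
 (.leaf (nat_lit 0x502000000000401000301000000)))
 (.node (nat_lit 3) (.leaf (nat_lit 0x102000702000000000601000000))
 (.leaf (nat_lit 0x2000302000902000000000801))))⟩
noncomputable def s5L1 : Lev := ⟨(nat_lit 1), (nat_lit 3), (nat_lit 0x102030000), (nat_lit 0x302010000),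
 (.node (nat_lit 1) (.leaf (nat_lit 0x1000200000000))
 (.node (nat_lit 2) (.leaf (nat_lit 0x30000000100000000))
 (.leaf (nat_lit 0x30002000000010000)))),
 (.node (nat_lit 1) (.leaf (nat_lit 0x201000101000000000000))
 (.node (nat_lit 2) (.leaf (nat_lit 0x502000000000401000000000000))
 (.leaf (nat_lit 0x102000702000000000601000000))))⟩
noncomputable def s5L2 : Lev := ⟨(nat_lit 2), (nat_lit 2), (nat_lit 0x102000000), (nat_lit 0x201000000),
 (.node (nat_lit 1) (.leaf (nat_lit 0x1000000000000))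
 (.leaf (nat_lit 0x20000000100000000))),
 (.node (nat_lit 1) (.leaf (nat_lit 0x201000000000000000000))
 (.leaf (nat_lit 0x502000000000401000000000000)))⟩
noncomputable def s5L3 : Lev := ⟨(nat_lit 3), (nat_lit 1), (nat_lit 0x100000000), (nat_lit 0x100000000),
 (.leaf (nat_lit 0x1000000000000)),
 (.leaf (nat_lit 0x201000000000000000000))⟩
noncomputable def s5L : List Lev := [s5L0, s5L1, s5L2, s5L3]
theorem s5ch : Ch (Equiv.Perm (Fin 5)) 5 (nat_lit 3) (nat_lit 7) (Fin.ofNat 5) s5T s5L := ch_perm (by decide +kernel)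
theorem s5lev0 : levChk 5 (nat_lit 3) (nat_lit 7) s5T s5R s5L0 s5L1.N = true := by decide +kernel
theorem s5lev1 : levChk 5 (nat_lit 3) (nat_lit 7) s5T s5R s5L1 s5L2.N = true := by decide +kernel
theorem s5lev2 : levChk 5 (nat_lit 3) (nat_lit 7) s5T s5R s5L2 s5L3.N = true := by decide +kernel
theorem s5lev3 : levChk 5 (nat_lit 3) (nat_lit 7) s5T s5R s5L3 0 = true := by decide +kernel
theorem s5chain : Chain 5 (nat_lit 3) (nat_lit 7) s5T s5R s5L := chain_cons s5lev0 <| chain_cons s5lev1 <| chain_cons s5lev2 <| chain_one s5lev3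
theorem s5sd : band (s5R.all fun w => eqB (s5L.map Lev.b) (apL (nat_lit 3) (nat_lit 7) s5T w) fun a => a) (Nat.ble (chainOrd 5 s5L) (chainOrd 5 s5L)) = true := by decide +kernel
theorem s5std : Std (Equiv.Perm (Fin 5)) 5 (nat_lit 3) (nat_lit 7) (Fin.ofNat 5) s5T s5R s5L := (s5ch.std s5ch.lets s5chain s5sd)
noncomputable def s6t0 : ℕ := (nat_lit 0x25688)
noncomputable def s6t1 : ℕ := (nat_lit 0x2b888)
noncomputable def s6t2 : ℕ := (nat_lit 0x2c4c8)
noncomputable def s6t3 : ℕ := (nat_lit 0x2c650)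
noncomputable def s6t4 : ℕ := (nat_lit 0x2c681)
noncomputable def s6T : Tr ℕ := (.node (nat_lit 2) (.node (nat_lit 1) (.leaf s6t0) (.leaf s6t1)) (.node (nat_lit 3) (.leaf s6t2) (.node (nat_lit 4) (.leaf s6t3) (.leaf s6t4))))
noncomputable def s6R : Tr (List ℕ) := (.node (nat_lit 7) (.node (nat_lit 3) (.node (nat_lit 1) (.leaf [nat_lit 4, nat_lit 0, nat_lit 4, nat_lit 0]) (.node (nat_lit 2) (.leaf [nat_lit 3, nat_lit 0, nat_lit 3, nat_lit 0]) (.leaf [nat_lit 2, nat_lit 0, nat_lit 2, nat_lit 0])))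
 (.node (nat_lit 5) (.node (nat_lit 4) (.leaf [nat_lit 0, nat_lit 0]) (.leaf [nat_lit 4, nat_lit 1, nat_lit 4, nat_lit 1])) (.node (nat_lit 6) (.leaf [nat_lit 3, nat_lit 1, nat_lit 3, nat_lit 1]) (.leaf [nat_lit 1, nat_lit 1]))))
 (.node (nat_lit 11) (.node (nat_lit 9) (.node (nat_lit 8) (.leaf [nat_lit 1, nat_lit 0, nat_lit 1, nat_lit 0, nat_lit 1, nat_lit 0]) (.leaf [nat_lit 4, nat_lit 2, nat_lit 4, nat_lit 2])) (.node (nat_lit 10) (.leaf [nat_lit 2, nat_lit 2]) (.leaf [nat_lit 2, nat_lit 1, nat_lit 2, nat_lit 1, nat_lit 2, nat_lit 1])))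
 (.node (nat_lit 13) (.node (nat_lit 12) (.leaf [nat_lit 3, nat_lit 3]) (.leaf [nat_lit 3, nat_lit 2, nat_lit 3, nat_lit 2, nat_lit 3, nat_lit 2])) (.node (nat_lit 14) (.leaf [nat_lit 4, nat_lit 4]) (.leaf [nat_lit 4, nat_lit 3, nat_lit 4, nat_lit 3, nat_lit 4, nat_lit 3])))))
noncomputable def s6L0 : Lev := ⟨(nat_lit 0), (nat_lit 5), (nat_lit 0x10203040500), (nat_lit 0x50403020100),
 (.node (nat_lit 2) (.node (nat_lit 1) (.leaf (nat_lit 0x10004000300020000))
 (.leaf (nat_lit 0x500000001000300020000)))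
 (.node (nat_lit 3) (.leaf (nat_lit 0x500040000000100020000))
 (.node (nat_lit 4) (.leaf (nat_lit 0x500040003000000010000))
 (.leaf (nat_lit 0x500040003000200000001))))),
 (.node (nat_lit 2) (.node (nat_lit 1) (.leaf (nat_lit 0x301000201000101000001000000))
 (.leaf (nat_lit 0x702000000000601000501000401000000)))
 (.node (nat_lit 3) (.leaf (nat_lit 0x202000a02000000000901000801000000))
 (.node (nat_lit 4) (.leaf (nat_lit 0x102000502000c02000000000b01000000))
 (.leaf (nat_lit 0x2000402000802000e02000000000d01)))))⟩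
noncomputable def s6L1 : Lev := ⟨(nat_lit 1), (nat_lit 4), (nat_lit 0x10203040000), (nat_lit 0x40302010000),
 (.node (nat_lit 2) (.node (nat_lit 1) (.leaf (nat_lit 0x10003000200000000))
 (.leaf (nat_lit 0x400000001000200000000)))
 (.node (nat_lit 3) (.leaf (nat_lit 0x400030000000100000000))
 (.leaf (nat_lit 0x400030002000000010000)))),
 (.node (nat_lit 2) (.node (nat_lit 1) (.leaf (nat_lit 0x301000201000101000000000000))
 (.leaf (nat_lit 0x702000000000601000501000000000000)))
 (.node (nat_lit 3) (.leaf (nat_lit 0x202000a02000000000901000000000000))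
 (.leaf (nat_lit 0x102000502000c02000000000b01000000))))⟩
noncomputable def s6L2 : Lev := ⟨(nat_lit 2), (nat_lit 3), (nat_lit 0x10203000000), (nat_lit 0x30201000000),
 (.node (nat_lit 1) (.leaf (nat_lit 0x10002000000000000))
 (.node (nat_lit 2) (.leaf (nat_lit 0x300000001000000000000))
 (.leaf (nat_lit 0x300020000000100000000)))),
 (.node (nat_lit 1) (.leaf (nat_lit 0x301000201000000000000000000))
 (.node (nat_lit 2) (.leaf (nat_lit 0x702000000000601000000000000000000))
 (.leaf (nat_lit 0x202000a02000000000901000000000000))))⟩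
noncomputable def s6L3 : Lev := ⟨(nat_lit 3), (nat_lit 2), (nat_lit 0x10200000000), (nat_lit 0x20100000000),
 (.node (nat_lit 1) (.leaf (nat_lit 0x10000000000000000))
 (.leaf (nat_lit 0x200000001000000000000))),
 (.node (nat_lit 1) (.leaf (nat_lit 0x301000000000000000000000000))
 (.leaf (nat_lit 0x702000000000601000000000000000000)))⟩
noncomputable def s6L4 : Lev := ⟨(nat_lit 4), (nat_lit 1), (nat_lit 0x10000000000), (nat_lit 0x10000000000),
 (.leaf (nat_lit 0x10000000000000000)),
 (.leaf (nat_lit 0x301000000000000000000000000))⟩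
noncomputable def s6L : List Lev := [s6L0, s6L1, s6L2, s6L3, s6L4]
theorem s6ch : Ch (Equiv.Perm (Fin 6)) 6 (nat_lit 3) (nat_lit 7) (Fin.ofNat 6) s6T s6L := ch_perm (by decide +kernel)
theorem s6lev0 : levChk 6 (nat_lit 3) (nat_lit 7) s6T s6R s6L0 s6L1.N = true := by decide +kernel
theorem s6lev1 : levChk 6 (nat_lit 3) (nat_lit 7) s6T s6R s6L1 s6L2.N = true := by decide +kernel
theorem s6lev2 : levChk 6 (nat_lit 3) (nat_lit 7) s6T s6R s6L2 s6L3.N = true := by decide +kernel
theorem s6lev3 : levChk 6 (nat_lit 3) (nat_lit 7) s6T s6R s6L3 s6L4.N = true := by decide +kernel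
theorem s6lev4 : levChk 6 (nat_lit 3) (nat_lit 7) s6T s6R s6L4 0 = true := by decide +kernel
theorem s6chain : Chain 6 (nat_lit 3) (nat_lit 7) s6T s6R s6L := chain_cons s6lev0 <| chain_cons s6lev1 <| chain_cons s6lev2 <| chain_cons s6lev3 <| chain_one s6lev4
theorem s6sd : band (s6R.all fun w => eqB (s6L.map Lev.b) (apL (nat_lit 3) (nat_lit 7) s6T w) fun a => a) (Nat.ble (chainOrd 6 s6L) (chainOrd 6 s6L)) = true := by decide +kernel
theorem s6std : Std (Equiv.Perm (Fin 6)) 6 (nat_lit 3) (nat_lit 7) (Fin.ofNat 6) s6T s6R s6L := (s6ch.std s6ch.lets s6chain s6sd)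
noncomputable def s7t0 : ℕ := (nat_lit 0x174688)
noncomputable def s7t1 : ℕ := (nat_lit 0x1a5688)
noncomputable def s7t2 : ℕ := (nat_lit 0x1ab888)
noncomputable def s7t3 : ℕ := (nat_lit 0x1ac4c8)
noncomputable def s7t4 : ℕ := (nat_lit 0x1ac650)
noncomputable def s7t5 : ℕ := (nat_lit 0x1ac681)
noncomputable def s7T : Tr ℕ := (.node (nat_lit 3) (.node (nat_lit 1) (.leaf s7t0) (.node (nat_lit 2) (.leaf s7t1) (.leaf s7t2))) (.node (nat_lit 4) (.leaf s7t3) (.node (nat_lit 5) (.leaf s7t4) (.leaf s7t5))))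
noncomputable def s7R : Tr (List ℕ) := (.node (nat_lit 10) (.node (nat_lit 5) (.node (nat_lit 2) (.node (nat_lit 1) (.leaf [nat_lit 5, nat_lit 0, nat_lit 5, nat_lit 0]) (.leaf [nat_lit 4, nat_lit 0, nat_lit 4, nat_lit 0])) (.node (nat_lit 3) (.leaf [nat_lit 3, nat_lit 0, nat_lit 3, nat_lit 0]) (.node (nat_lit 4) (.leaf [nat_lit 2, nat_lit 0, nat_lit 2, nat_lit 0]) (.leaf [nat_lit 0, nat_lit 0]))))
 (.node (nat_lit 7) (.node (nat_lit 6) (.leaf [nat_lit 5, nat_lit 1, nat_lit 5, nat_lit 1]) (.leaf [nat_lit 4, nat_lit 1, nat_lit 4, nat_lit 1])) (.node (nat_lit 8) (.leaf [nat_lit 3, nat_lit 1, nat_lit 3, nat_lit 1]) (.node (nat_lit 9) (.leaf [nat_lit 1, nat_lit 1]) (.leaf [nat_lit 1, nat_lit 0, nat_lit 1, nat_lit 0, nat_lit 1, nat_lit 0])))))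
 (.node (nat_lit 15) (.node (nat_lit 12) (.node (nat_lit 11) (.leaf [nat_lit 5, nat_lit 2, nat_lit 5, nat_lit 2]) (.leaf [nat_lit 4, nat_lit 2, nat_lit 4, nat_lit 2])) (.node (nat_lit 13) (.leaf [nat_lit 2, nat_lit 2]) (.node (nat_lit 14) (.leaf [nat_lit 2, nat_lit 1, nat_lit 2, nat_lit 1, nat_lit 2, nat_lit 1]) (.leaf [nat_lit 5, nat_lit 3, nat_lit 5, nat_lit 3]))))
 (.node (nat_lit 18) (.node (nat_lit 16) (.leaf [nat_lit 3, nat_lit 3]) (.node (nat_lit 17) (.leaf [nat_lit 3, nat_lit 2, nat_lit 3, nat_lit 2, nat_lit 3, nat_lit 2]) (.leaf [nat_lit 4, nat_lit 4]))) (.node (nat_lit 19) (.leaf [nat_lit 4, nat_lit 3, nat_lit 4, nat_lit 3, nat_lit 4, nat_lit 3]) (.node (nat_lit 20) (.leaf [nat_lit 5, nat_lit 5]) (.leaf [nat_lit 5, nat_lit 4, nat_lit 5, nat_lit 4, nat_lit 5, nat_lit 4]))))))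
noncomputable def s7L0 : Lev := ⟨(nat_lit 0), (nat_lit 6), (nat_lit 0x1020304050600), (nat_lit 0x6050403020100),
 (.node (nat_lit 3) (.node (nat_lit 1) (.leaf (nat_lit 0x100050004000300020000))
 (.node (nat_lit 2) (.leaf (nat_lit 0x6000000010004000300020000))
 (.leaf (nat_lit 0x6000500000001000300020000))))
 (.node (nat_lit 4) (.leaf (nat_lit 0x6000500040000000100020000))
 (.node (nat_lit 5) (.leaf (nat_lit 0x6000500040003000000010000))
 (.leaf (nat_lit 0x6000500040003000200000001))))),
 (.node (nat_lit 3) (.node (nat_lit 1) (.leaf (nat_lit 0x401000301000201000101000001000000))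
 (.node (nat_lit 2) (.leaf (nat_lit 0x902000000000801000701000601000501000000))
 (.leaf (nat_lit 0x302000d02000000000c01000b01000a01000000))))
 (.node (nat_lit 4) (.leaf (nat_lit 0x202000702001002000000000f01000e01000000))
 (.node (nat_lit 5) (.leaf (nat_lit 0x102000602000b02001202000000001101000000))
 (.leaf (nat_lit 0x2000502000a02000e02001402000000001301)))))⟩
noncomputable def s7L1 : Lev := ⟨(nat_lit 1), (nat_lit 5), (nat_lit 0x1020304050000), (nat_lit 0x5040302010000),
 (.node (nat_lit 2) (.node (nat_lit 1) (.leaf (nat_lit 0x100040003000200000000))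
 (.leaf (nat_lit 0x5000000010003000200000000)))
 (.node (nat_lit 3) (.leaf (nat_lit 0x5000400000001000200000000))
 (.node (nat_lit 4) (.leaf (nat_lit 0x5000400030000000100000000))
 (.leaf (nat_lit 0x5000400030002000000010000))))),
 (.node (nat_lit 2) (.node (nat_lit 1) (.leaf (nat_lit 0x401000301000201000101000000000000))
 (.leaf (nat_lit 0x902000000000801000701000601000000000000)))
 (.node (nat_lit 3) (.leaf (nat_lit 0x302000d02000000000c01000b01000000000000))
 (.node (nat_lit 4) (.leaf (nat_lit 0x202000702001002000000000f01000000000000))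
 (.leaf (nat_lit 0x102000602000b02001202000000001101000000)))))⟩
noncomputable def s7L2 : Lev := ⟨(nat_lit 2), (nat_lit 4), (nat_lit 0x1020304000000), (nat_lit 0x4030201000000),
 (.node (nat_lit 2) (.node (nat_lit 1) (.leaf (nat_lit 0x100030002000000000000))
 (.leaf (nat_lit 0x4000000010002000000000000)))
 (.node (nat_lit 3) (.leaf (nat_lit 0x4000300000001000000000000))
 (.leaf (nat_lit 0x4000300020000000100000000)))),
 (.node (nat_lit 2) (.node (nat_lit 1) (.leaf (nat_lit 0x401000301000201000000000000000000))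
 (.leaf (nat_lit 0x902000000000801000701000000000000000000)))
 (.node (nat_lit 3) (.leaf (nat_lit 0x302000d02000000000c01000000000000000000))
 (.leaf (nat_lit 0x202000702001002000000000f01000000000000))))⟩
noncomputable def s7L3 : Lev := ⟨(nat_lit 3), (nat_lit 3), (nat_lit 0x1020300000000), (nat_lit 0x3020100000000),
 (.node (nat_lit 1) (.leaf (nat_lit 0x100020000000000000000))
 (.node (nat_lit 2) (.leaf (nat_lit 0x3000000010000000000000000))
 (.leaf (nat_lit 0x3000200000001000000000000)))),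
 (.node (nat_lit 1) (.leaf (nat_lit 0x401000301000000000000000000000000))
 (.node (nat_lit 2) (.leaf (nat_lit 0x902000000000801000000000000000000000000))
 (.leaf (nat_lit 0x302000d02000000000c01000000000000000000))))⟩
noncomputable def s7L4 : Lev := ⟨(nat_lit 4), (nat_lit 2), (nat_lit 0x1020000000000), (nat_lit 0x2010000000000),
 (.node (nat_lit 1) (.leaf (nat_lit 0x100000000000000000000))
 (.leaf (nat_lit 0x2000000010000000000000000))),
 (.node (nat_lit 1) (.leaf (nat_lit 0x401000000000000000000000000000000))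
 (.leaf (nat_lit 0x902000000000801000000000000000000000000)))⟩
noncomputable def s7L5 : Lev := ⟨(nat_lit 5), (nat_lit 1), (nat_lit 0x1000000000000), (nat_lit 0x1000000000000),
 (.leaf (nat_lit 0x100000000000000000000)),
 (.leaf (nat_lit 0x401000000000000000000000000000000))⟩
noncomputable def s7L : List Lev := [s7L0, s7L1, s7L2, s7L3, s7L4, s7L5]
theorem s7ch : Ch (Equiv.Perm (Fin 7)) 7 (nat_lit 3) (nat_lit 7) (Fin.ofNat 7) s7T s7L := ch_perm (by decide +kernel)
theorem s7lev0 : levChk 7 (nat_lit 3) (nat_lit 7) s7T s7R s7L0 s7L1.N = true := by decide +kernel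
theorem s7lev1 : levChk 7 (nat_lit 3) (nat_lit 7) s7T s7R s7L1 s7L2.N = true := by decide +kernel
theorem s7lev2 : levChk 7 (nat_lit 3) (nat_lit 7) s7T s7R s7L2 s7L3.N = true := by decide +kernel
theorem s7lev3 : levChk 7 (nat_lit 3) (nat_lit 7) s7T s7R s7L3 s7L4.N = true := by decide +kernel
theorem s7lev4 : levChk 7 (nat_lit 3) (nat_lit 7) s7T s7R s7L4 s7L5.N = true := by decide +kernel
theorem s7lev5 : levChk 7 (nat_lit 3) (nat_lit 7) s7T s7R s7L5 0 = true := by decide +kernel
theorem s7chain : Chain 7 (nat_lit 3) (nat_lit 7) s7T s7R s7L := chain_cons s7lev0 <| chain_cons s7lev1 <| chain_cons s7lev2 <| chain_cons s7lev3 <| chain_cons s7lev4 <| chain_one s7lev5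
theorem s7sd : band (s7R.all fun w => eqB (s7L.map Lev.b) (apL (nat_lit 3) (nat_lit 7) s7T w) fun a => a) (Nat.ble (chainOrd 7 s7L) (chainOrd 7 s7L)) = true := by decide +kernel
theorem s7std : Std (Equiv.Perm (Fin 7)) 7 (nat_lit 3) (nat_lit 7) (Fin.ofNat 7) s7T s7R s7L := (s7ch.std s7ch.lets s7chain s7sd)
noncomputable def s8t0 : ℕ := (nat_lit 0xdec688)
noncomputable def s8t1 : ℕ := (nat_lit 0xf74688)
noncomputable def s8t2 : ℕ := (nat_lit 0xfa5688)
noncomputable def s8t3 : ℕ := (nat_lit 0xfab888)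
noncomputable def s8t4 : ℕ := (nat_lit 0xfac4c8)
noncomputable def s8t5 : ℕ := (nat_lit 0xfac650)
noncomputable def s8t6 : ℕ := (nat_lit 0xfac681)
noncomputable def s8T : Tr ℕ := (.node (nat_lit 3) (.node (nat_lit 1) (.leaf s8t0) (.node (nat_lit 2) (.leaf s8t1) (.leaf s8t2)))
 (.node (nat_lit 5) (.node (nat_lit 4) (.leaf s8t3) (.leaf s8t4)) (.node (nat_lit 6) (.leaf s8t5) (.leaf s8t6))))
noncomputable def s8R : Tr (List ℕ) := (.node (nat_lit 14) (.node (nat_lit 7) (.node (nat_lit 3) (.node (nat_lit 1) (.leaf [nat_lit 6, nat_lit 0, nat_lit 6, nat_lit 0]) (.node (nat_lit 2) (.leaf [nat_lit 5, nat_lit 0, nat_lit 5, nat_lit 0]) (.leaf [nat_lit 4, nat_lit 0, nat_lit 4, nat_lit 0])))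
 (.node (nat_lit 5) (.node (nat_lit 4) (.leaf [nat_lit 3, nat_lit 0, nat_lit 3, nat_lit 0]) (.leaf [nat_lit 2, nat_lit 0, nat_lit 2, nat_lit 0])) (.node (nat_lit 6) (.leaf [nat_lit 0, nat_lit 0]) (.leaf [nat_lit 6, nat_lit 1, nat_lit 6, nat_lit 1]))))
 (.node (nat_lit 10) (.node (nat_lit 8) (.leaf [nat_lit 5, nat_lit 1, nat_lit 5, nat_lit 1]) (.node (nat_lit 9) (.leaf [nat_lit 4, nat_lit 1, nat_lit 4, nat_lit 1]) (.leaf [nat_lit 3, nat_lit 1, nat_lit 3, nat_lit 1])))
 (.node (nat_lit 12) (.node (nat_lit 11) (.leaf [nat_lit 1, nat_lit 1]) (.leaf [nat_lit 1, nat_lit 0, nat_lit 1, nat_lit 0, nat_lit 1, nat_lit 0])) (.node (nat_lit 13) (.leaf [nat_lit 6, nat_lit 2, nat_lit 6, nat_lit 2]) (.leaf [nat_lit 5, nat_lit 2, nat_lit 5, nat_lit 2])))))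
 (.node (nat_lit 21) (.node (nat_lit 17) (.node (nat_lit 15) (.leaf [nat_lit 4, nat_lit 2, nat_lit 4, nat_lit 2]) (.node (nat_lit 16) (.leaf [nat_lit 2, nat_lit 2]) (.leaf [nat_lit 2, nat_lit 1, nat_lit 2, nat_lit 1, nat_lit 2, nat_lit 1])))
 (.node (nat_lit 19) (.node (nat_lit 18) (.leaf [nat_lit 6, nat_lit 3, nat_lit 6, nat_lit 3]) (.leaf [nat_lit 5, nat_lit 3, nat_lit 5, nat_lit 3])) (.node (nat_lit 20) (.leaf [nat_lit 3, nat_lit 3]) (.leaf [nat_lit 3, nat_lit 2, nat_lit 3, nat_lit 2, nat_lit 3, nat_lit 2]))))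
 (.node (nat_lit 24) (.node (nat_lit 22) (.leaf [nat_lit 6, nat_lit 4, nat_lit 6, nat_lit 4]) (.node (nat_lit 23) (.leaf [nat_lit 4, nat_lit 4]) (.leaf [nat_lit 4, nat_lit 3, nat_lit 4, nat_lit 3, nat_lit 4, nat_lit 3])))
 (.node (nat_lit 26) (.node (nat_lit 25) (.leaf [nat_lit 5, nat_lit 5]) (.leaf [nat_lit 5, nat_lit 4, nat_lit 5, nat_lit 4, nat_lit 5, nat_lit 4])) (.node (nat_lit 27) (.leaf [nat_lit 6, nat_lit 6]) (.leaf [nat_lit 6, nat_lit 5, nat_lit 6, nat_lit 5, nat_lit 6, nat_lit 5]))))))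
noncomputable def s8L0 : Lev := ⟨(nat_lit 0), (nat_lit 7), (nat_lit 0x102030405060700), (nat_lit 0x706050403020100),
 (.node (nat_lit 3) (.node (nat_lit 1) (.leaf (nat_lit 0x1000600050004000300020000))
 (.node (nat_lit 2) (.leaf (nat_lit 0x70000000100050004000300020000))
 (.leaf (nat_lit 0x70006000000010004000300020000))))
 (.node (nat_lit 5) (.node (nat_lit 4) (.leaf (nat_lit 0x70006000500000001000300020000))
 (.leaf (nat_lit 0x70006000500040000000100020000)))
 (.node (nat_lit 6) (.leaf (nat_lit 0x70006000500040003000000010000))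
 (.leaf (nat_lit 0x70006000500040003000200000001))))),
 (.node (nat_lit 3) (.node (nat_lit 1) (.leaf (nat_lit 0x501000401000301000201000101000001000000))
 (.node (nat_lit 2) (.leaf (nat_lit 0xb02000000000a01000901000801000701000601000000))
 (.leaf (nat_lit 0x402001002000000000f01000e01000d01000c01000000))))
 (.node (nat_lit 5) (.node (nat_lit 4) (.leaf (nat_lit 0x302000902001402000000001301001201001101000000))
 (.leaf (nat_lit 0x202000802000e02001702000000001601001501000000)))
 (.node (nat_lit 6) (.leaf (nat_lit 0x102000702000d02001202001902000000001801000000))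
 (.leaf (nat_lit 0x2000602000c02001102001502001b02000000001a01)))))⟩
noncomputable def s8L1 : Lev := ⟨(nat_lit 1), (nat_lit 6), (nat_lit 0x102030405060000), (nat_lit 0x605040302010000),
 (.node (nat_lit 3) (.node (nat_lit 1) (.leaf (nat_lit 0x1000500040003000200000000))
 (.node (nat_lit 2) (.leaf (nat_lit 0x60000000100040003000200000000))
 (.leaf (nat_lit 0x60005000000010003000200000000))))
 (.node (nat_lit 4) (.leaf (nat_lit 0x60005000400000001000200000000))
 (.node (nat_lit 5) (.leaf (nat_lit 0x60005000400030000000100000000))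
 (.leaf (nat_lit 0x60005000400030002000000010000))))),
 (.node (nat_lit 3) (.node (nat_lit 1) (.leaf (nat_lit 0x501000401000301000201000101000000000000))
 (.node (nat_lit 2) (.leaf (nat_lit 0xb02000000000a01000901000801000701000000000000))
 (.leaf (nat_lit 0x402001002000000000f01000e01000d01000000000000))))
 (.node (nat_lit 4) (.leaf (nat_lit 0x302000902001402000000001301001201000000000000))
 (.node (nat_lit 5) (.leaf (nat_lit 0x202000802000e02001702000000001601000000000000))
 (.leaf (nat_lit 0x102000702000d02001202001902000000001801000000)))))⟩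
noncomputable def s8L2 : Lev := ⟨(nat_lit 2), (nat_lit 5), (nat_lit 0x102030405000000), (nat_lit 0x504030201000000),
 (.node (nat_lit 2) (.node (nat_lit 1) (.leaf (nat_lit 0x1000400030002000000000000))
 (.leaf (nat_lit 0x50000000100030002000000000000)))
 (.node (nat_lit 3) (.leaf (nat_lit 0x50004000000010002000000000000))
 (.node (nat_lit 4) (.leaf (nat_lit 0x50004000300000001000000000000))
 (.leaf (nat_lit 0x50004000300020000000100000000))))),
 (.node (nat_lit 2) (.node (nat_lit 1) (.leaf (nat_lit 0x501000401000301000201000000000000000000))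
 (.leaf (nat_lit 0xb02000000000a01000901000801000000000000000000)))
 (.node (nat_lit 3) (.leaf (nat_lit 0x402001002000000000f01000e01000000000000000000))
 (.node (nat_lit 4) (.leaf (nat_lit 0x302000902001402000000001301000000000000000000))
 (.leaf (nat_lit 0x202000802000e02001702000000001601000000000000)))))⟩
noncomputable def s8L3 : Lev := ⟨(nat_lit 3), (nat_lit 4), (nat_lit 0x102030400000000), (nat_lit 0x403020100000000),
 (.node (nat_lit 2) (.node (nat_lit 1) (.leaf (nat_lit 0x1000300020000000000000000))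
 (.leaf (nat_lit 0x40000000100020000000000000000)))
 (.node (nat_lit 3) (.leaf (nat_lit 0x40003000000010000000000000000))
 (.leaf (nat_lit 0x40003000200000001000000000000)))),
 (.node (nat_lit 2) (.node (nat_lit 1) (.leaf (nat_lit 0x501000401000301000000000000000000000000))
 (.leaf (nat_lit 0xb02000000000a01000901000000000000000000000000)))
 (.node (nat_lit 3) (.leaf (nat_lit 0x402001002000000000f01000000000000000000000000))
 (.leaf (nat_lit 0x302000902001402000000001301000000000000000000))))⟩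
noncomputable def s8L4 : Lev := ⟨(nat_lit 4), (nat_lit 3), (nat_lit 0x102030000000000), (nat_lit 0x302010000000000),
 (.node (nat_lit 1) (.leaf (nat_lit 0x1000200000000000000000000))
 (.node (nat_lit 2) (.leaf (nat_lit 0x30000000100000000000000000000))
 (.leaf (nat_lit 0x30002000000010000000000000000)))),
 (.node (nat_lit 1) (.leaf (nat_lit 0x501000401000000000000000000000000000000))
 (.node (nat_lit 2) (.leaf (nat_lit 0xb02000000000a01000000000000000000000000000000))
 (.leaf (nat_lit 0x402001002000000000f01000000000000000000000000))))⟩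
noncomputable def s8L5 : Lev := ⟨(nat_lit 5), (nat_lit 2), (nat_lit 0x102000000000000), (nat_lit 0x201000000000000),
 (.node (nat_lit 1) (.leaf (nat_lit 0x1000000000000000000000000))
 (.leaf (nat_lit 0x20000000100000000000000000000))),
 (.node (nat_lit 1) (.leaf (nat_lit 0x501000000000000000000000000000000000000))
 (.leaf (nat_lit 0xb02000000000a01000000000000000000000000000000)))⟩
noncomputable def s8L6 : Lev := ⟨(nat_lit 6), (nat_lit 1), (nat_lit 0x100000000000000), (nat_lit 0x100000000000000),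
 (.leaf (nat_lit 0x1000000000000000000000000)),
 (.leaf (nat_lit 0x501000000000000000000000000000000000000))⟩
noncomputable def s8L : List Lev := [s8L0, s8L1, s8L2, s8L3, s8L4, s8L5, s8L6]
theorem s8ch : Ch (Equiv.Perm (Fin 8)) 8 (nat_lit 3) (nat_lit 7) (Fin.ofNat 8) s8T s8L := ch_perm (by decide +kernel)
theorem s8lev0 : levChk 8 (nat_lit 3) (nat_lit 7) s8T s8R s8L0 s8L1.N = true := by decide +kernel
theorem s8lev1 : levChk 8 (nat_lit 3) (nat_lit 7) s8T s8R s8L1 s8L2.N = true := by decide +kernel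
theorem s8lev2 : levChk 8 (nat_lit 3) (nat_lit 7) s8T s8R s8L2 s8L3.N = true := by decide +kernel
theorem s8lev3 : levChk 8 (nat_lit 3) (nat_lit 7) s8T s8R s8L3 s8L4.N = true := by decide +kernel
theorem s8lev4 : levChk 8 (nat_lit 3) (nat_lit 7) s8T s8R s8L4 s8L5.N = true := by decide +kernel
theorem s8lev5 : levChk 8 (nat_lit 3) (nat_lit 7) s8T s8R s8L5 s8L6.N = true := by decide +kernel
theorem s8lev6 : levChk 8 (nat_lit 3) (nat_lit 7) s8T s8R s8L6 0 = true := by decide +kernel
theorem s8chain : Chain 8 (nat_lit 3) (nat_lit 7) s8T s8R s8L := chain_cons s8lev0 <| chain_cons s8lev1 <| chain_cons s8lev2 <| chain_cons s8lev3 <| chain_cons s8lev4 <| chain_cons s8lev5 <| chain_one s8lev6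
theorem s8sd : band (s8R.all fun w => eqB (s8L.map Lev.b) (apL (nat_lit 3) (nat_lit 7) s8T w) fun a => a) (Nat.ble (chainOrd 8 s8L) (chainOrd 8 s8L)) = true := by decide +kernel
theorem s8std : Std (Equiv.Perm (Fin 8)) 8 (nat_lit 3) (nat_lit 7) (Fin.ofNat 8) s8T s8R s8L := (s8ch.std s8ch.lets s8chain s8sd)

end H8.Alt
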