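import Cfsg.Agent.H8.XL52
import Cfsg.Agent.H8.Sub2
import Cfsg.Agent.S0242

/-! H8.KL52: `stdS` (chain of SL(5,2)), `stdT`: chain of the centraliser of a transvection (generated certificate) -/

set_option autoImplicit false
set_option maxRecDepth 200000

set_option linter.all false
open Subgroup 

namespace H8.L52

noncomputable def cat0 : ℕ := (nat_lit 0x464f856d3a6757c77dbe39ac5a928398a418820)
noncomputable def cat1 : ℕ := (nat_lit 0x62facf37eec1f28d276ab9ac5a928398a418820)
noncomputable def cat2 : ℕ := (nat_lit 0x6b38bfbbcdca307dab49b9ac5a928398a418820)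
noncomputable def cat3 : ℕ := (nat_lit 0x6757c77dbe464f856d3a39ac5a928398a418820)
noncomputable def cat4 : ℕ := (nat_lit 0x7bbcdeb38bb16e6a0ea4d276ac1f2898a418820)
noncomputable def cat5 : ℕ := (nat_lit 0x6f9df39ac5dab498c8536b38b9d0953e1190820)
noncomputable def cat6 : ℕ := (nat_lit 0x1a0492f2dbd81416d3d3bb0cd0e257f91c54c35)
noncomputable def cat7 : ℕ := (nat_lit 0x293cdeb2c588349ca241b9b8bfba8398b07daa0)
noncomputable def caT : Tr ℕ := (.node (nat_lit 4) (.node (nat_lit 2) (.node (nat_lit 1) (.leaf cat0) (.leaf cat1)) (.node (nat_lit 3) (.leaf cat2) (.leaf cat3)))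
 (.node (nat_lit 6) (.node (nat_lit 5) (.leaf cat4) (.leaf cat5)) (.node (nat_lit 7) (.leaf cat6) (.leaf cat7))))
noncomputable def caL0 : Lev := ⟨(nat_lit 1), (nat_lit 8), (nat_lit 0x3040207010403060408040304030702060505050805050706070608070007), (nat_lit 0x3030303020404030301030302020402030404020403030303040303040002),
 (.leaf 0),
 (.leaf 0)⟩
noncomputable def caL1 : Lev := ⟨(nat_lit 2), (nat_lit 7), (nat_lit 0x2070304030601040403040707020403050506050507060506060607000007), (nat_lit 0x3030303040302040303030104020202040203040303040303030304000004),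
 (.leaf 0),
 (.leaf 0)⟩
noncomputable def caL2 : Lev := ⟨(nat_lit 5), (nat_lit 6), (nat_lit 0x6030401030204030204030403040604050505060505050606000606000000), (nat_lit 0x3040402040303030204020203030103030303040204040304000404000000),
 (.leaf 0),
 (.leaf 0)⟩
noncomputable def caL3 : Lev := ⟨(nat_lit 6), (nat_lit 5), (nat_lit 0x0), (nat_lit 0x0),
 (.leaf 0),
 (.leaf 0)⟩
noncomputable def caL4 : Lev := ⟨(nat_lit 9), (nat_lit 5), (nat_lit 0x3040104020403040402040304030405050505050500050500000000000000), (nat_lit 0x4040204030503030402020203030301030305030400040400000000000000),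
 (.leaf 0),
 (.leaf 0)⟩
noncomputable def caL5 : Lev := ⟨(nat_lit 10), (nat_lit 4), (nat_lit 0x0), (nat_lit 0x0),
 (.leaf 0),
 (.leaf 0)⟩
noncomputable def caL6 : Lev := ⟨(nat_lit 17), (nat_lit 4), (nat_lit 0x1040304030402040403040204000403000000000000000000000000000000), (nat_lit 0x1030303020202040101030102000202000000000000000000000000000000),
 (.leaf 0),
 (.leaf 0)⟩
noncomputable def caL : List Lev := [caL0, caL1, caL2, caL3, caL4, caL5, caL6]
noncomputable def caE : Tr (List ℕ) := (.node (nat_lit 4) (.node (nat_lit 2) (.node (nat_lit 1) (.leaf [nat_lit 3, nat_lit 2, nat_lit 0]) (.leaf [nat_lit 3, nat_lit 2, nat_lit 1, nat_lit 0])) (.node (nat_lit 3) (.leaf [nat_lit 3]) (.leaf [nat_lit 2, nat_lit 1])))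
 (.node (nat_lit 6) (.node (nat_lit 5) (.leaf [nat_lit 2, nat_lit 4, nat_lit 3, nat_lit 0]) (.leaf [nat_lit 1, nat_lit 6, nat_lit 5, nat_lit 3, nat_lit 1, nat_lit 5, nat_lit 3])) (.node (nat_lit 7) (.leaf [nat_lit 3, nat_lit 0, nat_lit 8, nat_lit 5, nat_lit 0, nat_lit 6, nat_lit 4, nat_lit 0, nat_lit 5]) (.leaf [nat_lit 7, nat_lit 6, nat_lit 7, nat_lit 2, nat_lit 0, nat_lit 6, nat_lit 2, nat_lit 0]))))
theorem caw_0 : caT.all2 (fun c w => isProd 31 (nat_lit 5) (nat_lit 31) L52.T c w) caE = true := by decide +kernel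
theorem caw : caT.all2 (fun c w => isProd 31 (nat_lit 5) (nat_lit 31) L52.T c w) caE = true := caw_0
theorem cac : band (tchainChk 31 (nat_lit 5) (nat_lit 31) caT caL) (Nat.ble (chainOrd 31 L52.L) (chainOrd 31 caL)) = true := by decide +kernel
noncomputable def cx : ℕ := (nat_lit 0x77dcde758bd6d49c6507b5cc5a548394c418440)
noncomputable def cxw : List ℕ := [nat_lit 7, nat_lit 4, nat_lit 6, nat_lit 5, nat_lit 7, nat_lit 4, nat_lit 0, nat_lit 6, nat_lit 5, nat_lit 2, nat_lit 5, nat_lit 2, nat_lit 1]
theorem cxp : isProd 31 (nat_lit 5) (nat_lit 31) L52.T cx cxw = true := by decide +kernel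
noncomputable def ct0 : ℕ := (nat_lit 0x464f856d3a6757c77dbe39ac5a928398a418820)
noncomputable def ct1 : ℕ := (nat_lit 0x6b38bfbbcdca307dab49b9ac5a928398a418820)
noncomputable def ct2 : ℕ := (nat_lit 0x77dbe6757c56d3a464f839ac5a928398a418820)
noncomputable def ct3 : ℕ := (nat_lit 0x35cb6254745ab49ca307f7dbe6757c18a418820)
noncomputable def ct4 : ℕ := (nat_lit 0x18a41eb38bb5cb6464f856d3a254747bbcd8820)
noncomputable def ct5 : ℕ := (nat_lit 0x464838458bb5d49f7c41d6cc594dcda5507e740)
noncomputable def cT : Tr ℕ := (.node (nat_lit 3) (.node (nat_lit 1) (.leaf ct0) (.node (nat_lit 2) (.leaf ct1) (.leaf ct2))) (.node (nat_lit 4) (.leaf ct3) (.node (nat_lit 5) (.leaf ct4) (.leaf ct5))))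
noncomputable def cL0 : Lev := ⟨(nat_lit 1), (nat_lit 6), (nat_lit 0x2030000060300000301000003020000050400000404000005050000060000), (nat_lit 0x2030000010200000302000004030000030300000302000003040000030000),
 (.leaf 0),
 (.leaf 0)⟩
noncomputable def cL1 : Lev := ⟨(nat_lit 2), (nat_lit 5), (nat_lit 0x0), (nat_lit 0x0),
 (.leaf 0),
 (.leaf 0)⟩
noncomputable def cL2 : Lev := ⟨(nat_lit 5), (nat_lit 5), (nat_lit 0x3050000030200000205000001030000040400000404000005000000000000), (nat_lit 0x2010000030200000303000002030000020300000304000003000000000000),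
 (.leaf 0),
 (.leaf 0)⟩
noncomputable def cL3 : Lev := ⟨(nat_lit 6), (nat_lit 4), (nat_lit 0x0), (nat_lit 0x0),
 (.leaf 0),
 (.leaf 0)⟩
noncomputable def cL4 : Lev := ⟨(nat_lit 9), (nat_lit 4), (nat_lit 0x2030000040300000301000003020000040400000400000000000000000000), (nat_lit 0x2030000010200000302000004030000040300000300000000000000000000),
 (.leaf 0),
 (.leaf 0)⟩
noncomputable def cL5 : Lev := ⟨(nat_lit 10), (nat_lit 3), (nat_lit 0x0), (nat_lit 0x0),
 (.leaf 0),
 (.leaf 0)⟩
noncomputable def cL6 : Lev := ⟨(nat_lit 17), (nat_lit 3), (nat_lit 0x1030000020300000302000003000000000000000000000000000000000000), (nat_lit 0x1020000020300000201000001000000000000000000000000000000000000),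
 (.leaf 0),
 (.leaf 0)⟩
noncomputable def cL : List Lev := [cL0, cL1, cL2, cL3, cL4, cL5, cL6]
noncomputable def cE : Tr (List ℕ) := (.node (nat_lit 3) (.node (nat_lit 1) (.leaf [nat_lit 3, nat_lit 2, nat_lit 0]) (.node (nat_lit 2) (.leaf [nat_lit 3]) (.leaf [nat_lit 3, nat_lit 2, nat_lit 1]))) (.node (nat_lit 4) (.leaf [nat_lit 2, nat_lit 1, nat_lit 4, nat_lit 3, nat_lit 1, nat_lit 0]) (.node (nat_lit 5) (.leaf [nat_lit 3, nat_lit 6, nat_lit 3]) (.leaf [nat_lit 1, nat_lit 6, nat_lit 7, nat_lit 6, nat_lit 3, nat_lit 0, nat_lit 6, nat_lit 1, nat_lit 0, nat_lit 4, nat_lit 1, nat_lit 0]))))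
theorem cw_0 : cT.all2 (fun c w => isProd 31 (nat_lit 5) (nat_lit 31) L52.T c w) cE = true := by decide +kernel
theorem cw : cT.all2 (fun c w => isProd 31 (nat_lit 5) (nat_lit 31) L52.T c w) cE = true := cw_0
noncomputable def cJ : List Pr := [(prC (caL.map Lev.b) [((ap (nat_lit 5) (nat_lit 31) cx), (ap (nat_lit 5) (nat_lit 31) cx))])]
noncomputable def cF0 : ℕ × ℕ := ((nat_lit 0xffff0000ffff0000ffff0000ffff0000ffff0000ffff0000ffff0000ff), (nat_lit 0))
theorem cb0 : allR 0 31 (ptB 31 (nat_lit 5) (nat_lit 31) caT cT cJ caL0 [caL1, caL2, caL3, caL4, caL5, caL6] cL0 (dg []) cF0.1 cF0.2) = true := by decide +kernel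
noncomputable def cF1 : ℕ × ℕ := ((nat_lit 0xffffffffffffffffffffffffffffffffffffffffffffffffffffffff0000ff), (nat_lit 0))
theorem cb1 : allR 0 31 (ptB 31 (nat_lit 5) (nat_lit 31) caT cT cJ caL1 [caL2, caL3, caL4, caL5, caL6] cL1 (dg [caL0.b]) cF1.1 cF1.2) = true := by decide +kernel
noncomputable def cF2 : ℕ × ℕ := ((nat_lit 0xffff0000ffff0000ffff0000ffff0000ffff0000ffff0000ffff000000), (nat_lit 0))
theorem cb2 : allR 0 31 (ptB 31 (nat_lit 5) (nat_lit 31) caT cT cJ caL2 [caL3, caL4, caL5, caL6] cL2 (dg [caL1.b, caL0.b]) cF2.1 cF2.2) = true := by decide +kernel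
noncomputable def cF3 : ℕ × ℕ := ((nat_lit 0), (nat_lit 0))
theorem cb3 : allR 0 31 (ptB 31 (nat_lit 5) (nat_lit 31) caT cT cJ caL3 [caL4, caL5, caL6] cL3 (dg [caL2.b, caL1.b, caL0.b]) cF3.1 cF3.2) = true := by decide +kernel
noncomputable def cF4 : ℕ × ℕ := ((nat_lit 0xffff0000ffff0000ffff0000ffff0000ffff0000ffff00000000000000), (nat_lit 0))
theorem cb4 : allR 0 31 (ptB 31 (nat_lit 5) (nat_lit 31) caT cT cJ caL4 [caL5, caL6] cL4 (dg [caL3.b, caL2.b, caL1.b, caL0.b]) cF4.1 cF4.2) = true := by decide +kernel
noncomputable def cF5 : ℕ × ℕ := ((nat_lit 0), (nat_lit 0))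
theorem cb5 : allR 0 31 (ptB 31 (nat_lit 5) (nat_lit 31) caT cT cJ caL5 [caL6] cL5 (dg [caL4.b, caL3.b, caL2.b, caL1.b, caL0.b]) cF5.1 cF5.2) = true := by decide +kernel
noncomputable def cF6 : ℕ × ℕ := ((nat_lit 0xffff0000ffff0000ffff0000ffff000000000000000000000000000000), (nat_lit 0))
theorem cb6 : allR 0 31 (ptB 31 (nat_lit 5) (nat_lit 31) caT cT cJ caL6 [] cL6 (dg [caL5.b, caL4.b, caL3.b, caL2.b, caL1.b, caL0.b]) cF6.1 cF6.2) = true := by decide +kernel
theorem cbk : Bk 31 (nat_lit 5) (nat_lit 31) caT cT cJ caL cL [cF0, cF1, cF2, cF3, cF4, cF5, cF6] [] :=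
  ⟨rfl, cb0, rfl, cb1, rfl, cb2, rfl, cb3, rfl, cb4, rfl, cb5, rfl, cb6, trivial⟩
theorem ctc : tchainChk 31 (nat_lit 5) (nat_lit 31) cT cL = true := by decide +kernel
theorem cm : cT.all (fun c => eqB (caL.map Lev.b) (fun a => ap (nat_lit 5) (nat_lit 31) c (ap (nat_lit 5) (nat_lit 31) cx a)) fun a => ap (nat_lit 5) (nat_lit 31) cx (ap (nat_lit 5) (nat_lit 31) c a)) = true := by decide +kernel
noncomputable def qt0 : ℕ := (nat_lit 0x6757c77dbe464f856d3a39ac5a928398a418820)
noncomputable def qt1 : ℕ := (nat_lit 0x56d3a464f877dbe6757c39ac5a928398a418820)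
noncomputable def qt2 : ℕ := (nat_lit 0x5ab49ca307fbbcdeb38bb9ac5a928398a418820)
noncomputable def qt3 : ℕ := (nat_lit 0x7bbcdeb38bb5cb62547456d3a464f818a418820)
noncomputable def qt4 : ℕ := (nat_lit 0x7bbcd98a41a5474464f835cb656d3a6b38b8820)
noncomputable def qt5 : ℕ := (nat_lit 0x39bcdd6c326747408307fbac594d3a2557c4a20)
noncomputable def qT : Tr ℕ := (.node (nat_lit 3) (.node (nat_lit 1) (.leaf qt0) (.node (nat_lit 2) (.leaf qt1) (.leaf qt2))) (.node (nat_lit 4) (.leaf qt3) (.node (nat_lit 5) (.leaf qt4) (.leaf qt5))))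
noncomputable def qR : Tr (List ℕ) := (.node (nat_lit 13) (.node (nat_lit 6) (.node (nat_lit 3) (.node (nat_lit 1) (.leaf [nat_lit 3, nat_lit 5, nat_lit 1, nat_lit 5, nat_lit 3, nat_lit 5, nat_lit 2, nat_lit 0, nat_lit 5]) (.node (nat_lit 2) (.leaf [nat_lit 0, nat_lit 3, nat_lit 0, nat_lit 3, nat_lit 4, nat_lit 3, nat_lit 4]) (.leaf [nat_lit 3, nat_lit 0, nat_lit 1, nat_lit 3, nat_lit 0, nat_lit 1, nat_lit 3, nat_lit 0, nat_lit 1]))) (.node (nat_lit 4) (.leaf [nat_lit 2, nat_lit 5, nat_lit 0, nat_lit 2, nat_lit 5, nat_lit 0, nat_lit 5, nat_lit 2, nat_lit 0, nat_lit 5]) (.node (nat_lit 5) (.leaf [nat_lit 0, nat_lit 0]) (.leaf [nat_lit 1, nat_lit 4, nat_lit 0, nat_lit 2, nat_lit 5, nat_lit 4, nat_lit 0, nat_lit 5, nat_lit 1, nat_lit 5]))))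
 (.node (nat_lit 9) (.node (nat_lit 7) (.leaf [nat_lit 0, nat_lit 2, nat_lit 0, nat_lit 2]) (.node (nat_lit 8) (.leaf [nat_lit 0, nat_lit 1, nat_lit 0, nat_lit 1]) (.leaf [nat_lit 5, nat_lit 1, nat_lit 2, nat_lit 4, nat_lit 5, nat_lit 1, nat_lit 2, nat_lit 4])))
 (.node (nat_lit 11) (.node (nat_lit 10) (.leaf [nat_lit 1, nat_lit 4, nat_lit 1, nat_lit 2, nat_lit 4, nat_lit 2, nat_lit 4, nat_lit 2, nat_lit 1, nat_lit 4]) (.leaf [nat_lit 3, nat_lit 1, nat_lit 3, nat_lit 1, nat_lit 3, nat_lit 1])) (.node (nat_lit 12) (.leaf [nat_lit 1, nat_lit 1]) (.leaf [nat_lit 1, nat_lit 2, nat_lit 1, nat_lit 2])))))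
 (.node (nat_lit 19) (.node (nat_lit 16) (.node (nat_lit 14) (.leaf [nat_lit 3, nat_lit 2, nat_lit 3, nat_lit 2, nat_lit 3, nat_lit 2]) (.node (nat_lit 15) (.leaf [nat_lit 2, nat_lit 2]) (.leaf [nat_lit 3, nat_lit 3]))) (.node (nat_lit 17) (.leaf [nat_lit 5, nat_lit 4, nat_lit 5, nat_lit 4, nat_lit 5, nat_lit 4, nat_lit 5, nat_lit 4]) (.node (nat_lit 18) (.leaf [nat_lit 4, nat_lit 4]) (.leaf [nat_lit 0, nat_lit 2, nat_lit 4, nat_lit 0, nat_lit 2, nat_lit 5, nat_lit 0, nat_lit 1, nat_lit 4, nat_lit 1, nat_lit 0, nat_lit 5]))))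
 (.node (nat_lit 22) (.node (nat_lit 20) (.leaf [nat_lit 5, nat_lit 5]) (.node (nat_lit 21) (.leaf [nat_lit 4, nat_lit 0, nat_lit 1, nat_lit 4, nat_lit 0, nat_lit 1, nat_lit 4, nat_lit 0, nat_lit 1, nat_lit 4, nat_lit 0, nat_lit 1]) (.leaf [nat_lit 3, nat_lit 0, nat_lit 2, nat_lit 3, nat_lit 0, nat_lit 2, nat_lit 3, nat_lit 0, nat_lit 2])))
 (.node (nat_lit 24) (.node (nat_lit 23) (.leaf [nat_lit 3, nat_lit 0, nat_lit 3, nat_lit 0, nat_lit 3, nat_lit 0, nat_lit 3, nat_lit 0]) (.leaf [nat_lit 1, nat_lit 3, nat_lit 1, nat_lit 2, nat_lit 3, nat_lit 4, nat_lit 2, nat_lit 4, nat_lit 1, nat_lit 4])) (.node (nat_lit 25) (.leaf [nat_lit 3, nat_lit 4, nat_lit 1, nat_lit 2, nat_lit 4, nat_lit 3, nat_lit 4, nat_lit 2, nat_lit 1, nat_lit 4]) (.leaf [nat_lit 4, nat_lit 0, nat_lit 3, nat_lit 0, nat_lit 4, nat_lit 0, nat_lit 3, nat_lit 0]))))))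
noncomputable def qL0 : Lev := ⟨(nat_lit 1), (nat_lit 6), (nat_lit 0x3020000020300000106000005060000060400000405000005050000060000), (nat_lit 0x3030000020200000203000002010000040300000203000003030000030000),
 (.node (nat_lit 3) (.node (nat_lit 1) (.leaf (nat_lit 0x30003000000000002000200000000000000020000000000030001000000000002000e00000000000b000f000000000016001600000000001500000000))
 (.node (nat_lit 2) (.leaf (nat_lit 0x50000000000000000000300000000000100060000000000040001000000000011000900000000000a000f000000000010000e00000000001500000000))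
 (.leaf (nat_lit 0x7000000000003000000000000000100060000000000020001000000000004001100000000000b000f00000000000f001500000000001400000000))))
 (.node (nat_lit 4) (.leaf (nat_lit 0x100008000000000009000c000000000001000300000000000e00010000000000020000000000000000000d00000000000a001100000000001500000000))
 (.node (nat_lit 5) (.leaf (nat_lit 0x3000200000000000100010000000000010005000000000000000100000000000c000d0000000000040000000000000000000000000000000200000000))
 (.leaf (nat_lit 0x10012000000000001001300000000001400000000000000010000000000000000001300000000000c0012000000000011000d00000000000000010000))))),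
 (.node (nat_lit 3) (.node (nat_lit 1) (.leaf (nat_lit 0x400000400000000000000000702000602000000000000000000000506000000000000000401000401000000000000000305000100000000000000000207000100000000000000000007000007000000000000000007000000000000))
 (.node (nat_lit 2) (.leaf (nat_lit 0x701000000000000000000000000000c02000000000000000b01000b01000000000000000b01000b01000000000000000a05000a05000000000000000a05000a05000000000000000902000002000000000000000805000000000000))
 (.leaf (nat_lit 0xe00000000000000000e00000000000000000000000e01000c03000000000000000802000e01000000000000000300000d05000000000000000907000d05000000000000000905000802000000000000000300000000000000))))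
 (.node (nat_lit 4) (.leaf (nat_lit 0x203000d02000000000000000101000d02000000000000000f00000f00000000000000000f00000f00000000000000000004000000000000000000000000000103000000000000000105000105000000000000000000000000000000))
 (.node (nat_lit 5) (.leaf (nat_lit 0x1202001208000000000000001100001100000000000000001100001100000000000000000000001101000000000000000104001101000000000000000104000000000000000000000000000000000000000000001003000000000000))
 (.leaf (nat_lit 0x1300000800000000000000001300001006000000000000001301000000000000000000001300000000000000000000000000001301000000000000000800001300000000000000000800001301000000000000000000001301000000)))))⟩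
noncomputable def qL1 : Lev := ⟨(nat_lit 2), (nat_lit 5), (nat_lit 0x0), (nat_lit 0x0),
 (.node (nat_lit 2) (.node (nat_lit 1) (.leaf (nat_lit 0x0))
 (.leaf (nat_lit 0x0)))
 (.node (nat_lit 3) (.leaf (nat_lit 0x0))
 (.node (nat_lit 4) (.leaf (nat_lit 0x0))
 (.leaf (nat_lit 0x0))))),
 (.node (nat_lit 2) (.node (nat_lit 1) (.leaf (nat_lit 0x0))
 (.leaf (nat_lit 0x0)))
 (.node (nat_lit 3) (.leaf (nat_lit 0x0))
 (.node (nat_lit 4) (.leaf (nat_lit 0x0))
 (.leaf (nat_lit 0x0)))))⟩
noncomputable def qL2 : Lev := ⟨(nat_lit 5), (nat_lit 5), (nat_lit 0x1030000030500000302000002030000040400000404000005000000000000), (nat_lit 0x2040000030100000303000002020000040400000303000004000000000000),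
 (.node (nat_lit 2) (.node (nat_lit 1) (.leaf (nat_lit 0x500000000000400010000000000020002000000000003000300000000000500050000000000040004000000000008000000000000000000000000))
 (.leaf (nat_lit 0x10002000000000002000100000000000300000000000000000003000000000003000900000000000c0003000000000004000000000000000000000000)))
 (.node (nat_lit 3) (.leaf (nat_lit 0x1000000000000000000010000000000000001000000000001000000000000000b0003000000000003000c000000000002000000000000000000000000))
 (.node (nat_lit 4) (.leaf (nat_lit 0x2000a00000000000b00020000000000010001000000000001000100000000000000000000000000000000000000000002000000000000000000000000))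
 (.leaf (nat_lit 0xd000b0000000000010000000000000007000a000000000002000300000000000800070000000000090006000000000000000100000000000000000000))))),
 (.node (nat_lit 2) (.node (nat_lit 1) (.leaf (nat_lit 0x40000000000000000070200040100000000000000060000070000000000000000040100040100000000000000160300160300000000000000150700020700000000000000140a000000000000000000000000000000000000))
 (.leaf (nat_lit 0xb00000c02000000000000000c00000b00000000000000000b01000000000000000000000000000b01000000000000000a05001700000000000000000a05000a05000000000000000900000000000000000000000000000000000000)))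
 (.node (nat_lit 3) (.leaf (nat_lit 0xe00000000000000000000000000000e00000000000000000000000e01000000000000000e01000000000000000000000d05000d05000000000000000d05000d05000000000000000905000000000000000000000000000000000000))
 (.node (nat_lit 4) (.leaf (nat_lit 0x1902000a02000000000000000103000105000000000000000f00000f00000000000000000f00000f00000000000000000000000000000000000000000000000000000000000000001805000000000000000000000000000000000000))
 (.leaf (nat_lit 0x901001707000000000000001100000000000000000000001100001100000000000000001707001101000000000000001100000104000000000000000106000104000000000000000000001101000000000000000000000000000000)))))⟩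
noncomputable def qL3 : Lev := ⟨(nat_lit 6), (nat_lit 4), (nat_lit 0x0), (nat_lit 0x0),
 (.node (nat_lit 2) (.node (nat_lit 1) (.leaf (nat_lit 0x0))
 (.leaf (nat_lit 0x0)))
 (.node (nat_lit 3) (.leaf (nat_lit 0x0))
 (.leaf (nat_lit 0x0)))),
 (.node (nat_lit 2) (.node (nat_lit 1) (.leaf (nat_lit 0x0))
 (.leaf (nat_lit 0x0)))
 (.node (nat_lit 3) (.leaf (nat_lit 0x0))
 (.leaf (nat_lit 0x0))))⟩
noncomputable def qL4 : Lev := ⟨(nat_lit 9), (nat_lit 4), (nat_lit 0x2030000030200000301000004030000040400000400000000000000000000), (nat_lit 0x3030000020200000402000001030000030500000400000000000000000000),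
 (.node (nat_lit 2) (.node (nat_lit 1) (.leaf (nat_lit 0x3000500000000000400020000000000030000000000000001000400000000000200070000000000060000000000000000000000000000000000000000))
 (.leaf (nat_lit 0x200000000000200000000000000030001000000000001000300000000000400060000000000040000000000000000000000000000000000000000)))
 (.node (nat_lit 3) (.leaf (nat_lit 0x1000000000000000000010000000000000001000000000001000000000000000600040000000000030000000000000000000000000000000000000000))
 (.leaf (nat_lit 0x3000500000000000200020000000000010001000000000000000100000000000000000000000000000001000000000000000000000000000000000000)))),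
 (.node (nat_lit 2) (.node (nat_lit 1) (.leaf (nat_lit 0x400000400000000000000000702000702000000000000000600000000000000000000000401000401000000000000001603001603000000000000000207000000000000000000000000000000000000000000000000000000000000))
 (.leaf (nat_lit 0xc02000000000000000c00000000000000000000000b01000b01000000000000000b01000b01000000000000000a05000a05000000000000000a05000000000000000000000000000000000000000000000000000000000000)))
 (.node (nat_lit 3) (.leaf (nat_lit 0xe00000000000000000000000000000e00000000000000000000000e01000000000000000e01000000000000000000000d05000d05000000000000000d05000000000000000000000000000000000000000000000000000000000000))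
 (.leaf (nat_lit 0x203001503000000000000000d02000a02000000000000000f00000f00000000000000000000000f00000000000000000000000000000000000000000000000f01000000000000000000000000000000000000000000000000000000))))⟩
noncomputable def qL5 : Lev := ⟨(nat_lit 10), (nat_lit 3), (nat_lit 0x0), (nat_lit 0x0),
 (.node (nat_lit 1) (.leaf (nat_lit 0x0))
 (.node (nat_lit 2) (.leaf (nat_lit 0x0))
 (.leaf (nat_lit 0x0)))),
 (.node (nat_lit 1) (.leaf (nat_lit 0x0))
 (.node (nat_lit 2) (.leaf (nat_lit 0x0))
 (.leaf (nat_lit 0x0))))⟩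
noncomputable def qL6 : Lev := ⟨(nat_lit 17), (nat_lit 3), (nat_lit 0x3020000020300000103000003000000000000000000000000000000000000), (nat_lit 0x2020000010100000103000002000000000000000000000000000000000000),
 (.node (nat_lit 1) (.leaf (nat_lit 0x3000300000000000200020000000000000004000000000005000100000000000000000000000000000000000000000000000000000000000000000000))
 (.node (nat_lit 2) (.leaf (nat_lit 0x2000000000000000000020000000000010003000000000003000100000000000000000000000000000000000000000000000000000000000000000000))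
 (.leaf (nat_lit 0x100000000000100000000000000010000000000000000000100000000000000000000000000000000000000000000000000000000000000000000)))),
 (.node (nat_lit 1) (.leaf (nat_lit 0x400000400000000000000000702000602000000000000000000000700000000000000000401000401000000000000000000000000000000000000000000000000000000000000000000000000000000000000000000000000000000))
 (.node (nat_lit 2) (.leaf (nat_lit 0xc00000000000000000000000000000c02000000000000000b01000b01000000000000000b01000b01000000000000000000000000000000000000000000000000000000000000000000000000000000000000000000000000000000))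
 (.leaf (nat_lit 0xe00000000000000000e00000000000000000000000e01000000000000000000000000000e01000000000000000000000000000000000000000000000000000000000000000000000000000000000000000000000000000000))))⟩
noncomputable def qL : List Lev := [qL0, qL1, qL2, qL3, qL4, qL5, qL6]
noncomputable def qE : Tr (List ℕ) := (.node (nat_lit 3) (.node (nat_lit 1) (.leaf [nat_lit 2, nat_lit 1]) (.node (nat_lit 2) (.leaf [nat_lit 1, nat_lit 0]) (.leaf [nat_lit 2, nat_lit 1, nat_lit 0]))) (.node (nat_lit 4) (.leaf [nat_lit 2, nat_lit 1, nat_lit 0, nat_lit 3, nat_lit 2, nat_lit 1, nat_lit 0]) (.node (nat_lit 5) (.leaf [nat_lit 1, nat_lit 4, nat_lit 1, nat_lit 0, nat_lit 3, nat_lit 0]) (.leaf [nat_lit 1, nat_lit 0, nat_lit 5, nat_lit 1, nat_lit 0]))))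
theorem qw_0 : qT.all2 (fun c w => isProd 31 (nat_lit 5) (nat_lit 31) cT c w) qE = true := by decide +kernel
theorem qw : qT.all2 (fun c w => isProd 31 (nat_lit 5) (nat_lit 31) cT c w) qE = true := qw_0
theorem qlev0 : levChk 31 (nat_lit 5) (nat_lit 31) qT qR qL0 qL1.N = true := by decide +kernel
theorem qlev1 : levChk 31 (nat_lit 5) (nat_lit 31) qT qR qL1 qL2.N = true := by decide +kernel
theorem qlev2 : levChk 31 (nat_lit 5) (nat_lit 31) qT qR qL2 qL3.N = true := by decide +kernel
theorem qlev3 : levChk 31 (nat_lit 5) (nat_lit 31) qT qR qL3 qL4.N = true := by decide +kernel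
theorem qlev4 : levChk 31 (nat_lit 5) (nat_lit 31) qT qR qL4 qL5.N = true := by decide +kernel
theorem qlev5 : levChk 31 (nat_lit 5) (nat_lit 31) qT qR qL5 qL6.N = true := by decide +kernel
theorem qlev6 : levChk 31 (nat_lit 5) (nat_lit 31) qT qR qL6 0 = true := by decide +kernel
theorem qchain : Chain 31 (nat_lit 5) (nat_lit 31) qT qR qL := chain_cons qlev0 <| chain_cons qlev1 <| chain_cons qlev2 <| chain_cons qlev3 <| chain_cons qlev4 <| chain_cons qlev5 <| chain_one qlev6
theorem qsd : band (qR.all fun w => eqB (cL.map Lev.b) (apL (nat_lit 5) (nat_lit 31) qT w) fun a => a) (Nat.ble (chainOrd 31 cL) (chainOrd 31 qL)) = true := by decide +kernel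
theorem stdC {G : Type*} [Group G] [Finite G] {X : Type*} [MulAction G X] {pt : ℕ → X} (S : Std G 31 (nat_lit 5) (nat_lit 31) pt T RL L)
    {x : G} (hx : RepF 31 pt (ap (nat_lit 5) (nat_lit 31) cx) x) : Std (centralizer {x}) 31 (nat_lit 5) (nat_lit 31) pt qT qR qL :=
  have C := ((S.ch (lets_words S.lets caE caw) cac).sub _ (snd_cent (S.ch (lets_words S.lets caE caw) cac) hx) (lets_chk (lets_words S.lets cE cw) _ _ (cent_chk (S.ch (lets_words S.lets caE caw) cac) hx) cm) ctc cbk)
  (C.std (lets_words C.lets qE qw) qchain qsd)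
abbrev G5 := Matrix.SpecialLinearGroup (Fin 5) (ZMod 2)
noncomputable def pt5 := ptL (τSL (Fin 5) (ZMod 2)) C2 (fun a => (a : ZMod 2)) (fun i : Fin 5 => (i : ℕ)) false V
theorem stdS : Std G5 31 (nat_lit 5) (nat_lit 31) pt5 T RL L := by
  have h := fm2 (F := ZMod 2)
  have hF : Fintype.card (ZMod 2) = 2 := ZMod.card 2
  refine std_of_card std gen (h.pt_inj (ix_fin 5) (τSL (Fin 5) _) pts)
    (act.lets h (ix_fin 5) fun j hj => h.exists_SL (ix_fin 5) (pw j hj).1 (pw j hj).2.1 (by rw [hF]; exact (pw j hj).2.2)) ?_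
  have := Cfsg.Agent.S0242.result hF 5 (by norm_num)
  rw [card]
  simp only [Fin.prod_univ_succ, Fin.prod_univ_zero] at this
  generalize Nat.card _ = c at this ⊢
  norm_num at this
  omega
theorem stdT (s : G5) (hs : (s : Matrix (Fin 5) (Fin 5) (ZMod 2)) = Matrix.transvection 0 1 1) :
    Std (centralizer {s}) 31 (nat_lit 5) (nat_lit 31) pt5 qT qR qL :=
  stdC stdS ((fm2 (F := ZMod 2)).act (ix_fin 5) (S := [[(0, 1), (1, 1)], [(1, 1)], [(2, 1)], [(3, 1)], [(4, 1)]]) (sc := 2 ^ 31 - 1)
    (by decide +kernel) (by decide +kernel) (hs.trans (by decide +kernel)))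

end H8.L52
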