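import Cfsg.Agent.H8.GM24
import Cfsg.Agent.H8.KL52

/-! H8.CM24: `cent2` chain of the centraliser of a 2-central involution, `cent52`: it is the centraliser of a transvection of L5(2) (generated certificate) -/

set_option autoImplicit false
set_option maxRecDepth 200000

set_option linter.all false
open Subgroup 

namespace H8.M24

noncomputable def cat0 : ℕ := (nat_lit 0x55276a9e117a42c5ddc891844195a0)
noncomputable def cat1 : ℕ := (nat_lit 0x14530706d47ccec596a8699441de40)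
noncomputable def cat2 : ℕ := (nat_lit 0xd6d3a092e7c14c5b628298e41cae0)
noncomputable def cat3 : ℕ := (nat_lit 0x9b541bc0f278acc5d4a8899241ba80)
noncomputable def cat4 : ℕ := (nat_lit 0x914344ba677de0b356286b0441d940)
noncomputable def cat5 : ℕ := (nat_lit 0x709548dd2d7c8e66066882ec4196a0)
noncomputable def cat6 : ℕ := (nat_lit 0x549699d89079cc5ade887359118820)
noncomputable def cat7 : ℕ := (nat_lit 0x326a2249703942c8aac87ddd31d1a0)
noncomputable def cat8 : ℕ := (nat_lit 0x1c2b40c8d673d8d59c48544a4ba660)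
noncomputable def cat9 : ℕ := (nat_lit 0x95ab44ddd0145ac52e67404a323cc0)
noncomputable def cat10 : ℕ := (nat_lit 0x4264c0d54d302143c6d75bc622926e)
noncomputable def caT : Tr ℕ := (.node (nat_lit 5) (.node (nat_lit 2) (.node (nat_lit 1) (.leaf cat0) (.leaf cat1)) (.node (nat_lit 3) (.leaf cat2) (.node (nat_lit 4) (.leaf cat3) (.leaf cat4))))
 (.node (nat_lit 8) (.node (nat_lit 6) (.leaf cat5) (.node (nat_lit 7) (.leaf cat6) (.leaf cat7))) (.node (nat_lit 9) (.leaf cat8) (.node (nat_lit 10) (.leaf cat9) (.leaf cat10)))))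
noncomputable def caL0 : Lev := ⟨(nat_lit 0), (nat_lit 11), (nat_lit 0x608020702050a03090b05070b01010b0708080809040900), (nat_lit 0x20303030202020202010303030302030203020303020300),
 (.leaf 0),
 (.leaf 0)⟩
noncomputable def caL1 : Lev := ⟨(nat_lit 8), (nat_lit 10), (nat_lit 0x50704020601040508070209080904000a07030709030200), (nat_lit 0x30303030302020202020203030203000103020304030300),
 (.leaf 0),
 (.leaf 0)⟩
noncomputable def caL2 : Lev := ⟨(nat_lit 3), (nat_lit 9), (nat_lit 0x90604080406050309050306050109000908020800020300), (nat_lit 0x10303030202030303020303030203000302030300020200),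
 (.leaf 0),
 (.leaf 0)⟩
noncomputable def caL3 : Lev := ⟨(nat_lit 15), (nat_lit 8), (nat_lit 0x50705020601040500070207080304000807030700030200), (nat_lit 0x30304030302020200020203030303000103020300030300),
 (.leaf 0),
 (.leaf 0)⟩
noncomputable def caL4 : Lev := ⟨(nat_lit 4), (nat_lit 7), (nat_lit 0x40203020604070100030507070303000407060000050400), (nat_lit 0x30203030203010200030304040402000204030000030400),
 (.leaf 0),
 (.leaf 0)⟩
noncomputable def caL5 : Lev := ⟨(nat_lit 6), (nat_lit 6), (nat_lit 0x6050000000000000000000000), (nat_lit 0x1010000000000000000000000),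
 (.leaf 0),
 (.leaf 0)⟩
noncomputable def caL6 : Lev := ⟨(nat_lit 5), (nat_lit 4), (nat_lit 0x20404040403040400040300000204000300000000010300), (nat_lit 0x20302040302020300020200000101000100000000010300),
 (.leaf 0),
 (.leaf 0)⟩
noncomputable def caL : List Lev := [caL0, caL1, caL2, caL3, caL4, caL5, caL6]
noncomputable def caE : Tr (List ℕ) := (.node (nat_lit 5) (.node (nat_lit 2) (.node (nat_lit 1) (.leaf [nat_lit 0, nat_lit 7, nat_lit 2, nat_lit 6, nat_lit 1, nat_lit 6, nat_lit 1, nat_lit 5, nat_lit 1, nat_lit 4, nat_lit 2]) (.leaf [nat_lit 7, nat_lit 3, nat_lit 7, nat_lit 6, nat_lit 3, nat_lit 2, nat_lit 5, nat_lit 4, nat_lit 3, nat_lit 4, nat_lit 1, nat_lit 3, nat_lit 2, nat_lit 1])) (.node (nat_lit 3) (.leaf [nat_lit 3, nat_lit 0, nat_lit 7, nat_lit 2, nat_lit 6, nat_lit 1, nat_lit 6, nat_lit 1, nat_lit 5, nat_lit 1, nat_lit 4, nat_lit 3, nat_lit 2]) (.node (nat_lit 4) (.leaf [nat_lit 3, nat_lit 2, nat_lit 7,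 nat_lit 1, nat_lit 4, nat_lit 6, nat_lit 3, nat_lit 2, nat_lit 5, nat_lit 4, nat_lit 3, nat_lit 0, nat_lit 4, nat_lit 1, nat_lit 3, nat_lit 1, nat_lit 2]) (.leaf [nat_lit 4, nat_lit 7, nat_lit 4, nat_lit 6, nat_lit 1, nat_lit 6, nat_lit 1, nat_lit 5, nat_lit 3, nat_lit 1, nat_lit 4, nat_lit 3, nat_lit 1, nat_lit 2]))))
 (.node (nat_lit 8) (.node (nat_lit 6) (.leaf [nat_lit 2, nat_lit 1, nat_lit 7, nat_lit 1, nat_lit 6, nat_lit 3, nat_lit 2, nat_lit 5, nat_lit 4, nat_lit 3, nat_lit 4, nat_lit 1, nat_lit 3, nat_lit 1, nat_lit 2, nat_lit 0]) (.node (nat_lit 7) (.leaf [nat_lit 0, nat_lit 3, nat_lit 0, nat_lit 4, nat_lit 3, nat_lit 1, nat_lit 2]) (.leaf [nat_lit 0, nat_lit 7, nat_lit 4, nat_lit 2, nat_lit 0, nat_lit 6, nat_lit 3, nat_lit 2, nat_lit 5, nat_lit 3, nat_lit 0, nat_lit 4]))) (.node (nat_lit 9) (.leaf [nat_lit 2, nat_lit 0, nat_lit 7, nat_lit 2, nat_lit 0, nat_lit 6, nat_lit 2, nat_lit 5, nat_lit 4, nat_lit 3,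 nat_lit 1, nat_lit 2]) (.node (nat_lit 10) (.leaf [nat_lit 3, nat_lit 1, nat_lit 7, nat_lit 4, nat_lit 1, nat_lit 3, nat_lit 5, nat_lit 3, nat_lit 0, nat_lit 4, nat_lit 1, nat_lit 3, nat_lit 2, nat_lit 0]) (.leaf [nat_lit 2, nat_lit 8, nat_lit 0, nat_lit 7, nat_lit 1, nat_lit 4, nat_lit 5, nat_lit 4, nat_lit 3, nat_lit 4, nat_lit 0, nat_lit 2, nat_lit 0])))))
theorem caw_0 : caT.all2 (fun c w => isProd 24 (nat_lit 5) (nat_lit 31) M24.T c w) caE = true := by decide +kernel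
theorem caw : caT.all2 (fun c w => isProd 24 (nat_lit 5) (nat_lit 31) M24.T c w) caE = true := caw_0
theorem cac : band (tchainChk 24 (nat_lit 5) (nat_lit 31) caT caL) (Nat.ble (chainOrd 24 M24.L) (chainOrd 24 caL)) = true := by decide +kernel
noncomputable def cx : ℕ := (nat_lit 0xba6349cab01b8ab61ec0511a678828)
noncomputable def cxw : List ℕ := [nat_lit 1, nat_lit 8, nat_lit 4, nat_lit 7, nat_lit 3, nat_lit 1, nat_lit 6, nat_lit 4, nat_lit 0, nat_lit 5, nat_lit 0, nat_lit 3, nat_lit 1, nat_lit 4, nat_lit 3, nat_lit 1, nat_lit 2]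
theorem cxp : isProd 24 (nat_lit 5) (nat_lit 31) M24.T cx cxw = true := by decide +kernel
noncomputable def ct0 : ℕ := (nat_lit 0xa29b70b8a27caac5d8e849a241c260)
noncomputable def ct1 : ℕ := (nat_lit 0x14530706d47ccec596a8699441de40)
noncomputable def ct2 : ℕ := (nat_lit 0x9262e85eb37d0ac59ec8519a418440)
noncomputable def ct3 : ℕ := (nat_lit 0xd982741727ccd58a9283b4851d2e0)
noncomputable def ct4 : ℕ := (nat_lit 0xa5ab794e212886c5912831dea6ba00)
noncomputable def ct5 : ℕ := (nat_lit 0x9196185d9338911a8c8d7d80953a85)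
noncomputable def cT : Tr ℕ := (.node (nat_lit 3) (.node (nat_lit 1) (.leaf ct0) (.node (nat_lit 2) (.leaf ct1) (.leaf ct2))) (.node (nat_lit 4) (.leaf ct3) (.node (nat_lit 5) (.leaf ct4) (.leaf ct5))))
noncomputable def cL0 : Lev := ⟨(nat_lit 0), (nat_lit 6), (nat_lit 0x203000000010005000306040206060304060406000000), (nat_lit 0x303000000020002000203030203030303010203000000),
 (.leaf 0),
 (.leaf 0)⟩
noncomputable def cL1 : Lev := ⟨(nat_lit 8), (nat_lit 5), (nat_lit 0x0), (nat_lit 0x0),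
 (.leaf 0),
 (.leaf 0)⟩
noncomputable def cL2 : Lev := ⟨(nat_lit 3), (nat_lit 5), (nat_lit 0x301000000030005000504040302000204030400000000), (nat_lit 0x402000000030003000103040303000202020300000000),
 (.leaf 0),
 (.leaf 0)⟩
noncomputable def cL3 : Lev := ⟨(nat_lit 15), (nat_lit 4), (nat_lit 0x0), (nat_lit 0x0),
 (.leaf 0),
 (.leaf 0)⟩
noncomputable def cL4 : Lev := ⟨(nat_lit 4), (nat_lit 4), (nat_lit 0x203000000010000000304040203000304040000000000), (nat_lit 0x303000000020000000204030204000303010000000000),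
 (.leaf 0),
 (.leaf 0)⟩
noncomputable def cL5 : Lev := ⟨(nat_lit 6), (nat_lit 3), (nat_lit 0x0), (nat_lit 0x0),
 (.leaf 0),
 (.leaf 0)⟩
noncomputable def cL6 : Lev := ⟨(nat_lit 5), (nat_lit 3), (nat_lit 0x203000000010000000300000203000300000000000000), (nat_lit 0x202000000010000000100000103000200000000000000),
 (.leaf 0),
 (.leaf 0)⟩
noncomputable def cL : List Lev := [cL0, cL1, cL2, cL3, cL4, cL5, cL6]
noncomputable def cE : Tr (List ℕ) := (.node (nat_lit 3) (.node (nat_lit 1) (.leaf [nat_lit 2, nat_lit 0, nat_lit 7, nat_lit 4, nat_lit 1, nat_lit 6, nat_lit 3, nat_lit 2, nat_lit 5, nat_lit 3, nat_lit 4, nat_lit 0, nat_lit 3, nat_lit 0, nat_lit 2, nat_lit 1]) (.node (nat_lit 2) (.leaf [nat_lit 7, nat_lit 3, nat_lit 7, nat_lit 6, nat_lit 3, nat_lit 2, nat_lit 5, nat_lit 4, nat_lit 3, nat_lit 4, nat_lit 1, nat_lit 3, nat_lit 2, nat_lit 1]) (.leaf [nat_lit 7, nat_lit 0, nat_lit 7, nat_lit 4, nat_lit 0, nat_lit 6, nat_lit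 3, nat_lit 2, nat_lit 5, nat_lit 3, nat_lit 0, nat_lit 4, nat_lit 3, nat_lit 1, nat_lit 2]))) (.node (nat_lit 4) (.leaf [nat_lit 3, nat_lit 0, nat_lit 7, nat_lit 3, nat_lit 6, nat_lit 3, nat_lit 2, nat_lit 5, nat_lit 4, nat_lit 3, nat_lit 0, nat_lit 4, nat_lit 0]) (.node (nat_lit 5) (.leaf [nat_lit 5, nat_lit 7, nat_lit 5, nat_lit 6, nat_lit 4, nat_lit 3, nat_lit 2, nat_lit 5, nat_lit 0, nat_lit 4, nat_lit 3, nat_lit 1, nat_lit 4, nat_lit 3]) (.leaf [nat_lit 4, nat_lit 3, nat_lit 8, nat_lit 2, nat_lit 7, nat_lit 3, nat_lit 2, nat_lit 6, nat_lit 3, nat_lit 2, nat_lit 5, nat_lit 4, nat_lit 0, nat_lit 3]))))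
theorem cw_0 : cT.all2 (fun c w => isProd 24 (nat_lit 5) (nat_lit 31) M24.T c w) cE = true := by decide +kernel
theorem cw : cT.all2 (fun c w => isProd 24 (nat_lit 5) (nat_lit 31) M24.T c w) cE = true := cw_0
noncomputable def cJ : List Pr := [(prC (caL.map Lev.b) [((ap (nat_lit 5) (nat_lit 31) cx), (ap (nat_lit 5) (nat_lit 31) cx))])]
noncomputable def cF0 : ℕ × ℕ := ((nat_lit 0xff0000ffffff00ff00ff0000000000000000000000ffff00), (nat_lit 0))
theorem cb0 : allR 0 24 (ptB 24 (nat_lit 5) (nat_lit 31) caT cT cJ caL0 [caL1, caL2, caL3, caL4, caL5, caL6] cL0 (dg []) cF0.1 cF0.2) = true := by decide +kernel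
noncomputable def cF1 : ℕ × ℕ := ((nat_lit 0xffffffffffffffffffffffffffffff00ffffffffffffff00), (nat_lit 0))
theorem cb1 : allR 0 24 (ptB 24 (nat_lit 5) (nat_lit 31) caT cT cJ caL1 [caL2, caL3, caL4, caL5, caL6] cL1 (dg [caL0.b]) cF1.1 cF1.2) = true := by decide +kernel
noncomputable def cF2 : ℕ × ℕ := ((nat_lit 0xff0000ffffff00ff00ff0000000000000000000000ffff00), (nat_lit 0))
theorem cb2 : allR 0 24 (ptB 24 (nat_lit 5) (nat_lit 31) caT cT cJ caL2 [caL3, caL4, caL5, caL6] cL2 (dg [caL1.b, caL0.b]) cF2.1 cF2.2) = true := by decide +kernel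
noncomputable def cF3 : ℕ × ℕ := ((nat_lit 0xffffffffffffffff00ffffffffffff00ffffffff00ffff00), (nat_lit 0))
theorem cb3 : allR 0 24 (ptB 24 (nat_lit 5) (nat_lit 31) caT cT cJ caL3 [caL4, caL5, caL6] cL3 (dg [caL2.b, caL1.b, caL0.b]) cF3.1 cF3.2) = true := by decide +kernel
noncomputable def cF4 : ℕ × ℕ := ((nat_lit 0xff0000ffffff00ff00ff0000000000000000000000ffff00), (nat_lit 0))
theorem cb4 : allR 0 24 (ptB 24 (nat_lit 5) (nat_lit 31) caT cT cJ caL4 [caL5, caL6] cL4 (dg [caL3.b, caL2.b, caL1.b, caL0.b]) cF4.1 cF4.2) = true := by decide +kernel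
noncomputable def cF5 : ℕ × ℕ := ((nat_lit 0xffff0000000000000000000000), (nat_lit 0))
theorem cb5 : allR 0 24 (ptB 24 (nat_lit 5) (nat_lit 31) caT cT cJ caL5 [caL6] cL5 (dg [caL4.b, caL3.b, caL2.b, caL1.b, caL0.b]) cF5.1 cF5.2) = true := by decide +kernel
noncomputable def cF6 : ℕ × ℕ := ((nat_lit 0xff0000ffffff00ff00ff0000000000000000000000ffff00), (nat_lit 0))
theorem cb6 : allR 0 24 (ptB 24 (nat_lit 5) (nat_lit 31) caT cT cJ caL6 [] cL6 (dg [caL5.b, caL4.b, caL3.b, caL2.b, caL1.b, caL0.b]) cF6.1 cF6.2) = true := by decide +kernel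
theorem cbk : Bk 24 (nat_lit 5) (nat_lit 31) caT cT cJ caL cL [cF0, cF1, cF2, cF3, cF4, cF5, cF6] [] :=
  ⟨rfl, cb0, rfl, cb1, rfl, cb2, rfl, cb3, rfl, cb4, rfl, cb5, rfl, cb6, trivial⟩
theorem ctc : tchainChk 24 (nat_lit 5) (nat_lit 31) cT cL = true := by decide +kernel
theorem cm : cT.all (fun c => eqB (caL.map Lev.b) (fun a => ap (nat_lit 5) (nat_lit 31) c (ap (nat_lit 5) (nat_lit 31) cx a)) fun a => ap (nat_lit 5) (nat_lit 31) cx (ap (nat_lit 5) (nat_lit 31) c a)) = true := by decide +kernel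
noncomputable def iI : Tr (List ℕ) := (.node (nat_lit 3) (.node (nat_lit 1) (.leaf [nat_lit 3, nat_lit 5, nat_lit 3, nat_lit 0, nat_lit 4, nat_lit 1, nat_lit 3, nat_lit 2]) (.node (nat_lit 2) (.leaf [nat_lit 3, nat_lit 5, nat_lit 2, nat_lit 1, nat_lit 4, nat_lit 3, nat_lit 2, nat_lit 3, nat_lit 2, nat_lit 1]) (.leaf [nat_lit 3, nat_lit 2, nat_lit 0, nat_lit 4, nat_lit 2, nat_lit 0, nat_lit 3, nat_lit 2, nat_lit 1, nat_lit 0]))) (.node (nat_lit 4) (.leaf [nat_lit 3, nat_lit 2, nat_lit 0, nat_lit 3, nat_lit 2, nat_lit 0]) (.node (nat_lit 5) (.leaf [nat_lit 5, nat_lit 3, nat_lit 0, nat_lit 4, nat_lit 3, nat_lit 0, nat_lit 3, nat_lit 1, nat_lit 0]) (.leaf [nat_lit 5, nat_lit 2, nat_lit 5, nat_lit 4, nat_lit 2, nat_lit 4, nat_lit 1, nat_lit 3, nat_lit 1]))))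
theorem ih : L52.qR.all (fun w => eqB (cL.map Lev.b) (apF (fun y => apL (nat_lit 5) (nat_lit 31) cT (iI.get y)) w) fun a => a) = true := by decide +kernel
noncomputable def iD : Tr (List ℕ) := (.node (nat_lit 3) (.node (nat_lit 1) (.leaf [nat_lit 4, nat_lit 2, nat_lit 5, nat_lit 2, nat_lit 4, nat_lit 3, nat_lit 2, nat_lit 1, nat_lit 0, nat_lit 3, nat_lit 2]) (.node (nat_lit 2) (.leaf [nat_lit 3, nat_lit 2, nat_lit 1, nat_lit 0, nat_lit 3]) (.leaf [nat_lit 4, nat_lit 2, nat_lit 5, nat_lit 2, nat_lit 4, nat_lit 2]))) (.node (nat_lit 4) (.leaf [nat_lit 0, nat_lit 4, nat_lit 2, nat_lit 1, nat_lit 0, nat_lit 3, nat_lit 2, nat_lit 1]) (.node (nat_lit 5) (.leaf [nat_lit 2, nat_lit 0, nat_lit 4, nat_lit 3, nat_lit 2, nat_lit 1, nat_lit 3, nat_lit 1, nat_lit 0]) (.leaf [nat_lit 4, nat_lit 0, nat_lit 5, nat_lit 2, nat_lit 1, nat_lit 0, nat_lit 4, nat_lit 3, nat_lit 2, nat_lit 1, nat_lit 3, nat_lit 2, nat_lit 0]))))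
theorem is : band (surChk (nat_lit 5) (nat_lit 31) (cL.map Lev.b) cT iI (topN L52.qL) iD (topN cL)) (Nat.ble (chainOrd 31 L52.qL) (chainOrd 24 cL)) = true := by decide +kernel
theorem cent2 {G : Type*} [Group G] [Finite G] {X : Type*} [MulAction G X] {pt : ℕ → X} (S : Std G 24 (nat_lit 5) (nat_lit 31) pt T RL L) :
    ∃ z : G, RepF 24 pt (ap (nat_lit 5) (nat_lit 31) cx) z ∧ orderOf z = 2 ∧ Ch (centralizer {z}) 24 (nat_lit 5) (nat_lit 31) pt cT cL :=
  ⟨_, (rep_word S.lets cxw cxp), (ordF_spec S.inj S.base (rep_word S.lets cxw cxp) (fuel := 3) (by decide +kernel)).trans (by decide +kernel), ((S.ch (lets_words S.lets caE caw) cac).sub _ (snd_cent (S.ch (lets_words S.lets caE caw) cac) (rep_word S.lets cxw cxp)) (lets_chk (lets_words S.lets cE cw) _ _ (cent_chk (S.ch (lets_words S.lets caE caw) cac) (rep_word S.lets cxw cxp)) cm) ctc cbk)⟩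
theorem cent52 {G : Type*} [Group G] [Finite G] {X : Type*} [MulAction G X] {pt : ℕ → X} (C : Ch G 24 (nat_lit 5) (nat_lit 31) pt cT cL)
    (s : L52.G5) (hs : (s : Matrix (Fin 5) (Fin 5) (ZMod 2)) = Matrix.transvection 0 1 1) : Nonempty (centralizer {s} ≃* G) :=
  have S' := L52.stdT s hs
  (S'.isoW C ih is)

end H8.M24
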