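import Cfsg.Agent.H8.Cl

/-! H8.Cl1: the generators of M12 and M11 of Passman (generated certificate) -/

set_option autoImplicit false
set_option maxRecDepth 200000

set_option linter.all false
open Subgroup 

namespace H8.Cl1

noncomputable def at0 : ℕ := (nat_lit 0xa74b85963210)
noncomputable def at1 : ℕ := (nat_lit 0x8b57a4693210)
noncomputable def at2 : ℕ := (nat_lit 0x95746b8a3210)
noncomputable def at3 : ℕ := (nat_lit 0x64b597a83210)
noncomputable def at4 : ℕ := (nat_lit 0xab9453786210)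
noncomputable def at5 : ℕ := (nat_lit 0xb87a96305214)
noncomputable def at6 : ℕ := (nat_lit 0xb796a8140253)
noncomputable def at7 : ℕ := (nat_lit 0x4a89325b7610)
noncomputable def aT : Tr ℕ := (.node (nat_lit 4) (.node (nat_lit 2) (.node (nat_lit 1) (.leaf at0) (.leaf at1)) (.node (nat_lit 3) (.leaf at2) (.leaf at3)))
 (.node (nat_lit 6) (.node (nat_lit 5) (.leaf at4) (.leaf at5)) (.node (nat_lit 7) (.leaf at6) (.leaf at7))))
noncomputable def aR : Tr (List ℕ) := (.node (nat_lit 11) (.node (nat_lit 5) (.node (nat_lit 2) (.node (nat_lit 1) (.leaf [nat_lit 0, nat_lit 3, nat_lit 4, nat_lit 0, nat_lit 2, nat_lit 5, nat_lit 1, nat_lit 5, nat_lit 0, nat_lit 5]) (.leaf [nat_lit 0, nat_lit 1])) (.node (nat_lit 3) (.leaf [nat_lit 7, nat_lit 4, nat_lit 0, nat_lit 4, nat_lit 7, nat_lit 4, nat_lit 0, nat_lit 4]) (.node (nat_lit 4) (.leaf [nat_lit 0, nat_lit 0, nat_lit 0, nat_lit 0]) (.leaf [nat_lit 2, nat_lit 4, nat_lit 5, nat_lit 7, nat_lit 1, nat_lit 6, nat_lit 7, nat_lit 6, nat_lit 0, nat_lit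 7]))))
 (.node (nat_lit 8) (.node (nat_lit 6) (.leaf [nat_lit 0, nat_lit 2, nat_lit 0, nat_lit 3]) (.node (nat_lit 7) (.leaf [nat_lit 0, nat_lit 0, nat_lit 2, nat_lit 2]) (.leaf [nat_lit 4, nat_lit 3, nat_lit 7, nat_lit 3, nat_lit 7, nat_lit 1, nat_lit 7]))) (.node (nat_lit 9) (.leaf [nat_lit 2, nat_lit 3]) (.node (nat_lit 10) (.leaf [nat_lit 0, nat_lit 2, nat_lit 4, nat_lit 0, nat_lit 5, nat_lit 6, nat_lit 2, nat_lit 6, nat_lit 4, nat_lit 6]) (.leaf [nat_lit 1, nat_lit 4, nat_lit 3, nat_lit 5, nat_lit 0, nat_lit 0, nat_lit 5, nat_lit 4, nat_lit 0, nat_lit 5])))))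
 (.node (nat_lit 16) (.node (nat_lit 13) (.node (nat_lit 12) (.leaf [nat_lit 2, nat_lit 4, nat_lit 0, nat_lit 7, nat_lit 4, nat_lit 3, nat_lit 4, nat_lit 7]) (.leaf [nat_lit 5, nat_lit 2, nat_lit 4, nat_lit 5, nat_lit 2, nat_lit 4])) (.node (nat_lit 14) (.leaf [nat_lit 4, nat_lit 4]) (.node (nat_lit 15) (.leaf [nat_lit 0, nat_lit 3, nat_lit 4, nat_lit 2, nat_lit 4, nat_lit 0, nat_lit 4]) (.leaf [nat_lit 3, nat_lit 5, nat_lit 3, nat_lit 6, nat_lit 5, nat_lit 0, nat_lit 5, nat_lit 6]))))
 (.node (nat_lit 19) (.node (nat_lit 17) (.leaf [nat_lit 7, nat_lit 1, nat_lit 5, nat_lit 4, nat_lit 7, nat_lit 1, nat_lit 5, nat_lit 4]) (.node (nat_lit 18) (.leaf [nat_lit 5, nat_lit 5]) (.leaf [nat_lit 5, nat_lit 2, nat_lit 5, nat_lit 2, nat_lit 5, nat_lit 2]))) (.node (nat_lit 20) (.leaf [nat_lit 6, nat_lit 6]) (.node (nat_lit 21) (.leaf [nat_lit 0, nat_lit 4, nat_lit 2, nat_lit 5, nat_lit 6, nat_lit 1, nat_lit 5, nat_lit 4, nat_lit 6]) (.leaf [nat_lit 7, nat_lit 7]))))))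
noncomputable def aL0 : Lev := ⟨(nat_lit 2), (nat_lit 8), (nat_lit 0x40401070308020105000706), (nat_lit 0x20303020201020202000303),
 (.node (nat_lit 4) (.node (nat_lit 2) (.node (nat_lit 1) (.leaf (nat_lit 0x600050000000c000b000100020000000200000016000c))
 (.leaf (nat_lit 0xd00070003000c0006000100000001000300000015000d)))
 (.node (nat_lit 3) (.leaf (nat_lit 0x200030003000c00000001000d0001000300000013000f))
 (.leaf (nat_lit 0x3000e000400010004000d000200000014000e))))
 (.node (nat_lit 6) (.node (nat_lit 5) (.leaf (nat_lit 0x3000400070011000c0001000b001000000000000e000d))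
 (.leaf (nat_lit 0x40010000900110008000a000300010002000000150000)))
 (.node (nat_lit 7) (.leaf (nat_lit 0x120012001200000011000100010011000f000000000010))
 (.leaf (nat_lit 0x300070013001200030000000d00020004000100020014))))),
 (.node (nat_lit 4) (.node (nat_lit 2) (.node (nat_lit 1) (.leaf (nat_lit 0x601000502000000000302000408000100000301000000000202000000000100000008))
 (.leaf (nat_lit 0x101000101000101000101000101000101000000000101000101000000000705000101)))
 (.node (nat_lit 3) (.leaf (nat_lit 0x602000602000603000603000000000800000603000800000800000000000906000800))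
 (.leaf (nat_lit 0x801000801000801000801000801000801000b05000000000801000a02))))
 (.node (nat_lit 6) (.node (nat_lit 5) (.leaf (nat_lit 0xe02000d01000e02000d00000d00000d00000c05000c02000000000000000908000a07))
 (.leaf (nat_lit 0xc03001202001100001101000a03001200001100001100001002000000000f01000000)))
 (.node (nat_lit 7) (.leaf (nat_lit 0xf03001300000f03000000000f03001301001300001404000f07000000000000001301))
 (.leaf (nat_lit 0x1500000704001500000704000702000000000706000704001501001501000406001000)))))⟩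
noncomputable def aL1 : Lev := ⟨(nat_lit 1), (nat_lit 7), (nat_lit 0x40302040501070106000007), (nat_lit 0x30202020202010302000003),
 (.node (nat_lit 3) (.node (nat_lit 1) (.leaf (nat_lit 0x50008000200040009000000010000000200000000000e))
 (.node (nat_lit 2) (.leaf (nat_lit 0x500060000000a0009000100010003000300000000000f))
 (.leaf (nat_lit 0x30000000800020007000100010003000400000000000e))))
 (.node (nat_lit 5) (.node (nat_lit 4) (.leaf (nat_lit 0x4000400000009000800010003000500000000000f))
 (.leaf (nat_lit 0x500040006000b000000060001000a000500000000000f)))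
 (.node (nat_lit 6) (.leaf (nat_lit 0x6000200030003000200080001000d000000000000000c))
 (.leaf (nat_lit 0x90003000a000c0002000b0000000b0001000000010000))))),
 (.node (nat_lit 3) (.node (nat_lit 1) (.leaf (nat_lit 0x600000600000300000502000303000000000100000000000f05000000000000000f05))
 (.node (nat_lit 2) (.leaf (nat_lit 0x101000101000000000101000101000101000101000101000101000000000000000101))
 (.leaf (nat_lit 0x602000000000603000602000e03000800000800000603001205000000000000001205))))
 (.node (nat_lit 5) (.node (nat_lit 4) (.leaf (nat_lit 0x801000801000000000801000801000801000801000801000000000000000801))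
 (.leaf (nat_lit 0xd00000c02000e02000d00000000000d00000d01000e06001401000000000000000c05)))
 (.node (nat_lit 6) (.leaf (nat_lit 0xc03000f01001100001101001406001200001100001100000000000000000000000f06))
 (.leaf (nat_lit 0xf03001300000f07001300000907000f07000000001408001300000000001301000000)))))⟩
noncomputable def aL2 : Lev := ⟨(nat_lit 0), (nat_lit 6), (nat_lit 0x30401030402010605000000), (nat_lit 0x30202020302030103000000),
 (.node (nat_lit 3) (.node (nat_lit 1) (.leaf (nat_lit 0x400050000000200060002000000010009000000000000))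
 (.node (nat_lit 2) (.leaf (nat_lit 0x30005000100070006000000030001000a000000000000))
 (.leaf (nat_lit 0x20001000000030002000300010007000000000000))))
 (.node (nat_lit 4) (.leaf (nat_lit 0x300000001000400000004000300010008000000000000))
 (.node (nat_lit 5) (.leaf (nat_lit 0xb000c0005000300090001000800020000000000000000))
 (.leaf (nat_lit 0xa00020009000300080002000300000002000000000001))))),
 (.node (nat_lit 3) (.node (nat_lit 1) (.leaf (nat_lit 0x600000600000000000502000303000302000000000100000e00000000000000000000))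
 (.node (nat_lit 2) (.leaf (nat_lit 0x101000101000101000101000101000000000101000101000101000000000000000000))
 (.leaf (nat_lit 0x602000800000000000602000603000603000800000e03000000000000000000))))
 (.node (nat_lit 4) (.leaf (nat_lit 0x801000000000801000801000000000801000801000801000801000000000000000000))
 (.node (nat_lit 5) (.leaf (nat_lit 0xc02000d01000e06000d00000d00000d00000c05000c02000000000000000000000000))
 (.leaf (nat_lit 0x1204001202001100001101000a09000007001100000000000a06000000000000001101)))))⟩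
noncomputable def aL3 : Lev := ⟨(nat_lit 3), (nat_lit 5), (nat_lit 0x40401030305020100000000), (nat_lit 0x20303030201020200000000),
 (.node (nat_lit 2) (.node (nat_lit 1) (.leaf (nat_lit 0x400050000000300060001000200000000000000000000))
 (.leaf (nat_lit 0x400050003000700060001000000010000000000000000)))
 (.node (nat_lit 3) (.leaf (nat_lit 0x200030003000000000001000200010000000000000000))
 (.node (nat_lit 4) (.leaf (nat_lit 0x3000300040001000400010000000000000000))
 (.leaf (nat_lit 0x200030006000600030000000200050001000000000000))))),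
 (.node (nat_lit 2) (.node (nat_lit 1) (.leaf (nat_lit 0x600000600000000000502000303000100000301000000000000000000000000000000))
 (.leaf (nat_lit 0x101000101000101000101000101000101000000000101000000000000000000000000)))
 (.node (nat_lit 3) (.leaf (nat_lit 0x602000602000603000000000000000800000603000800000000000000000000000000))
 (.node (nat_lit 4) (.leaf (nat_lit 0x801000801000801000801000801000801000000000000000000000000))
 (.leaf (nat_lit 0xe02000d01000e04000d00000d00000000000e04000e06000d01000000000000000000)))))⟩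
noncomputable def aL4 : Lev := ⟨(nat_lit 4), (nat_lit 4), (nat_lit 0x30401030402010000000000), (nat_lit 0x20101010201020000000000),
 (.node (nat_lit 2) (.node (nat_lit 1) (.leaf (nat_lit 0x400050000000200060002000000010000000000000000))
 (.leaf (nat_lit 0x300050001000700060000000300010000000000000000)))
 (.node (nat_lit 3) (.leaf (nat_lit 0x20001000000030002000300010000000000000000))
 (.leaf (nat_lit 0x300000001000400000004000300010000000000000000)))),
 (.node (nat_lit 2) (.node (nat_lit 1) (.leaf (nat_lit 0x600000600000000000502000303000302000000000100000000000000000000000000))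
 (.leaf (nat_lit 0x101000101000101000101000101000000000101000101000000000000000000000000)))
 (.node (nat_lit 3) (.leaf (nat_lit 0x602000800000000000602000603000603000800000000000000000000000000))
 (.leaf (nat_lit 0x801000000000801000801000000000801000801000801000000000000000000000000))))⟩
noncomputable def aL : List Lev := [aL0, aL1, aL2, aL3, aL4]
noncomputable def as0 : ℕ := (nat_lit 0x9ba687354210)
noncomputable def as1 : ℕ := (nat_lit 0x543ba9876210)
noncomputable def as2 : ℕ := (nat_lit 0xa74b85963210)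
noncomputable def as3 : ℕ := (nat_lit 0x49865ab73210)
noncomputable def as4 : ℕ := (nat_lit 0x95746b8a3210)
noncomputable def as5 : ℕ := (nat_lit 0x98ba67540213)
noncomputable def as6 : ℕ := (nat_lit 0x876ba9543201)
noncomputable def as7 : ℕ := (nat_lit 0x687a9b543120)
noncomputable def as8 : ℕ := (nat_lit 0xa9b768435210)
noncomputable def as9 : ℕ := (nat_lit 0x876543ba9210)
noncomputable def as10 : ℕ := (nat_lit 0x8b57a4693210)
noncomputable def as11 : ℕ := (nat_lit 0x56a9487b3210)
noncomputable def as12 : ℕ := (nat_lit 0x64b597a83210)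
noncomputable def as13 : ℕ := (nat_lit 0x579a386b4201)
noncomputable def as14 : ℕ := (nat_lit 0x4896a5b37201)
noncomputable def as15 : ℕ := (nat_lit 0x3b549a870216)
noncomputable def as16 : ℕ := (nat_lit 0xa6754098b213)
noncomputable def as17 : ℕ := (nat_lit 0xb6859374021a)
noncomputable def as18 : ℕ := (nat_lit 0xb0795a846213)
noncomputable def as19 : ℕ := (nat_lit 0x73045986a21b)
noncomputable def as20 : ℕ := (nat_lit 0x365b478a219)
noncomputable def as21 : ℕ := (nat_lit 0x6938b57a4210)
noncomputable def as22 : ℕ := (nat_lit 0x74a85b639210)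
noncomputable def as23 : ℕ := (nat_lit 0x38a795b46210)
noncomputable def as24 : ℕ := (nat_lit 0xab9453786210)
noncomputable def as25 : ℕ := (nat_lit 0xb87a96305214)
noncomputable def as26 : ℕ := (nat_lit 0xb796a8140253)
noncomputable def as27 : ℕ := (nat_lit 0x4a89325b7610)
noncomputable def aS : Tr ℕ := (.node (nat_lit 14) (.node (nat_lit 7) (.node (nat_lit 3) (.node (nat_lit 1) (.leaf as0) (.node (nat_lit 2) (.leaf as1) (.leaf as2)))
 (.node (nat_lit 5) (.node (nat_lit 4) (.leaf as3) (.leaf as4)) (.node (nat_lit 6) (.leaf as5) (.leaf as6))))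
 (.node (nat_lit 10) (.node (nat_lit 8) (.leaf as7) (.node (nat_lit 9) (.leaf as8) (.leaf as9)))
 (.node (nat_lit 12) (.node (nat_lit 11) (.leaf as10) (.leaf as11)) (.node (nat_lit 13) (.leaf as12) (.leaf as13)))))
 (.node (nat_lit 21) (.node (nat_lit 17) (.node (nat_lit 15) (.leaf as14) (.node (nat_lit 16) (.leaf as15) (.leaf as16)))
 (.node (nat_lit 19) (.node (nat_lit 18) (.leaf as17) (.leaf as18)) (.node (nat_lit 20) (.leaf as19) (.leaf as20))))
 (.node (nat_lit 24) (.node (nat_lit 22) (.leaf as21) (.node (nat_lit 23) (.leaf as22) (.leaf as23)))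
 (.node (nat_lit 26) (.node (nat_lit 25) (.leaf as24) (.leaf as25)) (.node (nat_lit 27) (.leaf as26) (.leaf as27))))))
noncomputable def aD : Tr (List ℕ) := (.node (nat_lit 14) (.node (nat_lit 7) (.node (nat_lit 3) (.node (nat_lit 1) (.leaf []) (.node (nat_lit 2) (.leaf []) (.leaf [])))
 (.node (nat_lit 5) (.node (nat_lit 4) (.leaf []) (.leaf [])) (.node (nat_lit 6) (.leaf []) (.leaf []))))
 (.node (nat_lit 10) (.node (nat_lit 8) (.leaf []) (.node (nat_lit 9) (.leaf [nat_lit 0, nat_lit 0]) (.leaf [nat_lit 1, nat_lit 1])))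
 (.node (nat_lit 12) (.node (nat_lit 11) (.leaf [nat_lit 2, nat_lit 2, nat_lit 2]) (.leaf [nat_lit 3, nat_lit 3, nat_lit 3])) (.node (nat_lit 13) (.leaf [nat_lit 4, nat_lit 4, nat_lit 4]) (.leaf [nat_lit 0, nat_lit 6, nat_lit 3])))))
 (.node (nat_lit 21) (.node (nat_lit 17) (.node (nat_lit 15) (.leaf [nat_lit 11, nat_lit 6, nat_lit 8]) (.node (nat_lit 16) (.leaf [nat_lit 1, nat_lit 5]) (.leaf [nat_lit 5, nat_lit 9])))
 (.node (nat_lit 19) (.node (nat_lit 18) (.leaf [nat_lit 13, nat_lit 15, nat_lit 13, nat_lit 13, nat_lit 16, nat_lit 16, nat_lit 16, nat_lit 14, nat_lit 15]) (.leaf [nat_lit 16, nat_lit 13, nat_lit 15, nat_lit 15, nat_lit 15, nat_lit 14, nat_lit 14, nat_lit 16, nat_lit 14])) (.node (nat_lit 20) (.leaf [nat_lit 13, nat_lit 15, nat_lit 13, nat_lit 15, nat_lit 13, nat_lit 16, nat_lit 13]) (.leaf [nat_lit 14, nat_lit 15, nat_lit 14, nat_lit 16, nat_lit 14, nat_lit 16, nat_lit 14]))))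
 (.node (nat_lit 24) (.node (nat_lit 22) (.leaf [nat_lit 20, nat_lit 17, nat_lit 19]) (.node (nat_lit 23) (.leaf [nat_lit 20, nat_lit 18, nat_lit 19]) (.leaf [nat_lit 20, nat_lit 20, nat_lit 18, nat_lit 20])))
 (.node (nat_lit 26) (.node (nat_lit 25) (.leaf [nat_lit 23, nat_lit 4]) (.leaf [nat_lit 21, nat_lit 18, nat_lit 4])) (.node (nat_lit 27) (.leaf [nat_lit 4, nat_lit 17, nat_lit 14, nat_lit 23, nat_lit 17, nat_lit 21, nat_lit 2]) (.leaf [nat_lit 15, nat_lit 14, nat_lit 7, nat_lit 14, nat_lit 19, nat_lit 10, nat_lit 22, nat_lit 12, nat_lit 2]))))))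
theorem aslp : slpChk 12 (nat_lit 4) (nat_lit 15) aS aD 8 20 = true := by decide +kernel
theorem alev0 : levChk 12 (nat_lit 4) (nat_lit 15) aT aR aL0 aL1.N = true := by decide +kernel
theorem alev1 : levChk 12 (nat_lit 4) (nat_lit 15) aT aR aL1 aL2.N = true := by decide +kernel
theorem alev2 : levChk 12 (nat_lit 4) (nat_lit 15) aT aR aL2 aL3.N = true := by decide +kernel
theorem alev3 : levChk 12 (nat_lit 4) (nat_lit 15) aT aR aL3 aL4.N = true := by decide +kernel
theorem alev4 : levChk 12 (nat_lit 4) (nat_lit 15) aT aR aL4 0 = true := by decide +kernel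
theorem achain : Chain 12 (nat_lit 4) (nat_lit 15) aT aR aL := chain_cons alev0 <| chain_cons alev1 <| chain_cons alev2 <| chain_cons alev3 <| chain_one alev4
noncomputable def aWs : Tr (List ℕ) := (.node (nat_lit 4) (.node (nat_lit 2) (.node (nat_lit 1) (.leaf [nat_lit 1, nat_lit 4, nat_lit 1]) (.leaf [nat_lit 4, nat_lit 1, nat_lit 1])) (.node (nat_lit 3) (.leaf [nat_lit 0]) (.leaf [nat_lit 2, nat_lit 1])))
 (.node (nat_lit 6) (.node (nat_lit 5) (.leaf [nat_lit 2]) (.leaf [nat_lit 4, nat_lit 0, nat_lit 5, nat_lit 1, nat_lit 4, nat_lit 3])) (.node (nat_lit 7) (.leaf [nat_lit 6, nat_lit 5, nat_lit 6, nat_lit 1, nat_lit 4, nat_lit 0]) (.leaf [nat_lit 6, nat_lit 0, nat_lit 7, nat_lit 1, nat_lit 6, nat_lit 0, nat_lit 5, nat_lit 0, nat_lit 4, nat_lit 2]))))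
theorem ah2 : band (selChk aT aS (8 + 20)) (band (tchainChk 12 (nat_lit 4) (nat_lit 15) aT aL) (allB 8 fun j => isProd 12 (nat_lit 4) (nat_lit 15) aT (aS.get j) (aWs.get j))) = true := by decide +kernel
theorem asd : band (selChk aT aT (topN aL)) (aR.all fun w => eqB (List.range 12) (apL (nat_lit 4) (nat_lit 15) aT w) fun a => a) = true := by decide +kernel
def al : List (Equiv.Perm (Fin 12)) := [Equiv.swap (3 : Fin 12) 5 * Equiv.swap (3 : Fin 12) 4 * Equiv.swap (6 : Fin 12) 8 * Equiv.swap (6 : Fin 12) 7 * Equiv.swap (9 : Fin 12) 11 * Equiv.swap (9 : Fin 12) 10, Equiv.swap (3 : Fin 12) 9 * Equiv.swap (3 : Fin 12) 6 * Equiv.swap (4 : Fin 12) 10 * Equiv.swap (4 : Fin 12) 7 * Equiv.swap (5 : Fin 12) 11 * Equiv.swap (5 : Fin 12) 8, Equiv.swap (4 : Fin 12) 9 * Equiv.swap (4 : Fin 12) 5 * Equiv.swap (4 : Fin 12) 6 * Equiv.swap (7 : Fin 12) 10 * Equiv.swap (7 : Fin 12) 11 * Equiv.swap (7 : Fin 12) 8, Equiv.swap (4 : Fin 12) 11 * Equiv.swap (4 : Fin 12) 5 * Equiv.swap (4 : Fin 12) 7 * Equiv.swap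 (6 : Fin 12) 8 * Equiv.swap (6 : Fin 12) 9 * Equiv.swap (6 : Fin 12) 10, Equiv.swap (4 : Fin 12) 8 * Equiv.swap (4 : Fin 12) 5 * Equiv.swap (4 : Fin 12) 10 * Equiv.swap (6 : Fin 12) 7 * Equiv.swap (6 : Fin 12) 9 * Equiv.swap (6 : Fin 12) 11, Equiv.swap (0 : Fin 12) 3 * Equiv.swap (6 : Fin 12) 7 * Equiv.swap (8 : Fin 12) 10 * Equiv.swap (9 : Fin 12) 11, Equiv.swap (0 : Fin 12) 1 * Equiv.swap (6 : Fin 12) 9 * Equiv.swap (7 : Fin 12) 10 * Equiv.swap (8 : Fin 12) 11, Equiv.swap (1 : Fin 12) 2 * Equiv.swap (6 : Fin 12) 11 * Equiv.swap (7 : Fin 12) 9 * Equiv.swap (8 : Fin 12) 10]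
theorem ar : ∀ j < 8, Rep 12 (nat_lit 4) (nat_lit 15) (Fin.ofNat 12) (aS.get j) (al.getD j 1) := by unfold Rep RepF; decide +kernel
theorem ach (S : Set (Equiv.Perm (Fin 12))) (hS : ∀ g, g ∈ S ↔ g ∈ al) : Ch (closure S) 12 (nat_lit 4) (nat_lit 15) (Fin.ofNat 12) aT aL :=
  ch_clo al rfl ar aslp ah2 achain asd S hS
noncomputable def bt0 : ℕ := (nat_lit 0x49865ab73210)
noncomputable def bt1 : ℕ := (nat_lit 0x56a9487b3210)
noncomputable def bt2 : ℕ := (nat_lit 0x64b597a83210)
noncomputable def bt3 : ℕ := (nat_lit 0x95746b8a3210)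
noncomputable def bt4 : ℕ := (nat_lit 0xb9a534867210)
noncomputable def bt5 : ℕ := (nat_lit 0xa978436521b)
noncomputable def bt6 : ℕ := (nat_lit 0x509678b1324a)
noncomputable def bT : Tr ℕ := (.node (nat_lit 3) (.node (nat_lit 1) (.leaf bt0) (.node (nat_lit 2) (.leaf bt1) (.leaf bt2)))
 (.node (nat_lit 5) (.node (nat_lit 4) (.leaf bt3) (.leaf bt4)) (.node (nat_lit 6) (.leaf bt5) (.leaf bt6))))
noncomputable def bR : Tr (List ℕ) := (.node (nat_lit 7) (.node (nat_lit 3) (.node (nat_lit 1) (.leaf [nat_lit 0, nat_lit 1]) (.node (nat_lit 2) (.leaf [nat_lit 0, nat_lit 0, nat_lit 0, nat_lit 0]) (.leaf [nat_lit 0, nat_lit 0, nat_lit 2, nat_lit 2])))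
 (.node (nat_lit 5) (.node (nat_lit 4) (.leaf [nat_lit 0, nat_lit 2, nat_lit 0, nat_lit 3]) (.leaf [nat_lit 0, nat_lit 0, nat_lit 6, nat_lit 1, nat_lit 6, nat_lit 0, nat_lit 6])) (.node (nat_lit 6) (.leaf [nat_lit 0, nat_lit 2, nat_lit 4, nat_lit 2, nat_lit 4, nat_lit 1, nat_lit 4]) (.leaf [nat_lit 2, nat_lit 4, nat_lit 0, nat_lit 0, nat_lit 5, nat_lit 6, nat_lit 3, nat_lit 1, nat_lit 4, nat_lit 6]))))
 (.node (nat_lit 11) (.node (nat_lit 9) (.node (nat_lit 8) (.leaf [nat_lit 2, nat_lit 3]) (.leaf [nat_lit 0, nat_lit 0, nat_lit 5, nat_lit 0, nat_lit 3, nat_lit 5, nat_lit 2, nat_lit 1, nat_lit 5])) (.node (nat_lit 10) (.leaf [nat_lit 5, nat_lit 4, nat_lit 5, nat_lit 4]) (.leaf [nat_lit 4, nat_lit 4])))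
 (.node (nat_lit 13) (.node (nat_lit 12) (.leaf [nat_lit 0, nat_lit 3, nat_lit 4, nat_lit 3, nat_lit 5, nat_lit 3, nat_lit 4, nat_lit 0, nat_lit 5]) (.leaf [nat_lit 5, nat_lit 5])) (.node (nat_lit 14) (.leaf [nat_lit 2, nat_lit 4, nat_lit 0, nat_lit 5, nat_lit 3, nat_lit 6, nat_lit 1, nat_lit 5, nat_lit 2, nat_lit 6]) (.leaf [nat_lit 6, nat_lit 6])))))
noncomputable def bL0 : Lev := ⟨(nat_lit 1), (nat_lit 7), (nat_lit 0x10303040205010705000006), (nat_lit 0x20203020202030103000003),
 (.node (nat_lit 3) (.node (nat_lit 1) (.leaf (nat_lit 0x2000400030002000500000001000d000000000016))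
 (.node (nat_lit 2) (.leaf (nat_lit 0x10006000300050000000200030001000c000000000015))
 (.leaf (nat_lit 0x60000000000020002000500030001000e000000000018))))
 (.node (nat_lit 5) (.node (nat_lit 4) (.leaf (nat_lit 0x10004000300000006000700030001000f000000000017))
 (.leaf (nat_lit 0x7000a000b000900010000000800010000000000000008)))
 (.node (nat_lit 6) (.leaf (nat_lit 0x10007000c000200030011000a0010000b000000000000))
 (.leaf (nat_lit 0x200130014001400020013000300000012000000010014))))),
 (.node (nat_lit 3) (.node (nat_lit 1) (.leaf (nat_lit 0x302000200000000000102000103000000000000000000000000000000000000))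
 (.node (nat_lit 2) (.leaf (nat_lit 0x1000001000001000001000000000607000001000001000505000000000000000403))
 (.leaf (nat_lit 0x202000000000000000202000203000203000203000700000501000000000000000700))))
 (.node (nat_lit 5) (.node (nat_lit 4) (.leaf (nat_lit 0x701000701000701000000000701000701000701000701000701000000000000000804))
 (.leaf (nat_lit 0x504000502000a01000a00000a00000000000b02000a01000000000000000000000903)))
 (.node (nat_lit 6) (.leaf (nat_lit 0xc00000802000900000d07000c01000c00000900000808000c01000000000000000000))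
 (.leaf (nat_lit 0x402000605000402000e00000404000d09000e01000000000d09000000000e01000e01)))))⟩
noncomputable def bL1 : Lev := ⟨(nat_lit 0), (nat_lit 6), (nat_lit 0x60403030104010206000000), (nat_lit 0x10302030302020203000000),
 (.node (nat_lit 3) (.node (nat_lit 1) (.leaf (nat_lit 0x10005000600070000000800000002000e000000000000))
 (.node (nat_lit 2) (.leaf (nat_lit 0x10009000600070003000800010000000d000000000000))
 (.leaf (nat_lit 0x10003000000000003000200010002000f000000000000))))
 (.node (nat_lit 4) (.leaf (nat_lit 0x100000004000300030000000100040010000000000000))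
 (.node (nat_lit 5) (.leaf (nat_lit 0x2000b000c000a000c000300090002000b000000000000))
 (.leaf (nat_lit 0x2000d000900080012000100110000000000000001))))),
 (.node (nat_lit 3) (.node (nat_lit 1) (.leaf (nat_lit 0x302000200000200000000000103000000000103000000000000000000000000))
 (.node (nat_lit 2) (.leaf (nat_lit 0x1000001000001000001000001000001000001000000000505000000000000000000))
 (.leaf (nat_lit 0x700000202000000000000000203000202000700000203000501000000000000000000))))
 (.node (nat_lit 4) (.leaf (nat_lit 0x701000000000701000701000701000000000701000701000701000000000000000000))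
 (.node (nat_lit 5) (.leaf (nat_lit 0x901000502000a01000a00000a00000a00000b02000b06000903000000000000000000))
 (.leaf (nat_lit 0x805000900000c00000808000c00000c00000808000000000000000000000c01)))))⟩
noncomputable def bL2 : Lev := ⟨(nat_lit 3), (nat_lit 5), (nat_lit 0x10304040503020100000000), (nat_lit 0x30302030102020200000000),
 (.node (nat_lit 2) (.node (nat_lit 1) (.leaf (nat_lit 0x30004000500010006000200000000000000000000))
 (.leaf (nat_lit 0x300070004000500010006000000010000000000000000)))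
 (.node (nat_lit 3) (.leaf (nat_lit 0x300000002000300010000000200010000000000000000))
 (.node (nat_lit 4) (.leaf (nat_lit 0x300030000000000010004000400010000000000000000))
 (.leaf (nat_lit 0x600030002000700000003000800020001000000000000))))),
 (.node (nat_lit 2) (.node (nat_lit 1) (.leaf (nat_lit 0x302000200000200000000000103000101000000000000000000000000000000))
 (.leaf (nat_lit 0x1000001000001000001000001000001000000000001000000000000000000000000)))
 (.node (nat_lit 3) (.leaf (nat_lit 0x203000000000202000202000700000000000203000700000000000000000000000000))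
 (.node (nat_lit 4) (.leaf (nat_lit 0x701000701000000000000000701000701000701000701000000000000000000000000))
 (.leaf (nat_lit 0x504000a00000502000504000000000a00000a01000504000a01000000000000000000)))))⟩
noncomputable def bL3 : Lev := ⟨(nat_lit 4), (nat_lit 4), (nat_lit 0x10303040204010000000000), (nat_lit 0x10102010102020000000000),
 (.node (nat_lit 2) (.node (nat_lit 1) (.leaf (nat_lit 0x20004000500020006000000010000000000000000))
 (.leaf (nat_lit 0x100070003000500000006000300010000000000000000)))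
 (.node (nat_lit 3) (.leaf (nat_lit 0x100000000000200020003000300010000000000000000))
 (.leaf (nat_lit 0x100040003000000040000000300010000000000000000)))),
 (.node (nat_lit 2) (.node (nat_lit 1) (.leaf (nat_lit 0x302000200000200000102000103000000000000000000000000000000000000))
 (.leaf (nat_lit 0x1000001000001000001000000000001000001000001000000000000000000000000)))
 (.node (nat_lit 3) (.leaf (nat_lit 0x700000000000000000202000203000202000203000700000000000000000000000000))
 (.leaf (nat_lit 0x701000701000701000000000701000000000701000701000000000000000000000000))))⟩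
noncomputable def bL : List Lev := [bL0, bL1, bL2, bL3]
noncomputable def bs0 : ℕ := (nat_lit 0x9ba687354210)
noncomputable def bs1 : ℕ := (nat_lit 0x543ba9876210)
noncomputable def bs2 : ℕ := (nat_lit 0xa74b85963210)
noncomputable def bs3 : ℕ := (nat_lit 0x49865ab73210)
noncomputable def bs4 : ℕ := (nat_lit 0x95746b8a3210)
noncomputable def bs5 : ℕ := (nat_lit 0x98ba67540213)
noncomputable def bs6 : ℕ := (nat_lit 0x876ba9543201)
noncomputable def bs7 : ℕ := (nat_lit 0xa9b768435210)
noncomputable def bs8 : ℕ := (nat_lit 0x8b57a4693210)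
noncomputable def bs9 : ℕ := (nat_lit 0x56a9487b3210)
noncomputable def bs10 : ℕ := (nat_lit 0x64b597a83210)
noncomputable def bs11 : ℕ := (nat_lit 0x3a9647b80215)
noncomputable def bs12 : ℕ := (nat_lit 0x5a946807b213)
noncomputable def bs13 : ℕ := (nat_lit 0x578b4a690213)
noncomputable def bs14 : ℕ := (nat_lit 0x8649a5b70213)
noncomputable def bs15 : ℕ := (nat_lit 0xa8364b597210)
noncomputable def bs16 : ℕ := (nat_lit 0x6b4a38579210)
noncomputable def bs17 : ℕ := (nat_lit 0xb9a534867210)
noncomputable def bs18 : ℕ := (nat_lit 0xa978436521b)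
noncomputable def bs19 : ℕ := (nat_lit 0x509678b1324a)
noncomputable def bS : Tr ℕ := (.node (nat_lit 10) (.node (nat_lit 5) (.node (nat_lit 2) (.node (nat_lit 1) (.leaf bs0) (.leaf bs1)) (.node (nat_lit 3) (.leaf bs2) (.node (nat_lit 4) (.leaf bs3) (.leaf bs4))))
 (.node (nat_lit 7) (.node (nat_lit 6) (.leaf bs5) (.leaf bs6)) (.node (nat_lit 8) (.leaf bs7) (.node (nat_lit 9) (.leaf bs8) (.leaf bs9)))))
 (.node (nat_lit 15) (.node (nat_lit 12) (.node (nat_lit 11) (.leaf bs10) (.leaf bs11)) (.node (nat_lit 13) (.leaf bs12) (.node (nat_lit 14) (.leaf bs13) (.leaf bs14))))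
 (.node (nat_lit 17) (.node (nat_lit 16) (.leaf bs15) (.leaf bs16)) (.node (nat_lit 18) (.leaf bs17) (.node (nat_lit 19) (.leaf bs18) (.leaf bs19))))))
noncomputable def bD : Tr (List ℕ) := (.node (nat_lit 10) (.node (nat_lit 5) (.node (nat_lit 2) (.node (nat_lit 1) (.leaf []) (.leaf [])) (.node (nat_lit 3) (.leaf []) (.node (nat_lit 4) (.leaf []) (.leaf []))))
 (.node (nat_lit 7) (.node (nat_lit 6) (.leaf []) (.leaf [])) (.node (nat_lit 8) (.leaf [nat_lit 0, nat_lit 0]) (.node (nat_lit 9) (.leaf [nat_lit 2, nat_lit 2, nat_lit 2]) (.leaf [nat_lit 3, nat_lit 3, nat_lit 3])))))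
 (.node (nat_lit 15) (.node (nat_lit 12) (.node (nat_lit 11) (.leaf [nat_lit 4, nat_lit 4, nat_lit 4]) (.leaf [nat_lit 7, nat_lit 5, nat_lit 3])) (.node (nat_lit 13) (.leaf [nat_lit 9, nat_lit 5, nat_lit 0]) (.node (nat_lit 14) (.leaf [nat_lit 8, nat_lit 5]) (.leaf [nat_lit 5, nat_lit 2]))))
 (.node (nat_lit 17) (.node (nat_lit 16) (.leaf [nat_lit 11, nat_lit 13, nat_lit 13, nat_lit 12]) (.leaf [nat_lit 11, nat_lit 14, nat_lit 14, nat_lit 12])) (.node (nat_lit 18) (.leaf [nat_lit 15, nat_lit 10]) (.node (nat_lit 19) (.leaf [nat_lit 12, nat_lit 12]) (.leaf [nat_lit 0, nat_lit 12, nat_lit 6, nat_lit 8, nat_lit 11, nat_lit 8, nat_lit 16, nat_lit 4, nat_lit 8]))))))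
theorem bslp : slpChk 12 (nat_lit 4) (nat_lit 15) bS bD 7 13 = true := by decide +kernel
theorem blev0 : levChk 12 (nat_lit 4) (nat_lit 15) bT bR bL0 bL1.N = true := by decide +kernel
theorem blev1 : levChk 12 (nat_lit 4) (nat_lit 15) bT bR bL1 bL2.N = true := by decide +kernel
theorem blev2 : levChk 12 (nat_lit 4) (nat_lit 15) bT bR bL2 bL3.N = true := by decide +kernel
theorem blev3 : levChk 12 (nat_lit 4) (nat_lit 15) bT bR bL3 0 = true := by decide +kernel
theorem bchain : Chain 12 (nat_lit 4) (nat_lit 15) bT bR bL := chain_cons blev0 <| chain_cons blev1 <| chain_cons blev2 <| chain_one blev3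
noncomputable def bWs : Tr (List ℕ) := (.node (nat_lit 3) (.node (nat_lit 1) (.leaf [nat_lit 1, nat_lit 4, nat_lit 1]) (.node (nat_lit 2) (.leaf [nat_lit 3, nat_lit 4, nat_lit 3]) (.leaf [nat_lit 2, nat_lit 1])))
 (.node (nat_lit 5) (.node (nat_lit 4) (.leaf [nat_lit 0]) (.leaf [nat_lit 3])) (.node (nat_lit 6) (.leaf [nat_lit 5, nat_lit 1, nat_lit 5, nat_lit 3, nat_lit 4, nat_lit 2, nat_lit 1]) (.leaf [nat_lit 5, nat_lit 1, nat_lit 6, nat_lit 0, nat_lit 5, nat_lit 2, nat_lit 1, nat_lit 4, nat_lit 1, nat_lit 1]))))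
theorem bh2 : band (selChk bT bS (7 + 13)) (band (tchainChk 12 (nat_lit 4) (nat_lit 15) bT bL) (allB 7 fun j => isProd 12 (nat_lit 4) (nat_lit 15) bT (bS.get j) (bWs.get j))) = true := by decide +kernel
theorem bsd : band (selChk bT bT (topN bL)) (bR.all fun w => eqB (List.range 12) (apL (nat_lit 4) (nat_lit 15) bT w) fun a => a) = true := by decide +kernel
def bl : List (Equiv.Perm (Fin 12)) := [Equiv.swap (3 : Fin 12) 5 * Equiv.swap (3 : Fin 12) 4 * Equiv.swap (6 : Fin 12) 8 * Equiv.swap (6 : Fin 12) 7 * Equiv.swap (9 : Fin 12) 11 * Equiv.swap (9 : Fin 12) 10, Equiv.swap (3 : Fin 12) 9 * Equiv.swap (3 : Fin 12) 6 * Equiv.swap (4 : Fin 12) 10 * Equiv.swap (4 : Fin 12) 7 * Equiv.swap (5 : Fin 12) 11 * Equiv.swap (5 : Fin 12) 8, Equiv.swap (4 : Fin 12) 9 * Equiv.swap (4 : Fin 12) 5 * Equiv.swap (4 : Fin 12) 6 * Equiv.swap (7 : Fin 12) 10 * Equiv.swap (7 : Fin 12) 11 * Equiv.swap (7 : Fin 12) 8, Equiv.swap (4 : Fin 12) 11 * Equiv.swap (4 : Fin 12) 5 * Equiv.swap (4 : Fin 12) 7 * Equiv.swap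 (6 : Fin 12) 8 * Equiv.swap (6 : Fin 12) 9 * Equiv.swap (6 : Fin 12) 10, Equiv.swap (4 : Fin 12) 8 * Equiv.swap (4 : Fin 12) 5 * Equiv.swap (4 : Fin 12) 10 * Equiv.swap (6 : Fin 12) 7 * Equiv.swap (6 : Fin 12) 9 * Equiv.swap (6 : Fin 12) 11, Equiv.swap (0 : Fin 12) 3 * Equiv.swap (6 : Fin 12) 7 * Equiv.swap (8 : Fin 12) 10 * Equiv.swap (9 : Fin 12) 11, Equiv.swap (0 : Fin 12) 1 * Equiv.swap (6 : Fin 12) 9 * Equiv.swap (7 : Fin 12) 10 * Equiv.swap (8 : Fin 12) 11]
theorem br : ∀ j < 7, Rep 12 (nat_lit 4) (nat_lit 15) (Fin.ofNat 12) (bS.get j) (bl.getD j 1) := by unfold Rep RepF; decide +kernel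
theorem bch (S : Set (Equiv.Perm (Fin 12))) (hS : ∀ g, g ∈ S ↔ g ∈ bl) : Ch (closure S) 12 (nat_lit 4) (nat_lit 15) (Fin.ofNat 12) bT bL :=
  ch_clo bl rfl br bslp bh2 bchain bsd S hS
theorem amv : mvChk 12 ([2, 1, 0, 3, 4].map fun b => (H7.ones 12, b)) aL [] = true := by decide +kernel
noncomputable def sT : Tr ℕ := (.node (nat_lit 3) (.node (nat_lit 1) (.leaf at0) (.node (nat_lit 2) (.leaf at1) (.leaf at2)))
 (.node (nat_lit 5) (.node (nat_lit 4) (.leaf at3) (.leaf at4)) (.node (nat_lit 6) (.leaf at5) (.leaf at6))))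
noncomputable def sL : List Lev := [aL1, aL2, aL3, aL4]
theorem ss : band (sT.all fun c => Nat.beq (ap (nat_lit 4) (nat_lit 15) c aL0.b) aL0.b) (band (tchainChk 12 (nat_lit 4) (nat_lit 15) sT sL) (Nat.ble (chainOrd 12 sL) (chainOrd 12 sL))) = true := by decide +kernel
theorem ast (S : Set (Equiv.Perm (Fin 12))) (hS : ∀ g, g ∈ S ↔ g ∈ al) : Nat.card (MulAction.stabilizer (closure S) (2 : Fin 12)) = 7920 :=
  have C := ach S hS
  (C.stab (lets_sel C.lets 7 (by decide +kernel)) ss).card.trans (by decide +kernel)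

end H8.Cl1
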