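import Cfsg.Agent.H8.Cl2
import Cfsg.Agent.H8.Alt

/-! H8.Cl3: Sylow 2-subgroups of S8 meet (generated certificate) -/

set_option autoImplicit false
set_option maxRecDepth 200000

set_option linter.all false
open Subgroup 

namespace H8.Cl3

noncomputable def at0 : ℕ := (nat_lit 0xfa5688)
noncomputable def at1 : ℕ := (nat_lit 0xbbb888)
noncomputable def at2 : ℕ := (nat_lit 0x62ce8e)
noncomputable def at3 : ℕ := (nat_lit 0xdd1163)
noncomputable def aT : Tr ℕ := (.node (nat_lit 2) (.node (nat_lit 1) (.leaf at0) (.leaf at1)) (.node (nat_lit 3) (.leaf at2) (.leaf at3)))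
noncomputable def aR : Tr (List ℕ) := (.node (nat_lit 6) (.node (nat_lit 3) (.node (nat_lit 1) (.leaf [nat_lit 3, nat_lit 0, nat_lit 3, nat_lit 1, nat_lit 3, nat_lit 0, nat_lit 3, nat_lit 1]) (.node (nat_lit 2) (.leaf [nat_lit 3, nat_lit 0, nat_lit 3, nat_lit 0, nat_lit 3, nat_lit 0, nat_lit 3, nat_lit 0]) (.leaf [nat_lit 2, nat_lit 0, nat_lit 2, nat_lit 0]))) (.node (nat_lit 4) (.leaf [nat_lit 0, nat_lit 0]) (.node (nat_lit 5) (.leaf [nat_lit 2, nat_lit 0, nat_lit 1, nat_lit 2, nat_lit 0, nat_lit 1]) (.leaf [nat_lit 3, nat_lit 1, nat_lit 3, nat_lit 1, nat_lit 3, nat_lit 1, nat_lit 3, nat_lit 1]))))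
 (.node (nat_lit 9) (.node (nat_lit 7) (.leaf [nat_lit 1, nat_lit 1]) (.node (nat_lit 8) (.leaf [nat_lit 2, nat_lit 2]) (.leaf [nat_lit 3, nat_lit 2, nat_lit 3, nat_lit 2]))) (.node (nat_lit 10) (.leaf [nat_lit 1, nat_lit 0, nat_lit 1, nat_lit 2, nat_lit 3, nat_lit 1, nat_lit 0, nat_lit 1, nat_lit 3]) (.node (nat_lit 11) (.leaf [nat_lit 3, nat_lit 3]) (.leaf [nat_lit 1, nat_lit 0, nat_lit 1, nat_lit 0, nat_lit 1, nat_lit 0, nat_lit 1, nat_lit 0])))))
noncomputable def aL0 : Lev := ⟨(nat_lit 1), (nat_lit 4), (nat_lit 0x204010402040004), (nat_lit 0x304020102030003),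
 (.node (nat_lit 2) (.node (nat_lit 1) (.leaf (nat_lit 0x60003000000010007000200000002))
 (.leaf (nat_lit 0x3000100010000000200000002)))
 (.node (nat_lit 3) (.leaf (nat_lit 0x50003000300020006000400000004))
 (.leaf (nat_lit 0x10000000100000001000000010000)))),
 (.node (nat_lit 2) (.node (nat_lit 1) (.leaf (nat_lit 0x401000005000000000301000203000103000000000001))
 (.leaf (nat_lit 0x503000601000600000000000003000000000507)))
 (.node (nat_lit 3) (.leaf (nat_lit 0x801000903000202000801000701000803000000000701))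
 (.leaf (nat_lit 0xa00000000000a00000000000a00000000000a01000000))))⟩
noncomputable def aL1 : Lev := ⟨(nat_lit 0), (nat_lit 3), (nat_lit 0x3000000000000), (nat_lit 0x1000000000000),
 (.node (nat_lit 1) (.leaf (nat_lit 0x2000000000000000000000000))
 (.node (nat_lit 2) (.leaf (nat_lit 0x3000000000000000000000000))
 (.leaf (nat_lit 0x1)))),
 (.node (nat_lit 1) (.leaf (nat_lit 0x201000000000000000000000000000000000000))
 (.node (nat_lit 2) (.leaf (nat_lit 0x402000000000000000000000000000000000000))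
 (.leaf (nat_lit 0x701))))⟩
noncomputable def aL2 : Lev := ⟨(nat_lit 3), (nat_lit 2), (nat_lit 0x200010200000000), (nat_lit 0x300020100000000),
 (.node (nat_lit 1) (.leaf (nat_lit 0x20000000000010000000000000000))
 (.leaf (nat_lit 0x100000001000000000000))),
 (.node (nat_lit 1) (.leaf (nat_lit 0xb03000000000000000301000000000000000000000000))
 (.leaf (nat_lit 0x601000000000601000000000000000000)))⟩
noncomputable def aL3 : Lev := ⟨(nat_lit 4), (nat_lit 1), (nat_lit 0x10000000000), (nat_lit 0x10000000000),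
 (.leaf (nat_lit 0x10000000000000000)),
 (.leaf (nat_lit 0x301000000000000000000000000))⟩
noncomputable def aL : List Lev := [aL0, aL1, aL2, aL3]
noncomputable def aE : Tr (List ℕ) := (.node (nat_lit 2) (.node (nat_lit 1) (.leaf [nat_lit 2]) (.leaf [nat_lit 3, nat_lit 0, nat_lit 1, nat_lit 0])) (.node (nat_lit 3) (.leaf [nat_lit 1, nat_lit 2, nat_lit 3, nat_lit 4, nat_lit 5, nat_lit 6, nat_lit 5, nat_lit 4, nat_lit 0, nat_lit 1, nat_lit 2, nat_lit 3, nat_lit 1, nat_lit 2, nat_lit 0, nat_lit 1]) (.leaf [nat_lit 4, nat_lit 5, nat_lit 6, nat_lit 3, nat_lit 4, nat_lit 5, nat_lit 2, nat_lit 3, nat_lit 4, nat_lit 0])))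
theorem aw_0 : aT.all2 (fun c w => isProd 8 (nat_lit 3) (nat_lit 7) Alt.s8T c w) aE = true := by decide +kernel
theorem aw : aT.all2 (fun c w => isProd 8 (nat_lit 3) (nat_lit 7) Alt.s8T c w) aE = true := aw_0
theorem alev0 : levChk 8 (nat_lit 3) (nat_lit 7) aT aR aL0 aL1.N = true := by decide +kernel
theorem alev1 : levChk 8 (nat_lit 3) (nat_lit 7) aT aR aL1 aL2.N = true := by decide +kernel
theorem alev2 : levChk 8 (nat_lit 3) (nat_lit 7) aT aR aL2 aL3.N = true := by decide +kernel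
theorem alev3 : levChk 8 (nat_lit 3) (nat_lit 7) aT aR aL3 0 = true := by decide +kernel
theorem achain : Chain 8 (nat_lit 3) (nat_lit 7) aT aR aL := chain_cons alev0 <| chain_cons alev1 <| chain_cons alev2 <| chain_one alev3
theorem asd : band (selChk aT aT (topN aL)) (aR.all fun w => eqB (Alt.s8L.map Lev.b) (apL (nat_lit 3) (nat_lit 7) aT w) fun a => a) = true := by decide +kernel
theorem atc : tchainChk 8 (nat_lit 3) (nat_lit 7) aT aL = true := by decide +kernel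
noncomputable def bR_0 : Tr ℕ := (.node (nat_lit 78) (.node (nat_lit 39) (.node (nat_lit 19) (.node (nat_lit 9) (.node (nat_lit 4) (.node (nat_lit 2) (.node (nat_lit 1) (.leaf (nat_lit 0xfac688)) (.leaf (nat_lit 0xdec688))) (.node (nat_lit 3) (.leaf (nat_lit 0xf74688)) (.leaf (nat_lit 0xfab888))))
 (.node (nat_lit 6) (.node (nat_lit 5) (.leaf (nat_lit 0xfac4c8)) (.leaf (nat_lit 0xfac681))) (.node (nat_lit 7) (.leaf (nat_lit 0xbf4688)) (.node (nat_lit 8) (.leaf (nat_lit 0xdec4c8)) (.leaf (nat_lit 0xdec681))))))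
 (.node (nat_lit 14) (.node (nat_lit 11) (.node (nat_lit 10) (.leaf (nat_lit 0xd7c688)) (.leaf (nat_lit 0xf35688))) (.node (nat_lit 12) (.leaf (nat_lit 0xf744c8)) (.node (nat_lit 13) (.leaf (nat_lit 0xf74681)) (.leaf (nat_lit 0xfa3a88)))))
 (.node (nat_lit 16) (.node (nat_lit 15) (.leaf (nat_lit 0xfaa8c8)) (.leaf (nat_lit 0xfab881))) (.node (nat_lit 17) (.leaf (nat_lit 0xfab508)) (.node (nat_lit 18) (.leaf (nat_lit 0xfac2d0)) (.leaf (nat_lit 0xfac4c1)))))))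
 (.node (nat_lit 29) (.node (nat_lit 24) (.node (nat_lit 21) (.node (nat_lit 20) (.leaf (nat_lit 0xfac642)) (.leaf (nat_lit 0x9f5688))) (.node (nat_lit 22) (.leaf (nat_lit 0xbf44c8)) (.node (nat_lit 23) (.leaf (nat_lit 0xbf4681)) (.leaf (nat_lit 0xdeb508)))))
 (.node (nat_lit 26) (.node (nat_lit 25) (.leaf (nat_lit 0xdec2d0)) (.leaf (nat_lit 0xdec4c1))) (.node (nat_lit 27) (.leaf (nat_lit 0xdec642)) (.node (nat_lit 28) (.leaf (nat_lit 0xd3d688)) (.leaf (nat_lit 0xd7c4c8))))))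
 (.node (nat_lit 34) (.node (nat_lit 31) (.node (nat_lit 30) (.leaf (nat_lit 0xd7c681)) (.leaf (nat_lit 0xef5888))) (.node (nat_lit 32) (.leaf (nat_lit 0xf354c8)) (.node (nat_lit 33) (.leaf (nat_lit 0xf35681)) (.leaf (nat_lit 0xf73508)))))
 (.node (nat_lit 36) (.node (nat_lit 35) (.leaf (nat_lit 0xf742d0)) (.leaf (nat_lit 0xf744c1))) (.node (nat_lit 37) (.leaf (nat_lit 0xf74642)) (.node (nat_lit 38) (.leaf (nat_lit 0xf63c88)) (.leaf (nat_lit 0xfa2ac8))))))))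
 (.node (nat_lit 58) (.node (nat_lit 48) (.node (nat_lit 43) (.node (nat_lit 41) (.node (nat_lit 40) (.leaf (nat_lit 0xfa3a81)) (.leaf (nat_lit 0xfaa708))) (.node (nat_lit 42) (.leaf (nat_lit 0xfa98d0)) (.leaf (nat_lit 0xfaa8c1))))
 (.node (nat_lit 45) (.node (nat_lit 44) (.leaf (nat_lit 0xfab842)) (.leaf (nat_lit 0xfa3548))) (.node (nat_lit 46) (.leaf (nat_lit 0xfab310)) (.node (nat_lit 47) (.leaf (nat_lit 0xfab501)) (.leaf (nat_lit 0xfac0d1))))))
 (.node (nat_lit 53) (.node (nat_lit 50) (.node (nat_lit 49) (.leaf (nat_lit 0xfac2c2)) (.leaf (nat_lit 0xfac443))) (.node (nat_lit 51) (.leaf (nat_lit 0x9f54c8)) (.node (nat_lit 52) (.leaf (nat_lit 0x9f5681)) (.leaf (nat_lit 0xbf3508)))))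
 (.node (nat_lit 55) (.node (nat_lit 54) (.leaf (nat_lit 0xbf42d0)) (.leaf (nat_lit 0xbf44c1))) (.node (nat_lit 56) (.leaf (nat_lit 0xbf4642)) (.node (nat_lit 57) (.leaf (nat_lit 0xde3548)) (.leaf (nat_lit 0xdeb310)))))))
 (.node (nat_lit 68) (.node (nat_lit 63) (.node (nat_lit 60) (.node (nat_lit 59) (.leaf (nat_lit 0xdeb501)) (.leaf (nat_lit 0xdec0d1))) (.node (nat_lit 61) (.leaf (nat_lit 0xdec2c2)) (.node (nat_lit 62) (.leaf (nat_lit 0xdec443)) (.leaf (nat_lit 0xb3e688)))))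
 (.node (nat_lit 65) (.node (nat_lit 64) (.leaf (nat_lit 0xcfd888)) (.leaf (nat_lit 0xd3d4c8))) (.node (nat_lit 66) (.leaf (nat_lit 0xd3d681)) (.node (nat_lit 67) (.leaf (nat_lit 0xd7b508)) (.leaf (nat_lit 0xd7c2d0))))))
 (.node (nat_lit 73) (.node (nat_lit 70) (.node (nat_lit 69) (.leaf (nat_lit 0xd7c4c1)) (.leaf (nat_lit 0xd7c642))) (.node (nat_lit 71) (.leaf (nat_lit 0xeb58c8)) (.node (nat_lit 72) (.leaf (nat_lit 0xef5508)) (.leaf (nat_lit 0xf352d0)))))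
 (.node (nat_lit 75) (.node (nat_lit 74) (.leaf (nat_lit 0xf35642)) (.leaf (nat_lit 0xf33548))) (.node (nat_lit 76) (.leaf (nat_lit 0xf73310)) (.node (nat_lit 77) (.leaf (nat_lit 0xf740d1)) (.leaf (nat_lit 0xf742c2)))))))))
 (.node (nat_lit 117) (.node (nat_lit 97) (.node (nat_lit 87) (.node (nat_lit 82) (.node (nat_lit 80) (.node (nat_lit 79) (.leaf (nat_lit 0xf74443)) (.leaf (nat_lit 0xf62cc8))) (.node (nat_lit 81) (.leaf (nat_lit 0xf63c81)) (.leaf (nat_lit 0xf9ab08))))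
 (.node (nat_lit 84) (.node (nat_lit 83) (.leaf (nat_lit 0xfa1ad0)) (.leaf (nat_lit 0xfa2ac1))) (.node (nat_lit 85) (.leaf (nat_lit 0xfa3a42)) (.node (nat_lit 86) (.leaf (nat_lit 0xfa2748)) (.leaf (nat_lit 0xfa9710))))))
 (.node (nat_lit 92) (.node (nat_lit 89) (.node (nat_lit 88) (.leaf (nat_lit 0xfaa701)) (.leaf (nat_lit 0xfa88d1))) (.node (nat_lit 90) (.leaf (nat_lit 0xfa98c2)) (.node (nat_lit 91) (.leaf (nat_lit 0xfaa843)) (.leaf (nat_lit 0xf63588)))))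
 (.node (nat_lit 94) (.node (nat_lit 93) (.leaf (nat_lit 0xfa3350)) (.leaf (nat_lit 0xfaa318))) (.node (nat_lit 95) (.leaf (nat_lit 0xfab111)) (.node (nat_lit 96) (.leaf (nat_lit 0xfab302)) (.leaf (nat_lit 0xfac0ca)))))))
 (.node (nat_lit 107) (.node (nat_lit 102) (.node (nat_lit 99) (.node (nat_lit 98) (.leaf (nat_lit 0xfac283)) (.leaf (nat_lit 0xfab444))) (.node (nat_lit 100) (.leaf (nat_lit 0x7f5508)) (.node (nat_lit 101) (.leaf (nat_lit 0x9f52d0)) (.leaf (nat_lit 0x9f54c1)))))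
 (.node (nat_lit 104) (.node (nat_lit 103) (.leaf (nat_lit 0x9f5642)) (.leaf (nat_lit 0x9f3548))) (.node (nat_lit 105) (.leaf (nat_lit 0xbf3310)) (.node (nat_lit 106) (.leaf (nat_lit 0xbf3501)) (.leaf (nat_lit 0xbf40d1))))))
 (.node (nat_lit 112) (.node (nat_lit 109) (.node (nat_lit 108) (.leaf (nat_lit 0xbf42c2)) (.leaf (nat_lit 0xbf4443))) (.node (nat_lit 110) (.leaf (nat_lit 0xbe3588)) (.node (nat_lit 111) (.leaf (nat_lit 0xde3350)) (.leaf (nat_lit 0xde3541)))))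
 (.node (nat_lit 114) (.node (nat_lit 113) (.leaf (nat_lit 0xdea318)) (.leaf (nat_lit 0xdeb111))) (.node (nat_lit 115) (.leaf (nat_lit 0xdeb302)) (.node (nat_lit 116) (.leaf (nat_lit 0xdec0ca)) (.leaf (nat_lit 0xdec283))))))))
 (.node (nat_lit 137) (.node (nat_lit 127) (.node (nat_lit 122) (.node (nat_lit 119) (.node (nat_lit 118) (.leaf (nat_lit 0xdeb444)) (.leaf (nat_lit 0xafe888))) (.node (nat_lit 120) (.leaf (nat_lit 0xb3e4c8)) (.node (nat_lit 121) (.leaf (nat_lit 0xb3e681)) (.leaf (nat_lit 0xcbd8c8)))))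
 (.node (nat_lit 124) (.node (nat_lit 123) (.leaf (nat_lit 0xcfd508)) (.leaf (nat_lit 0xd3d2d0))) (.node (nat_lit 125) (.leaf (nat_lit 0xd3d642)) (.node (nat_lit 126) (.leaf (nat_lit 0xd3b548)) (.leaf (nat_lit 0xd7b310))))))
 (.node (nat_lit 132) (.node (nat_lit 129) (.node (nat_lit 128) (.leaf (nat_lit 0xd7c0d1)) (.leaf (nat_lit 0xd7c2c2))) (.node (nat_lit 130) (.leaf (nat_lit 0xd7c443)) (.node (nat_lit 131) (.leaf (nat_lit 0xe758d0)) (.leaf (nat_lit 0xef5310)))))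
 (.node (nat_lit 134) (.node (nat_lit 133) (.leaf (nat_lit 0xf350d1)) (.leaf (nat_lit 0xf35443))) (.node (nat_lit 135) (.leaf (nat_lit 0xf33350)) (.node (nat_lit 136) (.leaf (nat_lit 0xf72318)) (.leaf (nat_lit 0xf73111)))))))
 (.node (nat_lit 147) (.node (nat_lit 142) (.node (nat_lit 139) (.node (nat_lit 138) (.leaf (nat_lit 0xf740ca)) (.leaf (nat_lit 0xf74283))) (.node (nat_lit 140) (.leaf (nat_lit 0xf73444)) (.node (nat_lit 141) (.leaf (nat_lit 0xf5ad08)) (.leaf (nat_lit 0xf61cd0)))))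
 (.node (nat_lit 144) (.node (nat_lit 143) (.leaf (nat_lit 0xf62cc1)) (.leaf (nat_lit 0xf63c42))) (.node (nat_lit 145) (.leaf (nat_lit 0xf9a948)) (.node (nat_lit 146) (.leaf (nat_lit 0xf99b10)) (.leaf (nat_lit 0xf9ab01))))))
 (.node (nat_lit 152) (.node (nat_lit 149) (.node (nat_lit 148) (.leaf (nat_lit 0xfa0ad1)) (.leaf (nat_lit 0xfa1ac2))) (.node (nat_lit 150) (.leaf (nat_lit 0xfa2a43)) (.node (nat_lit 151) (.leaf (nat_lit 0xf62788)) (.leaf (nat_lit 0xfa1750)))))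
 (.node (nat_lit 154) (.node (nat_lit 153) (.leaf (nat_lit 0xfa9518)) (.leaf (nat_lit 0xfa8711))) (.node (nat_lit 155) (.leaf (nat_lit 0xfa9702)) (.node (nat_lit 156) (.leaf (nat_lit 0xfa88ca)) (.leaf (nat_lit 0xfa9883))))))))))
noncomputable def bR_1 : Tr ℕ := (.node (nat_lit 236) (.node (nat_lit 196) (.node (nat_lit 176) (.node (nat_lit 166) (.node (nat_lit 161) (.node (nat_lit 159) (.node (nat_lit 158) (.leaf (nat_lit 0xfaa644)) (.leaf (nat_lit 0xf63390))) (.node (nat_lit 160) (.leaf (nat_lit 0xfab10a)) (.leaf (nat_lit 0xfaa303))))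
 (.node (nat_lit 163) (.node (nat_lit 162) (.leaf (nat_lit 0xfac08b)) (.leaf (nat_lit 0xfab284))) (.node (nat_lit 164) (.leaf (nat_lit 0xfa3445)) (.node (nat_lit 165) (.leaf (nat_lit 0x7f4548)) (.leaf (nat_lit 0x7f5310))))))
 (.node (nat_lit 171) (.node (nat_lit 168) (.node (nat_lit 167) (.leaf (nat_lit 0x7f5501)) (.leaf (nat_lit 0x9f50d1))) (.node (nat_lit 169) (.leaf (nat_lit 0x9f52c2)) (.node (nat_lit 170) (.leaf (nat_lit 0x9f5443)) (.leaf (nat_lit 0x9eb588)))))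
 (.node (nat_lit 173) (.node (nat_lit 172) (.leaf (nat_lit 0x9f3350)) (.leaf (nat_lit 0x9f3541))) (.node (nat_lit 174) (.leaf (nat_lit 0xbf2318)) (.node (nat_lit 175) (.leaf (nat_lit 0xbf3111)) (.leaf (nat_lit 0xbf3302)))))))
 (.node (nat_lit 186) (.node (nat_lit 181) (.node (nat_lit 178) (.node (nat_lit 177) (.leaf (nat_lit 0xbf40ca)) (.leaf (nat_lit 0xbf4283))) (.node (nat_lit 179) (.leaf (nat_lit 0xbf3444)) (.node (nat_lit 180) (.leaf (nat_lit 0xba35c8)) (.leaf (nat_lit 0xbe3390)))))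
 (.node (nat_lit 183) (.node (nat_lit 182) (.leaf (nat_lit 0xde3342)) (.leaf (nat_lit 0xdeb10a))) (.node (nat_lit 184) (.leaf (nat_lit 0xdea303)) (.node (nat_lit 185) (.leaf (nat_lit 0xdec08b)) (.leaf (nat_lit 0xdeb284))))))
 (.node (nat_lit 191) (.node (nat_lit 188) (.node (nat_lit 187) (.leaf (nat_lit 0xde3445)) (.leaf (nat_lit 0xabe8c8))) (.node (nat_lit 189) (.leaf (nat_lit 0xafe508)) (.node (nat_lit 190) (.leaf (nat_lit 0xb3e2d0)) (.leaf (nat_lit 0xb3e642)))))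
 (.node (nat_lit 193) (.node (nat_lit 192) (.leaf (nat_lit 0xc7d8d0)) (.leaf (nat_lit 0xcfd310))) (.node (nat_lit 194) (.leaf (nat_lit 0xd3d0d1)) (.node (nat_lit 195) (.leaf (nat_lit 0xd3d443)) (.leaf (nat_lit 0xd3b350))))))))
 (.node (nat_lit 216) (.node (nat_lit 206) (.node (nat_lit 201) (.node (nat_lit 198) (.node (nat_lit 197) (.leaf (nat_lit 0xd7a318)) (.leaf (nat_lit 0xd7b111))) (.node (nat_lit 199) (.leaf (nat_lit 0xd7c0ca)) (.node (nat_lit 200) (.leaf (nat_lit 0xd7c283)) (.leaf (nat_lit 0xd7b444)))))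
 (.node (nat_lit 203) (.node (nat_lit 202) (.leaf (nat_lit 0xeb5318)) (.leaf (nat_lit 0xef5111))) (.node (nat_lit 204) (.leaf (nat_lit 0xf32358)) (.node (nat_lit 205) (.leaf (nat_lit 0xf33151)) (.leaf (nat_lit 0xf7408b))))))
 (.node (nat_lit 211) (.node (nat_lit 208) (.node (nat_lit 207) (.leaf (nat_lit 0xf73284)) (.leaf (nat_lit 0xf1ad48))) (.node (nat_lit 209) (.leaf (nat_lit 0xf59d10)) (.node (nat_lit 210) (.leaf (nat_lit 0xf60cd1)) (.leaf (nat_lit 0xf61cc2)))))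
 (.node (nat_lit 213) (.node (nat_lit 212) (.leaf (nat_lit 0xf62c43)) (.leaf (nat_lit 0xf5a988))) (.node (nat_lit 214) (.leaf (nat_lit 0xf99950)) (.node (nat_lit 215) (.leaf (nat_lit 0xf91b18)) (.leaf (nat_lit 0xf98b11)))))))
 (.node (nat_lit 226) (.node (nat_lit 221) (.node (nat_lit 218) (.node (nat_lit 217) (.leaf (nat_lit 0xf99b02)) (.leaf (nat_lit 0xfa0aca))) (.node (nat_lit 219) (.leaf (nat_lit 0xfa1a83)) (.node (nat_lit 220) (.leaf (nat_lit 0xf9aa44)) (.leaf (nat_lit 0xf61790)))))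
 (.node (nat_lit 223) (.node (nat_lit 222) (.leaf (nat_lit 0xfa870a)) (.leaf (nat_lit 0xfa9503))) (.node (nat_lit 224) (.leaf (nat_lit 0xfa888b)) (.node (nat_lit 225) (.leaf (nat_lit 0xfa9684)) (.leaf (nat_lit 0xfa2645))))))
 (.node (nat_lit 231) (.node (nat_lit 228) (.node (nat_lit 227) (.leaf (nat_lit 0xfaa2c4)) (.leaf (nat_lit 0xfab08c))) (.node (nat_lit 229) (.leaf (nat_lit 0xfa3285)) (.node (nat_lit 230) (.leaf (nat_lit 0x7ec588)) (.leaf (nat_lit 0x7f4350)))))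
 (.node (nat_lit 233) (.node (nat_lit 232) (.leaf (nat_lit 0x7f4541)) (.leaf (nat_lit 0x5f5318))) (.node (nat_lit 234) (.leaf (nat_lit 0x7f5111)) (.node (nat_lit 235) (.leaf (nat_lit 0x7f5302)) (.leaf (nat_lit 0x9f50ca)))))))))
 (.node (nat_lit 275) (.node (nat_lit 255) (.node (nat_lit 245) (.node (nat_lit 240) (.node (nat_lit 238) (.node (nat_lit 237) (.leaf (nat_lit 0x9f5283)) (.leaf (nat_lit 0x7f5444))) (.node (nat_lit 239) (.leaf (nat_lit 0x9ab5c8)) (.leaf (nat_lit 0x9eb390))))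
 (.node (nat_lit 242) (.node (nat_lit 241) (.leaf (nat_lit 0x9f3342)) (.leaf (nat_lit 0xbf310a))) (.node (nat_lit 243) (.leaf (nat_lit 0xbf2303)) (.node (nat_lit 244) (.leaf (nat_lit 0xbf408b)) (.leaf (nat_lit 0xbf3284))))))
 (.node (nat_lit 250) (.node (nat_lit 247) (.node (nat_lit 246) (.leaf (nat_lit 0x9f3445)) (.leaf (nat_lit 0xba33d0))) (.node (nat_lit 248) (.leaf (nat_lit 0xdea2c4)) (.node (nat_lit 249) (.leaf (nat_lit 0xdeb08c)) (.leaf (nat_lit 0xde3285)))))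
 (.node (nat_lit 252) (.node (nat_lit 251) (.leaf (nat_lit 0xbe3446)) (.leaf (nat_lit 0xa7e8d0))) (.node (nat_lit 253) (.leaf (nat_lit 0xafe310)) (.node (nat_lit 254) (.leaf (nat_lit 0xb3e0d1)) (.leaf (nat_lit 0xb3e443)))))))
 (.node (nat_lit 265) (.node (nat_lit 260) (.node (nat_lit 257) (.node (nat_lit 256) (.leaf (nat_lit 0xcbd318)) (.leaf (nat_lit 0xcfd111))) (.node (nat_lit 258) (.leaf (nat_lit 0xd3a358)) (.node (nat_lit 259) (.leaf (nat_lit 0xd3b151)) (.leaf (nat_lit 0xd7c08b)))))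
 (.node (nat_lit 262) (.node (nat_lit 261) (.leaf (nat_lit 0xd7b284)) (.leaf (nat_lit 0xeb5119))) (.node (nat_lit 263) (.leaf (nat_lit 0xef2360)) (.node (nat_lit 264) (.leaf (nat_lit 0xf7308c)) (.leaf (nat_lit 0xf19d50))))))
 (.node (nat_lit 270) (.node (nat_lit 267) (.node (nat_lit 266) (.leaf (nat_lit 0xf51d18)) (.leaf (nat_lit 0xf58d11))) (.node (nat_lit 268) (.leaf (nat_lit 0xf60cca)) (.node (nat_lit 269) (.leaf (nat_lit 0xf61c83)) (.leaf (nat_lit 0xf5ac44)))))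
 (.node (nat_lit 272) (.node (nat_lit 271) (.leaf (nat_lit 0xf59990)) (.leaf (nat_lit 0xf98b0a))) (.node (nat_lit 273) (.leaf (nat_lit 0xf91b03)) (.node (nat_lit 274) (.leaf (nat_lit 0xfa0a8b)) (.leaf (nat_lit 0xf99a84))))))))
 (.node (nat_lit 295) (.node (nat_lit 285) (.node (nat_lit 280) (.node (nat_lit 277) (.node (nat_lit 276) (.leaf (nat_lit 0xf9a845)) (.leaf (nat_lit 0xfa94c4))) (.node (nat_lit 278) (.leaf (nat_lit 0xfa868c)) (.node (nat_lit 279) (.leaf (nat_lit 0xfa1685)) (.leaf (nat_lit 0x7ac5c8)))))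
 (.node (nat_lit 282) (.node (nat_lit 281) (.leaf (nat_lit 0x7ec390)) (.leaf (nat_lit 0x7f4342))) (.node (nat_lit 283) (.leaf (nat_lit 0x7f510a)) (.node (nat_lit 284) (.leaf (nat_lit 0x5f5303)) (.leaf (nat_lit 0x9f508b))))))
 (.node (nat_lit 290) (.node (nat_lit 287) (.node (nat_lit 286) (.leaf (nat_lit 0x7f5284)) (.leaf (nat_lit 0x7f4445))) (.node (nat_lit 288) (.leaf (nat_lit 0x9ab3d0)) (.node (nat_lit 289) (.leaf (nat_lit 0xbf22c4)) (.leaf (nat_lit 0xbf308c)))))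
 (.node (nat_lit 292) (.node (nat_lit 291) (.leaf (nat_lit 0x9f3285)) (.leaf (nat_lit 0x9eb446))) (.node (nat_lit 293) (.leaf (nat_lit 0xbe3286)) (.node (nat_lit 294) (.leaf (nat_lit 0xabe318)) (.leaf (nat_lit 0xafe111)))))))
 (.node (nat_lit 305) (.node (nat_lit 300) (.node (nat_lit 297) (.node (nat_lit 296) (.leaf (nat_lit 0xcbd119)) (.leaf (nat_lit 0xcfa360))) (.node (nat_lit 298) (.leaf (nat_lit 0xd7b08c)) (.node (nat_lit 299) (.leaf (nat_lit 0xf11d58)) (.leaf (nat_lit 0xf18d51)))))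
 (.node (nat_lit 302) (.node (nat_lit 301) (.leaf (nat_lit 0xf60c8b)) (.leaf (nat_lit 0xf59c84))) (.node (nat_lit 303) (.leaf (nat_lit 0xf91ac4)) (.node (nat_lit 304) (.leaf (nat_lit 0xf98a8c)) (.leaf (nat_lit 0xf99885))))))
 (.node (nat_lit 310) (.node (nat_lit 307) (.node (nat_lit 306) (.leaf (nat_lit 0x7ac3d0)) (.leaf (nat_lit 0x5f52c4))) (.node (nat_lit 308) (.leaf (nat_lit 0x7f508c)) (.node (nat_lit 309) (.leaf (nat_lit 0x7f4285)) (.leaf (nat_lit 0x7ec446)))))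
 (.node (nat_lit 312) (.node (nat_lit 311) (.leaf (nat_lit 0x9eb286)) (.leaf (nat_lit 0xabe119))) (.node (nat_lit 313) (.leaf (nat_lit 0xed1d60)) (.node (nat_lit 314) (.leaf (nat_lit 0xf58c8c)) (.leaf (nat_lit 0x7ec286))))))))))
noncomputable def bR : Tr ℕ := (.node (nat_lit 157) bR_0 bR_1)
noncomputable def bE : Tr (List ℕ) := (.node (nat_lit 157) (.node (nat_lit 78) (.node (nat_lit 39) (.node (nat_lit 19) (.node (nat_lit 9) (.node (nat_lit 4) (.node (nat_lit 2) (.node (nat_lit 1) (.leaf []) (.leaf [nat_lit 0])) (.node (nat_lit 3) (.leaf [nat_lit 1]) (.leaf [nat_lit 3])))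
 (.node (nat_lit 6) (.node (nat_lit 5) (.leaf [nat_lit 4]) (.leaf [nat_lit 6])) (.node (nat_lit 7) (.leaf [nat_lit 1, nat_lit 0]) (.node (nat_lit 8) (.leaf [nat_lit 4, nat_lit 0]) (.leaf [nat_lit 6, nat_lit 0])))))
 (.node (nat_lit 14) (.node (nat_lit 11) (.node (nat_lit 10) (.leaf [nat_lit 0, nat_lit 1]) (.leaf [nat_lit 2, nat_lit 1])) (.node (nat_lit 12) (.leaf [nat_lit 4, nat_lit 1]) (.node (nat_lit 13) (.leaf [nat_lit 6, nat_lit 1]) (.leaf [nat_lit 2, nat_lit 3]))))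
 (.node (nat_lit 16) (.node (nat_lit 15) (.leaf [nat_lit 4, nat_lit 3]) (.leaf [nat_lit 6, nat_lit 3])) (.node (nat_lit 17) (.leaf [nat_lit 3, nat_lit 4]) (.node (nat_lit 18) (.leaf [nat_lit 5, nat_lit 4]) (.leaf [nat_lit 6, nat_lit 4]))))))
 (.node (nat_lit 29) (.node (nat_lit 24) (.node (nat_lit 21) (.node (nat_lit 20) (.leaf [nat_lit 5, nat_lit 6]) (.leaf [nat_lit 2, nat_lit 1, nat_lit 0])) (.node (nat_lit 22) (.leaf [nat_lit 4, nat_lit 1, nat_lit 0]) (.node (nat_lit 23) (.leaf [nat_lit 6, nat_lit 1, nat_lit 0]) (.leaf [nat_lit 3, nat_lit 4, nat_lit 0]))))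
 (.node (nat_lit 26) (.node (nat_lit 25) (.leaf [nat_lit 5, nat_lit 4, nat_lit 0]) (.leaf [nat_lit 6, nat_lit 4, nat_lit 0])) (.node (nat_lit 27) (.leaf [nat_lit 5, nat_lit 6, nat_lit 0]) (.node (nat_lit 28) (.leaf [nat_lit 2, nat_lit 0, nat_lit 1]) (.leaf [nat_lit 4, nat_lit 0, nat_lit 1])))))
 (.node (nat_lit 34) (.node (nat_lit 31) (.node (nat_lit 30) (.leaf [nat_lit 6, nat_lit 0, nat_lit 1]) (.leaf [nat_lit 3, nat_lit 2, nat_lit 1])) (.node (nat_lit 32) (.leaf [nat_lit 4, nat_lit 2, nat_lit 1]) (.node (nat_lit 33) (.leaf [nat_lit 6, nat_lit 2, nat_lit 1]) (.leaf [nat_lit 3, nat_lit 4, nat_lit 1]))))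
 (.node (nat_lit 36) (.node (nat_lit 35) (.leaf [nat_lit 5, nat_lit 4, nat_lit 1]) (.leaf [nat_lit 6, nat_lit 4, nat_lit 1])) (.node (nat_lit 37) (.leaf [nat_lit 5, nat_lit 6, nat_lit 1]) (.node (nat_lit 38) (.leaf [nat_lit 1, nat_lit 2, nat_lit 3]) (.leaf [nat_lit 4, nat_lit 2, nat_lit 3])))))))
 (.node (nat_lit 58) (.node (nat_lit 48) (.node (nat_lit 43) (.node (nat_lit 41) (.node (nat_lit 40) (.leaf [nat_lit 6, nat_lit 2, nat_lit 3]) (.leaf [nat_lit 3, nat_lit 4, nat_lit 3])) (.node (nat_lit 42) (.leaf [nat_lit 5, nat_lit 4, nat_lit 3]) (.leaf [nat_lit 6, nat_lit 4, nat_lit 3])))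
 (.node (nat_lit 45) (.node (nat_lit 44) (.leaf [nat_lit 5, nat_lit 6, nat_lit 3]) (.leaf [nat_lit 2, nat_lit 3, nat_lit 4])) (.node (nat_lit 46) (.leaf [nat_lit 5, nat_lit 3, nat_lit 4]) (.node (nat_lit 47) (.leaf [nat_lit 6, nat_lit 3, nat_lit 4]) (.leaf [nat_lit 6, nat_lit 5, nat_lit 4])))))
 (.node (nat_lit 53) (.node (nat_lit 50) (.node (nat_lit 49) (.leaf [nat_lit 5, nat_lit 6, nat_lit 4]) (.leaf [nat_lit 4, nat_lit 5, nat_lit 6])) (.node (nat_lit 51) (.leaf [nat_lit 4, nat_lit 2, nat_lit 1, nat_lit 0]) (.node (nat_lit 52) (.leaf [nat_lit 6, nat_lit 2, nat_lit 1, nat_lit 0]) (.leaf [nat_lit 3, nat_lit 4, nat_lit 1, nat_lit 0]))))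
 (.node (nat_lit 55) (.node (nat_lit 54) (.leaf [nat_lit 5, nat_lit 4, nat_lit 1, nat_lit 0]) (.leaf [nat_lit 6, nat_lit 4, nat_lit 1, nat_lit 0])) (.node (nat_lit 56) (.leaf [nat_lit 5, nat_lit 6, nat_lit 1, nat_lit 0]) (.node (nat_lit 57) (.leaf [nat_lit 2, nat_lit 3, nat_lit 4, nat_lit 0]) (.leaf [nat_lit 5, nat_lit 3, nat_lit 4, nat_lit 0]))))))
 (.node (nat_lit 68) (.node (nat_lit 63) (.node (nat_lit 60) (.node (nat_lit 59) (.leaf [nat_lit 6, nat_lit 3, nat_lit 4, nat_lit 0]) (.leaf [nat_lit 6, nat_lit 5, nat_lit 4, nat_lit 0])) (.node (nat_lit 61) (.leaf [nat_lit 5, nat_lit 6, nat_lit 4, nat_lit 0]) (.node (nat_lit 62) (.leaf [nat_lit 4, nat_lit 5, nat_lit 6, nat_lit 0]) (.leaf [nat_lit 1, nat_lit 2, nat_lit 0, nat_lit 1]))))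
 (.node (nat_lit 65) (.node (nat_lit 64) (.leaf [nat_lit 3, nat_lit 2, nat_lit 0, nat_lit 1]) (.leaf [nat_lit 4, nat_lit 2, nat_lit 0, nat_lit 1])) (.node (nat_lit 66) (.leaf [nat_lit 6, nat_lit 2, nat_lit 0, nat_lit 1]) (.node (nat_lit 67) (.leaf [nat_lit 3, nat_lit 4, nat_lit 0, nat_lit 1]) (.leaf [nat_lit 5, nat_lit 4, nat_lit 0, nat_lit 1])))))
 (.node (nat_lit 73) (.node (nat_lit 70) (.node (nat_lit 69) (.leaf [nat_lit 6, nat_lit 4, nat_lit 0, nat_lit 1]) (.leaf [nat_lit 5, nat_lit 6, nat_lit 0, nat_lit 1])) (.node (nat_lit 71) (.leaf [nat_lit 4, nat_lit 3, nat_lit 2, nat_lit 1]) (.node (nat_lit 72) (.leaf [nat_lit 3, nat_lit 4, nat_lit 2, nat_lit 1]) (.leaf [nat_lit 5, nat_lit 4, nat_lit 2, nat_lit 1]))))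
 (.node (nat_lit 75) (.node (nat_lit 74) (.leaf [nat_lit 5, nat_lit 6, nat_lit 2, nat_lit 1]) (.leaf [nat_lit 2, nat_lit 3, nat_lit 4, nat_lit 1])) (.node (nat_lit 76) (.leaf [nat_lit 5, nat_lit 3, nat_lit 4, nat_lit 1]) (.node (nat_lit 77) (.leaf [nat_lit 6, nat_lit 5, nat_lit 4, nat_lit 1]) (.leaf [nat_lit 5, nat_lit 6, nat_lit 4, nat_lit 1]))))))))
 (.node (nat_lit 117) (.node (nat_lit 97) (.node (nat_lit 87) (.node (nat_lit 82) (.node (nat_lit 80) (.node (nat_lit 79) (.leaf [nat_lit 4, nat_lit 5, nat_lit 6, nat_lit 1]) (.leaf [nat_lit 4, nat_lit 1, nat_lit 2, nat_lit 3])) (.node (nat_lit 81) (.leaf [nat_lit 6, nat_lit 1, nat_lit 2, nat_lit 3]) (.leaf [nat_lit 3, nat_lit 4, nat_lit 2, nat_lit 3])))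
 (.node (nat_lit 84) (.node (nat_lit 83) (.leaf [nat_lit 5, nat_lit 4, nat_lit 2, nat_lit 3]) (.leaf [nat_lit 6, nat_lit 4, nat_lit 2, nat_lit 3])) (.node (nat_lit 85) (.leaf [nat_lit 5, nat_lit 6, nat_lit 2, nat_lit 3]) (.node (nat_lit 86) (.leaf [nat_lit 2, nat_lit 3, nat_lit 4, nat_lit 3]) (.leaf [nat_lit 5, nat_lit 3, nat_lit 4, nat_lit 3])))))
 (.node (nat_lit 92) (.node (nat_lit 89) (.node (nat_lit 88) (.leaf [nat_lit 6, nat_lit 3, nat_lit 4, nat_lit 3]) (.leaf [nat_lit 6, nat_lit 5, nat_lit 4, nat_lit 3])) (.node (nat_lit 90) (.leaf [nat_lit 5, nat_lit 6, nat_lit 4, nat_lit 3]) (.node (nat_lit 91) (.leaf [nat_lit 4, nat_lit 5, nat_lit 6, nat_lit 3]) (.leaf [nat_lit 1, nat_lit 2, nat_lit 3, nat_lit 4]))))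
 (.node (nat_lit 94) (.node (nat_lit 93) (.leaf [nat_lit 5, nat_lit 2, nat_lit 3, nat_lit 4]) (.leaf [nat_lit 4, nat_lit 5, nat_lit 3, nat_lit 4])) (.node (nat_lit 95) (.leaf [nat_lit 6, nat_lit 5, nat_lit 3, nat_lit 4]) (.node (nat_lit 96) (.leaf [nat_lit 5, nat_lit 6, nat_lit 3, nat_lit 4]) (.leaf [nat_lit 5, nat_lit 6, nat_lit 5, nat_lit 4]))))))
 (.node (nat_lit 107) (.node (nat_lit 102) (.node (nat_lit 99) (.node (nat_lit 98) (.leaf [nat_lit 4, nat_lit 5, nat_lit 6, nat_lit 4]) (.leaf [nat_lit 3, nat_lit 4, nat_lit 5, nat_lit 6])) (.node (nat_lit 100) (.leaf [nat_lit 3, nat_lit 4, nat_lit 2, nat_lit 1, nat_lit 0]) (.node (nat_lit 101) (.leaf [nat_lit 5, nat_lit 4, nat_lit 2, nat_lit 1, nat_lit 0]) (.leaf [nat_lit 6, nat_lit 4, nat_lit 2, nat_lit 1, nat_lit 0]))))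
 (.node (nat_lit 104) (.node (nat_lit 103) (.leaf [nat_lit 5, nat_lit 6, nat_lit 2, nat_lit 1, nat_lit 0]) (.leaf [nat_lit 2, nat_lit 3, nat_lit 4, nat_lit 1, nat_lit 0])) (.node (nat_lit 105) (.leaf [nat_lit 5, nat_lit 3, nat_lit 4, nat_lit 1, nat_lit 0]) (.node (nat_lit 106) (.leaf [nat_lit 6, nat_lit 3, nat_lit 4, nat_lit 1, nat_lit 0]) (.leaf [nat_lit 6, nat_lit 5, nat_lit 4, nat_lit 1, nat_lit 0])))))
 (.node (nat_lit 112) (.node (nat_lit 109) (.node (nat_lit 108) (.leaf [nat_lit 5, nat_lit 6, nat_lit 4, nat_lit 1, nat_lit 0]) (.leaf [nat_lit 4, nat_lit 5, nat_lit 6, nat_lit 1, nat_lit 0])) (.node (nat_lit 110) (.leaf [nat_lit 1, nat_lit 2, nat_lit 3, nat_lit 4, nat_lit 0]) (.node (nat_lit 111) (.leaf [nat_lit 5, nat_lit 2, nat_lit 3, nat_lit 4, nat_lit 0]) (.leaf [nat_lit 6, nat_lit 2, nat_lit 3, nat_lit 4, nat_lit 0]))))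
 (.node (nat_lit 114) (.node (nat_lit 113) (.leaf [nat_lit 4, nat_lit 5, nat_lit 3, nat_lit 4, nat_lit 0]) (.leaf [nat_lit 6, nat_lit 5, nat_lit 3, nat_lit 4, nat_lit 0])) (.node (nat_lit 115) (.leaf [nat_lit 5, nat_lit 6, nat_lit 3, nat_lit 4, nat_lit 0]) (.node (nat_lit 116) (.leaf [nat_lit 5, nat_lit 6, nat_lit 5, nat_lit 4, nat_lit 0]) (.leaf [nat_lit 4, nat_lit 5, nat_lit 6, nat_lit 4, nat_lit 0])))))))
 (.node (nat_lit 137) (.node (nat_lit 127) (.node (nat_lit 122) (.node (nat_lit 119) (.node (nat_lit 118) (.leaf [nat_lit 3, nat_lit 4, nat_lit 5, nat_lit 6, nat_lit 0]) (.leaf [nat_lit 3, nat_lit 1, nat_lit 2, nat_lit 0, nat_lit 1])) (.node (nat_lit 120) (.leaf [nat_lit 4, nat_lit 1, nat_lit 2, nat_lit 0, nat_lit 1]) (.node (nat_lit 121) (.leaf [nat_lit 6, nat_lit 1, nat_lit 2, nat_lit 0, nat_lit 1]) (.leaf [nat_lit 4, nat_lit 3, nat_lit 2, nat_lit 0, nat_lit 1]))))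
 (.node (nat_lit 124) (.node (nat_lit 123) (.leaf [nat_lit 3, nat_lit 4, nat_lit 2, nat_lit 0, nat_lit 1]) (.leaf [nat_lit 5, nat_lit 4, nat_lit 2, nat_lit 0, nat_lit 1])) (.node (nat_lit 125) (.leaf [nat_lit 5, nat_lit 6, nat_lit 2, nat_lit 0, nat_lit 1]) (.node (nat_lit 126) (.leaf [nat_lit 2, nat_lit 3, nat_lit 4, nat_lit 0, nat_lit 1]) (.leaf [nat_lit 5, nat_lit 3, nat_lit 4, nat_lit 0, nat_lit 1])))))
 (.node (nat_lit 132) (.node (nat_lit 129) (.node (nat_lit 128) (.leaf [nat_lit 6, nat_lit 5, nat_lit 4, nat_lit 0, nat_lit 1]) (.leaf [nat_lit 5, nat_lit 6, nat_lit 4, nat_lit 0, nat_lit 1])) (.node (nat_lit 130) (.leaf [nat_lit 4, nat_lit 5, nat_lit 6, nat_lit 0, nat_lit 1]) (.node (nat_lit 131) (.leaf [nat_lit 5, nat_lit 4, nat_lit 3, nat_lit 2, nat_lit 1]) (.leaf [nat_lit 5, nat_lit 3, nat_lit 4, nat_lit 2, nat_lit 1]))))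
 (.node (nat_lit 134) (.node (nat_lit 133) (.leaf [nat_lit 6, nat_lit 5, nat_lit 4, nat_lit 2, nat_lit 1]) (.leaf [nat_lit 4, nat_lit 5, nat_lit 6, nat_lit 2, nat_lit 1])) (.node (nat_lit 135) (.leaf [nat_lit 5, nat_lit 2, nat_lit 3, nat_lit 4, nat_lit 1]) (.node (nat_lit 136) (.leaf [nat_lit 4, nat_lit 5, nat_lit 3, nat_lit 4, nat_lit 1]) (.leaf [nat_lit 6, nat_lit 5, nat_lit 3, nat_lit 4, nat_lit 1]))))))
 (.node (nat_lit 147) (.node (nat_lit 142) (.node (nat_lit 139) (.node (nat_lit 138) (.leaf [nat_lit 5, nat_lit 6, nat_lit 5, nat_lit 4, nat_lit 1]) (.leaf [nat_lit 4, nat_lit 5, nat_lit 6, nat_lit 4, nat_lit 1])) (.node (nat_lit 140) (.leaf [nat_lit 3, nat_lit 4, nat_lit 5, nat_lit 6, nat_lit 1]) (.node (nat_lit 141) (.leaf [nat_lit 3, nat_lit 4, nat_lit 1, nat_lit 2, nat_lit 3]) (.leaf [nat_lit 5, nat_lit 4, nat_lit 1, nat_lit 2, nat_lit 3]))))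
 (.node (nat_lit 144) (.node (nat_lit 143) (.leaf [nat_lit 6, nat_lit 4, nat_lit 1, nat_lit 2, nat_lit 3]) (.leaf [nat_lit 5, nat_lit 6, nat_lit 1, nat_lit 2, nat_lit 3])) (.node (nat_lit 145) (.leaf [nat_lit 2, nat_lit 3, nat_lit 4, nat_lit 2, nat_lit 3]) (.node (nat_lit 146) (.leaf [nat_lit 5, nat_lit 3, nat_lit 4, nat_lit 2, nat_lit 3]) (.leaf [nat_lit 6, nat_lit 3, nat_lit 4, nat_lit 2, nat_lit 3])))))
 (.node (nat_lit 152) (.node (nat_lit 149) (.node (nat_lit 148) (.leaf [nat_lit 6, nat_lit 5, nat_lit 4, nat_lit 2, nat_lit 3]) (.leaf [nat_lit 5, nat_lit 6, nat_lit 4, nat_lit 2, nat_lit 3])) (.node (nat_lit 150) (.leaf [nat_lit 4, nat_lit 5, nat_lit 6, nat_lit 2, nat_lit 3]) (.node (nat_lit 151) (.leaf [nat_lit 1, nat_lit 2, nat_lit 3, nat_lit 4, nat_lit 3]) (.leaf [nat_lit 5, nat_lit 2, nat_lit 3, nat_lit 4, nat_lit 3]))))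
 (.node (nat_lit 154) (.node (nat_lit 153) (.leaf [nat_lit 4, nat_lit 5, nat_lit 3, nat_lit 4, nat_lit 3]) (.leaf [nat_lit 6, nat_lit 5, nat_lit 3, nat_lit 4, nat_lit 3])) (.node (nat_lit 155) (.leaf [nat_lit 5, nat_lit 6, nat_lit 3, nat_lit 4, nat_lit 3]) (.node (nat_lit 156) (.leaf [nat_lit 5, nat_lit 6, nat_lit 5, nat_lit 4, nat_lit 3]) (.leaf [nat_lit 4, nat_lit 5, nat_lit 6, nat_lit 4, nat_lit 3])))))))))
 (.node (nat_lit 236) (.node (nat_lit 196) (.node (nat_lit 176) (.node (nat_lit 166) (.node (nat_lit 161) (.node (nat_lit 159) (.node (nat_lit 158) (.leaf [nat_lit 3, nat_lit 4, nat_lit 5, nat_lit 6, nat_lit 3]) (.leaf [nat_lit 5, nat_lit 1, nat_lit 2, nat_lit 3, nat_lit 4])) (.node (nat_lit 160) (.leaf [nat_lit 5, nat_lit 6, nat_lit 5, nat_lit 3, nat_lit 4]) (.leaf [nat_lit 4, nat_lit 5, nat_lit 6, nat_lit 3, nat_lit 4])))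
 (.node (nat_lit 163) (.node (nat_lit 162) (.leaf [nat_lit 4, nat_lit 5, nat_lit 6, nat_lit 5, nat_lit 4]) (.leaf [nat_lit 3, nat_lit 4, nat_lit 5, nat_lit 6, nat_lit 4])) (.node (nat_lit 164) (.leaf [nat_lit 2, nat_lit 3, nat_lit 4, nat_lit 5, nat_lit 6]) (.node (nat_lit 165) (.leaf [nat_lit 2, nat_lit 3, nat_lit 4, nat_lit 2, nat_lit 1, nat_lit 0]) (.leaf [nat_lit 5, nat_lit 3, nat_lit 4, nat_lit 2, nat_lit 1, nat_lit 0])))))
 (.node (nat_lit 171) (.node (nat_lit 168) (.node (nat_lit 167) (.leaf [nat_lit 6, nat_lit 3, nat_lit 4, nat_lit 2, nat_lit 1, nat_lit 0]) (.leaf [nat_lit 6, nat_lit 5, nat_lit 4, nat_lit 2, nat_lit 1, nat_lit 0])) (.node (nat_lit 169) (.leaf [nat_lit 5, nat_lit 6, nat_lit 4, nat_lit 2, nat_lit 1, nat_lit 0]) (.node (nat_lit 170) (.leaf [nat_lit 4, nat_lit 5, nat_lit 6, nat_lit 2, nat_lit 1, nat_lit 0]) (.leaf [nat_lit 1, nat_lit 2, nat_lit 3, nat_lit 4, nat_lit 1, nat_lit 0]))))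
 (.node (nat_lit 173) (.node (nat_lit 172) (.leaf [nat_lit 5, nat_lit 2, nat_lit 3, nat_lit 4, nat_lit 1, nat_lit 0]) (.leaf [nat_lit 6, nat_lit 2, nat_lit 3, nat_lit 4, nat_lit 1, nat_lit 0])) (.node (nat_lit 174) (.leaf [nat_lit 4, nat_lit 5, nat_lit 3, nat_lit 4, nat_lit 1, nat_lit 0]) (.node (nat_lit 175) (.leaf [nat_lit 6, nat_lit 5, nat_lit 3, nat_lit 4, nat_lit 1, nat_lit 0]) (.leaf [nat_lit 5, nat_lit 6, nat_lit 3, nat_lit 4, nat_lit 1, nat_lit 0]))))))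
 (.node (nat_lit 186) (.node (nat_lit 181) (.node (nat_lit 178) (.node (nat_lit 177) (.leaf [nat_lit 5, nat_lit 6, nat_lit 5, nat_lit 4, nat_lit 1, nat_lit 0]) (.leaf [nat_lit 4, nat_lit 5, nat_lit 6, nat_lit 4, nat_lit 1, nat_lit 0])) (.node (nat_lit 179) (.leaf [nat_lit 3, nat_lit 4, nat_lit 5, nat_lit 6, nat_lit 1, nat_lit 0]) (.node (nat_lit 180) (.leaf [nat_lit 0, nat_lit 1, nat_lit 2, nat_lit 3, nat_lit 4, nat_lit 0]) (.leaf [nat_lit 5, nat_lit 1, nat_lit 2, nat_lit 3, nat_lit 4, nat_lit 0]))))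
 (.node (nat_lit 183) (.node (nat_lit 182) (.leaf [nat_lit 5, nat_lit 6, nat_lit 2, nat_lit 3, nat_lit 4, nat_lit 0]) (.leaf [nat_lit 5, nat_lit 6, nat_lit 5, nat_lit 3, nat_lit 4, nat_lit 0])) (.node (nat_lit 184) (.leaf [nat_lit 4, nat_lit 5, nat_lit 6, nat_lit 3, nat_lit 4, nat_lit 0]) (.node (nat_lit 185) (.leaf [nat_lit 4, nat_lit 5, nat_lit 6, nat_lit 5, nat_lit 4, nat_lit 0]) (.leaf [nat_lit 3, nat_lit 4, nat_lit 5, nat_lit 6, nat_lit 4, nat_lit 0])))))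
 (.node (nat_lit 191) (.node (nat_lit 188) (.node (nat_lit 187) (.leaf [nat_lit 2, nat_lit 3, nat_lit 4, nat_lit 5, nat_lit 6, nat_lit 0]) (.leaf [nat_lit 4, nat_lit 3, nat_lit 1, nat_lit 2, nat_lit 0, nat_lit 1])) (.node (nat_lit 189) (.leaf [nat_lit 3, nat_lit 4, nat_lit 1, nat_lit 2, nat_lit 0, nat_lit 1]) (.node (nat_lit 190) (.leaf [nat_lit 5, nat_lit 4, nat_lit 1, nat_lit 2, nat_lit 0, nat_lit 1]) (.leaf [nat_lit 5, nat_lit 6, nat_lit 1, nat_lit 2, nat_lit 0, nat_lit 1]))))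
 (.node (nat_lit 193) (.node (nat_lit 192) (.leaf [nat_lit 5, nat_lit 4, nat_lit 3, nat_lit 2, nat_lit 0, nat_lit 1]) (.leaf [nat_lit 5, nat_lit 3, nat_lit 4, nat_lit 2, nat_lit 0, nat_lit 1])) (.node (nat_lit 194) (.leaf [nat_lit 6, nat_lit 5, nat_lit 4, nat_lit 2, nat_lit 0, nat_lit 1]) (.node (nat_lit 195) (.leaf [nat_lit 4, nat_lit 5, nat_lit 6, nat_lit 2, nat_lit 0, nat_lit 1]) (.leaf [nat_lit 5, nat_lit 2, nat_lit 3, nat_lit 4, nat_lit 0, nat_lit 1])))))))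
 (.node (nat_lit 216) (.node (nat_lit 206) (.node (nat_lit 201) (.node (nat_lit 198) (.node (nat_lit 197) (.leaf [nat_lit 4, nat_lit 5, nat_lit 3, nat_lit 4, nat_lit 0, nat_lit 1]) (.leaf [nat_lit 6, nat_lit 5, nat_lit 3, nat_lit 4, nat_lit 0, nat_lit 1])) (.node (nat_lit 199) (.leaf [nat_lit 5, nat_lit 6, nat_lit 5, nat_lit 4, nat_lit 0, nat_lit 1]) (.node (nat_lit 200) (.leaf [nat_lit 4, nat_lit 5, nat_lit 6, nat_lit 4, nat_lit 0, nat_lit 1]) (.leaf [nat_lit 3, nat_lit 4, nat_lit 5, nat_lit 6, nat_lit 0, nat_lit 1]))))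
 (.node (nat_lit 203) (.node (nat_lit 202) (.leaf [nat_lit 4, nat_lit 5, nat_lit 3, nat_lit 4, nat_lit 2, nat_lit 1]) (.leaf [nat_lit 6, nat_lit 5, nat_lit 3, nat_lit 4, nat_lit 2, nat_lit 1])) (.node (nat_lit 204) (.leaf [nat_lit 4, nat_lit 5, nat_lit 2, nat_lit 3, nat_lit 4, nat_lit 1]) (.node (nat_lit 205) (.leaf [nat_lit 6, nat_lit 5, nat_lit 2, nat_lit 3, nat_lit 4, nat_lit 1]) (.leaf [nat_lit 4, nat_lit 5, nat_lit 6, nat_lit 5, nat_lit 4, nat_lit 1])))))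
 (.node (nat_lit 211) (.node (nat_lit 208) (.node (nat_lit 207) (.leaf [nat_lit 3, nat_lit 4, nat_lit 5, nat_lit 6, nat_lit 4, nat_lit 1]) (.leaf [nat_lit 2, nat_lit 3, nat_lit 4, nat_lit 1, nat_lit 2, nat_lit 3])) (.node (nat_lit 209) (.leaf [nat_lit 5, nat_lit 3, nat_lit 4, nat_lit 1, nat_lit 2, nat_lit 3]) (.node (nat_lit 210) (.leaf [nat_lit 6, nat_lit 5, nat_lit 4, nat_lit 1, nat_lit 2, nat_lit 3]) (.leaf [nat_lit 5, nat_lit 6, nat_lit 4, nat_lit 1, nat_lit 2, nat_lit 3]))))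
 (.node (nat_lit 213) (.node (nat_lit 212) (.leaf [nat_lit 4, nat_lit 5, nat_lit 6, nat_lit 1, nat_lit 2, nat_lit 3]) (.leaf [nat_lit 1, nat_lit 2, nat_lit 3, nat_lit 4, nat_lit 2, nat_lit 3])) (.node (nat_lit 214) (.leaf [nat_lit 5, nat_lit 2, nat_lit 3, nat_lit 4, nat_lit 2, nat_lit 3]) (.node (nat_lit 215) (.leaf [nat_lit 4, nat_lit 5, nat_lit 3, nat_lit 4, nat_lit 2, nat_lit 3]) (.leaf [nat_lit 6, nat_lit 5, nat_lit 3, nat_lit 4, nat_lit 2, nat_lit 3]))))))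
 (.node (nat_lit 226) (.node (nat_lit 221) (.node (nat_lit 218) (.node (nat_lit 217) (.leaf [nat_lit 5, nat_lit 6, nat_lit 3, nat_lit 4, nat_lit 2, nat_lit 3]) (.leaf [nat_lit 5, nat_lit 6, nat_lit 5, nat_lit 4, nat_lit 2, nat_lit 3])) (.node (nat_lit 219) (.leaf [nat_lit 4, nat_lit 5, nat_lit 6, nat_lit 4, nat_lit 2, nat_lit 3]) (.node (nat_lit 220) (.leaf [nat_lit 3, nat_lit 4, nat_lit 5, nat_lit 6, nat_lit 2, nat_lit 3]) (.leaf [nat_lit 5, nat_lit 1, nat_lit 2, nat_lit 3, nat_lit 4, nat_lit 3]))))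
 (.node (nat_lit 223) (.node (nat_lit 222) (.leaf [nat_lit 5, nat_lit 6, nat_lit 5, nat_lit 3, nat_lit 4, nat_lit 3]) (.leaf [nat_lit 4, nat_lit 5, nat_lit 6, nat_lit 3, nat_lit 4, nat_lit 3])) (.node (nat_lit 224) (.leaf [nat_lit 4, nat_lit 5, nat_lit 6, nat_lit 5, nat_lit 4, nat_lit 3]) (.node (nat_lit 225) (.leaf [nat_lit 3, nat_lit 4, nat_lit 5, nat_lit 6, nat_lit 4, nat_lit 3]) (.leaf [nat_lit 2, nat_lit 3, nat_lit 4, nat_lit 5, nat_lit 6, nat_lit 3])))))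
 (.node (nat_lit 231) (.node (nat_lit 228) (.node (nat_lit 227) (.leaf [nat_lit 3, nat_lit 4, nat_lit 5, nat_lit 6, nat_lit 3, nat_lit 4]) (.leaf [nat_lit 3, nat_lit 4, nat_lit 5, nat_lit 6, nat_lit 5, nat_lit 4])) (.node (nat_lit 229) (.leaf [nat_lit 2, nat_lit 3, nat_lit 4, nat_lit 5, nat_lit 6, nat_lit 4]) (.node (nat_lit 230) (.leaf [nat_lit 1, nat_lit 2, nat_lit 3, nat_lit 4, nat_lit 2, nat_lit 1, nat_lit 0]) (.leaf [nat_lit 5, nat_lit 2, nat_lit 3, nat_lit 4, nat_lit 2, nat_lit 1, nat_lit 0]))))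
 (.node (nat_lit 233) (.node (nat_lit 232) (.leaf [nat_lit 6, nat_lit 2, nat_lit 3, nat_lit 4, nat_lit 2, nat_lit 1, nat_lit 0]) (.leaf [nat_lit 4, nat_lit 5, nat_lit 3, nat_lit 4, nat_lit 2, nat_lit 1, nat_lit 0])) (.node (nat_lit 234) (.leaf [nat_lit 6, nat_lit 5, nat_lit 3, nat_lit 4, nat_lit 2, nat_lit 1, nat_lit 0]) (.node (nat_lit 235) (.leaf [nat_lit 5, nat_lit 6, nat_lit 3, nat_lit 4, nat_lit 2, nat_lit 1, nat_lit 0]) (.leaf [nat_lit 5, nat_lit 6, nat_lit 5, nat_lit 4, nat_lit 2, nat_lit 1, nat_lit 0]))))))))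
 (.node (nat_lit 275) (.node (nat_lit 255) (.node (nat_lit 245) (.node (nat_lit 240) (.node (nat_lit 238) (.node (nat_lit 237) (.leaf [nat_lit 4, nat_lit 5, nat_lit 6, nat_lit 4, nat_lit 2, nat_lit 1, nat_lit 0]) (.leaf [nat_lit 3, nat_lit 4, nat_lit 5, nat_lit 6, nat_lit 2, nat_lit 1, nat_lit 0])) (.node (nat_lit 239) (.leaf [nat_lit 0, nat_lit 1, nat_lit 2, nat_lit 3, nat_lit 4, nat_lit 1, nat_lit 0]) (.leaf [nat_lit 5, nat_lit 1, nat_lit 2, nat_lit 3, nat_lit 4, nat_lit 1, nat_lit 0])))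
 (.node (nat_lit 242) (.node (nat_lit 241) (.leaf [nat_lit 5, nat_lit 6, nat_lit 2, nat_lit 3, nat_lit 4, nat_lit 1, nat_lit 0]) (.leaf [nat_lit 5, nat_lit 6, nat_lit 5, nat_lit 3, nat_lit 4, nat_lit 1, nat_lit 0])) (.node (nat_lit 243) (.leaf [nat_lit 4, nat_lit 5, nat_lit 6, nat_lit 3, nat_lit 4, nat_lit 1, nat_lit 0]) (.node (nat_lit 244) (.leaf [nat_lit 4, nat_lit 5, nat_lit 6, nat_lit 5, nat_lit 4, nat_lit 1, nat_lit 0]) (.leaf [nat_lit 3, nat_lit 4, nat_lit 5, nat_lit 6, nat_lit 4, nat_lit 1, nat_lit 0])))))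
 (.node (nat_lit 250) (.node (nat_lit 247) (.node (nat_lit 246) (.leaf [nat_lit 2, nat_lit 3, nat_lit 4, nat_lit 5, nat_lit 6, nat_lit 1, nat_lit 0]) (.leaf [nat_lit 5, nat_lit 0, nat_lit 1, nat_lit 2, nat_lit 3, nat_lit 4, nat_lit 0])) (.node (nat_lit 248) (.leaf [nat_lit 3, nat_lit 4, nat_lit 5, nat_lit 6, nat_lit 3, nat_lit 4, nat_lit 0]) (.node (nat_lit 249) (.leaf [nat_lit 3, nat_lit 4, nat_lit 5, nat_lit 6, nat_lit 5, nat_lit 4, nat_lit 0]) (.leaf [nat_lit 2, nat_lit 3, nat_lit 4, nat_lit 5, nat_lit 6, nat_lit 4, nat_lit 0]))))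
 (.node (nat_lit 252) (.node (nat_lit 251) (.leaf [nat_lit 1, nat_lit 2, nat_lit 3, nat_lit 4, nat_lit 5, nat_lit 6, nat_lit 0]) (.leaf [nat_lit 5, nat_lit 4, nat_lit 3, nat_lit 1, nat_lit 2, nat_lit 0, nat_lit 1])) (.node (nat_lit 253) (.leaf [nat_lit 5, nat_lit 3, nat_lit 4, nat_lit 1, nat_lit 2, nat_lit 0, nat_lit 1]) (.node (nat_lit 254) (.leaf [nat_lit 6, nat_lit 5, nat_lit 4, nat_lit 1, nat_lit 2, nat_lit 0, nat_lit 1]) (.leaf [nat_lit 4, nat_lit 5, nat_lit 6, nat_lit 1, nat_lit 2, nat_lit 0, nat_lit 1]))))))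
 (.node (nat_lit 265) (.node (nat_lit 260) (.node (nat_lit 257) (.node (nat_lit 256) (.leaf [nat_lit 4, nat_lit 5, nat_lit 3, nat_lit 4, nat_lit 2, nat_lit 0, nat_lit 1]) (.leaf [nat_lit 6, nat_lit 5, nat_lit 3, nat_lit 4, nat_lit 2, nat_lit 0, nat_lit 1])) (.node (nat_lit 258) (.leaf [nat_lit 4, nat_lit 5, nat_lit 2, nat_lit 3, nat_lit 4, nat_lit 0, nat_lit 1]) (.node (nat_lit 259) (.leaf [nat_lit 6, nat_lit 5, nat_lit 2, nat_lit 3, nat_lit 4, nat_lit 0, nat_lit 1]) (.leaf [nat_lit 4, nat_lit 5, nat_lit 6, nat_lit 5, nat_lit 4, nat_lit 0, nat_lit 1]))))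
 (.node (nat_lit 262) (.node (nat_lit 261) (.leaf [nat_lit 3, nat_lit 4, nat_lit 5, nat_lit 6, nat_lit 4, nat_lit 0, nat_lit 1]) (.leaf [nat_lit 6, nat_lit 4, nat_lit 5, nat_lit 3, nat_lit 4, nat_lit 2, nat_lit 1])) (.node (nat_lit 263) (.leaf [nat_lit 3, nat_lit 4, nat_lit 5, nat_lit 2, nat_lit 3, nat_lit 4, nat_lit 1]) (.node (nat_lit 264) (.leaf [nat_lit 3, nat_lit 4, nat_lit 5, nat_lit 6, nat_lit 5, nat_lit 4, nat_lit 1]) (.leaf [nat_lit 5, nat_lit 2, nat_lit 3, nat_lit 4, nat_lit 1, nat_lit 2, nat_lit 3])))))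
 (.node (nat_lit 270) (.node (nat_lit 267) (.node (nat_lit 266) (.leaf [nat_lit 4, nat_lit 5, nat_lit 3, nat_lit 4, nat_lit 1, nat_lit 2, nat_lit 3]) (.leaf [nat_lit 6, nat_lit 5, nat_lit 3, nat_lit 4, nat_lit 1, nat_lit 2, nat_lit 3])) (.node (nat_lit 268) (.leaf [nat_lit 5, nat_lit 6, nat_lit 5, nat_lit 4, nat_lit 1, nat_lit 2, nat_lit 3]) (.node (nat_lit 269) (.leaf [nat_lit 4, nat_lit 5, nat_lit 6, nat_lit 4, nat_lit 1, nat_lit 2, nat_lit 3]) (.leaf [nat_lit 3, nat_lit 4, nat_lit 5, nat_lit 6, nat_lit 1, nat_lit 2, nat_lit 3]))))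
 (.node (nat_lit 272) (.node (nat_lit 271) (.leaf [nat_lit 5, nat_lit 1, nat_lit 2, nat_lit 3, nat_lit 4, nat_lit 2, nat_lit 3]) (.leaf [nat_lit 5, nat_lit 6, nat_lit 5, nat_lit 3, nat_lit 4, nat_lit 2, nat_lit 3])) (.node (nat_lit 273) (.leaf [nat_lit 4, nat_lit 5, nat_lit 6, nat_lit 3, nat_lit 4, nat_lit 2, nat_lit 3]) (.node (nat_lit 274) (.leaf [nat_lit 4, nat_lit 5, nat_lit 6, nat_lit 5, nat_lit 4, nat_lit 2, nat_lit 3]) (.leaf [nat_lit 3, nat_lit 4, nat_lit 5, nat_lit 6, nat_lit 4, nat_lit 2, nat_lit 3])))))))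
 (.node (nat_lit 295) (.node (nat_lit 285) (.node (nat_lit 280) (.node (nat_lit 277) (.node (nat_lit 276) (.leaf [nat_lit 2, nat_lit 3, nat_lit 4, nat_lit 5, nat_lit 6, nat_lit 2, nat_lit 3]) (.leaf [nat_lit 3, nat_lit 4, nat_lit 5, nat_lit 6, nat_lit 3, nat_lit 4, nat_lit 3])) (.node (nat_lit 278) (.leaf [nat_lit 3, nat_lit 4, nat_lit 5, nat_lit 6, nat_lit 5, nat_lit 4, nat_lit 3]) (.node (nat_lit 279) (.leaf [nat_lit 2, nat_lit 3, nat_lit 4, nat_lit 5, nat_lit 6, nat_lit 4, nat_lit 3]) (.leaf [nat_lit 0, nat_lit 1, nat_lit 2, nat_lit 3, nat_lit 4, nat_lit 2, nat_lit 1, nat_lit 0]))))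
 (.node (nat_lit 282) (.node (nat_lit 281) (.leaf [nat_lit 5, nat_lit 1, nat_lit 2, nat_lit 3, nat_lit 4, nat_lit 2, nat_lit 1, nat_lit 0]) (.leaf [nat_lit 5, nat_lit 6, nat_lit 2, nat_lit 3, nat_lit 4, nat_lit 2, nat_lit 1, nat_lit 0])) (.node (nat_lit 283) (.leaf [nat_lit 5, nat_lit 6, nat_lit 5, nat_lit 3, nat_lit 4, nat_lit 2, nat_lit 1, nat_lit 0]) (.node (nat_lit 284) (.leaf [nat_lit 4, nat_lit 5, nat_lit 6, nat_lit 3, nat_lit 4, nat_lit 2, nat_lit 1, nat_lit 0]) (.leaf [nat_lit 4, nat_lit 5, nat_lit 6, nat_lit 5, nat_lit 4, nat_lit 2, nat_lit 1, nat_lit 0])))))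
 (.node (nat_lit 290) (.node (nat_lit 287) (.node (nat_lit 286) (.leaf [nat_lit 3, nat_lit 4, nat_lit 5, nat_lit 6, nat_lit 4, nat_lit 2, nat_lit 1, nat_lit 0]) (.leaf [nat_lit 2, nat_lit 3, nat_lit 4, nat_lit 5, nat_lit 6, nat_lit 2, nat_lit 1, nat_lit 0])) (.node (nat_lit 288) (.leaf [nat_lit 5, nat_lit 0, nat_lit 1, nat_lit 2, nat_lit 3, nat_lit 4, nat_lit 1, nat_lit 0]) (.node (nat_lit 289) (.leaf [nat_lit 3, nat_lit 4, nat_lit 5, nat_lit 6, nat_lit 3, nat_lit 4, nat_lit 1, nat_lit 0]) (.leaf [nat_lit 3, nat_lit 4, nat_lit 5, nat_lit 6, nat_lit 5, nat_lit 4, nat_lit 1, nat_lit 0]))))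
 (.node (nat_lit 292) (.node (nat_lit 291) (.leaf [nat_lit 2, nat_lit 3, nat_lit 4, nat_lit 5, nat_lit 6, nat_lit 4, nat_lit 1, nat_lit 0]) (.leaf [nat_lit 1, nat_lit 2, nat_lit 3, nat_lit 4, nat_lit 5, nat_lit 6, nat_lit 1, nat_lit 0])) (.node (nat_lit 293) (.leaf [nat_lit 1, nat_lit 2, nat_lit 3, nat_lit 4, nat_lit 5, nat_lit 6, nat_lit 4, nat_lit 0]) (.node (nat_lit 294) (.leaf [nat_lit 4, nat_lit 5, nat_lit 3, nat_lit 4, nat_lit 1, nat_lit 2, nat_lit 0, nat_lit 1]) (.leaf [nat_lit 6, nat_lit 5, nat_lit 3, nat_lit 4, nat_lit 1, nat_lit 2, nat_lit 0, nat_lit 1]))))))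
 (.node (nat_lit 305) (.node (nat_lit 300) (.node (nat_lit 297) (.node (nat_lit 296) (.leaf [nat_lit 6, nat_lit 4, nat_lit 5, nat_lit 3, nat_lit 4, nat_lit 2, nat_lit 0, nat_lit 1]) (.leaf [nat_lit 3, nat_lit 4, nat_lit 5, nat_lit 2, nat_lit 3, nat_lit 4, nat_lit 0, nat_lit 1])) (.node (nat_lit 298) (.leaf [nat_lit 3, nat_lit 4, nat_lit 5, nat_lit 6, nat_lit 5, nat_lit 4, nat_lit 0, nat_lit 1]) (.node (nat_lit 299) (.leaf [nat_lit 4, nat_lit 5, nat_lit 2, nat_lit 3, nat_lit 4, nat_lit 1, nat_lit 2, nat_lit 3]) (.leaf [nat_lit 6, nat_lit 5, nat_lit 2, nat_lit 3, nat_lit 4, nat_lit 1, nat_lit 2, nat_lit 3]))))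
 (.node (nat_lit 302) (.node (nat_lit 301) (.leaf [nat_lit 4, nat_lit 5, nat_lit 6, nat_lit 5, nat_lit 4, nat_lit 1, nat_lit 2, nat_lit 3]) (.leaf [nat_lit 3, nat_lit 4, nat_lit 5, nat_lit 6, nat_lit 4, nat_lit 1, nat_lit 2, nat_lit 3])) (.node (nat_lit 303) (.leaf [nat_lit 3, nat_lit 4, nat_lit 5, nat_lit 6, nat_lit 3, nat_lit 4, nat_lit 2, nat_lit 3]) (.node (nat_lit 304) (.leaf [nat_lit 3, nat_lit 4, nat_lit 5, nat_lit 6, nat_lit 5, nat_lit 4, nat_lit 2, nat_lit 3]) (.leaf [nat_lit 2, nat_lit 3, nat_lit 4, nat_lit 5, nat_lit 6, nat_lit 4, nat_lit 2, nat_lit 3])))))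
 (.node (nat_lit 310) (.node (nat_lit 307) (.node (nat_lit 306) (.leaf [nat_lit 5, nat_lit 0, nat_lit 1, nat_lit 2, nat_lit 3, nat_lit 4, nat_lit 2, nat_lit 1, nat_lit 0]) (.leaf [nat_lit 3, nat_lit 4, nat_lit 5, nat_lit 6, nat_lit 3, nat_lit 4, nat_lit 2, nat_lit 1, nat_lit 0])) (.node (nat_lit 308) (.leaf [nat_lit 3, nat_lit 4, nat_lit 5, nat_lit 6, nat_lit 5, nat_lit 4, nat_lit 2, nat_lit 1, nat_lit 0]) (.node (nat_lit 309) (.leaf [nat_lit 2, nat_lit 3, nat_lit 4, nat_lit 5, nat_lit 6, nat_lit 4, nat_lit 2, nat_lit 1, nat_lit 0]) (.leaf [nat_lit 1, nat_lit 2, nat_lit 3, nat_lit 4, nat_lit 5, nat_lit 6, nat_lit 2, nat_lit 1, nat_lit 0]))))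
 (.node (nat_lit 312) (.node (nat_lit 311) (.leaf [nat_lit 1, nat_lit 2, nat_lit 3, nat_lit 4, nat_lit 5, nat_lit 6, nat_lit 4, nat_lit 1, nat_lit 0]) (.leaf [nat_lit 6, nat_lit 4, nat_lit 5, nat_lit 3, nat_lit 4, nat_lit 1, nat_lit 2, nat_lit 0, nat_lit 1])) (.node (nat_lit 313) (.leaf [nat_lit 3, nat_lit 4, nat_lit 5, nat_lit 2, nat_lit 3, nat_lit 4, nat_lit 1, nat_lit 2, nat_lit 3]) (.node (nat_lit 314) (.leaf [nat_lit 3, nat_lit 4, nat_lit 5, nat_lit 6, nat_lit 5, nat_lit 4, nat_lit 1, nat_lit 2, nat_lit 3]) (.leaf [nat_lit 1, nat_lit 2, nat_lit 3, nat_lit 4, nat_lit 5, nat_lit 6, nat_lit 4, nat_lit 2, nat_lit 1, nat_lit 0]))))))))))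
theorem bw_0 : bR.all2 (fun c w => isProd 8 (nat_lit 3) (nat_lit 7) Alt.s8T c w) bE = true := by decide +kernel
theorem bw : bR.all2 (fun c w => isProd 8 (nat_lit 3) (nat_lit 7) Alt.s8T c w) bE = true := bw_0
noncomputable def bWd_0 : Tr (ℕ × List ℕ) := (.node (nat_lit 68) (.node (nat_lit 34) (.node (nat_lit 17) (.node (nat_lit 8) (.node (nat_lit 4) (.node (nat_lit 2) (.node (nat_lit 1) (.leaf ((nat_lit 1), [])) (.leaf ((nat_lit 2), []))) (.node (nat_lit 3) (.leaf ((nat_lit 0), [nat_lit 0])) (.leaf ((nat_lit 3), []))))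
 (.node (nat_lit 6) (.node (nat_lit 5) (.leaf ((nat_lit 4), [])) (.leaf ((nat_lit 0), [nat_lit 3, nat_lit 0, nat_lit 3]))) (.node (nat_lit 7) (.leaf ((nat_lit 5), [])) (.leaf ((nat_lit 0), [])))))
 (.node (nat_lit 12) (.node (nat_lit 10) (.node (nat_lit 9) (.leaf ((nat_lit 6), [])) (.leaf ((nat_lit 1), [nat_lit 0]))) (.node (nat_lit 11) (.leaf ((nat_lit 6), [nat_lit 1])) (.leaf ((nat_lit 7), []))))
 (.node (nat_lit 14) (.node (nat_lit 13) (.leaf ((nat_lit 1), [nat_lit 3, nat_lit 0, nat_lit 3])) (.leaf ((nat_lit 8), []))) (.node (nat_lit 15) (.leaf ((nat_lit 9), [])) (.node (nat_lit 16) (.leaf ((nat_lit 0), [])) (.leaf ((nat_lit 10), [])))))))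
 (.node (nat_lit 25) (.node (nat_lit 21) (.node (nat_lit 19) (.node (nat_lit 18) (.leaf ((nat_lit 9), [nat_lit 1])) (.leaf ((nat_lit 11), []))) (.node (nat_lit 20) (.leaf ((nat_lit 2), [nat_lit 3, nat_lit 0, nat_lit 3])) (.leaf ((nat_lit 12), []))))
 (.node (nat_lit 23) (.node (nat_lit 22) (.leaf ((nat_lit 6), [nat_lit 1])) (.leaf ((nat_lit 9), [nat_lit 1]))) (.node (nat_lit 24) (.leaf ((nat_lit 13), [])) (.leaf ((nat_lit 0), [])))))
 (.node (nat_lit 29) (.node (nat_lit 27) (.node (nat_lit 26) (.leaf ((nat_lit 14), [])) (.leaf ((nat_lit 3), [nat_lit 3, nat_lit 0, nat_lit 3]))) (.node (nat_lit 28) (.leaf ((nat_lit 15), [])) (.leaf ((nat_lit 7), []))))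
 (.node (nat_lit 31) (.node (nat_lit 30) (.leaf ((nat_lit 11), [])) (.leaf ((nat_lit 4), [nat_lit 0]))) (.node (nat_lit 32) (.leaf ((nat_lit 16), [])) (.node (nat_lit 33) (.leaf ((nat_lit 0), [])) (.leaf ((nat_lit 17), []))))))))
 (.node (nat_lit 51) (.node (nat_lit 42) (.node (nat_lit 38) (.node (nat_lit 36) (.node (nat_lit 35) (.leaf ((nat_lit 18), [])) (.leaf ((nat_lit 8), []))) (.node (nat_lit 37) (.leaf ((nat_lit 12), [])) (.leaf ((nat_lit 5), [nat_lit 0]))))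
 (.node (nat_lit 40) (.node (nat_lit 39) (.leaf ((nat_lit 15), [])) (.leaf ((nat_lit 18), []))) (.node (nat_lit 41) (.leaf ((nat_lit 19), [])) (.leaf ((nat_lit 0), [])))))
 (.node (nat_lit 46) (.node (nat_lit 44) (.node (nat_lit 43) (.leaf ((nat_lit 3), [nat_lit 1])) (.leaf ((nat_lit 1), []))) (.node (nat_lit 45) (.leaf ((nat_lit 20), [])) (.leaf ((nat_lit 1), [nat_lit 1]))))
 (.node (nat_lit 48) (.node (nat_lit 47) (.leaf ((nat_lit 21), [])) (.leaf ((nat_lit 6), [nat_lit 3, nat_lit 0, nat_lit 3]))) (.node (nat_lit 49) (.leaf ((nat_lit 22), [])) (.node (nat_lit 50) (.leaf ((nat_lit 4), [])) (.leaf ((nat_lit 21), [])))))))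
 (.node (nat_lit 59) (.node (nat_lit 55) (.node (nat_lit 53) (.node (nat_lit 52) (.leaf ((nat_lit 7), [nat_lit 0])) (.leaf ((nat_lit 23), []))) (.node (nat_lit 54) (.leaf ((nat_lit 1), [])) (.leaf ((nat_lit 24), []))))
 (.node (nat_lit 57) (.node (nat_lit 56) (.leaf ((nat_lit 25), [])) (.leaf ((nat_lit 5), []))) (.node (nat_lit 58) (.leaf ((nat_lit 22), [])) (.leaf ((nat_lit 8), [nat_lit 0])))))
 (.node (nat_lit 63) (.node (nat_lit 61) (.node (nat_lit 60) (.leaf ((nat_lit 22), [nat_lit 1])) (.leaf ((nat_lit 25), []))) (.node (nat_lit 62) (.leaf ((nat_lit 26), [])) (.leaf ((nat_lit 1), []))))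
 (.node (nat_lit 65) (.node (nat_lit 64) (.leaf ((nat_lit 2), [])) (.leaf ((nat_lit 3), [nat_lit 1]))) (.node (nat_lit 66) (.leaf ((nat_lit 27), [])) (.node (nat_lit 67) (.leaf ((nat_lit 2), [nat_lit 1])) (.leaf ((nat_lit 28), [])))))))))
 (.node (nat_lit 102) (.node (nat_lit 85) (.node (nat_lit 76) (.node (nat_lit 72) (.node (nat_lit 70) (.node (nat_lit 69) (.leaf ((nat_lit 9), [nat_lit 3, nat_lit 0, nat_lit 3])) (.leaf ((nat_lit 29), []))) (.node (nat_lit 71) (.leaf ((nat_lit 27), [])) (.leaf ((nat_lit 10), [nat_lit 0]))))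
 (.node (nat_lit 74) (.node (nat_lit 73) (.leaf ((nat_lit 2), [])) (.leaf ((nat_lit 30), []))) (.node (nat_lit 75) (.leaf ((nat_lit 31), [])) (.leaf ((nat_lit 10), [nat_lit 3, nat_lit 0, nat_lit 3])))))
 (.node (nat_lit 80) (.node (nat_lit 78) (.node (nat_lit 77) (.leaf ((nat_lit 32), [])) (.leaf ((nat_lit 28), []))) (.node (nat_lit 79) (.leaf ((nat_lit 4), [])) (.leaf ((nat_lit 31), []))))
 (.node (nat_lit 82) (.node (nat_lit 81) (.leaf ((nat_lit 33), [])) (.leaf ((nat_lit 2), []))) (.node (nat_lit 83) (.leaf ((nat_lit 34), [])) (.node (nat_lit 84) (.leaf ((nat_lit 35), [])) (.leaf ((nat_lit 29), [])))))))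
 (.node (nat_lit 93) (.node (nat_lit 89) (.node (nat_lit 87) (.node (nat_lit 86) (.leaf ((nat_lit 5), [])) (.leaf ((nat_lit 32), []))) (.node (nat_lit 88) (.leaf ((nat_lit 29), [nat_lit 1])) (.leaf ((nat_lit 35), []))))
 (.node (nat_lit 91) (.node (nat_lit 90) (.leaf ((nat_lit 36), [])) (.leaf ((nat_lit 2), []))) (.node (nat_lit 92) (.leaf ((nat_lit 20), [nat_lit 1])) (.leaf ((nat_lit 37), [])))))
 (.node (nat_lit 97) (.node (nat_lit 95) (.node (nat_lit 94) (.leaf ((nat_lit 3), [])) (.leaf ((nat_lit 13), [nat_lit 0]))) (.node (nat_lit 96) (.leaf ((nat_lit 38), [])) (.leaf ((nat_lit 13), [nat_lit 3, nat_lit 0, nat_lit 3]))))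
 (.node (nat_lit 99) (.node (nat_lit 98) (.leaf ((nat_lit 39), [])) (.leaf ((nat_lit 21), [nat_lit 1]))) (.node (nat_lit 100) (.leaf ((nat_lit 28), [nat_lit 1])) (.node (nat_lit 101) (.leaf ((nat_lit 38), [])) (.leaf ((nat_lit 40), []))))))))
 (.node (nat_lit 119) (.node (nat_lit 110) (.node (nat_lit 106) (.node (nat_lit 104) (.node (nat_lit 103) (.leaf ((nat_lit 3), [])) (.leaf ((nat_lit 41), []))) (.node (nat_lit 105) (.leaf ((nat_lit 42), [])) (.leaf ((nat_lit 22), [nat_lit 1]))))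
 (.node (nat_lit 108) (.node (nat_lit 107) (.leaf ((nat_lit 29), [nat_lit 1])) (.leaf ((nat_lit 39), []))) (.node (nat_lit 109) (.leaf ((nat_lit 5), [])) (.leaf ((nat_lit 42), [])))))
 (.node (nat_lit 114) (.node (nat_lit 112) (.node (nat_lit 111) (.leaf ((nat_lit 43), [])) (.leaf ((nat_lit 3), []))) (.node (nat_lit 113) (.leaf ((nat_lit 23), [])) (.leaf ((nat_lit 33), []))))
 (.node (nat_lit 116) (.node (nat_lit 115) (.leaf ((nat_lit 44), [])) (.leaf ((nat_lit 4), []))) (.node (nat_lit 117) (.leaf ((nat_lit 40), [])) (.node (nat_lit 118) (.leaf ((nat_lit 45), [])) (.leaf ((nat_lit 46), [])))))))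
 (.node (nat_lit 128) (.node (nat_lit 123) (.node (nat_lit 121) (.node (nat_lit 120) (.leaf ((nat_lit 24), [])) (.leaf ((nat_lit 34), []))) (.node (nat_lit 122) (.leaf ((nat_lit 17), [nat_lit 0])) (.leaf ((nat_lit 45), []))))
 (.node (nat_lit 125) (.node (nat_lit 124) (.leaf ((nat_lit 17), [nat_lit 3, nat_lit 0, nat_lit 3])) (.leaf ((nat_lit 4), []))) (.node (nat_lit 126) (.leaf ((nat_lit 47), [])) (.node (nat_lit 127) (.leaf ((nat_lit 25), [])) (.leaf ((nat_lit 35), []))))))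
 (.node (nat_lit 132) (.node (nat_lit 130) (.node (nat_lit 129) (.leaf ((nat_lit 18), [nat_lit 0])) (.leaf ((nat_lit 46), []))) (.node (nat_lit 131) (.leaf ((nat_lit 5), [])) (.leaf ((nat_lit 48), []))))
 (.node (nat_lit 134) (.node (nat_lit 133) (.leaf ((nat_lit 4), [])) (.leaf ((nat_lit 26), []))) (.node (nat_lit 135) (.leaf ((nat_lit 36), [])) (.node (nat_lit 136) (.leaf ((nat_lit 19), [nat_lit 0])) (.leaf ((nat_lit 43), []))))))))))
noncomputable def bWd_1 : Tr (ℕ × List ℕ) := (.node (nat_lit 206) (.node (nat_lit 171) (.node (nat_lit 154) (.node (nat_lit 145) (.node (nat_lit 141) (.node (nat_lit 139) (.node (nat_lit 138) (.leaf ((nat_lit 49), [])) (.leaf ((nat_lit 5), []))) (.node (nat_lit 140) (.leaf ((nat_lit 19), [nat_lit 3, nat_lit 0, nat_lit 3])) (.leaf ((nat_lit 13), [nat_lit 1]))))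
 (.node (nat_lit 143) (.node (nat_lit 142) (.leaf ((nat_lit 20), [nat_lit 0])) (.leaf ((nat_lit 6), []))) (.node (nat_lit 144) (.leaf ((nat_lit 20), [nat_lit 1, nat_lit 0, nat_lit 1])) (.leaf ((nat_lit 50), [])))))
 (.node (nat_lit 149) (.node (nat_lit 147) (.node (nat_lit 146) (.leaf ((nat_lit 20), [nat_lit 3, nat_lit 0, nat_lit 3])) (.leaf ((nat_lit 51), []))) (.node (nat_lit 148) (.leaf ((nat_lit 14), [nat_lit 1])) (.leaf ((nat_lit 7), []))))
 (.node (nat_lit 151) (.node (nat_lit 150) (.leaf ((nat_lit 50), [])) (.leaf ((nat_lit 52), []))) (.node (nat_lit 152) (.leaf ((nat_lit 6), [])) (.node (nat_lit 153) (.leaf ((nat_lit 53), [])) (.leaf ((nat_lit 54), [])))))))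
 (.node (nat_lit 162) (.node (nat_lit 158) (.node (nat_lit 156) (.node (nat_lit 155) (.leaf ((nat_lit 15), [nat_lit 1])) (.leaf ((nat_lit 8), []))) (.node (nat_lit 157) (.leaf ((nat_lit 51), [])) (.leaf ((nat_lit 8), [nat_lit 1]))))
 (.node (nat_lit 160) (.node (nat_lit 159) (.leaf ((nat_lit 54), [])) (.leaf ((nat_lit 55), []))) (.node (nat_lit 161) (.leaf ((nat_lit 6), [])) (.leaf ((nat_lit 16), [])))))
 (.node (nat_lit 166) (.node (nat_lit 164) (.node (nat_lit 163) (.leaf ((nat_lit 52), [])) (.leaf ((nat_lit 56), []))) (.node (nat_lit 165) (.leaf ((nat_lit 7), [])) (.leaf ((nat_lit 52), [nat_lit 1]))))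
 (.node (nat_lit 168) (.node (nat_lit 167) (.leaf ((nat_lit 57), [])) (.leaf ((nat_lit 58), []))) (.node (nat_lit 169) (.leaf ((nat_lit 17), [])) (.node (nat_lit 170) (.leaf ((nat_lit 53), [])) (.leaf ((nat_lit 24), [nat_lit 0]))))))))
 (.node (nat_lit 188) (.node (nat_lit 179) (.node (nat_lit 175) (.node (nat_lit 173) (.node (nat_lit 172) (.leaf ((nat_lit 57), [])) (.leaf ((nat_lit 24), [nat_lit 3, nat_lit 0, nat_lit 3]))) (.node (nat_lit 174) (.leaf ((nat_lit 7), [])) (.leaf ((nat_lit 59), []))))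
 (.node (nat_lit 177) (.node (nat_lit 176) (.leaf ((nat_lit 18), [])) (.leaf ((nat_lit 54), []))) (.node (nat_lit 178) (.leaf ((nat_lit 25), [nat_lit 0])) (.leaf ((nat_lit 58), [])))))
 (.node (nat_lit 183) (.node (nat_lit 181) (.node (nat_lit 180) (.leaf ((nat_lit 8), [])) (.leaf ((nat_lit 60), []))) (.node (nat_lit 182) (.leaf ((nat_lit 7), [])) (.leaf ((nat_lit 19), []))))
 (.node (nat_lit 185) (.node (nat_lit 184) (.leaf ((nat_lit 55), [])) (.leaf ((nat_lit 26), [nat_lit 0]))) (.node (nat_lit 186) (.leaf ((nat_lit 55), [nat_lit 1])) (.node (nat_lit 187) (.leaf ((nat_lit 61), [])) (.leaf ((nat_lit 8), [])))))))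
 (.node (nat_lit 197) (.node (nat_lit 192) (.node (nat_lit 190) (.node (nat_lit 189) (.leaf ((nat_lit 26), [nat_lit 3, nat_lit 0, nat_lit 3])) (.leaf ((nat_lit 10), []))) (.node (nat_lit 191) (.leaf ((nat_lit 62), [])) (.leaf ((nat_lit 9), []))))
 (.node (nat_lit 194) (.node (nat_lit 193) (.leaf ((nat_lit 63), [])) (.leaf ((nat_lit 64), []))) (.node (nat_lit 195) (.leaf ((nat_lit 27), [nat_lit 3, nat_lit 0, nat_lit 3])) (.node (nat_lit 196) (.leaf ((nat_lit 65), [])) (.leaf ((nat_lit 11), []))))))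
 (.node (nat_lit 201) (.node (nat_lit 199) (.node (nat_lit 198) (.leaf ((nat_lit 14), [nat_lit 1])) (.leaf ((nat_lit 64), []))) (.node (nat_lit 200) (.leaf ((nat_lit 66), [])) (.leaf ((nat_lit 9), []))))
 (.node (nat_lit 203) (.node (nat_lit 202) (.leaf ((nat_lit 67), [])) (.leaf ((nat_lit 68), []))) (.node (nat_lit 204) (.leaf ((nat_lit 12), [])) (.node (nat_lit 205) (.leaf ((nat_lit 15), [nat_lit 1])) (.leaf ((nat_lit 65), [])))))))))
 (.node (nat_lit 240) (.node (nat_lit 223) (.node (nat_lit 214) (.node (nat_lit 210) (.node (nat_lit 208) (.node (nat_lit 207) (.leaf ((nat_lit 12), [nat_lit 1])) (.leaf ((nat_lit 68), []))) (.node (nat_lit 209) (.leaf ((nat_lit 69), [])) (.leaf ((nat_lit 9), []))))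
 (.node (nat_lit 212) (.node (nat_lit 211) (.leaf ((nat_lit 63), [])) (.leaf ((nat_lit 30), [nat_lit 0]))) (.node (nat_lit 213) (.leaf ((nat_lit 63), [nat_lit 1])) (.leaf ((nat_lit 10), [])))))
 (.node (nat_lit 218) (.node (nat_lit 216) (.node (nat_lit 215) (.leaf ((nat_lit 70), [])) (.leaf ((nat_lit 30), [nat_lit 3, nat_lit 0, nat_lit 3]))) (.node (nat_lit 217) (.leaf ((nat_lit 70), [nat_lit 3, nat_lit 1, nat_lit 3])) (.leaf ((nat_lit 64), []))))
 (.node (nat_lit 220) (.node (nat_lit 219) (.leaf ((nat_lit 31), [nat_lit 0])) (.leaf ((nat_lit 11), []))) (.node (nat_lit 221) (.leaf ((nat_lit 71), [])) (.node (nat_lit 222) (.leaf ((nat_lit 10), [])) (.leaf ((nat_lit 72), [])))))))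
 (.node (nat_lit 231) (.node (nat_lit 227) (.node (nat_lit 225) (.node (nat_lit 224) (.leaf ((nat_lit 71), [nat_lit 3, nat_lit 1, nat_lit 3])) (.leaf ((nat_lit 65), []))) (.node (nat_lit 226) (.leaf ((nat_lit 32), [nat_lit 0])) (.leaf ((nat_lit 12), []))))
 (.node (nat_lit 229) (.node (nat_lit 228) (.leaf ((nat_lit 70), [nat_lit 3, nat_lit 1, nat_lit 3])) (.leaf ((nat_lit 71), [nat_lit 3, nat_lit 1, nat_lit 3]))) (.node (nat_lit 230) (.leaf ((nat_lit 73), [])) (.leaf ((nat_lit 10), [])))))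
 (.node (nat_lit 235) (.node (nat_lit 233) (.node (nat_lit 232) (.leaf ((nat_lit 66), [])) (.leaf ((nat_lit 16), []))) (.node (nat_lit 234) (.leaf ((nat_lit 74), [])) (.leaf ((nat_lit 11), []))))
 (.node (nat_lit 237) (.node (nat_lit 236) (.leaf ((nat_lit 66), [nat_lit 1])) (.leaf ((nat_lit 75), []))) (.node (nat_lit 238) (.leaf ((nat_lit 74), [nat_lit 3, nat_lit 1, nat_lit 3])) (.node (nat_lit 239) (.leaf ((nat_lit 67), [])) (.leaf ((nat_lit 17), []))))))))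
 (.node (nat_lit 257) (.node (nat_lit 248) (.node (nat_lit 244) (.node (nat_lit 242) (.node (nat_lit 241) (.leaf ((nat_lit 72), [])) (.leaf ((nat_lit 75), []))) (.node (nat_lit 243) (.leaf ((nat_lit 34), [nat_lit 3, nat_lit 0, nat_lit 3])) (.leaf ((nat_lit 11), []))))
 (.node (nat_lit 246) (.node (nat_lit 245) (.leaf ((nat_lit 76), [])) (.leaf ((nat_lit 68), []))) (.node (nat_lit 247) (.leaf ((nat_lit 18), [])) (.leaf ((nat_lit 71), [nat_lit 3, nat_lit 1, nat_lit 3])))))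
 (.node (nat_lit 252) (.node (nat_lit 250) (.node (nat_lit 249) (.leaf ((nat_lit 74), [nat_lit 3, nat_lit 1, nat_lit 3])) (.leaf ((nat_lit 12), []))) (.node (nat_lit 251) (.leaf ((nat_lit 77), [])) (.leaf ((nat_lit 11), []))))
 (.node (nat_lit 254) (.node (nat_lit 253) (.leaf ((nat_lit 69), [])) (.leaf ((nat_lit 19), []))) (.node (nat_lit 255) (.leaf ((nat_lit 73), [])) (.node (nat_lit 256) (.leaf ((nat_lit 69), [nat_lit 1])) (.leaf ((nat_lit 78), [])))))))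
 (.node (nat_lit 266) (.node (nat_lit 261) (.node (nat_lit 259) (.node (nat_lit 258) (.leaf ((nat_lit 12), [])) (.leaf ((nat_lit 36), [nat_lit 3, nat_lit 0, nat_lit 3]))) (.node (nat_lit 260) (.leaf ((nat_lit 37), [nat_lit 1, nat_lit 0, nat_lit 1])) (.leaf ((nat_lit 13), []))))
 (.node (nat_lit 263) (.node (nat_lit 262) (.leaf ((nat_lit 62), [nat_lit 1])) (.leaf ((nat_lit 37), [nat_lit 0]))) (.node (nat_lit 264) (.leaf ((nat_lit 79), [])) (.node (nat_lit 265) (.leaf ((nat_lit 37), [nat_lit 3, nat_lit 0, nat_lit 3])) (.leaf ((nat_lit 80), []))))))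
 (.node (nat_lit 270) (.node (nat_lit 268) (.node (nat_lit 267) (.leaf ((nat_lit 50), [nat_lit 1])) (.leaf ((nat_lit 79), []))) (.node (nat_lit 269) (.leaf ((nat_lit 14), [])) (.leaf ((nat_lit 81), []))))
 (.node (nat_lit 272) (.node (nat_lit 271) (.leaf ((nat_lit 13), [])) (.leaf ((nat_lit 82), []))) (.node (nat_lit 273) (.leaf ((nat_lit 83), [])) (.node (nat_lit 274) (.leaf ((nat_lit 51), [nat_lit 1])) (.leaf ((nat_lit 80), []))))))))))
noncomputable def bWd_2 : Tr (ℕ × List ℕ) := (.node (nat_lit 344) (.node (nat_lit 309) (.node (nat_lit 292) (.node (nat_lit 283) (.node (nat_lit 279) (.node (nat_lit 277) (.node (nat_lit 276) (.leaf ((nat_lit 15), [])) (.leaf ((nat_lit 39), [nat_lit 0]))) (.node (nat_lit 278) (.leaf ((nat_lit 83), [])) (.leaf ((nat_lit 84), []))))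
 (.node (nat_lit 281) (.node (nat_lit 280) (.leaf ((nat_lit 13), [])) (.leaf ((nat_lit 52), [nat_lit 1]))) (.node (nat_lit 282) (.leaf ((nat_lit 66), [nat_lit 1])) (.leaf ((nat_lit 85), [])))))
 (.node (nat_lit 287) (.node (nat_lit 285) (.node (nat_lit 284) (.leaf ((nat_lit 14), [])) (.leaf ((nat_lit 16), []))) (.node (nat_lit 286) (.leaf ((nat_lit 86), [])) (.leaf ((nat_lit 87), []))))
 (.node (nat_lit 289) (.node (nat_lit 288) (.leaf ((nat_lit 53), [nat_lit 1])) (.leaf ((nat_lit 67), [nat_lit 1]))) (.node (nat_lit 290) (.leaf ((nat_lit 82), [])) (.node (nat_lit 291) (.leaf ((nat_lit 86), [])) (.leaf ((nat_lit 41), [nat_lit 3, nat_lit 0, nat_lit 3])))))))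
 (.node (nat_lit 300) (.node (nat_lit 296) (.node (nat_lit 294) (.node (nat_lit 293) (.leaf ((nat_lit 14), [])) (.leaf ((nat_lit 88), []))) (.node (nat_lit 295) (.leaf ((nat_lit 54), [nat_lit 1])) (.leaf ((nat_lit 68), [nat_lit 1]))))
 (.node (nat_lit 298) (.node (nat_lit 297) (.leaf ((nat_lit 83), [])) (.leaf ((nat_lit 87), []))) (.node (nat_lit 299) (.leaf ((nat_lit 15), [])) (.leaf ((nat_lit 89), [])))))
 (.node (nat_lit 304) (.node (nat_lit 302) (.node (nat_lit 301) (.leaf ((nat_lit 14), [])) (.leaf ((nat_lit 55), [nat_lit 1]))) (.node (nat_lit 303) (.leaf ((nat_lit 69), [nat_lit 1])) (.leaf ((nat_lit 84), []))))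
 (.node (nat_lit 306) (.node (nat_lit 305) (.leaf ((nat_lit 19), [])) (.leaf ((nat_lit 90), []))) (.node (nat_lit 307) (.leaf ((nat_lit 15), [])) (.node (nat_lit 308) (.leaf ((nat_lit 43), [nat_lit 3, nat_lit 0, nat_lit 3])) (.leaf ((nat_lit 56), []))))))))
 (.node (nat_lit 326) (.node (nat_lit 317) (.node (nat_lit 313) (.node (nat_lit 311) (.node (nat_lit 310) (.leaf ((nat_lit 91), [])) (.leaf ((nat_lit 16), []))) (.node (nat_lit 312) (.leaf ((nat_lit 44), [nat_lit 0])) (.leaf ((nat_lit 85), []))))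
 (.node (nat_lit 315) (.node (nat_lit 314) (.leaf ((nat_lit 92), [])) (.leaf ((nat_lit 91), [nat_lit 3, nat_lit 1, nat_lit 3]))) (.node (nat_lit 316) (.leaf ((nat_lit 57), [])) (.leaf ((nat_lit 75), [])))))
 (.node (nat_lit 321) (.node (nat_lit 319) (.node (nat_lit 318) (.leaf ((nat_lit 92), [])) (.leaf ((nat_lit 17), []))) (.node (nat_lit 320) (.leaf ((nat_lit 93), [])) (.leaf ((nat_lit 16), []))))
 (.node (nat_lit 323) (.node (nat_lit 322) (.leaf ((nat_lit 94), [])) (.leaf ((nat_lit 58), []))) (.node (nat_lit 324) (.leaf ((nat_lit 74), [nat_lit 3, nat_lit 1, nat_lit 3])) (.node (nat_lit 325) (.leaf ((nat_lit 91), [nat_lit 3, nat_lit 1, nat_lit 3])) (.leaf ((nat_lit 18), [])))))))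
 (.node (nat_lit 335) (.node (nat_lit 330) (.node (nat_lit 328) (.node (nat_lit 327) (.leaf ((nat_lit 87), [])) (.leaf ((nat_lit 95), []))) (.node (nat_lit 329) (.leaf ((nat_lit 16), [])) (.leaf ((nat_lit 59), []))))
 (.node (nat_lit 332) (.node (nat_lit 331) (.leaf ((nat_lit 76), [])) (.leaf ((nat_lit 47), [nat_lit 0]))) (.node (nat_lit 333) (.leaf ((nat_lit 94), [])) (.node (nat_lit 334) (.leaf ((nat_lit 47), [nat_lit 3, nat_lit 0, nat_lit 3])) (.leaf ((nat_lit 96), []))))))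
 (.node (nat_lit 339) (.node (nat_lit 337) (.node (nat_lit 336) (.leaf ((nat_lit 17), [])) (.leaf ((nat_lit 60), []))) (.node (nat_lit 338) (.leaf ((nat_lit 77), [])) (.leaf ((nat_lit 48), [nat_lit 0]))))
 (.node (nat_lit 341) (.node (nat_lit 340) (.leaf ((nat_lit 95), [])) (.leaf ((nat_lit 97), []))) (.node (nat_lit 342) (.leaf ((nat_lit 18), [])) (.node (nat_lit 343) (.leaf ((nat_lit 96), [])) (.leaf ((nat_lit 61), [])))))))))
 (.node (nat_lit 378) (.node (nat_lit 361) (.node (nat_lit 352) (.node (nat_lit 348) (.node (nat_lit 346) (.node (nat_lit 345) (.leaf ((nat_lit 78), [])) (.leaf ((nat_lit 49), [nat_lit 0]))) (.node (nat_lit 347) (.leaf ((nat_lit 98), [])) (.leaf ((nat_lit 19), []))))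
 (.node (nat_lit 350) (.node (nat_lit 349) (.leaf ((nat_lit 97), [])) (.leaf ((nat_lit 49), [nat_lit 3, nat_lit 0, nat_lit 3]))) (.node (nat_lit 351) (.leaf ((nat_lit 38), [nat_lit 1])) (.leaf ((nat_lit 50), [nat_lit 0])))))
 (.node (nat_lit 356) (.node (nat_lit 354) (.node (nat_lit 353) (.leaf ((nat_lit 21), [])) (.leaf ((nat_lit 99), []))) (.node (nat_lit 355) (.leaf ((nat_lit 20), [])) (.leaf ((nat_lit 100), []))))
 (.node (nat_lit 358) (.node (nat_lit 357) (.leaf ((nat_lit 101), [])) (.leaf ((nat_lit 39), [nat_lit 1]))) (.node (nat_lit 359) (.leaf ((nat_lit 51), [nat_lit 0])) (.node (nat_lit 360) (.leaf ((nat_lit 22), [])) (.leaf ((nat_lit 51), [nat_lit 1, nat_lit 0, nat_lit 1])))))))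
 (.node (nat_lit 369) (.node (nat_lit 365) (.node (nat_lit 363) (.node (nat_lit 362) (.leaf ((nat_lit 101), [])) (.leaf ((nat_lit 102), []))) (.node (nat_lit 364) (.leaf ((nat_lit 20), [])) (.leaf ((nat_lit 40), [nat_lit 1]))))
 (.node (nat_lit 367) (.node (nat_lit 366) (.leaf ((nat_lit 23), [])) (.leaf ((nat_lit 103), []))) (.node (nat_lit 368) (.leaf ((nat_lit 21), [])) (.leaf ((nat_lit 23), [nat_lit 1])))))
 (.node (nat_lit 373) (.node (nat_lit 371) (.node (nat_lit 370) (.leaf ((nat_lit 104), [])) (.leaf ((nat_lit 105), []))) (.node (nat_lit 372) (.leaf ((nat_lit 41), [nat_lit 1])) (.leaf ((nat_lit 24), []))))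
 (.node (nat_lit 375) (.node (nat_lit 374) (.leaf ((nat_lit 100), [])) (.leaf ((nat_lit 104), []))) (.node (nat_lit 376) (.leaf ((nat_lit 53), [nat_lit 3, nat_lit 0, nat_lit 3])) (.node (nat_lit 377) (.leaf ((nat_lit 21), [])) (.leaf ((nat_lit 106), []))))))))
 (.node (nat_lit 395) (.node (nat_lit 386) (.node (nat_lit 382) (.node (nat_lit 380) (.node (nat_lit 379) (.leaf ((nat_lit 42), [nat_lit 1])) (.leaf ((nat_lit 25), []))) (.node (nat_lit 381) (.leaf ((nat_lit 101), [])) (.leaf ((nat_lit 105), []))))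
 (.node (nat_lit 384) (.node (nat_lit 383) (.leaf ((nat_lit 22), [])) (.leaf ((nat_lit 107), []))) (.node (nat_lit 385) (.leaf ((nat_lit 21), [])) (.leaf ((nat_lit 43), [nat_lit 1])))))
 (.node (nat_lit 390) (.node (nat_lit 388) (.node (nat_lit 387) (.leaf ((nat_lit 26), [])) (.leaf ((nat_lit 102), []))) (.node (nat_lit 389) (.leaf ((nat_lit 26), [nat_lit 1])) (.leaf ((nat_lit 108), []))))
 (.node (nat_lit 392) (.node (nat_lit 391) (.leaf ((nat_lit 22), [])) (.leaf ((nat_lit 55), [nat_lit 3, nat_lit 0, nat_lit 3]))) (.node (nat_lit 393) (.leaf ((nat_lit 44), [])) (.node (nat_lit 394) (.leaf ((nat_lit 109), [])) (.leaf ((nat_lit 23), [])))))))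
 (.node (nat_lit 404) (.node (nat_lit 399) (.node (nat_lit 397) (.node (nat_lit 396) (.leaf ((nat_lit 56), [nat_lit 0])) (.leaf ((nat_lit 103), [nat_lit 1]))) (.node (nat_lit 398) (.leaf ((nat_lit 110), [])) (.leaf ((nat_lit 111), []))))
 (.node (nat_lit 401) (.node (nat_lit 400) (.leaf ((nat_lit 45), [])) (.leaf ((nat_lit 104), []))) (.node (nat_lit 402) (.leaf ((nat_lit 110), [])) (.node (nat_lit 403) (.leaf ((nat_lit 24), [])) (.leaf ((nat_lit 112), []))))))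
 (.node (nat_lit 408) (.node (nat_lit 406) (.node (nat_lit 405) (.leaf ((nat_lit 23), [])) (.leaf ((nat_lit 113), []))) (.node (nat_lit 407) (.leaf ((nat_lit 46), [])) (.leaf ((nat_lit 105), []))))
 (.node (nat_lit 410) (.node (nat_lit 409) (.leaf ((nat_lit 111), [])) (.leaf ((nat_lit 25), []))) (.node (nat_lit 411) (.leaf ((nat_lit 105), [nat_lit 1])) (.node (nat_lit 412) (.leaf ((nat_lit 114), [])) (.leaf ((nat_lit 23), []))))))))))
noncomputable def bWd_3 : Tr (ℕ × List ℕ) := (.node (nat_lit 482) (.node (nat_lit 447) (.node (nat_lit 430) (.node (nat_lit 421) (.node (nat_lit 417) (.node (nat_lit 415) (.node (nat_lit 414) (.leaf ((nat_lit 47), [])) (.leaf ((nat_lit 106), []))) (.node (nat_lit 416) (.leaf ((nat_lit 59), [nat_lit 0])) (.leaf ((nat_lit 113), []))))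
 (.node (nat_lit 419) (.node (nat_lit 418) (.leaf ((nat_lit 59), [nat_lit 3, nat_lit 0, nat_lit 3])) (.leaf ((nat_lit 115), []))) (.node (nat_lit 420) (.leaf ((nat_lit 24), [])) (.leaf ((nat_lit 48), [])))))
 (.node (nat_lit 425) (.node (nat_lit 423) (.node (nat_lit 422) (.leaf ((nat_lit 107), [])) (.leaf ((nat_lit 60), [nat_lit 0]))) (.node (nat_lit 424) (.leaf ((nat_lit 114), [])) (.leaf ((nat_lit 116), []))))
 (.node (nat_lit 427) (.node (nat_lit 426) (.leaf ((nat_lit 25), [])) (.leaf ((nat_lit 115), []))) (.node (nat_lit 428) (.leaf ((nat_lit 49), [])) (.node (nat_lit 429) (.leaf ((nat_lit 108), [])) (.leaf ((nat_lit 61), [nat_lit 0])))))))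
 (.node (nat_lit 438) (.node (nat_lit 434) (.node (nat_lit 432) (.node (nat_lit 431) (.leaf ((nat_lit 117), [])) (.leaf ((nat_lit 26), []))) (.node (nat_lit 433) (.leaf ((nat_lit 116), [])) (.leaf ((nat_lit 61), [nat_lit 3, nat_lit 0, nat_lit 3]))))
 (.node (nat_lit 436) (.node (nat_lit 435) (.leaf ((nat_lit 62), [nat_lit 0])) (.leaf ((nat_lit 27), []))) (.node (nat_lit 437) (.leaf ((nat_lit 37), [nat_lit 1])) (.leaf ((nat_lit 118), [])))))
 (.node (nat_lit 442) (.node (nat_lit 440) (.node (nat_lit 439) (.leaf ((nat_lit 119), [])) (.leaf ((nat_lit 62), [nat_lit 3, nat_lit 0, nat_lit 3]))) (.node (nat_lit 441) (.leaf ((nat_lit 120), [])) (.leaf ((nat_lit 30), []))))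
 (.node (nat_lit 444) (.node (nat_lit 443) (.leaf ((nat_lit 118), [])) (.leaf ((nat_lit 30), [nat_lit 1]))) (.node (nat_lit 445) (.leaf ((nat_lit 27), [])) (.node (nat_lit 446) (.leaf ((nat_lit 121), [])) (.leaf ((nat_lit 63), [nat_lit 3, nat_lit 0, nat_lit 3]))))))))
 (.node (nat_lit 464) (.node (nat_lit 455) (.node (nat_lit 451) (.node (nat_lit 449) (.node (nat_lit 448) (.leaf ((nat_lit 121), [nat_lit 3, nat_lit 1, nat_lit 3])) (.leaf ((nat_lit 31), []))) (.node (nat_lit 450) (.leaf ((nat_lit 119), [])) (.leaf ((nat_lit 28), []))))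
 (.node (nat_lit 453) (.node (nat_lit 452) (.leaf ((nat_lit 122), [])) (.leaf ((nat_lit 27), []))) (.node (nat_lit 454) (.leaf ((nat_lit 123), [])) (.leaf ((nat_lit 122), [nat_lit 3, nat_lit 1, nat_lit 3])))))
 (.node (nat_lit 459) (.node (nat_lit 457) (.node (nat_lit 456) (.leaf ((nat_lit 32), [])) (.leaf ((nat_lit 120), []))) (.node (nat_lit 458) (.leaf ((nat_lit 29), [])) (.leaf ((nat_lit 121), [nat_lit 3, nat_lit 1, nat_lit 3]))))
 (.node (nat_lit 461) (.node (nat_lit 460) (.leaf ((nat_lit 122), [nat_lit 3, nat_lit 1, nat_lit 3])) (.leaf ((nat_lit 124), []))) (.node (nat_lit 462) (.leaf ((nat_lit 27), [])) (.node (nat_lit 463) (.leaf ((nat_lit 33), [])) (.leaf ((nat_lit 40), [nat_lit 1])))))))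
 (.node (nat_lit 473) (.node (nat_lit 468) (.node (nat_lit 466) (.node (nat_lit 465) (.leaf ((nat_lit 125), [])) (.leaf ((nat_lit 28), []))) (.node (nat_lit 467) (.leaf ((nat_lit 33), [nat_lit 1])) (.leaf ((nat_lit 126), []))))
 (.node (nat_lit 470) (.node (nat_lit 469) (.leaf ((nat_lit 125), [nat_lit 3, nat_lit 1, nat_lit 3])) (.leaf ((nat_lit 34), []))) (.node (nat_lit 471) (.leaf ((nat_lit 41), [nat_lit 1])) (.node (nat_lit 472) (.leaf ((nat_lit 123), [])) (.leaf ((nat_lit 126), []))))))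
 (.node (nat_lit 477) (.node (nat_lit 475) (.node (nat_lit 474) (.leaf ((nat_lit 67), [nat_lit 3, nat_lit 0, nat_lit 3])) (.leaf ((nat_lit 28), []))) (.node (nat_lit 476) (.leaf ((nat_lit 127), [])) (.leaf ((nat_lit 35), []))))
 (.node (nat_lit 479) (.node (nat_lit 478) (.leaf ((nat_lit 42), [nat_lit 1])) (.leaf ((nat_lit 122), [nat_lit 3, nat_lit 1, nat_lit 3]))) (.node (nat_lit 480) (.leaf ((nat_lit 125), [nat_lit 3, nat_lit 1, nat_lit 3])) (.node (nat_lit 481) (.leaf ((nat_lit 29), [])) (.leaf ((nat_lit 128), [])))))))))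
 (.node (nat_lit 516) (.node (nat_lit 499) (.node (nat_lit 490) (.node (nat_lit 486) (.node (nat_lit 484) (.node (nat_lit 483) (.leaf ((nat_lit 28), [])) (.leaf ((nat_lit 36), []))) (.node (nat_lit 485) (.leaf ((nat_lit 43), [nat_lit 1])) (.leaf ((nat_lit 124), []))))
 (.node (nat_lit 488) (.node (nat_lit 487) (.leaf ((nat_lit 36), [nat_lit 1])) (.leaf ((nat_lit 129), []))) (.node (nat_lit 489) (.leaf ((nat_lit 29), [])) (.leaf ((nat_lit 69), [nat_lit 3, nat_lit 0, nat_lit 3])))))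
 (.node (nat_lit 494) (.node (nat_lit 492) (.node (nat_lit 491) (.leaf ((nat_lit 121), [])) (.leaf ((nat_lit 70), [nat_lit 0]))) (.node (nat_lit 493) (.leaf ((nat_lit 121), [nat_lit 1])) (.leaf ((nat_lit 32), [nat_lit 3, nat_lit 1, nat_lit 3]))))
 (.node (nat_lit 496) (.node (nat_lit 495) (.leaf ((nat_lit 30), [])) (.leaf ((nat_lit 130), []))) (.node (nat_lit 497) (.leaf ((nat_lit 30), [nat_lit 3, nat_lit 1, nat_lit 3])) (.node (nat_lit 498) (.leaf ((nat_lit 122), [])) (.leaf ((nat_lit 71), [nat_lit 0])))))))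
 (.node (nat_lit 507) (.node (nat_lit 503) (.node (nat_lit 501) (.node (nat_lit 500) (.leaf ((nat_lit 35), [nat_lit 3, nat_lit 1, nat_lit 3])) (.leaf ((nat_lit 31), []))) (.node (nat_lit 502) (.leaf ((nat_lit 32), [nat_lit 3, nat_lit 1, nat_lit 3])) (.leaf ((nat_lit 131), []))))
 (.node (nat_lit 505) (.node (nat_lit 504) (.leaf ((nat_lit 31), [nat_lit 3, nat_lit 1, nat_lit 3])) (.leaf ((nat_lit 123), []))) (.node (nat_lit 506) (.leaf ((nat_lit 72), [nat_lit 0])) (.leaf ((nat_lit 34), [])))))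
 (.node (nat_lit 511) (.node (nat_lit 509) (.node (nat_lit 508) (.leaf ((nat_lit 131), [])) (.leaf ((nat_lit 72), [nat_lit 3, nat_lit 0, nat_lit 3]))) (.node (nat_lit 510) (.leaf ((nat_lit 31), [])) (.leaf ((nat_lit 132), []))))
 (.node (nat_lit 513) (.node (nat_lit 512) (.leaf ((nat_lit 124), [])) (.leaf ((nat_lit 73), [nat_lit 0]))) (.node (nat_lit 514) (.leaf ((nat_lit 36), [])) (.node (nat_lit 515) (.leaf ((nat_lit 130), [nat_lit 3, nat_lit 1, nat_lit 3])) (.leaf ((nat_lit 133), []))))))))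
 (.node (nat_lit 533) (.node (nat_lit 524) (.node (nat_lit 520) (.node (nat_lit 518) (.node (nat_lit 517) (.leaf ((nat_lit 32), [])) (.leaf ((nat_lit 73), [nat_lit 3, nat_lit 0, nat_lit 3]))) (.node (nat_lit 519) (.leaf ((nat_lit 125), [])) (.leaf ((nat_lit 46), [nat_lit 3, nat_lit 1, nat_lit 3]))))
 (.node (nat_lit 522) (.node (nat_lit 521) (.leaf ((nat_lit 33), [])) (.leaf ((nat_lit 35), [nat_lit 3, nat_lit 1, nat_lit 3]))) (.node (nat_lit 523) (.leaf ((nat_lit 125), [nat_lit 1])) (.leaf ((nat_lit 134), [])))))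
 (.node (nat_lit 528) (.node (nat_lit 526) (.node (nat_lit 525) (.leaf ((nat_lit 33), [nat_lit 3, nat_lit 1, nat_lit 3])) (.leaf ((nat_lit 126), []))) (.node (nat_lit 527) (.leaf ((nat_lit 45), [])) (.leaf ((nat_lit 134), []))))
 (.node (nat_lit 530) (.node (nat_lit 529) (.leaf ((nat_lit 34), [])) (.leaf ((nat_lit 135), []))) (.node (nat_lit 531) (.leaf ((nat_lit 33), [])) (.node (nat_lit 532) (.leaf ((nat_lit 136), [])) (.leaf ((nat_lit 127), [])))))))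
 (.node (nat_lit 542) (.node (nat_lit 537) (.node (nat_lit 535) (.node (nat_lit 534) (.leaf ((nat_lit 47), [])) (.leaf ((nat_lit 132), []))) (.node (nat_lit 536) (.leaf ((nat_lit 136), [])) (.leaf ((nat_lit 76), [nat_lit 3, nat_lit 0, nat_lit 3]))))
 (.node (nat_lit 539) (.node (nat_lit 538) (.leaf ((nat_lit 137), [])) (.leaf ((nat_lit 34), []))) (.node (nat_lit 540) (.leaf ((nat_lit 128), [])) (.node (nat_lit 541) (.leaf ((nat_lit 48), [])) (.leaf ((nat_lit 131), [nat_lit 3, nat_lit 1, nat_lit 3]))))))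
 (.node (nat_lit 546) (.node (nat_lit 544) (.node (nat_lit 543) (.leaf ((nat_lit 134), [nat_lit 3, nat_lit 1, nat_lit 3])) (.leaf ((nat_lit 138), []))) (.node (nat_lit 545) (.leaf ((nat_lit 35), [])) (.leaf ((nat_lit 137), []))))
 (.node (nat_lit 548) (.node (nat_lit 547) (.leaf ((nat_lit 129), [])) (.leaf ((nat_lit 49), []))) (.node (nat_lit 549) (.leaf ((nat_lit 133), [])) (.node (nat_lit 550) (.leaf ((nat_lit 139), [])) (.leaf ((nat_lit 36), []))))))))))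
noncomputable def bWd_4 : Tr (ℕ × List ℕ) := (.node (nat_lit 619) (.node (nat_lit 585) (.node (nat_lit 568) (.node (nat_lit 559) (.node (nat_lit 555) (.node (nat_lit 553) (.node (nat_lit 552) (.leaf ((nat_lit 138), [])) (.leaf ((nat_lit 78), [nat_lit 3, nat_lit 0, nat_lit 3]))) (.node (nat_lit 554) (.leaf ((nat_lit 79), [nat_lit 1, nat_lit 0, nat_lit 1])) (.leaf ((nat_lit 38), []))))
 (.node (nat_lit 557) (.node (nat_lit 556) (.leaf ((nat_lit 119), [nat_lit 1])) (.leaf ((nat_lit 140), []))) (.node (nat_lit 558) (.leaf ((nat_lit 37), [])) (.leaf ((nat_lit 141), [])))))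
 (.node (nat_lit 563) (.node (nat_lit 561) (.node (nat_lit 560) (.leaf ((nat_lit 142), [])) (.leaf ((nat_lit 80), [nat_lit 1, nat_lit 0, nat_lit 1]))) (.node (nat_lit 562) (.leaf ((nat_lit 39), [])) (.leaf ((nat_lit 120), [nat_lit 1]))))
 (.node (nat_lit 565) (.node (nat_lit 564) (.leaf ((nat_lit 80), [nat_lit 0])) (.leaf ((nat_lit 142), []))) (.node (nat_lit 566) (.leaf ((nat_lit 143), [])) (.node (nat_lit 567) (.leaf ((nat_lit 37), [])) (.leaf ((nat_lit 99), [nat_lit 1])))))))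
 (.node (nat_lit 576) (.node (nat_lit 572) (.node (nat_lit 570) (.node (nat_lit 569) (.leaf ((nat_lit 140), [])) (.leaf ((nat_lit 144), []))) (.node (nat_lit 571) (.leaf ((nat_lit 38), [])) (.leaf ((nat_lit 81), [nat_lit 0]))))
 (.node (nat_lit 574) (.node (nat_lit 573) (.leaf ((nat_lit 145), [])) (.leaf ((nat_lit 146), []))) (.node (nat_lit 575) (.leaf ((nat_lit 100), [nat_lit 1])) (.leaf ((nat_lit 141), [])))))
 (.node (nat_lit 580) (.node (nat_lit 578) (.node (nat_lit 577) (.leaf ((nat_lit 41), [])) (.leaf ((nat_lit 145), []))) (.node (nat_lit 579) (.leaf ((nat_lit 82), [nat_lit 3, nat_lit 0, nat_lit 3])) (.leaf ((nat_lit 38), []))))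
 (.node (nat_lit 582) (.node (nat_lit 581) (.leaf ((nat_lit 147), [])) (.leaf ((nat_lit 101), [nat_lit 1]))) (.node (nat_lit 583) (.leaf ((nat_lit 142), [])) (.node (nat_lit 584) (.leaf ((nat_lit 42), [])) (.leaf ((nat_lit 146), []))))))))
 (.node (nat_lit 602) (.node (nat_lit 593) (.node (nat_lit 589) (.node (nat_lit 587) (.node (nat_lit 586) (.leaf ((nat_lit 39), [])) (.leaf ((nat_lit 148), []))) (.node (nat_lit 588) (.leaf ((nat_lit 38), [])) (.leaf ((nat_lit 102), [nat_lit 1]))))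
 (.node (nat_lit 591) (.node (nat_lit 590) (.leaf ((nat_lit 143), [])) (.leaf ((nat_lit 43), []))) (.node (nat_lit 592) (.leaf ((nat_lit 84), [nat_lit 0])) (.leaf ((nat_lit 149), [])))))
 (.node (nat_lit 597) (.node (nat_lit 595) (.node (nat_lit 594) (.leaf ((nat_lit 39), [])) (.leaf ((nat_lit 84), [nat_lit 3, nat_lit 0, nat_lit 3]))) (.node (nat_lit 596) (.leaf ((nat_lit 103), [nat_lit 1])) (.leaf ((nat_lit 150), []))))
 (.node (nat_lit 599) (.node (nat_lit 598) (.leaf ((nat_lit 40), [])) (.leaf ((nat_lit 144), []))) (.node (nat_lit 600) (.leaf ((nat_lit 44), [])) (.node (nat_lit 601) (.leaf ((nat_lit 151), [])) (.leaf ((nat_lit 150), [nat_lit 3, nat_lit 1, nat_lit 3])))))))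
 (.node (nat_lit 610) (.node (nat_lit 606) (.node (nat_lit 604) (.node (nat_lit 603) (.leaf ((nat_lit 104), [nat_lit 1])) (.leaf ((nat_lit 126), [nat_lit 1]))) (.node (nat_lit 605) (.leaf ((nat_lit 151), [])) (.leaf ((nat_lit 41), []))))
 (.node (nat_lit 608) (.node (nat_lit 607) (.leaf ((nat_lit 152), [])) (.leaf ((nat_lit 40), []))) (.node (nat_lit 609) (.leaf ((nat_lit 153), [])) (.leaf ((nat_lit 105), [nat_lit 1])))))
 (.node (nat_lit 614) (.node (nat_lit 612) (.node (nat_lit 611) (.leaf ((nat_lit 125), [nat_lit 3, nat_lit 1, nat_lit 3, nat_lit 1])) (.leaf ((nat_lit 150), [nat_lit 3, nat_lit 1, nat_lit 3]))) (.node (nat_lit 613) (.leaf ((nat_lit 42), [])) (.leaf ((nat_lit 46), []))))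
 (.node (nat_lit 616) (.node (nat_lit 615) (.leaf ((nat_lit 154), [])) (.leaf ((nat_lit 40), []))) (.node (nat_lit 617) (.leaf ((nat_lit 106), [nat_lit 1])) (.node (nat_lit 618) (.leaf ((nat_lit 127), [nat_lit 1])) (.leaf ((nat_lit 147), [])))))))))
 (.node (nat_lit 653) (.node (nat_lit 636) (.node (nat_lit 627) (.node (nat_lit 623) (.node (nat_lit 621) (.node (nat_lit 620) (.leaf ((nat_lit 153), [])) (.leaf ((nat_lit 88), [nat_lit 3, nat_lit 0, nat_lit 3]))) (.node (nat_lit 622) (.leaf ((nat_lit 155), [])) (.leaf ((nat_lit 41), []))))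
 (.node (nat_lit 625) (.node (nat_lit 624) (.leaf ((nat_lit 107), [nat_lit 1])) (.leaf ((nat_lit 128), [nat_lit 1]))) (.node (nat_lit 626) (.leaf ((nat_lit 148), [])) (.leaf ((nat_lit 154), [])))))
 (.node (nat_lit 631) (.node (nat_lit 629) (.node (nat_lit 628) (.leaf ((nat_lit 156), [])) (.leaf ((nat_lit 42), []))) (.node (nat_lit 630) (.leaf ((nat_lit 155), [])) (.leaf ((nat_lit 108), [nat_lit 1]))))
 (.node (nat_lit 633) (.node (nat_lit 632) (.leaf ((nat_lit 129), [nat_lit 1])) (.leaf ((nat_lit 149), []))) (.node (nat_lit 634) (.leaf ((nat_lit 157), [])) (.node (nat_lit 635) (.leaf ((nat_lit 43), [])) (.leaf ((nat_lit 156), [])))))))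
 (.node (nat_lit 644) (.node (nat_lit 640) (.node (nat_lit 638) (.node (nat_lit 637) (.leaf ((nat_lit 90), [nat_lit 3, nat_lit 0, nat_lit 3])) (.leaf ((nat_lit 111), [nat_lit 3, nat_lit 1, nat_lit 3]))) (.node (nat_lit 639) (.leaf ((nat_lit 44), [])) (.leaf ((nat_lit 46), [nat_lit 3, nat_lit 1, nat_lit 3]))))
 (.node (nat_lit 642) (.node (nat_lit 641) (.leaf ((nat_lit 91), [nat_lit 0])) (.leaf ((nat_lit 150), []))) (.node (nat_lit 643) (.leaf ((nat_lit 158), [])) (.leaf ((nat_lit 44), [nat_lit 3, nat_lit 1, nat_lit 3])))))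
 (.node (nat_lit 648) (.node (nat_lit 646) (.node (nat_lit 645) (.leaf ((nat_lit 110), [])) (.leaf ((nat_lit 158), []))) (.node (nat_lit 647) (.leaf ((nat_lit 45), [])) (.leaf ((nat_lit 92), [nat_lit 0]))))
 (.node (nat_lit 650) (.node (nat_lit 649) (.leaf ((nat_lit 113), [nat_lit 3])) (.leaf ((nat_lit 44), []))) (.node (nat_lit 651) (.leaf ((nat_lit 112), [nat_lit 3])) (.node (nat_lit 652) (.leaf ((nat_lit 112), [])) (.leaf ((nat_lit 135), []))))))))
 (.node (nat_lit 670) (.node (nat_lit 661) (.node (nat_lit 657) (.node (nat_lit 655) (.node (nat_lit 654) (.leaf ((nat_lit 113), [nat_lit 3])) (.leaf ((nat_lit 93), [nat_lit 3, nat_lit 0, nat_lit 3]))) (.node (nat_lit 656) (.leaf ((nat_lit 45), [])) (.leaf ((nat_lit 152), []))))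
 (.node (nat_lit 659) (.node (nat_lit 658) (.leaf ((nat_lit 110), [nat_lit 3])) (.leaf ((nat_lit 113), []))) (.node (nat_lit 660) (.leaf ((nat_lit 136), [])) (.leaf ((nat_lit 112), [nat_lit 3])))))
 (.node (nat_lit 665) (.node (nat_lit 663) (.node (nat_lit 662) (.leaf ((nat_lit 47), [])) (.leaf ((nat_lit 110), [nat_lit 3]))) (.node (nat_lit 664) (.leaf ((nat_lit 159), [])) (.leaf ((nat_lit 45), []))))
 (.node (nat_lit 667) (.node (nat_lit 666) (.leaf ((nat_lit 114), [])) (.leaf ((nat_lit 134), [nat_lit 3, nat_lit 1, nat_lit 3]))) (.node (nat_lit 668) (.leaf ((nat_lit 158), [nat_lit 3, nat_lit 1, nat_lit 3])) (.node (nat_lit 669) (.leaf ((nat_lit 48), [])) (.leaf ((nat_lit 160), [])))))))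
 (.node (nat_lit 679) (.node (nat_lit 674) (.node (nat_lit 672) (.node (nat_lit 671) (.leaf ((nat_lit 46), [])) (.leaf ((nat_lit 159), []))) (.node (nat_lit 673) (.leaf ((nat_lit 115), [])) (.leaf ((nat_lit 137), []))))
 (.node (nat_lit 676) (.node (nat_lit 675) (.leaf ((nat_lit 96), [nat_lit 0])) (.leaf ((nat_lit 159), []))) (.node (nat_lit 677) (.leaf ((nat_lit 161), [])) (.node (nat_lit 678) (.leaf ((nat_lit 47), [])) (.leaf ((nat_lit 48), []))))))
 (.node (nat_lit 683) (.node (nat_lit 681) (.node (nat_lit 680) (.leaf ((nat_lit 116), [])) (.leaf ((nat_lit 138), []))) (.node (nat_lit 682) (.leaf ((nat_lit 97), [nat_lit 0])) (.leaf ((nat_lit 162), []))))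
 (.node (nat_lit 685) (.node (nat_lit 684) (.leaf ((nat_lit 48), [])) (.leaf ((nat_lit 49), []))) (.node (nat_lit 686) (.leaf ((nat_lit 161), [])) (.node (nat_lit 687) (.leaf ((nat_lit 117), [])) (.leaf ((nat_lit 139), []))))))))))
noncomputable def bWd_5 : Tr (ℕ × List ℕ) := (.node (nat_lit 757) (.node (nat_lit 722) (.node (nat_lit 705) (.node (nat_lit 696) (.node (nat_lit 692) (.node (nat_lit 690) (.node (nat_lit 689) (.leaf ((nat_lit 163), [])) (.leaf ((nat_lit 49), []))) (.node (nat_lit 691) (.leaf ((nat_lit 157), [])) (.leaf ((nat_lit 162), []))))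
 (.node (nat_lit 694) (.node (nat_lit 693) (.leaf ((nat_lit 98), [nat_lit 3, nat_lit 0, nat_lit 3])) (.leaf ((nat_lit 81), [nat_lit 1]))) (.node (nat_lit 695) (.leaf ((nat_lit 99), [nat_lit 0])) (.leaf ((nat_lit 164), [])))))
 (.node (nat_lit 700) (.node (nat_lit 698) (.node (nat_lit 697) (.leaf ((nat_lit 50), [])) (.leaf ((nat_lit 99), [nat_lit 1, nat_lit 0, nat_lit 1]))) (.node (nat_lit 699) (.leaf ((nat_lit 165), [])) (.leaf ((nat_lit 166), []))))
 (.node (nat_lit 702) (.node (nat_lit 701) (.leaf ((nat_lit 82), [nat_lit 1])) (.leaf ((nat_lit 100), [nat_lit 0]))) (.node (nat_lit 703) (.leaf ((nat_lit 53), [])) (.node (nat_lit 704) (.leaf ((nat_lit 165), [])) (.leaf ((nat_lit 100), [nat_lit 3, nat_lit 0, nat_lit 3])))))))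
 (.node (nat_lit 713) (.node (nat_lit 709) (.node (nat_lit 707) (.node (nat_lit 706) (.leaf ((nat_lit 50), [])) (.leaf ((nat_lit 167), []))) (.node (nat_lit 708) (.leaf ((nat_lit 83), [nat_lit 1])) (.leaf ((nat_lit 101), [nat_lit 0]))))
 (.node (nat_lit 711) (.node (nat_lit 710) (.leaf ((nat_lit 54), [])) (.leaf ((nat_lit 166), []))) (.node (nat_lit 712) (.leaf ((nat_lit 51), [])) (.leaf ((nat_lit 168), [])))))
 (.node (nat_lit 717) (.node (nat_lit 715) (.node (nat_lit 714) (.leaf ((nat_lit 50), [])) (.leaf ((nat_lit 84), [nat_lit 1]))) (.node (nat_lit 716) (.leaf ((nat_lit 102), [nat_lit 0])) (.leaf ((nat_lit 55), []))))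
 (.node (nat_lit 719) (.node (nat_lit 718) (.leaf ((nat_lit 102), [nat_lit 1, nat_lit 0, nat_lit 1])) (.leaf ((nat_lit 169), []))) (.node (nat_lit 720) (.leaf ((nat_lit 51), [])) (.node (nat_lit 721) (.leaf ((nat_lit 102), [nat_lit 3, nat_lit 0, nat_lit 3])) (.leaf ((nat_lit 85), [nat_lit 1]))))))))
 (.node (nat_lit 739) (.node (nat_lit 730) (.node (nat_lit 726) (.node (nat_lit 724) (.node (nat_lit 723) (.leaf ((nat_lit 170), [])) (.leaf ((nat_lit 52), []))) (.node (nat_lit 725) (.leaf ((nat_lit 164), [])) (.leaf ((nat_lit 56), [nat_lit 1]))))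
 (.node (nat_lit 728) (.node (nat_lit 727) (.leaf ((nat_lit 171), [])) (.leaf ((nat_lit 172), []))) (.node (nat_lit 729) (.leaf ((nat_lit 86), [nat_lit 1])) (.leaf ((nat_lit 57), [])))))
 (.node (nat_lit 734) (.node (nat_lit 732) (.node (nat_lit 731) (.leaf ((nat_lit 171), [])) (.leaf ((nat_lit 53), []))) (.node (nat_lit 733) (.leaf ((nat_lit 173), [])) (.leaf ((nat_lit 52), []))))
 (.node (nat_lit 736) (.node (nat_lit 735) (.leaf ((nat_lit 174), [])) (.leaf ((nat_lit 87), [nat_lit 1]))) (.node (nat_lit 737) (.leaf ((nat_lit 58), [])) (.node (nat_lit 738) (.leaf ((nat_lit 172), [])) (.leaf ((nat_lit 54), [])))))))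
 (.node (nat_lit 748) (.node (nat_lit 743) (.node (nat_lit 741) (.node (nat_lit 740) (.leaf ((nat_lit 58), [nat_lit 1])) (.leaf ((nat_lit 175), []))) (.node (nat_lit 742) (.leaf ((nat_lit 52), [])) (.leaf ((nat_lit 88), [nat_lit 1]))))
 (.node (nat_lit 745) (.node (nat_lit 744) (.leaf ((nat_lit 59), [])) (.leaf ((nat_lit 167), []))) (.node (nat_lit 746) (.leaf ((nat_lit 174), [])) (.node (nat_lit 747) (.leaf ((nat_lit 106), [nat_lit 3, nat_lit 0, nat_lit 3])) (.leaf ((nat_lit 176), []))))))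
 (.node (nat_lit 752) (.node (nat_lit 750) (.node (nat_lit 749) (.leaf ((nat_lit 53), [])) (.leaf ((nat_lit 89), [nat_lit 1]))) (.node (nat_lit 751) (.leaf ((nat_lit 60), [])) (.leaf ((nat_lit 168), []))))
 (.node (nat_lit 754) (.node (nat_lit 753) (.leaf ((nat_lit 175), [])) (.leaf ((nat_lit 177), []))) (.node (nat_lit 755) (.leaf ((nat_lit 54), [])) (.node (nat_lit 756) (.leaf ((nat_lit 176), [])) (.leaf ((nat_lit 90), [nat_lit 1])))))))))
 (.node (nat_lit 791) (.node (nat_lit 774) (.node (nat_lit 765) (.node (nat_lit 761) (.node (nat_lit 759) (.node (nat_lit 758) (.leaf ((nat_lit 61), [])) (.leaf ((nat_lit 169), []))) (.node (nat_lit 760) (.leaf ((nat_lit 178), [])) (.leaf ((nat_lit 55), []))))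
 (.node (nat_lit 763) (.node (nat_lit 762) (.leaf ((nat_lit 177), [])) (.leaf ((nat_lit 108), [nat_lit 3, nat_lit 0, nat_lit 3]))) (.node (nat_lit 764) (.leaf ((nat_lit 179), [])) (.leaf ((nat_lit 56), [])))))
 (.node (nat_lit 769) (.node (nat_lit 767) (.node (nat_lit 766) (.leaf ((nat_lit 170), [])) (.leaf ((nat_lit 109), [nat_lit 0]))) (.node (nat_lit 768) (.leaf ((nat_lit 170), [nat_lit 1])) (.leaf ((nat_lit 180), []))))
 (.node (nat_lit 771) (.node (nat_lit 770) (.leaf ((nat_lit 179), [nat_lit 3, nat_lit 1, nat_lit 3])) (.leaf ((nat_lit 92), []))) (.node (nat_lit 772) (.leaf ((nat_lit 180), [])) (.node (nat_lit 773) (.leaf ((nat_lit 57), [])) (.leaf ((nat_lit 110), [nat_lit 0])))))))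
 (.node (nat_lit 782) (.node (nat_lit 778) (.node (nat_lit 776) (.node (nat_lit 775) (.leaf ((nat_lit 94), [nat_lit 3])) (.leaf ((nat_lit 56), []))) (.node (nat_lit 777) (.leaf ((nat_lit 93), [nat_lit 3])) (.leaf ((nat_lit 91), [nat_lit 3, nat_lit 1, nat_lit 3]))))
 (.node (nat_lit 780) (.node (nat_lit 779) (.leaf ((nat_lit 179), [nat_lit 3, nat_lit 1, nat_lit 3])) (.leaf ((nat_lit 58), []))) (.node (nat_lit 781) (.leaf ((nat_lit 111), [nat_lit 0])) (.leaf ((nat_lit 172), [nat_lit 1])))))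
 (.node (nat_lit 786) (.node (nat_lit 784) (.node (nat_lit 783) (.leaf ((nat_lit 181), [])) (.leaf ((nat_lit 56), []))) (.node (nat_lit 785) (.leaf ((nat_lit 93), [])) (.leaf ((nat_lit 173), []))))
 (.node (nat_lit 788) (.node (nat_lit 787) (.leaf ((nat_lit 94), [nat_lit 3])) (.leaf ((nat_lit 112), [nat_lit 3, nat_lit 0, nat_lit 3]))) (.node (nat_lit 789) (.leaf ((nat_lit 57), [])) (.node (nat_lit 790) (.leaf ((nat_lit 173), [nat_lit 1])) (.leaf ((nat_lit 92), [nat_lit 3]))))))))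
 (.node (nat_lit 808) (.node (nat_lit 799) (.node (nat_lit 795) (.node (nat_lit 793) (.node (nat_lit 792) (.leaf ((nat_lit 94), [])) (.leaf ((nat_lit 174), []))) (.node (nat_lit 794) (.leaf ((nat_lit 93), [nat_lit 3])) (.leaf ((nat_lit 59), []))))
 (.node (nat_lit 797) (.node (nat_lit 796) (.leaf ((nat_lit 92), [nat_lit 3])) (.leaf ((nat_lit 182), []))) (.node (nat_lit 798) (.leaf ((nat_lit 57), [])) (.leaf ((nat_lit 95), [])))))
 (.node (nat_lit 803) (.node (nat_lit 801) (.node (nat_lit 800) (.leaf ((nat_lit 175), [])) (.leaf ((nat_lit 181), []))) (.node (nat_lit 802) (.leaf ((nat_lit 60), [])) (.leaf ((nat_lit 183), []))))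
 (.node (nat_lit 805) (.node (nat_lit 804) (.leaf ((nat_lit 58), [])) (.leaf ((nat_lit 182), []))) (.node (nat_lit 806) (.leaf ((nat_lit 96), [])) (.node (nat_lit 807) (.leaf ((nat_lit 176), [])) (.leaf ((nat_lit 115), [nat_lit 0])))))))
 (.node (nat_lit 817) (.node (nat_lit 812) (.node (nat_lit 810) (.node (nat_lit 809) (.leaf ((nat_lit 182), [])) (.leaf ((nat_lit 184), []))) (.node (nat_lit 811) (.leaf ((nat_lit 59), [])) (.leaf ((nat_lit 60), []))))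
 (.node (nat_lit 814) (.node (nat_lit 813) (.leaf ((nat_lit 97), [])) (.leaf ((nat_lit 177), []))) (.node (nat_lit 815) (.leaf ((nat_lit 116), [nat_lit 0])) (.node (nat_lit 816) (.leaf ((nat_lit 185), [])) (.leaf ((nat_lit 60), []))))))
 (.node (nat_lit 821) (.node (nat_lit 819) (.node (nat_lit 818) (.leaf ((nat_lit 61), [])) (.leaf ((nat_lit 184), []))) (.node (nat_lit 820) (.leaf ((nat_lit 98), [])) (.leaf ((nat_lit 178), []))))
 (.node (nat_lit 823) (.node (nat_lit 822) (.leaf ((nat_lit 186), [])) (.leaf ((nat_lit 61), []))) (.node (nat_lit 824) (.leaf ((nat_lit 178), [nat_lit 1])) (.node (nat_lit 825) (.leaf ((nat_lit 185), [])) (.leaf ((nat_lit 117), [nat_lit 3, nat_lit 0, nat_lit 3]))))))))))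
noncomputable def bWd_6 : Tr (ℕ × List ℕ) := (.node (nat_lit 895) (.node (nat_lit 860) (.node (nat_lit 843) (.node (nat_lit 834) (.node (nat_lit 830) (.node (nat_lit 828) (.node (nat_lit 827) (.leaf ((nat_lit 118), [nat_lit 0])) (.leaf ((nat_lit 63), []))) (.node (nat_lit 829) (.leaf ((nat_lit 118), [nat_lit 1, nat_lit 0, nat_lit 1])) (.leaf ((nat_lit 62), []))))
 (.node (nat_lit 832) (.node (nat_lit 831) (.leaf ((nat_lit 187), [])) (.leaf ((nat_lit 118), [nat_lit 3, nat_lit 0, nat_lit 3]))) (.node (nat_lit 833) (.leaf ((nat_lit 187), [nat_lit 3, nat_lit 1, nat_lit 3])) (.leaf ((nat_lit 119), [nat_lit 0])))))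
 (.node (nat_lit 838) (.node (nat_lit 836) (.node (nat_lit 835) (.leaf ((nat_lit 64), [])) (.leaf ((nat_lit 79), [nat_lit 1]))) (.node (nat_lit 837) (.leaf ((nat_lit 188), [])) (.leaf ((nat_lit 62), []))))
 (.node (nat_lit 840) (.node (nat_lit 839) (.leaf ((nat_lit 189), [])) (.leaf ((nat_lit 188), [nat_lit 3, nat_lit 1, nat_lit 3]))) (.node (nat_lit 841) (.leaf ((nat_lit 120), [nat_lit 0])) (.node (nat_lit 842) (.leaf ((nat_lit 65), [])) (.leaf ((nat_lit 80), [nat_lit 1])))))))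
 (.node (nat_lit 851) (.node (nat_lit 847) (.node (nat_lit 845) (.node (nat_lit 844) (.leaf ((nat_lit 187), [nat_lit 3, nat_lit 1, nat_lit 3])) (.leaf ((nat_lit 188), [nat_lit 3, nat_lit 1, nat_lit 3]))) (.node (nat_lit 846) (.leaf ((nat_lit 190), [])) (.leaf ((nat_lit 62), []))))
 (.node (nat_lit 849) (.node (nat_lit 848) (.leaf ((nat_lit 70), [])) (.leaf ((nat_lit 187), []))) (.node (nat_lit 850) (.leaf ((nat_lit 70), [nat_lit 1])) (.leaf ((nat_lit 65), [nat_lit 3, nat_lit 1, nat_lit 3])))))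
 (.node (nat_lit 855) (.node (nat_lit 853) (.node (nat_lit 852) (.leaf ((nat_lit 63), [])) (.leaf ((nat_lit 191), []))) (.node (nat_lit 854) (.leaf ((nat_lit 63), [nat_lit 3, nat_lit 1, nat_lit 3])) (.leaf ((nat_lit 71), []))))
 (.node (nat_lit 857) (.node (nat_lit 856) (.leaf ((nat_lit 188), [])) (.leaf ((nat_lit 68), [nat_lit 3, nat_lit 1, nat_lit 3]))) (.node (nat_lit 858) (.leaf ((nat_lit 64), [])) (.node (nat_lit 859) (.leaf ((nat_lit 65), [nat_lit 3, nat_lit 1, nat_lit 3])) (.leaf ((nat_lit 192), []))))))))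
 (.node (nat_lit 877) (.node (nat_lit 868) (.node (nat_lit 864) (.node (nat_lit 862) (.node (nat_lit 861) (.leaf ((nat_lit 64), [nat_lit 3, nat_lit 1, nat_lit 3])) (.leaf ((nat_lit 72), []))) (.node (nat_lit 863) (.leaf ((nat_lit 189), [])) (.leaf ((nat_lit 67), []))))
 (.node (nat_lit 866) (.node (nat_lit 865) (.leaf ((nat_lit 192), [])) (.leaf ((nat_lit 123), [nat_lit 3, nat_lit 0, nat_lit 3]))) (.node (nat_lit 867) (.leaf ((nat_lit 64), [])) (.leaf ((nat_lit 193), [])))))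
 (.node (nat_lit 872) (.node (nat_lit 870) (.node (nat_lit 869) (.leaf ((nat_lit 73), [])) (.leaf ((nat_lit 190), []))) (.node (nat_lit 871) (.leaf ((nat_lit 69), [])) (.leaf ((nat_lit 191), [nat_lit 3, nat_lit 1, nat_lit 3]))))
 (.node (nat_lit 874) (.node (nat_lit 873) (.leaf ((nat_lit 194), [])) (.leaf ((nat_lit 65), []))) (.node (nat_lit 875) (.leaf ((nat_lit 124), [nat_lit 3, nat_lit 0, nat_lit 3])) (.node (nat_lit 876) (.leaf ((nat_lit 74), [])) (.leaf ((nat_lit 87), [nat_lit 3, nat_lit 1, nat_lit 3, nat_lit 1])))))))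
 (.node (nat_lit 886) (.node (nat_lit 881) (.node (nat_lit 879) (.node (nat_lit 878) (.leaf ((nat_lit 66), [])) (.leaf ((nat_lit 68), [nat_lit 3, nat_lit 1, nat_lit 3]))) (.node (nat_lit 880) (.leaf ((nat_lit 74), [nat_lit 1])) (.leaf ((nat_lit 195), []))))
 (.node (nat_lit 883) (.node (nat_lit 882) (.leaf ((nat_lit 66), [nat_lit 3, nat_lit 1, nat_lit 3])) (.leaf ((nat_lit 75), []))) (.node (nat_lit 884) (.leaf ((nat_lit 86), [nat_lit 1])) (.node (nat_lit 885) (.leaf ((nat_lit 195), [])) (.leaf ((nat_lit 67), []))))))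
 (.node (nat_lit 890) (.node (nat_lit 888) (.node (nat_lit 887) (.leaf ((nat_lit 196), [])) (.leaf ((nat_lit 66), []))) (.node (nat_lit 889) (.leaf ((nat_lit 197), [])) (.leaf ((nat_lit 76), []))))
 (.node (nat_lit 892) (.node (nat_lit 891) (.leaf ((nat_lit 88), [nat_lit 1])) (.leaf ((nat_lit 193), []))) (.node (nat_lit 893) (.leaf ((nat_lit 197), [])) (.node (nat_lit 894) (.leaf ((nat_lit 127), [nat_lit 3, nat_lit 0, nat_lit 3])) (.leaf ((nat_lit 198), [])))))))))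
 (.node (nat_lit 929) (.node (nat_lit 912) (.node (nat_lit 903) (.node (nat_lit 899) (.node (nat_lit 897) (.node (nat_lit 896) (.leaf ((nat_lit 67), [])) (.leaf ((nat_lit 77), []))) (.node (nat_lit 898) (.leaf ((nat_lit 89), [nat_lit 1])) (.leaf ((nat_lit 192), [nat_lit 3, nat_lit 1, nat_lit 3]))))
 (.node (nat_lit 901) (.node (nat_lit 900) (.leaf ((nat_lit 195), [nat_lit 3, nat_lit 1, nat_lit 3])) (.leaf ((nat_lit 199), []))) (.node (nat_lit 902) (.leaf ((nat_lit 68), [])) (.leaf ((nat_lit 198), [])))))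
 (.node (nat_lit 907) (.node (nat_lit 905) (.node (nat_lit 904) (.leaf ((nat_lit 78), [])) (.leaf ((nat_lit 90), [nat_lit 1]))) (.node (nat_lit 906) (.leaf ((nat_lit 194), [])) (.leaf ((nat_lit 200), []))))
 (.node (nat_lit 909) (.node (nat_lit 908) (.leaf ((nat_lit 69), [])) (.leaf ((nat_lit 199), []))) (.node (nat_lit 910) (.leaf ((nat_lit 129), [nat_lit 3, nat_lit 0, nat_lit 3])) (.node (nat_lit 911) (.leaf ((nat_lit 191), [])) (.leaf ((nat_lit 130), [nat_lit 0])))))))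
 (.node (nat_lit 920) (.node (nat_lit 916) (.node (nat_lit 914) (.node (nat_lit 913) (.leaf ((nat_lit 191), [nat_lit 1])) (.leaf ((nat_lit 73), [nat_lit 3, nat_lit 1, nat_lit 3]))) (.node (nat_lit 915) (.leaf ((nat_lit 130), [nat_lit 3, nat_lit 0, nat_lit 3])) (.leaf ((nat_lit 70), []))))
 (.node (nat_lit 918) (.node (nat_lit 917) (.leaf ((nat_lit 130), [nat_lit 2, nat_lit 1, nat_lit 0, nat_lit 1])) (.leaf ((nat_lit 192), []))) (.node (nat_lit 919) (.leaf ((nat_lit 131), [nat_lit 0])) (.leaf ((nat_lit 77), [nat_lit 3, nat_lit 1, nat_lit 3])))))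
 (.node (nat_lit 924) (.node (nat_lit 922) (.node (nat_lit 921) (.leaf ((nat_lit 72), [])) (.leaf ((nat_lit 201), []))) (.node (nat_lit 923) (.leaf ((nat_lit 71), [])) (.leaf ((nat_lit 202), []))))
 (.node (nat_lit 926) (.node (nat_lit 925) (.leaf ((nat_lit 193), [])) (.leaf ((nat_lit 132), [nat_lit 0]))) (.node (nat_lit 927) (.leaf ((nat_lit 76), [])) (.node (nat_lit 928) (.leaf ((nat_lit 202), [])) (.leaf ((nat_lit 132), [nat_lit 3, nat_lit 0, nat_lit 3]))))))))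
 (.node (nat_lit 946) (.node (nat_lit 937) (.node (nat_lit 933) (.node (nat_lit 931) (.node (nat_lit 930) (.leaf ((nat_lit 202), [nat_lit 3, nat_lit 1, nat_lit 3])) (.leaf ((nat_lit 72), []))) (.node (nat_lit 932) (.leaf ((nat_lit 194), [])) (.leaf ((nat_lit 133), [nat_lit 0]))))
 (.node (nat_lit 935) (.node (nat_lit 934) (.leaf ((nat_lit 78), [])) (.leaf ((nat_lit 133), [nat_lit 2, nat_lit 1, nat_lit 0, nat_lit 1]))) (.node (nat_lit 936) (.leaf ((nat_lit 73), [])) (.leaf ((nat_lit 201), [nat_lit 3, nat_lit 1, nat_lit 3])))))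
 (.node (nat_lit 941) (.node (nat_lit 939) (.node (nat_lit 938) (.leaf ((nat_lit 133), [nat_lit 3, nat_lit 0, nat_lit 3])) (.leaf ((nat_lit 195), []))) (.node (nat_lit 940) (.leaf ((nat_lit 95), [nat_lit 3, nat_lit 1, nat_lit 3])) (.leaf ((nat_lit 75), []))))
 (.node (nat_lit 943) (.node (nat_lit 942) (.leaf ((nat_lit 77), [nat_lit 3, nat_lit 1, nat_lit 3])) (.leaf ((nat_lit 203), []))) (.node (nat_lit 944) (.leaf ((nat_lit 74), [])) (.node (nat_lit 945) (.leaf ((nat_lit 204), [])) (.leaf ((nat_lit 196), [])))))))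
 (.node (nat_lit 955) (.node (nat_lit 950) (.node (nat_lit 948) (.node (nat_lit 947) (.leaf ((nat_lit 93), [])) (.leaf ((nat_lit 203), []))) (.node (nat_lit 949) (.leaf ((nat_lit 135), [nat_lit 3, nat_lit 0, nat_lit 3])) (.leaf ((nat_lit 75), []))))
 (.node (nat_lit 952) (.node (nat_lit 951) (.leaf ((nat_lit 196), [nat_lit 1])) (.leaf ((nat_lit 180), [nat_lit 3]))) (.node (nat_lit 953) (.leaf ((nat_lit 197), [])) (.node (nat_lit 954) (.leaf ((nat_lit 94), [])) (.leaf ((nat_lit 204), []))))))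
 (.node (nat_lit 959) (.node (nat_lit 957) (.node (nat_lit 956) (.leaf ((nat_lit 76), [])) (.leaf ((nat_lit 180), [nat_lit 3]))) (.node (nat_lit 958) (.leaf ((nat_lit 204), [nat_lit 3, nat_lit 1, nat_lit 3])) (.leaf ((nat_lit 75), []))))
 (.node (nat_lit 961) (.node (nat_lit 960) (.leaf ((nat_lit 198), [])) (.leaf ((nat_lit 96), []))) (.node (nat_lit 962) (.leaf ((nat_lit 202), [nat_lit 3, nat_lit 1, nat_lit 3])) (.node (nat_lit 963) (.leaf ((nat_lit 204), [nat_lit 3, nat_lit 1, nat_lit 3])) (.leaf ((nat_lit 205), []))))))))))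
noncomputable def bWd_7 : Tr (ℕ × List ℕ) := (.node (nat_lit 1033) (.node (nat_lit 998) (.node (nat_lit 981) (.node (nat_lit 972) (.node (nat_lit 968) (.node (nat_lit 966) (.node (nat_lit 965) (.leaf ((nat_lit 76), [])) (.leaf ((nat_lit 77), []))) (.node (nat_lit 967) (.leaf ((nat_lit 199), [])) (.leaf ((nat_lit 97), []))))
 (.node (nat_lit 970) (.node (nat_lit 969) (.leaf ((nat_lit 201), [nat_lit 3, nat_lit 1, nat_lit 3])) (.leaf ((nat_lit 206), []))) (.node (nat_lit 971) (.leaf ((nat_lit 77), [])) (.leaf ((nat_lit 78), [])))))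
 (.node (nat_lit 976) (.node (nat_lit 974) (.node (nat_lit 973) (.leaf ((nat_lit 205), [])) (.leaf ((nat_lit 200), []))) (.node (nat_lit 975) (.leaf ((nat_lit 98), [])) (.leaf ((nat_lit 139), [nat_lit 2, nat_lit 1, nat_lit 0, nat_lit 1]))))
 (.node (nat_lit 978) (.node (nat_lit 977) (.leaf ((nat_lit 78), [])) (.leaf ((nat_lit 200), [nat_lit 1]))) (.node (nat_lit 979) (.leaf ((nat_lit 206), [])) (.node (nat_lit 980) (.leaf ((nat_lit 139), [nat_lit 3, nat_lit 0, nat_lit 3])) (.leaf ((nat_lit 140), [nat_lit 1, nat_lit 0, nat_lit 1])))))))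
 (.node (nat_lit 989) (.node (nat_lit 985) (.node (nat_lit 983) (.node (nat_lit 982) (.leaf ((nat_lit 81), [])) (.leaf ((nat_lit 207), []))) (.node (nat_lit 984) (.leaf ((nat_lit 79), [])) (.leaf ((nat_lit 140), [nat_lit 0]))))
 (.node (nat_lit 987) (.node (nat_lit 986) (.leaf ((nat_lit 208), [])) (.leaf ((nat_lit 207), [nat_lit 3, nat_lit 1, nat_lit 3]))) (.node (nat_lit 988) (.leaf ((nat_lit 141), [nat_lit 1, nat_lit 0, nat_lit 1])) (.leaf ((nat_lit 82), [])))))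
 (.node (nat_lit 993) (.node (nat_lit 991) (.node (nat_lit 990) (.leaf ((nat_lit 189), [nat_lit 1])) (.leaf ((nat_lit 208), []))) (.node (nat_lit 992) (.leaf ((nat_lit 141), [nat_lit 3, nat_lit 0, nat_lit 3])) (.leaf ((nat_lit 79), []))))
 (.node (nat_lit 995) (.node (nat_lit 994) (.leaf ((nat_lit 209), [])) (.leaf ((nat_lit 142), [nat_lit 1, nat_lit 0, nat_lit 1]))) (.node (nat_lit 996) (.leaf ((nat_lit 83), [])) (.node (nat_lit 997) (.leaf ((nat_lit 188), [nat_lit 3, nat_lit 1, nat_lit 3, nat_lit 1])) (.leaf ((nat_lit 207), [nat_lit 3, nat_lit 1, nat_lit 3]))))))))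
 (.node (nat_lit 1015) (.node (nat_lit 1006) (.node (nat_lit 1002) (.node (nat_lit 1000) (.node (nat_lit 999) (.leaf ((nat_lit 80), [])) (.leaf ((nat_lit 210), []))) (.node (nat_lit 1001) (.leaf ((nat_lit 79), [])) (.leaf ((nat_lit 143), [nat_lit 1, nat_lit 0, nat_lit 1]))))
 (.node (nat_lit 1004) (.node (nat_lit 1003) (.leaf ((nat_lit 84), [])) (.leaf ((nat_lit 190), [nat_lit 1]))) (.node (nat_lit 1005) (.leaf ((nat_lit 143), [nat_lit 0])) (.leaf ((nat_lit 211), [])))))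
 (.node (nat_lit 1010) (.node (nat_lit 1008) (.node (nat_lit 1007) (.leaf ((nat_lit 80), [])) (.leaf ((nat_lit 143), [nat_lit 3, nat_lit 0, nat_lit 3]))) (.node (nat_lit 1009) (.leaf ((nat_lit 164), [nat_lit 1])) (.leaf ((nat_lit 212), []))))
 (.node (nat_lit 1012) (.node (nat_lit 1011) (.leaf ((nat_lit 81), [])) (.leaf ((nat_lit 85), []))) (.node (nat_lit 1013) (.leaf ((nat_lit 144), [nat_lit 0])) (.node (nat_lit 1014) (.leaf ((nat_lit 213), [])) (.leaf ((nat_lit 212), [nat_lit 3, nat_lit 1, nat_lit 3])))))))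
 (.node (nat_lit 1024) (.node (nat_lit 1019) (.node (nat_lit 1017) (.node (nat_lit 1016) (.leaf ((nat_lit 165), [nat_lit 1])) (.leaf ((nat_lit 208), []))) (.node (nat_lit 1018) (.leaf ((nat_lit 213), [])) (.leaf ((nat_lit 82), []))))
 (.node (nat_lit 1021) (.node (nat_lit 1020) (.leaf ((nat_lit 214), [])) (.leaf ((nat_lit 81), []))) (.node (nat_lit 1022) (.leaf ((nat_lit 215), [])) (.node (nat_lit 1023) (.leaf ((nat_lit 166), [nat_lit 1])) (.leaf ((nat_lit 207), [nat_lit 3, nat_lit 1, nat_lit 3]))))))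
 (.node (nat_lit 1028) (.node (nat_lit 1026) (.node (nat_lit 1025) (.leaf ((nat_lit 212), [nat_lit 3, nat_lit 1, nat_lit 3])) (.leaf ((nat_lit 83), []))) (.node (nat_lit 1027) (.leaf ((nat_lit 146), [nat_lit 0])) (.leaf ((nat_lit 216), []))))
 (.node (nat_lit 1030) (.node (nat_lit 1029) (.leaf ((nat_lit 81), [])) (.leaf ((nat_lit 167), [nat_lit 1]))) (.node (nat_lit 1031) (.leaf ((nat_lit 209), [])) (.node (nat_lit 1032) (.leaf ((nat_lit 88), [])) (.leaf ((nat_lit 215), [])))))))))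
 (.node (nat_lit 1067) (.node (nat_lit 1050) (.node (nat_lit 1041) (.node (nat_lit 1037) (.node (nat_lit 1035) (.node (nat_lit 1034) (.leaf ((nat_lit 147), [nat_lit 3, nat_lit 0, nat_lit 3])) (.leaf ((nat_lit 217), []))) (.node (nat_lit 1036) (.leaf ((nat_lit 82), [])) (.leaf ((nat_lit 168), [nat_lit 1]))))
 (.node (nat_lit 1039) (.node (nat_lit 1038) (.leaf ((nat_lit 210), [])) (.leaf ((nat_lit 89), []))) (.node (nat_lit 1040) (.leaf ((nat_lit 216), [])) (.leaf ((nat_lit 218), [])))))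
 (.node (nat_lit 1045) (.node (nat_lit 1043) (.node (nat_lit 1042) (.leaf ((nat_lit 83), [])) (.leaf ((nat_lit 217), []))) (.node (nat_lit 1044) (.leaf ((nat_lit 169), [nat_lit 1])) (.leaf ((nat_lit 211), []))))
 (.node (nat_lit 1047) (.node (nat_lit 1046) (.leaf ((nat_lit 90), [])) (.leaf ((nat_lit 219), []))) (.node (nat_lit 1048) (.leaf ((nat_lit 84), [])) (.node (nat_lit 1049) (.leaf ((nat_lit 218), [])) (.leaf ((nat_lit 149), [nat_lit 3, nat_lit 0, nat_lit 3])))))))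
 (.node (nat_lit 1058) (.node (nat_lit 1054) (.node (nat_lit 1052) (.node (nat_lit 1051) (.leaf ((nat_lit 172), [nat_lit 3, nat_lit 1, nat_lit 3, nat_lit 1])) (.leaf ((nat_lit 85), []))) (.node (nat_lit 1053) (.leaf ((nat_lit 87), [nat_lit 3, nat_lit 1, nat_lit 3])) (.leaf ((nat_lit 212), []))))
 (.node (nat_lit 1056) (.node (nat_lit 1055) (.leaf ((nat_lit 91), [])) (.leaf ((nat_lit 220), []))) (.node (nat_lit 1057) (.leaf ((nat_lit 85), [nat_lit 3, nat_lit 1, nat_lit 3])) (.leaf ((nat_lit 171), [nat_lit 1])))))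
 (.node (nat_lit 1062) (.node (nat_lit 1060) (.node (nat_lit 1059) (.leaf ((nat_lit 220), [])) (.leaf ((nat_lit 86), []))) (.node (nat_lit 1061) (.leaf ((nat_lit 213), [])) (.leaf ((nat_lit 182), [nat_lit 3]))))
 (.node (nat_lit 1064) (.node (nat_lit 1063) (.leaf ((nat_lit 85), [])) (.leaf ((nat_lit 183), [nat_lit 3]))) (.node (nat_lit 1065) (.leaf ((nat_lit 173), [nat_lit 1])) (.node (nat_lit 1066) (.leaf ((nat_lit 196), [nat_lit 1])) (.leaf ((nat_lit 182), [nat_lit 3]))))))))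
 (.node (nat_lit 1084) (.node (nat_lit 1075) (.node (nat_lit 1071) (.node (nat_lit 1069) (.node (nat_lit 1068) (.leaf ((nat_lit 152), [nat_lit 3, nat_lit 0, nat_lit 3])) (.leaf ((nat_lit 86), []))) (.node (nat_lit 1070) (.leaf ((nat_lit 93), [])) (.leaf ((nat_lit 181), [nat_lit 3]))))
 (.node (nat_lit 1073) (.node (nat_lit 1072) (.leaf ((nat_lit 174), [nat_lit 1])) (.leaf ((nat_lit 197), [nat_lit 1]))) (.node (nat_lit 1074) (.leaf ((nat_lit 183), [nat_lit 3])) (.leaf ((nat_lit 88), [])))))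
 (.node (nat_lit 1079) (.node (nat_lit 1077) (.node (nat_lit 1076) (.leaf ((nat_lit 181), [nat_lit 3])) (.leaf ((nat_lit 221), []))) (.node (nat_lit 1078) (.leaf ((nat_lit 86), [])) (.leaf ((nat_lit 175), [nat_lit 1]))))
 (.node (nat_lit 1081) (.node (nat_lit 1080) (.leaf ((nat_lit 195), [nat_lit 3, nat_lit 1, nat_lit 3, nat_lit 1])) (.leaf ((nat_lit 220), [nat_lit 3, nat_lit 1, nat_lit 3]))) (.node (nat_lit 1082) (.leaf ((nat_lit 89), [])) (.node (nat_lit 1083) (.leaf ((nat_lit 222), [])) (.leaf ((nat_lit 87), [])))))))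
 (.node (nat_lit 1093) (.node (nat_lit 1088) (.node (nat_lit 1086) (.node (nat_lit 1085) (.leaf ((nat_lit 221), [])) (.leaf ((nat_lit 176), [nat_lit 1]))) (.node (nat_lit 1087) (.leaf ((nat_lit 198), [nat_lit 1])) (.leaf ((nat_lit 217), []))))
 (.node (nat_lit 1090) (.node (nat_lit 1089) (.leaf ((nat_lit 221), [])) (.leaf ((nat_lit 223), []))) (.node (nat_lit 1091) (.leaf ((nat_lit 88), [])) (.node (nat_lit 1092) (.leaf ((nat_lit 89), [])) (.leaf ((nat_lit 177), [nat_lit 1]))))))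
 (.node (nat_lit 1097) (.node (nat_lit 1095) (.node (nat_lit 1094) (.leaf ((nat_lit 199), [nat_lit 1])) (.leaf ((nat_lit 218), []))) (.node (nat_lit 1096) (.leaf ((nat_lit 224), [])) (.leaf ((nat_lit 89), []))))
 (.node (nat_lit 1099) (.node (nat_lit 1098) (.leaf ((nat_lit 90), [])) (.leaf ((nat_lit 223), []))) (.node (nat_lit 1100) (.leaf ((nat_lit 178), [nat_lit 1])) (.node (nat_lit 1101) (.leaf ((nat_lit 200), [nat_lit 1])) (.leaf ((nat_lit 225), []))))))))))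
noncomputable def bWd_8 : Tr (ℕ × List ℕ) := (.node (nat_lit 1170) (.node (nat_lit 1136) (.node (nat_lit 1119) (.node (nat_lit 1110) (.node (nat_lit 1106) (.node (nat_lit 1104) (.node (nat_lit 1103) (.leaf ((nat_lit 90), [])) (.leaf ((nat_lit 98), []))) (.node (nat_lit 1105) (.leaf ((nat_lit 224), [])) (.leaf ((nat_lit 157), [nat_lit 3, nat_lit 0, nat_lit 3]))))
 (.node (nat_lit 1108) (.node (nat_lit 1107) (.leaf ((nat_lit 181), [nat_lit 3, nat_lit 1, nat_lit 3])) (.leaf ((nat_lit 92), []))) (.node (nat_lit 1109) (.leaf ((nat_lit 95), [nat_lit 3, nat_lit 1, nat_lit 3])) (.leaf ((nat_lit 158), [nat_lit 0])))))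
 (.node (nat_lit 1114) (.node (nat_lit 1112) (.node (nat_lit 1111) (.leaf ((nat_lit 174), [nat_lit 3])) (.leaf ((nat_lit 91), []))) (.node (nat_lit 1113) (.leaf ((nat_lit 173), [nat_lit 3])) (.leaf ((nat_lit 182), []))))
 (.node (nat_lit 1116) (.node (nat_lit 1115) (.leaf ((nat_lit 204), [nat_lit 3, nat_lit 1, nat_lit 3])) (.leaf ((nat_lit 173), [nat_lit 1, nat_lit 3]))) (.node (nat_lit 1117) (.leaf ((nat_lit 96), [])) (.node (nat_lit 1118) (.leaf ((nat_lit 171), [nat_lit 1, nat_lit 3])) (.leaf ((nat_lit 94), [])))))))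
 (.node (nat_lit 1127) (.node (nat_lit 1123) (.node (nat_lit 1121) (.node (nat_lit 1120) (.leaf ((nat_lit 95), [])) (.leaf ((nat_lit 183), []))) (.node (nat_lit 1122) (.leaf ((nat_lit 203), [nat_lit 3, nat_lit 1, nat_lit 3])) (.leaf ((nat_lit 174), [nat_lit 1, nat_lit 3]))))
 (.node (nat_lit 1125) (.node (nat_lit 1124) (.leaf ((nat_lit 226), [])) (.leaf ((nat_lit 95), []))) (.node (nat_lit 1126) (.leaf ((nat_lit 222), [])) (.leaf ((nat_lit 171), [nat_lit 1, nat_lit 3])))))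
 (.node (nat_lit 1131) (.node (nat_lit 1129) (.node (nat_lit 1128) (.leaf ((nat_lit 184), [])) (.leaf ((nat_lit 205), []))) (.node (nat_lit 1130) (.leaf ((nat_lit 161), [nat_lit 0])) (.leaf ((nat_lit 227), []))))
 (.node (nat_lit 1133) (.node (nat_lit 1132) (.leaf ((nat_lit 96), [])) (.leaf ((nat_lit 161), [nat_lit 3, nat_lit 0, nat_lit 3]))) (.node (nat_lit 1134) (.leaf ((nat_lit 97), [])) (.node (nat_lit 1135) (.leaf ((nat_lit 185), [])) (.leaf ((nat_lit 206), []))))))))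
 (.node (nat_lit 1153) (.node (nat_lit 1144) (.node (nat_lit 1140) (.node (nat_lit 1138) (.node (nat_lit 1137) (.leaf ((nat_lit 228), [])) (.leaf ((nat_lit 97), []))) (.node (nat_lit 1139) (.leaf ((nat_lit 226), [])) (.leaf ((nat_lit 98), []))))
 (.node (nat_lit 1142) (.node (nat_lit 1141) (.leaf ((nat_lit 227), [])) (.leaf ((nat_lit 186), []))) (.node (nat_lit 1143) (.leaf ((nat_lit 163), [nat_lit 2, nat_lit 1, nat_lit 0, nat_lit 1])) (.leaf ((nat_lit 98), [])))))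
 (.node (nat_lit 1148) (.node (nat_lit 1146) (.node (nat_lit 1145) (.leaf ((nat_lit 163), [nat_lit 0])) (.leaf ((nat_lit 225), []))) (.node (nat_lit 1147) (.leaf ((nat_lit 228), [])) (.leaf ((nat_lit 163), [nat_lit 3, nat_lit 0, nat_lit 3]))))
 (.node (nat_lit 1150) (.node (nat_lit 1149) (.leaf ((nat_lit 144), [nat_lit 1])) (.leaf ((nat_lit 229), []))) (.node (nat_lit 1151) (.leaf ((nat_lit 99), [])) (.node (nat_lit 1152) (.leaf ((nat_lit 103), [])) (.leaf ((nat_lit 164), [nat_lit 1, nat_lit 0, nat_lit 1])))))))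
 (.node (nat_lit 1161) (.node (nat_lit 1157) (.node (nat_lit 1155) (.node (nat_lit 1154) (.leaf ((nat_lit 230), [])) (.leaf ((nat_lit 231), []))) (.node (nat_lit 1156) (.leaf ((nat_lit 145), [nat_lit 1])) (.leaf ((nat_lit 165), [nat_lit 0]))))
 (.node (nat_lit 1159) (.node (nat_lit 1158) (.leaf ((nat_lit 230), [])) (.leaf ((nat_lit 100), []))) (.node (nat_lit 1160) (.leaf ((nat_lit 232), [])) (.leaf ((nat_lit 99), [])))))
 (.node (nat_lit 1165) (.node (nat_lit 1163) (.node (nat_lit 1162) (.leaf ((nat_lit 233), [])) (.leaf ((nat_lit 146), [nat_lit 1]))) (.node (nat_lit 1164) (.leaf ((nat_lit 166), [nat_lit 0])) (.leaf ((nat_lit 231), []))))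
 (.node (nat_lit 1167) (.node (nat_lit 1166) (.leaf ((nat_lit 101), [])) (.leaf ((nat_lit 166), [nat_lit 1, nat_lit 0, nat_lit 1]))) (.node (nat_lit 1168) (.leaf ((nat_lit 234), [])) (.node (nat_lit 1169) (.leaf ((nat_lit 99), [])) (.leaf ((nat_lit 147), [nat_lit 1])))))))))
 (.node (nat_lit 1204) (.node (nat_lit 1187) (.node (nat_lit 1178) (.node (nat_lit 1174) (.node (nat_lit 1172) (.node (nat_lit 1171) (.leaf ((nat_lit 167), [nat_lit 0])) (.leaf ((nat_lit 106), []))) (.node (nat_lit 1173) (.leaf ((nat_lit 233), [])) (.leaf ((nat_lit 167), [nat_lit 3, nat_lit 0, nat_lit 3]))))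
 (.node (nat_lit 1176) (.node (nat_lit 1175) (.leaf ((nat_lit 235), [])) (.leaf ((nat_lit 100), []))) (.node (nat_lit 1177) (.leaf ((nat_lit 148), [nat_lit 1])) (.leaf ((nat_lit 168), [nat_lit 0])))))
 (.node (nat_lit 1182) (.node (nat_lit 1180) (.node (nat_lit 1179) (.leaf ((nat_lit 107), [])) (.leaf ((nat_lit 234), []))) (.node (nat_lit 1181) (.leaf ((nat_lit 236), [])) (.leaf ((nat_lit 101), []))))
 (.node (nat_lit 1184) (.node (nat_lit 1183) (.leaf ((nat_lit 235), [])) (.leaf ((nat_lit 149), [nat_lit 1]))) (.node (nat_lit 1185) (.leaf ((nat_lit 169), [nat_lit 0])) (.node (nat_lit 1186) (.leaf ((nat_lit 108), [])) (.leaf ((nat_lit 237), [])))))))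
 (.node (nat_lit 1195) (.node (nat_lit 1191) (.node (nat_lit 1189) (.node (nat_lit 1188) (.leaf ((nat_lit 102), [])) (.leaf ((nat_lit 236), []))) (.node (nat_lit 1190) (.leaf ((nat_lit 169), [nat_lit 3, nat_lit 0, nat_lit 3])) (.leaf ((nat_lit 238), []))))
 (.node (nat_lit 1193) (.node (nat_lit 1192) (.leaf ((nat_lit 103), [])) (.leaf ((nat_lit 109), []))) (.node (nat_lit 1194) (.leaf ((nat_lit 229), [])) (.leaf ((nat_lit 109), [nat_lit 1])))))
 (.node (nat_lit 1199) (.node (nat_lit 1197) (.node (nat_lit 1196) (.leaf ((nat_lit 239), [])) (.leaf ((nat_lit 238), [nat_lit 3, nat_lit 1, nat_lit 3]))) (.node (nat_lit 1198) (.leaf ((nat_lit 151), [nat_lit 1])) (.leaf ((nat_lit 239), []))))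
 (.node (nat_lit 1201) (.node (nat_lit 1200) (.leaf ((nat_lit 104), [])) (.leaf ((nat_lit 230), []))) (.node (nat_lit 1202) (.leaf ((nat_lit 159), [nat_lit 3, nat_lit 1])) (.node (nat_lit 1203) (.leaf ((nat_lit 103), [])) (.leaf ((nat_lit 160), [nat_lit 3, nat_lit 1]))))))))
 (.node (nat_lit 1221) (.node (nat_lit 1212) (.node (nat_lit 1208) (.node (nat_lit 1206) (.node (nat_lit 1205) (.leaf ((nat_lit 150), [nat_lit 3, nat_lit 1, nat_lit 3, nat_lit 1])) (.leaf ((nat_lit 238), [nat_lit 3, nat_lit 1, nat_lit 3]))) (.node (nat_lit 1207) (.leaf ((nat_lit 105), [])) (.leaf ((nat_lit 231), []))))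
 (.node (nat_lit 1210) (.node (nat_lit 1209) (.leaf ((nat_lit 111), [nat_lit 1])) (.leaf ((nat_lit 240), []))) (.node (nat_lit 1211) (.leaf ((nat_lit 103), [])) (.leaf ((nat_lit 152), [nat_lit 1])))))
 (.node (nat_lit 1216) (.node (nat_lit 1214) (.node (nat_lit 1213) (.leaf ((nat_lit 112), [])) (.leaf ((nat_lit 159), [nat_lit 3, nat_lit 1]))) (.node (nat_lit 1215) (.leaf ((nat_lit 173), [nat_lit 3, nat_lit 0, nat_lit 3])) (.leaf ((nat_lit 104), []))))
 (.node (nat_lit 1218) (.node (nat_lit 1217) (.leaf ((nat_lit 112), [nat_lit 1])) (.leaf ((nat_lit 158), [nat_lit 3]))) (.node (nat_lit 1219) (.leaf ((nat_lit 153), [nat_lit 1])) (.node (nat_lit 1220) (.leaf ((nat_lit 113), [])) (.leaf ((nat_lit 160), [nat_lit 3, nat_lit 1])))))))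
 (.node (nat_lit 1230) (.node (nat_lit 1225) (.node (nat_lit 1223) (.node (nat_lit 1222) (.leaf ((nat_lit 106), [])) (.leaf ((nat_lit 158), [nat_lit 3]))) (.node (nat_lit 1224) (.leaf ((nat_lit 241), [])) (.leaf ((nat_lit 104), []))))
 (.node (nat_lit 1227) (.node (nat_lit 1226) (.leaf ((nat_lit 154), [nat_lit 1])) (.leaf ((nat_lit 114), []))) (.node (nat_lit 1228) (.leaf ((nat_lit 240), [])) (.node (nat_lit 1229) (.leaf ((nat_lit 107), [])) (.leaf ((nat_lit 242), []))))))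
 (.node (nat_lit 1234) (.node (nat_lit 1232) (.node (nat_lit 1231) (.leaf ((nat_lit 105), [])) (.leaf ((nat_lit 241), []))) (.node (nat_lit 1233) (.leaf ((nat_lit 155), [nat_lit 1])) (.leaf ((nat_lit 115), []))))
 (.node (nat_lit 1236) (.node (nat_lit 1235) (.leaf ((nat_lit 235), [])) (.leaf ((nat_lit 241), []))) (.node (nat_lit 1237) (.leaf ((nat_lit 243), [])) (.node (nat_lit 1238) (.leaf ((nat_lit 106), [])) (.leaf ((nat_lit 107), []))))))))))
noncomputable def bWd_9 : Tr (ℕ × List ℕ) := (.node (nat_lit 1308) (.node (nat_lit 1273) (.node (nat_lit 1256) (.node (nat_lit 1247) (.node (nat_lit 1243) (.node (nat_lit 1241) (.node (nat_lit 1240) (.leaf ((nat_lit 156), [nat_lit 1])) (.leaf ((nat_lit 116), []))) (.node (nat_lit 1242) (.leaf ((nat_lit 236), [])) (.leaf ((nat_lit 244), []))))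
 (.node (nat_lit 1245) (.node (nat_lit 1244) (.leaf ((nat_lit 107), [])) (.leaf ((nat_lit 108), []))) (.node (nat_lit 1246) (.leaf ((nat_lit 243), [])) (.leaf ((nat_lit 157), [nat_lit 1])))))
 (.node (nat_lit 1251) (.node (nat_lit 1249) (.node (nat_lit 1248) (.leaf ((nat_lit 117), [])) (.leaf ((nat_lit 245), []))) (.node (nat_lit 1250) (.leaf ((nat_lit 108), [])) (.leaf ((nat_lit 117), [nat_lit 1]))))
 (.node (nat_lit 1253) (.node (nat_lit 1252) (.leaf ((nat_lit 244), [])) (.leaf ((nat_lit 178), [nat_lit 3, nat_lit 0, nat_lit 3]))) (.node (nat_lit 1254) (.leaf ((nat_lit 109), [])) (.node (nat_lit 1255) (.leaf ((nat_lit 111), [nat_lit 3, nat_lit 1, nat_lit 3])) (.leaf ((nat_lit 238), [])))))))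
 (.node (nat_lit 1264) (.node (nat_lit 1260) (.node (nat_lit 1258) (.node (nat_lit 1257) (.leaf ((nat_lit 179), [nat_lit 0])) (.leaf ((nat_lit 238), [nat_lit 1]))) (.node (nat_lit 1259) (.leaf ((nat_lit 246), [])) (.leaf ((nat_lit 109), [nat_lit 3, nat_lit 1, nat_lit 3]))))
 (.node (nat_lit 1262) (.node (nat_lit 1261) (.leaf ((nat_lit 246), [])) (.leaf ((nat_lit 110), []))) (.node (nat_lit 1263) (.leaf ((nat_lit 239), [])) (.leaf ((nat_lit 180), [nat_lit 0])))))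
 (.node (nat_lit 1268) (.node (nat_lit 1266) (.node (nat_lit 1265) (.leaf ((nat_lit 136), [nat_lit 3])) (.leaf ((nat_lit 109), []))) (.node (nat_lit 1267) (.leaf ((nat_lit 135), [nat_lit 3])) (.leaf ((nat_lit 158), [nat_lit 3, nat_lit 1, nat_lit 3]))))
 (.node (nat_lit 1270) (.node (nat_lit 1269) (.leaf ((nat_lit 246), [nat_lit 3, nat_lit 1, nat_lit 3])) (.leaf ((nat_lit 114), []))) (.node (nat_lit 1271) (.leaf ((nat_lit 181), [nat_lit 0])) (.node (nat_lit 1272) (.leaf ((nat_lit 153), [nat_lit 3])) (.leaf ((nat_lit 111), []))))))))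
 (.node (nat_lit 1290) (.node (nat_lit 1281) (.node (nat_lit 1277) (.node (nat_lit 1275) (.node (nat_lit 1274) (.leaf ((nat_lit 152), [nat_lit 3])) (.leaf ((nat_lit 159), []))) (.node (nat_lit 1276) (.leaf ((nat_lit 241), [])) (.leaf ((nat_lit 152), [nat_lit 3]))))
 (.node (nat_lit 1279) (.node (nat_lit 1278) (.leaf ((nat_lit 115), [])) (.leaf ((nat_lit 151), [nat_lit 3]))) (.node (nat_lit 1280) (.leaf ((nat_lit 113), [])) (.leaf ((nat_lit 114), [])))))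
 (.node (nat_lit 1285) (.node (nat_lit 1283) (.node (nat_lit 1282) (.leaf ((nat_lit 160), [])) (.leaf ((nat_lit 242), []))) (.node (nat_lit 1284) (.leaf ((nat_lit 153), [nat_lit 3])) (.leaf ((nat_lit 247), []))))
 (.node (nat_lit 1287) (.node (nat_lit 1286) (.leaf ((nat_lit 114), [])) (.leaf ((nat_lit 242), [nat_lit 1]))) (.node (nat_lit 1288) (.leaf ((nat_lit 151), [nat_lit 3])) (.node (nat_lit 1289) (.leaf ((nat_lit 161), [])) (.leaf ((nat_lit 243), [])))))))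
 (.node (nat_lit 1299) (.node (nat_lit 1294) (.node (nat_lit 1292) (.node (nat_lit 1291) (.leaf ((nat_lit 184), [nat_lit 0])) (.leaf ((nat_lit 248), []))) (.node (nat_lit 1293) (.leaf ((nat_lit 115), [])) (.leaf ((nat_lit 184), [nat_lit 3, nat_lit 0, nat_lit 3]))))
 (.node (nat_lit 1296) (.node (nat_lit 1295) (.leaf ((nat_lit 116), [])) (.leaf ((nat_lit 162), []))) (.node (nat_lit 1297) (.leaf ((nat_lit 244), [])) (.node (nat_lit 1298) (.leaf ((nat_lit 249), [])) (.leaf ((nat_lit 116), []))))))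
 (.node (nat_lit 1303) (.node (nat_lit 1301) (.node (nat_lit 1300) (.leaf ((nat_lit 247), [])) (.leaf ((nat_lit 117), []))) (.node (nat_lit 1302) (.leaf ((nat_lit 248), [])) (.leaf ((nat_lit 163), []))))
 (.node (nat_lit 1305) (.node (nat_lit 1304) (.leaf ((nat_lit 250), [])) (.leaf ((nat_lit 117), []))) (.node (nat_lit 1306) (.leaf ((nat_lit 186), [nat_lit 0])) (.node (nat_lit 1307) (.leaf ((nat_lit 245), [nat_lit 1])) (.leaf ((nat_lit 249), [])))))))))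
 (.node (nat_lit 1342) (.node (nat_lit 1325) (.node (nat_lit 1316) (.node (nat_lit 1312) (.node (nat_lit 1310) (.node (nat_lit 1309) (.leaf ((nat_lit 186), [nat_lit 3, nat_lit 0, nat_lit 3])) (.leaf ((nat_lit 187), [nat_lit 0]))) (.node (nat_lit 1311) (.leaf ((nat_lit 121), [])) (.leaf ((nat_lit 187), [nat_lit 1, nat_lit 0, nat_lit 1]))))
 (.node (nat_lit 1314) (.node (nat_lit 1313) (.leaf ((nat_lit 120), [nat_lit 3, nat_lit 1, nat_lit 3])) (.leaf ((nat_lit 118), []))) (.node (nat_lit 1315) (.leaf ((nat_lit 251), [])) (.leaf ((nat_lit 118), [nat_lit 3, nat_lit 1, nat_lit 3])))))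
 (.node (nat_lit 1320) (.node (nat_lit 1318) (.node (nat_lit 1317) (.leaf ((nat_lit 188), [nat_lit 0])) (.leaf ((nat_lit 122), []))) (.node (nat_lit 1319) (.leaf ((nat_lit 142), [nat_lit 3, nat_lit 1, nat_lit 3, nat_lit 1])) (.leaf ((nat_lit 119), []))))
 (.node (nat_lit 1322) (.node (nat_lit 1321) (.leaf ((nat_lit 120), [nat_lit 3, nat_lit 1, nat_lit 3])) (.leaf ((nat_lit 252), []))) (.node (nat_lit 1323) (.leaf ((nat_lit 119), [nat_lit 3, nat_lit 1, nat_lit 3])) (.node (nat_lit 1324) (.leaf ((nat_lit 189), [nat_lit 0])) (.leaf ((nat_lit 123), [])))))))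
 (.node (nat_lit 1333) (.node (nat_lit 1329) (.node (nat_lit 1327) (.node (nat_lit 1326) (.leaf ((nat_lit 141), [nat_lit 1])) (.leaf ((nat_lit 252), []))) (.node (nat_lit 1328) (.leaf ((nat_lit 189), [nat_lit 3, nat_lit 0, nat_lit 3])) (.leaf ((nat_lit 119), []))))
 (.node (nat_lit 1331) (.node (nat_lit 1330) (.leaf ((nat_lit 253), [])) (.leaf ((nat_lit 190), [nat_lit 0]))) (.node (nat_lit 1332) (.leaf ((nat_lit 124), [])) (.leaf ((nat_lit 143), [nat_lit 1])))))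
 (.node (nat_lit 1337) (.node (nat_lit 1335) (.node (nat_lit 1334) (.leaf ((nat_lit 251), [nat_lit 3, nat_lit 1, nat_lit 3])) (.leaf ((nat_lit 254), []))) (.node (nat_lit 1336) (.leaf ((nat_lit 120), [])) (.leaf ((nat_lit 190), [nat_lit 3, nat_lit 0, nat_lit 3]))))
 (.node (nat_lit 1339) (.node (nat_lit 1338) (.leaf ((nat_lit 130), [])) (.leaf ((nat_lit 251), []))) (.node (nat_lit 1340) (.leaf ((nat_lit 130), [nat_lit 1])) (.node (nat_lit 1341) (.leaf ((nat_lit 124), [nat_lit 3, nat_lit 1, nat_lit 3])) (.leaf ((nat_lit 191), [nat_lit 3, nat_lit 0, nat_lit 3]))))))))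
 (.node (nat_lit 1359) (.node (nat_lit 1350) (.node (nat_lit 1346) (.node (nat_lit 1344) (.node (nat_lit 1343) (.leaf ((nat_lit 121), [])) (.leaf ((nat_lit 191), [nat_lit 2, nat_lit 1, nat_lit 0, nat_lit 1]))) (.node (nat_lit 1345) (.leaf ((nat_lit 131), [])) (.leaf ((nat_lit 252), []))))
 (.node (nat_lit 1348) (.node (nat_lit 1347) (.leaf ((nat_lit 128), [nat_lit 3, nat_lit 1, nat_lit 3])) (.leaf ((nat_lit 123), []))) (.node (nat_lit 1349) (.leaf ((nat_lit 255), [])) (.leaf ((nat_lit 122), [])))))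
 (.node (nat_lit 1354) (.node (nat_lit 1352) (.node (nat_lit 1351) (.leaf ((nat_lit 256), [])) (.leaf ((nat_lit 132), []))) (.node (nat_lit 1353) (.leaf ((nat_lit 253), [])) (.leaf ((nat_lit 127), []))))
 (.node (nat_lit 1356) (.node (nat_lit 1355) (.leaf ((nat_lit 256), [])) (.leaf ((nat_lit 193), [nat_lit 3, nat_lit 0, nat_lit 3]))) (.node (nat_lit 1357) (.leaf ((nat_lit 256), [nat_lit 3, nat_lit 1, nat_lit 3])) (.node (nat_lit 1358) (.leaf ((nat_lit 123), [])) (.leaf ((nat_lit 133), [])))))))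
 (.node (nat_lit 1368) (.node (nat_lit 1363) (.node (nat_lit 1361) (.node (nat_lit 1360) (.leaf ((nat_lit 254), [])) (.leaf ((nat_lit 129), []))) (.node (nat_lit 1362) (.leaf ((nat_lit 194), [nat_lit 2, nat_lit 1, nat_lit 0, nat_lit 1])) (.leaf ((nat_lit 124), []))))
 (.node (nat_lit 1365) (.node (nat_lit 1364) (.leaf ((nat_lit 255), [nat_lit 3, nat_lit 1, nat_lit 3])) (.leaf ((nat_lit 194), [nat_lit 3, nat_lit 0, nat_lit 3]))) (.node (nat_lit 1366) (.leaf ((nat_lit 134), [])) (.node (nat_lit 1367) (.leaf ((nat_lit 154), [nat_lit 3, nat_lit 1, nat_lit 3, nat_lit 1])) (.leaf ((nat_lit 126), []))))))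
 (.node (nat_lit 1372) (.node (nat_lit 1370) (.node (nat_lit 1369) (.leaf ((nat_lit 128), [nat_lit 3, nat_lit 1, nat_lit 3])) (.leaf ((nat_lit 257), []))) (.node (nat_lit 1371) (.leaf ((nat_lit 125), [])) (.leaf ((nat_lit 258), []))))
 (.node (nat_lit 1374) (.node (nat_lit 1373) (.leaf ((nat_lit 135), [])) (.leaf ((nat_lit 152), [nat_lit 1]))) (.node (nat_lit 1375) (.leaf ((nat_lit 257), [])) (.node (nat_lit 1376) (.leaf ((nat_lit 196), [nat_lit 3, nat_lit 0, nat_lit 3])) (.leaf ((nat_lit 126), []))))))))))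
noncomputable def bWd_10 : Tr (ℕ × List ℕ) := (.node (nat_lit 1446) (.node (nat_lit 1411) (.node (nat_lit 1394) (.node (nat_lit 1385) (.node (nat_lit 1381) (.node (nat_lit 1379) (.node (nat_lit 1378) (.leaf ((nat_lit 135), [nat_lit 1])) (.leaf ((nat_lit 246), [nat_lit 3]))) (.node (nat_lit 1380) (.leaf ((nat_lit 136), [])) (.leaf ((nat_lit 153), [nat_lit 1]))))
 (.node (nat_lit 1383) (.node (nat_lit 1382) (.leaf ((nat_lit 258), [])) (.leaf ((nat_lit 127), []))) (.node (nat_lit 1384) (.leaf ((nat_lit 246), [nat_lit 3])) (.leaf ((nat_lit 258), [nat_lit 3, nat_lit 1, nat_lit 3])))))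
 (.node (nat_lit 1389) (.node (nat_lit 1387) (.node (nat_lit 1386) (.leaf ((nat_lit 126), [])) (.leaf ((nat_lit 137), []))) (.node (nat_lit 1388) (.leaf ((nat_lit 155), [nat_lit 1])) (.leaf ((nat_lit 256), [nat_lit 3, nat_lit 1, nat_lit 3]))))
 (.node (nat_lit 1391) (.node (nat_lit 1390) (.leaf ((nat_lit 258), [nat_lit 3, nat_lit 1, nat_lit 3])) (.leaf ((nat_lit 259), []))) (.node (nat_lit 1392) (.leaf ((nat_lit 127), [])) (.node (nat_lit 1393) (.leaf ((nat_lit 128), [])) (.leaf ((nat_lit 138), [])))))))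
 (.node (nat_lit 1402) (.node (nat_lit 1398) (.node (nat_lit 1396) (.node (nat_lit 1395) (.leaf ((nat_lit 156), [nat_lit 1])) (.leaf ((nat_lit 255), [nat_lit 3, nat_lit 1, nat_lit 3]))) (.node (nat_lit 1397) (.leaf ((nat_lit 260), [])) (.leaf ((nat_lit 128), []))))
 (.node (nat_lit 1400) (.node (nat_lit 1399) (.leaf ((nat_lit 129), [])) (.leaf ((nat_lit 259), []))) (.node (nat_lit 1401) (.leaf ((nat_lit 139), [])) (.leaf ((nat_lit 157), [nat_lit 1])))))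
 (.node (nat_lit 1406) (.node (nat_lit 1404) (.node (nat_lit 1403) (.leaf ((nat_lit 200), [nat_lit 2, nat_lit 1, nat_lit 0, nat_lit 1])) (.leaf ((nat_lit 129), []))) (.node (nat_lit 1405) (.leaf ((nat_lit 139), [nat_lit 1])) (.leaf ((nat_lit 260), []))))
 (.node (nat_lit 1408) (.node (nat_lit 1407) (.leaf ((nat_lit 200), [nat_lit 3, nat_lit 0, nat_lit 3])) (.leaf ((nat_lit 255), []))) (.node (nat_lit 1409) (.leaf ((nat_lit 201), [nat_lit 0])) (.node (nat_lit 1410) (.leaf ((nat_lit 138), [nat_lit 3, nat_lit 1, nat_lit 3])) (.leaf ((nat_lit 201), [nat_lit 3, nat_lit 0, nat_lit 3]))))))))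
 (.node (nat_lit 1428) (.node (nat_lit 1419) (.node (nat_lit 1415) (.node (nat_lit 1413) (.node (nat_lit 1412) (.leaf ((nat_lit 131), [])) (.leaf ((nat_lit 133), [nat_lit 3, nat_lit 1, nat_lit 3]))) (.node (nat_lit 1414) (.leaf ((nat_lit 261), [])) (.leaf ((nat_lit 256), []))))
 (.node (nat_lit 1417) (.node (nat_lit 1416) (.leaf ((nat_lit 202), [nat_lit 0])) (.leaf ((nat_lit 137), [nat_lit 3, nat_lit 1, nat_lit 3]))) (.node (nat_lit 1418) (.leaf ((nat_lit 132), [])) (.leaf ((nat_lit 261), [])))))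
 (.node (nat_lit 1423) (.node (nat_lit 1421) (.node (nat_lit 1420) (.leaf ((nat_lit 132), [nat_lit 3, nat_lit 1, nat_lit 3])) (.leaf ((nat_lit 131), []))) (.node (nat_lit 1422) (.leaf ((nat_lit 257), [])) (.leaf ((nat_lit 160), [nat_lit 3, nat_lit 1, nat_lit 3]))))
 (.node (nat_lit 1425) (.node (nat_lit 1424) (.leaf ((nat_lit 135), [])) (.leaf ((nat_lit 262), []))) (.node (nat_lit 1426) (.leaf ((nat_lit 134), [])) (.node (nat_lit 1427) (.leaf ((nat_lit 257), [nat_lit 1])) (.leaf ((nat_lit 239), [nat_lit 3])))))))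
 (.node (nat_lit 1437) (.node (nat_lit 1432) (.node (nat_lit 1430) (.node (nat_lit 1429) (.leaf ((nat_lit 258), [])) (.leaf ((nat_lit 159), [nat_lit 3, nat_lit 1, nat_lit 3]))) (.node (nat_lit 1431) (.leaf ((nat_lit 136), [])) (.leaf ((nat_lit 137), [nat_lit 3, nat_lit 1, nat_lit 3]))))
 (.node (nat_lit 1434) (.node (nat_lit 1433) (.leaf ((nat_lit 239), [nat_lit 3])) (.leaf ((nat_lit 136), [nat_lit 3, nat_lit 1, nat_lit 3]))) (.node (nat_lit 1435) (.leaf ((nat_lit 134), [])) (.node (nat_lit 1436) (.leaf ((nat_lit 259), [])) (.leaf ((nat_lit 161), []))))))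
 (.node (nat_lit 1441) (.node (nat_lit 1439) (.node (nat_lit 1438) (.leaf ((nat_lit 261), [nat_lit 3, nat_lit 1, nat_lit 3])) (.leaf ((nat_lit 263), []))) (.node (nat_lit 1440) (.leaf ((nat_lit 137), [])) (.leaf ((nat_lit 205), [nat_lit 3, nat_lit 0, nat_lit 3]))))
 (.node (nat_lit 1443) (.node (nat_lit 1442) (.leaf ((nat_lit 138), [])) (.leaf ((nat_lit 260), []))) (.node (nat_lit 1444) (.leaf ((nat_lit 162), [])) (.node (nat_lit 1445) (.leaf ((nat_lit 206), [nat_lit 2, nat_lit 1, nat_lit 0, nat_lit 1])) (.leaf ((nat_lit 138), [])))))))))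
 (.node (nat_lit 1480) (.node (nat_lit 1463) (.node (nat_lit 1454) (.node (nat_lit 1450) (.node (nat_lit 1448) (.node (nat_lit 1447) (.leaf ((nat_lit 262), [nat_lit 3, nat_lit 1, nat_lit 3])) (.leaf ((nat_lit 139), []))) (.node (nat_lit 1449) (.leaf ((nat_lit 263), [])) (.leaf ((nat_lit 207), [nat_lit 1, nat_lit 0, nat_lit 1]))))
 (.node (nat_lit 1452) (.node (nat_lit 1451) (.leaf ((nat_lit 146), [nat_lit 3, nat_lit 1, nat_lit 3])) (.leaf ((nat_lit 140), []))) (.node (nat_lit 1453) (.leaf ((nat_lit 142), [nat_lit 3, nat_lit 1, nat_lit 3])) (.leaf ((nat_lit 207), [nat_lit 0])))))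
 (.node (nat_lit 1458) (.node (nat_lit 1456) (.node (nat_lit 1455) (.leaf ((nat_lit 264), [])) (.leaf ((nat_lit 140), [nat_lit 3, nat_lit 1, nat_lit 3]))) (.node (nat_lit 1457) (.leaf ((nat_lit 208), [nat_lit 1, nat_lit 0, nat_lit 1])) (.leaf ((nat_lit 145), []))))
 (.node (nat_lit 1460) (.node (nat_lit 1459) (.leaf ((nat_lit 264), [])) (.leaf ((nat_lit 141), []))) (.node (nat_lit 1461) (.leaf ((nat_lit 265), [])) (.node (nat_lit 1462) (.leaf ((nat_lit 140), [])) (.leaf ((nat_lit 266), [])))))))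
 (.node (nat_lit 1471) (.node (nat_lit 1467) (.node (nat_lit 1465) (.node (nat_lit 1464) (.leaf ((nat_lit 209), [nat_lit 1, nat_lit 0, nat_lit 1])) (.leaf ((nat_lit 147), []))) (.node (nat_lit 1466) (.leaf ((nat_lit 253), [nat_lit 1])) (.leaf ((nat_lit 266), []))))
 (.node (nat_lit 1469) (.node (nat_lit 1468) (.leaf ((nat_lit 209), [nat_lit 3, nat_lit 0, nat_lit 3])) (.leaf ((nat_lit 267), []))) (.node (nat_lit 1470) (.leaf ((nat_lit 141), [])) (.leaf ((nat_lit 210), [nat_lit 1, nat_lit 0, nat_lit 1])))))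
 (.node (nat_lit 1475) (.node (nat_lit 1473) (.node (nat_lit 1472) (.leaf ((nat_lit 148), [])) (.leaf ((nat_lit 252), [nat_lit 3, nat_lit 1, nat_lit 3, nat_lit 1]))) (.node (nat_lit 1474) (.leaf ((nat_lit 264), [nat_lit 3, nat_lit 1, nat_lit 3])) (.leaf ((nat_lit 268), []))))
 (.node (nat_lit 1477) (.node (nat_lit 1476) (.leaf ((nat_lit 142), [])) (.leaf ((nat_lit 267), []))) (.node (nat_lit 1478) (.leaf ((nat_lit 211), [nat_lit 1, nat_lit 0, nat_lit 1])) (.node (nat_lit 1479) (.leaf ((nat_lit 149), [])) (.leaf ((nat_lit 254), [nat_lit 1]))))))))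
 (.node (nat_lit 1497) (.node (nat_lit 1488) (.node (nat_lit 1484) (.node (nat_lit 1482) (.node (nat_lit 1481) (.leaf ((nat_lit 269), [])) (.leaf ((nat_lit 143), []))) (.node (nat_lit 1483) (.leaf ((nat_lit 268), [])) (.leaf ((nat_lit 211), [nat_lit 3, nat_lit 0, nat_lit 3]))))
 (.node (nat_lit 1486) (.node (nat_lit 1485) (.leaf ((nat_lit 231), [nat_lit 3, nat_lit 1, nat_lit 3, nat_lit 1])) (.leaf ((nat_lit 144), []))) (.node (nat_lit 1487) (.leaf ((nat_lit 146), [nat_lit 3, nat_lit 1, nat_lit 3])) (.leaf ((nat_lit 150), [])))))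
 (.node (nat_lit 1492) (.node (nat_lit 1490) (.node (nat_lit 1489) (.leaf ((nat_lit 212), [nat_lit 0])) (.leaf ((nat_lit 270), []))) (.node (nat_lit 1491) (.leaf ((nat_lit 144), [nat_lit 3, nat_lit 1, nat_lit 3])) (.leaf ((nat_lit 230), [nat_lit 1]))))
 (.node (nat_lit 1494) (.node (nat_lit 1493) (.leaf ((nat_lit 270), [])) (.leaf ((nat_lit 145), []))) (.node (nat_lit 1495) (.leaf ((nat_lit 151), [])) (.node (nat_lit 1496) (.leaf ((nat_lit 248), [nat_lit 3])) (.leaf ((nat_lit 144), [])))))))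
 (.node (nat_lit 1506) (.node (nat_lit 1501) (.node (nat_lit 1499) (.node (nat_lit 1498) (.leaf ((nat_lit 247), [nat_lit 3])) (.leaf ((nat_lit 232), [nat_lit 1]))) (.node (nat_lit 1500) (.leaf ((nat_lit 265), [])) (.leaf ((nat_lit 248), [nat_lit 3]))))
 (.node (nat_lit 1503) (.node (nat_lit 1502) (.leaf ((nat_lit 214), [nat_lit 3, nat_lit 0, nat_lit 3])) (.leaf ((nat_lit 145), []))) (.node (nat_lit 1504) (.leaf ((nat_lit 214), [nat_lit 0])) (.node (nat_lit 1505) (.leaf ((nat_lit 249), [nat_lit 3])) (.leaf ((nat_lit 233), [nat_lit 1]))))))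
 (.node (nat_lit 1510) (.node (nat_lit 1508) (.node (nat_lit 1507) (.leaf ((nat_lit 266), [])) (.leaf ((nat_lit 247), [nat_lit 3]))) (.node (nat_lit 1509) (.leaf ((nat_lit 147), [])) (.leaf ((nat_lit 249), [nat_lit 3]))))
 (.node (nat_lit 1512) (.node (nat_lit 1511) (.leaf ((nat_lit 271), [])) (.leaf ((nat_lit 145), []))) (.node (nat_lit 1513) (.leaf ((nat_lit 234), [nat_lit 1])) (.node (nat_lit 1514) (.leaf ((nat_lit 264), [nat_lit 3, nat_lit 1, nat_lit 3])) (.leaf ((nat_lit 270), [nat_lit 3, nat_lit 1, nat_lit 3]))))))))))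
noncomputable def bWd_11 : Tr (ℕ × List ℕ) := (.node (nat_lit 1584) (.node (nat_lit 1549) (.node (nat_lit 1532) (.node (nat_lit 1523) (.node (nat_lit 1519) (.node (nat_lit 1517) (.node (nat_lit 1516) (.leaf ((nat_lit 148), [])) (.leaf ((nat_lit 272), []))) (.node (nat_lit 1518) (.leaf ((nat_lit 146), [])) (.leaf ((nat_lit 271), []))))
 (.node (nat_lit 1521) (.node (nat_lit 1520) (.leaf ((nat_lit 235), [nat_lit 1])) (.leaf ((nat_lit 267), []))) (.node (nat_lit 1522) (.leaf ((nat_lit 155), [])) (.leaf ((nat_lit 271), [])))))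
 (.node (nat_lit 1527) (.node (nat_lit 1525) (.node (nat_lit 1524) (.leaf ((nat_lit 273), [])) (.leaf ((nat_lit 147), []))) (.node (nat_lit 1526) (.leaf ((nat_lit 148), [])) (.leaf ((nat_lit 236), [nat_lit 1]))))
 (.node (nat_lit 1529) (.node (nat_lit 1528) (.leaf ((nat_lit 268), [])) (.leaf ((nat_lit 156), []))) (.node (nat_lit 1530) (.leaf ((nat_lit 274), [])) (.node (nat_lit 1531) (.leaf ((nat_lit 148), [])) (.leaf ((nat_lit 149), [])))))))
 (.node (nat_lit 1540) (.node (nat_lit 1536) (.node (nat_lit 1534) (.node (nat_lit 1533) (.leaf ((nat_lit 273), [])) (.leaf ((nat_lit 237), [nat_lit 1]))) (.node (nat_lit 1535) (.leaf ((nat_lit 269), [])) (.leaf ((nat_lit 275), []))))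
 (.node (nat_lit 1538) (.node (nat_lit 1537) (.leaf ((nat_lit 149), [])) (.leaf ((nat_lit 219), [nat_lit 0]))) (.node (nat_lit 1539) (.leaf ((nat_lit 274), [])) (.leaf ((nat_lit 219), [nat_lit 3, nat_lit 0, nat_lit 3])))))
 (.node (nat_lit 1544) (.node (nat_lit 1542) (.node (nat_lit 1541) (.leaf ((nat_lit 240), [nat_lit 3, nat_lit 1, nat_lit 3, nat_lit 1])) (.leaf ((nat_lit 151), []))) (.node (nat_lit 1543) (.leaf ((nat_lit 154), [nat_lit 3, nat_lit 1, nat_lit 3])) (.leaf ((nat_lit 270), []))))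
 (.node (nat_lit 1546) (.node (nat_lit 1545) (.leaf ((nat_lit 241), [nat_lit 3])) (.leaf ((nat_lit 150), []))) (.node (nat_lit 1547) (.leaf ((nat_lit 242), [nat_lit 3])) (.node (nat_lit 1548) (.leaf ((nat_lit 241), [nat_lit 1])) (.leaf ((nat_lit 258), [nat_lit 3, nat_lit 1, nat_lit 3, nat_lit 1]))))))))
 (.node (nat_lit 1566) (.node (nat_lit 1557) (.node (nat_lit 1553) (.node (nat_lit 1551) (.node (nat_lit 1550) (.leaf ((nat_lit 242), [nat_lit 1, nat_lit 3])) (.leaf ((nat_lit 155), []))) (.node (nat_lit 1552) (.leaf ((nat_lit 240), [nat_lit 1, nat_lit 3])) (.leaf ((nat_lit 153), []))))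
 (.node (nat_lit 1555) (.node (nat_lit 1554) (.leaf ((nat_lit 154), [])) (.leaf ((nat_lit 242), [nat_lit 1]))) (.node (nat_lit 1556) (.leaf ((nat_lit 257), [nat_lit 3, nat_lit 1, nat_lit 3, nat_lit 1])) (.leaf ((nat_lit 241), [nat_lit 1, nat_lit 3])))))
 (.node (nat_lit 1561) (.node (nat_lit 1559) (.node (nat_lit 1558) (.leaf ((nat_lit 276), [])) (.leaf ((nat_lit 154), []))) (.node (nat_lit 1560) (.leaf ((nat_lit 160), [])) (.leaf ((nat_lit 240), [nat_lit 1, nat_lit 3]))))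
 (.node (nat_lit 1563) (.node (nat_lit 1562) (.leaf ((nat_lit 243), [nat_lit 1])) (.leaf ((nat_lit 259), [nat_lit 1]))) (.node (nat_lit 1564) (.leaf ((nat_lit 273), [])) (.node (nat_lit 1565) (.leaf ((nat_lit 277), [])) (.leaf ((nat_lit 155), [])))))))
 (.node (nat_lit 1575) (.node (nat_lit 1570) (.node (nat_lit 1568) (.node (nat_lit 1567) (.leaf ((nat_lit 223), [nat_lit 3, nat_lit 0, nat_lit 3])) (.leaf ((nat_lit 156), []))) (.node (nat_lit 1569) (.leaf ((nat_lit 244), [nat_lit 1])) (.leaf ((nat_lit 260), [nat_lit 1]))))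
 (.node (nat_lit 1572) (.node (nat_lit 1571) (.leaf ((nat_lit 278), [])) (.leaf ((nat_lit 156), []))) (.node (nat_lit 1573) (.leaf ((nat_lit 276), [])) (.node (nat_lit 1574) (.leaf ((nat_lit 157), [])) (.leaf ((nat_lit 277), []))))))
 (.node (nat_lit 1579) (.node (nat_lit 1577) (.node (nat_lit 1576) (.leaf ((nat_lit 245), [nat_lit 1])) (.leaf ((nat_lit 225), [nat_lit 2, nat_lit 1, nat_lit 0, nat_lit 1]))) (.node (nat_lit 1578) (.leaf ((nat_lit 157), [])) (.leaf ((nat_lit 275), []))))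
 (.node (nat_lit 1581) (.node (nat_lit 1580) (.leaf ((nat_lit 163), [])) (.leaf ((nat_lit 278), []))) (.node (nat_lit 1582) (.leaf ((nat_lit 225), [nat_lit 3, nat_lit 0, nat_lit 3])) (.node (nat_lit 1583) (.leaf ((nat_lit 247), [])) (.leaf ((nat_lit 262), [nat_lit 3, nat_lit 1, nat_lit 3])))))))))
 (.node (nat_lit 1618) (.node (nat_lit 1601) (.node (nat_lit 1592) (.node (nat_lit 1588) (.node (nat_lit 1586) (.node (nat_lit 1585) (.leaf ((nat_lit 233), [nat_lit 1, nat_lit 3])) (.leaf ((nat_lit 160), []))) (.node (nat_lit 1587) (.leaf ((nat_lit 162), [])) (.leaf ((nat_lit 276), []))))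
 (.node (nat_lit 1590) (.node (nat_lit 1589) (.leaf ((nat_lit 230), [nat_lit 1, nat_lit 3])) (.leaf ((nat_lit 248), []))) (.node (nat_lit 1591) (.leaf ((nat_lit 263), [])) (.leaf ((nat_lit 232), [nat_lit 1, nat_lit 3])))))
 (.node (nat_lit 1596) (.node (nat_lit 1594) (.node (nat_lit 1593) (.leaf ((nat_lit 161), [])) (.leaf ((nat_lit 230), [nat_lit 1, nat_lit 3]))) (.node (nat_lit 1595) (.leaf ((nat_lit 227), [nat_lit 3, nat_lit 0, nat_lit 3])) (.leaf ((nat_lit 162), []))))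
 (.node (nat_lit 1598) (.node (nat_lit 1597) (.leaf ((nat_lit 249), [])) (.leaf ((nat_lit 228), [nat_lit 2, nat_lit 1, nat_lit 0, nat_lit 1]))) (.node (nat_lit 1599) (.leaf ((nat_lit 162), [])) (.node (nat_lit 1600) (.leaf ((nat_lit 228), [nat_lit 0])) (.leaf ((nat_lit 233), [nat_lit 1, nat_lit 3])))))))
 (.node (nat_lit 1609) (.node (nat_lit 1605) (.node (nat_lit 1603) (.node (nat_lit 1602) (.leaf ((nat_lit 163), [])) (.leaf ((nat_lit 232), [nat_lit 1, nat_lit 3]))) (.node (nat_lit 1604) (.leaf ((nat_lit 279), [])) (.leaf ((nat_lit 164), []))))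
 (.node (nat_lit 1607) (.node (nat_lit 1606) (.leaf ((nat_lit 229), [nat_lit 0])) (.leaf ((nat_lit 170), []))) (.node (nat_lit 1608) (.leaf ((nat_lit 229), [nat_lit 1, nat_lit 0, nat_lit 1])) (.leaf ((nat_lit 280), [])))))
 (.node (nat_lit 1613) (.node (nat_lit 1611) (.node (nat_lit 1610) (.leaf ((nat_lit 279), [nat_lit 3, nat_lit 1, nat_lit 3])) (.leaf ((nat_lit 213), [nat_lit 1]))) (.node (nat_lit 1612) (.leaf ((nat_lit 280), [])) (.leaf ((nat_lit 165), []))))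
 (.node (nat_lit 1615) (.node (nat_lit 1614) (.leaf ((nat_lit 171), [])) (.leaf ((nat_lit 227), [nat_lit 3, nat_lit 1]))) (.node (nat_lit 1616) (.leaf ((nat_lit 164), [])) (.node (nat_lit 1617) (.leaf ((nat_lit 226), [nat_lit 3, nat_lit 1])) (.leaf ((nat_lit 212), [nat_lit 3, nat_lit 1, nat_lit 3, nat_lit 1]))))))))
 (.node (nat_lit 1635) (.node (nat_lit 1626) (.node (nat_lit 1622) (.node (nat_lit 1620) (.node (nat_lit 1619) (.leaf ((nat_lit 279), [nat_lit 3, nat_lit 1, nat_lit 3])) (.leaf ((nat_lit 166), []))) (.node (nat_lit 1621) (.leaf ((nat_lit 172), [])) (.leaf ((nat_lit 231), [nat_lit 1, nat_lit 0, nat_lit 1]))))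
 (.node (nat_lit 1624) (.node (nat_lit 1623) (.leaf ((nat_lit 281), [])) (.leaf ((nat_lit 164), []))) (.node (nat_lit 1625) (.leaf ((nat_lit 214), [nat_lit 1])) (.leaf ((nat_lit 232), [nat_lit 0])))))
 (.node (nat_lit 1630) (.node (nat_lit 1628) (.node (nat_lit 1627) (.leaf ((nat_lit 227), [nat_lit 3, nat_lit 1])) (.leaf ((nat_lit 232), [nat_lit 3, nat_lit 0, nat_lit 3]))) (.node (nat_lit 1629) (.leaf ((nat_lit 165), [])) (.leaf ((nat_lit 232), [nat_lit 1, nat_lit 0, nat_lit 1]))))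
 (.node (nat_lit 1632) (.node (nat_lit 1631) (.leaf ((nat_lit 228), [nat_lit 3, nat_lit 1])) (.leaf ((nat_lit 215), [nat_lit 1]))) (.node (nat_lit 1633) (.leaf ((nat_lit 233), [nat_lit 0])) (.node (nat_lit 1634) (.leaf ((nat_lit 226), [nat_lit 3, nat_lit 1])) (.leaf ((nat_lit 167), [])))))))
 (.node (nat_lit 1644) (.node (nat_lit 1639) (.node (nat_lit 1637) (.node (nat_lit 1636) (.leaf ((nat_lit 228), [nat_lit 3, nat_lit 1])) (.leaf ((nat_lit 282), []))) (.node (nat_lit 1638) (.leaf ((nat_lit 165), [])) (.leaf ((nat_lit 216), [nat_lit 1]))))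
 (.node (nat_lit 1641) (.node (nat_lit 1640) (.leaf ((nat_lit 234), [nat_lit 0])) (.leaf ((nat_lit 281), []))) (.node (nat_lit 1642) (.leaf ((nat_lit 168), [])) (.node (nat_lit 1643) (.leaf ((nat_lit 283), [])) (.leaf ((nat_lit 166), []))))))
 (.node (nat_lit 1648) (.node (nat_lit 1646) (.node (nat_lit 1645) (.leaf ((nat_lit 282), [])) (.leaf ((nat_lit 217), [nat_lit 1]))) (.node (nat_lit 1647) (.leaf ((nat_lit 235), [nat_lit 0])) (.leaf ((nat_lit 176), []))))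
 (.node (nat_lit 1650) (.node (nat_lit 1649) (.leaf ((nat_lit 282), [])) (.leaf ((nat_lit 284), []))) (.node (nat_lit 1651) (.leaf ((nat_lit 167), [])) (.node (nat_lit 1652) (.leaf ((nat_lit 168), [])) (.leaf ((nat_lit 218), [nat_lit 1]))))))))))
noncomputable def bWd_12 : Tr (ℕ × List ℕ) := (.node (nat_lit 1722) (.node (nat_lit 1687) (.node (nat_lit 1670) (.node (nat_lit 1661) (.node (nat_lit 1657) (.node (nat_lit 1655) (.node (nat_lit 1654) (.leaf ((nat_lit 236), [nat_lit 0])) (.leaf ((nat_lit 177), []))) (.node (nat_lit 1656) (.leaf ((nat_lit 285), [])) (.leaf ((nat_lit 168), []))))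
 (.node (nat_lit 1659) (.node (nat_lit 1658) (.leaf ((nat_lit 169), [])) (.leaf ((nat_lit 284), []))) (.node (nat_lit 1660) (.leaf ((nat_lit 219), [nat_lit 1])) (.leaf ((nat_lit 237), [nat_lit 0])))))
 (.node (nat_lit 1665) (.node (nat_lit 1663) (.node (nat_lit 1662) (.leaf ((nat_lit 286), [])) (.leaf ((nat_lit 169), []))) (.node (nat_lit 1664) (.leaf ((nat_lit 237), [nat_lit 1, nat_lit 0, nat_lit 1])) (.leaf ((nat_lit 285), []))))
 (.node (nat_lit 1667) (.node (nat_lit 1666) (.leaf ((nat_lit 237), [nat_lit 3, nat_lit 0, nat_lit 3])) (.leaf ((nat_lit 170), []))) (.node (nat_lit 1668) (.leaf ((nat_lit 172), [nat_lit 3, nat_lit 1, nat_lit 3])) (.node (nat_lit 1669) (.leaf ((nat_lit 179), [])) (.leaf ((nat_lit 279), [])))))))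
 (.node (nat_lit 1678) (.node (nat_lit 1674) (.node (nat_lit 1672) (.node (nat_lit 1671) (.leaf ((nat_lit 179), [nat_lit 1])) (.leaf ((nat_lit 287), []))) (.node (nat_lit 1673) (.leaf ((nat_lit 170), [nat_lit 3, nat_lit 1, nat_lit 3])) (.leaf ((nat_lit 287), []))))
 (.node (nat_lit 1676) (.node (nat_lit 1675) (.leaf ((nat_lit 171), [])) (.leaf ((nat_lit 180), []))) (.node (nat_lit 1677) (.leaf ((nat_lit 280), [])) (.leaf ((nat_lit 204), [nat_lit 3])))))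
 (.node (nat_lit 1682) (.node (nat_lit 1680) (.node (nat_lit 1679) (.leaf ((nat_lit 170), [])) (.leaf ((nat_lit 203), [nat_lit 3]))) (.node (nat_lit 1681) (.leaf ((nat_lit 220), [nat_lit 3, nat_lit 1, nat_lit 3, nat_lit 1])) (.leaf ((nat_lit 287), [nat_lit 3, nat_lit 1, nat_lit 3]))))
 (.node (nat_lit 1684) (.node (nat_lit 1683) (.leaf ((nat_lit 175), [])) (.leaf ((nat_lit 281), []))) (.node (nat_lit 1685) (.leaf ((nat_lit 221), [nat_lit 3, nat_lit 1])) (.node (nat_lit 1686) (.leaf ((nat_lit 172), [])) (.leaf ((nat_lit 222), [nat_lit 3, nat_lit 1]))))))))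
 (.node (nat_lit 1704) (.node (nat_lit 1695) (.node (nat_lit 1691) (.node (nat_lit 1689) (.node (nat_lit 1688) (.leaf ((nat_lit 221), [nat_lit 1])) (.leaf ((nat_lit 182), []))) (.node (nat_lit 1690) (.leaf ((nat_lit 222), [nat_lit 3, nat_lit 1])) (.leaf ((nat_lit 176), []))))
 (.node (nat_lit 1693) (.node (nat_lit 1692) (.leaf ((nat_lit 220), [nat_lit 3])) (.leaf ((nat_lit 174), []))) (.node (nat_lit 1694) (.leaf ((nat_lit 175), [])) (.leaf ((nat_lit 222), [nat_lit 1])))))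
 (.node (nat_lit 1699) (.node (nat_lit 1697) (.node (nat_lit 1696) (.leaf ((nat_lit 183), [])) (.leaf ((nat_lit 221), [nat_lit 3, nat_lit 1]))) (.node (nat_lit 1698) (.leaf ((nat_lit 288), [])) (.leaf ((nat_lit 175), []))))
 (.node (nat_lit 1701) (.node (nat_lit 1700) (.leaf ((nat_lit 183), [nat_lit 1])) (.leaf ((nat_lit 220), [nat_lit 3]))) (.node (nat_lit 1702) (.leaf ((nat_lit 223), [nat_lit 1])) (.node (nat_lit 1703) (.leaf ((nat_lit 184), [])) (.leaf ((nat_lit 284), [])))))))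
 (.node (nat_lit 1713) (.node (nat_lit 1708) (.node (nat_lit 1706) (.node (nat_lit 1705) (.leaf ((nat_lit 289), [])) (.leaf ((nat_lit 176), []))) (.node (nat_lit 1707) (.leaf ((nat_lit 243), [nat_lit 3, nat_lit 0, nat_lit 3])) (.leaf ((nat_lit 177), []))))
 (.node (nat_lit 1710) (.node (nat_lit 1709) (.leaf ((nat_lit 224), [nat_lit 1])) (.leaf ((nat_lit 185), []))) (.node (nat_lit 1711) (.leaf ((nat_lit 290), [])) (.node (nat_lit 1712) (.leaf ((nat_lit 177), [])) (.leaf ((nat_lit 288), []))))))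
 (.node (nat_lit 1717) (.node (nat_lit 1715) (.node (nat_lit 1714) (.leaf ((nat_lit 178), [])) (.leaf ((nat_lit 289), []))) (.node (nat_lit 1716) (.leaf ((nat_lit 225), [nat_lit 1])) (.leaf ((nat_lit 291), []))))
 (.node (nat_lit 1719) (.node (nat_lit 1718) (.leaf ((nat_lit 178), [])) (.leaf ((nat_lit 286), []))) (.node (nat_lit 1720) (.leaf ((nat_lit 186), [nat_lit 1])) (.node (nat_lit 1721) (.leaf ((nat_lit 290), [])) (.leaf ((nat_lit 245), [nat_lit 3, nat_lit 0, nat_lit 3])))))))))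
 (.node (nat_lit 1756) (.node (nat_lit 1739) (.node (nat_lit 1730) (.node (nat_lit 1726) (.node (nat_lit 1724) (.node (nat_lit 1723) (.leaf ((nat_lit 180), [])) (.leaf ((nat_lit 181), [nat_lit 3, nat_lit 1, nat_lit 3]))) (.node (nat_lit 1725) (.leaf ((nat_lit 287), [])) (.leaf ((nat_lit 246), [nat_lit 0]))))
 (.node (nat_lit 1728) (.node (nat_lit 1727) (.leaf ((nat_lit 197), [nat_lit 3])) (.leaf ((nat_lit 179), []))) (.node (nat_lit 1729) (.leaf ((nat_lit 196), [nat_lit 3])) (.leaf ((nat_lit 226), [])))))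
 (.node (nat_lit 1734) (.node (nat_lit 1732) (.node (nat_lit 1731) (.leaf ((nat_lit 288), [])) (.leaf ((nat_lit 215), [nat_lit 3]))) (.node (nat_lit 1733) (.leaf ((nat_lit 183), [])) (.leaf ((nat_lit 185), []))))
 (.node (nat_lit 1736) (.node (nat_lit 1735) (.leaf ((nat_lit 288), [nat_lit 1])) (.leaf ((nat_lit 213), [nat_lit 3]))) (.node (nat_lit 1737) (.leaf ((nat_lit 227), [])) (.node (nat_lit 1738) (.leaf ((nat_lit 289), [])) (.leaf ((nat_lit 214), [nat_lit 3])))))))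
 (.node (nat_lit 1747) (.node (nat_lit 1743) (.node (nat_lit 1741) (.node (nat_lit 1740) (.leaf ((nat_lit 184), [])) (.leaf ((nat_lit 213), [nat_lit 3]))) (.node (nat_lit 1742) (.leaf ((nat_lit 248), [nat_lit 3, nat_lit 0, nat_lit 3])) (.leaf ((nat_lit 185), []))))
 (.node (nat_lit 1745) (.node (nat_lit 1744) (.leaf ((nat_lit 228), [])) (.leaf ((nat_lit 292), []))) (.node (nat_lit 1746) (.leaf ((nat_lit 185), [])) (.leaf ((nat_lit 249), [nat_lit 0])))))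
 (.node (nat_lit 1751) (.node (nat_lit 1749) (.node (nat_lit 1748) (.leaf ((nat_lit 215), [nat_lit 3])) (.leaf ((nat_lit 186), []))) (.node (nat_lit 1750) (.leaf ((nat_lit 214), [nat_lit 3])) (.leaf ((nat_lit 250), [nat_lit 2, nat_lit 1, nat_lit 0, nat_lit 1]))))
 (.node (nat_lit 1753) (.node (nat_lit 1752) (.leaf ((nat_lit 186), [])) (.leaf ((nat_lit 291), []))) (.node (nat_lit 1754) (.leaf ((nat_lit 250), [nat_lit 0])) (.node (nat_lit 1755) (.leaf ((nat_lit 291), [nat_lit 1])) (.leaf ((nat_lit 292), []))))))))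
 (.node (nat_lit 1773) (.node (nat_lit 1764) (.node (nat_lit 1760) (.node (nat_lit 1758) (.node (nat_lit 1757) (.leaf ((nat_lit 250), [nat_lit 3, nat_lit 0, nat_lit 3])) (.leaf ((nat_lit 251), [nat_lit 0]))) (.node (nat_lit 1759) (.leaf ((nat_lit 191), [])) (.leaf ((nat_lit 251), [nat_lit 1, nat_lit 0, nat_lit 1]))))
 (.node (nat_lit 1762) (.node (nat_lit 1761) (.leaf ((nat_lit 190), [nat_lit 3, nat_lit 1, nat_lit 3])) (.leaf ((nat_lit 251), [nat_lit 3, nat_lit 0, nat_lit 3]))) (.node (nat_lit 1763) (.leaf ((nat_lit 187), [])) (.leaf ((nat_lit 251), [nat_lit 2, nat_lit 1, nat_lit 0, nat_lit 1])))))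
 (.node (nat_lit 1768) (.node (nat_lit 1766) (.node (nat_lit 1765) (.leaf ((nat_lit 252), [nat_lit 0])) (.leaf ((nat_lit 192), []))) (.node (nat_lit 1767) (.leaf ((nat_lit 210), [nat_lit 3, nat_lit 1, nat_lit 3, nat_lit 1])) (.leaf ((nat_lit 189), []))))
 (.node (nat_lit 1770) (.node (nat_lit 1769) (.leaf ((nat_lit 293), [])) (.leaf ((nat_lit 188), []))) (.node (nat_lit 1771) (.leaf ((nat_lit 294), [])) (.node (nat_lit 1772) (.leaf ((nat_lit 253), [nat_lit 0])) (.leaf ((nat_lit 193), [])))))))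
 (.node (nat_lit 1782) (.node (nat_lit 1777) (.node (nat_lit 1775) (.node (nat_lit 1774) (.leaf ((nat_lit 209), [nat_lit 1])) (.leaf ((nat_lit 294), []))) (.node (nat_lit 1776) (.leaf ((nat_lit 253), [nat_lit 3, nat_lit 0, nat_lit 3])) (.leaf ((nat_lit 294), [nat_lit 3, nat_lit 1, nat_lit 3]))))
 (.node (nat_lit 1779) (.node (nat_lit 1778) (.leaf ((nat_lit 189), [])) (.leaf ((nat_lit 254), [nat_lit 0]))) (.node (nat_lit 1780) (.leaf ((nat_lit 194), [])) (.node (nat_lit 1781) (.leaf ((nat_lit 211), [nat_lit 1])) (.leaf ((nat_lit 254), [nat_lit 2, nat_lit 1, nat_lit 0, nat_lit 1]))))))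
 (.node (nat_lit 1786) (.node (nat_lit 1784) (.node (nat_lit 1783) (.leaf ((nat_lit 190), [])) (.leaf ((nat_lit 293), [nat_lit 3, nat_lit 1, nat_lit 3]))) (.node (nat_lit 1785) (.leaf ((nat_lit 254), [nat_lit 3, nat_lit 0, nat_lit 3])) (.leaf ((nat_lit 201), []))))
 (.node (nat_lit 1788) (.node (nat_lit 1787) (.leaf ((nat_lit 293), [])) (.leaf ((nat_lit 199), [nat_lit 3, nat_lit 1, nat_lit 3]))) (.node (nat_lit 1789) (.leaf ((nat_lit 255), [nat_lit 3, nat_lit 0, nat_lit 3])) (.node (nat_lit 1790) (.leaf ((nat_lit 192), [])) (.leaf ((nat_lit 194), [nat_lit 3, nat_lit 1, nat_lit 3]))))))))))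
noncomputable def bWd_13 : Tr (ℕ × List ℕ) := (.node (nat_lit 1860) (.node (nat_lit 1825) (.node (nat_lit 1808) (.node (nat_lit 1799) (.node (nat_lit 1795) (.node (nat_lit 1793) (.node (nat_lit 1792) (.leaf ((nat_lit 295), [])) (.leaf ((nat_lit 202), []))) (.node (nat_lit 1794) (.leaf ((nat_lit 294), [])) (.leaf ((nat_lit 198), [nat_lit 3, nat_lit 1, nat_lit 3]))))
 (.node (nat_lit 1797) (.node (nat_lit 1796) (.leaf ((nat_lit 193), [])) (.leaf ((nat_lit 295), []))) (.node (nat_lit 1798) (.leaf ((nat_lit 193), [nat_lit 3, nat_lit 1, nat_lit 3])) (.leaf ((nat_lit 192), [])))))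
 (.node (nat_lit 1803) (.node (nat_lit 1801) (.node (nat_lit 1800) (.leaf ((nat_lit 203), [])) (.leaf ((nat_lit 222), [nat_lit 3, nat_lit 1, nat_lit 3, nat_lit 1]))) (.node (nat_lit 1802) (.leaf ((nat_lit 196), [])) (.leaf ((nat_lit 296), []))))
 (.node (nat_lit 1805) (.node (nat_lit 1804) (.leaf ((nat_lit 195), [])) (.leaf ((nat_lit 203), [nat_lit 1]))) (.node (nat_lit 1806) (.leaf ((nat_lit 287), [nat_lit 3])) (.node (nat_lit 1807) (.leaf ((nat_lit 204), [])) (.leaf ((nat_lit 221), [nat_lit 3, nat_lit 1, nat_lit 3, nat_lit 1])))))))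
 (.node (nat_lit 1816) (.node (nat_lit 1812) (.node (nat_lit 1810) (.node (nat_lit 1809) (.leaf ((nat_lit 197), [])) (.leaf ((nat_lit 198), [nat_lit 3, nat_lit 1, nat_lit 3]))) (.node (nat_lit 1811) (.leaf ((nat_lit 287), [nat_lit 3])) (.leaf ((nat_lit 197), [nat_lit 3, nat_lit 1, nat_lit 3]))))
 (.node (nat_lit 1814) (.node (nat_lit 1813) (.leaf ((nat_lit 195), [])) (.leaf ((nat_lit 205), []))) (.node (nat_lit 1815) (.leaf ((nat_lit 223), [nat_lit 1])) (.leaf ((nat_lit 295), [nat_lit 3, nat_lit 1, nat_lit 3])))))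
 (.node (nat_lit 1820) (.node (nat_lit 1818) (.node (nat_lit 1817) (.leaf ((nat_lit 297), [])) (.leaf ((nat_lit 198), []))) (.node (nat_lit 1819) (.leaf ((nat_lit 259), [nat_lit 3, nat_lit 0, nat_lit 3])) (.leaf ((nat_lit 199), []))))
 (.node (nat_lit 1822) (.node (nat_lit 1821) (.leaf ((nat_lit 206), [])) (.leaf ((nat_lit 224), [nat_lit 1]))) (.node (nat_lit 1823) (.leaf ((nat_lit 260), [nat_lit 2, nat_lit 1, nat_lit 0, nat_lit 1])) (.node (nat_lit 1824) (.leaf ((nat_lit 199), [])) (.leaf ((nat_lit 296), [nat_lit 3, nat_lit 1, nat_lit 3]))))))))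
 (.node (nat_lit 1842) (.node (nat_lit 1833) (.node (nat_lit 1829) (.node (nat_lit 1827) (.node (nat_lit 1826) (.leaf ((nat_lit 200), [])) (.leaf ((nat_lit 297), []))) (.node (nat_lit 1828) (.leaf ((nat_lit 295), [])) (.leaf ((nat_lit 261), [nat_lit 0]))))
 (.node (nat_lit 1831) (.node (nat_lit 1830) (.leaf ((nat_lit 205), [nat_lit 3, nat_lit 1, nat_lit 3])) (.leaf ((nat_lit 261), [nat_lit 3, nat_lit 0, nat_lit 3]))) (.node (nat_lit 1832) (.leaf ((nat_lit 202), [])) (.leaf ((nat_lit 261), [nat_lit 2, nat_lit 1, nat_lit 0, nat_lit 1])))))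
 (.node (nat_lit 1837) (.node (nat_lit 1835) (.node (nat_lit 1834) (.leaf ((nat_lit 201), [])) (.leaf ((nat_lit 296), []))) (.node (nat_lit 1836) (.leaf ((nat_lit 226), [nat_lit 3, nat_lit 1, nat_lit 3])) (.leaf ((nat_lit 262), [nat_lit 3, nat_lit 0, nat_lit 3]))))
 (.node (nat_lit 1839) (.node (nat_lit 1838) (.leaf ((nat_lit 203), [])) (.leaf ((nat_lit 206), [nat_lit 3, nat_lit 1, nat_lit 3]))) (.node (nat_lit 1840) (.leaf ((nat_lit 296), [nat_lit 1])) (.node (nat_lit 1841) (.leaf ((nat_lit 280), [nat_lit 3])) (.leaf ((nat_lit 297), [])))))))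
 (.node (nat_lit 1851) (.node (nat_lit 1846) (.node (nat_lit 1844) (.node (nat_lit 1843) (.leaf ((nat_lit 227), [])) (.leaf ((nat_lit 263), [nat_lit 2, nat_lit 1, nat_lit 0, nat_lit 1]))) (.node (nat_lit 1845) (.leaf ((nat_lit 205), [])) (.leaf ((nat_lit 280), [nat_lit 1, nat_lit 3]))))
 (.node (nat_lit 1848) (.node (nat_lit 1847) (.leaf ((nat_lit 263), [nat_lit 3, nat_lit 0, nat_lit 3])) (.leaf ((nat_lit 206), []))) (.node (nat_lit 1849) (.leaf ((nat_lit 264), [nat_lit 1, nat_lit 0, nat_lit 1])) (.node (nat_lit 1850) (.leaf ((nat_lit 216), [nat_lit 3, nat_lit 1, nat_lit 3])) (.leaf ((nat_lit 208), []))))))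
 (.node (nat_lit 1855) (.node (nat_lit 1853) (.node (nat_lit 1852) (.leaf ((nat_lit 210), [nat_lit 3, nat_lit 1, nat_lit 3])) (.leaf ((nat_lit 298), []))) (.node (nat_lit 1854) (.leaf ((nat_lit 207), [])) (.leaf ((nat_lit 299), []))))
 (.node (nat_lit 1857) (.node (nat_lit 1856) (.leaf ((nat_lit 265), [nat_lit 1, nat_lit 0, nat_lit 1])) (.leaf ((nat_lit 214), []))) (.node (nat_lit 1858) (.leaf ((nat_lit 298), [])) (.node (nat_lit 1859) (.leaf ((nat_lit 265), [nat_lit 3, nat_lit 0, nat_lit 3])) (.leaf ((nat_lit 208), [])))))))))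
 (.node (nat_lit 1894) (.node (nat_lit 1877) (.node (nat_lit 1868) (.node (nat_lit 1864) (.node (nat_lit 1862) (.node (nat_lit 1861) (.leaf ((nat_lit 265), [nat_lit 0])) (.leaf ((nat_lit 292), [nat_lit 3]))) (.node (nat_lit 1863) (.leaf ((nat_lit 266), [nat_lit 1, nat_lit 0, nat_lit 1])) (.leaf ((nat_lit 215), []))))
 (.node (nat_lit 1866) (.node (nat_lit 1865) (.leaf ((nat_lit 299), [])) (.leaf ((nat_lit 209), []))) (.node (nat_lit 1867) (.leaf ((nat_lit 292), [nat_lit 3])) (.leaf ((nat_lit 299), [nat_lit 3, nat_lit 1, nat_lit 3])))))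
 (.node (nat_lit 1872) (.node (nat_lit 1870) (.node (nat_lit 1869) (.leaf ((nat_lit 208), [])) (.leaf ((nat_lit 267), [nat_lit 1, nat_lit 0, nat_lit 1]))) (.node (nat_lit 1871) (.leaf ((nat_lit 217), [])) (.leaf ((nat_lit 294), [nat_lit 3, nat_lit 1, nat_lit 3, nat_lit 1]))))
 (.node (nat_lit 1874) (.node (nat_lit 1873) (.leaf ((nat_lit 299), [nat_lit 3, nat_lit 1, nat_lit 3])) (.leaf ((nat_lit 300), []))) (.node (nat_lit 1875) (.leaf ((nat_lit 209), [])) (.node (nat_lit 1876) (.leaf ((nat_lit 210), [])) (.leaf ((nat_lit 268), [nat_lit 1, nat_lit 0, nat_lit 1])))))))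
 (.node (nat_lit 1885) (.node (nat_lit 1881) (.node (nat_lit 1879) (.node (nat_lit 1878) (.leaf ((nat_lit 218), [])) (.leaf ((nat_lit 293), [nat_lit 3, nat_lit 1, nat_lit 3, nat_lit 1]))) (.node (nat_lit 1880) (.leaf ((nat_lit 301), [])) (.leaf ((nat_lit 210), []))))
 (.node (nat_lit 1883) (.node (nat_lit 1882) (.leaf ((nat_lit 211), [])) (.leaf ((nat_lit 300), []))) (.node (nat_lit 1884) (.leaf ((nat_lit 269), [nat_lit 1, nat_lit 0, nat_lit 1])) (.leaf ((nat_lit 219), [])))))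
 (.node (nat_lit 1889) (.node (nat_lit 1887) (.node (nat_lit 1886) (.leaf ((nat_lit 269), [nat_lit 2, nat_lit 1, nat_lit 0, nat_lit 1])) (.leaf ((nat_lit 211), []))) (.node (nat_lit 1888) (.leaf ((nat_lit 269), [nat_lit 0])) (.leaf ((nat_lit 301), []))))
 (.node (nat_lit 1891) (.node (nat_lit 1890) (.leaf ((nat_lit 269), [nat_lit 3, nat_lit 0, nat_lit 3])) (.leaf ((nat_lit 281), [nat_lit 3, nat_lit 1, nat_lit 3, nat_lit 1]))) (.node (nat_lit 1892) (.leaf ((nat_lit 213), [])) (.node (nat_lit 1893) (.leaf ((nat_lit 216), [nat_lit 3, nat_lit 1, nat_lit 3])) (.leaf ((nat_lit 220), []))))))))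
 (.node (nat_lit 1911) (.node (nat_lit 1902) (.node (nat_lit 1898) (.node (nat_lit 1896) (.node (nat_lit 1895) (.leaf ((nat_lit 289), [nat_lit 3])) (.leaf ((nat_lit 212), []))) (.node (nat_lit 1897) (.leaf ((nat_lit 288), [nat_lit 3])) (.leaf ((nat_lit 282), [nat_lit 1]))))
 (.node (nat_lit 1900) (.node (nat_lit 1899) (.leaf ((nat_lit 299), [nat_lit 3, nat_lit 1, nat_lit 3])) (.leaf ((nat_lit 288), [nat_lit 1, nat_lit 3]))) (.node (nat_lit 1901) (.leaf ((nat_lit 217), [])) (.leaf ((nat_lit 290), [nat_lit 1, nat_lit 3])))))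
 (.node (nat_lit 1906) (.node (nat_lit 1904) (.node (nat_lit 1903) (.leaf ((nat_lit 215), [])) (.leaf ((nat_lit 216), []))) (.node (nat_lit 1905) (.leaf ((nat_lit 283), [nat_lit 1])) (.leaf ((nat_lit 298), [nat_lit 3, nat_lit 1, nat_lit 3]))))
 (.node (nat_lit 1908) (.node (nat_lit 1907) (.leaf ((nat_lit 289), [nat_lit 1, nat_lit 3])) (.leaf ((nat_lit 302), []))) (.node (nat_lit 1909) (.leaf ((nat_lit 216), [])) (.node (nat_lit 1910) (.leaf ((nat_lit 272), [nat_lit 0])) (.leaf ((nat_lit 290), [nat_lit 1, nat_lit 3])))))))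
 (.node (nat_lit 1920) (.node (nat_lit 1915) (.node (nat_lit 1913) (.node (nat_lit 1912) (.leaf ((nat_lit 284), [nat_lit 1])) (.leaf ((nat_lit 300), []))) (.node (nat_lit 1914) (.leaf ((nat_lit 223), [])) (.leaf ((nat_lit 303), []))))
 (.node (nat_lit 1917) (.node (nat_lit 1916) (.leaf ((nat_lit 217), [])) (.leaf ((nat_lit 273), [nat_lit 3, nat_lit 0, nat_lit 3]))) (.node (nat_lit 1918) (.leaf ((nat_lit 218), [])) (.node (nat_lit 1919) (.leaf ((nat_lit 285), [nat_lit 1])) (.leaf ((nat_lit 301), []))))))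
 (.node (nat_lit 1924) (.node (nat_lit 1922) (.node (nat_lit 1921) (.leaf ((nat_lit 304), [])) (.leaf ((nat_lit 218), []))) (.node (nat_lit 1923) (.leaf ((nat_lit 302), [])) (.leaf ((nat_lit 219), []))))
 (.node (nat_lit 1926) (.node (nat_lit 1925) (.leaf ((nat_lit 303), [])) (.leaf ((nat_lit 286), [nat_lit 1]))) (.node (nat_lit 1927) (.leaf ((nat_lit 275), [nat_lit 2, nat_lit 1, nat_lit 0, nat_lit 1])) (.node (nat_lit 1928) (.leaf ((nat_lit 219), [])) (.leaf ((nat_lit 225), []))))))))))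
noncomputable def bWd_14 : Tr (ℕ × List ℕ) := (.node (nat_lit 1998) (.node (nat_lit 1963) (.node (nat_lit 1946) (.node (nat_lit 1937) (.node (nat_lit 1933) (.node (nat_lit 1931) (.node (nat_lit 1930) (.leaf ((nat_lit 275), [nat_lit 0])) (.leaf ((nat_lit 304), []))) (.node (nat_lit 1932) (.leaf ((nat_lit 275), [nat_lit 3, nat_lit 0, nat_lit 3])) (.leaf ((nat_lit 288), [nat_lit 1]))))
 (.node (nat_lit 1935) (.node (nat_lit 1934) (.leaf ((nat_lit 296), [nat_lit 3, nat_lit 1, nat_lit 3, nat_lit 1])) (.leaf ((nat_lit 282), [nat_lit 1, nat_lit 3]))) (.node (nat_lit 1936) (.leaf ((nat_lit 222), [])) (.leaf ((nat_lit 224), [])))))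
 (.node (nat_lit 1941) (.node (nat_lit 1939) (.node (nat_lit 1938) (.leaf ((nat_lit 226), [])) (.leaf ((nat_lit 281), [nat_lit 1, nat_lit 3]))) (.node (nat_lit 1940) (.leaf ((nat_lit 289), [nat_lit 1])) (.leaf ((nat_lit 297), [nat_lit 1]))))
 (.node (nat_lit 1943) (.node (nat_lit 1942) (.leaf ((nat_lit 283), [nat_lit 1, nat_lit 3])) (.leaf ((nat_lit 223), []))) (.node (nat_lit 1944) (.leaf ((nat_lit 281), [nat_lit 1, nat_lit 3])) (.node (nat_lit 1945) (.leaf ((nat_lit 277), [nat_lit 3, nat_lit 0, nat_lit 3])) (.leaf ((nat_lit 224), [])))))))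
 (.node (nat_lit 1954) (.node (nat_lit 1950) (.node (nat_lit 1948) (.node (nat_lit 1947) (.leaf ((nat_lit 290), [nat_lit 1])) (.leaf ((nat_lit 278), [nat_lit 2, nat_lit 1, nat_lit 0, nat_lit 1]))) (.node (nat_lit 1949) (.leaf ((nat_lit 224), [])) (.leaf ((nat_lit 304), []))))
 (.node (nat_lit 1952) (.node (nat_lit 1951) (.leaf ((nat_lit 282), [nat_lit 1, nat_lit 3])) (.leaf ((nat_lit 225), []))) (.node (nat_lit 1953) (.leaf ((nat_lit 283), [nat_lit 1, nat_lit 3])) (.leaf ((nat_lit 229), [])))))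
 (.node (nat_lit 1958) (.node (nat_lit 1956) (.node (nat_lit 1955) (.leaf ((nat_lit 231), [nat_lit 3, nat_lit 1, nat_lit 3])) (.leaf ((nat_lit 279), [nat_lit 0]))) (.node (nat_lit 1957) (.leaf ((nat_lit 238), [])) (.leaf ((nat_lit 279), [nat_lit 1, nat_lit 0, nat_lit 1]))))
 (.node (nat_lit 1960) (.node (nat_lit 1959) (.leaf ((nat_lit 305), [])) (.leaf ((nat_lit 229), [nat_lit 3, nat_lit 1, nat_lit 3]))) (.node (nat_lit 1961) (.leaf ((nat_lit 305), [])) (.node (nat_lit 1962) (.leaf ((nat_lit 230), [])) (.leaf ((nat_lit 280), [nat_lit 0]))))))))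
 (.node (nat_lit 1980) (.node (nat_lit 1971) (.node (nat_lit 1967) (.node (nat_lit 1965) (.node (nat_lit 1964) (.leaf ((nat_lit 239), [])) (.leaf ((nat_lit 263), [nat_lit 3, nat_lit 1]))) (.node (nat_lit 1966) (.leaf ((nat_lit 229), [])) (.leaf ((nat_lit 262), [nat_lit 3]))))
 (.node (nat_lit 1969) (.node (nat_lit 1968) (.leaf ((nat_lit 270), [nat_lit 3, nat_lit 1, nat_lit 3, nat_lit 1])) (.leaf ((nat_lit 305), [nat_lit 3, nat_lit 1, nat_lit 3]))) (.node (nat_lit 1970) (.leaf ((nat_lit 234), [])) (.leaf ((nat_lit 240), [])))))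
 (.node (nat_lit 1975) (.node (nat_lit 1973) (.node (nat_lit 1972) (.leaf ((nat_lit 277), [nat_lit 3, nat_lit 1])) (.leaf ((nat_lit 231), []))) (.node (nat_lit 1974) (.leaf ((nat_lit 276), [nat_lit 3, nat_lit 1])) (.leaf ((nat_lit 271), [nat_lit 1]))))
 (.node (nat_lit 1977) (.node (nat_lit 1976) (.leaf ((nat_lit 282), [nat_lit 0])) (.leaf ((nat_lit 276), [nat_lit 3, nat_lit 1]))) (.node (nat_lit 1978) (.leaf ((nat_lit 235), [])) (.node (nat_lit 1979) (.leaf ((nat_lit 278), [nat_lit 3, nat_lit 1])) (.leaf ((nat_lit 233), [])))))))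
 (.node (nat_lit 1989) (.node (nat_lit 1984) (.node (nat_lit 1982) (.node (nat_lit 1981) (.leaf ((nat_lit 234), [])) (.leaf ((nat_lit 272), [nat_lit 1]))) (.node (nat_lit 1983) (.leaf ((nat_lit 283), [nat_lit 0])) (.leaf ((nat_lit 277), [nat_lit 3, nat_lit 1]))))
 (.node (nat_lit 1986) (.node (nat_lit 1985) (.leaf ((nat_lit 306), [])) (.leaf ((nat_lit 234), []))) (.node (nat_lit 1987) (.leaf ((nat_lit 283), [nat_lit 1, nat_lit 0, nat_lit 1])) (.node (nat_lit 1988) (.leaf ((nat_lit 278), [nat_lit 3, nat_lit 1])) (.leaf ((nat_lit 273), [nat_lit 1]))))))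
 (.node (nat_lit 1993) (.node (nat_lit 1991) (.node (nat_lit 1990) (.leaf ((nat_lit 284), [nat_lit 0])) (.leaf ((nat_lit 243), []))) (.node (nat_lit 1992) (.leaf ((nat_lit 307), [])) (.leaf ((nat_lit 235), []))))
 (.node (nat_lit 1995) (.node (nat_lit 1994) (.leaf ((nat_lit 284), [nat_lit 3, nat_lit 0, nat_lit 3])) (.leaf ((nat_lit 236), []))) (.node (nat_lit 1996) (.leaf ((nat_lit 274), [nat_lit 1])) (.node (nat_lit 1997) (.leaf ((nat_lit 285), [nat_lit 0])) (.leaf ((nat_lit 308), [])))))))))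
 (.node (nat_lit 2032) (.node (nat_lit 2015) (.node (nat_lit 2006) (.node (nat_lit 2002) (.node (nat_lit 2000) (.node (nat_lit 1999) (.leaf ((nat_lit 236), [])) (.leaf ((nat_lit 306), []))) (.node (nat_lit 2001) (.leaf ((nat_lit 237), [])) (.leaf ((nat_lit 307), []))))
 (.node (nat_lit 2004) (.node (nat_lit 2003) (.leaf ((nat_lit 275), [nat_lit 1])) (.leaf ((nat_lit 309), []))) (.node (nat_lit 2005) (.leaf ((nat_lit 237), [])) (.leaf ((nat_lit 245), [])))))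
 (.node (nat_lit 2010) (.node (nat_lit 2008) (.node (nat_lit 2007) (.leaf ((nat_lit 286), [nat_lit 1, nat_lit 0, nat_lit 1])) (.leaf ((nat_lit 308), []))) (.node (nat_lit 2009) (.leaf ((nat_lit 286), [nat_lit 3, nat_lit 0, nat_lit 3])) (.leaf ((nat_lit 239), []))))
 (.node (nat_lit 2012) (.node (nat_lit 2011) (.leaf ((nat_lit 240), [nat_lit 3, nat_lit 1, nat_lit 3])) (.leaf ((nat_lit 246), []))) (.node (nat_lit 2013) (.leaf ((nat_lit 305), [])) (.node (nat_lit 2014) (.leaf ((nat_lit 258), [nat_lit 3])) (.leaf ((nat_lit 238), [])))))))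
 (.node (nat_lit 2023) (.node (nat_lit 2019) (.node (nat_lit 2017) (.node (nat_lit 2016) (.leaf ((nat_lit 257), [nat_lit 3])) (.leaf ((nat_lit 276), [nat_lit 1]))) (.node (nat_lit 2018) (.leaf ((nat_lit 247), [])) (.leaf ((nat_lit 271), [nat_lit 3, nat_lit 1]))))
 (.node (nat_lit 2021) (.node (nat_lit 2020) (.leaf ((nat_lit 242), [])) (.leaf ((nat_lit 244), []))) (.node (nat_lit 2022) (.leaf ((nat_lit 247), [nat_lit 1])) (.leaf ((nat_lit 270), [nat_lit 3])))))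
 (.node (nat_lit 2027) (.node (nat_lit 2025) (.node (nat_lit 2024) (.leaf ((nat_lit 277), [nat_lit 1])) (.leaf ((nat_lit 248), []))) (.node (nat_lit 2026) (.leaf ((nat_lit 272), [nat_lit 3, nat_lit 1])) (.leaf ((nat_lit 243), []))))
 (.node (nat_lit 2029) (.node (nat_lit 2028) (.leaf ((nat_lit 270), [nat_lit 3])) (.leaf ((nat_lit 289), [nat_lit 3, nat_lit 0, nat_lit 3]))) (.node (nat_lit 2030) (.leaf ((nat_lit 244), [])) (.node (nat_lit 2031) (.leaf ((nat_lit 278), [nat_lit 1])) (.leaf ((nat_lit 310), []))))))))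
 (.node (nat_lit 2049) (.node (nat_lit 2040) (.node (nat_lit 2036) (.node (nat_lit 2034) (.node (nat_lit 2033) (.leaf ((nat_lit 244), [])) (.leaf ((nat_lit 308), []))) (.node (nat_lit 2035) (.leaf ((nat_lit 271), [nat_lit 3, nat_lit 1])) (.leaf ((nat_lit 245), []))))
 (.node (nat_lit 2038) (.node (nat_lit 2037) (.leaf ((nat_lit 272), [nat_lit 3, nat_lit 1])) (.leaf ((nat_lit 291), [nat_lit 2, nat_lit 1, nat_lit 0, nat_lit 1]))) (.node (nat_lit 2039) (.leaf ((nat_lit 245), [])) (.leaf ((nat_lit 250), [])))))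
 (.node (nat_lit 2044) (.node (nat_lit 2042) (.node (nat_lit 2041) (.leaf ((nat_lit 309), [])) (.leaf ((nat_lit 250), [nat_lit 1]))) (.node (nat_lit 2043) (.leaf ((nat_lit 310), [])) (.leaf ((nat_lit 291), [nat_lit 3, nat_lit 0, nat_lit 3]))))
 (.node (nat_lit 2046) (.node (nat_lit 2045) (.leaf ((nat_lit 292), [nat_lit 2, nat_lit 1, nat_lit 0, nat_lit 1])) (.leaf ((nat_lit 249), []))) (.node (nat_lit 2047) (.leaf ((nat_lit 310), [])) (.node (nat_lit 2048) (.leaf ((nat_lit 292), [nat_lit 0])) (.leaf ((nat_lit 266), [nat_lit 3])))))))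
 (.node (nat_lit 2058) (.node (nat_lit 2053) (.node (nat_lit 2051) (.node (nat_lit 2050) (.leaf ((nat_lit 250), [])) (.leaf ((nat_lit 265), [nat_lit 3]))) (.node (nat_lit 2052) (.leaf ((nat_lit 293), [nat_lit 0])) (.leaf ((nat_lit 255), []))))
 (.node (nat_lit 2055) (.node (nat_lit 2054) (.leaf ((nat_lit 268), [nat_lit 3, nat_lit 1, nat_lit 3, nat_lit 1])) (.leaf ((nat_lit 293), [nat_lit 3, nat_lit 0, nat_lit 3]))) (.node (nat_lit 2056) (.leaf ((nat_lit 252), [])) (.node (nat_lit 2057) (.leaf ((nat_lit 254), [nat_lit 3, nat_lit 1, nat_lit 3])) (.leaf ((nat_lit 311), []))))))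
 (.node (nat_lit 2062) (.node (nat_lit 2060) (.node (nat_lit 2059) (.leaf ((nat_lit 294), [nat_lit 0])) (.leaf ((nat_lit 256), []))) (.node (nat_lit 2061) (.leaf ((nat_lit 267), [nat_lit 3, nat_lit 1, nat_lit 3, nat_lit 1])) (.leaf ((nat_lit 253), []))))
 (.node (nat_lit 2064) (.node (nat_lit 2063) (.leaf ((nat_lit 311), [])) (.leaf ((nat_lit 253), [nat_lit 3, nat_lit 1, nat_lit 3]))) (.node (nat_lit 2065) (.leaf ((nat_lit 252), [])) (.node (nat_lit 2066) (.leaf ((nat_lit 261), [])) (.leaf ((nat_lit 311), []))))))))))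
noncomputable def bWd_15 : Tr (ℕ × List ℕ) := (.node (nat_lit 2136) (.node (nat_lit 2101) (.node (nat_lit 2084) (.node (nat_lit 2075) (.node (nat_lit 2071) (.node (nat_lit 2069) (.node (nat_lit 2068) (.leaf ((nat_lit 259), [nat_lit 3, nat_lit 1, nat_lit 3])) (.leaf ((nat_lit 295), [nat_lit 3, nat_lit 0, nat_lit 3]))) (.node (nat_lit 2070) (.leaf ((nat_lit 256), [])) (.leaf ((nat_lit 295), [nat_lit 2, nat_lit 1, nat_lit 0, nat_lit 1]))))
 (.node (nat_lit 2073) (.node (nat_lit 2072) (.leaf ((nat_lit 255), [])) (.leaf ((nat_lit 262), []))) (.node (nat_lit 2074) (.leaf ((nat_lit 276), [nat_lit 3, nat_lit 1, nat_lit 3, nat_lit 1])) (.leaf ((nat_lit 296), [nat_lit 3, nat_lit 0, nat_lit 3])))))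
 (.node (nat_lit 2079) (.node (nat_lit 2077) (.node (nat_lit 2076) (.leaf ((nat_lit 257), [])) (.leaf ((nat_lit 260), [nat_lit 3, nat_lit 1, nat_lit 3]))) (.node (nat_lit 2078) (.leaf ((nat_lit 262), [nat_lit 1])) (.leaf ((nat_lit 305), [nat_lit 3]))))
 (.node (nat_lit 2081) (.node (nat_lit 2080) (.leaf ((nat_lit 263), [])) (.leaf ((nat_lit 277), [nat_lit 1]))) (.node (nat_lit 2082) (.leaf ((nat_lit 297), [nat_lit 2, nat_lit 1, nat_lit 0, nat_lit 1])) (.node (nat_lit 2083) (.leaf ((nat_lit 259), [])) (.leaf ((nat_lit 305), [nat_lit 1, nat_lit 3])))))))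
 (.node (nat_lit 2092) (.node (nat_lit 2088) (.node (nat_lit 2086) (.node (nat_lit 2085) (.leaf ((nat_lit 297), [nat_lit 3, nat_lit 0, nat_lit 3])) (.leaf ((nat_lit 260), []))) (.node (nat_lit 2087) (.leaf ((nat_lit 298), [nat_lit 1, nat_lit 0, nat_lit 1])) (.leaf ((nat_lit 272), [nat_lit 3, nat_lit 1, nat_lit 3]))))
 (.node (nat_lit 2090) (.node (nat_lit 2089) (.leaf ((nat_lit 265), [])) (.leaf ((nat_lit 312), []))) (.node (nat_lit 2091) (.leaf ((nat_lit 264), [])) (.leaf ((nat_lit 298), [nat_lit 0])))))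
 (.node (nat_lit 2096) (.node (nat_lit 2094) (.node (nat_lit 2093) (.leaf ((nat_lit 310), [nat_lit 3])) (.leaf ((nat_lit 299), [nat_lit 1, nat_lit 0, nat_lit 1]))) (.node (nat_lit 2095) (.leaf ((nat_lit 271), [nat_lit 3, nat_lit 1, nat_lit 3])) (.leaf ((nat_lit 266), []))))
 (.node (nat_lit 2098) (.node (nat_lit 2097) (.leaf ((nat_lit 267), [nat_lit 3, nat_lit 1, nat_lit 3])) (.leaf ((nat_lit 310), [nat_lit 3]))) (.node (nat_lit 2099) (.leaf ((nat_lit 266), [nat_lit 3, nat_lit 1, nat_lit 3])) (.node (nat_lit 2100) (.leaf ((nat_lit 264), [])) (.leaf ((nat_lit 300), [nat_lit 1, nat_lit 0, nat_lit 1]))))))))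
 (.node (nat_lit 2118) (.node (nat_lit 2109) (.node (nat_lit 2105) (.node (nat_lit 2103) (.node (nat_lit 2102) (.leaf ((nat_lit 273), [])) (.leaf ((nat_lit 311), [nat_lit 3, nat_lit 1, nat_lit 3, nat_lit 1]))) (.node (nat_lit 2104) (.leaf ((nat_lit 313), [])) (.leaf ((nat_lit 267), []))))
 (.node (nat_lit 2107) (.node (nat_lit 2106) (.leaf ((nat_lit 300), [nat_lit 3, nat_lit 0, nat_lit 3])) (.leaf ((nat_lit 268), []))) (.node (nat_lit 2108) (.leaf ((nat_lit 301), [nat_lit 1, nat_lit 0, nat_lit 1])) (.leaf ((nat_lit 274), [])))))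
 (.node (nat_lit 2113) (.node (nat_lit 2111) (.node (nat_lit 2110) (.leaf ((nat_lit 301), [nat_lit 2, nat_lit 1, nat_lit 0, nat_lit 1])) (.leaf ((nat_lit 268), []))) (.node (nat_lit 2112) (.leaf ((nat_lit 312), [nat_lit 3, nat_lit 1, nat_lit 3])) (.leaf ((nat_lit 269), []))))
 (.node (nat_lit 2115) (.node (nat_lit 2114) (.leaf ((nat_lit 313), [])) (.leaf ((nat_lit 306), [nat_lit 1]))) (.node (nat_lit 2116) (.leaf ((nat_lit 312), [nat_lit 3, nat_lit 1, nat_lit 3])) (.node (nat_lit 2117) (.leaf ((nat_lit 307), [nat_lit 1, nat_lit 3])) (.leaf ((nat_lit 272), [])))))))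
 (.node (nat_lit 2127) (.node (nat_lit 2122) (.node (nat_lit 2120) (.node (nat_lit 2119) (.leaf ((nat_lit 274), [])) (.leaf ((nat_lit 302), [nat_lit 0]))) (.node (nat_lit 2121) (.leaf ((nat_lit 308), [nat_lit 1, nat_lit 3])) (.leaf ((nat_lit 307), [nat_lit 1]))))
 (.node (nat_lit 2124) (.node (nat_lit 2123) (.leaf ((nat_lit 313), [])) (.leaf ((nat_lit 306), [nat_lit 1, nat_lit 3]))) (.node (nat_lit 2125) (.leaf ((nat_lit 273), [])) (.node (nat_lit 2126) (.leaf ((nat_lit 308), [nat_lit 1, nat_lit 3])) (.leaf ((nat_lit 303), [nat_lit 3, nat_lit 0, nat_lit 3]))))))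
 (.node (nat_lit 2131) (.node (nat_lit 2129) (.node (nat_lit 2128) (.leaf ((nat_lit 274), [])) (.leaf ((nat_lit 308), [nat_lit 1]))) (.node (nat_lit 2130) (.leaf ((nat_lit 304), [nat_lit 2, nat_lit 1, nat_lit 0, nat_lit 1])) (.leaf ((nat_lit 274), []))))
 (.node (nat_lit 2133) (.node (nat_lit 2132) (.leaf ((nat_lit 278), [])) (.leaf ((nat_lit 307), [nat_lit 1, nat_lit 3]))) (.node (nat_lit 2134) (.leaf ((nat_lit 275), [])) (.node (nat_lit 2135) (.leaf ((nat_lit 306), [nat_lit 1, nat_lit 3])) (.leaf ((nat_lit 280), [])))))))))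
 (.node (nat_lit 2170) (.node (nat_lit 2153) (.node (nat_lit 2144) (.node (nat_lit 2140) (.node (nat_lit 2138) (.node (nat_lit 2137) (.leaf ((nat_lit 281), [nat_lit 3, nat_lit 1, nat_lit 3])) (.leaf ((nat_lit 305), [nat_lit 0]))) (.node (nat_lit 2139) (.leaf ((nat_lit 287), [])) (.leaf ((nat_lit 297), [nat_lit 3, nat_lit 1]))))
 (.node (nat_lit 2142) (.node (nat_lit 2141) (.leaf ((nat_lit 279), [])) (.leaf ((nat_lit 296), [nat_lit 3]))) (.node (nat_lit 2143) (.leaf ((nat_lit 302), [nat_lit 1])) (.leaf ((nat_lit 306), [nat_lit 0])))))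
 (.node (nat_lit 2148) (.node (nat_lit 2146) (.node (nat_lit 2145) (.leaf ((nat_lit 303), [nat_lit 3, nat_lit 1])) (.leaf ((nat_lit 283), []))) (.node (nat_lit 2147) (.leaf ((nat_lit 285), [])) (.leaf ((nat_lit 306), [nat_lit 1, nat_lit 0, nat_lit 1]))))
 (.node (nat_lit 2150) (.node (nat_lit 2149) (.leaf ((nat_lit 304), [nat_lit 3, nat_lit 1])) (.leaf ((nat_lit 303), [nat_lit 1]))) (.node (nat_lit 2151) (.leaf ((nat_lit 307), [nat_lit 0])) (.node (nat_lit 2152) (.leaf ((nat_lit 302), [nat_lit 3, nat_lit 1])) (.leaf ((nat_lit 284), [])))))))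
 (.node (nat_lit 2161) (.node (nat_lit 2157) (.node (nat_lit 2155) (.node (nat_lit 2154) (.leaf ((nat_lit 304), [nat_lit 3, nat_lit 1])) (.leaf ((nat_lit 307), [nat_lit 3, nat_lit 0, nat_lit 3]))) (.node (nat_lit 2156) (.leaf ((nat_lit 285), [])) (.leaf ((nat_lit 304), [nat_lit 1]))))
 (.node (nat_lit 2159) (.node (nat_lit 2158) (.leaf ((nat_lit 314), [])) (.leaf ((nat_lit 285), []))) (.node (nat_lit 2160) (.leaf ((nat_lit 290), [])) (.leaf ((nat_lit 303), [nat_lit 3, nat_lit 1])))))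
 (.node (nat_lit 2165) (.node (nat_lit 2163) (.node (nat_lit 2162) (.leaf ((nat_lit 286), [])) (.leaf ((nat_lit 302), [nat_lit 3, nat_lit 1]))) (.node (nat_lit 2164) (.leaf ((nat_lit 309), [nat_lit 2, nat_lit 1, nat_lit 0, nat_lit 1])) (.leaf ((nat_lit 286), []))))
 (.node (nat_lit 2167) (.node (nat_lit 2166) (.leaf ((nat_lit 309), [nat_lit 0])) (.leaf ((nat_lit 291), []))) (.node (nat_lit 2168) (.leaf ((nat_lit 309), [nat_lit 1, nat_lit 0, nat_lit 1])) (.node (nat_lit 2169) (.leaf ((nat_lit 314), [])) (.leaf ((nat_lit 309), [nat_lit 3, nat_lit 0, nat_lit 3]))))))))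
 (.node (nat_lit 2187) (.node (nat_lit 2178) (.node (nat_lit 2174) (.node (nat_lit 2172) (.node (nat_lit 2171) (.leaf ((nat_lit 310), [nat_lit 2, nat_lit 1, nat_lit 0, nat_lit 1])) (.leaf ((nat_lit 290), []))) (.node (nat_lit 2173) (.leaf ((nat_lit 292), [])) (.leaf ((nat_lit 314), []))))
 (.node (nat_lit 2176) (.node (nat_lit 2175) (.leaf ((nat_lit 299), [nat_lit 3])) (.leaf ((nat_lit 291), []))) (.node (nat_lit 2177) (.leaf ((nat_lit 298), [nat_lit 3])) (.leaf ((nat_lit 311), [nat_lit 0])))))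
 (.node (nat_lit 2182) (.node (nat_lit 2180) (.node (nat_lit 2179) (.leaf ((nat_lit 295), [])) (.leaf ((nat_lit 300), [nat_lit 3, nat_lit 1, nat_lit 3, nat_lit 1]))) (.node (nat_lit 2181) (.leaf ((nat_lit 311), [nat_lit 3, nat_lit 0, nat_lit 3])) (.leaf ((nat_lit 294), []))))
 (.node (nat_lit 2184) (.node (nat_lit 2183) (.leaf ((nat_lit 311), [nat_lit 2, nat_lit 1, nat_lit 0, nat_lit 1])) (.leaf ((nat_lit 293), []))) (.node (nat_lit 2185) (.leaf ((nat_lit 312), [nat_lit 1, nat_lit 0, nat_lit 1])) (.node (nat_lit 2186) (.leaf ((nat_lit 302), [nat_lit 3, nat_lit 1, nat_lit 3])) (.leaf ((nat_lit 312), [nat_lit 3, nat_lit 0, nat_lit 3])))))))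
 (.node (nat_lit 2196) (.node (nat_lit 2191) (.node (nat_lit 2189) (.node (nat_lit 2188) (.leaf ((nat_lit 298), [])) (.leaf ((nat_lit 301), [nat_lit 3, nat_lit 1, nat_lit 3]))) (.node (nat_lit 2190) (.leaf ((nat_lit 312), [nat_lit 0])) (.leaf ((nat_lit 314), [nat_lit 3]))))
 (.node (nat_lit 2193) (.node (nat_lit 2192) (.leaf ((nat_lit 313), [nat_lit 1, nat_lit 0, nat_lit 1])) (.leaf ((nat_lit 303), []))) (.node (nat_lit 2194) (.leaf ((nat_lit 313), [nat_lit 2, nat_lit 1, nat_lit 0, nat_lit 1])) (.node (nat_lit 2195) (.leaf ((nat_lit 300), [])) (.leaf ((nat_lit 314), [nat_lit 1, nat_lit 3]))))))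
 (.node (nat_lit 2200) (.node (nat_lit 2198) (.node (nat_lit 2197) (.leaf ((nat_lit 313), [nat_lit 3, nat_lit 0, nat_lit 3])) (.leaf ((nat_lit 301), []))) (.node (nat_lit 2199) (.leaf ((nat_lit 314), [nat_lit 2, nat_lit 1, nat_lit 0, nat_lit 1])) (.leaf ((nat_lit 308), []))))
 (.node (nat_lit 2202) (.node (nat_lit 2201) (.leaf ((nat_lit 314), [nat_lit 0])) (.leaf ((nat_lit 310), []))) (.node (nat_lit 2203) (.leaf ((nat_lit 313), [nat_lit 3, nat_lit 1])) (.node (nat_lit 2204) (.leaf ((nat_lit 309), [])) (.leaf ((nat_lit 312), [nat_lit 3]))))))))))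
noncomputable def bWd : Tr (ℕ × List ℕ) := (.node (nat_lit 1102) (.node (nat_lit 551) (.node (nat_lit 275) (.node (nat_lit 137) bWd_0 bWd_1) (.node (nat_lit 413) bWd_2 bWd_3)) (.node (nat_lit 826) (.node (nat_lit 688) bWd_4 bWd_5) (.node (nat_lit 964) bWd_6 bWd_7))) (.node (nat_lit 1653) (.node (nat_lit 1377) (.node (nat_lit 1239) bWd_8 bWd_9) (.node (nat_lit 1515) bWd_10 bWd_11)) (.node (nat_lit 1929) (.node (nat_lit 1791) bWd_12 bWd_13) (.node (nat_lit 2067) bWd_14 bWd_15))))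
theorem bc : allR 0 315 (cosChk (nat_lit 3) (nat_lit 7) (Alt.s8L.map Lev.b) Alt.s8T aT bR (topN Alt.s8L) 315 bWd) = true := by decide +kernel
noncomputable def cZ_0 : Tr (List ℕ × List ℕ) := (.node (nat_lit 78) (.node (nat_lit 39) (.node (nat_lit 19) (.node (nat_lit 9) (.node (nat_lit 4) (.node (nat_lit 2) (.node (nat_lit 1) (.leaf ([nat_lit 2], [nat_lit 2])) (.leaf ([nat_lit 0], [nat_lit 0]))) (.node (nat_lit 3) (.leaf ([nat_lit 3, nat_lit 0, nat_lit 3], [nat_lit 3, nat_lit 0, nat_lit 3])) (.leaf ([nat_lit 1], [nat_lit 1]))))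
 (.node (nat_lit 6) (.node (nat_lit 5) (.leaf ([nat_lit 0], [nat_lit 0])) (.leaf ([nat_lit 0], [nat_lit 0]))) (.node (nat_lit 7) (.leaf ([nat_lit 3, nat_lit 0, nat_lit 3], [nat_lit 3, nat_lit 0, nat_lit 3])) (.node (nat_lit 8) (.leaf ([nat_lit 0], [nat_lit 0])) (.leaf ([nat_lit 0], [nat_lit 0]))))))
 (.node (nat_lit 14) (.node (nat_lit 11) (.node (nat_lit 10) (.leaf ([nat_lit 3, nat_lit 0, nat_lit 3], [nat_lit 3, nat_lit 0, nat_lit 3])) (.leaf ([nat_lit 3, nat_lit 0, nat_lit 3], [nat_lit 3, nat_lit 0, nat_lit 3]))) (.node (nat_lit 12) (.leaf ([nat_lit 3, nat_lit 2], [nat_lit 3, nat_lit 2])) (.node (nat_lit 13) (.leaf ([nat_lit 1, nat_lit 0, nat_lit 1], [nat_lit 1, nat_lit 0, nat_lit 1])) (.leaf ([nat_lit 1], [nat_lit 0, nat_lit 1, nat_lit 0])))))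
 (.node (nat_lit 16) (.node (nat_lit 15) (.leaf ([nat_lit 2, nat_lit 1, nat_lit 0, nat_lit 1], [nat_lit 2, nat_lit 1, nat_lit 0, nat_lit 1])) (.leaf ([nat_lit 3], [nat_lit 3]))) (.node (nat_lit 17) (.leaf ([nat_lit 2, nat_lit 1, nat_lit 0, nat_lit 1], [nat_lit 2, nat_lit 1, nat_lit 0, nat_lit 1])) (.node (nat_lit 18) (.leaf ([nat_lit 0], [nat_lit 0])) (.leaf ([nat_lit 0], [nat_lit 0])))))))
 (.node (nat_lit 29) (.node (nat_lit 24) (.node (nat_lit 21) (.node (nat_lit 20) (.leaf ([nat_lit 0], [nat_lit 0])) (.leaf ([nat_lit 3, nat_lit 0, nat_lit 3], [nat_lit 3, nat_lit 0, nat_lit 3]))) (.node (nat_lit 22) (.leaf ([nat_lit 0, nat_lit 3, nat_lit 0], [nat_lit 3, nat_lit 1, nat_lit 0, nat_lit 3, nat_lit 2, nat_lit 1, nat_lit 0])) (.node (nat_lit 23) (.leaf ([nat_lit 1, nat_lit 3, nat_lit 1], [nat_lit 3])) (.leaf ([nat_lit 3, nat_lit 0, nat_lit 3, nat_lit 2, nat_lit 0, nat_lit 1], [nat_lit 3, nat_lit 2])))))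
 (.node (nat_lit 26) (.node (nat_lit 25) (.leaf ([nat_lit 0], [nat_lit 0])) (.leaf ([nat_lit 0], [nat_lit 0]))) (.node (nat_lit 27) (.leaf ([nat_lit 0], [nat_lit 0])) (.node (nat_lit 28) (.leaf ([nat_lit 3, nat_lit 0, nat_lit 3], [nat_lit 3, nat_lit 0, nat_lit 3])) (.leaf ([nat_lit 3, nat_lit 0, nat_lit 3, nat_lit 2, nat_lit 0, nat_lit 1], [nat_lit 1, nat_lit 3, nat_lit 2, nat_lit 1]))))))
 (.node (nat_lit 34) (.node (nat_lit 31) (.node (nat_lit 30) (.leaf ([nat_lit 3], [nat_lit 1, nat_lit 3, nat_lit 1])) (.leaf ([nat_lit 3, nat_lit 0, nat_lit 3], [nat_lit 3, nat_lit 0, nat_lit 3]))) (.node (nat_lit 32) (.leaf ([nat_lit 3, nat_lit 2], [nat_lit 0, nat_lit 3, nat_lit 2, nat_lit 0])) (.node (nat_lit 33) (.leaf ([nat_lit 1, nat_lit 0, nat_lit 1], [nat_lit 1, nat_lit 0, nat_lit 1])) (.leaf ([nat_lit 0, nat_lit 3, nat_lit 0], [nat_lit 3, nat_lit 1, nat_lit 0, nat_lit 3, nat_lit 2, nat_lit 1, nat_lit 0])))))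
 (.node (nat_lit 36) (.node (nat_lit 35) (.leaf ([nat_lit 3, nat_lit 2], [nat_lit 0, nat_lit 3, nat_lit 2, nat_lit 0])) (.leaf ([nat_lit 0, nat_lit 3, nat_lit 0], [nat_lit 3, nat_lit 0, nat_lit 3, nat_lit 2, nat_lit 1, nat_lit 0]))) (.node (nat_lit 37) (.leaf ([nat_lit 1, nat_lit 0, nat_lit 1], [nat_lit 1, nat_lit 0, nat_lit 1])) (.node (nat_lit 38) (.leaf ([nat_lit 3, nat_lit 0, nat_lit 3], [nat_lit 3, nat_lit 0, nat_lit 3])) (.leaf ([nat_lit 2, nat_lit 1, nat_lit 0, nat_lit 1], [nat_lit 2, nat_lit 1, nat_lit 0, nat_lit 1]))))))))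
 (.node (nat_lit 58) (.node (nat_lit 48) (.node (nat_lit 43) (.node (nat_lit 41) (.node (nat_lit 40) (.leaf ([nat_lit 3], [nat_lit 0, nat_lit 3, nat_lit 0])) (.leaf ([nat_lit 2], [nat_lit 2]))) (.node (nat_lit 42) (.leaf ([nat_lit 2, nat_lit 1, nat_lit 0, nat_lit 1], [nat_lit 2, nat_lit 1, nat_lit 0, nat_lit 1])) (.leaf ([nat_lit 0, nat_lit 3, nat_lit 2, nat_lit 0], [nat_lit 1, nat_lit 0, nat_lit 3, nat_lit 2, nat_lit 0, nat_lit 1]))))
 (.node (nat_lit 45) (.node (nat_lit 44) (.leaf ([nat_lit 3], [nat_lit 0, nat_lit 3, nat_lit 0])) (.leaf ([nat_lit 2, nat_lit 1, nat_lit 0, nat_lit 1], [nat_lit 2, nat_lit 1, nat_lit 0, nat_lit 1]))) (.node (nat_lit 46) (.leaf ([nat_lit 2, nat_lit 1, nat_lit 0, nat_lit 1], [nat_lit 2, nat_lit 1, nat_lit 0, nat_lit 1])) (.node (nat_lit 47) (.leaf ([nat_lit 1, nat_lit 0, nat_lit 3, nat_lit 2, nat_lit 0, nat_lit 1], [nat_lit 0, nat_lit 3, nat_lit 2, nat_lit 0])) (.leaf ([nat_lit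 0], [nat_lit 0]))))))
 (.node (nat_lit 53) (.node (nat_lit 50) (.node (nat_lit 49) (.leaf ([nat_lit 0], [nat_lit 0])) (.leaf ([nat_lit 0], [nat_lit 0]))) (.node (nat_lit 51) (.leaf ([nat_lit 0, nat_lit 3, nat_lit 0], [nat_lit 3, nat_lit 1, nat_lit 0, nat_lit 3, nat_lit 2, nat_lit 0, nat_lit 1])) (.node (nat_lit 52) (.leaf ([nat_lit 1, nat_lit 3, nat_lit 1], [nat_lit 0, nat_lit 3, nat_lit 0])) (.leaf ([nat_lit 3, nat_lit 2], [nat_lit 1, nat_lit 3, nat_lit 2, nat_lit 1])))))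
 (.node (nat_lit 55) (.node (nat_lit 54) (.leaf ([nat_lit 0, nat_lit 3, nat_lit 0], [nat_lit 3, nat_lit 1, nat_lit 3, nat_lit 1])) (.leaf ([nat_lit 0, nat_lit 3, nat_lit 0], [nat_lit 3, nat_lit 0, nat_lit 3, nat_lit 2, nat_lit 1, nat_lit 0]))) (.node (nat_lit 56) (.leaf ([nat_lit 1, nat_lit 3, nat_lit 1], [nat_lit 0, nat_lit 3, nat_lit 0])) (.node (nat_lit 57) (.leaf ([nat_lit 3, nat_lit 0, nat_lit 3, nat_lit 2, nat_lit 0, nat_lit 1], [nat_lit 0, nat_lit 3, nat_lit 2, nat_lit 0])) (.leaf ([nat_lit 3, nat_lit 0, nat_lit 3, nat_lit 2, nat_lit 0, nat_lit 1], [nat_lit 0, nat_lit 3, nat_lit 2, nat_lit 0])))))))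
 (.node (nat_lit 68) (.node (nat_lit 63) (.node (nat_lit 60) (.node (nat_lit 59) (.leaf ([nat_lit 3, nat_lit 0, nat_lit 3, nat_lit 2, nat_lit 1, nat_lit 0], [nat_lit 1, nat_lit 0, nat_lit 3, nat_lit 0, nat_lit 1])) (.leaf ([nat_lit 0], [nat_lit 0]))) (.node (nat_lit 61) (.leaf ([nat_lit 0], [nat_lit 0])) (.node (nat_lit 62) (.leaf ([nat_lit 0], [nat_lit 0])) (.leaf ([nat_lit 3, nat_lit 0, nat_lit 3], [nat_lit 3, nat_lit 0, nat_lit 3])))))
 (.node (nat_lit 65) (.node (nat_lit 64) (.leaf ([nat_lit 3, nat_lit 0, nat_lit 3], [nat_lit 3, nat_lit 0, nat_lit 3])) (.leaf ([nat_lit 3, nat_lit 0, nat_lit 3, nat_lit 2, nat_lit 0, nat_lit 1], [nat_lit 1, nat_lit 3, nat_lit 1]))) (.node (nat_lit 66) (.leaf ([nat_lit 3], [nat_lit 1, nat_lit 3, nat_lit 2, nat_lit 1])) (.node (nat_lit 67) (.leaf ([nat_lit 0], [nat_lit 1, nat_lit 0, nat_lit 1])) (.leaf ([nat_lit 3, nat_lit 0, nat_lit 3, nat_lit 2, nat_lit 0, nat_lit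 1], [nat_lit 1, nat_lit 0, nat_lit 3, nat_lit 2, nat_lit 0, nat_lit 1]))))))
 (.node (nat_lit 73) (.node (nat_lit 70) (.node (nat_lit 69) (.leaf ([nat_lit 3, nat_lit 0, nat_lit 3, nat_lit 2, nat_lit 1, nat_lit 0], [nat_lit 0, nat_lit 3, nat_lit 0])) (.leaf ([nat_lit 3], [nat_lit 1, nat_lit 0, nat_lit 3, nat_lit 0, nat_lit 1]))) (.node (nat_lit 71) (.leaf ([nat_lit 3, nat_lit 2], [nat_lit 0, nat_lit 3, nat_lit 2, nat_lit 0])) (.node (nat_lit 72) (.leaf ([nat_lit 0, nat_lit 3, nat_lit 0], [nat_lit 3, nat_lit 1, nat_lit 0, nat_lit 3, nat_lit 2, nat_lit 0])) (.leaf ([nat_lit 3, nat_lit 2], [nat_lit 3, nat_lit 2])))))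
 (.node (nat_lit 75) (.node (nat_lit 74) (.leaf ([nat_lit 1, nat_lit 0, nat_lit 1], [nat_lit 1, nat_lit 0, nat_lit 1])) (.leaf ([nat_lit 0, nat_lit 3, nat_lit 0], [nat_lit 3, nat_lit 1, nat_lit 0, nat_lit 3, nat_lit 2, nat_lit 0, nat_lit 1]))) (.node (nat_lit 76) (.leaf ([nat_lit 0, nat_lit 3, nat_lit 0], [nat_lit 3, nat_lit 1, nat_lit 3, nat_lit 1])) (.node (nat_lit 77) (.leaf ([nat_lit 0, nat_lit 3, nat_lit 0], [nat_lit 3, nat_lit 1, nat_lit 3, nat_lit 1])) (.leaf ([nat_lit 0, nat_lit 3, nat_lit 0], [nat_lit 3, nat_lit 0, nat_lit 3, nat_lit 2, nat_lit 1, nat_lit 0])))))))))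
 (.node (nat_lit 117) (.node (nat_lit 97) (.node (nat_lit 87) (.node (nat_lit 82) (.node (nat_lit 80) (.node (nat_lit 79) (.leaf ([nat_lit 3, nat_lit 1, nat_lit 3, nat_lit 1], [nat_lit 0, nat_lit 3, nat_lit 0])) (.leaf ([nat_lit 3], [nat_lit 3, nat_lit 0, nat_lit 3, nat_lit 2, nat_lit 1, nat_lit 0]))) (.node (nat_lit 81) (.leaf ([nat_lit 0, nat_lit 3, nat_lit 2, nat_lit 0], [nat_lit 1, nat_lit 0, nat_lit 3, nat_lit 0, nat_lit 1])) (.leaf ([nat_lit 2, nat_lit 1, nat_lit 0, nat_lit 1], [nat_lit 2, nat_lit 1, nat_lit 0, nat_lit 1]))))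
 (.node (nat_lit 84) (.node (nat_lit 83) (.leaf ([nat_lit 2, nat_lit 1, nat_lit 0, nat_lit 1], [nat_lit 2, nat_lit 1, nat_lit 0, nat_lit 1])) (.leaf ([nat_lit 0, nat_lit 3, nat_lit 2, nat_lit 0], [nat_lit 1, nat_lit 0, nat_lit 3, nat_lit 0, nat_lit 1]))) (.node (nat_lit 85) (.leaf ([nat_lit 3], [nat_lit 3])) (.node (nat_lit 86) (.leaf ([nat_lit 2], [nat_lit 2])) (.leaf ([nat_lit 2], [nat_lit 2]))))))
 (.node (nat_lit 92) (.node (nat_lit 89) (.node (nat_lit 88) (.leaf ([nat_lit 1, nat_lit 0, nat_lit 1], [nat_lit 1, nat_lit 0, nat_lit 1])) (.leaf ([nat_lit 0, nat_lit 3, nat_lit 0], [nat_lit 3]))) (.node (nat_lit 90) (.leaf ([nat_lit 0, nat_lit 3, nat_lit 2, nat_lit 0], [nat_lit 1, nat_lit 3, nat_lit 2, nat_lit 1])) (.node (nat_lit 91) (.leaf ([nat_lit 1, nat_lit 3, nat_lit 1], [nat_lit 1, nat_lit 0, nat_lit 3, nat_lit 0, nat_lit 1])) (.leaf ([nat_lit 0, nat_lit 3, nat_lit 2, nat_lit 0], [nat_lit 3, nat_lit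 2])))))
 (.node (nat_lit 94) (.node (nat_lit 93) (.leaf ([nat_lit 2, nat_lit 1, nat_lit 0, nat_lit 1], [nat_lit 2, nat_lit 1, nat_lit 0, nat_lit 1])) (.leaf ([nat_lit 2, nat_lit 1, nat_lit 0, nat_lit 1], [nat_lit 2, nat_lit 1, nat_lit 0, nat_lit 1]))) (.node (nat_lit 95) (.leaf ([nat_lit 1, nat_lit 0, nat_lit 3, nat_lit 0, nat_lit 1], [nat_lit 1, nat_lit 3, nat_lit 1])) (.node (nat_lit 96) (.leaf ([nat_lit 1, nat_lit 0, nat_lit 3, nat_lit 2, nat_lit 0, nat_lit 1], [nat_lit 3, nat_lit 2])) (.leaf ([nat_lit 0], [nat_lit 0])))))))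
 (.node (nat_lit 107) (.node (nat_lit 102) (.node (nat_lit 99) (.node (nat_lit 98) (.leaf ([nat_lit 0], [nat_lit 0])) (.leaf ([nat_lit 3], [nat_lit 0, nat_lit 3, nat_lit 0]))) (.node (nat_lit 100) (.leaf ([nat_lit 0, nat_lit 3, nat_lit 0], [nat_lit 3, nat_lit 1, nat_lit 0, nat_lit 3, nat_lit 2, nat_lit 0])) (.node (nat_lit 101) (.leaf ([nat_lit 0, nat_lit 3, nat_lit 0], [nat_lit 3, nat_lit 1, nat_lit 3, nat_lit 0, nat_lit 1, nat_lit 0])) (.leaf ([nat_lit 0, nat_lit 3, nat_lit 0], [nat_lit 3, nat_lit 0, nat_lit 3, nat_lit 2, nat_lit 0, nat_lit 1])))))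
 (.node (nat_lit 104) (.node (nat_lit 103) (.leaf ([nat_lit 1, nat_lit 3, nat_lit 1], [nat_lit 3])) (.leaf ([nat_lit 3, nat_lit 2], [nat_lit 1, nat_lit 3, nat_lit 1]))) (.node (nat_lit 105) (.leaf ([nat_lit 3, nat_lit 2], [nat_lit 1, nat_lit 0, nat_lit 3, nat_lit 2, nat_lit 0, nat_lit 1])) (.node (nat_lit 106) (.leaf ([nat_lit 0, nat_lit 3, nat_lit 0], [nat_lit 3, nat_lit 0, nat_lit 3, nat_lit 2, nat_lit 1, nat_lit 0])) (.leaf ([nat_lit 3, nat_lit 2], [nat_lit 0, nat_lit 3, nat_lit 2, nat_lit 0]))))))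
 (.node (nat_lit 112) (.node (nat_lit 109) (.node (nat_lit 108) (.leaf ([nat_lit 0, nat_lit 3, nat_lit 0], [nat_lit 3, nat_lit 0, nat_lit 3, nat_lit 2, nat_lit 1, nat_lit 0])) (.leaf ([nat_lit 2, nat_lit 1, nat_lit 0, nat_lit 1], [nat_lit 1, nat_lit 0, nat_lit 1]))) (.node (nat_lit 110) (.leaf ([nat_lit 3, nat_lit 2], [nat_lit 1, nat_lit 3, nat_lit 2, nat_lit 1])) (.node (nat_lit 111) (.leaf ([nat_lit 3, nat_lit 0, nat_lit 3, nat_lit 2, nat_lit 0, nat_lit 1], [nat_lit 3, nat_lit 2])) (.leaf ([nat_lit 3, nat_lit 0, nat_lit 3, nat_lit 2, nat_lit 1, nat_lit 0], [nat_lit 1, nat_lit 0, nat_lit 3, nat_lit 2, nat_lit 0, nat_lit 1])))))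
 (.node (nat_lit 114) (.node (nat_lit 113) (.leaf ([nat_lit 1, nat_lit 3, nat_lit 2, nat_lit 1], [nat_lit 1, nat_lit 3, nat_lit 2, nat_lit 1])) (.leaf ([nat_lit 1, nat_lit 0, nat_lit 1], [nat_lit 2, nat_lit 1, nat_lit 0, nat_lit 1]))) (.node (nat_lit 115) (.leaf ([nat_lit 3, nat_lit 0, nat_lit 3, nat_lit 2, nat_lit 1, nat_lit 0], [nat_lit 1, nat_lit 3, nat_lit 1])) (.node (nat_lit 116) (.leaf ([nat_lit 0], [nat_lit 0])) (.leaf ([nat_lit 0], [nat_lit 0]))))))))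
 (.node (nat_lit 137) (.node (nat_lit 127) (.node (nat_lit 122) (.node (nat_lit 119) (.node (nat_lit 118) (.leaf ([nat_lit 3], [nat_lit 0, nat_lit 3, nat_lit 0])) (.leaf ([nat_lit 3, nat_lit 0, nat_lit 3], [nat_lit 3, nat_lit 0, nat_lit 3]))) (.node (nat_lit 120) (.leaf ([nat_lit 3], [nat_lit 3, nat_lit 1, nat_lit 0, nat_lit 3, nat_lit 2, nat_lit 0])) (.node (nat_lit 121) (.leaf ([nat_lit 1, nat_lit 0, nat_lit 3, nat_lit 2, nat_lit 0, nat_lit 1], [nat_lit 1, nat_lit 0, nat_lit 3, nat_lit 2, nat_lit 0, nat_lit 1])) (.leaf ([nat_lit 1, nat_lit 3, nat_lit 2, nat_lit 1], [nat_lit 3, nat_lit 2])))))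
 (.node (nat_lit 124) (.node (nat_lit 123) (.leaf ([nat_lit 3, nat_lit 0, nat_lit 3, nat_lit 2, nat_lit 1, nat_lit 0], [nat_lit 3])) (.leaf ([nat_lit 3, nat_lit 0, nat_lit 3, nat_lit 2, nat_lit 0, nat_lit 1], [nat_lit 1, nat_lit 0, nat_lit 3, nat_lit 0, nat_lit 1]))) (.node (nat_lit 125) (.leaf ([nat_lit 3], [nat_lit 1, nat_lit 0, nat_lit 3, nat_lit 2, nat_lit 0, nat_lit 1])) (.node (nat_lit 126) (.leaf ([nat_lit 0], [nat_lit 1, nat_lit 0, nat_lit 1])) (.leaf ([nat_lit 0], [nat_lit 1, nat_lit 0, nat_lit 1]))))))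
 (.node (nat_lit 132) (.node (nat_lit 129) (.node (nat_lit 128) (.leaf ([nat_lit 1, nat_lit 0, nat_lit 1], [nat_lit 2, nat_lit 1, nat_lit 0, nat_lit 1])) (.leaf ([nat_lit 3, nat_lit 0, nat_lit 3, nat_lit 2, nat_lit 1, nat_lit 0], [nat_lit 3]))) (.node (nat_lit 130) (.leaf ([nat_lit 3], [nat_lit 1, nat_lit 0, nat_lit 3, nat_lit 0, nat_lit 1])) (.node (nat_lit 131) (.leaf ([nat_lit 3, nat_lit 2], [nat_lit 3, nat_lit 2])) (.leaf ([nat_lit 0, nat_lit 3, nat_lit 0], [nat_lit 3, nat_lit 1, nat_lit 3, nat_lit 1, nat_lit 0, nat_lit 1, nat_lit 0])))))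
 (.node (nat_lit 134) (.node (nat_lit 133) (.leaf ([nat_lit 0, nat_lit 3, nat_lit 0], [nat_lit 3, nat_lit 1, nat_lit 3, nat_lit 0, nat_lit 1, nat_lit 0])) (.leaf ([nat_lit 3, nat_lit 1, nat_lit 3, nat_lit 1], [nat_lit 3]))) (.node (nat_lit 135) (.leaf ([nat_lit 0, nat_lit 3, nat_lit 0], [nat_lit 3, nat_lit 1, nat_lit 3, nat_lit 0, nat_lit 1, nat_lit 0])) (.node (nat_lit 136) (.leaf ([nat_lit 0, nat_lit 3, nat_lit 2, nat_lit 0], [nat_lit 0, nat_lit 3, nat_lit 2, nat_lit 0])) (.leaf ([nat_lit 3, nat_lit 2], [nat_lit 1, nat_lit 0, nat_lit 3, nat_lit 2, nat_lit 0, nat_lit 1])))))))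
 (.node (nat_lit 147) (.node (nat_lit 142) (.node (nat_lit 139) (.node (nat_lit 138) (.leaf ([nat_lit 0, nat_lit 3, nat_lit 0], [nat_lit 3, nat_lit 1, nat_lit 0, nat_lit 3, nat_lit 2, nat_lit 1, nat_lit 0])) (.leaf ([nat_lit 3, nat_lit 1, nat_lit 3, nat_lit 1], [nat_lit 3]))) (.node (nat_lit 140) (.leaf ([nat_lit 2, nat_lit 1, nat_lit 0, nat_lit 1], [nat_lit 0])) (.node (nat_lit 141) (.leaf ([nat_lit 3], [nat_lit 3, nat_lit 0, nat_lit 3, nat_lit 2, nat_lit 1, nat_lit 0])) (.leaf ([nat_lit 3], [nat_lit 3, nat_lit 0, nat_lit 3, nat_lit 2, nat_lit 1, nat_lit 0])))))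
 (.node (nat_lit 144) (.node (nat_lit 143) (.leaf ([nat_lit 3], [nat_lit 3, nat_lit 1, nat_lit 0, nat_lit 3, nat_lit 2, nat_lit 1, nat_lit 0])) (.leaf ([nat_lit 0, nat_lit 3, nat_lit 2, nat_lit 0], [nat_lit 1, nat_lit 3, nat_lit 1]))) (.node (nat_lit 145) (.leaf ([nat_lit 2, nat_lit 1, nat_lit 0, nat_lit 1], [nat_lit 2, nat_lit 1, nat_lit 0, nat_lit 1])) (.node (nat_lit 146) (.leaf ([nat_lit 2, nat_lit 1, nat_lit 0, nat_lit 1], [nat_lit 2, nat_lit 1, nat_lit 0, nat_lit 1])) (.leaf ([nat_lit 0, nat_lit 3, nat_lit 0], [nat_lit 0, nat_lit 3, nat_lit 0]))))))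
 (.node (nat_lit 152) (.node (nat_lit 149) (.node (nat_lit 148) (.leaf ([nat_lit 0, nat_lit 3, nat_lit 0], [nat_lit 0, nat_lit 3, nat_lit 0])) (.leaf ([nat_lit 0, nat_lit 3, nat_lit 2, nat_lit 0], [nat_lit 1, nat_lit 3, nat_lit 1]))) (.node (nat_lit 150) (.leaf ([nat_lit 1, nat_lit 3, nat_lit 1], [nat_lit 1, nat_lit 0, nat_lit 3, nat_lit 2, nat_lit 0, nat_lit 1])) (.node (nat_lit 151) (.leaf ([nat_lit 1, nat_lit 0, nat_lit 1], [nat_lit 1, nat_lit 0, nat_lit 1])) (.leaf ([nat_lit 2], [nat_lit 2])))))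
 (.node (nat_lit 154) (.node (nat_lit 153) (.leaf ([nat_lit 2, nat_lit 1, nat_lit 0, nat_lit 1], [nat_lit 2, nat_lit 1, nat_lit 0, nat_lit 1])) (.leaf ([nat_lit 1, nat_lit 0, nat_lit 1], [nat_lit 1, nat_lit 0, nat_lit 1]))) (.node (nat_lit 155) (.leaf ([nat_lit 1, nat_lit 0, nat_lit 1], [nat_lit 1, nat_lit 0, nat_lit 1])) (.node (nat_lit 156) (.leaf ([nat_lit 0, nat_lit 3, nat_lit 0], [nat_lit 0, nat_lit 3, nat_lit 0])) (.leaf ([nat_lit 1, nat_lit 3, nat_lit 1], [nat_lit 1, nat_lit 3, nat_lit 1]))))))))))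
noncomputable def cZ_1 : Tr (List ℕ × List ℕ) := (.node (nat_lit 236) (.node (nat_lit 196) (.node (nat_lit 176) (.node (nat_lit 166) (.node (nat_lit 161) (.node (nat_lit 159) (.node (nat_lit 158) (.leaf ([nat_lit 1, nat_lit 0, nat_lit 1], [nat_lit 1, nat_lit 0, nat_lit 1])) (.leaf ([nat_lit 0, nat_lit 3, nat_lit 2, nat_lit 0], [nat_lit 0, nat_lit 3, nat_lit 2, nat_lit 0]))) (.node (nat_lit 160) (.leaf ([nat_lit 1, nat_lit 0, nat_lit 3, nat_lit 0, nat_lit 1], [nat_lit 1, nat_lit 0, nat_lit 3, nat_lit 0, nat_lit 1])) (.leaf ([nat_lit 3, nat_lit 2], [nat_lit 3, nat_lit 1, nat_lit 0, nat_lit 3, nat_lit 2, nat_lit 0]))))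
 (.node (nat_lit 163) (.node (nat_lit 162) (.leaf ([nat_lit 0], [nat_lit 0])) (.leaf ([nat_lit 3], [nat_lit 3]))) (.node (nat_lit 164) (.leaf ([nat_lit 3], [nat_lit 3])) (.node (nat_lit 165) (.leaf ([nat_lit 0, nat_lit 3, nat_lit 0], [nat_lit 3, nat_lit 1, nat_lit 0, nat_lit 3, nat_lit 2, nat_lit 0])) (.leaf ([nat_lit 0, nat_lit 3, nat_lit 0], [nat_lit 3, nat_lit 1, nat_lit 3, nat_lit 1, nat_lit 0, nat_lit 1, nat_lit 0]))))))
 (.node (nat_lit 171) (.node (nat_lit 168) (.node (nat_lit 167) (.leaf ([nat_lit 3, nat_lit 2], [nat_lit 1, nat_lit 3, nat_lit 2, nat_lit 1])) (.leaf ([nat_lit 3, nat_lit 2], [nat_lit 3, nat_lit 2]))) (.node (nat_lit 169) (.leaf ([nat_lit 0, nat_lit 3, nat_lit 0], [nat_lit 3, nat_lit 0, nat_lit 3, nat_lit 2, nat_lit 0, nat_lit 1])) (.node (nat_lit 170) (.leaf ([nat_lit 2, nat_lit 1, nat_lit 0, nat_lit 1], [nat_lit 1, nat_lit 0, nat_lit 1])) (.leaf ([nat_lit 3, nat_lit 2], [nat_lit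 1, nat_lit 3, nat_lit 1])))))
 (.node (nat_lit 173) (.node (nat_lit 172) (.leaf ([nat_lit 3, nat_lit 2], [nat_lit 1, nat_lit 0, nat_lit 3, nat_lit 0, nat_lit 1])) (.leaf ([nat_lit 0, nat_lit 3, nat_lit 0], [nat_lit 3, nat_lit 0, nat_lit 3, nat_lit 2, nat_lit 0, nat_lit 1]))) (.node (nat_lit 174) (.leaf ([nat_lit 3, nat_lit 2], [nat_lit 1, nat_lit 0, nat_lit 3, nat_lit 2, nat_lit 0, nat_lit 1])) (.node (nat_lit 175) (.leaf ([nat_lit 0, nat_lit 3, nat_lit 0], [nat_lit 3, nat_lit 1, nat_lit 3, nat_lit 1])) (.leaf ([nat_lit 0, nat_lit 3, nat_lit 0], [nat_lit 3, nat_lit 0, nat_lit 3, nat_lit 2, nat_lit 1, nat_lit 0])))))))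
 (.node (nat_lit 186) (.node (nat_lit 181) (.node (nat_lit 178) (.node (nat_lit 177) (.leaf ([nat_lit 3, nat_lit 2], [nat_lit 3, nat_lit 2])) (.leaf ([nat_lit 2, nat_lit 1, nat_lit 0, nat_lit 1], [nat_lit 1, nat_lit 0, nat_lit 1]))) (.node (nat_lit 179) (.leaf ([nat_lit 3, nat_lit 1, nat_lit 3, nat_lit 1], [nat_lit 1, nat_lit 0, nat_lit 3, nat_lit 0, nat_lit 1])) (.node (nat_lit 180) (.leaf ([nat_lit 2, nat_lit 1, nat_lit 0, nat_lit 1], [nat_lit 2, nat_lit 1, nat_lit 0, nat_lit 1])) (.leaf ([nat_lit 3, nat_lit 2], [nat_lit 1, nat_lit 0, nat_lit 3, nat_lit 2, nat_lit 0, nat_lit 1])))))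
 (.node (nat_lit 183) (.node (nat_lit 182) (.leaf ([nat_lit 3, nat_lit 0, nat_lit 3, nat_lit 2, nat_lit 1, nat_lit 0], [nat_lit 1, nat_lit 3, nat_lit 2, nat_lit 1])) (.leaf ([nat_lit 1, nat_lit 0, nat_lit 1], [nat_lit 2, nat_lit 1, nat_lit 0, nat_lit 1]))) (.node (nat_lit 184) (.leaf ([nat_lit 2, nat_lit 1, nat_lit 0, nat_lit 1], [nat_lit 1, nat_lit 0, nat_lit 1])) (.node (nat_lit 185) (.leaf ([nat_lit 2], [nat_lit 2])) (.leaf ([nat_lit 3], [nat_lit 3]))))))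
 (.node (nat_lit 191) (.node (nat_lit 188) (.node (nat_lit 187) (.leaf ([nat_lit 3], [nat_lit 3])) (.leaf ([nat_lit 1, nat_lit 0, nat_lit 1], [nat_lit 0]))) (.node (nat_lit 189) (.leaf ([nat_lit 3], [nat_lit 3, nat_lit 1, nat_lit 0, nat_lit 3, nat_lit 2, nat_lit 0, nat_lit 1])) (.node (nat_lit 190) (.leaf ([nat_lit 3], [nat_lit 3, nat_lit 1, nat_lit 3, nat_lit 1, nat_lit 0, nat_lit 1, nat_lit 0])) (.leaf ([nat_lit 1, nat_lit 0, nat_lit 3, nat_lit 2, nat_lit 0, nat_lit 1], [nat_lit 1, nat_lit 3, nat_lit 2, nat_lit 1])))))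
 (.node (nat_lit 193) (.node (nat_lit 192) (.leaf ([nat_lit 1, nat_lit 3, nat_lit 2, nat_lit 1], [nat_lit 0, nat_lit 3, nat_lit 2, nat_lit 0])) (.leaf ([nat_lit 3, nat_lit 0, nat_lit 3, nat_lit 2, nat_lit 1, nat_lit 0], [nat_lit 0, nat_lit 3, nat_lit 0]))) (.node (nat_lit 194) (.leaf ([nat_lit 1, nat_lit 0, nat_lit 1], [nat_lit 2, nat_lit 1, nat_lit 0, nat_lit 1])) (.node (nat_lit 195) (.leaf ([nat_lit 3], [nat_lit 1, nat_lit 0, nat_lit 3, nat_lit 2, nat_lit 0, nat_lit 1])) (.leaf ([nat_lit 0], [nat_lit 1, nat_lit 0, nat_lit 1]))))))))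
 (.node (nat_lit 216) (.node (nat_lit 206) (.node (nat_lit 201) (.node (nat_lit 198) (.node (nat_lit 197) (.leaf ([nat_lit 1, nat_lit 0, nat_lit 3, nat_lit 2, nat_lit 0, nat_lit 1], [nat_lit 3, nat_lit 2])) (.leaf ([nat_lit 0], [nat_lit 1, nat_lit 0, nat_lit 1]))) (.node (nat_lit 199) (.leaf ([nat_lit 1, nat_lit 0, nat_lit 1], [nat_lit 2, nat_lit 1, nat_lit 0, nat_lit 1])) (.node (nat_lit 200) (.leaf ([nat_lit 3], [nat_lit 1, nat_lit 3, nat_lit 1])) (.leaf ([nat_lit 0], [nat_lit 1, nat_lit 0, nat_lit 1])))))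
 (.node (nat_lit 203) (.node (nat_lit 202) (.leaf ([nat_lit 3, nat_lit 1, nat_lit 3, nat_lit 1], [nat_lit 0, nat_lit 3, nat_lit 0])) (.leaf ([nat_lit 0, nat_lit 3, nat_lit 0], [nat_lit 3, nat_lit 1, nat_lit 3, nat_lit 1, nat_lit 0, nat_lit 1, nat_lit 0]))) (.node (nat_lit 204) (.leaf ([nat_lit 0, nat_lit 3, nat_lit 2, nat_lit 0], [nat_lit 3, nat_lit 2])) (.node (nat_lit 205) (.leaf ([nat_lit 3, nat_lit 2], [nat_lit 1, nat_lit 0, nat_lit 3, nat_lit 0, nat_lit 1])) (.leaf ([nat_lit 3, nat_lit 0, nat_lit 3], [nat_lit 3, nat_lit 0, nat_lit 3]))))))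
 (.node (nat_lit 211) (.node (nat_lit 208) (.node (nat_lit 207) (.leaf ([nat_lit 2, nat_lit 1, nat_lit 0, nat_lit 1], [nat_lit 0])) (.leaf ([nat_lit 3], [nat_lit 3, nat_lit 0, nat_lit 3, nat_lit 2, nat_lit 0, nat_lit 1]))) (.node (nat_lit 209) (.leaf ([nat_lit 3], [nat_lit 3, nat_lit 0, nat_lit 3, nat_lit 2, nat_lit 1, nat_lit 0])) (.node (nat_lit 210) (.leaf ([nat_lit 3], [nat_lit 3, nat_lit 1, nat_lit 0, nat_lit 3, nat_lit 2, nat_lit 1, nat_lit 0])) (.leaf ([nat_lit 3], [nat_lit 3, nat_lit 1, nat_lit 3, nat_lit 1])))))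
 (.node (nat_lit 213) (.node (nat_lit 212) (.leaf ([nat_lit 3, nat_lit 0, nat_lit 3, nat_lit 2, nat_lit 1, nat_lit 0], [nat_lit 3, nat_lit 1, nat_lit 3, nat_lit 0, nat_lit 1, nat_lit 0])) (.leaf ([nat_lit 1, nat_lit 3, nat_lit 2, nat_lit 1], [nat_lit 3]))) (.node (nat_lit 214) (.leaf ([nat_lit 2, nat_lit 1, nat_lit 0, nat_lit 1], [nat_lit 2, nat_lit 1, nat_lit 0, nat_lit 1])) (.node (nat_lit 215) (.leaf ([nat_lit 0], [nat_lit 3, nat_lit 0, nat_lit 3])) (.leaf ([nat_lit 0, nat_lit 3, nat_lit 2, nat_lit 0], [nat_lit 1, nat_lit 0, nat_lit 3, nat_lit 0, nat_lit 1])))))))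
 (.node (nat_lit 226) (.node (nat_lit 221) (.node (nat_lit 218) (.node (nat_lit 217) (.leaf ([nat_lit 0, nat_lit 3, nat_lit 0], [nat_lit 3])) (.leaf ([nat_lit 0, nat_lit 3, nat_lit 0], [nat_lit 3]))) (.node (nat_lit 219) (.leaf ([nat_lit 1, nat_lit 3, nat_lit 1], [nat_lit 1, nat_lit 3, nat_lit 2, nat_lit 1])) (.node (nat_lit 220) (.leaf ([nat_lit 1, nat_lit 0, nat_lit 3, nat_lit 0, nat_lit 1], [nat_lit 0, nat_lit 3, nat_lit 2, nat_lit 0])) (.leaf ([nat_lit 1, nat_lit 0, nat_lit 1], [nat_lit 1, nat_lit 0, nat_lit 1])))))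
 (.node (nat_lit 223) (.node (nat_lit 222) (.leaf ([nat_lit 1, nat_lit 0, nat_lit 1], [nat_lit 1, nat_lit 0, nat_lit 1])) (.leaf ([nat_lit 3, nat_lit 2], [nat_lit 3, nat_lit 1, nat_lit 3, nat_lit 1, nat_lit 0, nat_lit 1, nat_lit 0]))) (.node (nat_lit 224) (.leaf ([nat_lit 3, nat_lit 0, nat_lit 3], [nat_lit 3, nat_lit 0, nat_lit 3])) (.node (nat_lit 225) (.leaf ([nat_lit 1, nat_lit 0, nat_lit 1], [nat_lit 1, nat_lit 0, nat_lit 1])) (.leaf ([nat_lit 1, nat_lit 0, nat_lit 1], [nat_lit 1, nat_lit 0, nat_lit 1]))))))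
 (.node (nat_lit 231) (.node (nat_lit 228) (.node (nat_lit 227) (.leaf ([nat_lit 3, nat_lit 2], [nat_lit 3, nat_lit 1, nat_lit 0, nat_lit 3, nat_lit 2, nat_lit 0, nat_lit 1])) (.leaf ([nat_lit 3, nat_lit 0, nat_lit 3], [nat_lit 3, nat_lit 0, nat_lit 3]))) (.node (nat_lit 229) (.leaf ([nat_lit 3], [nat_lit 0, nat_lit 3, nat_lit 0])) (.node (nat_lit 230) (.leaf ([nat_lit 0], [nat_lit 0])) (.leaf ([nat_lit 0, nat_lit 3, nat_lit 0], [nat_lit 3, nat_lit 1, nat_lit 3, nat_lit 1, nat_lit 0, nat_lit 1, nat_lit 0])))))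
 (.node (nat_lit 233) (.node (nat_lit 232) (.leaf ([nat_lit 3, nat_lit 2], [nat_lit 1, nat_lit 3, nat_lit 1])) (.leaf ([nat_lit 1, nat_lit 0, nat_lit 1], [nat_lit 3, nat_lit 0, nat_lit 3]))) (.node (nat_lit 234) (.leaf ([nat_lit 0, nat_lit 3, nat_lit 0], [nat_lit 3, nat_lit 1, nat_lit 3, nat_lit 1, nat_lit 0, nat_lit 1, nat_lit 0])) (.node (nat_lit 235) (.leaf ([nat_lit 3, nat_lit 2], [nat_lit 1, nat_lit 0, nat_lit 3, nat_lit 2, nat_lit 0, nat_lit 1])) (.leaf ([nat_lit 3, nat_lit 2], [nat_lit 0, nat_lit 3, nat_lit 2, nat_lit 0])))))))))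
 (.node (nat_lit 275) (.node (nat_lit 255) (.node (nat_lit 245) (.node (nat_lit 240) (.node (nat_lit 238) (.node (nat_lit 237) (.leaf ([nat_lit 2, nat_lit 1, nat_lit 0, nat_lit 1], [nat_lit 1, nat_lit 0, nat_lit 1])) (.leaf ([nat_lit 3, nat_lit 0, nat_lit 3, nat_lit 2, nat_lit 0, nat_lit 1], [nat_lit 3, nat_lit 1, nat_lit 3, nat_lit 0, nat_lit 1, nat_lit 0]))) (.node (nat_lit 239) (.leaf ([nat_lit 2, nat_lit 1, nat_lit 0, nat_lit 1], [nat_lit 2, nat_lit 1, nat_lit 0, nat_lit 1])) (.leaf ([nat_lit 3, nat_lit 2], [nat_lit 1, nat_lit 0, nat_lit 3, nat_lit 0, nat_lit 1]))))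
 (.node (nat_lit 242) (.node (nat_lit 241) (.leaf ([nat_lit 0, nat_lit 3, nat_lit 0], [nat_lit 3, nat_lit 0, nat_lit 3, nat_lit 2, nat_lit 0, nat_lit 1])) (.leaf ([nat_lit 0, nat_lit 3, nat_lit 0], [nat_lit 3, nat_lit 1, nat_lit 0, nat_lit 3, nat_lit 2, nat_lit 1, nat_lit 0]))) (.node (nat_lit 243) (.leaf ([nat_lit 2, nat_lit 1, nat_lit 0, nat_lit 1], [nat_lit 1, nat_lit 0, nat_lit 1])) (.node (nat_lit 244) (.leaf ([nat_lit 3, nat_lit 0, nat_lit 3], [nat_lit 3, nat_lit 0, nat_lit 3])) (.leaf ([nat_lit 3, nat_lit 1, nat_lit 3, nat_lit 1], [nat_lit 1, nat_lit 3, nat_lit 1]))))))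
 (.node (nat_lit 250) (.node (nat_lit 247) (.node (nat_lit 246) (.leaf ([nat_lit 3, nat_lit 1, nat_lit 3, nat_lit 1], [nat_lit 1, nat_lit 0, nat_lit 3, nat_lit 2, nat_lit 0, nat_lit 1])) (.leaf ([nat_lit 2, nat_lit 1, nat_lit 0, nat_lit 1], [nat_lit 2, nat_lit 1, nat_lit 0, nat_lit 1]))) (.node (nat_lit 248) (.leaf ([nat_lit 0, nat_lit 3, nat_lit 2, nat_lit 0], [nat_lit 1, nat_lit 0, nat_lit 3, nat_lit 2, nat_lit 0, nat_lit 1])) (.node (nat_lit 249) (.leaf ([nat_lit 2, nat_lit 0], [nat_lit 2, nat_lit 0, nat_lit 1])) (.leaf ([nat_lit 3], [nat_lit 0, nat_lit 3, nat_lit 0])))))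
 (.node (nat_lit 252) (.node (nat_lit 251) (.leaf ([nat_lit 0, nat_lit 3, nat_lit 2, nat_lit 0], [nat_lit 1, nat_lit 3, nat_lit 1])) (.leaf ([nat_lit 1, nat_lit 0, nat_lit 1], [nat_lit 0]))) (.node (nat_lit 253) (.leaf ([nat_lit 3], [nat_lit 3, nat_lit 1, nat_lit 3, nat_lit 0, nat_lit 1, nat_lit 0])) (.node (nat_lit 254) (.leaf ([nat_lit 3], [nat_lit 3, nat_lit 1, nat_lit 3, nat_lit 1, nat_lit 0, nat_lit 1, nat_lit 0])) (.leaf ([nat_lit 3, nat_lit 0, nat_lit 3, nat_lit 2, nat_lit 1, nat_lit 0], [nat_lit 3, nat_lit 1, nat_lit 3, nat_lit 1])))))))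
 (.node (nat_lit 265) (.node (nat_lit 260) (.node (nat_lit 257) (.node (nat_lit 256) (.leaf ([nat_lit 2], [nat_lit 3, nat_lit 1, nat_lit 0, nat_lit 3, nat_lit 2, nat_lit 1, nat_lit 0, nat_lit 1])) (.leaf ([nat_lit 1, nat_lit 0, nat_lit 1], [nat_lit 2, nat_lit 1, nat_lit 0, nat_lit 1]))) (.node (nat_lit 258) (.leaf ([nat_lit 1, nat_lit 0, nat_lit 3, nat_lit 2, nat_lit 0, nat_lit 1], [nat_lit 0, nat_lit 3, nat_lit 2, nat_lit 0])) (.node (nat_lit 259) (.leaf ([nat_lit 0], [nat_lit 1, nat_lit 0, nat_lit 1])) (.leaf ([nat_lit 2, nat_lit 0], [nat_lit 2, nat_lit 0, nat_lit 1])))))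
 (.node (nat_lit 262) (.node (nat_lit 261) (.leaf ([nat_lit 0], [nat_lit 1, nat_lit 0, nat_lit 1])) (.leaf ([nat_lit 2, nat_lit 1, nat_lit 0, nat_lit 1], [nat_lit 3, nat_lit 0, nat_lit 3]))) (.node (nat_lit 263) (.leaf ([nat_lit 3, nat_lit 0, nat_lit 3], [nat_lit 0])) (.node (nat_lit 264) (.leaf ([nat_lit 3, nat_lit 0, nat_lit 3], [nat_lit 3, nat_lit 0, nat_lit 3])) (.leaf ([nat_lit 3], [nat_lit 3, nat_lit 0, nat_lit 3, nat_lit 2, nat_lit 0, nat_lit 1]))))))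
 (.node (nat_lit 270) (.node (nat_lit 267) (.node (nat_lit 266) (.leaf ([nat_lit 0], [nat_lit 3, nat_lit 0, nat_lit 3])) (.leaf ([nat_lit 3], [nat_lit 3, nat_lit 1, nat_lit 0, nat_lit 3, nat_lit 2, nat_lit 1, nat_lit 0]))) (.node (nat_lit 268) (.leaf ([nat_lit 3], [nat_lit 3, nat_lit 1, nat_lit 3, nat_lit 1])) (.node (nat_lit 269) (.leaf ([nat_lit 3, nat_lit 0, nat_lit 3, nat_lit 2, nat_lit 1, nat_lit 0], [nat_lit 3, nat_lit 1, nat_lit 0, nat_lit 3, nat_lit 2, nat_lit 0, nat_lit 1])) (.leaf ([nat_lit 2, nat_lit 1, nat_lit 0, nat_lit 1], [nat_lit 0])))))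
 (.node (nat_lit 272) (.node (nat_lit 271) (.leaf ([nat_lit 1, nat_lit 3, nat_lit 2, nat_lit 1], [nat_lit 0, nat_lit 3, nat_lit 0])) (.leaf ([nat_lit 0, nat_lit 3, nat_lit 2, nat_lit 0], [nat_lit 1, nat_lit 3, nat_lit 1]))) (.node (nat_lit 273) (.leaf ([nat_lit 0], [nat_lit 3, nat_lit 0, nat_lit 3])) (.node (nat_lit 274) (.leaf ([nat_lit 3, nat_lit 0, nat_lit 3], [nat_lit 3, nat_lit 0, nat_lit 3])) (.leaf ([nat_lit 1, nat_lit 0, nat_lit 3, nat_lit 0, nat_lit 1], [nat_lit 3, nat_lit 2]))))))))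
 (.node (nat_lit 295) (.node (nat_lit 285) (.node (nat_lit 280) (.node (nat_lit 277) (.node (nat_lit 276) (.leaf ([nat_lit 1, nat_lit 0, nat_lit 3, nat_lit 0, nat_lit 1], [nat_lit 3, nat_lit 2])) (.leaf ([nat_lit 3, nat_lit 2], [nat_lit 3, nat_lit 1, nat_lit 3, nat_lit 0, nat_lit 1, nat_lit 0]))) (.node (nat_lit 278) (.leaf ([nat_lit 3, nat_lit 0, nat_lit 3], [nat_lit 3, nat_lit 0, nat_lit 3])) (.node (nat_lit 279) (.leaf ([nat_lit 1, nat_lit 0, nat_lit 1], [nat_lit 1, nat_lit 0, nat_lit 1])) (.leaf ([nat_lit 0], [nat_lit 0])))))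
 (.node (nat_lit 282) (.node (nat_lit 281) (.leaf ([nat_lit 0], [nat_lit 0])) (.leaf ([nat_lit 3, nat_lit 2], [nat_lit 1, nat_lit 0, nat_lit 3, nat_lit 0, nat_lit 1]))) (.node (nat_lit 283) (.leaf ([nat_lit 0, nat_lit 3, nat_lit 0], [nat_lit 3, nat_lit 1, nat_lit 0, nat_lit 3, nat_lit 2, nat_lit 0])) (.node (nat_lit 284) (.leaf ([nat_lit 2], [nat_lit 3, nat_lit 0, nat_lit 3, nat_lit 1, nat_lit 0, nat_lit 1])) (.leaf ([nat_lit 3, nat_lit 0, nat_lit 3], [nat_lit 3, nat_lit 0, nat_lit 3]))))))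
 (.node (nat_lit 290) (.node (nat_lit 287) (.node (nat_lit 286) (.leaf ([nat_lit 3, nat_lit 0, nat_lit 3, nat_lit 2, nat_lit 0, nat_lit 1], [nat_lit 3, nat_lit 1, nat_lit 0, nat_lit 3, nat_lit 2, nat_lit 0, nat_lit 1])) (.leaf ([nat_lit 3, nat_lit 0, nat_lit 3, nat_lit 2, nat_lit 0, nat_lit 1], [nat_lit 3, nat_lit 1, nat_lit 3, nat_lit 1]))) (.node (nat_lit 288) (.leaf ([nat_lit 2, nat_lit 1, nat_lit 0, nat_lit 1], [nat_lit 2, nat_lit 1, nat_lit 0, nat_lit 1])) (.node (nat_lit 289) (.leaf ([nat_lit 1, nat_lit 0, nat_lit 3, nat_lit 2, nat_lit 0, nat_lit 1], [nat_lit 1, nat_lit 3, nat_lit 2, nat_lit 1])) (.leaf ([nat_lit 3, nat_lit 0, nat_lit 3], [nat_lit 3, nat_lit 0, nat_lit 3])))))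
 (.node (nat_lit 292) (.node (nat_lit 291) (.leaf ([nat_lit 3, nat_lit 1, nat_lit 3, nat_lit 1], [nat_lit 1, nat_lit 3, nat_lit 2, nat_lit 1])) (.leaf ([nat_lit 0, nat_lit 3, nat_lit 2, nat_lit 0], [nat_lit 1, nat_lit 3, nat_lit 2, nat_lit 1]))) (.node (nat_lit 293) (.leaf ([nat_lit 0, nat_lit 3, nat_lit 2, nat_lit 0], [nat_lit 1, nat_lit 0, nat_lit 3, nat_lit 0, nat_lit 1])) (.node (nat_lit 294) (.leaf ([nat_lit 3, nat_lit 0, nat_lit 3, nat_lit 2, nat_lit 1, nat_lit 0], [nat_lit 3, nat_lit 1, nat_lit 0, nat_lit 3, nat_lit 2, nat_lit 1, nat_lit 0])) (.leaf ([nat_lit 3], [nat_lit 3, nat_lit 1, nat_lit 3, nat_lit 0, nat_lit 1, nat_lit 0])))))))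
 (.node (nat_lit 305) (.node (nat_lit 300) (.node (nat_lit 297) (.node (nat_lit 296) (.leaf ([nat_lit 2], [nat_lit 3, nat_lit 0, nat_lit 3, nat_lit 2, nat_lit 1, nat_lit 0, nat_lit 1])) (.leaf ([nat_lit 3, nat_lit 0, nat_lit 3], [nat_lit 0]))) (.node (nat_lit 298) (.leaf ([nat_lit 2], [nat_lit 2, nat_lit 1, nat_lit 0, nat_lit 1, nat_lit 0])) (.node (nat_lit 299) (.leaf ([nat_lit 0], [nat_lit 3, nat_lit 0, nat_lit 3])) (.leaf ([nat_lit 3], [nat_lit 3, nat_lit 1, nat_lit 0, nat_lit 3, nat_lit 2, nat_lit 0, nat_lit 1])))))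
 (.node (nat_lit 302) (.node (nat_lit 301) (.leaf ([nat_lit 3, nat_lit 0, nat_lit 3], [nat_lit 3, nat_lit 0, nat_lit 3])) (.leaf ([nat_lit 2, nat_lit 1, nat_lit 0, nat_lit 1], [nat_lit 0]))) (.node (nat_lit 303) (.leaf ([nat_lit 0], [nat_lit 3, nat_lit 0, nat_lit 3])) (.node (nat_lit 304) (.leaf ([nat_lit 3, nat_lit 0, nat_lit 3], [nat_lit 3, nat_lit 0, nat_lit 3])) (.leaf ([nat_lit 1, nat_lit 0, nat_lit 3, nat_lit 0, nat_lit 1], [nat_lit 0, nat_lit 3, nat_lit 2, nat_lit 0]))))))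
 (.node (nat_lit 310) (.node (nat_lit 307) (.node (nat_lit 306) (.leaf ([nat_lit 0], [nat_lit 0])) (.leaf ([nat_lit 1, nat_lit 0, nat_lit 1], [nat_lit 3, nat_lit 0, nat_lit 3]))) (.node (nat_lit 308) (.leaf ([nat_lit 3, nat_lit 0, nat_lit 3], [nat_lit 3, nat_lit 0, nat_lit 3])) (.node (nat_lit 309) (.leaf ([nat_lit 3, nat_lit 0, nat_lit 3, nat_lit 2, nat_lit 0, nat_lit 1], [nat_lit 3, nat_lit 1, nat_lit 0, nat_lit 3, nat_lit 2, nat_lit 1, nat_lit 0])) (.leaf ([nat_lit 0], [nat_lit 0])))))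
 (.node (nat_lit 312) (.node (nat_lit 311) (.leaf ([nat_lit 0, nat_lit 3, nat_lit 2, nat_lit 0], [nat_lit 1, nat_lit 0, nat_lit 3, nat_lit 2, nat_lit 0, nat_lit 1])) (.leaf ([nat_lit 2, nat_lit 1, nat_lit 0, nat_lit 1], [nat_lit 3, nat_lit 0, nat_lit 3]))) (.node (nat_lit 313) (.leaf ([nat_lit 0], [nat_lit 3, nat_lit 0, nat_lit 3])) (.node (nat_lit 314) (.leaf ([nat_lit 1], [nat_lit 2])) (.leaf ([nat_lit 0], [nat_lit 0]))))))))))
noncomputable def cZ : Tr (List ℕ × List ℕ) := (.node (nat_lit 157) cZ_0 cZ_1)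
theorem cm : allB 315 (meetChk (nat_lit 3) (nat_lit 7) (Alt.s8L.map Lev.b) aT bR cZ) = true := by decide +kernel
theorem s8 (P : Sylow 2 (Equiv.Perm (Fin 8))) (x : Equiv.Perm (Fin 8)) :
    (P : Subgroup _) ⊓ (P : Subgroup _).map (MulAut.conj x).toMonoidHom ≠ ⊥ := by
  obtain ⟨N, D, -⟩ := (Alt.s8ch.gen (lets_words Alt.s8ch.lets aE aw) achain asd atc)
  exact Alt.s8ch.meet D.lets (lets_words Alt.s8ch.lets bE bw) (Alt.s8ch.cos D.lets (lets_words Alt.s8ch.lets bE bw) bc (by decide +kernel)) cm (IsPGroup.of_card (n := 7) (D.card.trans (by decide +kernel))) P x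

end H8.Cl3
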