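import Cfsg.Agent.H8.Cl4
import Cfsg.Agent.H8.Alt

/-! H8.Cl5: automorphism groups of S6 and A6 (generated certificate) -/

set_option autoImplicit false
set_option maxRecDepth 200000

set_option linter.all false
open Subgroup 

namespace H8.Cl5

noncomputable def as0 : ℕ := (nat_lit 0x2c681)
noncomputable def as1 : ℕ := (nat_lit 0xd8d0)
noncomputable def as2 : ℕ := (nat_lit 0x23468)
noncomputable def as3 : ℕ := (nat_lit 0xc6a8)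
noncomputable def as4 : ℕ := (nat_lit 0x158c8)
noncomputable def as5 : ℕ := (nat_lit 0x23548)
noncomputable def as6 : ℕ := (nat_lit 0x2c4c8)
noncomputable def as7 : ℕ := (nat_lit 0x1d888)
noncomputable def as8 : ℕ := (nat_lit 0x2b888)
noncomputable def as9 : ℕ := (nat_lit 0x25688)
noncomputable def as10 : ℕ := (nat_lit 0x2c650)
noncomputable def aS : Tr ℕ := (.node (nat_lit 5) (.node (nat_lit 2) (.node (nat_lit 1) (.leaf as0) (.leaf as1)) (.node (nat_lit 3) (.leaf as2) (.node (nat_lit 4) (.leaf as3) (.leaf as4))))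
 (.node (nat_lit 8) (.node (nat_lit 6) (.leaf as5) (.node (nat_lit 7) (.leaf as6) (.leaf as7))) (.node (nat_lit 9) (.leaf as8) (.node (nat_lit 10) (.leaf as9) (.leaf as10)))))
noncomputable def aD : Tr (List ℕ) := (.node (nat_lit 5) (.node (nat_lit 2) (.node (nat_lit 1) (.leaf []) (.leaf [])) (.node (nat_lit 3) (.leaf [nat_lit 1, nat_lit 1, nat_lit 1, nat_lit 1]) (.node (nat_lit 4) (.leaf [nat_lit 0, nat_lit 2, nat_lit 0, nat_lit 1, nat_lit 0]) (.leaf [nat_lit 1, nat_lit 3]))))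
 (.node (nat_lit 8) (.node (nat_lit 6) (.leaf [nat_lit 3, nat_lit 2]) (.node (nat_lit 7) (.leaf [nat_lit 1, nat_lit 1, nat_lit 3, nat_lit 2, nat_lit 2]) (.leaf [nat_lit 6, nat_lit 4]))) (.node (nat_lit 9) (.leaf [nat_lit 4, nat_lit 6, nat_lit 5]) (.node (nat_lit 10) (.leaf [nat_lit 7, nat_lit 7, nat_lit 8]) (.leaf [nat_lit 1, nat_lit 5])))))
theorem aslp : slpChk 6 (nat_lit 3) (nat_lit 7) aS aD 2 9 = true := by decide +kernel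
noncomputable def aa : ℕ := (nat_lit 0x2c681)
noncomputable def aaw : List ℕ := [nat_lit 4]
theorem aap : isProd 6 (nat_lit 3) (nat_lit 7) Alt.s6T aa aaw = true := by decide +kernel
noncomputable def ab : ℕ := (nat_lit 0xd8d0)
noncomputable def abw : List ℕ := [nat_lit 3, nat_lit 2, nat_lit 1, nat_lit 0]
theorem abp : isProd 6 (nat_lit 3) (nat_lit 7) Alt.s6T ab abw = true := by decide +kernel
noncomputable def aE1 : List ℕ := [(nat_lit 0x25688),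
 (nat_lit 0x2b888),
 (nat_lit 0x2c4c8),
 (nat_lit 0x2c650),
 (nat_lit 0x2c681),
 (nat_lit 0x254c8),
 (nat_lit 0x25650),
 (nat_lit 0x25681),
 (nat_lit 0x2b850),
 (nat_lit 0x2b881),
 (nat_lit 0x2c4c1),
 (nat_lit 0x1ca88),
 (nat_lit 0x254c1),
 (nat_lit 0x2a708),
 (nat_lit 0x2c298),
 (nat_lit 0x2c60a),
 (nat_lit 0x1ca50),
 (nat_lit 0x1ca81),
 (nat_lit 0x25298),
 (nat_lit 0x2560a),
 (nat_lit 0x1ab08),
 (nat_lit 0x2a701),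
 (nat_lit 0x2b80a),
 (nat_lit 0x2a318),
 (nat_lit 0x2c21a),
 (nat_lit 0x14748),
 (nat_lit 0x2521a),
 (nat_lit 0x1ab01),
 (nat_lit 0x296a0),
 (nat_lit 0x2c08b),
 (nat_lit 0x13948),
 (nat_lit 0x1ca0a),
 (nat_lit 0x14741),
 (nat_lit 0x14358),
 (nat_lit 0x2508b),
 (nat_lit 0x19aa0),
 (nat_lit 0x294e0),
 (nat_lit 0x29622),
 (nat_lit 0x2a10b),
 (nat_lit 0x2c053),
 (nat_lit 0x13941),
 (nat_lit 0xc6a8),
 (nat_lit 0x25053),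
 (nat_lit 0x19a22),
 (nat_lit 0x2868c),
 (nat_lit 0xb8a8),
 (nat_lit 0xc4e8),
 (nat_lit 0xc62a),
 (nat_lit 0x1414b),
 (nat_lit 0x11760),
 (nat_lit 0x18a8c),
 (nat_lit 0x284cc),
 (nat_lit 0x28654),
 (nat_lit 0x290a3),
 (nat_lit 0xb82a),
 (nat_lit 0x468d),
 (nat_lit 0x18a54),
 (nat_lit 0x11163),
 (nat_lit 0xa728),
 (nat_lit 0x388d),
 (nat_lit 0x44cd),
 (nat_lit 0x4655),
 (nat_lit 0xc0ab),
 (nat_lit 0x1074c),
 (nat_lit 0x2829c),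
 (nat_lit 0x3855),
 (nat_lit 0xa12b),
 (nat_lit 0x1035c),
 (nat_lit 0x270d),
 (nat_lit 0x429d),
 (nat_lit 0x86ac),
 (nat_lit 0x231d),
 (nat_lit 0x84ec),
 (nat_lit 0x16a5),
 (nat_lit 0x14e5)]
noncomputable def aE2 : List ℕ := [(nat_lit 0x23468),
 (nat_lit 0x23350),
 (nat_lit 0x22a58),
 (nat_lit 0x21ad0),
 (nat_lit 0x1d460),
 (nat_lit 0x1d310),
 (nat_lit 0x2b444),
 (nat_lit 0x2b421),
 (nat_lit 0x2b302),
 (nat_lit 0x2b111),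
 (nat_lit 0x15858),
 (nat_lit 0x2a843),
 (nat_lit 0x2a819),
 (nat_lit 0xd8d0),
 (nat_lit 0x298c2),
 (nat_lit 0x288d1),
 (nat_lit 0x1a868),
 (nat_lit 0x1c445),
 (nat_lit 0x1c429),
 (nat_lit 0x19950),
 (nat_lit 0x1c342),
 (nat_lit 0x1c151),
 (nat_lit 0x222e8),
 (nat_lit 0x22645),
 (nat_lit 0x22629),
 (nat_lit 0x23285),
 (nat_lit 0x2340d),
 (nat_lit 0x230a9),
 (nat_lit 0x21742),
 (nat_lit 0x2314a),
 (nat_lit 0x20751),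
 (nat_lit 0x14a43),
 (nat_lit 0x14a19),
 (nat_lit 0x21558),
 (nat_lit 0x22a0b),
 (nat_lit 0x21a83),
 (nat_lit 0x20a99),
 (nat_lit 0xcac2),
 (nat_lit 0x20aca),
 (nat_lit 0x4ad1),
 (nat_lit 0x13a60),
 (nat_lit 0x1a360),
 (nat_lit 0x1d284),
 (nat_lit 0x1d40c),
 (nat_lit 0x1d0a1),
 (nat_lit 0xbb10),
 (nat_lit 0x1d10a),
 (nat_lit 0x152e0),
 (nat_lit 0x15644),
 (nat_lit 0x15621),
 (nat_lit 0x2a2c4),
 (nat_lit 0x2a0e1),
 (nat_lit 0x2b214),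
 (nat_lit 0xd702),
 (nat_lit 0x2b062),
 (nat_lit 0x5711),
 (nat_lit 0x11b18),
 (nat_lit 0x1580b),
 (nat_lit 0xd518),
 (nat_lit 0x29503),
 (nat_lit 0x2a223),
 (nat_lit 0x28519),
 (nat_lit 0xd883),
 (nat_lit 0x29813),
 (nat_lit 0x5899),
 (nat_lit 0x2911a),
 (nat_lit 0x2885a),
 (nat_lit 0x58ca),
 (nat_lit 0x13328),
 (nat_lit 0x19528),
 (nat_lit 0x1a80d),
 (nat_lit 0x19885),
 (nat_lit 0x1c215),
 (nat_lit 0x188a9),
 (nat_lit 0x1c06a),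
 (nat_lit 0x1894a),
 (nat_lit 0x118e8),
 (nat_lit 0x142c5),
 (nat_lit 0x140e9),
 (nat_lit 0x220cd),
 (nat_lit 0x21615),
 (nat_lit 0x2066a),
 (nat_lit 0xa958),
 (nat_lit 0x1422b),
 (nat_lit 0xc543),
 (nat_lit 0x2054b),
 (nat_lit 0x4559),
 (nat_lit 0xca13),
 (nat_lit 0xc15a),
 (nat_lit 0x4a5a),
 (nat_lit 0x13a0c),
 (nat_lit 0xb560),
 (nat_lit 0x1a14c),
 (nat_lit 0xba84),
 (nat_lit 0x3aa1),
 (nat_lit 0x3b0a),
 (nat_lit 0xaae0),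
 (nat_lit 0x150cc),
 (nat_lit 0x2941c),
 (nat_lit 0x2a05c),
 (nat_lit 0xd614),
 (nat_lit 0x290d4),
 (nat_lit 0x282e2),
 (nat_lit 0x5662),
 (nat_lit 0x10b0b),
 (nat_lit 0x28463),
 (nat_lit 0x550b),
 (nat_lit 0x28313),
 (nat_lit 0x11705),
 (nat_lit 0x1310d),
 (nat_lit 0x10729),
 (nat_lit 0x1850d),
 (nat_lit 0x1405d),
 (nat_lit 0x108cd),
 (nat_lit 0xc41d),
 (nat_lit 0x2109d),
 (nat_lit 0xc0d5),
 (nat_lit 0x42ea),
 (nat_lit 0x294b),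
 (nat_lit 0x202ab),
 (nat_lit 0x446b),
 (nat_lit 0x4353),
 (nat_lit 0xa744),
 (nat_lit 0x1162c),
 (nat_lit 0x2761),
 (nat_lit 0x190ac),
 (nat_lit 0x354c),
 (nat_lit 0x8762),
 (nat_lit 0x2acc),
 (nat_lit 0xd09c),
 (nat_lit 0x8aa3),
 (nat_lit 0x52a3),
 (nat_lit 0xa625),
 (nat_lit 0x10665),
 (nat_lit 0xb0a5),
 (nat_lit 0x182a5),
 (nat_lit 0x8715),
 (nat_lit 0x172a),
 (nat_lit 0x889d),
 (nat_lit 0x18ab),
 (nat_lit 0x266c),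
 (nat_lit 0x32ac),
 (nat_lit 0x1754),
 (nat_lit 0x1a9c)]
theorem ae1_0 : allR 0 1 (refu 6 (nat_lit 3) (nat_lit 7) Alt.s6T ⟨fun _ _ => 0, fun _ _ _ => true, leafE 6 (nat_lit 3) (nat_lit 7) (Alt.s6L.map Lev.b) [[nat_lit 0, nat_lit 0]] [[nat_lit 0]] aE1⟩ Alt.s6L0 [Alt.s6L1, Alt.s6L2, Alt.s6L3, Alt.s6L4] []) = true := by decide +kernel
theorem ae1_1 : allR 1 1 (refu 6 (nat_lit 3) (nat_lit 7) Alt.s6T ⟨fun _ _ => 0, fun _ _ _ => true, leafE 6 (nat_lit 3) (nat_lit 7) (Alt.s6L.map Lev.b) [[nat_lit 0, nat_lit 0]] [[nat_lit 0]] aE1⟩ Alt.s6L0 [Alt.s6L1, Alt.s6L2, Alt.s6L3, Alt.s6L4] []) = true := by decide +kernel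
theorem ae1_2 : allR 2 1 (refu 6 (nat_lit 3) (nat_lit 7) Alt.s6T ⟨fun _ _ => 0, fun _ _ _ => true, leafE 6 (nat_lit 3) (nat_lit 7) (Alt.s6L.map Lev.b) [[nat_lit 0, nat_lit 0]] [[nat_lit 0]] aE1⟩ Alt.s6L0 [Alt.s6L1, Alt.s6L2, Alt.s6L3, Alt.s6L4] []) = true := by decide +kernel
theorem ae1_3 : allR 3 1 (refu 6 (nat_lit 3) (nat_lit 7) Alt.s6T ⟨fun _ _ => 0, fun _ _ _ => true, leafE 6 (nat_lit 3) (nat_lit 7) (Alt.s6L.map Lev.b) [[nat_lit 0, nat_lit 0]] [[nat_lit 0]] aE1⟩ Alt.s6L0 [Alt.s6L1, Alt.s6L2, Alt.s6L3, Alt.s6L4] []) = true := by decide +kernel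
theorem ae1_4 : allR 4 1 (refu 6 (nat_lit 3) (nat_lit 7) Alt.s6T ⟨fun _ _ => 0, fun _ _ _ => true, leafE 6 (nat_lit 3) (nat_lit 7) (Alt.s6L.map Lev.b) [[nat_lit 0, nat_lit 0]] [[nat_lit 0]] aE1⟩ Alt.s6L0 [Alt.s6L1, Alt.s6L2, Alt.s6L3, Alt.s6L4] []) = true := by decide +kernel
theorem ae1_5 : allR 5 1 (refu 6 (nat_lit 3) (nat_lit 7) Alt.s6T ⟨fun _ _ => 0, fun _ _ _ => true, leafE 6 (nat_lit 3) (nat_lit 7) (Alt.s6L.map Lev.b) [[nat_lit 0, nat_lit 0]] [[nat_lit 0]] aE1⟩ Alt.s6L0 [Alt.s6L1, Alt.s6L2, Alt.s6L3, Alt.s6L4] []) = true := by decide +kernel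
theorem ae1 : allR 0 6 (refu 6 (nat_lit 3) (nat_lit 7) Alt.s6T ⟨fun _ _ => 0, fun _ _ _ => true, leafE 6 (nat_lit 3) (nat_lit 7) (Alt.s6L.map Lev.b) [[nat_lit 0, nat_lit 0]] [[nat_lit 0]] aE1⟩ Alt.s6L0 [Alt.s6L1, Alt.s6L2, Alt.s6L3, Alt.s6L4] []) = true := (allR_add (allR_add (allR_add (allR_add (allR_add ae1_0 ae1_1) ae1_2) ae1_3) ae1_4) ae1_5)
theorem ae2_0 : allR 0 1 (refu 6 (nat_lit 3) (nat_lit 7) Alt.s6T ⟨fun _ _ => 0, fun _ _ _ => true, leafE 6 (nat_lit 3) (nat_lit 7) (Alt.s6L.map Lev.b) [[nat_lit 0, nat_lit 0, nat_lit 0, nat_lit 0, nat_lit 0]] [[nat_lit 0]] aE2⟩ Alt.s6L0 [Alt.s6L1, Alt.s6L2, Alt.s6L3, Alt.s6L4] []) = true := by decide +kernel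
theorem ae2_1 : allR 1 1 (refu 6 (nat_lit 3) (nat_lit 7) Alt.s6T ⟨fun _ _ => 0, fun _ _ _ => true, leafE 6 (nat_lit 3) (nat_lit 7) (Alt.s6L.map Lev.b) [[nat_lit 0, nat_lit 0, nat_lit 0, nat_lit 0, nat_lit 0]] [[nat_lit 0]] aE2⟩ Alt.s6L0 [Alt.s6L1, Alt.s6L2, Alt.s6L3, Alt.s6L4] []) = true := by decide +kernel
theorem ae2_2 : allR 2 1 (refu 6 (nat_lit 3) (nat_lit 7) Alt.s6T ⟨fun _ _ => 0, fun _ _ _ => true, leafE 6 (nat_lit 3) (nat_lit 7) (Alt.s6L.map Lev.b) [[nat_lit 0, nat_lit 0, nat_lit 0, nat_lit 0, nat_lit 0]] [[nat_lit 0]] aE2⟩ Alt.s6L0 [Alt.s6L1, Alt.s6L2, Alt.s6L3, Alt.s6L4] []) = true := by decide +kernel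
theorem ae2_3 : allR 3 1 (refu 6 (nat_lit 3) (nat_lit 7) Alt.s6T ⟨fun _ _ => 0, fun _ _ _ => true, leafE 6 (nat_lit 3) (nat_lit 7) (Alt.s6L.map Lev.b) [[nat_lit 0, nat_lit 0, nat_lit 0, nat_lit 0, nat_lit 0]] [[nat_lit 0]] aE2⟩ Alt.s6L0 [Alt.s6L1, Alt.s6L2, Alt.s6L3, Alt.s6L4] []) = true := by decide +kernel
theorem ae2_4 : allR 4 1 (refu 6 (nat_lit 3) (nat_lit 7) Alt.s6T ⟨fun _ _ => 0, fun _ _ _ => true, leafE 6 (nat_lit 3) (nat_lit 7) (Alt.s6L.map Lev.b) [[nat_lit 0, nat_lit 0, nat_lit 0, nat_lit 0, nat_lit 0]] [[nat_lit 0]] aE2⟩ Alt.s6L0 [Alt.s6L1, Alt.s6L2, Alt.s6L3, Alt.s6L4] []) = true := by decide +kernel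
theorem ae2_5 : allR 5 1 (refu 6 (nat_lit 3) (nat_lit 7) Alt.s6T ⟨fun _ _ => 0, fun _ _ _ => true, leafE 6 (nat_lit 3) (nat_lit 7) (Alt.s6L.map Lev.b) [[nat_lit 0, nat_lit 0, nat_lit 0, nat_lit 0, nat_lit 0]] [[nat_lit 0]] aE2⟩ Alt.s6L0 [Alt.s6L1, Alt.s6L2, Alt.s6L3, Alt.s6L4] []) = true := by decide +kernel
theorem ae2 : allR 0 6 (refu 6 (nat_lit 3) (nat_lit 7) Alt.s6T ⟨fun _ _ => 0, fun _ _ _ => true, leafE 6 (nat_lit 3) (nat_lit 7) (Alt.s6L.map Lev.b) [[nat_lit 0, nat_lit 0, nat_lit 0, nat_lit 0, nat_lit 0]] [[nat_lit 0]] aE2⟩ Alt.s6L0 [Alt.s6L1, Alt.s6L2, Alt.s6L3, Alt.s6L4] []) = true := (allR_add (allR_add (allR_add (allR_add (allR_add ae2_0 ae2_1) ae2_2) ae2_3) ae2_4) ae2_5)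
theorem an : ((aE1.product aE2).countP fun p => rchk (Alt.s6L.map Lev.b) [[nat_lit 0, nat_lit 1, nat_lit 0, nat_lit 1, nat_lit 0, nat_lit 1, nat_lit 0, nat_lit 1, nat_lit 0, nat_lit 1, nat_lit 0, nat_lit 1], [nat_lit 0, nat_lit 1, nat_lit 0, nat_lit 1, nat_lit 1, nat_lit 1, nat_lit 1, nat_lit 0, nat_lit 1, nat_lit 0, nat_lit 1, nat_lit 1, nat_lit 1, nat_lit 1, nat_lit 0, nat_lit 1, nat_lit 0, nat_lit 1, nat_lit 1, nat_lit 1, nat_lit 1], [nat_lit 0, nat_lit 1, nat_lit 1, nat_lit 0, nat_lit 1, nat_lit 1, nat_lit 1, nat_lit 0, nat_lit 1, nat_lit 1, nat_lit 0, nat_lit 1, nat_lit 1, nat_lit 1, nat_lit 0, nat_lit 1, nat_lit 1, nat_lit 0, nat_lit 1, nat_lit 1, nat_lit 1]] [] (ap (nat_lit 3) (nat_lit 7) p.1) (ap (nat_lit 3) (nat_lit 7) p.2)) = 1440 := by decide +kernel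
theorem s6 : Nat.card (MulAut (Equiv.Perm (Fin 6))) ≤ 1440 := ((Alt.s6ch.aut_le (rep_word Alt.s6ch.lets aaw aap) (rep_word Alt.s6ch.lets abw abp) (Alt.s6ch.gen2 (T' := aS) (rep_word Alt.s6ch.lets aaw aap) (rep_word Alt.s6ch.lets abw abp) aslp (by decide +kernel)) (by decide +kernel) ae1 ae2).trans_eq an)
noncomputable def bs0 : ℕ := (nat_lit 0x1ab08)
noncomputable def bs1 : ℕ := (nat_lit 0x1d222)
noncomputable def bs2 : ℕ := (nat_lit 0x21a1a)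
noncomputable def bs3 : ℕ := (nat_lit 0x152e0)
noncomputable def bs4 : ℕ := (nat_lit 0x21558)
noncomputable def bs5 : ℕ := (nat_lit 0xb8a8)
noncomputable def bs6 : ℕ := (nat_lit 0x22748)
noncomputable def bs7 : ℕ := (nat_lit 0x15708)
noncomputable def bs8 : ℕ := (nat_lit 0x1c548)
noncomputable def bs9 : ℕ := (nat_lit 0x14ac8)
noncomputable def bs10 : ℕ := (nat_lit 0x23a88)
noncomputable def bs11 : ℕ := (nat_lit 0x1d888)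
noncomputable def bs12 : ℕ := (nat_lit 0x2a8c8)
noncomputable def bs13 : ℕ := (nat_lit 0x2b508)
noncomputable def bs14 : ℕ := (nat_lit 0x2c2d0)
noncomputable def bs15 : ℕ := (nat_lit 0x2c458)
noncomputable def bs16 : ℕ := (nat_lit 0x2c611)
noncomputable def bs17 : ℕ := (nat_lit 0x2c642)
noncomputable def bS : Tr ℕ := (.node (nat_lit 9) (.node (nat_lit 4) (.node (nat_lit 2) (.node (nat_lit 1) (.leaf bs0) (.leaf bs1)) (.node (nat_lit 3) (.leaf bs2) (.leaf bs3)))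
 (.node (nat_lit 6) (.node (nat_lit 5) (.leaf bs4) (.leaf bs5)) (.node (nat_lit 7) (.leaf bs6) (.node (nat_lit 8) (.leaf bs7) (.leaf bs8)))))
 (.node (nat_lit 13) (.node (nat_lit 11) (.node (nat_lit 10) (.leaf bs9) (.leaf bs10)) (.node (nat_lit 12) (.leaf bs11) (.leaf bs12)))
 (.node (nat_lit 15) (.node (nat_lit 14) (.leaf bs13) (.leaf bs14)) (.node (nat_lit 16) (.leaf bs15) (.node (nat_lit 17) (.leaf bs16) (.leaf bs17))))))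
noncomputable def bD : Tr (List ℕ) := (.node (nat_lit 9) (.node (nat_lit 4) (.node (nat_lit 2) (.node (nat_lit 1) (.leaf []) (.leaf [])) (.node (nat_lit 3) (.leaf [nat_lit 1, nat_lit 1, nat_lit 1]) (.leaf [nat_lit 1, nat_lit 0, nat_lit 1, nat_lit 1, nat_lit 0, nat_lit 1, nat_lit 0, nat_lit 2])))
 (.node (nat_lit 6) (.node (nat_lit 5) (.leaf [nat_lit 1, nat_lit 0, nat_lit 2, nat_lit 0, nat_lit 2, nat_lit 2, nat_lit 0, nat_lit 2]) (.leaf [nat_lit 1, nat_lit 0, nat_lit 1, nat_lit 1, nat_lit 1, nat_lit 1, nat_lit 0, nat_lit 1])) (.node (nat_lit 7) (.leaf [nat_lit 5, nat_lit 3, nat_lit 3]) (.node (nat_lit 8) (.leaf [nat_lit 4, nat_lit 4, nat_lit 5]) (.leaf [nat_lit 3, nat_lit 5, nat_lit 3])))))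
 (.node (nat_lit 13) (.node (nat_lit 11) (.node (nat_lit 10) (.leaf [nat_lit 4, nat_lit 5, nat_lit 4]) (.leaf [nat_lit 9, nat_lit 6])) (.node (nat_lit 12) (.leaf [nat_lit 7, nat_lit 8]) (.leaf [nat_lit 9, nat_lit 11])))
 (.node (nat_lit 15) (.node (nat_lit 14) (.leaf [nat_lit 12, nat_lit 12]) (.leaf [nat_lit 8, nat_lit 4, nat_lit 11])) (.node (nat_lit 16) (.leaf [nat_lit 14, nat_lit 14]) (.node (nat_lit 17) (.leaf [nat_lit 4, nat_lit 7, nat_lit 2, nat_lit 11]) (.leaf [nat_lit 16, nat_lit 16]))))))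
theorem bslp : slpChk 6 (nat_lit 3) (nat_lit 7) bS bD 2 16 = true := by decide +kernel
noncomputable def ba : ℕ := (nat_lit 0x1ab08)
noncomputable def baw : List ℕ := [nat_lit 3, nat_lit 1]
theorem bap : isProd 6 (nat_lit 3) (nat_lit 7) Alt.a6T ba baw = true := by decide +kernel
noncomputable def bb : ℕ := (nat_lit 0x1d222)
noncomputable def bbw : List ℕ := [nat_lit 7, nat_lit 0, nat_lit 5]
theorem bbp : isProd 6 (nat_lit 3) (nat_lit 7) Alt.a6T bb bbw = true := by decide +kernel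
noncomputable def bE1 : List ℕ := [(nat_lit 0x1ab08),
 (nat_lit 0x254c8),
 (nat_lit 0x2a318),
 (nat_lit 0x2b850),
 (nat_lit 0x2c21a),
 (nat_lit 0x2c4c1),
 (nat_lit 0x13948),
 (nat_lit 0x1ca50),
 (nat_lit 0x19aa0),
 (nat_lit 0x25298),
 (nat_lit 0x25650),
 (nat_lit 0x14358),
 (nat_lit 0x294e0),
 (nat_lit 0x2a701),
 (nat_lit 0x2a10b),
 (nat_lit 0x2b80a),
 (nat_lit 0x2b881),
 (nat_lit 0x29622),
 (nat_lit 0x2c053),
 (nat_lit 0x11760),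
 (nat_lit 0xb8a8),
 (nat_lit 0x1ca0a),
 (nat_lit 0x1ca81),
 (nat_lit 0x18a8c),
 (nat_lit 0xc4e8),
 (nat_lit 0x2560a),
 (nat_lit 0x25681),
 (nat_lit 0x2508b),
 (nat_lit 0xc62a),
 (nat_lit 0x14741),
 (nat_lit 0x1414b),
 (nat_lit 0x290a3),
 (nat_lit 0x284cc),
 (nat_lit 0x28654),
 (nat_lit 0xa728),
 (nat_lit 0x1074c),
 (nat_lit 0x388d),
 (nat_lit 0x44cd),
 (nat_lit 0x4655),
 (nat_lit 0x2829c),
 (nat_lit 0xc0ab),
 (nat_lit 0x86ac),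
 (nat_lit 0x270d),
 (nat_lit 0x429d),
 (nat_lit 0x16a5)]
noncomputable def bE2 : List ℕ := [(nat_lit 0x1aa21),
 (nat_lit 0x1aa44),
 (nat_lit 0x1d222),
 (nat_lit 0x1d501),
 (nat_lit 0x18b11),
 (nat_lit 0x19b02),
 (nat_lit 0x25419),
 (nat_lit 0x25443),
 (nat_lit 0x2322a),
 (nat_lit 0x23541),
 (nat_lit 0x250d1),
 (nat_lit 0x252c2),
 (nat_lit 0xd81a),
 (nat_lit 0x21a1a),
 (nat_lit 0x158c1),
 (nat_lit 0x22ac1),
 (nat_lit 0x1a305),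
 (nat_lit 0x1a941),
 (nat_lit 0x1a129),
 (nat_lit 0x13829),
 (nat_lit 0x13845),
 (nat_lit 0xba22),
 (nat_lit 0x1982a),
 (nat_lit 0x18a62),
 (nat_lit 0x19162),
 (nat_lit 0x1d054),
 (nat_lit 0x13b01),
 (nat_lit 0x19a14),
 (nat_lit 0x3951),
 (nat_lit 0xb942),
 (nat_lit 0x2221d),
 (nat_lit 0x204e9),
 (nat_lit 0x214c5),
 (nat_lit 0x25213),
 (nat_lit 0x23055),
 (nat_lit 0x2505a),
 (nat_lit 0x10959),
 (nat_lit 0x11943),
 (nat_lit 0xd4c4),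
 (nat_lit 0x11a23),
 (nat_lit 0x2b19),
 (nat_lit 0x54e1),
 (nat_lit 0xab03),
 (nat_lit 0x1521c),
 (nat_lit 0x13161),
 (nat_lit 0x13344),
 (nat_lit 0xd113),
 (nat_lit 0x2035a),
 (nat_lit 0x21153),
 (nat_lit 0x531a),
 (nat_lit 0x5853),
 (nat_lit 0x20a53),
 (nat_lit 0x15063),
 (nat_lit 0x2206b),
 (nat_lit 0xb42c),
 (nat_lit 0x1846c),
 (nat_lit 0x19425),
 (nat_lit 0xb815),
 (nat_lit 0x18855),
 (nat_lit 0xb12a),
 (nat_lit 0x3a54),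
 (nat_lit 0x18354),
 (nat_lit 0x386a),
 (nat_lit 0x88ea),
 (nat_lit 0xa82b),
 (nat_lit 0x1112b),
 (nat_lit 0xa163),
 (nat_lit 0x10363),
 (nat_lit 0x1115c),
 (nat_lit 0x10a5c),
 (nat_lit 0x8ad4),
 (nat_lit 0x1ae2),
 (nat_lit 0xa0ec),
 (nat_lit 0x102ec),
 (nat_lit 0x110e5),
 (nat_lit 0x3465),
 (nat_lit 0x3315),
 (nat_lit 0xa11d),
 (nat_lit 0x1031d),
 (nat_lit 0x285d),
 (nat_lit 0x18d5),
 (nat_lit 0x852b),
 (nat_lit 0x232b),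
 (nat_lit 0x1563),
 (nat_lit 0x855c),
 (nat_lit 0x235c),
 (nat_lit 0x14ec),
 (nat_lit 0x84e5),
 (nat_lit 0x22e5),
 (nat_lit 0x151d)]
theorem be1_0 : allR 0 5 (refu 6 (nat_lit 3) (nat_lit 7) Alt.a6T ⟨fun _ _ => 0, fun _ _ _ => true, leafE 6 (nat_lit 3) (nat_lit 7) (Alt.a6L.map Lev.b) [[nat_lit 0, nat_lit 0]] [[nat_lit 0]] bE1⟩ Alt.a6L0 [Alt.a6L1, Alt.a6L2, Alt.a6L3] []) = true := by decide +kernel
theorem be1_1 : allR 5 1 (refu 6 (nat_lit 3) (nat_lit 7) Alt.a6T ⟨fun _ _ => 0, fun _ _ _ => true, leafE 6 (nat_lit 3) (nat_lit 7) (Alt.a6L.map Lev.b) [[nat_lit 0, nat_lit 0]] [[nat_lit 0]] bE1⟩ Alt.a6L0 [Alt.a6L1, Alt.a6L2, Alt.a6L3] []) = true := by decide +kernel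
theorem be1 : allR 0 6 (refu 6 (nat_lit 3) (nat_lit 7) Alt.a6T ⟨fun _ _ => 0, fun _ _ _ => true, leafE 6 (nat_lit 3) (nat_lit 7) (Alt.a6L.map Lev.b) [[nat_lit 0, nat_lit 0]] [[nat_lit 0]] bE1⟩ Alt.a6L0 [Alt.a6L1, Alt.a6L2, Alt.a6L3] []) = true := (allR_add be1_0 be1_1)
theorem be2_0 : allR 0 3 (refu 6 (nat_lit 3) (nat_lit 7) Alt.a6T ⟨fun _ _ => 0, fun _ _ _ => true, leafE 6 (nat_lit 3) (nat_lit 7) (Alt.a6L.map Lev.b) [[nat_lit 0, nat_lit 0, nat_lit 0, nat_lit 0]] [[nat_lit 0, nat_lit 0]] bE2⟩ Alt.a6L0 [Alt.a6L1, Alt.a6L2, Alt.a6L3] []) = true := by decide +kernel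
theorem be2_1 : allR 3 2 (refu 6 (nat_lit 3) (nat_lit 7) Alt.a6T ⟨fun _ _ => 0, fun _ _ _ => true, leafE 6 (nat_lit 3) (nat_lit 7) (Alt.a6L.map Lev.b) [[nat_lit 0, nat_lit 0, nat_lit 0, nat_lit 0]] [[nat_lit 0, nat_lit 0]] bE2⟩ Alt.a6L0 [Alt.a6L1, Alt.a6L2, Alt.a6L3] []) = true := by decide +kernel
theorem be2_2 : allR 5 1 (refu 6 (nat_lit 3) (nat_lit 7) Alt.a6T ⟨fun _ _ => 0, fun _ _ _ => true, leafE 6 (nat_lit 3) (nat_lit 7) (Alt.a6L.map Lev.b) [[nat_lit 0, nat_lit 0, nat_lit 0, nat_lit 0]] [[nat_lit 0, nat_lit 0]] bE2⟩ Alt.a6L0 [Alt.a6L1, Alt.a6L2, Alt.a6L3] []) = true := by decide +kernel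
theorem be2 : allR 0 6 (refu 6 (nat_lit 3) (nat_lit 7) Alt.a6T ⟨fun _ _ => 0, fun _ _ _ => true, leafE 6 (nat_lit 3) (nat_lit 7) (Alt.a6L.map Lev.b) [[nat_lit 0, nat_lit 0, nat_lit 0, nat_lit 0]] [[nat_lit 0, nat_lit 0]] bE2⟩ Alt.a6L0 [Alt.a6L1, Alt.a6L2, Alt.a6L3] []) = true := (allR_add (allR_add be2_0 be2_1) be2_2)
theorem bn : ((bE1.product bE2).countP fun p => rchk (Alt.a6L.map Lev.b) [[nat_lit 0, nat_lit 1, nat_lit 0, nat_lit 1, nat_lit 0, nat_lit 1, nat_lit 0, nat_lit 1, nat_lit 0, nat_lit 1], [nat_lit 0, nat_lit 1, nat_lit 1, nat_lit 0, nat_lit 1, nat_lit 1, nat_lit 0, nat_lit 1, nat_lit 1, nat_lit 0, nat_lit 1, nat_lit 1, nat_lit 0, nat_lit 1, nat_lit 1]] [] (ap (nat_lit 3) (nat_lit 7) p.1) (ap (nat_lit 3) (nat_lit 7) p.2)) = 1440 := by decide +kernel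
theorem a6 : Nat.card (MulAut (alternatingGroup (Fin 6))) ≤ 1440 := ((Alt.a6ch.aut_le (rep_word Alt.a6ch.lets baw bap) (rep_word Alt.a6ch.lets bbw bbp) (Alt.a6ch.gen2 (T' := bS) (rep_word Alt.a6ch.lets baw bap) (rep_word Alt.a6ch.lets bbw bbp) bslp (by decide +kernel)) (by decide +kernel) be1 be2).trans_eq bn)

end H8.Cl5
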