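import Cfsg.Agent.H8.Cl5
import Cfsg.Agent.H8.GI

/-! H8.Cl6: Aut(A6) and PGL(2,5) (generated certificate) -/

set_option autoImplicit false
set_option maxRecDepth 200000

set_option linter.all false
open Subgroup 

namespace H8.Cl6

noncomputable def at0 : ℕ := (nat_lit 0x8967243510)
noncomputable def at1 : ℕ := (nat_lit 0x3685792410)
noncomputable def at2 : ℕ := (nat_lit 0x4758629310)
noncomputable def at3 : ℕ := (nat_lit 0x1648375290)
noncomputable def at4 : ℕ := (nat_lit 0x9120453786)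
noncomputable def aT : Tr ℕ := (.node (nat_lit 2) (.node (nat_lit 1) (.leaf at0) (.leaf at1)) (.node (nat_lit 3) (.leaf at2) (.node (nat_lit 4) (.leaf at3) (.leaf at4))))
noncomputable def aR : Tr (List ℕ) := (.node (nat_lit 7) (.node (nat_lit 3) (.node (nat_lit 1) (.leaf [nat_lit 4, nat_lit 0, nat_lit 4, nat_lit 3, nat_lit 4, nat_lit 0, nat_lit 4, nat_lit 3]) (.node (nat_lit 2) (.leaf [nat_lit 2, nat_lit 3, nat_lit 1, nat_lit 1, nat_lit 4, nat_lit 2, nat_lit 0, nat_lit 4, nat_lit 0, nat_lit 4]) (.leaf [nat_lit 0, nat_lit 1, nat_lit 0, nat_lit 2, nat_lit 0, nat_lit 2, nat_lit 0, nat_lit 2])))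
 (.node (nat_lit 5) (.node (nat_lit 4) (.leaf [nat_lit 0, nat_lit 1, nat_lit 1, nat_lit 4, nat_lit 0, nat_lit 3, nat_lit 0, nat_lit 3, nat_lit 0, nat_lit 4]) (.leaf [nat_lit 0, nat_lit 0])) (.node (nat_lit 6) (.leaf [nat_lit 1, nat_lit 2]) (.leaf [nat_lit 1, nat_lit 1, nat_lit 1, nat_lit 1]))))
 (.node (nat_lit 10) (.node (nat_lit 8) (.leaf [nat_lit 1, nat_lit 0, nat_lit 1, nat_lit 1, nat_lit 0, nat_lit 1]) (.node (nat_lit 9) (.leaf [nat_lit 3, nat_lit 1, nat_lit 1, nat_lit 3, nat_lit 1, nat_lit 1, nat_lit 3, nat_lit 1, nat_lit 1]) (.leaf [nat_lit 0, nat_lit 2, nat_lit 0, nat_lit 3, nat_lit 0, nat_lit 2, nat_lit 3, nat_lit 0, nat_lit 3])))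
 (.node (nat_lit 12) (.node (nat_lit 11) (.leaf [nat_lit 3, nat_lit 1, nat_lit 0, nat_lit 2, nat_lit 3, nat_lit 1, nat_lit 0, nat_lit 2]) (.leaf [nat_lit 4, nat_lit 0, nat_lit 2, nat_lit 3, nat_lit 4, nat_lit 0, nat_lit 2, nat_lit 3])) (.node (nat_lit 13) (.leaf [nat_lit 3, nat_lit 3]) (.leaf [nat_lit 4, nat_lit 4])))))
noncomputable def aL0 : Lev := ⟨(nat_lit 0), (nat_lit 5), (nat_lit 0x1020105030404050500), (nat_lit 0x3020201020303030300),
 (.node (nat_lit 2) (.node (nat_lit 1) (.leaf (nat_lit 0x100000001000300020008000200070000))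
 (.leaf (nat_lit 0x7000000030001000200080008000900100000)))
 (.node (nat_lit 3) (.leaf (nat_lit 0x90004000300010000000a00060009000f0000))
 (.node (nat_lit 4) (.leaf (nat_lit 0xe0006000100050001000000000002000d0000))
 (.leaf (nat_lit 0x10000100010000000b000c000a000000000001))))),
 (.node (nat_lit 2) (.node (nat_lit 1) (.leaf (nat_lit 0x401000000000401000400000306000200000106000005000000))
 (.leaf (nat_lit 0x500000000000602000500000301000808000705000603000500000000)))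
 (.node (nat_lit 3) (.leaf (nat_lit 0x501000501000501000501000000000501000a07000501000901000000))
 (.node (nat_lit 4) (.leaf (nat_lit 0xc00000c00000c00000b03000c00000000000000000003000b07000000))
 (.leaf (nat_lit 0xb04000d00000d00000000000b00000d01000b04000000000000000d01)))))⟩
noncomputable def aL1 : Lev := ⟨(nat_lit 1), (nat_lit 4), (nat_lit 0x4010203040203020000), (nat_lit 0x1020303030202030000),
 (.node (nat_lit 2) (.node (nat_lit 1) (.leaf (nat_lit 0x1000000040005000800020003000700000000))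
 (.leaf (nat_lit 0x1000100000005000600000002000000000000)))
 (.node (nat_lit 3) (.leaf (nat_lit 0x1000100070000000600010000000300000000))
 (.leaf (nat_lit 0x200070003000000060001000300010000)))),
 (.node (nat_lit 2) (.node (nat_lit 1) (.leaf (nat_lit 0x400000000000204000401000400000a02000701000704000000000000))
 (.leaf (nat_lit 0x500000500000000000a01000603000000000600000000000000000000)))
 (.node (nat_lit 3) (.leaf (nat_lit 0x501000501000501000000000501000501000000000501000000000000))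
 (.leaf (nat_lit 0x906000c00000c01000000000806000c01000803000c01000000))))⟩
noncomputable def aL2 : Lev := ⟨(nat_lit 3), (nat_lit 3), (nat_lit 0x2010203010200030000), (nat_lit 0x1020303020200010000),
 (.node (nat_lit 1) (.leaf (nat_lit 0x1000000040005000000030000000100000000))
 (.node (nat_lit 2) (.leaf (nat_lit 0x100000003000200000001000200000000))
 (.leaf (nat_lit 0x1000100030000000400030001000000000000)))),
 (.node (nat_lit 1) (.leaf (nat_lit 0x400000000000202000401000000000704000000000401000000000000))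
 (.node (nat_lit 2) (.leaf (nat_lit 0x500000000000600000703000000000500000603000000000000))
 (.leaf (nat_lit 0x501000501000501000000000501000501000501000000000000000000))))⟩
noncomputable def aL3 : Lev := ⟨(nat_lit 2), (nat_lit 1), (nat_lit 0x10000000000), (nat_lit 0x10000000000),
 (.leaf (nat_lit 0x100000000)),
 (.leaf (nat_lit 0x401000000000000))⟩
noncomputable def aL : List Lev := [aL0, aL1, aL2, aL3]
theorem as : aT.all (fun c => surjF 10 (ap (nat_lit 4) (nat_lit 15) c)) = true := by decide +kernel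
theorem alev0 : levChk 10 (nat_lit 4) (nat_lit 15) aT aR aL0 aL1.N = true := by decide +kernel
theorem alev1 : levChk 10 (nat_lit 4) (nat_lit 15) aT aR aL1 aL2.N = true := by decide +kernel
theorem alev2 : levChk 10 (nat_lit 4) (nat_lit 15) aT aR aL2 aL3.N = true := by decide +kernel
theorem alev3 : levChk 10 (nat_lit 4) (nat_lit 15) aT aR aL3 0 = true := by decide +kernel
theorem achain : Chain 10 (nat_lit 4) (nat_lit 15) aT aR aL := chain_cons alev0 <| chain_cons alev1 <| chain_cons alev2 <| chain_one alev3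
theorem asd : band (selChk aT aT (topN aL)) (aR.all fun w => eqB (List.range 10) (apL (nat_lit 4) (nat_lit 15) aT w) fun a => a) = true := by decide +kernel
theorem atc : tchainChk 10 (nat_lit 4) (nat_lit 15) aT aL = true := by decide +kernel
noncomputable def bt0 : ℕ := (nat_lit 0x8243967510)
noncomputable def bt1 : ℕ := (nat_lit 0x5934276810)
noncomputable def bt2 : ℕ := (nat_lit 0x7194562380)
noncomputable def bt3 : ℕ := (nat_lit 0x1805623497)
noncomputable def bT : Tr ℕ := (.node (nat_lit 2) (.node (nat_lit 1) (.leaf bt0) (.leaf bt1)) (.node (nat_lit 3) (.leaf bt2) (.leaf bt3)))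
noncomputable def bL0 : Lev := ⟨(nat_lit 0), (nat_lit 4), (nat_lit 0x3020401010201030400), (nat_lit 0x2030103030202030300),
 (.leaf 0),
 (.leaf 0)⟩
noncomputable def bL1 : Lev := ⟨(nat_lit 1), (nat_lit 3), (nat_lit 0x1030301010203020000), (nat_lit 0x2010304030403020000),
 (.leaf 0),
 (.leaf 0)⟩
noncomputable def bL2 : Lev := ⟨(nat_lit 2), (nat_lit 2), (nat_lit 0x1010000020000000000), (nat_lit 0x2010000010000000000),
 (.leaf 0),
 (.leaf 0)⟩
noncomputable def bL : List Lev := [bL0, bL1, bL2]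
noncomputable def bE : Tr (List ℕ) := (.node (nat_lit 2) (.node (nat_lit 1) (.leaf [nat_lit 2, nat_lit 0, nat_lit 2, nat_lit 0]) (.leaf [nat_lit 1, nat_lit 0, nat_lit 2, nat_lit 0])) (.node (nat_lit 3) (.leaf [nat_lit 0, nat_lit 3, nat_lit 0]) (.leaf [nat_lit 0, nat_lit 4, nat_lit 0])))
theorem bw_0 : bT.all2 (fun c w => isProd 10 (nat_lit 4) (nat_lit 15) aT c w) bE = true := by decide +kernel
theorem bw : bT.all2 (fun c w => isProd 10 (nat_lit 4) (nat_lit 15) aT c w) bE = true := bw_0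
noncomputable def beI : Tr (List ℕ) := (.node (nat_lit 4) (.node (nat_lit 2) (.node (nat_lit 1) (.leaf [nat_lit 1, nat_lit 2, nat_lit 3, nat_lit 2, nat_lit 0, nat_lit 2, nat_lit 1]) (.leaf [nat_lit 2, nat_lit 3, nat_lit 2, nat_lit 0, nat_lit 2])) (.node (nat_lit 3) (.leaf [nat_lit 2, nat_lit 1, nat_lit 3, nat_lit 0, nat_lit 2, nat_lit 0]) (.leaf [nat_lit 0, nat_lit 2, nat_lit 3, nat_lit 2, nat_lit 0, nat_lit 2, nat_lit 0])))
 (.node (nat_lit 6) (.node (nat_lit 5) (.leaf [nat_lit 2, nat_lit 1, nat_lit 3, nat_lit 1, nat_lit 2, nat_lit 0, nat_lit 2]) (.leaf [nat_lit 1, nat_lit 1, nat_lit 3, nat_lit 0, nat_lit 2, nat_lit 1, nat_lit 2, nat_lit 0])) (.node (nat_lit 7) (.leaf [nat_lit 1, nat_lit 1, nat_lit 3, nat_lit 2, nat_lit 1, nat_lit 2]) (.leaf [nat_lit 3, nat_lit 2, nat_lit 3, nat_lit 1, nat_lit 2, nat_lit 0, nat_lit 2, nat_lit 1, nat_lit 1]))))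
theorem beh : Alt.a6R.all (fun w => eqB (aL.map Lev.b) (apF (fun y => apL (nat_lit 4) (nat_lit 15) bT (beI.get y)) w) fun a => a) = true := by decide +kernel
noncomputable def beD : Tr (List ℕ) := (.node (nat_lit 2) (.node (nat_lit 1) (.leaf [nat_lit 6, nat_lit 4, nat_lit 1]) (.leaf [nat_lit 6, nat_lit 4, nat_lit 3, nat_lit 0])) (.node (nat_lit 3) (.leaf [nat_lit 7, nat_lit 0, nat_lit 5, nat_lit 1]) (.leaf [nat_lit 3, nat_lit 7, nat_lit 4, nat_lit 3])))
theorem bes : band (surChk (nat_lit 4) (nat_lit 15) (aL.map Lev.b) bT beI (topN Alt.a6L) beD (topN bL)) (band (tchainChk 10 (nat_lit 4) (nat_lit 15) bT bL) (Nat.ble (chainOrd 6 Alt.a6L) (chainOrd 10 bL))) = true := by decide +kernel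
noncomputable def bnW : Tr (List ℕ) := (.node (nat_lit 10) (.node (nat_lit 5) (.node (nat_lit 2) (.node (nat_lit 1) (.leaf [nat_lit 1]) (.leaf [nat_lit 0])) (.node (nat_lit 3) (.leaf [nat_lit 1, nat_lit 2, nat_lit 0]) (.node (nat_lit 4) (.leaf [nat_lit 1, nat_lit 1, nat_lit 3, nat_lit 1, nat_lit 2, nat_lit 0, nat_lit 2]) (.leaf [nat_lit 1]))))
 (.node (nat_lit 7) (.node (nat_lit 6) (.leaf [nat_lit 0]) (.leaf [nat_lit 1, nat_lit 2, nat_lit 0, nat_lit 2, nat_lit 1, nat_lit 1])) (.node (nat_lit 8) (.leaf [nat_lit 0, nat_lit 2, nat_lit 3, nat_lit 0, nat_lit 2, nat_lit 0]) (.node (nat_lit 9) (.leaf [nat_lit 1]) (.leaf [nat_lit 0])))))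
 (.node (nat_lit 15) (.node (nat_lit 12) (.node (nat_lit 11) (.leaf [nat_lit 2, nat_lit 1, nat_lit 2, nat_lit 1]) (.leaf [nat_lit 1, nat_lit 2, nat_lit 3, nat_lit 0, nat_lit 2, nat_lit 1])) (.node (nat_lit 13) (.leaf [nat_lit 1, nat_lit 2, nat_lit 0, nat_lit 2, nat_lit 0]) (.node (nat_lit 14) (.leaf [nat_lit 2, nat_lit 0, nat_lit 2, nat_lit 1, nat_lit 1]) (.leaf [nat_lit 0, nat_lit 2, nat_lit 1, nat_lit 2, nat_lit 1, nat_lit 1]))))
 (.node (nat_lit 17) (.node (nat_lit 16) (.leaf [nat_lit 0, nat_lit 3, nat_lit 1, nat_lit 2, nat_lit 0, nat_lit 2, nat_lit 0]) (.leaf [nat_lit 1, nat_lit 3, nat_lit 0, nat_lit 2, nat_lit 1])) (.node (nat_lit 18) (.leaf [nat_lit 1, nat_lit 2, nat_lit 3, nat_lit 1, nat_lit 2, nat_lit 1]) (.node (nat_lit 19) (.leaf [nat_lit 1, nat_lit 2, nat_lit 3, nat_lit 2, nat_lit 0, nat_lit 2]) (.leaf [nat_lit 0, nat_lit 3, nat_lit 1, nat_lit 2, nat_lit 0]))))))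
theorem bn : nrmChk (nat_lit 4) (nat_lit 15) (aL.map Lev.b) aT bT (topN aL) (topN bL) bnW = true := by decide +kernel
theorem ce_0 : allR 0 3 (refu 10 (nat_lit 4) (nat_lit 15) aT ⟨fun _ _ => 0, fun _ _ _ => true, fun f => bor (eqB (aL.map Lev.b) f fun a => a) (bnot (cmL (nat_lit 4) (nat_lit 15) (aL.map Lev.b) bT 4 f))⟩ aL0 [aL1, aL2, aL3] []) = true := by decide +kernel
theorem ce_1 : allR 3 3 (refu 10 (nat_lit 4) (nat_lit 15) aT ⟨fun _ _ => 0, fun _ _ _ => true, fun f => bor (eqB (aL.map Lev.b) f fun a => a) (bnot (cmL (nat_lit 4) (nat_lit 15) (aL.map Lev.b) bT 4 f))⟩ aL0 [aL1, aL2, aL3] []) = true := by decide +kernel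
theorem ce_2 : allR 6 3 (refu 10 (nat_lit 4) (nat_lit 15) aT ⟨fun _ _ => 0, fun _ _ _ => true, fun f => bor (eqB (aL.map Lev.b) f fun a => a) (bnot (cmL (nat_lit 4) (nat_lit 15) (aL.map Lev.b) bT 4 f))⟩ aL0 [aL1, aL2, aL3] []) = true := by decide +kernel
theorem ce_3 : allR 9 1 (refu 10 (nat_lit 4) (nat_lit 15) aT ⟨fun _ _ => 0, fun _ _ _ => true, fun f => bor (eqB (aL.map Lev.b) f fun a => a) (bnot (cmL (nat_lit 4) (nat_lit 15) (aL.map Lev.b) bT 4 f))⟩ aL0 [aL1, aL2, aL3] []) = true := by decide +kernel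
theorem ce : allR 0 10 (refu 10 (nat_lit 4) (nat_lit 15) aT ⟨fun _ _ => 0, fun _ _ _ => true, fun f => bor (eqB (aL.map Lev.b) f fun a => a) (bnot (cmL (nat_lit 4) (nat_lit 15) (aL.map Lev.b) bT 4 f))⟩ aL0 [aL1, aL2, aL3] []) = true := (allR_add (allR_add (allR_add ce_0 ce_1) ce_2) ce_3)
noncomputable def st0 : ℕ := (nat_lit 0x4816395270)
noncomputable def st1 : ℕ := (nat_lit 0x9852741630)
noncomputable def st2 : ℕ := (nat_lit 0x3502819647)
noncomputable def sT : Tr ℕ := (.node (nat_lit 1) (.leaf st0) (.node (nat_lit 2) (.leaf st1) (.leaf st2)))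
noncomputable def sR : Tr (List ℕ) := (.node (nat_lit 3) (.node (nat_lit 1) (.leaf [nat_lit 0, nat_lit 1, nat_lit 0, nat_lit 1]) (.node (nat_lit 2) (.leaf [nat_lit 0, nat_lit 0]) (.leaf [nat_lit 2, nat_lit 0, nat_lit 2, nat_lit 1, nat_lit 2, nat_lit 0, nat_lit 2, nat_lit 1])))
 (.node (nat_lit 5) (.node (nat_lit 4) (.leaf [nat_lit 0, nat_lit 1, nat_lit 2, nat_lit 0, nat_lit 2, nat_lit 0, nat_lit 2, nat_lit 1, nat_lit 0, nat_lit 2]) (.leaf [nat_lit 1, nat_lit 1])) (.node (nat_lit 6) (.leaf [nat_lit 2, nat_lit 1, nat_lit 2, nat_lit 1, nat_lit 2, nat_lit 1, nat_lit 2, nat_lit 1]) (.leaf [nat_lit 2, nat_lit 2]))))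
noncomputable def sL0 : Lev := ⟨(nat_lit 0), (nat_lit 3), (nat_lit 0x3030300020302000100), (nat_lit 0x4030100020303000200),
 (.node (nat_lit 1) (.leaf (nat_lit 0x2000200010000000300030002000000000000))
 (.node (nat_lit 2) (.leaf (nat_lit 0x3000200010000000000020000000000010000))
 (.leaf (nat_lit 0x100000001000000010001)))),
 (.node (nat_lit 1) (.leaf (nat_lit 0x305000201000100000000000100000101000002000000000000000000))
 (.node (nat_lit 2) (.leaf (nat_lit 0x505000503000400000000000000000203000000000000000401000000))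
 (.leaf (nat_lit 0x601000000000601000000000601000601))))⟩
noncomputable def sL1 : Lev := ⟨(nat_lit 1), (nat_lit 2), (nat_lit 0x100020002000000), (nat_lit 0x100020001000000),
 (.node (nat_lit 1) (.leaf (nat_lit 0x300000002000000010000))
 (.leaf (nat_lit 0x10000000000000000000000010000))),
 (.node (nat_lit 1) (.leaf (nat_lit 0x100000000000002000000000101000000))
 (.leaf (nat_lit 0x400000000000000000000000000000000000401000000)))⟩
noncomputable def sL : List Lev := [sL0, sL1]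
noncomputable def sE : Tr (List ℕ) := (.node (nat_lit 1) (.leaf [nat_lit 2, nat_lit 0, nat_lit 3, nat_lit 0, nat_lit 2, nat_lit 0]) (.node (nat_lit 2) (.leaf [nat_lit 1, nat_lit 3, nat_lit 2, nat_lit 0]) (.leaf [nat_lit 0, nat_lit 4, nat_lit 3, nat_lit 1, nat_lit 3, nat_lit 2, nat_lit 0, nat_lit 2, nat_lit 0])))
theorem sw_0 : sT.all2 (fun c w => isProd 10 (nat_lit 4) (nat_lit 15) aT c w) sE = true := by decide +kernel
theorem sw : sT.all2 (fun c w => isProd 10 (nat_lit 4) (nat_lit 15) aT c w) sE = true := sw_0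
theorem slev0 : levChk 10 (nat_lit 4) (nat_lit 15) sT sR sL0 sL1.N = true := by decide +kernel
theorem slev1 : levChk 10 (nat_lit 4) (nat_lit 15) sT sR sL1 0 = true := by decide +kernel
theorem schain : Chain 10 (nat_lit 4) (nat_lit 15) sT sR sL := chain_cons slev0 <| chain_one slev1
theorem ssd : band (selChk sT sT (topN sL)) (sR.all fun w => eqB (aL.map Lev.b) (apL (nat_lit 4) (nat_lit 15) sT w) fun a => a) = true := by decide +kernel
theorem stc : tchainChk 10 (nat_lit 4) (nat_lit 15) sT sL = true := by decide +kernel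
noncomputable def dR : Tr ℕ := (.node (nat_lit 22) (.node (nat_lit 11) (.node (nat_lit 5) (.node (nat_lit 2) (.node (nat_lit 1) (.leaf (nat_lit 0x9876543210)) (.leaf (nat_lit 0x8967243510))) (.node (nat_lit 3) (.leaf (nat_lit 0x3685792410)) (.node (nat_lit 4) (.leaf (nat_lit 0x4758629310)) (.leaf (nat_lit 0x1648375290)))))
 (.node (nat_lit 8) (.node (nat_lit 6) (.leaf (nat_lit 0x9120453786)) (.node (nat_lit 7) (.leaf (nat_lit 0x6358492710)) (.leaf (nat_lit 0x7485329610)))) (.node (nat_lit 9) (.leaf (nat_lit 0x6184275390)) (.node (nat_lit 10) (.leaf (nat_lit 0x1902753486)) (.leaf (nat_lit 0x2567834910))))))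
 (.node (nat_lit 16) (.node (nat_lit 13) (.node (nat_lit 12) (.leaf (nat_lit 0x5863412790)) (.leaf (nat_lit 0x4629758310))) (.node (nat_lit 14) (.leaf (nat_lit 0x5241079386)) (.node (nat_lit 15) (.leaf (nat_lit 0x1749362580)) (.leaf (nat_lit 0x1596287430)))))
 (.node (nat_lit 19) (.node (nat_lit 17) (.leaf (nat_lit 0x8051324796)) (.node (nat_lit 18) (.leaf (nat_lit 0x8150423697)) (.leaf (nat_lit 0x3140972865)))) (.node (nat_lit 20) (.leaf (nat_lit 0x4130269578)) (.node (nat_lit 21) (.leaf (nat_lit 0x1920735468)) (.leaf (nat_lit 0x7329485610)))))))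
 (.node (nat_lit 33) (.node (nat_lit 27) (.node (nat_lit 24) (.node (nat_lit 23) (.leaf (nat_lit 0x5276934810)) (.leaf (nat_lit 0x341597286))) (.node (nat_lit 25) (.leaf (nat_lit 0x6492358710)) (.node (nat_lit 26) (.leaf (nat_lit 0x5169487230)) (.leaf (nat_lit 0x815724396)))))
 (.node (nat_lit 30) (.node (nat_lit 28) (.leaf (nat_lit 0x1304872965)) (.node (nat_lit 29) (.leaf (nat_lit 0x1403569278)) (.leaf (nat_lit 0x2384657190)))) (.node (nat_lit 31) (.leaf (nat_lit 0x2973415680)) (.node (nat_lit 32) (.leaf (nat_lit 0x7821436590)) (.leaf (nat_lit 0x6321054978))))))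
 (.node (nat_lit 39) (.node (nat_lit 36) (.node (nat_lit 34) (.leaf (nat_lit 0x1287596430)) (.node (nat_lit 35) (.leaf (nat_lit 0x9021354687)) (.leaf (nat_lit 0x6071249835)))) (.node (nat_lit 37) (.leaf (nat_lit 0x3140865972)) (.node (nat_lit 38) (.leaf (nat_lit 0x4130578269)) (.leaf (nat_lit 0x7950281346)))))
 (.node (nat_lit 42) (.node (nat_lit 40) (.leaf (nat_lit 0x5934276810)) (.node (nat_lit 41) (.leaf (nat_lit 0x4720935186)) (.leaf (nat_lit 0x2178496530)))) (.node (nat_lit 43) (.leaf (nat_lit 0x9705381246)) (.node (nat_lit 44) (.leaf (nat_lit 0x3459216870)) (.leaf (nat_lit 0x5836421709))))))))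
noncomputable def dE : Tr (List ℕ) := (.node (nat_lit 22) (.node (nat_lit 11) (.node (nat_lit 5) (.node (nat_lit 2) (.node (nat_lit 1) (.leaf []) (.leaf [nat_lit 0])) (.node (nat_lit 3) (.leaf [nat_lit 1]) (.node (nat_lit 4) (.leaf [nat_lit 2]) (.leaf [nat_lit 3]))))
 (.node (nat_lit 8) (.node (nat_lit 6) (.leaf [nat_lit 4]) (.node (nat_lit 7) (.leaf [nat_lit 1, nat_lit 0]) (.leaf [nat_lit 2, nat_lit 0]))) (.node (nat_lit 9) (.leaf [nat_lit 3, nat_lit 0]) (.node (nat_lit 10) (.leaf [nat_lit 4, nat_lit 0]) (.leaf [nat_lit 2, nat_lit 2])))))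
 (.node (nat_lit 16) (.node (nat_lit 13) (.node (nat_lit 12) (.leaf [nat_lit 3, nat_lit 1]) (.leaf [nat_lit 0, nat_lit 2])) (.node (nat_lit 14) (.leaf [nat_lit 4, nat_lit 2]) (.node (nat_lit 15) (.leaf [nat_lit 0, nat_lit 3]) (.leaf [nat_lit 1, nat_lit 3]))))
 (.node (nat_lit 19) (.node (nat_lit 17) (.leaf [nat_lit 4, nat_lit 3]) (.node (nat_lit 18) (.leaf [nat_lit 0, nat_lit 4]) (.leaf [nat_lit 1, nat_lit 4]))) (.node (nat_lit 20) (.leaf [nat_lit 2, nat_lit 4]) (.node (nat_lit 21) (.leaf [nat_lit 2, nat_lit 4, nat_lit 2, nat_lit 3, nat_lit 2, nat_lit 0, nat_lit 2, nat_lit 0]) (.leaf [nat_lit 0, nat_lit 1, nat_lit 0]))))))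
 (.node (nat_lit 33) (.node (nat_lit 27) (.node (nat_lit 24) (.node (nat_lit 23) (.leaf [nat_lit 2, nat_lit 2, nat_lit 0]) (.leaf [nat_lit 4, nat_lit 1, nat_lit 0])) (.node (nat_lit 25) (.leaf [nat_lit 0, nat_lit 2, nat_lit 0]) (.node (nat_lit 26) (.leaf [nat_lit 1, nat_lit 3, nat_lit 0]) (.leaf [nat_lit 4, nat_lit 3, nat_lit 0]))))
 (.node (nat_lit 30) (.node (nat_lit 28) (.leaf [nat_lit 1, nat_lit 4, nat_lit 0]) (.node (nat_lit 29) (.leaf [nat_lit 2, nat_lit 4, nat_lit 0]) (.leaf [nat_lit 3, nat_lit 2, nat_lit 2]))) (.node (nat_lit 31) (.leaf [nat_lit 0, nat_lit 3, nat_lit 1]) (.node (nat_lit 32) (.leaf [nat_lit 3, nat_lit 0, nat_lit 2]) (.leaf [nat_lit 2, nat_lit 4, nat_lit 2])))))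
 (.node (nat_lit 39) (.node (nat_lit 36) (.node (nat_lit 34) (.leaf [nat_lit 1, nat_lit 3, nat_lit 1, nat_lit 0, nat_lit 2]) (.node (nat_lit 35) (.leaf [nat_lit 0, nat_lit 4, nat_lit 3]) (.leaf [nat_lit 1, nat_lit 4, nat_lit 3]))) (.node (nat_lit 37) (.leaf [nat_lit 4, nat_lit 0, nat_lit 4, nat_lit 2, nat_lit 3, nat_lit 2, nat_lit 2]) (.node (nat_lit 38) (.leaf [nat_lit 0, nat_lit 2, nat_lit 4]) (.leaf [nat_lit 4, nat_lit 3, nat_lit 1, nat_lit 3, nat_lit 1, nat_lit 0, nat_lit 2, nat_lit 0]))))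
 (.node (nat_lit 42) (.node (nat_lit 40) (.leaf [nat_lit 1, nat_lit 0, nat_lit 2, nat_lit 0]) (.node (nat_lit 41) (.leaf [nat_lit 4, nat_lit 2, nat_lit 2, nat_lit 0]) (.leaf [nat_lit 1, nat_lit 3, nat_lit 1, nat_lit 0, nat_lit 2, nat_lit 0]))) (.node (nat_lit 43) (.leaf [nat_lit 4, nat_lit 3, nat_lit 1, nat_lit 3, nat_lit 1, nat_lit 0, nat_lit 2]) (.node (nat_lit 44) (.leaf [nat_lit 2, nat_lit 0, nat_lit 3, nat_lit 1]) (.leaf [nat_lit 0, nat_lit 2, nat_lit 4, nat_lit 1, nat_lit 0, nat_lit 3, nat_lit 0, nat_lit 2])))))))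
theorem dw_0 : dR.all2 (fun c w => isProd 10 (nat_lit 4) (nat_lit 15) aT c w) dE = true := by decide +kernel
theorem dw : dR.all2 (fun c w => isProd 10 (nat_lit 4) (nat_lit 15) aT c w) dE = true := dw_0
noncomputable def dWd : Tr (ℕ × List ℕ) := (.node (nat_lit 112) (.node (nat_lit 56) (.node (nat_lit 28) (.node (nat_lit 14) (.node (nat_lit 7) (.node (nat_lit 3) (.node (nat_lit 1) (.leaf ((nat_lit 1), [])) (.node (nat_lit 2) (.leaf ((nat_lit 2), [])) (.leaf ((nat_lit 3), []))))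
 (.node (nat_lit 5) (.node (nat_lit 4) (.leaf ((nat_lit 4), [])) (.leaf ((nat_lit 5), []))) (.node (nat_lit 6) (.leaf ((nat_lit 0), [])) (.leaf ((nat_lit 6), [])))))
 (.node (nat_lit 10) (.node (nat_lit 8) (.leaf ((nat_lit 7), [])) (.node (nat_lit 9) (.leaf ((nat_lit 8), [])) (.leaf ((nat_lit 9), []))))
 (.node (nat_lit 12) (.node (nat_lit 11) (.leaf ((nat_lit 9), [nat_lit 2, nat_lit 1])) (.leaf ((nat_lit 10), []))) (.node (nat_lit 13) (.leaf ((nat_lit 0), [])) (.leaf ((nat_lit 11), []))))))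
 (.node (nat_lit 21) (.node (nat_lit 17) (.node (nat_lit 15) (.leaf ((nat_lit 2), [nat_lit 2, nat_lit 1, nat_lit 2, nat_lit 0])) (.node (nat_lit 16) (.leaf ((nat_lit 12), [])) (.leaf ((nat_lit 0), []))))
 (.node (nat_lit 19) (.node (nat_lit 18) (.leaf ((nat_lit 10), [])) (.leaf ((nat_lit 7), [nat_lit 1]))) (.node (nat_lit 20) (.leaf ((nat_lit 13), [])) (.leaf ((nat_lit 14), [])))))
 (.node (nat_lit 24) (.node (nat_lit 22) (.leaf ((nat_lit 15), [])) (.node (nat_lit 23) (.leaf ((nat_lit 11), [nat_lit 1, nat_lit 0])) (.leaf ((nat_lit 0), []))))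
 (.node (nat_lit 26) (.node (nat_lit 25) (.leaf ((nat_lit 16), [])) (.leaf ((nat_lit 17), []))) (.node (nat_lit 27) (.leaf ((nat_lit 18), [])) (.leaf ((nat_lit 19), [])))))))
 (.node (nat_lit 42) (.node (nat_lit 35) (.node (nat_lit 31) (.node (nat_lit 29) (.leaf ((nat_lit 20), [])) (.node (nat_lit 30) (.leaf ((nat_lit 0), [])) (.leaf ((nat_lit 21), []))))
 (.node (nat_lit 33) (.node (nat_lit 32) (.leaf ((nat_lit 22), [])) (.leaf ((nat_lit 1), []))) (.node (nat_lit 34) (.leaf ((nat_lit 15), [nat_lit 0])) (.leaf ((nat_lit 23), [])))))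
 (.node (nat_lit 38) (.node (nat_lit 36) (.leaf ((nat_lit 24), [])) (.node (nat_lit 37) (.leaf ((nat_lit 1), [])) (.leaf ((nat_lit 22), []))))
 (.node (nat_lit 40) (.node (nat_lit 39) (.leaf ((nat_lit 3), [nat_lit 1])) (.leaf ((nat_lit 20), [nat_lit 0, nat_lit 2, nat_lit 0]))) (.node (nat_lit 41) (.leaf ((nat_lit 8), [nat_lit 0])) (.leaf ((nat_lit 25), []))))))
 (.node (nat_lit 49) (.node (nat_lit 45) (.node (nat_lit 43) (.leaf ((nat_lit 25), [nat_lit 1, nat_lit 0])) (.node (nat_lit 44) (.leaf ((nat_lit 1), [])) (.leaf ((nat_lit 26), []))))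
 (.node (nat_lit 47) (.node (nat_lit 46) (.leaf ((nat_lit 2), [nat_lit 1, nat_lit 2])) (.leaf ((nat_lit 27), []))) (.node (nat_lit 48) (.leaf ((nat_lit 28), [])) (.leaf ((nat_lit 24), [nat_lit 1, nat_lit 0, nat_lit 2])))))
 (.node (nat_lit 52) (.node (nat_lit 50) (.leaf ((nat_lit 1), [])) (.node (nat_lit 51) (.leaf ((nat_lit 22), [])) (.leaf ((nat_lit 3), []))))
 (.node (nat_lit 54) (.node (nat_lit 53) (.leaf ((nat_lit 2), [])) (.leaf ((nat_lit 29), []))) (.node (nat_lit 55) (.leaf ((nat_lit 25), [nat_lit 2])) (.leaf ((nat_lit 30), []))))))))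
 (.node (nat_lit 84) (.node (nat_lit 70) (.node (nat_lit 63) (.node (nat_lit 59) (.node (nat_lit 57) (.leaf ((nat_lit 4), [nat_lit 1, nat_lit 0])) (.node (nat_lit 58) (.leaf ((nat_lit 14), [nat_lit 0])) (.leaf ((nat_lit 2), []))))
 (.node (nat_lit 61) (.node (nat_lit 60) (.leaf ((nat_lit 28), [nat_lit 2, nat_lit 0, nat_lit 2])) (.leaf ((nat_lit 3), []))) (.node (nat_lit 62) (.leaf ((nat_lit 28), [nat_lit 2, nat_lit 1])) (.leaf ((nat_lit 27), [nat_lit 2, nat_lit 1])))))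
 (.node (nat_lit 66) (.node (nat_lit 64) (.leaf ((nat_lit 31), [])) (.node (nat_lit 65) (.leaf ((nat_lit 12), [nat_lit 2, nat_lit 1, nat_lit 2, nat_lit 1])) (.leaf ((nat_lit 13), [nat_lit 2, nat_lit 0, nat_lit 2]))))
 (.node (nat_lit 68) (.node (nat_lit 67) (.leaf ((nat_lit 23), [nat_lit 1, nat_lit 2, nat_lit 0])) (.leaf ((nat_lit 32), []))) (.node (nat_lit 69) (.leaf ((nat_lit 14), [nat_lit 0, nat_lit 2, nat_lit 1])) (.leaf ((nat_lit 3), []))))))
 (.node (nat_lit 77) (.node (nat_lit 73) (.node (nat_lit 71) (.leaf ((nat_lit 4), [])) (.node (nat_lit 72) (.leaf ((nat_lit 11), [nat_lit 0])) (.leaf ((nat_lit 15), [nat_lit 1]))))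
 (.node (nat_lit 75) (.node (nat_lit 74) (.leaf ((nat_lit 13), [nat_lit 1, nat_lit 2, nat_lit 0])) (.leaf ((nat_lit 27), [nat_lit 0, nat_lit 2]))) (.node (nat_lit 76) (.leaf ((nat_lit 33), [])) (.leaf ((nat_lit 14), [nat_lit 1])))))
 (.node (nat_lit 80) (.node (nat_lit 78) (.leaf ((nat_lit 4), [])) (.node (nat_lit 79) (.leaf ((nat_lit 6), [nat_lit 0])) (.leaf ((nat_lit 19), [nat_lit 2, nat_lit 0, nat_lit 2, nat_lit 0]))))
 (.node (nat_lit 82) (.node (nat_lit 81) (.leaf ((nat_lit 34), [])) (.leaf ((nat_lit 35), []))) (.node (nat_lit 83) (.leaf ((nat_lit 31), [nat_lit 2, nat_lit 1, nat_lit 2, nat_lit 1, nat_lit 0])) (.leaf ((nat_lit 27), [nat_lit 1, nat_lit 2, nat_lit 1])))))))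
 (.node (nat_lit 98) (.node (nat_lit 91) (.node (nat_lit 87) (.node (nat_lit 85) (.leaf ((nat_lit 4), [])) (.node (nat_lit 86) (.leaf ((nat_lit 5), [])) (.leaf ((nat_lit 19), [nat_lit 0]))))
 (.node (nat_lit 89) (.node (nat_lit 88) (.leaf ((nat_lit 18), [nat_lit 0])) (.leaf ((nat_lit 18), [nat_lit 2, nat_lit 1, nat_lit 0]))) (.node (nat_lit 90) (.leaf ((nat_lit 17), [nat_lit 2, nat_lit 0, nat_lit 2, nat_lit 1])) (.leaf ((nat_lit 36), [])))))
 (.node (nat_lit 94) (.node (nat_lit 92) (.leaf ((nat_lit 17), [nat_lit 0])) (.node (nat_lit 93) (.leaf ((nat_lit 5), [])) (.leaf ((nat_lit 17), [nat_lit 1, nat_lit 0, nat_lit 2]))))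
 (.node (nat_lit 96) (.node (nat_lit 95) (.leaf ((nat_lit 34), [nat_lit 1, nat_lit 0, nat_lit 2, nat_lit 1, nat_lit 0])) (.leaf ((nat_lit 37), []))) (.node (nat_lit 97) (.leaf ((nat_lit 5), [])) (.leaf ((nat_lit 17), [nat_lit 0]))))))
 (.node (nat_lit 105) (.node (nat_lit 101) (.node (nat_lit 99) (.leaf ((nat_lit 38), [])) (.node (nat_lit 100) (.leaf ((nat_lit 15), [nat_lit 2, nat_lit 1, nat_lit 0, nat_lit 2, nat_lit 1, nat_lit 0])) (.leaf ((nat_lit 20), [nat_lit 2, nat_lit 1, nat_lit 2, nat_lit 1, nat_lit 0]))))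
 (.node (nat_lit 103) (.node (nat_lit 102) (.leaf ((nat_lit 36), [nat_lit 2, nat_lit 0, nat_lit 2])) (.leaf ((nat_lit 37), [nat_lit 2, nat_lit 0, nat_lit 2]))) (.node (nat_lit 104) (.leaf ((nat_lit 5), [])) (.leaf ((nat_lit 7), [nat_lit 0, nat_lit 2, nat_lit 0])))))
 (.node (nat_lit 108) (.node (nat_lit 106) (.leaf ((nat_lit 6), [])) (.node (nat_lit 107) (.leaf ((nat_lit 26), [nat_lit 2, nat_lit 1, nat_lit 0, nat_lit 2, nat_lit 0])) (.leaf ((nat_lit 39), []))))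
 (.node (nat_lit 110) (.node (nat_lit 109) (.leaf ((nat_lit 35), [nat_lit 2, nat_lit 1, nat_lit 2, nat_lit 1])) (.leaf ((nat_lit 36), [nat_lit 2, nat_lit 0, nat_lit 2, nat_lit 1, nat_lit 0]))) (.node (nat_lit 111) (.leaf ((nat_lit 10), [])) (.leaf ((nat_lit 7), [])))))))))
 (.node (nat_lit 168) (.node (nat_lit 140) (.node (nat_lit 126) (.node (nat_lit 119) (.node (nat_lit 115) (.node (nat_lit 113) (.leaf ((nat_lit 6), [])) (.node (nat_lit 114) (.leaf ((nat_lit 22), [nat_lit 1, nat_lit 0])) (.leaf ((nat_lit 40), []))))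
 (.node (nat_lit 117) (.node (nat_lit 116) (.leaf ((nat_lit 31), [nat_lit 2, nat_lit 1, nat_lit 0, nat_lit 2, nat_lit 1])) (.leaf ((nat_lit 29), [nat_lit 2, nat_lit 0, nat_lit 2, nat_lit 1, nat_lit 0]))) (.node (nat_lit 118) (.leaf ((nat_lit 13), [nat_lit 0, nat_lit 2, nat_lit 1])) (.leaf ((nat_lit 25), [nat_lit 2, nat_lit 0, nat_lit 2, nat_lit 0])))))
 (.node (nat_lit 122) (.node (nat_lit 120) (.leaf ((nat_lit 6), [])) (.node (nat_lit 121) (.leaf ((nat_lit 7), [])) (.leaf ((nat_lit 39), []))))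
 (.node (nat_lit 124) (.node (nat_lit 123) (.leaf ((nat_lit 26), [nat_lit 2, nat_lit 1, nat_lit 0, nat_lit 2, nat_lit 0])) (.leaf ((nat_lit 9), [nat_lit 2, nat_lit 1, nat_lit 0]))) (.node (nat_lit 125) (.leaf ((nat_lit 24), [nat_lit 2, nat_lit 1, nat_lit 0, nat_lit 2])) (.leaf ((nat_lit 41), []))))))
 (.node (nat_lit 133) (.node (nat_lit 129) (.node (nat_lit 127) (.leaf ((nat_lit 8), [nat_lit 1, nat_lit 0])) (.node (nat_lit 128) (.leaf ((nat_lit 8), [])) (.leaf ((nat_lit 23), [nat_lit 2, nat_lit 1, nat_lit 0, nat_lit 2, nat_lit 1, nat_lit 0]))))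
 (.node (nat_lit 131) (.node (nat_lit 130) (.leaf ((nat_lit 10), [nat_lit 2])) (.leaf ((nat_lit 28), [nat_lit 0, nat_lit 2, nat_lit 0]))) (.node (nat_lit 132) (.leaf ((nat_lit 24), [nat_lit 2, nat_lit 0, nat_lit 2, nat_lit 1, nat_lit 0])) (.leaf ((nat_lit 21), [nat_lit 2, nat_lit 0, nat_lit 2, nat_lit 1, nat_lit 0])))))
 (.node (nat_lit 136) (.node (nat_lit 134) (.leaf ((nat_lit 26), [nat_lit 2, nat_lit 1, nat_lit 2, nat_lit 0])) (.node (nat_lit 135) (.leaf ((nat_lit 8), [])) (.leaf ((nat_lit 39), [nat_lit 1, nat_lit 2]))))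
 (.node (nat_lit 138) (.node (nat_lit 137) (.leaf ((nat_lit 12), [nat_lit 1, nat_lit 2])) (.leaf ((nat_lit 9), []))) (.node (nat_lit 139) (.leaf ((nat_lit 16), [nat_lit 1, nat_lit 2, nat_lit 1])) (.leaf ((nat_lit 14), [nat_lit 2, nat_lit 0])))))))
 (.node (nat_lit 154) (.node (nat_lit 147) (.node (nat_lit 143) (.node (nat_lit 141) (.leaf ((nat_lit 26), [nat_lit 0, nat_lit 2, nat_lit 0])) (.node (nat_lit 142) (.leaf ((nat_lit 9), [])) (.leaf ((nat_lit 12), [nat_lit 1, nat_lit 2]))))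
 (.node (nat_lit 145) (.node (nat_lit 144) (.leaf ((nat_lit 42), [])) (.leaf ((nat_lit 11), [nat_lit 2, nat_lit 0, nat_lit 2]))) (.node (nat_lit 146) (.leaf ((nat_lit 29), [nat_lit 0])) (.leaf ((nat_lit 32), [nat_lit 1, nat_lit 2, nat_lit 1, nat_lit 0])))))
 (.node (nat_lit 150) (.node (nat_lit 148) (.leaf ((nat_lit 23), [nat_lit 2, nat_lit 1, nat_lit 0, nat_lit 2, nat_lit 0])) (.node (nat_lit 149) (.leaf ((nat_lit 10), [])) (.leaf ((nat_lit 41), [nat_lit 1, nat_lit 0, nat_lit 2, nat_lit 1]))))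
 (.node (nat_lit 152) (.node (nat_lit 151) (.leaf ((nat_lit 11), [])) (.leaf ((nat_lit 42), [nat_lit 2, nat_lit 0]))) (.node (nat_lit 153) (.leaf ((nat_lit 43), [])) (.leaf ((nat_lit 41), [nat_lit 1]))))))
 (.node (nat_lit 161) (.node (nat_lit 157) (.node (nat_lit 155) (.leaf ((nat_lit 38), [nat_lit 1])) (.node (nat_lit 156) (.leaf ((nat_lit 23), [nat_lit 2, nat_lit 1, nat_lit 0, nat_lit 2, nat_lit 1])) (.leaf ((nat_lit 16), [nat_lit 2, nat_lit 1, nat_lit 2, nat_lit 1, nat_lit 0]))))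
 (.node (nat_lit 159) (.node (nat_lit 158) (.leaf ((nat_lit 34), [nat_lit 2, nat_lit 1, nat_lit 2, nat_lit 1])) (.leaf ((nat_lit 12), []))) (.node (nat_lit 160) (.leaf ((nat_lit 39), [nat_lit 1, nat_lit 0, nat_lit 2, nat_lit 1, nat_lit 0])) (.leaf ((nat_lit 35), [nat_lit 1, nat_lit 0, nat_lit 2])))))
 (.node (nat_lit 164) (.node (nat_lit 162) (.leaf ((nat_lit 13), [])) (.node (nat_lit 163) (.leaf ((nat_lit 29), [nat_lit 1, nat_lit 0, nat_lit 2, nat_lit 1])) (.leaf ((nat_lit 32), [nat_lit 2, nat_lit 1, nat_lit 0, nat_lit 2]))))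
 (.node (nat_lit 166) (.node (nat_lit 165) (.leaf ((nat_lit 43), [nat_lit 2, nat_lit 0, nat_lit 2, nat_lit 1, nat_lit 0])) (.leaf ((nat_lit 15), []))) (.node (nat_lit 167) (.leaf ((nat_lit 43), [nat_lit 1, nat_lit 0])) (.leaf ((nat_lit 42), [nat_lit 2, nat_lit 1]))))))))
 (.node (nat_lit 196) (.node (nat_lit 182) (.node (nat_lit 175) (.node (nat_lit 171) (.node (nat_lit 169) (.leaf ((nat_lit 33), [nat_lit 1, nat_lit 0])) (.node (nat_lit 170) (.leaf ((nat_lit 42), [nat_lit 1, nat_lit 0])) (.leaf ((nat_lit 16), []))))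
 (.node (nat_lit 173) (.node (nat_lit 172) (.leaf ((nat_lit 31), [nat_lit 2, nat_lit 1, nat_lit 2, nat_lit 1])) (.leaf ((nat_lit 35), [nat_lit 0]))) (.node (nat_lit 174) (.leaf ((nat_lit 43), [nat_lit 2, nat_lit 1, nat_lit 2, nat_lit 1])) (.leaf ((nat_lit 18), [nat_lit 1, nat_lit 0, nat_lit 2, nat_lit 1, nat_lit 0])))))
 (.node (nat_lit 178) (.node (nat_lit 176) (.leaf ((nat_lit 32), [nat_lit 2, nat_lit 1, nat_lit 0])) (.node (nat_lit 177) (.leaf ((nat_lit 34), [nat_lit 0])) (.leaf ((nat_lit 16), []))))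
 (.node (nat_lit 180) (.node (nat_lit 179) (.leaf ((nat_lit 21), [nat_lit 2, nat_lit 1, nat_lit 2, nat_lit 1])) (.leaf ((nat_lit 35), [nat_lit 2, nat_lit 0, nat_lit 2, nat_lit 1]))) (.node (nat_lit 181) (.leaf ((nat_lit 18), [])) (.leaf ((nat_lit 38), [nat_lit 0, nat_lit 2, nat_lit 1]))))))
 (.node (nat_lit 189) (.node (nat_lit 185) (.node (nat_lit 183) (.leaf ((nat_lit 20), [nat_lit 2, nat_lit 0, nat_lit 2])) (.node (nat_lit 184) (.leaf ((nat_lit 40), [nat_lit 2, nat_lit 1])) (.leaf ((nat_lit 21), [nat_lit 2, nat_lit 1, nat_lit 0, nat_lit 2, nat_lit 0]))))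
 (.node (nat_lit 187) (.node (nat_lit 186) (.leaf ((nat_lit 19), [])) (.leaf ((nat_lit 20), [nat_lit 2, nat_lit 0, nat_lit 2]))) (.node (nat_lit 188) (.leaf ((nat_lit 38), [nat_lit 0, nat_lit 2, nat_lit 1])) (.leaf ((nat_lit 37), [nat_lit 2, nat_lit 1, nat_lit 2, nat_lit 1])))))
 (.node (nat_lit 192) (.node (nat_lit 190) (.leaf ((nat_lit 44), [])) (.node (nat_lit 191) (.leaf ((nat_lit 38), [nat_lit 2, nat_lit 1, nat_lit 0, nat_lit 2, nat_lit 1])) (.leaf ((nat_lit 37), [nat_lit 1, nat_lit 2, nat_lit 0]))))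
 (.node (nat_lit 194) (.node (nat_lit 193) (.leaf ((nat_lit 36), [nat_lit 1, nat_lit 2, nat_lit 0])) (.leaf ((nat_lit 19), []))) (.node (nat_lit 195) (.leaf ((nat_lit 30), [nat_lit 1])) (.leaf ((nat_lit 27), [nat_lit 2, nat_lit 1])))))))
 (.node (nat_lit 210) (.node (nat_lit 203) (.node (nat_lit 199) (.node (nat_lit 197) (.leaf ((nat_lit 21), [])) (.node (nat_lit 198) (.leaf ((nat_lit 24), [])) (.leaf ((nat_lit 44), [nat_lit 0, nat_lit 2, nat_lit 0]))))
 (.node (nat_lit 201) (.node (nat_lit 200) (.leaf ((nat_lit 31), [nat_lit 1, nat_lit 0, nat_lit 2, nat_lit 1, nat_lit 0])) (.leaf ((nat_lit 40), [nat_lit 2, nat_lit 1, nat_lit 2, nat_lit 1, nat_lit 0]))) (.node (nat_lit 202) (.leaf ((nat_lit 40), [nat_lit 1, nat_lit 0, nat_lit 2, nat_lit 0])) (.leaf ((nat_lit 40), [nat_lit 0, nat_lit 2, nat_lit 1, nat_lit 0])))))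
 (.node (nat_lit 206) (.node (nat_lit 204) (.leaf ((nat_lit 36), [nat_lit 1, nat_lit 2])) (.node (nat_lit 205) (.leaf ((nat_lit 22), [])) (.leaf ((nat_lit 25), []))))
 (.node (nat_lit 208) (.node (nat_lit 207) (.leaf ((nat_lit 44), [nat_lit 0, nat_lit 2, nat_lit 1])) (.leaf ((nat_lit 44), [nat_lit 0, nat_lit 2, nat_lit 0]))) (.node (nat_lit 209) (.leaf ((nat_lit 30), [nat_lit 1])) (.leaf ((nat_lit 29), [nat_lit 1, nat_lit 2, nat_lit 1, nat_lit 0]))))))
 (.node (nat_lit 217) (.node (nat_lit 213) (.node (nat_lit 211) (.leaf ((nat_lit 42), [nat_lit 2, nat_lit 1, nat_lit 2])) (.node (nat_lit 212) (.leaf ((nat_lit 33), [nat_lit 1, nat_lit 2])) (.leaf ((nat_lit 30), [nat_lit 0, nat_lit 2]))))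
 (.node (nat_lit 215) (.node (nat_lit 214) (.leaf ((nat_lit 28), [])) (.leaf ((nat_lit 33), [nat_lit 1, nat_lit 0]))) (.node (nat_lit 216) (.leaf ((nat_lit 43), [nat_lit 1])) (.leaf ((nat_lit 30), [])))))
 (.node (nat_lit 221) (.node (nat_lit 219) (.node (nat_lit 218) (.leaf ((nat_lit 33), [nat_lit 1, nat_lit 0])) (.leaf ((nat_lit 34), [nat_lit 2, nat_lit 1, nat_lit 2, nat_lit 1]))) (.node (nat_lit 220) (.leaf ((nat_lit 32), [nat_lit 2, nat_lit 1, nat_lit 0, nat_lit 2, nat_lit 0])) (.leaf ((nat_lit 44), [nat_lit 2, nat_lit 1, nat_lit 2]))))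
 (.node (nat_lit 223) (.node (nat_lit 222) (.leaf ((nat_lit 41), [nat_lit 0, nat_lit 2, nat_lit 0])) (.leaf ((nat_lit 41), [nat_lit 1, nat_lit 2, nat_lit 0]))) (.node (nat_lit 224) (.leaf ((nat_lit 39), [nat_lit 0, nat_lit 2, nat_lit 0])) (.leaf ((nat_lit 37), []))))))))))
theorem dc : allR 0 45 (cosChk (nat_lit 4) (nat_lit 15) (aL.map Lev.b) aT sT dR (topN aL) 45 dWd) = true := by decide +kernel
noncomputable def eZ : Tr (List ℕ × List ℕ) := (.node (nat_lit 22) (.node (nat_lit 11) (.node (nat_lit 5) (.node (nat_lit 2) (.node (nat_lit 1) (.leaf ([nat_lit 0], [nat_lit 0])) (.leaf ([nat_lit 1], [nat_lit 1]))) (.node (nat_lit 3) (.leaf ([nat_lit 0, nat_lit 2, nat_lit 0], [nat_lit 0, nat_lit 2, nat_lit 0])) (.node (nat_lit 4) (.leaf ([nat_lit 0, nat_lit 2, nat_lit 0], [nat_lit 0, nat_lit 2, nat_lit 0])) (.leaf ([nat_lit 0], [nat_lit 0])))))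
 (.node (nat_lit 8) (.node (nat_lit 6) (.leaf ([nat_lit 2], [nat_lit 2])) (.node (nat_lit 7) (.leaf ([nat_lit 2], [nat_lit 1, nat_lit 2, nat_lit 1])) (.leaf ([nat_lit 2, nat_lit 1, nat_lit 2, nat_lit 1, nat_lit 0], [nat_lit 2, nat_lit 0, nat_lit 2])))) (.node (nat_lit 9) (.leaf ([nat_lit 1, nat_lit 0, nat_lit 2, nat_lit 1, nat_lit 0], [nat_lit 1, nat_lit 2, nat_lit 1])) (.node (nat_lit 10) (.leaf ([nat_lit 0], [nat_lit 2, nat_lit 1, nat_lit 2, nat_lit 1, nat_lit 0])) (.leaf ([nat_lit 0, nat_lit 2, nat_lit 0], [nat_lit 0, nat_lit 2, nat_lit 0]))))))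
 (.node (nat_lit 16) (.node (nat_lit 13) (.node (nat_lit 12) (.leaf ([nat_lit 1, nat_lit 0], [nat_lit 1, nat_lit 0])) (.leaf ([nat_lit 1, nat_lit 2, nat_lit 1], [nat_lit 2]))) (.node (nat_lit 14) (.leaf ([nat_lit 0], [nat_lit 2, nat_lit 1, nat_lit 0, nat_lit 2, nat_lit 1])) (.node (nat_lit 15) (.leaf ([nat_lit 1, nat_lit 2, nat_lit 1], [nat_lit 1, nat_lit 0, nat_lit 2, nat_lit 1, nat_lit 0])) (.leaf ([nat_lit 2, nat_lit 0, nat_lit 2], [nat_lit 2, nat_lit 1, nat_lit 2, nat_lit 1, nat_lit 0])))))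
 (.node (nat_lit 19) (.node (nat_lit 17) (.leaf ([nat_lit 1], [nat_lit 0])) (.node (nat_lit 18) (.leaf ([nat_lit 2, nat_lit 1, nat_lit 2, nat_lit 1, nat_lit 0], [nat_lit 0])) (.leaf ([nat_lit 1], [nat_lit 2, nat_lit 1, nat_lit 2])))) (.node (nat_lit 20) (.leaf ([nat_lit 0, nat_lit 2, nat_lit 0], [nat_lit 1, nat_lit 2, nat_lit 1])) (.node (nat_lit 21) (.leaf ([nat_lit 0], [nat_lit 1])) (.leaf ([nat_lit 2, nat_lit 0, nat_lit 2], [nat_lit 2, nat_lit 1, nat_lit 2, nat_lit 1, nat_lit 0])))))))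
 (.node (nat_lit 33) (.node (nat_lit 27) (.node (nat_lit 24) (.node (nat_lit 23) (.leaf ([nat_lit 0], [nat_lit 0])) (.leaf ([nat_lit 0], [nat_lit 2, nat_lit 1, nat_lit 0, nat_lit 2, nat_lit 1]))) (.node (nat_lit 25) (.leaf ([nat_lit 2, nat_lit 1, nat_lit 2, nat_lit 1, nat_lit 0], [nat_lit 2, nat_lit 0, nat_lit 2])) (.node (nat_lit 26) (.leaf ([nat_lit 2, nat_lit 0, nat_lit 2], [nat_lit 2, nat_lit 1, nat_lit 2, nat_lit 1, nat_lit 0])) (.leaf ([nat_lit 1], [nat_lit 0])))))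
 (.node (nat_lit 30) (.node (nat_lit 28) (.leaf ([nat_lit 1], [nat_lit 2, nat_lit 1, nat_lit 2])) (.node (nat_lit 29) (.leaf ([nat_lit 2, nat_lit 1, nat_lit 2, nat_lit 1, nat_lit 0], [nat_lit 2, nat_lit 1, nat_lit 0, nat_lit 2, nat_lit 1])) (.leaf ([nat_lit 1, nat_lit 0, nat_lit 2, nat_lit 1, nat_lit 0], [nat_lit 2])))) (.node (nat_lit 31) (.leaf ([nat_lit 2, nat_lit 1, nat_lit 2, nat_lit 1, nat_lit 0], [nat_lit 2, nat_lit 1, nat_lit 0, nat_lit 2, nat_lit 1])) (.node (nat_lit 32) (.leaf ([nat_lit 1, nat_lit 0], [nat_lit 1, nat_lit 0])) (.leaf ([nat_lit 0, nat_lit 2, nat_lit 0], [nat_lit 1, nat_lit 2, nat_lit 1]))))))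
 (.node (nat_lit 39) (.node (nat_lit 36) (.node (nat_lit 34) (.leaf ([nat_lit 0, nat_lit 2, nat_lit 0], [nat_lit 1, nat_lit 0, nat_lit 2, nat_lit 1, nat_lit 0])) (.node (nat_lit 35) (.leaf ([nat_lit 2, nat_lit 0, nat_lit 2], [nat_lit 2, nat_lit 1, nat_lit 0, nat_lit 2, nat_lit 1])) (.leaf ([nat_lit 1, nat_lit 0, nat_lit 2, nat_lit 1, nat_lit 0], [nat_lit 1, nat_lit 0, nat_lit 2, nat_lit 1, nat_lit 0])))) (.node (nat_lit 37) (.leaf ([nat_lit 1], [nat_lit 2, nat_lit 1, nat_lit 0, nat_lit 2, nat_lit 1])) (.node (nat_lit 38) (.leaf ([nat_lit 2, nat_lit 1, nat_lit 0, nat_lit 2, nat_lit 1], [nat_lit 0])) (.leaf ([nat_lit 1, nat_lit 2, nat_lit 1], [nat_lit 1, nat_lit 0, nat_lit 2, nat_lit 1, nat_lit 0])))))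
 (.node (nat_lit 42) (.node (nat_lit 40) (.leaf ([nat_lit 0], [nat_lit 1])) (.node (nat_lit 41) (.leaf ([nat_lit 2], [nat_lit 0, nat_lit 2, nat_lit 0])) (.leaf ([nat_lit 2], [nat_lit 2])))) (.node (nat_lit 43) (.leaf ([nat_lit 0], [nat_lit 2, nat_lit 0, nat_lit 2])) (.node (nat_lit 44) (.leaf ([nat_lit 0], [nat_lit 1])) (.leaf ([nat_lit 2, nat_lit 1, nat_lit 2, nat_lit 1, nat_lit 0], [nat_lit 2, nat_lit 0, nat_lit 2]))))))))
theorem em : allB 45 (meetChk (nat_lit 4) (nat_lit 15) (aL.map Lev.b) sT dR eZ) = true := by decide +kernel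
theorem iso_aut {G : Type*} [Group G] [Finite G] (N : Subgroup G) [N.Normal] (e : N ≃* alternatingGroup (Fin 6))
    (hC : centralizer (N : Set G) = ⊥) (h : 1440 ≤ Nat.card G) : Nonempty (G ≃* MulAut (alternatingGroup (Fin 6))) := by
  have I : Function.Injective (MulAut.conjNormal : G →* MulAut N) := (injective_iff_map_eq_one _).2 fun g hg =>
    mem_bot.1 (hC ▸ fun x hx => by
      have := congrArg (fun φ : MulAut N => (φ ⟨x, hx⟩ : G)) hg
      simp only [MulAut.conjNormal_apply, MulAut.one_apply, mul_inv_eq_iff_eq_mul] at this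
      exact this.symm)
  exact ⟨MulEquiv.ofBijective ((MulAut.congr e).toMonoidHom.comp MulAut.conjNormal)
    (((MulAut.congr e).injective.comp I).bijective_of_nat_card_le (Cl5.a6.trans h))⟩

theorem pg : ∃ P : Subgroup (Equiv.Perm (Fin 10)), Ch P 10 (nat_lit 4) (nat_lit 15) (Fin.ofNat 10) aT aL ∧ Nonempty (P ≃* MulAut (alternatingGroup (Fin 6))) := by
  obtain ⟨P, C, -⟩ := exists_pg as achain asd atc
  obtain ⟨N, D, ⟨e⟩, -⟩ := (Alt.a6std.emb (lets_words C.lets bE bw) C.base C.inj (by decide +kernel) beh bes)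
  have := C.normal D bn
  refine ⟨P, C, iso_aut N e.symm (eq_bot_iff.2 fun g hg => ?_) (C.card.trans (by decide +kernel)).ge⟩
  obtain ⟨f, r, h⟩ := C.enum ce g
  rw [(cmL_iff (e := fun y => (D.lets.e y : P)) C.base C.inj D.lets.rep r).2 fun j _ => (hg _ (D.lets.e j).2).symm] at h
  exact (eqB_iff C.base C.inj r (RepF.id _ _)).1 (by simpa [bnot] using h)

theorem meet {G : Type*} [Group G] [Finite G] (e : Nonempty (G ≃* MulAut (alternatingGroup (Fin 6)))) (H : Sylow 2 G) (x : G) :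
    (H : Subgroup _) ⊓ (H : Subgroup _).map (MulAut.conj x).toMonoidHom ≠ ⊥ := by
  obtain ⟨P, C, ⟨e'⟩⟩ := pg
  obtain ⟨_, _, C⟩ := C.act (G := G) ⟨e.some.trans e'.symm⟩
  obtain ⟨N, D, -⟩ := (C.gen (lets_words C.lets sE sw) schain ssd stc)
  exact C.meet D.lets (lets_words C.lets dE dw) (C.cos D.lets (lets_words C.lets dE dw) dc (by decide +kernel)) em (IsPGroup.of_card (n := 5) (D.card.trans (by decide +kernel))) H x
noncomputable def ft0 : ℕ := (nat_lit 0x158c8)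
noncomputable def ft1 : ℕ := (nat_lit 0x23548)
noncomputable def ft2 : ℕ := (nat_lit 0x25650)
noncomputable def ft3 : ℕ := (nat_lit 0x2521a)
noncomputable def fT : Tr ℕ := (.node (nat_lit 2) (.node (nat_lit 1) (.leaf ft0) (.leaf ft1)) (.node (nat_lit 3) (.leaf ft2) (.leaf ft3)))
noncomputable def fR : Tr (List ℕ) := (.node (nat_lit 4) (.node (nat_lit 2) (.node (nat_lit 1) (.leaf [nat_lit 3, nat_lit 2, nat_lit 0, nat_lit 2, nat_lit 3, nat_lit 2, nat_lit 0, nat_lit 2]) (.leaf [nat_lit 0, nat_lit 1])) (.node (nat_lit 3) (.leaf [nat_lit 0, nat_lit 0, nat_lit 0, nat_lit 0]) (.leaf [nat_lit 2, nat_lit 2])))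
 (.node (nat_lit 6) (.node (nat_lit 5) (.leaf [nat_lit 3, nat_lit 1, nat_lit 2, nat_lit 0, nat_lit 3, nat_lit 1, nat_lit 2, nat_lit 0]) (.leaf [nat_lit 0, nat_lit 0, nat_lit 2, nat_lit 1, nat_lit 2, nat_lit 0, nat_lit 2])) (.node (nat_lit 7) (.leaf [nat_lit 3, nat_lit 3]) (.leaf [nat_lit 0, nat_lit 2, nat_lit 0, nat_lit 3, nat_lit 2, nat_lit 3, nat_lit 0, nat_lit 3]))))
noncomputable def fL0 : Lev := ⟨(nat_lit 0), (nat_lit 4), (nat_lit 0x10102040300), (nat_lit 0x20302010200),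
 (.node (nat_lit 2) (.node (nat_lit 1) (.leaf (nat_lit 0x2000100020000))
 (.leaf (nat_lit 0x100030000000100030000)))
 (.node (nat_lit 3) (.leaf (nat_lit 0x300040002000100000000))
 (.leaf (nat_lit 0x400050002000000030001)))),
 (.node (nat_lit 2) (.node (nat_lit 1) (.leaf (nat_lit 0x202000100000002000000))
 (.leaf (nat_lit 0x101000101000000000101000101000000)))
 (.node (nat_lit 3) (.leaf (nat_lit 0x502000301000402000300000000000000))
 (.leaf (nat_lit 0x404000601000705000000000601000601))))⟩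
noncomputable def fL1 : Lev := ⟨(nat_lit 1), (nat_lit 3), (nat_lit 0x10102030000), (nat_lit 0x20302010000),
 (.node (nat_lit 1) (.leaf (nat_lit 0x2000100000000))
 (.node (nat_lit 2) (.leaf (nat_lit 0x100030000000100000000))
 (.leaf (nat_lit 0x200030002000000010000)))),
 (.node (nat_lit 1) (.leaf (nat_lit 0x202000100000000000000))
 (.node (nat_lit 2) (.leaf (nat_lit 0x101000101000000000101000000000000))
 (.leaf (nat_lit 0x502000301000504000000000301000000))))⟩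
noncomputable def fL2 : Lev := ⟨(nat_lit 2), (nat_lit 2), (nat_lit 0x10102000000), (nat_lit 0x10201000000),
 (.node (nat_lit 1) (.leaf (nat_lit 0x2000100000000))
 (.leaf (nat_lit 0x100030000000100000000))),
 (.node (nat_lit 1) (.leaf (nat_lit 0x202000100000000000000))
 (.leaf (nat_lit 0x101000101000000000101000000000000)))⟩
noncomputable def fL : List Lev := [fL0, fL1, fL2]
noncomputable def fE : Tr (List ℕ) := (.node (nat_lit 2) (.node (nat_lit 1) (.leaf [nat_lit 2, nat_lit 1, nat_lit 0]) (.leaf [nat_lit 0, nat_lit 1, nat_lit 2])) (.node (nat_lit 3) (.leaf [nat_lit 3, nat_lit 0]) (.leaf [nat_lit 3, nat_lit 4, nat_lit 2, nat_lit 3, nat_lit 0])))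
theorem fw_0 : fT.all2 (fun c w => isProd 6 (nat_lit 3) (nat_lit 7) Alt.s6T c w) fE = true := by decide +kernel
theorem fw : fT.all2 (fun c w => isProd 6 (nat_lit 3) (nat_lit 7) Alt.s6T c w) fE = true := fw_0
theorem flev0 : levChk 6 (nat_lit 3) (nat_lit 7) fT fR fL0 fL1.N = true := by decide +kernel
theorem flev1 : levChk 6 (nat_lit 3) (nat_lit 7) fT fR fL1 fL2.N = true := by decide +kernel
theorem flev2 : levChk 6 (nat_lit 3) (nat_lit 7) fT fR fL2 0 = true := by decide +kernel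
theorem fchain : Chain 6 (nat_lit 3) (nat_lit 7) fT fR fL := chain_cons flev0 <| chain_cons flev1 <| chain_one flev2
theorem fsd : band (selChk fT fT (topN fL)) (fR.all fun w => eqB (Alt.s6L.map Lev.b) (apL (nat_lit 3) (nat_lit 7) fT w) fun a => a) = true := by decide +kernel
theorem ftc : tchainChk 6 (nat_lit 3) (nat_lit 7) fT fL = true := by decide +kernel
theorem pgl5 : ∃ K : Subgroup (Equiv.Perm (Fin 6)), K.index = 6 ∧ ∀ a : Fin 6, K ≠ MulAction.stabilizer _ a := by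
  obtain ⟨K, D, -⟩ := (Alt.s6ch.gen (lets_words Alt.s6ch.lets fE fw) fchain fsd ftc)
  have h := Alt.s6ch.index D
  rw [show chainOrd 6 fL = 120 by decide +kernel, show chainOrd 6 Alt.s6L = 720 by decide +kernel] at h
  refine ⟨K, by omega, fun a e => ?_⟩
  obtain ⟨y, hy⟩ := (show ∀ a : Fin 6, ∃ y < 4, ap 3 7 (fT.get y) a ≠ a by decide +kernel) a
  have h1 := (D.lets.rep y a a.2)
  have h2 : (D.lets.e y : Equiv.Perm (Fin 6)) ∈ MulAction.stabilizer _ a := e ▸ (D.lets.e y).2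
  exact hy.2 (ofNat_inj 6 _ h1.1 _ a.2 (h1.2.trans (by rw [ofNat_coe]; exact h2)))

end H8.Cl6
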