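import Mathlib

/-! H8.PC0: the order bound for a polycyclic sequence along a central series (the first part of `H7.PC`, without its imports). -/

namespace H8.Co
open Subgroup

universe u v
variable {G : Type u} [Group G]

/-- the subgroup generated by the letters `i, …, n-1` -/
def NN (z : ℕ → G) (n i : ℕ) : Subgroup G := closure {g | ∃ j, i ≤ j ∧ j < n ∧ z j = g}

variable {z : ℕ → G} {a n p i : ℕ}

theorem NN_mem {j : ℕ} (h : i ≤ j) (k : j < n) : z j ∈ NN z n i := subset_closure ⟨j, h, k, rfl⟩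

theorem NN_mono {j : ℕ} (h : i ≤ j) : NN z n j ≤ NN z n i := closure_mono fun _ ⟨k, a, b⟩ => ⟨k, h.trans a, b⟩

theorem NN_le {H : Subgroup G} (h : ∀ j, i ≤ j → j < n → z j ∈ H) : NN z n i ≤ H := (closure_le _).2 fun _ ⟨j, a, b, e⟩ => e ▸ h j a b

theorem NN_top (h : n ≤ i) : NN z n i = ⊥ := eq_bot_iff.2 (NN_le fun _ a b => absurd (h.trans a) b.not_ge)

structure PC0 (z : ℕ → G) (a n p : ℕ) : Prop where
  cm : ∀ i j, a ≤ j → j < i → i < n → z j * z i * (z j)⁻¹ * (z i)⁻¹ ∈ NN z n (i + 1)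
  pw : ∀ i, a ≤ i → i < n → z i ^ p ∈ NN z n (i + 1)
  pos : 0 < p

namespace PC0
variable (h : PC0 z a n p)
include h

theorem both (hi : a ≤ i) : (∀ g ∈ NN z n a, ∀ x ∈ NN z n i, g * x * g⁻¹ ∈ NN z n i) ∧
    ∀ g ∈ NN z n a, ∀ x ∈ NN z n i, g * x * g⁻¹ * x⁻¹ ∈ NN z n (i + 1) := by
  suffices ∀ k i, a ≤ i → n ≤ i + k → (∀ g ∈ NN z n a, ∀ x ∈ NN z n i, g * x * g⁻¹ ∈ NN z n i) ∧
    ∀ g ∈ NN z n a, ∀ x ∈ NN z n i, g * x * g⁻¹ * x⁻¹ ∈ NN z n (i + 1) from this n i hi (by omega)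
  intro k
  induction k with
  | zero => intro i _ l; rw [NN_top (i := i) l]; exact ⟨fun g _ x hx => by simp [mem_bot.1 hx], fun g _ x hx => by simp [mem_bot.1 hx]⟩
  | succ k ih =>
    intro i hi l
    obtain ⟨nm, -⟩ := ih (i + 1) (by omega) (by omega)
    have c : ∀ g ∈ NN z n a, ∀ x ∈ NN z n i, g * x * g⁻¹ * x⁻¹ ∈ NN z n (i + 1) := fun g hg x hx => by
      have sx : ∀ {x}, x ∈ NN z n i → x ∈ NN z n a := fun hx => NN_mono hi hx
      induction hx using closure_induction with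
      | mem x hx =>
        obtain ⟨j, j1, j2, rfl⟩ := hx
        rcases j1.eq_or_lt with rfl | j1
        · induction hg using closure_induction with
          | mem g hg =>
            obtain ⟨b, b1, b2, rfl⟩ := hg
            rcases lt_trichotomy b i with l | rfl | l
            · exact h.cm i b b1 l j2
            · simp
            · simpa [mul_assoc] using mul_mem (NN_mem l b2) (nm _ (NN_mem hi j2) _ (inv_mem (NN_mem l b2)))
          | one => simp
          | mul g g' hg _ i1 i2 => convert mul_mem (nm g hg _ i2) i1 using 1; group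
          | inv g hg i1 => convert nm _ (inv_mem hg) _ (inv_mem i1) using 1; group
        · exact mul_mem (nm g hg _ (NN_mem j1 j2)) (inv_mem (NN_mem j1 j2))
      | one => simp
      | mul x y hx _ i1 i2 => convert mul_mem i1 (nm x (sx hx) _ i2) using 1; group
      | inv x hx i1 => convert nm _ (inv_mem (sx hx)) _ (inv_mem i1) using 1; group
    exact ⟨fun g hg x hx => by simpa using mul_mem (NN_mono i.le_succ (c g hg x hx)) hx, c⟩

theorem nm (hi : a ≤ i) {g x : G} (hg : g ∈ NN z n a) (hx : x ∈ NN z n i) : g * x * g⁻¹ ∈ NN z n i := (h.both hi).1 g hg x hx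

theorem cmm (hi : a ≤ i) {g x : G} (hg : g ∈ NN z n a) (hx : x ∈ NN z n i) : g * x * g⁻¹ * x⁻¹ ∈ NN z n (i + 1) := (h.both hi).2 g hg x hx

theorem dec (hi : a ≤ i) (l : i < n) {x : G} (hx : x ∈ NN z n i) : ∃ e < p, (z i ^ e)⁻¹ * x ∈ NN z n (i + 1) := by
  have m := fun e => pow_mem (NN_mem (z := z) hi l) e
  suffices ∃ e : ℤ, (z i ^ e)⁻¹ * x ∈ NN z n (i + 1) by
    obtain ⟨e, k⟩ := this
    have p0 : (0 : ℤ) < p := Int.natCast_pos.2 h.pos
    refine ⟨(e % p).toNat, by have := Int.emod_lt_of_pos e p0; omega, ?_⟩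
    rw [← zpow_natCast, Int.toNat_of_nonneg (Int.emod_nonneg _ p0.ne')]
    convert mul_mem (zpow_mem (h.pw i hi l) (e / p)) k using 1
    rw [← zpow_natCast, ← zpow_mul, ← mul_assoc, ← zpow_neg, ← zpow_neg, ← zpow_add, Int.emod_def]; congr 2; ring
  induction hx using closure_induction with
  | mem x hx =>
    obtain ⟨j, j1, j2, rfl⟩ := hx
    rcases j1.eq_or_lt with rfl | j1
    exacts [⟨1, by simp⟩, ⟨0, by simpa using NN_mem j1 j2⟩]
  | one => exact ⟨0, by simp⟩
  | mul x y _ _ i1 i2 =>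
    obtain ⟨e, i1⟩ := i1; obtain ⟨f, i2⟩ := i2
    exact ⟨e + f, by convert mul_mem (h.nm (hi.trans i.le_succ) (inv_mem (zpow_mem (NN_mem hi l) f)) i1) i2 using 1; group⟩
  | inv x _ i1 =>
    obtain ⟨e, i1⟩ := i1
    exact ⟨-e, by convert h.nm (hi.trans i.le_succ) (zpow_mem (NN_mem hi l) e) (inv_mem i1) using 1; group⟩

theorem step [Finite G] (hi : a ≤ i) (l : i < n) : Nat.card (NN z n i) ≤ p * Nat.card (NN z n (i + 1)) := by
  have := Nat.card_le_card_of_surjective (fun u : Fin p × NN z n (i + 1) =>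
    (⟨z i ^ u.1.1 * u.2, mul_mem (pow_mem (NN_mem le_rfl l) _) (NN_mono i.le_succ u.2.2)⟩ : NN z n i)) fun x => by
      obtain ⟨e, he, k⟩ := h.dec hi l x.2
      exact ⟨(⟨e, he⟩, ⟨_, k⟩), by simp⟩
  simpa using this

theorem steps [Finite G] (hi : a ≤ i) (k : ℕ) : Nat.card (NN z n i) ≤ p ^ k * Nat.card (NN z n (i + k)) := by
  induction k with
  | zero => simp
  | succ k ih =>
    rcases lt_or_ge (i + k) n with l | l
    · exact ih.trans (by rw [pow_succ, mul_assoc]; exact Nat.mul_le_mul_left _ (h.step (by omega) l))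
    · refine ih.trans ?_
      rw [NN_top l, NN_top (by omega : n ≤ i + (k + 1))]
      exact Nat.mul_le_mul_right _ (Nat.pow_le_pow_right h.pos k.le_succ)

theorem ub [Finite G] (hi : a ≤ i) : Nat.card (NN z n i) ≤ p ^ (n - i) := by
  simpa [NN_top (show n ≤ i + (n - i) by omega)] using h.steps hi (n - i)

end PC0

end H8.Co
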