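import Cfsg.Agent.H8.Out
import Cfsg.Agent.H8.Cover

/-! H8.GM24: permutation model of order 244823040 on 24 points: `P`, `lets`, `std`, `card`, `base` (generated certificate) -/

set_option autoImplicit false
set_option maxRecDepth 200000

namespace H8.M24

noncomputable def t0 : ℕ := (nat_lit 0x7520f4cee6b450a69e4b654a418820)
noncomputable def t1 : ℕ := (nat_lit 0x8bcd6925d5a5d674326d540a418820)
noncomputable def t2 : ℕ := (nat_lit 0x4950f6c0d2a2e6c72af53c6c418820)
noncomputable def t3 : ℕ := (nat_lit 0x6c22e496b65d2ec7aa663a24418820)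
noncomputable def t4 : ℕ := (nat_lit 0x812b4749172cda652cf14b1f618820)
noncomputable def t5 : ℕ := (nat_lit 0x8d6c79caeb68de68212aa30a470820)
noncomputable def t6 : ℕ := (nat_lit 0xb5eb4694e918a6c5aa0489a487b820)
noncomputable def t7 : ℕ := (nat_lit 0xa30f79bcc9938560aa08ac4a41b560)
noncomputable def t8 : ℕ := (nat_lit 0xbda95996291b9a6006043b2487894b)
noncomputable def G0 : Tr ℕ := (.node (nat_lit 4) (.node (nat_lit 2) (.node (nat_lit 1) (.leaf t0)
 (.leaf t1))
 (.node (nat_lit 3) (.leaf t2)
 (.leaf t3)))
 (.node (nat_lit 6) (.node (nat_lit 5) (.leaf t4)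
 (.leaf t5))
 (.node (nat_lit 7) (.leaf t6)
 (.node (nat_lit 8) (.leaf t7)
 (.leaf t8)))))
noncomputable def T' : Tr ℕ := (.node (nat_lit 4) (.node (nat_lit 2) (.node (nat_lit 1) (.leaf t0)
 (.leaf t1))
 (.node (nat_lit 3) (.leaf t2)
 (.leaf t3)))
 (.node (nat_lit 6) (.node (nat_lit 5) (.leaf t4)
 (.leaf t5))
 (.node (nat_lit 7) (.leaf t6)
 (.node (nat_lit 8) (.leaf t7)
 (.leaf t8)))))
noncomputable def D : Tr (List ℕ) := (.node (nat_lit 4) (.node (nat_lit 2) (.node (nat_lit 1) (.leaf [])
 (.leaf []))
 (.node (nat_lit 3) (.leaf [])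
 (.leaf [])))
 (.node (nat_lit 6) (.node (nat_lit 5) (.leaf [])
 (.leaf []))
 (.node (nat_lit 7) (.leaf [])
 (.node (nat_lit 8) (.leaf [])
 (.leaf [])))))
noncomputable def T : Tr ℕ := (.node (nat_lit 4) (.node (nat_lit 2) (.node (nat_lit 1) (.leaf t0)
 (.leaf t1))
 (.node (nat_lit 3) (.leaf t2)
 (.leaf t3)))
 (.node (nat_lit 6) (.node (nat_lit 5) (.leaf t4)
 (.leaf t5))
 (.node (nat_lit 7) (.leaf t6)
 (.node (nat_lit 8) (.leaf t7)
 (.leaf t8)))))
noncomputable def RL_0 : Tr (List ℕ) := (.node (nat_lit 4) (.node (nat_lit 2) (.node (nat_lit 1) (.leaf [nat_lit 0, nat_lit 1])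
 (.leaf [nat_lit 4, nat_lit 0, nat_lit 3, nat_lit 4, nat_lit 5, nat_lit 6, nat_lit 4, nat_lit 6, nat_lit 3, nat_lit 1, nat_lit 6]))
 (.node (nat_lit 3) (.leaf [nat_lit 5, nat_lit 0, nat_lit 5, nat_lit 0, nat_lit 5, nat_lit 0])
 (.leaf [nat_lit 2, nat_lit 0, nat_lit 2, nat_lit 0, nat_lit 2, nat_lit 0])))
 (.node (nat_lit 6) (.node (nat_lit 5) (.leaf [nat_lit 2, nat_lit 0, nat_lit 3, nat_lit 1, nat_lit 2, nat_lit 0, nat_lit 3, nat_lit 1])
 (.leaf [nat_lit 0, nat_lit 0, nat_lit 0]))
 (.node (nat_lit 7) (.leaf [nat_lit 0, nat_lit 3, nat_lit 0, nat_lit 3, nat_lit 0, nat_lit 3])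
 (.leaf [nat_lit 3, nat_lit 5, nat_lit 3, nat_lit 8, nat_lit 1, nat_lit 2, nat_lit 8, nat_lit 2, nat_lit 0, nat_lit 8]))))
noncomputable def RL_1 : Tr (List ℕ) := (.node (nat_lit 10) (.node (nat_lit 9) (.leaf [nat_lit 2, nat_lit 4, nat_lit 1, nat_lit 4, nat_lit 0, nat_lit 4])
 (.leaf [nat_lit 1, nat_lit 4, nat_lit 5, nat_lit 0, nat_lit 3, nat_lit 6, nat_lit 0, nat_lit 4, nat_lit 7, nat_lit 0, nat_lit 8, nat_lit 1, nat_lit 2, nat_lit 1, nat_lit 6, nat_lit 5, nat_lit 8]))
 (.node (nat_lit 11) (.leaf [nat_lit 7, nat_lit 2, nat_lit 7, nat_lit 2, nat_lit 7, nat_lit 2])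
 (.leaf [nat_lit 6, nat_lit 2, nat_lit 6, nat_lit 2, nat_lit 6, nat_lit 2])))
noncomputable def RL_2 : Tr (List ℕ) := (.node (nat_lit 14) (.node (nat_lit 13) (.leaf [nat_lit 2, nat_lit 2])
 (.leaf [nat_lit 4, nat_lit 2, nat_lit 3, nat_lit 4, nat_lit 2, nat_lit 3, nat_lit 4, nat_lit 2, nat_lit 3]))
 (.node (nat_lit 15) (.leaf [nat_lit 2, nat_lit 3, nat_lit 2, nat_lit 3])
 (.node (nat_lit 16) (.leaf [nat_lit 3, nat_lit 0, nat_lit 5, nat_lit 6, nat_lit 0, nat_lit 3, nat_lit 7, nat_lit 1, nat_lit 2, nat_lit 8, nat_lit 3, nat_lit 4, nat_lit 2, nat_lit 0, nat_lit 3, nat_lit 8])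
 (.leaf [nat_lit 2, nat_lit 0, nat_lit 5, nat_lit 3, nat_lit 6, nat_lit 1, nat_lit 4, nat_lit 7, nat_lit 1, nat_lit 3, nat_lit 8, nat_lit 5, nat_lit 6, nat_lit 2, nat_lit 3, nat_lit 0, nat_lit 8]))))
noncomputable def RL_3 : Tr (List ℕ) := (.node (nat_lit 19) (.node (nat_lit 18) (.leaf [nat_lit 3, nat_lit 0, nat_lit 2, nat_lit 4, nat_lit 5, nat_lit 4, nat_lit 0, nat_lit 6, nat_lit 1, nat_lit 3, nat_lit 8, nat_lit 7, nat_lit 3, nat_lit 7, nat_lit 8])
 (.leaf [nat_lit 2, nat_lit 5, nat_lit 7, nat_lit 5, nat_lit 2, nat_lit 7, nat_lit 3, nat_lit 7]))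
 (.node (nat_lit 20) (.leaf [nat_lit 8, nat_lit 3, nat_lit 8, nat_lit 3, nat_lit 8, nat_lit 3, nat_lit 8, nat_lit 3])
 (.leaf [nat_lit 6, nat_lit 3, nat_lit 6, nat_lit 3, nat_lit 6, nat_lit 3])))
noncomputable def RL_4 : Tr (List ℕ) := (.node (nat_lit 23) (.node (nat_lit 22) (.leaf [nat_lit 4, nat_lit 3, nat_lit 4, nat_lit 3, nat_lit 4, nat_lit 3, nat_lit 4, nat_lit 3, nat_lit 4, nat_lit 3])
 (.leaf [nat_lit 3, nat_lit 3]))
 (.node (nat_lit 24) (.leaf [nat_lit 7, nat_lit 3, nat_lit 7, nat_lit 4, nat_lit 7, nat_lit 3, nat_lit 7, nat_lit 4])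
 (.node (nat_lit 25) (.leaf [nat_lit 7, nat_lit 4, nat_lit 8, nat_lit 4, nat_lit 8, nat_lit 7, nat_lit 8])
 (.leaf [nat_lit 2, nat_lit 1, nat_lit 3, nat_lit 1, nat_lit 5, nat_lit 8, nat_lit 1, nat_lit 7, nat_lit 4, nat_lit 7, nat_lit 0, nat_lit 8]))))
noncomputable def RL_5 : Tr (List ℕ) := (.node (nat_lit 28) (.node (nat_lit 27) (.leaf [nat_lit 6, nat_lit 4, nat_lit 6, nat_lit 4, nat_lit 6, nat_lit 4, nat_lit 6, nat_lit 4])
 (.leaf [nat_lit 4, nat_lit 4]))
 (.node (nat_lit 29) (.leaf [nat_lit 4, nat_lit 3, nat_lit 1, nat_lit 4, nat_lit 5, nat_lit 6, nat_lit 5, nat_lit 8, nat_lit 0, nat_lit 3, nat_lit 6, nat_lit 3, nat_lit 1, nat_lit 8])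
 (.leaf [nat_lit 5, nat_lit 4, nat_lit 5, nat_lit 4, nat_lit 5, nat_lit 4])))
noncomputable def RL_6 : Tr (List ℕ) := (.node (nat_lit 32) (.node (nat_lit 31) (.leaf [nat_lit 5, nat_lit 5])
 (.leaf [nat_lit 8, nat_lit 5, nat_lit 8, nat_lit 5, nat_lit 8, nat_lit 5, nat_lit 8, nat_lit 5]))
 (.node (nat_lit 33) (.leaf [nat_lit 0, nat_lit 3, nat_lit 1, nat_lit 4, nat_lit 3, nat_lit 0, nat_lit 6, nat_lit 0, nat_lit 3, nat_lit 7, nat_lit 4, nat_lit 0, nat_lit 8, nat_lit 0, nat_lit 5, nat_lit 4, nat_lit 8])
 (.node (nat_lit 34) (.leaf [nat_lit 0, nat_lit 3, nat_lit 0, nat_lit 2, nat_lit 5, nat_lit 3, nat_lit 1, nat_lit 3, nat_lit 2, nat_lit 5])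
 (.leaf [nat_lit 2, nat_lit 0, nat_lit 3, nat_lit 5, nat_lit 2, nat_lit 3, nat_lit 6, nat_lit 7, nat_lit 4, nat_lit 0, nat_lit 8, nat_lit 3, nat_lit 7, nat_lit 5, nat_lit 7, nat_lit 3, nat_lit 8]))))
noncomputable def RL_7 : Tr (List ℕ) := (.node (nat_lit 37) (.node (nat_lit 36) (.leaf [nat_lit 5, nat_lit 1, nat_lit 3, nat_lit 5, nat_lit 1, nat_lit 3, nat_lit 5, nat_lit 1, nat_lit 3])
 (.leaf [nat_lit 8, nat_lit 6, nat_lit 8, nat_lit 6]))
 (.node (nat_lit 38) (.leaf [nat_lit 0, nat_lit 5, nat_lit 3, nat_lit 0, nat_lit 6, nat_lit 1, nat_lit 4, nat_lit 7, nat_lit 2, nat_lit 5, nat_lit 6, nat_lit 3, nat_lit 7])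
 (.leaf [nat_lit 8, nat_lit 5, nat_lit 6, nat_lit 8, nat_lit 5, nat_lit 6, nat_lit 8, nat_lit 5, nat_lit 6])))
noncomputable def RL_8 : Tr (List ℕ) := (.node (nat_lit 41) (.node (nat_lit 40) (.leaf [nat_lit 6, nat_lit 6])
 (.leaf [nat_lit 6, nat_lit 5, nat_lit 3, nat_lit 5, nat_lit 6, nat_lit 5, nat_lit 3, nat_lit 5]))
 (.node (nat_lit 42) (.leaf [nat_lit 8, nat_lit 4, nat_lit 6, nat_lit 4, nat_lit 8, nat_lit 4, nat_lit 6, nat_lit 4])
 (.leaf [nat_lit 7, nat_lit 7])))
noncomputable def RL_9 : Tr (List ℕ) := (.node (nat_lit 45) (.node (nat_lit 44) (.leaf [nat_lit 8, nat_lit 4, nat_lit 7, nat_lit 4, nat_lit 8, nat_lit 4, nat_lit 7, nat_lit 4])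
 (.leaf [nat_lit 8, nat_lit 8]))
 (.node (nat_lit 46) (.leaf [nat_lit 3, nat_lit 5, nat_lit 3, nat_lit 5, nat_lit 8, nat_lit 4, nat_lit 1, nat_lit 8, nat_lit 0, nat_lit 4, nat_lit 8])
 (.leaf [nat_lit 0, nat_lit 2, nat_lit 1, nat_lit 3, nat_lit 4, nat_lit 0, nat_lit 3, nat_lit 8, nat_lit 1, nat_lit 8, nat_lit 0, nat_lit 8])))
noncomputable def RL_10 : Tr (List ℕ) := (.node (nat_lit 48) (.leaf [nat_lit 4, nat_lit 3, nat_lit 1, nat_lit 4, nat_lit 5, nat_lit 1, nat_lit 6, nat_lit 0, nat_lit 3, nat_lit 7, nat_lit 4, nat_lit 8, nat_lit 2, nat_lit 5, nat_lit 8, nat_lit 3, nat_lit 8])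
 (.leaf [nat_lit 8, nat_lit 4, nat_lit 5, nat_lit 4, nat_lit 8, nat_lit 4, nat_lit 5, nat_lit 4, nat_lit 8, nat_lit 4, nat_lit 5, nat_lit 4]))
noncomputable def RL_11 : Tr (List ℕ) := (.node (nat_lit 50) (.leaf [nat_lit 3, nat_lit 1, nat_lit 5, nat_lit 6, nat_lit 0, nat_lit 3, nat_lit 7, nat_lit 4, nat_lit 8, nat_lit 0, nat_lit 2, nat_lit 8, nat_lit 3, nat_lit 2, nat_lit 8])
 (.node (nat_lit 51) (.leaf [nat_lit 1, nat_lit 3, nat_lit 1, nat_lit 2, nat_lit 4, nat_lit 2, nat_lit 3, nat_lit 0, nat_lit 8, nat_lit 3, nat_lit 1, nat_lit 8, nat_lit 0, nat_lit 3, nat_lit 8])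
 (.leaf [nat_lit 4, nat_lit 0, nat_lit 3, nat_lit 5, nat_lit 2, nat_lit 3, nat_lit 4, nat_lit 8, nat_lit 1, nat_lit 3, nat_lit 8, nat_lit 3, nat_lit 0, nat_lit 8])))
noncomputable def RL_12 : Tr (List ℕ) := (.node (nat_lit 54) (.node (nat_lit 53) (.leaf [nat_lit 2, nat_lit 3, nat_lit 4, nat_lit 3, nat_lit 5, nat_lit 0, nat_lit 6, nat_lit 3, nat_lit 7, nat_lit 2, nat_lit 5, nat_lit 0, nat_lit 5, nat_lit 2, nat_lit 7])
 (.leaf [nat_lit 4, nat_lit 1, nat_lit 3, nat_lit 4, nat_lit 5, nat_lit 0, nat_lit 3, nat_lit 2, nat_lit 4, nat_lit 5]))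
 (.node (nat_lit 55) (.leaf [nat_lit 1, nat_lit 2, nat_lit 0, nat_lit 4, nat_lit 0, nat_lit 6, nat_lit 5, nat_lit 7, nat_lit 1, nat_lit 3, nat_lit 2, nat_lit 6, nat_lit 5, nat_lit 7])
 (.leaf [nat_lit 5, nat_lit 3, nat_lit 5, nat_lit 3, nat_lit 5, nat_lit 3, nat_lit 5, nat_lit 3])))
noncomputable def RL_13 : Tr (List ℕ) := (.node (nat_lit 57) (.leaf [nat_lit 0, nat_lit 2, nat_lit 0, nat_lit 4, nat_lit 0, nat_lit 3, nat_lit 5, nat_lit 2, nat_lit 3, nat_lit 6, nat_lit 7, nat_lit 1, nat_lit 4, nat_lit 0, nat_lit 7])
 (.leaf [nat_lit 2, nat_lit 3, nat_lit 5, nat_lit 0, nat_lit 2, nat_lit 6, nat_lit 2, nat_lit 4, nat_lit 7, nat_lit 2, nat_lit 3, nat_lit 5, nat_lit 0, nat_lit 4, nat_lit 7]))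
noncomputable def RL_14 : Tr (List ℕ) := (.node (nat_lit 59) (.leaf [nat_lit 0, nat_lit 4, nat_lit 2, nat_lit 5, nat_lit 2, nat_lit 4, nat_lit 1, nat_lit 5, nat_lit 3, nat_lit 5])
 (.node (nat_lit 60) (.leaf [nat_lit 1, nat_lit 2, nat_lit 4, nat_lit 3, nat_lit 1, nat_lit 5, nat_lit 4, nat_lit 0, nat_lit 6, nat_lit 7, nat_lit 4, nat_lit 6, nat_lit 4, nat_lit 7])
 (.leaf [nat_lit 1, nat_lit 3, nat_lit 0, nat_lit 2, nat_lit 4, nat_lit 0, nat_lit 5, nat_lit 2, nat_lit 3, nat_lit 4, nat_lit 6, nat_lit 4, nat_lit 7, nat_lit 6, nat_lit 7])))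
noncomputable def RL_15 : Tr (List ℕ) := (.node (nat_lit 63) (.node (nat_lit 62) (.leaf [nat_lit 0, nat_lit 3, nat_lit 5, nat_lit 2, nat_lit 3, nat_lit 6, nat_lit 2, nat_lit 3, nat_lit 5, nat_lit 3, nat_lit 1, nat_lit 6])
 (.leaf [nat_lit 7, nat_lit 6, nat_lit 4, nat_lit 6, nat_lit 7, nat_lit 6, nat_lit 4, nat_lit 6, nat_lit 7, nat_lit 6, nat_lit 4, nat_lit 6]))
 (.node (nat_lit 64) (.leaf [nat_lit 5, nat_lit 0, nat_lit 3, nat_lit 5, nat_lit 0, nat_lit 3, nat_lit 5, nat_lit 0, nat_lit 3])
 (.leaf [nat_lit 4, nat_lit 0, nat_lit 5, nat_lit 1, nat_lit 4, nat_lit 6, nat_lit 1, nat_lit 4, nat_lit 1, nat_lit 2, nat_lit 6])))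
noncomputable def RL_16 : Tr (List ℕ) := (.node (nat_lit 67) (.node (nat_lit 66) (.leaf [nat_lit 4, nat_lit 5, nat_lit 4, nat_lit 6, nat_lit 2, nat_lit 4, nat_lit 3, nat_lit 4, nat_lit 2, nat_lit 6])
 (.leaf [nat_lit 2, nat_lit 4, nat_lit 5, nat_lit 4, nat_lit 0, nat_lit 6, nat_lit 2, nat_lit 4, nat_lit 5, nat_lit 4, nat_lit 0, nat_lit 6]))
 (.node (nat_lit 68) (.leaf [nat_lit 5, nat_lit 2, nat_lit 5, nat_lit 2, nat_lit 5, nat_lit 2, nat_lit 5, nat_lit 2, nat_lit 5, nat_lit 2])
 (.node (nat_lit 69) (.leaf [nat_lit 4, nat_lit 0, nat_lit 4, nat_lit 0, nat_lit 4, nat_lit 0, nat_lit 4, nat_lit 0, nat_lit 4, nat_lit 0])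
 (.leaf [nat_lit 1, nat_lit 3, nat_lit 0, nat_lit 4, nat_lit 3, nat_lit 4, nat_lit 2, nat_lit 1, nat_lit 3, nat_lit 2, nat_lit 4]))))
noncomputable def RL : Tr (List ℕ) := (.node (nat_lit 35) (.node (nat_lit 17) (.node (nat_lit 8) RL_0 (.node (nat_lit 12) RL_1 RL_2)) (.node (nat_lit 26) (.node (nat_lit 21) RL_3 RL_4) (.node (nat_lit 30) RL_5 RL_6))) (.node (nat_lit 52) (.node (nat_lit 43) (.node (nat_lit 39) RL_7 RL_8) (.node (nat_lit 47) RL_9 (.node (nat_lit 49) RL_10 RL_11))) (.node (nat_lit 61) (.node (nat_lit 56) RL_12 (.node (nat_lit 58) RL_13 RL_14)) (.node (nat_lit 65) RL_15 RL_16))))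
noncomputable def L0 : Lev := ⟨(nat_lit 0), (nat_lit 9), (nat_lit 0x40203040308050604030201090507010204050706080800), (nat_lit 0x30303030303030202020203010203020303030303030200),
 (.node (nat_lit 4) (.node (nat_lit 2) (.node (nat_lit 1) (.leaf (nat_lit 0x400060014000500030027000d00130001000c00020000000100010026000000020005000700280018002f002f0000))
 (.leaf (nat_lit 0xe00000006000700280027000b001500060005000000030001000100020003000000140008002700190030002e0000)))
 (.node (nat_lit 3) (.leaf (nat_lit 0x200020000000300000025000f0024000200000001000c0001000900030001000b00100003001d001a002c001c0000))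
 (.leaf (nat_lit 0x14000e000000040027000f0015000000010001000b0001000300030001000a0000002600030004002c00020000))))
 (.node (nat_lit 6) (.node (nat_lit 5) (.leaf (nat_lit 0x16002600120008000800050000001700010009000a0011000100000006000100070010000000250008000200040000))
 (.leaf (nat_lit 0x18001a001b001c000a000200170000001e0001001f00110001000200050003001d0012002000270000002d00260000)))
 (.node (nat_lit 7) (.leaf (nat_lit 0x210022001c001d00200023002500010023002e00210013000200020000000100240002002400000022002d00040000))
 (.node (nat_lit 8) (.leaf (nat_lit 0x29002d0028002a002b0000002c002a0001001b0001002c00010002002b000a0027002b000900280003000000000000))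
 (.leaf (nat_lit 0x20002000300020002000700040003000200100002002e00000003000400260002002d000600270003000b00020001)))))),
 (.node (nat_lit 4) (.node (nat_lit 2) (.node (nat_lit 1) (.leaf (nat_lit 0x301000501000501000602000000000501000501000203000000000000000500000000000000000000000305000000000502000401000305000000000205000101000000000000))
 (.leaf (nat_lit 0x100000000000100000100000100000100080200000100000100000100000000000100000100000100090d000001000000000001000001000802000001000001000704000000)))
 (.node (nat_lit 3) (.leaf (nat_lit 0x100d000f0c000000000c00000000000c00000e00000b01000e02000000000c01000304000c01000d07000c01000c01000d07000c01000c01000b05000800000a05000a05000000))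
 (.leaf (nat_lit 0x601000603000000001600001600001601001601000000001601001601000603001601001701000e03001600001509000000000e0300140500130300120600110c000000))))
 (.node (nat_lit 6) (.node (nat_lit 5) (.leaf (nat_lit 0x803001b00000803000801000801001703000000001b01001b00001b01000803001b00001b00000000001c03001b01001b01000805000000001a07001801001908001803000000))
 (.leaf (nat_lit 0x1e00002303001e01000202001d0200220d001d04000000000202001e00001e01002104001e0100200e001f03001e01001e01001e01001d00001d00000000001201001201000000)))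
 (.node (nat_lit 7) (.leaf (nat_lit 0x1402002701002804002403002804002902002700002700002700002700002701002804002401002902000000002700002804001c0a00270100000000260800250a002403000000))
 (.node (nat_lit 8) (.leaf (nat_lit 0x1800002a00002a00002a01001205000000002a00000a00002a01001202002a00001202002a00002b02002a01001202001202001207001800001800001202000000000000000000))
 (.leaf (nat_lit 0x330a00320b002c0000310b000706002c00003004002603002f0e001300002e09002c00000000002c00002c01002900002d07001806001802002c01002c01001806001804002c01))))))⟩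
noncomputable def L1 : Lev := ⟨(nat_lit 1), (nat_lit 8), (nat_lit 0x40203040308050604030201080507010204050706080000), (nat_lit 0x30303030303030202020203010203020303030303030000),
 (.node (nat_lit 4) (.node (nat_lit 2) (.node (nat_lit 1) (.leaf (nat_lit 0xb000b000d000a000c000e000c000b0001000d0002000000010001000f00000002000c000c001a0002001c00000000))
 (.leaf (nat_lit 0xb0000000d000c000f0010000e000e000b000c0000000300010001000d00030000000c000d00190003001d00000000)))
 (.node (nat_lit 3) (.leaf (nat_lit 0x300180000000300000002000e0003000200000001000d0001000300020001000e000f00190010000c001800000000))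
 (.leaf (nat_lit 0xc000d000000050018000e000d0000000100010006000100040004000100050000001700120004001800000000))))
 (.node (nat_lit 6) (.node (nat_lit 5) (.leaf (nat_lit 0x120016001100050016000200000013000100170002001000010000001400010015000f000000150018001b00000000))
 (.leaf (nat_lit 0xf000e000d000300090010000e0000000900010008000900010007000d00080002000a000a00170000001a00000000)))
 (.node (nat_lit 7) (.leaf (nat_lit 0xf0010000f000d000e001a001000010002001a000f00060002000200000001000f0011001b00000003001900000000))
 (.leaf (nat_lit 0x19001d0012001a00170000001c0018000100020001001c00000003001900090011001b0019001b0002000000010000))))),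
 (.node (nat_lit 4) (.node (nat_lit 2) (.node (nat_lit 1) (.leaf (nat_lit 0x60400050100050100020300030300030100000000020300000000050200050000000000000000000000050200000000050200040100080400000000340b000101000000000000))
 (.leaf (nat_lit 0x3501000000000001000001000001000001000001000001000001000001000000000001000001000001000001000001000000000001000001000802000001000001000000000000)))
 (.node (nat_lit 3) (.leaf (nat_lit 0xc00000e00000000000c00000000001204000e00000c01000e02000000000c01002108000c0100080000360a000c01000300000c01000c01000b05002103000a05000000000000))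
 (.leaf (nat_lit 0x601000603000000001600001600001601001601000000001601001601000603001601001701000e03001600003703000000000d08001405001405001206000000000000))))
 (.node (nat_lit 6) (.node (nat_lit 5) (.leaf (nat_lit 0x803001b00000803000d03000801001703000000001b01001b00001b0100380c001b00001b00000000000805001b01001b01000805000000001a07001d05001707000000000000))
 (.leaf (nat_lit 0x1e00001e00000204001e00003a03000204000202000000001e00001e00003404002300001e01002501002109001e0100390b001e01001d00001d00000000001201000000000000)))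
 (.node (nat_lit 7) (.leaf (nat_lit 0x1402002701002804000b02002804000b0000270000270000250a002700002701003d0b003c0d003b0b000000002700002804000b0000270100000000270100250a000000000000))
 (.leaf (nat_lit 0xa04002a00002a00002a01002507000000002a00001207002a01000a02002a00001202000000003e04002a0100120200250c00120700120700250c001202000000002a01000000)))))⟩
noncomputable def L2 : Lev := ⟨(nat_lit 2), (nat_lit 7), (nat_lit 0x10704040501020504070405030503050703030506000000), (nat_lit 0x20303020203020303010304020303030303040402000000),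
 (.node (nat_lit 3) (.node (nat_lit 1) (.leaf (nat_lit 0x1200130005000a00000002001600130001000700030006001a000b000300190017001200150006000000000000))
 (.node (nat_lit 2) (.leaf (nat_lit 0x30014001800110001000c00000014000600010007001a00020004000b0008001b0017001300140007000000000000))
 (.leaf (nat_lit 0x10001001900030008001500010016000200010009001b0000000800000018001c0000000000130008000000000000))))
 (.node (nat_lit 5) (.node (nat_lit 4) (.leaf (nat_lit 0x1000e00000000000a00150001000f0000000100000019000100020009001800120017001400170002000000000000))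
 (.leaf (nat_lit 0x10001001a00090000001600010000001100010004000000010000001a0000001b0001001000000003000000000000)))
 (.node (nat_lit 6) (.leaf (nat_lit 0x80010000f000c0002000200070008000300010002001800090003000c0002000d00170012001b0000000000000000))
 (.leaf (nat_lit 0x1000000110002000300170001000d000b00000002001e0002001f000e001b0000001d0018001c000a000100000000))))),
 (.node (nat_lit 3) (.node (nat_lit 1) (.leaf (nat_lit 0x600003505000303000000000501000303000502000000000500000804000600000500000502000000000201000502000804000000003f07000000000000000000))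
 (.node (nat_lit 2) (.leaf (nat_lit 0x1000001000001002304000001000001000000000001000001000001000001000001004008000001000001000001000001000001000001000802000001000000000000000000))
 (.leaf (nat_lit 0xc00000c00000c00000c00000800000e02000c00000c01000e02000c00000c01000800000000000800000000000e02000300000000000000000800000800000000000000000000))))
 (.node (nat_lit 5) (.node (nat_lit 4) (.leaf (nat_lit 0x1600001401000000000000001600001600001601001601000000001601000000003701001601004106000e03001600001405000605000406000d08002802000000000000000000))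
 (.leaf (nat_lit 0x1b00001b00000801000d03000000000801001b00000000001b00001b01001a03000000001b00000000000805000000001b01001b01000d00000000001d05000000000000000000)))
 (.node (nat_lit 6) (.leaf (nat_lit 0x1e00001e00003702002805004101004002000202001d02001e00001e00003d08001e00001e01001e00000200004208001e01000202001d00001d00000000000000000000000000))
 (.leaf (nat_lit 0x2700000000002804001402002700000b00002700002800002700000000000107004103000b02002800002701001a00000000000b00002701002701004109002701000000000000)))))⟩
noncomputable def L3 : Lev := ⟨(nat_lit 3), (nat_lit 6), (nat_lit 0x10104040501020504060405030503050603050500000000), (nat_lit 0x20303020203020303010304020303030303040400000000),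
 (.node (nat_lit 3) (.node (nat_lit 1) (.leaf (nat_lit 0x190003000500000002000b000400010011000e0004000300060010000d0018000a001f0000000000000000))
 (.node (nat_lit 2) (.leaf (nat_lit 0x3000500190001000100070000001a000200010005000e000f000f000600120002000c000b001e0000000000000000))
 (.leaf (nat_lit 0x1001d001c00030002000a0001000b0002000100030014000000130000001b00060000001e000a0000000000000000))))
 (.node (nat_lit 4) (.leaf (nat_lit 0x1001b000000000004000c0001001c000000010000001c0001001d000300190002001a000b001f0000000000000000))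
 (.node (nat_lit 5) (.leaf (nat_lit 0x100010005000900000009000100000001000100120000000100000008000000070001000000000000000000000000))
 (.leaf (nat_lit 0x300020003000100020007000200140004000000050017001500130006001200000016001300060001000000000000))))),
 (.node (nat_lit 3) (.node (nat_lit 1) (.leaf (nat_lit 0x501000000000303000000000501000303000502000000000500000501000600000000000502000000000804000205000804000000000000000000000000000000))
 (.node (nat_lit 2) (.leaf (nat_lit 0x1000001000001000001000001000001000000000001002106000001000001000001000802000001000001000001003a06000001000001000802000000000000000000000000))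
 (.leaf (nat_lit 0xc00000e00000c00000c00003507000800000c00000c01000e02000c00000c01000304000000000800000000000e02004309000000000c01000800000000000000000000000000))))
 (.node (nat_lit 4) (.leaf (nat_lit 0x1600000601000000000000001600001600001601001601000000001601000000000d02001601000601000e03000605003703001601000d08000d08000000000000000000000000))
 (.node (nat_lit 5) (.leaf (nat_lit 0x1b00001b00003503001d01000000000803001b00000000001b00001b01000805000000001b00000000001b00000000000803001b01000000000000000000000000000000000000))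
 (.leaf (nat_lit 0x1e00002303001e01001e00001d02000204000202001d02003f03000000001e01001e00001e01001e00002109000200000000000202001d00001d00001e01000000000000000000)))))⟩
noncomputable def L4 : Lev := ⟨(nat_lit 4), (nat_lit 5), (nat_lit 0x50501020504020401040205040501010202030000000000), (nat_lit 0x30103020403040202030404030404040503020000000000),
 (.node (nat_lit 2) (.node (nat_lit 1) (.leaf (nat_lit 0x9000100000002000c000b000800010000000100020011000100010000000000100002000400000000000000000000))
 (.leaf (nat_lit 0x9000100030000000a0001000000010003000a0000001100010012000d000300000000000500000000000000000000)))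
 (.node (nat_lit 3) (.leaf (nat_lit 0x3000100080005000e00020006000300060007000f0012000800080002000700100007000000000000000000000000))
 (.node (nat_lit 4) (.leaf (nat_lit 0x9000100030001000c00000002000000010000000a001400000005000d000300150002000100000000000000000000))
 (.leaf (nat_lit 0x1300020000000400130001000300010009000000010000000f0012000e0001000200010000000000000000))))),
 (.node (nat_lit 2) (.node (nat_lit 1) (.leaf (nat_lit 0x500000000000000000500000500000000000301000000000000000000000500000501000000000000000000000000000804000502004403000000000000000000000000000000))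
 (.leaf (nat_lit 0x1000001000001000000000802000001000000000001000001000001000000000001000001000001000001000001000000000000000001000000000000000000000000000000)))
 (.node (nat_lit 3) (.leaf (nat_lit 0xc00000c00000c00000302000e02000e02000400000c01000c01000e00000c01000304000c01000d07004506000e02000800000c01000000000000000000000000000000000000))
 (.node (nat_lit 4) (.leaf (nat_lit 0x601001600001600001600000603000000000601000000001600000000001601000d02000000001503001601001600000605000605001601000000000000000000000000000000))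
 (.leaf (nat_lit 0x801000803000000000d03001b00001b01001b00001b01000803000000001b00000000001b00000801000803001b01000805001b01000000000000000000000000)))))⟩
noncomputable def L5 : Lev := ⟨(nat_lit 5), (nat_lit 4), (nat_lit 0x30301020204020401040300040001010002000000000000), (nat_lit 0x30103020201040202030300030002040003000000000000),
 (.node (nat_lit 2) (.node (nat_lit 1) (.leaf (nat_lit 0x700010000000200020001000600010000000100040000000300000000000000000002000000000000000000000000))
 (.leaf (nat_lit 0x700010003000000000001000000010003000800020000000100000003000500000000000000000000000000000000)))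
 (.node (nat_lit 3) (.leaf (nat_lit 0xa000200010002000800030003000400000000000500000001000900000007000100000000000000000000))
 (.leaf (nat_lit 0x500010003000100020000000200000001000000040000000000000003000300000002000100000000000000000000)))),
 (.node (nat_lit 2) (.node (nat_lit 1) (.leaf (nat_lit 0x500000000000000000500000500000000000602000000000000000000000500000000000000000000000000000000000000000502000000000000000000000000000000000000))
 (.leaf (nat_lit 0x1000001000001000000000000000001000000000001000001000001000403000000000001000000000001000001000000000000000000000000000000000000000000000000)))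
 (.node (nat_lit 3) (.leaf (nat_lit 0xc00000302000c00000e02000c00000c01000c01000e00000000000000000c01000000000c01000e02000000000302000c01000000000000000000000000000000))
 (.leaf (nat_lit 0x1600001600001600001600000603000000000601000000001600000000000e01000000000000000000001601001600000000000605001601000000000000000000000000000000))))⟩
noncomputable def L6 : Lev := ⟨(nat_lit 6), (nat_lit 2), (nat_lit 0x2000000000100000000000000000000000000000000), (nat_lit 0x1000000000100000000000000000000000000000000),
 (.node (nat_lit 1) (.leaf (nat_lit 0x2000000000000000000000000000000000000000000000000000000000001000000000000000000000000))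
 (.leaf (nat_lit 0x30000000000000000000000000000000000000001000000000000000000000000))),
 (.node (nat_lit 1) (.leaf (nat_lit 0x501000000000000000000000000000000000000000000000000000000000000000000000000000000000000000000000000000000000000000000000000000000))
 (.leaf (nat_lit 0x1000000000000000000000000000000000000000000000000000000000001000000000000000000000000000000000000)))⟩
noncomputable def L : List Lev := [L0, L1, L2, L3, L4, L5, L6]
noncomputable abbrev P := PG 24 (nat_lit 5) (nat_lit 31) G0 9
theorem gen : genChk 24 (nat_lit 5) (nat_lit 31) G0 9 = true := by decide +kernel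
theorem slp : slpChk 24 (nat_lit 5) (nat_lit 31) T' D 9 0 = true := by decide +kernel
theorem lets : Lets P 24 (nat_lit 5) (nat_lit 31) (Fin.ofNat 24) T := lets_PG (T' := T') D 0 gen (by decide +kernel) slp
theorem lev0 : levChk 24 (nat_lit 5) (nat_lit 31) T RL L0 L1.N = true := by decide +kernel
theorem lev1 : levChk 24 (nat_lit 5) (nat_lit 31) T RL L1 L2.N = true := by decide +kernel
theorem lev2 : levChk 24 (nat_lit 5) (nat_lit 31) T RL L2 L3.N = true := by decide +kernel
theorem lev3 : levChk 24 (nat_lit 5) (nat_lit 31) T RL L3 L4.N = true := by decide +kernel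
theorem lev4 : levChk 24 (nat_lit 5) (nat_lit 31) T RL L4 L5.N = true := by decide +kernel
theorem lev5 : levChk 24 (nat_lit 5) (nat_lit 31) T RL L5 L6.N = true := by decide +kernel
theorem lev6 : levChk 24 (nat_lit 5) (nat_lit 31) T RL L6 0 = true := by decide +kernel
theorem chain : Chain 24 (nat_lit 5) (nat_lit 31) T RL L := chain_cons lev0 <| chain_cons lev1 <| chain_cons lev2 <| chain_cons lev3 <| chain_cons lev4 <| chain_cons lev5 <| chain_one lev6
theorem rels : RL.all (fixAll 24 (nat_lit 5) (nat_lit 31) T) = true := by decide +kernel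
theorem std : Std P 24 (nat_lit 5) (nat_lit 31) (Fin.ofNat 24) T RL L := std_PG gen lets chain rels (by decide +kernel)
theorem card : Nat.card P = 244823040 := std.card.trans (by decide +kernel)
def B : List ℕ := [nat_lit 0, nat_lit 1, nat_lit 2, nat_lit 3, nat_lit 4, nat_lit 5, nat_lit 6]
theorem base : IsB P 24 (Fin.ofNat 24) B := std.base

end H8.M24
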