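import Cfsg.Agent.H8.Mathieu
import Cfsg.Agent.H8.Stn
import Cfsg.Agent.H8.Sub2
import Cfsg.Agent.H8.PC0
import Cfsg.Agent.H1.Gaschutz

/-! H8.Co: extensions of `M23` by a module described by words of length 24: symbolic tails of rewriting rules (`Ext`, `run`, `fox`),
`Ext.split` (splitting from a certificate over a Sylow 2-subgroup) and `Ext.of_split`. -/

set_option autoImplicit false
set_option linter.all false
open Cfsg Subgroup
open H7 (gC pt)

noncomputable section
namespace H8.Co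

abbrev Z2 := ZMod 2
abbrev V := GolayPt → Z2

def lin (u : ℕ → Z2) (K x : ℕ) : Z2 := ∑ i ∈ Finset.range K, if x.testBit i then u i else 0

variable {u : ℕ → Z2} {K : ℕ}

theorem z2 (a : Z2) : a + a = 0 := by revert a; decide

theorem lin_xor (x y : ℕ) : lin u K (Nat.xor x y) = lin u K x + lin u K y := by
  unfold lin
  rw [← Finset.sum_add_distrib]
  refine Finset.sum_congr rfl fun i _ => ?_
  rw [show Nat.xor x y = x ^^^ y from rfl, Nat.testBit_xor]
  cases x.testBit i <;> cases y.testBit i <;> simp [z2]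

theorem lin_zero : lin u K 0 = 0 := by simp [lin]

theorem lin_congr {v : ℕ → Z2} {x y : ℕ} (h : ∀ i < K, x.testBit i = y.testBit i) (h' : ∀ i < K, u i = v i) : lin u K x = lin v K y :=
  Finset.sum_congr rfl fun i hi => by rw [h i (Finset.mem_range.1 hi), h' i (Finset.mem_range.1 hi)]

theorem lin_mod (x : ℕ) : lin u K (Nat.mod x (Nat.pow 2 K)) = lin u K x :=
  lin_congr (fun i hi => by rw [show Nat.mod x (Nat.pow 2 K) = x % 2 ^ K from rfl, Nat.testBit_mod_two_pow]; simp [hi]) fun _ _ => rfl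

theorem lin_add {v : ℕ → Z2} (x : ℕ) : lin (u + v) K x = lin u K x + lin v K x := by
  unfold lin
  rw [← Finset.sum_add_distrib]
  exact Finset.sum_congr rfl fun i _ => by split_ifs <;> simp

theorem lin_u0 (x : ℕ) : lin (fun _ => 0) K x = 0 := by simp [lin]

theorem lin_shift {c s : ℕ} (hc : c < 2 ^ 11) (h : s + 11 ≤ K) : lin u K (Nat.shiftLeft c s) = lin (fun i => u (s + i)) 11 c := by
  obtain ⟨t, rfl⟩ := Nat.exists_eq_add_of_le h
  unfold lin
  rw [Finset.sum_range_add, Finset.sum_range_add, Finset.sum_eq_zero, Finset.sum_eq_zero (s := Finset.range t), zero_add, add_zero]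
  · exact Finset.sum_congr rfl fun i _ => by simp [show Nat.shiftLeft c s = c <<< s from rfl]
  · intro i _
    rw [if_neg]
    rw [show Nat.shiftLeft c s = c <<< s from rfl, Nat.testBit_shiftLeft, show s + 11 + i - s = 11 + i by omega,
      Nat.testBit_lt_two_pow (hc.trans_le (Nat.pow_le_pow_right (by norm_num) (by omega)))]
    simp
  · intro i hi
    rw [if_neg]
    rw [show Nat.shiftLeft c s = c <<< s from rfl, Nat.testBit_shiftLeft]
    simp [Finset.mem_range.1 hi]

theorem lin_pow {i : ℕ} (h : i < K) : lin u K (Nat.pow 2 i) = u i := by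
  unfold lin
  rw [Finset.sum_eq_single i (fun j _ e => by simp [show Nat.pow 2 i = 2 ^ i from rfl, Nat.testBit_two_pow, e.symm])
    fun e => absurd (Finset.mem_range.2 h) e]
  simp [show Nat.pow 2 i = 2 ^ i from rfl]

def pick (c a b : ℕ) : ℕ := Nat.rec a (fun _ _ => b) (Nat.land c 1)

theorem pick_eq (c a b : ℕ) : pick c a b = if c.testBit 0 then b else a := by
  unfold pick
  rw [show Nat.land c 1 = c &&& 1 from rfl, Nat.and_one_is_mod, Nat.testBit_zero]
  rcases Nat.mod_two_eq_zero_or_one c with h | h <;> rw [h] <;> rfl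

/-- the sum of the `φ i` over the bits of `c` -/
def xs (n c : ℕ) (φ : ℕ → ℕ) : ℕ := Nat.rec 0 (fun i r => pick (Nat.shiftRight c i) r (Nat.xor r (φ i))) n

theorem lin_xs (n c : ℕ) (φ : ℕ → ℕ) : lin u K (xs n c φ) = lin (fun i => lin u K (φ i)) n c := by
  induction n with
  | zero => exact lin_zero
  | succ n ih =>
    show lin u K (pick (c >>> n) (xs n c φ) (Nat.xor (xs n c φ) (φ n))) = _
    rw [pick_eq, Nat.testBit_shiftRight, lin.eq_1 _ (n + 1), Finset.sum_range_succ, add_zero]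
    split_ifs
    · rw [lin_xor, ih]; rfl
    · rw [ih, add_zero]; rfl

def xsL (l : List ℕ) : ℕ → ℕ := List.rec (fun _ => 0) (fun a _ r c => frc (Nat.shiftRight c 1) fun c' => frc (r c') fun y => pick c y (Nat.xor y a)) l

theorem lin_xsL {l : List ℕ} (h : ∀ a ∈ l, lin u K a = 0) (c : ℕ) : lin u K (xsL l c) = 0 := by
  induction l generalizing c with
  | nil => exact lin_zero
  | cons a l ih =>
    show lin u K (frc _ fun c' => frc (xsL l c') fun y => pick c y (Nat.xor y a)) = 0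
    have := ih (fun b hb => h b (List.mem_cons_of_mem _ hb)) (Nat.shiftRight c 1)
    rw [frc_eq, frc_eq, pick_eq]
    split_ifs
    · rw [lin_xor, this, h a List.mem_cons_self, add_zero]
    · exact this

def blk (K S a : ℕ) : ℕ := Nat.shiftRight S (Nat.mul K a)
def Λ (u : ℕ → Z2) (K S : ℕ) : V := fun p => lin u K (blk K S (gC.code p))

theorem Λ_xor (x y : ℕ) : Λ u K (Nat.xor x y) = Λ u K x + Λ u K y := funext fun p => by
  rw [Pi.add_apply, Λ, Λ, Λ, ← lin_xor]
  exact congrArg _ Nat.shiftRight_xor_distrib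

theorem Λ_zero : Λ u K 0 = 0 := funext fun p => by rw [Λ, show blk K 0 _ = 0 from Nat.zero_shiftRight _, lin_zero]; rfl

def pk (K : ℕ) (f x : ℕ → ℕ) (n : ℕ) : ℕ :=
  Nat.rec 0 (fun a r => Nat.xor r (Nat.shiftLeft (Nat.mod (x a) (Nat.pow 2 K)) (Nat.mul K (f a)))) n

theorem lin_place (x a b : ℕ) : lin u K (blk K (Nat.shiftLeft (Nat.mod x (Nat.pow 2 K)) (Nat.mul K b)) a) = if a = b then lin u K x else 0 := by
  have e : ∀ i, (blk K (Nat.shiftLeft (Nat.mod x (Nat.pow 2 K)) (Nat.mul K b)) a).testBit i =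
      (decide (K * a + i ≥ K * b) && (decide (K * a + i - K * b < K) && x.testBit (K * a + i - K * b))) := fun i => by
    rw [← Nat.testBit_mod_two_pow, ← Nat.testBit_shiftLeft, ← Nat.testBit_shiftRight]; rfl
  split_ifs with h
  · exact lin_congr (fun i hi => by rw [e, h]; simp [hi]) fun _ _ => rfl
  · rw [← lin_zero (u := u) (K := K)]
    refine lin_congr (fun i hi => ?_) fun _ _ => rfl
    rw [e, Nat.zero_testBit]
    rcases Nat.lt_or_gt_of_ne h with h | h
    · have := Nat.mul_le_mul_left K (Nat.succ_le_of_lt h)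
      rw [Nat.mul_succ] at this
      simp [show K * a + i < K * b by omega]
    · have := Nat.mul_le_mul_left K (Nat.succ_le_of_lt h)
      rw [Nat.mul_succ] at this
      simp [show ¬ K * a + i - K * b < K by omega]

theorem lin_pk (f x : ℕ → ℕ) (n b : ℕ) : lin u K (blk K (pk K f x n) b) = ∑ a ∈ Finset.range n, if b = f a then lin u K (x a) else 0 := by
  induction n with
  | zero => rw [show blk K (pk K f x 0) b = 0 from Nat.zero_shiftRight _, lin_zero]; rfl
  | succ n ih =>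
    rw [Finset.sum_range_succ, ← ih, ← lin_place, ← lin_xor]
    exact congrArg _ Nat.shiftRight_xor_distrib

theorem Λ_pk {f x : ℕ → ℕ} {g : Spor.M23} (r : RepF 24 pt f g) :
    Λ u K (pk K f x 24) = (fun p => lin u K (x (gC.code p))) ∘ ⇑((g : Equiv.Perm GolayPt)⁻¹) := funext fun p => by
  obtain ⟨q, rfl⟩ := (g : Equiv.Perm GolayPt).surjective p
  have c : ∀ a < 24, gC.code (g.1 (pt a)) = f a := fun a ha => by
    rw [show g.1 (pt a) = pt (f a) from (r a ha).2.symm, gC.code_dec _ (r a ha).1]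
  rw [Λ, lin_pk, Finset.sum_eq_single (s := Finset.range 24) (gC.code q) (fun a ha e => if_neg fun h => e ?_)
    fun h => absurd (Finset.mem_range.2 (gC.code_lt q)) h, ← c _ (gC.code_lt q), show pt (gC.code q) = q from gC.dec_code q, if_pos rfl]
  · simp
  · rw [← c a (Finset.mem_range.1 ha)] at h
    rw [g.1.injective (gC.code_inj h), gC.code_dec a (Finset.mem_range.1 ha)]

/-- the word with coordinates `v` in the basis with columns `CB` -/
def cb (CB : ℕ) (v : ℕ → Z2) : V := fun p => lin v 11 (ap 11 2047 CB (gC.code p))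
def dt (HP i : ℕ) (w : V) : Z2 := lin (fun a => w (pt a)) 24 (ap 24 16777215 HP i)
def row (K HP i S : ℕ) : ℕ := Nat.mod (xs 24 (ap 24 16777215 HP i) (blk K S)) (Nat.pow 2 K)

theorem lin_row (HP i S : ℕ) : lin u K (row K HP i S) = dt HP i (Λ u K S) := by
  rw [row, lin_mod, lin_xs]
  exact lin_congr (fun _ _ => rfl) fun a ha => by rw [Λ, gC.code_dec a ha]

theorem cb_add (CB : ℕ) (v v' : ℕ → Z2) : cb CB (v + v') = cb CB v + cb CB v' := funext fun _ => lin_add _

theorem isB : IsB Spor.M23 24 pt (List.range 24) := ⟨fun a ha => List.mem_range.1 ha, fun g hg => Subtype.ext (Equiv.ext fun p => by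
  have := hg _ (List.mem_range.2 (gC.code_lt p))
  rwa [show pt (gC.code p) = p from gC.dec_code p] at this)⟩

structure Ext {E : Type*} [Group E] (π : E →* Spor.M23) (R : V → E → Prop) (CB HP : ℕ) : Prop where
  sur : Function.Surjective π
  add : ∀ {w a w' b}, R w a → R w' b → R (w + w') (a * b)
  conj : ∀ (g : E) {w a}, R w a → R (w ∘ ⇑((π g : Equiv.Perm GolayPt)⁻¹)) (g * a * g⁻¹)
  ex : ∀ a, π a = 1 → ∃ v, R (cb CB v) a
  all : ∀ v, ∃ a, R (cb CB v) a
  ker : ∀ {w a}, R w a → π a = 1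
  one : ∀ {w a}, R w a → (a = 1 ↔ ∀ i < 11, dt HP i w = 0)

abbrev Rl := List ℕ × List ℕ
abbrev St := List ℕ × ℕ × List ℕ
def sd (RU : Tr Rl) (j d : ℕ) : List ℕ := Nat.rec (RU.get (Nat.shiftRight j 1)).1 (fun _ _ => (RU.get (Nat.shiftRight j 1)).2) (Nat.land (Nat.add j d) 1)
def tl (CB j a : ℕ) : ℕ := Nat.shiftLeft (ap 11 2047 CB a) (Nat.mul 11 j)
def okP (K : ℕ) (RU : Tr Rl) (w' : List ℕ) (st : List St) : List ℕ → Bool :=
  List.rec (fun w => eqL w w') (fun s _ r w => band (band (Nat.ble (Nat.add (Nat.mul 11 (Nat.shiftRight s.2.1 1)) 11) K)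
    (eqL w (app s.1 (app (sd RU s.2.1 0) s.2.2)))) (r (app s.1 (app (sd RU s.2.1 1) s.2.2)))) st
def val (K CB : ℕ) (T : Tr ℕ) (st : List St) : ℕ :=
  List.rec 0 (fun s _ r => Nat.xor (pk K (apL 5 31 T s.1) (tl CB (Nat.shiftRight s.2.1 1)) 24) r) st
def fox (K CB : ℕ) (T Φ : Tr ℕ) (w : List ℕ) : ℕ :=
  List.rec 0 (fun x _ r => Nat.xor (pk K (fun a => a) (fun a => xs 11 (ap 11 2047 CB a) fun i => Φ.get (Nat.add (Nat.mul 11 x) i)) 24)
    (frc r fun r => pk K (ap 5 31 (T.get x)) (blk K r) 24)) w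
def tgt (K CB : ℕ) (T Φ : Tr ℕ) (RU : Tr Rl) (j : ℕ) : ℕ :=
  Nat.xor (Nat.xor (fox K CB T Φ (RU.get j).1) (pk K (fun a => a) (tl CB j) 24)) (fox K CB T Φ (RU.get j).2)
abbrev Pa := List ℕ × List St × List (ℕ × ℕ)
def paChk (K CB HP : ℕ) (T : Tr ℕ) (RU : Tr Rl) (p : Pa) : Bool := band (okP K RU p.1 p.2.1 p.1) (frc (val K CB T p.2.1) fun S =>
  allL p.2.2 fun q => band (Nat.ble (Nat.succ q.1) 11) (Nat.beq (row K HP q.1 S) q.2))
def rows (PS : List Pa) (X : List ℕ) : List ℕ := List.rec X (fun p _ r => List.rec r (fun q _ r => q.2 :: r) p.2.2) PS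
def tgChk (K CB HP : ℕ) (T Φ : Tr ℕ) (RU : Tr Rl) (CR : List ℕ) (LT : Tr ℕ) (j : ℕ) : Bool :=
  band (Nat.ble (Nat.add (Nat.mul 11 j) 11) K) (frc (tgt K CB T Φ RU j) fun S =>
    allB 11 fun i => Nat.beq (row K HP i S) (xsL CR (LT.get (Nat.add (Nat.mul 11 j) i))))
def pcChk (RU : Tr Rl) (PI : Tr (ℕ × List ℕ)) : Bool := allB 7 fun i => allB (Nat.succ i) fun j =>
  Prod.rec (fun q w => band (band (Nat.ble (Nat.succ q) 28) (allL w fun y => band (Nat.ble (Nat.succ i) y) (Nat.ble (Nat.succ y) 7)))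
    (band (eqL (RU.get q).1 [j, i]) (eqL (RU.get q).2 (ite' (Nat.beq j i) w (app w [i, j]))))) (PI.get (Nat.add (Nat.mul 7 i) j))

/-- `u` lists the tails of the rules for the lifts `e` -/
def Tails {E : Type*} [Group E] (R : V → E → Prop) (CB : ℕ) (RU : Tr Rl) (e : ℕ → E) (u : ℕ → Z2) (M : ℕ) : Prop :=
  ∀ j, 11 * j + 11 ≤ M → R (cb CB fun i => u (11 * j + i)) (ev e (RU.get j).1 * (ev e (RU.get j).2)⁻¹)

namespace Ext
variable {E : Type*} [Group E] {π : E →* Spor.M23} {R : V → E → Prop} {CB HP : ℕ} (X : Ext π R CB HP)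
  {T Φ : Tr ℕ} {RU : Tr Rl} {e : ℕ → E}
include X

theorem sq {w : V} {a : E} (h : R w a) : a * a = 1 := (X.one (X.add h h)).2 fun i _ => by
  rw [show w + w = 0 from funext fun p => z2 _]; exact lin_u0 _

theorem inv {w : V} {a : E} (h : R w a) : a⁻¹ = a := inv_eq_of_mul_eq_one_right (X.sq h)

theorem zero : R 0 1 := by
  obtain ⟨a, h⟩ := X.all 0
  have := X.add h h
  rwa [X.sq h, show cb CB 0 + cb CB 0 = 0 from funext fun p => z2 _] at this

theorem tails (hT : ∀ y, Rep 24 5 31 pt (T.get y) (π (e y))) (h : RU.all (fun r => eqB (List.range 24) (apL 5 31 T r.1) (apL 5 31 T r.2)) = true) :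
    ∃ u, ∀ M, Tails R CB RU e u M := by
  have : ∀ j, ∃ v, R (cb CB v) (ev e (RU.get j).1 * (ev e (RU.get j).2)⁻¹) := fun j => X.ex _ (by
    rw [map_mul, map_inv, map_ev, map_ev, mul_inv_eq_one]
    exact (eqB_iff isB gC.inj (apL_rep hT _) (apL_rep hT _)).1 (Tr.all_get h j))
  choose v hv using this
  refine ⟨fun i => v (i / 11) (i % 11), fun M j _ => ?_⟩
  convert hv j using 1
  exact funext fun p => lin_congr (fun _ _ => rfl) fun i hi => by
    simp only [show (11 * j + i) / 11 = j by omega, show (11 * j + i) % 11 = i by omega]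

omit X in
theorem Λ_tl {f : ℕ → ℕ} {g : Spor.M23} (r : RepF 24 pt f g) {j : ℕ} (h : 11 * j + 11 ≤ K) :
    Λ u K (pk K f (tl CB j) 24) = (cb CB fun i => u (11 * j + i)) ∘ ⇑((g : Equiv.Perm GolayPt)⁻¹) := by
  rw [Λ_pk r]
  congr 1
  exact funext fun p => lin_shift (Nat.lt_succ_of_le Nat.and_le_right) h

theorem run (hT : ∀ y, Rep 24 5 31 pt (T.get y) (π (e y))) (hu : Tails R CB RU e u K) {w' : List ℕ} {st : List St} {w : List ℕ}
    (h : okP K RU w' st w = true) : ∃ a, R (Λ u K (val K CB T st)) a ∧ ev e w = a * ev e w' := by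
  induction st generalizing w with
  | nil => exact ⟨1, by rw [show val K CB T [] = 0 from rfl, Λ_zero]; exact X.zero, by rw [eqL_spec h, one_mul]⟩
  | cons s st ih =>
    obtain ⟨A, j, C⟩ := s
    obtain ⟨h1, h3⟩ := (band_eq_true _ _).1 h
    obtain ⟨h1, h2⟩ := (band_eq_true _ _).1 h1
    obtain ⟨a, ha, e1⟩ := ih h3
    have t := hu _ (Nat.le_of_ble_eq_true h1)
    have c := X.conj (ev e A) t
    rw [map_ev, ← Λ_tl (apL_rep hT A) (Nat.le_of_ble_eq_true h1)] at c
    refine ⟨_, by rw [show val K CB T ((A, j, C) :: st) = Nat.xor _ (val K CB T st) from rfl, Λ_xor]; exact X.add c ha, ?_⟩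
    rw [eqL_spec h2, mul_assoc _ a, ← e1]
    simp only [app_eq, ev_append, sd, show ∀ a, Nat.land a 1 = a % 2 from Nat.and_one_is_mod, Nat.add_eq, add_zero]
    rcases Nat.mod_two_eq_zero_or_one j with k | k
    · rw [k, show (j + 1) % 2 = 1 by omega]; simp [mul_assoc]
    · rw [k, show (j + 1) % 2 = 0 by omega, ← X.inv t]; simp [mul_assoc]

theorem rows (hT : ∀ y, Rep 24 5 31 pt (T.get y) (π (e y))) (hu : Tails R CB RU e u K) {PS : List Pa}
    (h : allL PS (paChk K CB HP T RU) = true) {Y : List ℕ} (hY : ∀ a ∈ Y, lin u K a = 0) : ∀ a ∈ rows PS Y, lin u K a = 0 := by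
  induction PS with
  | nil => exact hY
  | cons p PS ih =>
    rw [allL_iff, List.forall_mem_cons, ← allL_iff] at h
    obtain ⟨h1, h2⟩ := (band_eq_true _ _).1 h.1
    obtain ⟨a, ha, e1⟩ := X.run hT hu h1
    have := (X.one ha).1 (by simpa using e1)
    rw [frc_eq, allL_iff] at h2
    show ∀ a ∈ (List.rec (Co.rows PS Y) (fun q _ r => q.2 :: r) p.2.2 : List ℕ), _
    generalize p.2.2 = l at h2
    induction l with
    | nil => exact ih h.2
    | cons q l ih2 =>
      rw [List.forall_mem_cons] at h2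
      refine List.forall_mem_cons.2 ⟨?_, ih2 h2.2⟩
      obtain ⟨h3, h4⟩ := (band_eq_true _ _).1 h2.1
      rw [← Nat.eq_of_beq_eq_true h4, lin_row]
      exact this _ (Nat.le_of_ble_eq_true h3)

theorem fox (hT : ∀ y, Rep 24 5 31 pt (T.get y) (π (e y))) {m : ℕ → E} (w : List ℕ)
    (hm : ∀ x ∈ w, R (cb CB fun i => lin u K (Φ.get (11 * x + i))) (m x)) :
    ∃ a, R (Λ u K (fox K CB T Φ w)) a ∧ ev (fun x => m x * e x) w = a * ev e w := by
  induction w with
  | nil => exact ⟨1, by rw [show Co.fox K CB T Φ [] = 0 from rfl, Λ_zero]; exact X.zero, by simp⟩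
  | cons x w ih =>
    obtain ⟨a, ha, e1⟩ := ih fun y hy => hm y (List.mem_cons_of_mem _ hy)
    refine ⟨m x * (e x * a * (e x)⁻¹), ?_, by simp [e1, mul_assoc]⟩
    rw [show Co.fox K CB T Φ (x :: w) = Nat.xor _ (frc (Co.fox K CB T Φ w) _) from rfl, Λ_xor, frc_eq, Λ_pk (hT x), Λ_pk (RepF.id 24 pt)]
    refine X.add ?_ (X.conj _ ha)
    convert hm x List.mem_cons_self using 1
    exact funext fun p => lin_xs _ _ _

theorem tgt (hT : ∀ y, Rep 24 5 31 pt (T.get y) (π (e y))) {M : ℕ} (hu : Tails R CB RU e u M) {m : ℕ → E} {j : ℕ} (h : 11 * j + 11 ≤ M) (hM : M ≤ K)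
    (hm : ∀ x ∈ (RU.get j).1 ++ (RU.get j).2, R (cb CB fun i => lin u K (Φ.get (11 * x + i))) (m x)) :
    ev (fun x => m x * e x) (RU.get j).1 = ev (fun x => m x * e x) (RU.get j).2 ↔ ∀ i < 11, lin u K (row K HP i (tgt K CB T Φ RU j)) = 0 := by
  obtain ⟨a, ha, e1⟩ := X.fox hT _ fun x hx => hm x (List.mem_append_left _ hx)
  obtain ⟨b, hb, e2⟩ := X.fox hT _ fun x hx => hm x (List.mem_append_right _ hx)
  have := X.one (X.add (X.add ha (hu j h)) hb)
  simp only [lin_row, Co.tgt, Λ_xor]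
  rw [Λ_tl (RepF.id 24 pt) (h.trans hM), e1, e2]
  refine Iff.trans ?_ this
  rw [← X.inv hb, X.inv hb, mul_eq_one_iff_eq_inv, X.inv hb, ← mul_assoc, mul_inv_eq_iff_eq_mul]

theorem split [Finite E] (hT : ∀ y, Rep 24 5 31 pt (T.get y) (π (e y))) (hu : Tails R CB RU e u K) {CR : List ℕ} (hC : ∀ a ∈ CR, lin u K a = 0)
    {LT : Tr ℕ} (h1 : allB 28 (tgChk K CB HP T Φ RU CR LT) = true) {PI : Tr (ℕ × List ℕ)} (h2 : pcChk RU PI = true)
    {TP : Tr ℕ} {D : Tr (List ℕ)} {Ls : List Lev} (h3 : band (TP.all2 (fun c w => band (allL w fun y => Nat.ble (Nat.succ y) 7)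
      (isProd 24 5 31 T c w)) D) (band (tchainChk 24 5 31 TP Ls) (Nat.ble 128 (chainOrd 24 Ls))) = true) :
    ∃ H : Subgroup E, IsComplement' π.ker H := by
  choose m hm using fun x => X.all fun i => lin u K (Φ.get (11 * x + i))
  set z := fun x => m x * e x with hz
  have r : ∀ j < 28, ev z (RU.get j).1 = ev z (RU.get j).2 := fun j hj => by
    obtain ⟨a, b⟩ := (band_eq_true _ _).1 (allB_iff.1 h1 j hj)
    rw [frc_eq, allB_iff] at b
    exact (X.tgt hT hu (Nat.le_of_ble_eq_true a) le_rfl fun x _ => hm x).2 fun i hi => by rw [Nat.eq_of_beq_eq_true (b i hi), lin_xsL hC]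
  have q : ∀ i < 7, ∀ j ≤ i, ∃ w, ev z w ∈ NN z 7 (i + 1) ∧ z j * z i = ev z (ite' (Nat.beq j i) w (app w [i, j])) := fun i hi j hj => by
    have := allB_iff.1 (allB_iff.1 h2 i hi) j (Nat.lt_succ_of_le hj)
    generalize PI.get _ = p at this
    obtain ⟨q, w⟩ := p
    simp only [band_eq_true, Nat.ble_eq, allL_iff] at this
    refine ⟨w, ev_mem _ _ _ fun y hy => NN_mem (this.1.2 y hy).1 (this.1.2 y hy).2, ?_⟩
    rw [← eqL_spec this.2.2, ← r q this.1.1, eqL_spec this.2.1]; simp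
  have pc : PC0 z 0 7 2 := ⟨fun i j _ hj hi => by
      obtain ⟨w, a, b⟩ := q i hi j hj.le
      rw [show Nat.beq j i = false from Bool.eq_false_iff.2 fun k => hj.ne (Nat.eq_of_beq_eq_true k), ite'_false] at b
      rw [b]; simpa [mul_assoc] using a,
    fun i _ hi => by
      obtain ⟨w, a, b⟩ := q i hi i le_rfl
      rw [Nat.beq_refl, ite'_true] at b
      rwa [pow_two, b], by norm_num⟩
  have ub := pc.ub le_rfl
  set A := NN z 7 0
  simp only [band_eq_true, Nat.ble_eq] at h3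
  have hz' : ∀ y, Rep 24 5 31 pt (T.get y) (π (z y)) := fun y => by rw [hz, map_mul, X.ker (hm y), one_mul]; exact hT y
  have L : Lets (A.map π) 24 5 31 pt TP := fun y => by
    obtain ⟨a, b⟩ := (band_eq_true _ _).1 (Tr.all2_get h3.1 y)
    refine ⟨⟨π (ev z (D.get y)), mem_map_of_mem _ (ev_mem _ _ _ fun i hi => NN_mem (Nat.zero_le _) (Nat.le_of_ble_eq_true (allL_iff.1 a i hi)))⟩, ?_⟩
    show RepF 24 pt _ (π (ev z (D.get y)))
    rw [map_ev]
    refine RepF.congr (G := Spor.M23) (apL_rep hz' (D.get y)) fun a ha => ?_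
    have h2 := Nat.eq_of_beq_eq_true (allB_iff.1 b a ha)
    rw [apW_mkW] at h2
    exact h2.symm
  have lb : 128 ≤ Nat.card (A.map π) := h3.2.2.trans ((tchain_spec L.rep gC.inj h3.2.1).1.trans (card_le_card_group _))
  have k := card_mul_index (π.comp A.subtype).ker
  rw [index_ker, MonoidHom.range_comp, range_subtype, show (π.comp A.subtype).ker = π.ker.subgroupOf A from rfl] at k
  have k0 : 0 < Nat.card (π.ker.subgroupOf A) := Nat.card_pos
  have ub : Nat.card A ≤ 128 := ub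
  have k1 : Nat.card (π.ker.subgroupOf A) = 1 := by
    have := Nat.le_of_mul_le_mul_right (a := Nat.card (π.ker.subgroupOf A)) (b := 1) (c := 128)
      ((Nat.mul_le_mul_left _ lb).trans (k.le.trans ub)) (by norm_num)
    omega
  have k2 : Nat.card (A.map π) = 128 := by rw [k1, one_mul] at k; exact le_antisymm (k.le.trans ub) lb
  have pg : IsPGroup 2 π.ker := fun a => ⟨1, Subtype.ext (by obtain ⟨v, h⟩ := X.ex a a.2; simpa [pow_two] using X.sq h)⟩
  refine H1.gaschutz_exists (U := π.ker ⊔ A) (A := A) ⟨⟨fun a b => ?_⟩⟩ ?_ (by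
    rw [inf_comm, ← subgroupOf_eq_bot.trans disjoint_iff]; exact card_eq_one.1 k1) rfl
  · obtain ⟨v, h⟩ := X.ex a a.2
    obtain ⟨v', h'⟩ := X.ex b b.2
    refine Subtype.ext ?_
    show a.1 * b.1 = b.1 * a.1
    rw [← X.inv (X.add h h'), mul_inv_rev, X.inv h, X.inv h']
  · haveI : Fact (Nat.Prime 2) := ⟨Nat.prime_two⟩
    obtain ⟨n, hn⟩ := IsPGroup.iff_card.1 pg
    have := card_mul_index (A.map π)
    rw [k2, H7.isM23.2] at this
    rw [hn, sup_comm, ← comap_map_eq, index_comap_of_surjective _ X.sur, show (A.map π).index = 79695 by omega]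
    exact Nat.Coprime.pow_left _ (by norm_num)

theorem of_split (hT : ∀ y, Rep 24 5 31 pt (T.get y) (π (e y))) (hu : Tails R CB RU e u 308) {χ c : ℕ}
    (h0 : RU.all (fun r => eqB (List.range 24) (apL 5 31 T r.1) (apL 5 31 T r.2)) = true)
    (h1 : band (band (allB 77 fun i => Nat.beq (Φ.get i) (Nat.pow 2 (Nat.add 308 i))) (allB 28 fun j =>
      allL (app (RU.get j).1 (RU.get j).2) fun y => Nat.ble (Nat.succ y) 7)) (band (Nat.ble (Nat.succ χ) (Nat.pow 2 308)) (Nat.beq χ
        (xs 28 (Nat.pow 2 28 - 1) fun j => frc (Co.tgt 385 CB T Φ RU j) fun S => xs 11 (ap 11 2047 c j) fun i => row 385 HP i S))) = true)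
    {H : Subgroup E} (hH : H ⊓ π.ker = ⊥) (hH' : H ⊔ π.ker = ⊤) : lin u 308 χ = 0 := by
  have : ∀ x, ∃ a v, R (cb CB v) a ∧ a * e x ∈ H := fun x => by
    obtain ⟨a, ha, b, hb, k⟩ := mem_sup_of_normal_left.1 (show e x ∈ π.ker ⊔ H by rw [sup_comm, hH']; trivial)
    obtain ⟨v, hv⟩ := X.ex a ha
    exact ⟨a, v, hv, by rwa [← k, ← mul_assoc, X.sq hv, one_mul]⟩
  choose m v hv hm using this
  simp only [band_eq_true, Nat.ble_eq, allB_iff, allL_iff, Nat.beq_eq, app_eq] at h1
  let u' : ℕ → Z2 := fun i => if i < 308 then u i else v ((i - 308) / 11) ((i - 308) % 11)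
  have hu' : Tails R CB RU e u' 308 := fun j hj => by
    convert hu j hj using 1
    exact funext fun p => lin_congr (fun _ _ => rfl) fun i hi => if_pos (by omega)
  have k : lin u' 385 χ = 0 := by
    rw [h1.2.2, lin_xs, ← lin_u0 (K := 28) (Nat.pow 2 28 - 1)]
    refine lin_congr (fun _ _ => rfl) fun j hj => ?_
    rw [frc_eq, lin_xs, ← lin_u0 (K := 11) (ap 11 2047 c j)]
    refine lin_congr (fun _ _ => rfl) ((X.tgt hT hu' (by omega) (by norm_num) (m := m) fun x hx => ?_).1 ?_)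
    · convert hv x using 1
      have := h1.1.2 j hj x hx
      refine funext fun p => lin_congr (fun _ _ => rfl) fun i hi => ?_
      rw [h1.1.1 _ (by omega), lin_pow (by show 308 + _ < _; omega)]
      show (if 308 + (11 * x + i) < 308 then _ else v ((308 + (11 * x + i) - 308) / 11) ((308 + (11 * x + i) - 308) % 11)) = _
      rw [if_neg (by omega), show (308 + (11 * x + i) - 308) / 11 = x by omega, show (308 + (11 * x + i) - 308) % 11 = i by omega]
    · rw [← mul_inv_eq_one, ← mem_bot, ← hH]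
      refine ⟨H.mul_mem (ev_mem _ _ _ fun y _ => hm y) (H.inv_mem (ev_mem _ _ _ fun y _ => hm y)), ?_⟩
      have hz' : ∀ y, Rep 24 5 31 pt (T.get y) (π (m y * e y)) := fun y => by rw [map_mul, X.ker (hv y), one_mul]; exact hT y
      show π _ = 1
      rw [map_mul, map_inv, map_ev, map_ev, mul_inv_eq_one]
      exact (eqB_iff isB gC.inj (apL_rep hz' _) (apL_rep hz' _)).1 (Tr.all_get h0 j)
  rw [← k, lin.eq_1 u', show 385 = 308 + 77 from rfl, Finset.sum_range_add, Finset.sum_eq_zero (s := Finset.range 77), add_zero]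
  · exact lin_congr (fun _ _ => rfl) fun i hi => (if_pos hi).symm
  · intro i _
    rw [Nat.testBit_lt_two_pow (lt_of_lt_of_le h1.2.1 (Nat.pow_le_pow_right (by norm_num) (by omega)))]
    rfl

end Ext
end H8.Co
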