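import Cfsg.Agent.H8.Co

/-! H8.CoD: certificates for the second cohomology of `M23` on the Golay code and cocode modules (generated certificate) -/

set_option autoImplicit false
set_option maxRecDepth 200000

set_option linter.all false
open Subgroup Cfsg

namespace H8.Co

def aCB : ℕ := (nat_lit 0xc77da3da3dbb31b31b3dc752e4fc75800800800800800800800800800800e3a)
def aHP : ℕ := (nat_lit 0x800000400000200000100000080000040000020000010000008000004000002)
noncomputable def aT : Tr ℕ := (.node (nat_lit 5) (.node (nat_lit 2) (.node (nat_lit 1) (.leaf (nat_lit 0xbd854819b33ae2c728687c8244d4a0)) (.leaf (nat_lit 0xbcab055834594e67cd286b1c418a20))) (.node (nat_lit 3) (.leaf (nat_lit 0xbb6b179e819b2ce52d28914c418a00)) (.node (nat_lit 4) (.leaf (nat_lit 0xbaeae3162f851acb29090ce43208e0)) (.leaf (nat_lit 0xbaeae9c1522d18db4464399e848820)))))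
 (.node (nat_lit 7) (.node (nat_lit 6) (.leaf (nat_lit 0xbbaab0954f8598da452831e4418a60)) (.leaf (nat_lit 0xbd2b6341b22ae2a731280cde4188e0))) (.node (nat_lit 8) (.leaf (nat_lit 0xbac94b28d19c0ec7b40393835488a8)) (.node (nat_lit 9) (.leaf (nat_lit 0xba80c9a5e3236128969631d0b70835)) (.leaf (nat_lit 0xba6a3395d0911744594d099f160a60))))))
noncomputable def aRU : Tr Rl := (.node (nat_lit 20) (.node (nat_lit 10) (.node (nat_lit 5) (.node (nat_lit 2) (.node (nat_lit 1) (.leaf ([nat_lit 0, nat_lit 0], [])) (.leaf ([nat_lit 1, nat_lit 1], []))) (.node (nat_lit 3) (.leaf ([nat_lit 2, nat_lit 2], [])) (.node (nat_lit 4) (.leaf ([nat_lit 3, nat_lit 3], [])) (.leaf ([nat_lit 4, nat_lit 4], [])))))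
 (.node (nat_lit 7) (.node (nat_lit 6) (.leaf ([nat_lit 5, nat_lit 5], [])) (.leaf ([nat_lit 6, nat_lit 6], []))) (.node (nat_lit 8) (.leaf ([nat_lit 0, nat_lit 1], [nat_lit 5, nat_lit 2, nat_lit 1, nat_lit 0])) (.node (nat_lit 9) (.leaf ([nat_lit 0, nat_lit 2], [nat_lit 6, nat_lit 2, nat_lit 0])) (.leaf ([nat_lit 1, nat_lit 2], [nat_lit 2, nat_lit 1]))))))
 (.node (nat_lit 15) (.node (nat_lit 12) (.node (nat_lit 11) (.leaf ([nat_lit 0, nat_lit 3], [nat_lit 5, nat_lit 4, nat_lit 3, nat_lit 0])) (.leaf ([nat_lit 1, nat_lit 3], [nat_lit 6, nat_lit 3, nat_lit 1]))) (.node (nat_lit 13) (.leaf ([nat_lit 2, nat_lit 3], [nat_lit 6, nat_lit 5, nat_lit 3, nat_lit 2])) (.node (nat_lit 14) (.leaf ([nat_lit 0, nat_lit 4], [nat_lit 6, nat_lit 4, nat_lit 0])) (.leaf ([nat_lit 1, nat_lit 4], [nat_lit 5, nat_lit 4, nat_lit 1])))))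
 (.node (nat_lit 17) (.node (nat_lit 16) (.leaf ([nat_lit 2, nat_lit 4], [nat_lit 6, nat_lit 4, nat_lit 2])) (.leaf ([nat_lit 3, nat_lit 4], [nat_lit 4, nat_lit 3]))) (.node (nat_lit 18) (.leaf ([nat_lit 0, nat_lit 5], [nat_lit 6, nat_lit 5, nat_lit 0])) (.node (nat_lit 19) (.leaf ([nat_lit 1, nat_lit 5], [nat_lit 5, nat_lit 1])) (.leaf ([nat_lit 2, nat_lit 5], [nat_lit 5, nat_lit 2])))))))
 (.node (nat_lit 30) (.node (nat_lit 25) (.node (nat_lit 22) (.node (nat_lit 21) (.leaf ([nat_lit 3, nat_lit 5], [nat_lit 5, nat_lit 3])) (.leaf ([nat_lit 4, nat_lit 5], [nat_lit 5, nat_lit 4]))) (.node (nat_lit 23) (.leaf ([nat_lit 0, nat_lit 6], [nat_lit 6, nat_lit 0])) (.node (nat_lit 24) (.leaf ([nat_lit 1, nat_lit 6], [nat_lit 6, nat_lit 1])) (.leaf ([nat_lit 2, nat_lit 6], [nat_lit 6, nat_lit 2])))))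
 (.node (nat_lit 27) (.node (nat_lit 26) (.leaf ([nat_lit 3, nat_lit 6], [nat_lit 6, nat_lit 3])) (.leaf ([nat_lit 4, nat_lit 6], [nat_lit 6, nat_lit 4]))) (.node (nat_lit 28) (.leaf ([nat_lit 5, nat_lit 6], [nat_lit 6, nat_lit 5])) (.node (nat_lit 29) (.leaf ([nat_lit 7, nat_lit 6, nat_lit 5], [nat_lit 1, nat_lit 7])) (.leaf ([nat_lit 7, nat_lit 5], [nat_lit 5, nat_lit 1, nat_lit 7]))))))
 (.node (nat_lit 35) (.node (nat_lit 32) (.node (nat_lit 31) (.leaf ([nat_lit 7, nat_lit 2, nat_lit 1], [nat_lit 6, nat_lit 5, nat_lit 1, nat_lit 7])) (.leaf ([nat_lit 7, nat_lit 2], [nat_lit 6, nat_lit 5, nat_lit 2, nat_lit 1, nat_lit 7]))) (.node (nat_lit 33) (.leaf ([nat_lit 8, nat_lit 6, nat_lit 5, nat_lit 3], [nat_lit 5, nat_lit 4, nat_lit 8])) (.node (nat_lit 34) (.leaf ([nat_lit 8, nat_lit 6, nat_lit 5], [nat_lit 4, nat_lit 3, nat_lit 8])) (.leaf ([nat_lit 8, nat_lit 6, nat_lit 3], [nat_lit 6, nat_lit 4, nat_lit 3, nat_lit 8])))))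
 (.node (nat_lit 38) (.node (nat_lit 36) (.leaf ([nat_lit 8, nat_lit 6, nat_lit 4], [nat_lit 6, nat_lit 5, nat_lit 8])) (.node (nat_lit 37) (.leaf ([nat_lit 9, nat_lit 0], [nat_lit 6, nat_lit 5, nat_lit 4, nat_lit 0, nat_lit 9])) (.leaf ([nat_lit 9, nat_lit 6, nat_lit 5, nat_lit 3], [nat_lit 6, nat_lit 5, nat_lit 9])))) (.node (nat_lit 39) (.leaf ([nat_lit 9, nat_lit 6, nat_lit 5, nat_lit 4], [nat_lit 6, nat_lit 9])) (.node (nat_lit 40) (.leaf ([nat_lit 9, nat_lit 3], [nat_lit 6, nat_lit 5, nat_lit 3, nat_lit 9])) (.leaf ([nat_lit 9, nat_lit 5, nat_lit 4], [nat_lit 6, nat_lit 5, nat_lit 4, nat_lit 9]))))))))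
theorem al : aT.all (fun c => band (m24Chk (ap 5 31 c)) (Nat.beq (ap 5 31 c 23) 23)) = true := by decide +kernel
theorem ar : aRU.all (fun r => eqB (List.range 24) (apL 5 31 aT r.1) (apL 5 31 aT r.2)) = true := by decide +kernel
noncomputable def aP0 : List Pa := [([nat_lit 0, nat_lit 0, nat_lit 0], [([], nat_lit 0, [nat_lit 0]), ([nat_lit 0], nat_lit 1, [])], [(nat_lit 0, nat_lit 0x11), (nat_lit 1, nat_lit 0x7b6), (nat_lit 2, nat_lit 0x104), (nat_lit 5, nat_lit 0x6ec)]),
 ([nat_lit 1, nat_lit 1, nat_lit 1], [([], nat_lit 2, [nat_lit 1]), ([nat_lit 1], nat_lit 3, [])], [(nat_lit 0, nat_lit 0x1b3800), (nat_lit 4, nat_lit 0x2ad800), (nat_lit 5, nat_lit 0x22a800), (nat_lit 6, nat_lit 0x26f800)]),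
 ([nat_lit 2, nat_lit 2, nat_lit 2], [([], nat_lit 4, [nat_lit 2]), ([nat_lit 2], nat_lit 5, [])], [(nat_lit 0, nat_lit 0x6c800000), (nat_lit 4, nat_lit 0xc000000), (nat_lit 6, nat_lit 0x1a3000000), (nat_lit 9, nat_lit 0x180000000)]),
 ([nat_lit 3, nat_lit 3, nat_lit 3], [([], nat_lit 6, [nat_lit 3]), ([nat_lit 3], nat_lit 7, [])], [(nat_lit 0, nat_lit 0x8200000000), (nat_lit 2, nat_lit 0x1800000000), (nat_lit 4, nat_lit 0xdb800000000), (nat_lit 5, nat_lit 0x39a00000000)]),
 ([nat_lit 4, nat_lit 4, nat_lit 4], [([], nat_lit 8, [nat_lit 4]), ([nat_lit 4], nat_lit 9, [])], [(nat_lit 2, nat_lit 0x10400000000000), (nat_lit 3, nat_lit 0x8800000000000), (nat_lit 4, nat_lit 0x6f300000000000), (nat_lit 9, nat_lit 0x16600000000000)]),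
 ([nat_lit 5, nat_lit 5, nat_lit 5], [([], nat_lit 10, [nat_lit 5]), ([nat_lit 5], nat_lit 11, [])], [(nat_lit 0, nat_lit 0xf600000000000000), (nat_lit 4, nat_lit 0x36e00000000000000), (nat_lit 5, nat_lit 0x3000000000000000), (nat_lit 9, nat_lit 0xb300000000000000)]),
 ([nat_lit 6, nat_lit 6, nat_lit 6], [([], nat_lit 12, [nat_lit 6]), ([nat_lit 6], nat_lit 13, [])], [(nat_lit 0, nat_lit 0x1040000000000000000), (nat_lit 4, nat_lit 0x1bcc0000000000000000), (nat_lit 5, nat_lit 0x7340000000000000000), (nat_lit 9, nat_lit 0x19d40000000000000000)]),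
 ([nat_lit 0, nat_lit 0, nat_lit 6], [([], nat_lit 0, [nat_lit 6]), ([nat_lit 6], nat_lit 1, []), ([], nat_lit 45, [nat_lit 0]), ([nat_lit 0], nat_lit 45, [])], [(nat_lit 0, nat_lit 0x44000000000000000000000000000000000000000000000000000000000041), (nat_lit 1, nat_lit 0x1ed8000000000000000000000000000000000000000000000000000000000000), (nat_lit 2, nat_lit 0x410000000000000000000000000000000000000000000000000000000000000), (nat_lit 5, nat_lit 0x1bb00000000000000000000000000000000000000000000000000000000001cd), (nat_lit 9, nat_lit 0x675)]),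
 ([nat_lit 0, nat_lit 6, nat_lit 6], [([], nat_lit 44, [nat_lit 6]), ([nat_lit 6], nat_lit 44, []), ([], nat_lit 12, [nat_lit 0]), ([nat_lit 0], nat_lit 13, [])], [(nat_lit 0, nat_lit 0x104000000000000000000000000000000000000000000440000000000000000), (nat_lit 1, nat_lit 0x1ed80000000000000000), (nat_lit 5, nat_lit 0x73400000000000000000000000000000000000000001bb00000000000000000)]),
 ([nat_lit 1, nat_lit 1, nat_lit 2], [([], nat_lit 2, [nat_lit 2]), ([nat_lit 2], nat_lit 3, []), ([], nat_lit 19, [nat_lit 1]), ([nat_lit 1], nat_lit 19, [])], [(nat_lit 0, nat_lit 0x1b380000000000000000000d9000), (nat_lit 4, nat_lit 0x2ad8000000000000000000018000), (nat_lit 5, nat_lit 0x22a8000000000000000000018000), (nat_lit 6, nat_lit 0x26f8000000000000000000346000)]),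
 ([nat_lit 1, nat_lit 1, nat_lit 5], [([], nat_lit 2, [nat_lit 5]), ([nat_lit 5], nat_lit 3, []), ([], nat_lit 37, [nat_lit 1]), ([nat_lit 1], nat_lit 37, [])], [(nat_lit 0, nat_lit 0xd9c00000000000000000000000000000000000000000000f6000), (nat_lit 4, nat_lit 0x156c000000000000000000000000000000000000000000036e000), (nat_lit 5, nat_lit 0x11540000000000000000000000000000000000000000000030000), (nat_lit 6, nat_lit 0x137c0000000000000000000000000000000000000000000030000)]),
 ([nat_lit 1, nat_lit 1, nat_lit 6], [([], nat_lit 2, [nat_lit 6]), ([nat_lit 6], nat_lit 3, []), ([], nat_lit 47, [nat_lit 1]), ([nat_lit 1], nat_lit 47, [])], [(nat_lit 0, nat_lit 0x6ce000000000000000000000000000000000000000000000000000000000020800), (nat_lit 4, nat_lit 0xab6000000000000000000000000000000000000000000000000000000000379800), (nat_lit 5, nat_lit 0x8aa0000000000000000000000000000000000000000000000000000000000e6800), (nat_lit 6, nat_lit 0x9be000000000000000000000000000000000000000000000000000000000020800)]),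
 ([nat_lit 1, nat_lit 2, nat_lit 2], [([], nat_lit 18, [nat_lit 2]), ([nat_lit 2], nat_lit 18, []), ([], nat_lit 4, [nat_lit 1]), ([nat_lit 1], nat_lit 5, [])], [(nat_lit 0, nat_lit 0xd900000000000000000d9c00000), (nat_lit 4, nat_lit 0x180000000000000000156c00000), (nat_lit 6, nat_lit 0x3460000000000000000137c00000)]),
 ([nat_lit 1, nat_lit 5, nat_lit 5], [([], nat_lit 36, [nat_lit 5]), ([nat_lit 5], nat_lit 36, []), ([], nat_lit 10, [nat_lit 1]), ([nat_lit 1], nat_lit 11, [])], [(nat_lit 0, nat_lit 0x7b0000000000000000000000000000000001b380000000000000), (nat_lit 4, nat_lit 0x1b70000000000000000000000000000000002ad80000000000000), (nat_lit 5, nat_lit 0x1800000000000000000000000000000000022a80000000000000)]),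
 ([nat_lit 1, nat_lit 6, nat_lit 6], [([], nat_lit 46, [nat_lit 6]), ([nat_lit 6], nat_lit 46, []), ([], nat_lit 12, [nat_lit 1]), ([nat_lit 1], nat_lit 13, [])], [(nat_lit 0, nat_lit 0x8200000000000000000000000000000000000000000000d9c0000000000000000), (nat_lit 4, nat_lit 0xde60000000000000000000000000000000000000000000156c0000000000000000), (nat_lit 5, nat_lit 0x39a000000000000000000000000000000000000000000011540000000000000000)]),
 ([nat_lit 2, nat_lit 2, nat_lit 5], [([], nat_lit 4, [nat_lit 5]), ([nat_lit 5], nat_lit 5, []), ([], nat_lit 39, [nat_lit 2]), ([nat_lit 2], nat_lit 39, [])], [(nat_lit 0, nat_lit 0x364000000000000000000000000000000000000000000007b000000), (nat_lit 4, nat_lit 0x6000000000000000000000000000000000000000000001b7000000), (nat_lit 6, nat_lit 0xd180000000000000000000000000000000000000000000018000000), (nat_lit 9, nat_lit 0xc000000000000000000000000000000000000000000000059800000)]),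
 ([nat_lit 2, nat_lit 2, nat_lit 6], [([], nat_lit 4, [nat_lit 6]), ([nat_lit 6], nat_lit 5, []), ([], nat_lit 49, [nat_lit 2]), ([nat_lit 2], nat_lit 49, [])], [(nat_lit 0, nat_lit 0x1b2000000000000000000000000000000000000000000000000000000000010400000), (nat_lit 4, nat_lit 0x300000000000000000000000000000000000000000000000000000000001bcc00000), (nat_lit 6, nat_lit 0x68c000000000000000000000000000000000000000000000000000000000010400000), (nat_lit 9, nat_lit 0x60000000000000000000000000000000000000000000000000000000000019d400000)]),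
 ([nat_lit 2, nat_lit 5, nat_lit 5], [([], nat_lit 38, [nat_lit 5]), ([nat_lit 5], nat_lit 38, []), ([], nat_lit 10, [nat_lit 2]), ([nat_lit 2], nat_lit 11, [])], [(nat_lit 0, nat_lit 0x3d8000000000000000000000000000000000000d900000000000000), (nat_lit 4, nat_lit 0xdb80000000000000000000000000000000000001800000000000000), (nat_lit 9, nat_lit 0x2cc0000000000000000000000000000000000030000000000000000)]),
 ([nat_lit 2, nat_lit 6, nat_lit 6], [([], nat_lit 48, [nat_lit 6]), ([nat_lit 6], nat_lit 48, []), ([], nat_lit 12, [nat_lit 2]), ([nat_lit 2], nat_lit 13, [])], [(nat_lit 0, nat_lit 0x41000000000000000000000000000000000000000000000006c80000000000000000), (nat_lit 4, nat_lit 0x6f3000000000000000000000000000000000000000000000000c00000000000000000), (nat_lit 9, nat_lit 0x675000000000000000000000000000000000000000000000018000000000000000000)]),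
 ([nat_lit 3, nat_lit 3, nat_lit 4], [([], nat_lit 6, [nat_lit 4]), ([nat_lit 4], nat_lit 7, []), ([], nat_lit 33, [nat_lit 3]), ([nat_lit 3], nat_lit 33, [])], [(nat_lit 0, nat_lit 0x4100000000000000000000000000000000000000000000), (nat_lit 2, nat_lit 0xc00000000000000000000000000000000020800000000), (nat_lit 4, nat_lit 0x6dc000000000000000000000000000000000de600000000), (nat_lit 5, nat_lit 0x1cd00000000000000000000000000000000000000000000), (nat_lit 9, nat_lit 0x2cc00000000)]),
 ([nat_lit 3, nat_lit 3, nat_lit 5], [([], nat_lit 6, [nat_lit 5]), ([nat_lit 5], nat_lit 7, []), ([], nat_lit 41, [nat_lit 3]), ([nat_lit 3], nat_lit 41, [])], [(nat_lit 0, nat_lit 0x41000000000000000000000000000000000000000000003d800000000), (nat_lit 2, nat_lit 0xc0000000000000000000000000000000000000000000000000000000), (nat_lit 4, nat_lit 0x6dc00000000000000000000000000000000000000000000db800000000), (nat_lit 5, nat_lit 0x1cd000000000000000000000000000000000000000000000c000000000)]),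
 ([nat_lit 3, nat_lit 3, nat_lit 6], [([], nat_lit 6, [nat_lit 6]), ([nat_lit 6], nat_lit 7, []), ([], nat_lit 51, [nat_lit 3]), ([nat_lit 3], nat_lit 51, [])], [(nat_lit 0, nat_lit 0x20800000000000000000000000000000000000000000000000000000000008200000000), (nat_lit 2, nat_lit 0x6000000000000000000000000000000000000000000000000000000000000000000000), (nat_lit 4, nat_lit 0x36e0000000000000000000000000000000000000000000000000000000000de600000000), (nat_lit 5, nat_lit 0xe6800000000000000000000000000000000000000000000000000000000039a00000000), (nat_lit 9, nat_lit 0xcea00000000)]),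
 ([nat_lit 3, nat_lit 4, nat_lit 4], [([], nat_lit 32, [nat_lit 4]), ([nat_lit 4], nat_lit 32, []), ([], nat_lit 8, [nat_lit 3]), ([nat_lit 3], nat_lit 9, [])], [(nat_lit 0, nat_lit 0x4100000000000), (nat_lit 2, nat_lit 0x10400000000000000000000000000000000c00000000000), (nat_lit 4, nat_lit 0x6f30000000000000000000000000000006dc00000000000)]),
 ([nat_lit 3, nat_lit 5, nat_lit 5], [([], nat_lit 40, [nat_lit 5]), ([nat_lit 5], nat_lit 40, []), ([], nat_lit 10, [nat_lit 3]), ([nat_lit 3], nat_lit 11, [])], [(nat_lit 0, nat_lit 0x1ec0000000000000000000000000000000000000002080000000000000), (nat_lit 2, nat_lit 0x600000000000000), (nat_lit 9, nat_lit 0x1660000000000000000000000000000000000000000000000000000000)]),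
 ([nat_lit 3, nat_lit 6, nat_lit 6], [([], nat_lit 50, [nat_lit 6]), ([nat_lit 6], nat_lit 50, []), ([], nat_lit 12, [nat_lit 3]), ([nat_lit 3], nat_lit 13, [])], [(nat_lit 2, nat_lit 0x300000000000000000), (nat_lit 4, nat_lit 0x37980000000000000000000000000000000000000000000000001b700000000000000000), (nat_lit 9, nat_lit 0x33a800000000000000000000000000000000000000000000000000000000000000000000)]),
 ([nat_lit 4, nat_lit 4, nat_lit 5], [([], nat_lit 8, [nat_lit 5]), ([nat_lit 5], nat_lit 9, []), ([], nat_lit 43, [nat_lit 4]), ([nat_lit 4], nat_lit 43, [])], [(nat_lit 0, nat_lit 0x1ec00000000000), (nat_lit 2, nat_lit 0x820000000000000000000000000000000000000000000000000000000000), (nat_lit 3, nat_lit 0x440000000000000000000000000000000000000000000000000000000000), (nat_lit 4, nat_lit 0x379800000000000000000000000000000000000000000006dc00000000000), (nat_lit 9, nat_lit 0xb30000000000000000000000000000000000000000000016600000000000)]),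
 ([nat_lit 4, nat_lit 4, nat_lit 6], [([], nat_lit 8, [nat_lit 6]), ([nat_lit 6], nat_lit 9, []), ([], nat_lit 53, [nat_lit 4]), ([nat_lit 4], nat_lit 53, [])], [(nat_lit 2, nat_lit 0x41000000000000000000000000000000000000000000000000000000000000000000000000), (nat_lit 3, nat_lit 0x22000000000000000000000000000000000000000000000000000000000000000000000000), (nat_lit 4, nat_lit 0x1bcc0000000000000000000000000000000000000000000000000000000006f300000000000), (nat_lit 9, nat_lit 0x59800000000000000000000000000000000000000000000000000000000067500000000000)]),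
 ([nat_lit 4, nat_lit 5, nat_lit 5], [([], nat_lit 42, [nat_lit 5]), ([nat_lit 5], nat_lit 42, []), ([], nat_lit 10, [nat_lit 4]), ([nat_lit 4], nat_lit 11, [])], [(nat_lit 0, nat_lit 0xf60000000000000000000000000000000000000000000000000000000000), (nat_lit 2, nat_lit 0x8200000000000000), (nat_lit 4, nat_lit 0x36e0000000000000000000000000000000000000000037980000000000000)]),
 ([nat_lit 4, nat_lit 6, nat_lit 6], [([], nat_lit 52, [nat_lit 6]), ([nat_lit 6], nat_lit 52, []), ([], nat_lit 12, [nat_lit 4]), ([nat_lit 4], nat_lit 13, [])], [(nat_lit 0, nat_lit 0x10400000000000000000000000000000000000000000000000000000000000000000000000), (nat_lit 9, nat_lit 0x19d400000000000000000000000000000000000000000000000000005980000000000000000)]),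
 ([nat_lit 5, nat_lit 5, nat_lit 6], [([], nat_lit 10, [nat_lit 6]), ([nat_lit 6], nat_lit 11, []), ([], nat_lit 55, [nat_lit 5]), ([nat_lit 5], nat_lit 55, [])], [(nat_lit 0, nat_lit 0x3d800000000000000000000000000000000000000000000000000000000002080000000000000), (nat_lit 4, nat_lit 0xdb800000000000000000000000000000000000000000000000000000000037980000000000000), (nat_lit 5, nat_lit 0xc00000000000000000000000000000000000000000000000000000000000e680000000000000), (nat_lit 9, nat_lit 0x2cc00000000000000000000000000000000000000000000000000000000033a80000000000000)]),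
 ([nat_lit 5, nat_lit 6, nat_lit 6], [([], nat_lit 54, [nat_lit 6]), ([nat_lit 6], nat_lit 54, []), ([], nat_lit 12, [nat_lit 5]), ([nat_lit 5], nat_lit 13, [])], [(nat_lit 0, nat_lit 0x8200000000000000000000000000000000000000000000000000000007b00000000000000000), (nat_lit 4, nat_lit 0xde60000000000000000000000000000000000000000000000000000001b700000000000000000), (nat_lit 9, nat_lit 0xcea00000000000000000000000000000000000000000000000000000005980000000000000000)]),
 ([nat_lit 0, nat_lit 0, nat_lit 2], [([], nat_lit 0, [nat_lit 2]), ([], nat_lit 13, [nat_lit 2]), ([nat_lit 6, nat_lit 6, nat_lit 2], nat_lit 1, []), ([nat_lit 6], nat_lit 17, [nat_lit 0]), ([], nat_lit 45, [nat_lit 2, nat_lit 0]), ([nat_lit 0], nat_lit 17, [])], [(nat_lit 0, nat_lit 0x40000000000000000000000000000000000005000000400000000000001b2), (nat_lit 1, nat_lit 0x8000000000000000000000000000000000007b60000080000000000000000), (nat_lit 2, nat_lit 0x10000000000000000000000000000000000001040000100000000000000000), (nat_lit 3, nat_lit 0x20000000000000000000000000000000000000000000200000000000000000),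 (nat_lit 5, nat_lit 0x80000000000000000000000000000000000007210000800000000000000030), (nat_lit 9, nat_lit 0x800000000000000000000000000000000000006750008000000000000000600)]),
 ([nat_lit 0, nat_lit 0, nat_lit 4], [([], nat_lit 0, [nat_lit 4]), ([], nat_lit 13, [nat_lit 4]), ([nat_lit 6, nat_lit 6, nat_lit 4], nat_lit 1, []), ([nat_lit 6], nat_lit 27, [nat_lit 0]), ([], nat_lit 45, [nat_lit 4, nat_lit 0]), ([nat_lit 0], nat_lit 27, [])], [(nat_lit 0, nat_lit 0x4000000000000000000000028000000000000000000040000000000000000), (nat_lit 1, nat_lit 0x80000000000000000000003db000000000000000000080000000000000000), (nat_lit 2, nat_lit 0x10000000000000000000000082000000000000000000100000000000000104), (nat_lit 5, nat_lit 0x80000000000000000000000390800000000000000000800000000000000000), (nat_lit 9, nat_lit 0x80000000000000000000000033a800000000000000008000000000000000166)]),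
 ([nat_lit 0, nat_lit 0, nat_lit 5], [([], nat_lit 0, [nat_lit 5]), ([], nat_lit 13, [nat_lit 5]), ([nat_lit 6, nat_lit 6, nat_lit 5], nat_lit 1, []), ([nat_lit 6], nat_lit 35, [nat_lit 0]), ([], nat_lit 45, [nat_lit 5, nat_lit 0]), ([nat_lit 0], nat_lit 35, [])], [(nat_lit 0, nat_lit 0x40000000000028000000000000000000000000000000400000000000001ec), (nat_lit 1, nat_lit 0x800000000003db00000000000000000000000000000080000000000000000), (nat_lit 2, nat_lit 0x10000000000008200000000000000000000000000000100000000000000000), (nat_lit 5, nat_lit 0x80000000000039080000000000000000000000000000800000000000000060)]),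
 ([nat_lit 0, nat_lit 2, nat_lit 2], [([], nat_lit 16, [nat_lit 2]), ([nat_lit 6, nat_lit 2], nat_lit 16, []), ([nat_lit 6], nat_lit 48, [nat_lit 2, nat_lit 0]), ([nat_lit 6, nat_lit 6], nat_lit 4, [nat_lit 0]), ([], nat_lit 12, [nat_lit 0]), ([nat_lit 0], nat_lit 5, [])], [(nat_lit 0, nat_lit 0x40000000000000000000000000000000000000000006cd0000040000000004400000), (nat_lit 1, nat_lit 0x20000000000000000000000000000000000000000000000000800000001ed800000), (nat_lit 4, nat_lit 0x6e3000000000000000000000000000000000000000001fd0000400000000004400000), (nat_lit 5, nat_lit 0x1ed000000000000000000000000000000000000000006c300008000000001bb000000), (nat_lit 7, nat_lit 0x80000000000000000000000000000000000000000000000002000000000000000000), (nat_lit 9, nat_lit 0x4750000000000000000000000000000000000000000074b0008000000000000000000)]),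
 ([nat_lit 0, nat_lit 4, nat_lit 4], [([], nat_lit 26, [nat_lit 4]), ([nat_lit 6, nat_lit 4], nat_lit 26, []), ([nat_lit 6], nat_lit 52, [nat_lit 4, nat_lit 0]), ([nat_lit 6, nat_lit 6], nat_lit 8, [nat_lit 0]), ([], nat_lit 12, [nat_lit 0]), ([nat_lit 0], nat_lit 9, [])], [(nat_lit 0, nat_lit 0x10000000000000000000000000000000000020800000000000000000040001100000000000), (nat_lit 1, nat_lit 0x80000000000000000000000000000000000000000000000000000008007b600000000000), (nat_lit 2, nat_lit 0x1000000000000000000000000000000000082000000000000000000100010400000000000), (nat_lit 3, nat_lit 0x2000000000000000000000000000000000044000000000000000000200000000000000000), (nat_lit 4, nat_lit 0x1b8c00000000000000000000000000000000000000000000000000000400001100000000000), (nat_lit 9, nat_lit 0x11d40000000000000000000000000000000034f800000000000000008000000000000000000)]),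
 ([nat_lit 0, nat_lit 5, nat_lit 5], [([], nat_lit 34, [nat_lit 5]), ([nat_lit 6, nat_lit 5], nat_lit 34, []), ([nat_lit 6], nat_lit 54, [nat_lit 5, nat_lit 0]), ([nat_lit 6, nat_lit 6], nat_lit 10, [nat_lit 0]), ([], nat_lit 12, [nat_lit 0]), ([nat_lit 0], nat_lit 11, [])], [(nat_lit 0, nat_lit 0x8000000000000000000000000001080000000000000000000000000000040880000000000000), (nat_lit 2, nat_lit 0x800000000000000000000000000000000000000000000000000000000108200000000000000), (nat_lit 4, nat_lit 0xdc60000000000000000000000000d180000000000000000000000000000400880000000000000), (nat_lit 6, nat_lit 0x20000000000000000000000000d680000000000000000000000000001035180000000000000), (nat_lit 9, nat_lit 0x8ea00000000000000000000000034f80000000000000000000000000008000000000000000000)]),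
 ([nat_lit 1, nat_lit 1, nat_lit 3], [([], nat_lit 2, [nat_lit 3]), ([], nat_lit 13, [nat_lit 3]), ([nat_lit 6, nat_lit 6, nat_lit 3], nat_lit 3, []), ([nat_lit 6], nat_lit 23, [nat_lit 1]), ([], nat_lit 47, [nat_lit 3, nat_lit 1]), ([nat_lit 1], nat_lit 23, [])], [(nat_lit 0, nat_lit 0x200000000000000000000000000000064c000000000000040000000000020800), (nat_lit 1, nat_lit 0x4000000000000000000000000000000000000000000000080000000000000000), (nat_lit 3, nat_lit 0x10000000000000000000000000000000000000000000000200000000000006000), (nat_lit 4, nat_lit 0x2000000000000000000000000000000075000000000000040000000000036e000), (nat_lit 5, nat_lit 0x40000000000000000000000000000000b300000000000008000000000000e6800), (nat_lit 6, nat_lit 0x8000000000000000000000000000000093c000000000001000000000000020800)])]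
theorem ap0 : allL aP0 (paChk 451 aCB aHP aT aRU) = true := by decide +kernel
noncomputable def aP1 : List Pa := [([nat_lit 1, nat_lit 1, nat_lit 4], [([], nat_lit 2, [nat_lit 4]), ([], nat_lit 11, [nat_lit 4]), ([nat_lit 5, nat_lit 5, nat_lit 4], nat_lit 3, []), ([nat_lit 5], nat_lit 29, [nat_lit 1]), ([], nat_lit 37, [nat_lit 4, nat_lit 1]), ([nat_lit 1], nat_lit 29, [])], [(nat_lit 0, nat_lit 0x400000000a2c00000000000000000000000080000000000000), (nat_lit 1, nat_lit 0x80000000000000000000000000000000000100000000000000), (nat_lit 2, nat_lit 0x100000000000000000000000000000000000200000000082000), (nat_lit 4, nat_lit 0x4000000000e1c00000000000000000000000800000000379800), (nat_lit 5, nat_lit 0x80000000010d400000000000000000000001000000000000000), (nat_lit 6, nat_lit 0x100000000012fc00000000000000000000002000000000000000)]),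
 ([nat_lit 1, nat_lit 2, nat_lit 5], [([], nat_lit 18, [nat_lit 5]), ([nat_lit 2], nat_lit 36, []), ([], nat_lit 38, [nat_lit 1]), ([nat_lit 5], nat_lit 19, []), ([], nat_lit 37, [nat_lit 2]), ([nat_lit 1], nat_lit 39, [])], [(nat_lit 0, nat_lit 0x6ce6c80000000000000000000000f60000000000000000000000000), (nat_lit 4, nat_lit 0xab60c000000000000000000000036e0000000000000000000000000)]),
 ([nat_lit 1, nat_lit 2, nat_lit 6], [([], nat_lit 18, [nat_lit 6]), ([nat_lit 2], nat_lit 46, []), ([], nat_lit 48, [nat_lit 1]), ([nat_lit 6], nat_lit 19, []), ([], nat_lit 47, [nat_lit 2]), ([nat_lit 1], nat_lit 49, [])], [(nat_lit 0, nat_lit 0x367364000000000000000000000000000000000000208000000000000000000000000), (nat_lit 4, nat_lit 0x55b060000000000000000000000000000000000003798000000000000000000000000)]),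
 ([nat_lit 1, nat_lit 3, nat_lit 3], [([], nat_lit 22, [nat_lit 3]), ([nat_lit 6, nat_lit 3], nat_lit 22, []), ([nat_lit 6], nat_lit 50, [nat_lit 3, nat_lit 1]), ([nat_lit 6, nat_lit 6], nat_lit 6, [nat_lit 1]), ([], nat_lit 12, [nat_lit 1]), ([nat_lit 1], nat_lit 7, [])], [(nat_lit 0, nat_lit 0x2000000000000000000000000000000000000000000000000000004000006ce00000000), (nat_lit 1, nat_lit 0x1000000000000000000000000000000000000000000000000000080000000000000000), (nat_lit 2, nat_lit 0x2000000000000000000000000000000000000018000000000000100000000000000000), (nat_lit 4, nat_lit 0x3718000000000000000000000000000000000003460000000000004000000ab600000000), (nat_lit 7, nat_lit 0x40000000000000000000000000000000000000300000000000002000000000000000000), (nat_lit 9, nat_lit 0x23a800000000000000000000000000000000000cea00000000000800000007da00000000)]),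
 ([nat_lit 1, nat_lit 4, nat_lit 4], [([], nat_lit 28, [nat_lit 4]), ([nat_lit 5, nat_lit 4], nat_lit 28, []), ([nat_lit 5], nat_lit 42, [nat_lit 4, nat_lit 1]), ([nat_lit 5, nat_lit 5], nat_lit 8, [nat_lit 1]), ([], nat_lit 10, [nat_lit 1]), ([nat_lit 1], nat_lit 9, [])], [(nat_lit 0, nat_lit 0xf6800000000000000007b0000000000000000000000000b6700000000000), (nat_lit 2, nat_lit 0x20000000000000000041000000000000000000000000200000000000000), (nat_lit 3, nat_lit 0x40000000000000000022000000000000000000000000400000000000000), (nat_lit 4, nat_lit 0x3660000000000000000068c00000000000000000000000855b00000000000), (nat_lit 9, nat_lit 0x1b3000000000000000000000000000000000000000001003ed00000000000), (nat_lit 10, nat_lit 0x1ed0000000000000000052c0000000000000000000002002e300000000000)]),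
 ([nat_lit 1, nat_lit 5, nat_lit 6], [([], nat_lit 36, [nat_lit 6]), ([nat_lit 5], nat_lit 46, []), ([], nat_lit 54, [nat_lit 1]), ([nat_lit 6], nat_lit 37, []), ([], nat_lit 47, [nat_lit 5]), ([nat_lit 1], nat_lit 55, [])], [(nat_lit 0, nat_lit 0x6ce000000003d8000000000001040000000000000000000000000000000000000000000000000)]),
 ([nat_lit 2, nat_lit 2, nat_lit 4], [([], nat_lit 4, [nat_lit 4]), ([], nat_lit 13, [nat_lit 4]), ([nat_lit 6, nat_lit 6, nat_lit 4], nat_lit 5, []), ([nat_lit 6], nat_lit 31, [nat_lit 2]), ([], nat_lit 49, [nat_lit 4, nat_lit 2]), ([nat_lit 2], nat_lit 31, [])], [(nat_lit 0, nat_lit 0x100000000000000000000003e600000000000000000000000040000000000000000), (nat_lit 1, nat_lit 0x2000000000000000000000000000000000000000000000000080000000000000000), (nat_lit 4, nat_lit 0x100000000000000000000000d86000000000000000000000004000000001bcc00000), (nat_lit 5, nat_lit 0x2000000000000000000000003fa00000000000000000000000800000000000000000), (nat_lit 9, nat_lit 0x20000000000000000000000000ea00000000000000000000008000000000059800000)]),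
 ([nat_lit 2, nat_lit 4, nat_lit 4], [([], nat_lit 30, [nat_lit 4]), ([nat_lit 6, nat_lit 4], nat_lit 30, []), ([nat_lit 6], nat_lit 52, [nat_lit 4, nat_lit 2]), ([nat_lit 6, nat_lit 6], nat_lit 8, [nat_lit 2]), ([], nat_lit 12, [nat_lit 2]), ([nat_lit 2], nat_lit 9, [])], [(nat_lit 0, nat_lit 0x1000000000000000000000000000000820000000000000000000000004001b200000000000), (nat_lit 2, nat_lit 0x1000000000000000000000000000020800000000000000000000000100000000000000000), (nat_lit 3, nat_lit 0x2000000000000000000000000000011000000000000000000000000200000000000000000), (nat_lit 9, nat_lit 0x11d4000000000000000000000000000d3e00000000000000000000008000060000000000000)]),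
 ([nat_lit 2, nat_lit 5, nat_lit 6], [([], nat_lit 38, [nat_lit 6]), ([nat_lit 5], nat_lit 48, []), ([], nat_lit 54, [nat_lit 2]), ([nat_lit 6], nat_lit 39, []), ([], nat_lit 49, [nat_lit 5]), ([nat_lit 2], nat_lit 55, [])], [(nat_lit 0, nat_lit 0x364000001ec000000000000820000000000000000000000000000000000000000000000000000)]),
 ([nat_lit 3, nat_lit 4, nat_lit 5], [([], nat_lit 32, [nat_lit 5]), ([nat_lit 4], nat_lit 40, []), ([], nat_lit 42, [nat_lit 3]), ([nat_lit 5], nat_lit 33, []), ([], nat_lit 41, [nat_lit 4]), ([nat_lit 3], nat_lit 43, [])], [(nat_lit 0, nat_lit 0x20800000000001ec00000000000000000000000000000000000000000000), (nat_lit 2, nat_lit 0x61040000000000000000000000000000000000000000000000000000000)]),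
 ([nat_lit 7, nat_lit 6, nat_lit 5, nat_lit 6, nat_lit 5], [([nat_lit 7, nat_lit 6], nat_lit 54, [nat_lit 5]), ([nat_lit 7, nat_lit 6, nat_lit 6], nat_lit 10, []), ([nat_lit 7], nat_lit 12, []), ([], nat_lit 3, [nat_lit 7]), ([nat_lit 1], nat_lit 57, []), ([], nat_lit 57, [nat_lit 6, nat_lit 5])], [(nat_lit 1, nat_lit 0x400000000000000000000000000000000000000000000000000000000080100000000001000), (nat_lit 2, nat_lit 0x10000000000000000000000000000000000000000000000000000000002004000000000002000), (nat_lit 3, nat_lit 0xf680000000000000000000000000000000000000000000000000000001ed3da00000000004000)]),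
 ([nat_lit 1, nat_lit 3, nat_lit 5], [([], nat_lit 22, [nat_lit 5]), ([nat_lit 6, nat_lit 3], nat_lit 36, []), ([nat_lit 6], nat_lit 40, [nat_lit 1]), ([], nat_lit 55, [nat_lit 3, nat_lit 1]), ([nat_lit 5], nat_lit 23, []), ([], nat_lit 37, [nat_lit 3]), ([nat_lit 1], nat_lit 41, [])], [(nat_lit 0, nat_lit 0x2000000000000000032600000000000000000000003d8000000000000000000000000000000), (nat_lit 4, nat_lit 0x2000000000000000003a800068c0000000000000000db8000000000000000000000000000000)]),
 ([nat_lit 1, nat_lit 4, nat_lit 6], [([], nat_lit 28, [nat_lit 6]), ([nat_lit 5, nat_lit 4], nat_lit 46, []), ([nat_lit 5], nat_lit 52, [nat_lit 1]), ([], nat_lit 54, [nat_lit 4, nat_lit 1]), ([nat_lit 6], nat_lit 29, []), ([], nat_lit 47, [nat_lit 4]), ([nat_lit 1], nat_lit 53, [])], [(nat_lit 0, nat_lit 0x2a2c000003d8000000000000000000000010400000000000000000000000000000000000000), (nat_lit 4, nat_lit 0x20e1c000003460000000000000000000001bcc00000000000000000000000000000000000000)]),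
 ([nat_lit 2, nat_lit 3, nat_lit 5], [([], nat_lit 24, [nat_lit 5]), ([nat_lit 6, nat_lit 5, nat_lit 3], nat_lit 38, []), ([nat_lit 6, nat_lit 5], nat_lit 40, [nat_lit 2]), ([], nat_lit 55, [nat_lit 5, nat_lit 3, nat_lit 2]), ([nat_lit 5], nat_lit 25, []), ([], nat_lit 39, [nat_lit 3]), ([nat_lit 2], nat_lit 41, [])], [(nat_lit 0, nat_lit 0x200000000000000001933d800000000000000001ec000000000000000000000000000000000), (nat_lit 4, nat_lit 0x200000000000000000193de600000000000000006dc000000000000000000000000000000000), (nat_lit 5, nat_lit 0x4000000000000000000110c00000000000000000060000000000000000000000000000000000), (nat_lit 9, nat_lit 0x400000000000000000009fd3e0000000000000000166000000000000000000000000000000000)]),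
 ([nat_lit 2, nat_lit 3, nat_lit 6], [([], nat_lit 24, [nat_lit 6]), ([nat_lit 6, nat_lit 5, nat_lit 3], nat_lit 48, []), ([nat_lit 6, nat_lit 5], nat_lit 50, [nat_lit 2]), ([nat_lit 6], nat_lit 54, [nat_lit 3, nat_lit 2]), ([nat_lit 6], nat_lit 25, []), ([], nat_lit 49, [nat_lit 3]), ([nat_lit 2], nat_lit 51, [])], [(nat_lit 0, nat_lit 0x80000c99ec000000000000000000000000000000041000000000000000000000000000000000), (nat_lit 4, nat_lit 0xdc6000c9ef30000000000000000000000000000006f3000000000000000000000000000000000), (nat_lit 9, nat_lit 0x8ea0004fe9f000000000000000000000000000000675000000000000000000000000000000000)]),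
 ([nat_lit 2, nat_lit 4, nat_lit 5], [([], nat_lit 30, [nat_lit 5]), ([nat_lit 6, nat_lit 4], nat_lit 38, []), ([nat_lit 6], nat_lit 42, [nat_lit 2]), ([], nat_lit 55, [nat_lit 4, nat_lit 2]), ([nat_lit 5], nat_lit 31, []), ([], nat_lit 39, [nat_lit 4]), ([nat_lit 2], nat_lit 43, [])], [(nat_lit 0, nat_lit 0x200000000000000f9800082000000003d800000000000000000000000000000000000000000)]),
 ([nat_lit 0, nat_lit 1, nat_lit 6], [([], nat_lit 14, [nat_lit 6]), ([nat_lit 5, nat_lit 2, nat_lit 1], nat_lit 44, []), ([nat_lit 5, nat_lit 2], nat_lit 46, [nat_lit 0]), ([nat_lit 5], nat_lit 48, [nat_lit 1, nat_lit 0]), ([], nat_lit 54, [nat_lit 2, nat_lit 1, nat_lit 0]), ([nat_lit 6], nat_lit 15, []), ([], nat_lit 45, [nat_lit 1]), ([nat_lit 0], nat_lit 47, [])], [(nat_lit 0, nat_lit 0x2000001edde7004000000000000000000000000000000000000000820000000000000000000), (nat_lit 4, nat_lit 0x20000006cc08323c00000000000000000000000000000000000000de60000000000000000000), (nat_lit 5, nat_lit 0x4000000040000cf40000000000000000000000000000000000000039a0000000000000000000),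 (nat_lit 9, nat_lit 0x400000003663b4ecc00000000000000000000000000000000000000cea0000000000000000000)]),
 ([nat_lit 0, nat_lit 2, nat_lit 5], [([], nat_lit 16, [nat_lit 5]), ([nat_lit 6, nat_lit 2], nat_lit 34, []), ([nat_lit 6], nat_lit 48, [nat_lit 5, nat_lit 0]), ([nat_lit 6, nat_lit 6], nat_lit 38, [nat_lit 0]), ([nat_lit 6], nat_lit 55, [nat_lit 2, nat_lit 0]), ([nat_lit 6, nat_lit 5], nat_lit 17, []), ([], nat_lit 35, [nat_lit 2]), ([nat_lit 0], nat_lit 39, [])], [(nat_lit 9, nat_lit 0x8ea0000047500000000000000003a5800000000000000000000069f0000000000000000000000)]),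
 ([nat_lit 0, nat_lit 3, nat_lit 6], [([], nat_lit 20, [nat_lit 6]), ([nat_lit 5, nat_lit 4, nat_lit 3], nat_lit 44, []), ([nat_lit 5, nat_lit 4], nat_lit 50, [nat_lit 0]), ([nat_lit 5], nat_lit 52, [nat_lit 3, nat_lit 0]), ([], nat_lit 54, [nat_lit 4, nat_lit 3, nat_lit 0]), ([nat_lit 6], nat_lit 21, []), ([], nat_lit 45, [nat_lit 3]), ([nat_lit 0], nat_lit 51, [])], [(nat_lit 0, nat_lit 0x27b4fe800000084000000000000000000000000000000104000000000000000000000000000), (nat_lit 4, nat_lit 0x21b30d9000001bcc000000000000000000000000000001bcc000000000000000000000000000), (nat_lit 5, nat_lit 0x4010346000000084000000000000000000000000000000734000000000000000000000000000), (nat_lit 9, nat_lit 0x400d98000000000000000000000000000000000000000019d4000000000000000000000000000)]),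
 ([nat_lit 0, nat_lit 4, nat_lit 5], [([], nat_lit 26, [nat_lit 5]), ([nat_lit 6, nat_lit 4], nat_lit 34, []), ([nat_lit 6], nat_lit 52, [nat_lit 5, nat_lit 0]), ([nat_lit 6, nat_lit 6], nat_lit 42, [nat_lit 0]), ([nat_lit 6], nat_lit 55, [nat_lit 4, nat_lit 0]), ([nat_lit 6, nat_lit 5], nat_lit 27, []), ([], nat_lit 35, [nat_lit 4]), ([nat_lit 0], nat_lit 43, [])], [(nat_lit 0, nat_lit 0x8010000000000000088000000002080000000010800000000000000000000000000000000000)]),
 ([nat_lit 8, nat_lit 6, nat_lit 5, nat_lit 6, nat_lit 5], [([nat_lit 8, nat_lit 6], nat_lit 54, [nat_lit 5]), ([nat_lit 8, nat_lit 6, nat_lit 6], nat_lit 10, []), ([nat_lit 8], nat_lit 12, []), ([], nat_lit 9, [nat_lit 8]), ([nat_lit 4, nat_lit 4], nat_lit 7, [nat_lit 8]), ([nat_lit 4], nat_lit 33, [nat_lit 3, nat_lit 8]), ([nat_lit 4, nat_lit 3], nat_lit 67, []), ([], nat_lit 67, [nat_lit 6, nat_lit 5])], [(nat_lit 0, nat_lit 0x208000000000000008000000000000000000000000000000100000000000000000000000000040080100200000000), (nat_lit 2, nat_lit 0x4200000000000000d9800000000000000000000000000010000000000000000000000000006ccd980400800000000),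 (nat_lit 3, nat_lit 0x84000000000000000200000000000000000000000000000800000000000000000000000001b8f7180801000000000), (nat_lit 4, nat_lit 0xd1800000000000008ea0000000000000000000000000006e300000000000000000000000008010001002000000000), (nat_lit 9, nat_lit 0xb3000000000000007b40000000000000000000000000003660000000000000000000000000c758ea0040000000000)]),
 ([nat_lit 8, nat_lit 6, nat_lit 4, nat_lit 6, nat_lit 4], [([nat_lit 8, nat_lit 6], nat_lit 52, [nat_lit 4]), ([nat_lit 8, nat_lit 6, nat_lit 6], nat_lit 8, []), ([nat_lit 8], nat_lit 12, []), ([], nat_lit 13, [nat_lit 8]), ([nat_lit 6, nat_lit 6], nat_lit 11, [nat_lit 8]), ([nat_lit 6], nat_lit 55, [nat_lit 5, nat_lit 8]), ([nat_lit 6, nat_lit 5], nat_lit 71, []), ([], nat_lit 71, [nat_lit 6, nat_lit 4])], [(nat_lit 0, nat_lit 0x42000000000000000000008010000000000000000000000000000000000000000000000000000000000080100000000000), (nat_lit 2, nat_lit 0x9b3000000000000000000000000000000000000000000000000000006dc021b300000000000), (nat_lit 9, nat_lit 0xd3e00000000000000000008eaf6800000000000000000000000000000000000000000000000000004750031d00000000000)]),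
 ([nat_lit 0, nat_lit 1, nat_lit 1], [([], nat_lit 14, [nat_lit 1]), ([nat_lit 5, nat_lit 2, nat_lit 1], nat_lit 14, []), ([nat_lit 5, nat_lit 2], nat_lit 36, [nat_lit 2, nat_lit 1, nat_lit 0]), ([nat_lit 5, nat_lit 2, nat_lit 5], nat_lit 18, [nat_lit 1, nat_lit 0]), ([nat_lit 5, nat_lit 2, nat_lit 5, nat_lit 2], nat_lit 2, [nat_lit 0]), ([nat_lit 5], nat_lit 38, [nat_lit 2, nat_lit 0]), ([nat_lit 5, nat_lit 5], nat_lit 4, [nat_lit 0]), ([], nat_lit 10, [nat_lit 0]), ([nat_lit 0], nat_lit 3, [])], [(nat_lit 0, nat_lit 0x3dbb8c0000000000000000000000d98008020000080000000408800), (nat_lit 2, nat_lit 0x80100000000000000000000000020000000000200000001082000), (nat_lit 4, nat_lit 0xd9810000000000000000000000001000091e0000800000004008800), (nat_lit 5, nat_lit 0x81b3000000000000000000000000800067a0001000000008376000)])]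
theorem ap1 : allL aP1 (paChk 451 aCB aHP aT aRU) = true := by decide +kernel
noncomputable def aP2 : List Pa := [([nat_lit 0, nat_lit 2, nat_lit 4], [([], nat_lit 16, [nat_lit 4]), ([nat_lit 6, nat_lit 2], nat_lit 26, []), ([nat_lit 6], nat_lit 48, [nat_lit 4, nat_lit 0]), ([nat_lit 6, nat_lit 6], nat_lit 30, [nat_lit 0]), ([nat_lit 6, nat_lit 6], nat_lit 53, [nat_lit 2, nat_lit 0]), ([nat_lit 6, nat_lit 6, nat_lit 4], nat_lit 17, []), ([nat_lit 6], nat_lit 27, [nat_lit 2]), ([], nat_lit 45, [nat_lit 4, nat_lit 2]), ([nat_lit 0], nat_lit 31, [])], [(nat_lit 9, nat_lit 0x8000047500080000000000000000000000009f000000000001660000000000000000000000)]),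
 ([nat_lit 0, nat_lit 3, nat_lit 3], [([], nat_lit 20, [nat_lit 3]), ([nat_lit 5, nat_lit 4, nat_lit 3], nat_lit 20, []), ([nat_lit 5, nat_lit 4], nat_lit 40, [nat_lit 4, nat_lit 3, nat_lit 0]), ([nat_lit 5, nat_lit 4, nat_lit 5], nat_lit 32, [nat_lit 3, nat_lit 0]), ([nat_lit 5, nat_lit 4, nat_lit 5, nat_lit 4], nat_lit 6, [nat_lit 0]), ([nat_lit 5], nat_lit 42, [nat_lit 4, nat_lit 0]), ([nat_lit 5, nat_lit 5], nat_lit 8, [nat_lit 0]), ([], nat_lit 10, [nat_lit 0]), ([nat_lit 0], nat_lit 7, [])], [(nat_lit 0, nat_lit 0xf69ed0000000000100000000000000084000000000000080102200000000), (nat_lit 2, nat_lit 0x21000000000010000000000000000210000000000000200420800000000), (nat_lit 4, nat_lit 0x3661b3000000006e300000000000001bcc000000000000801002200000000), (nat_lit 9, nat_lit 0x1b32000000000036600000000000000000000000000010020000000000000)]),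
 ([nat_lit 1, nat_lit 2, nat_lit 4], [([], nat_lit 18, [nat_lit 4]), ([nat_lit 2], nat_lit 28, []), ([], nat_lit 38, [nat_lit 4, nat_lit 1]), ([nat_lit 5], nat_lit 30, [nat_lit 1]), ([], nat_lit 54, [nat_lit 4, nat_lit 2, nat_lit 1]), ([nat_lit 6, nat_lit 5, nat_lit 4], nat_lit 19, []), ([nat_lit 6], nat_lit 29, [nat_lit 2]), ([], nat_lit 47, [nat_lit 4, nat_lit 2]), ([nat_lit 1], nat_lit 31, [])], [(nat_lit 0, nat_lit 0x20000000000200000000002000000005167cc00000000000108000000000000000000000000)]),
 ([nat_lit 1, nat_lit 3, nat_lit 4], [([], nat_lit 22, [nat_lit 4]), ([nat_lit 6, nat_lit 3], nat_lit 28, []), ([nat_lit 6], nat_lit 40, [nat_lit 4, nat_lit 1]), ([nat_lit 6, nat_lit 5], nat_lit 32, [nat_lit 1]), ([], nat_lit 55, [nat_lit 4, nat_lit 3, nat_lit 1]), ([nat_lit 5], nat_lit 53, [nat_lit 3, nat_lit 1]), ([nat_lit 5, nat_lit 4], nat_lit 23, []), ([], nat_lit 29, [nat_lit 3]), ([nat_lit 1], nat_lit 33, [])], [(nat_lit 0, nat_lit 0x27b4000000000000004000000000346000000000003d8000000000000000000000000000000), (nat_lit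 4, nat_lit 0x21b3000000000000006e3000000004f800068c00000346000000000000000000000000000000)]),
 ([nat_lit 2, nat_lit 2, nat_lit 3], [([], nat_lit 4, [nat_lit 3]), ([], nat_lit 13, [nat_lit 3]), ([nat_lit 6, nat_lit 6], nat_lit 11, [nat_lit 3]), ([nat_lit 6], nat_lit 55, [nat_lit 5, nat_lit 3]), ([nat_lit 6, nat_lit 5, nat_lit 6, nat_lit 5, nat_lit 3], nat_lit 5, []), ([nat_lit 6, nat_lit 5], nat_lit 25, [nat_lit 2]), ([nat_lit 6], nat_lit 39, [nat_lit 3, nat_lit 2]), ([], nat_lit 49, [nat_lit 5, nat_lit 3, nat_lit 2]), ([nat_lit 2], nat_lit 25, [])], [(nat_lit 0, nat_lit 0x8000000001000000000000800000000000000000193000000000000000040080000010400000), (nat_lit 9, nat_lit 0x8ea00000200000000000008ea000000000000000009f000000000000008010000000000000000)]),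
 ([nat_lit 2, nat_lit 3, nat_lit 3], [([], nat_lit 24, [nat_lit 3]), ([nat_lit 6, nat_lit 5, nat_lit 3], nat_lit 24, []), ([nat_lit 6, nat_lit 5], nat_lit 50, [nat_lit 5, nat_lit 3, nat_lit 2]), ([nat_lit 6, nat_lit 5, nat_lit 6], nat_lit 40, [nat_lit 3, nat_lit 2]), ([nat_lit 6, nat_lit 5, nat_lit 6, nat_lit 5], nat_lit 6, [nat_lit 2]), ([nat_lit 6], nat_lit 54, [nat_lit 5, nat_lit 2]), ([nat_lit 6, nat_lit 6], nat_lit 10, [nat_lit 2]), ([], nat_lit 12, [nat_lit 2]), ([nat_lit 2], nat_lit 7, [])], [(nat_lit 0, nat_lit 0x8000010000000000001ed00000000000000000001ec000000000000000040080036400000000)]),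
 ([nat_lit 8, nat_lit 6, nat_lit 5, nat_lit 3, nat_lit 6, nat_lit 5], [([nat_lit 8, nat_lit 6, nat_lit 5], nat_lit 50, [nat_lit 5]), ([nat_lit 8, nat_lit 6, nat_lit 5, nat_lit 6], nat_lit 40, []), ([], nat_lit 66, [nat_lit 6, nat_lit 5, nat_lit 3]), ([nat_lit 4, nat_lit 3], nat_lit 64, []), ([nat_lit 4], nat_lit 40, [nat_lit 4, nat_lit 8]), ([nat_lit 4, nat_lit 5], nat_lit 32, [nat_lit 8]), ([], nat_lit 42, [nat_lit 4, nat_lit 3, nat_lit 8]), ([nat_lit 5, nat_lit 4], nat_lit 67, []), ([], nat_lit 65, [nat_lit 6, nat_lit 5])], [(nat_lit 0, nat_lit 0xf60410000000000000000010000000000009ec000000001ed00000000000000000000000000000000000000000000), (nat_lit 2, nat_lit 0x820840000000000000000008000000000027e30000000010000000000000000000000000000000000000000000000), (nat_lit 4, nat_lit 0xd19a3000000000000000024f80000000008585000000001b300000000000000000000000000000000000000000000), (nat_lit 9, nat_lit 0x16600000000000000002000000000010062d0000000020000000000000000000000000000000000000000000000)]),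
 ([nat_lit 0, nat_lit 1, nat_lit 5], [([], nat_lit 14, [nat_lit 5]), ([nat_lit 5, nat_lit 2, nat_lit 1], nat_lit 34, []), ([nat_lit 5, nat_lit 2], nat_lit 46, [nat_lit 5, nat_lit 0]), ([nat_lit 5, nat_lit 2, nat_lit 6], nat_lit 36, [nat_lit 0]), ([nat_lit 5], nat_lit 48, [nat_lit 5, nat_lit 1, nat_lit 0]), ([nat_lit 5, nat_lit 6], nat_lit 38, [nat_lit 1, nat_lit 0]), ([], nat_lit 54, [nat_lit 5, nat_lit 2, nat_lit 1, nat_lit 0]), ([nat_lit 6, nat_lit 5], nat_lit 15, []), ([], nat_lit 35, [nat_lit 1]), ([nat_lit 0], nat_lit 37, [])], [(nat_lit 0, nat_lit 0x2000001eddc6000000000400020080000000000000000000000000420000000000000000000), (nat_lit 4, nat_lit 0x20000006cc080000000003660024780000000000000000000000003460000000000000000000)]),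
 ([nat_lit 0, nat_lit 3, nat_lit 5], [([], nat_lit 20, [nat_lit 5]), ([nat_lit 5, nat_lit 4, nat_lit 3], nat_lit 34, []), ([nat_lit 5, nat_lit 4], nat_lit 50, [nat_lit 5, nat_lit 0]), ([nat_lit 5, nat_lit 4, nat_lit 6], nat_lit 40, [nat_lit 0]), ([nat_lit 5], nat_lit 52, [nat_lit 5, nat_lit 3, nat_lit 0]), ([nat_lit 5, nat_lit 6], nat_lit 42, [nat_lit 3, nat_lit 0]), ([], nat_lit 54, [nat_lit 5, nat_lit 4, nat_lit 3, nat_lit 0]), ([nat_lit 6, nat_lit 5], nat_lit 21, []), ([], nat_lit 35, [nat_lit 3]), ([nat_lit 0], nat_lit 41, [])], [(nat_lit 2, nat_lit 0x801080000000000020000000004200000000000000000000000000000000000000000000000), (nat_lit 4, nat_lit 0x21b30d9800000000d9ecd000003798000000000000000068c000000000000000000000000000)]),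
 ([nat_lit 1, nat_lit 2, nat_lit 3], [([], nat_lit 18, [nat_lit 3]), ([nat_lit 2], nat_lit 22, []), ([], nat_lit 48, [nat_lit 3, nat_lit 1]), ([nat_lit 6], nat_lit 24, [nat_lit 1]), ([nat_lit 6], nat_lit 55, [nat_lit 3, nat_lit 2, nat_lit 1]), ([nat_lit 6, nat_lit 5, nat_lit 6, nat_lit 3], nat_lit 19, []), ([nat_lit 6, nat_lit 5], nat_lit 23, [nat_lit 2]), ([nat_lit 6], nat_lit 37, [nat_lit 3, nat_lit 2]), ([], nat_lit 47, [nat_lit 5, nat_lit 3, nat_lit 2]), ([nat_lit 1], nat_lit 25, [])], [(nat_lit 0, nat_lit 0x8000000001002000000000001000000000000000326326000108000000000000000000000000)]),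
 ([nat_lit 0, nat_lit 0, nat_lit 1], [([], nat_lit 0, [nat_lit 1]), ([], nat_lit 13, [nat_lit 1]), ([nat_lit 6, nat_lit 6], nat_lit 11, [nat_lit 1]), ([nat_lit 6], nat_lit 55, [nat_lit 5, nat_lit 1]), ([nat_lit 6, nat_lit 5, nat_lit 6, nat_lit 5], nat_lit 5, [nat_lit 1]), ([nat_lit 6, nat_lit 5, nat_lit 6], nat_lit 39, [nat_lit 2, nat_lit 1]), ([nat_lit 6, nat_lit 5, nat_lit 6, nat_lit 2, nat_lit 5, nat_lit 2, nat_lit 1], nat_lit 1, []), ([nat_lit 6, nat_lit 5, nat_lit 6, nat_lit 2], nat_lit 15, [nat_lit 0]), ([nat_lit 6, nat_lit 5], nat_lit 17, [nat_lit 1, nat_lit 0]), ([], nat_lit 35, [nat_lit 2, nat_lit 1, nat_lit 0]), ([nat_lit 0], nat_lit 15, [])], [(nat_lit 0, nat_lit 0x8000000000000000000003da000008000000000000000000000020de60040080000000400367), (nat_lit 9, nat_lit 0x8ea00000000000000000006cc00100000000000000000000000049f3b480100000000800003ed)]),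
 ([nat_lit 0, nat_lit 0, nat_lit 3], [([], nat_lit 0, [nat_lit 3]), ([], nat_lit 13, [nat_lit 3]), ([nat_lit 6, nat_lit 6], nat_lit 11, [nat_lit 3]), ([nat_lit 6], nat_lit 55, [nat_lit 5, nat_lit 3]), ([nat_lit 6, nat_lit 5, nat_lit 6, nat_lit 5], nat_lit 9, [nat_lit 3]), ([nat_lit 6, nat_lit 5, nat_lit 6], nat_lit 43, [nat_lit 4, nat_lit 3]), ([nat_lit 6, nat_lit 5, nat_lit 6, nat_lit 4, nat_lit 5, nat_lit 4, nat_lit 3], nat_lit 1, []), ([nat_lit 6, nat_lit 5, nat_lit 6, nat_lit 4], nat_lit 21, [nat_lit 0]), ([nat_lit 6, nat_lit 5], nat_lit 27, [nat_lit 3, nat_lit 0]), ([], nat_lit 35, [nat_lit 4, nat_lit 3, nat_lit 0]), ([nat_lit 0], nat_lit 21, [])], [(nat_lit 0, nat_lit 0x8000000000000000f680000000000800000000100000007f4000000000040080100000000041), (nat_lit 9, nat_lit 0x8ea00000000000001b3000000001000000000024f800000000000000008010020000000000000)]),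
 ([nat_lit 8, nat_lit 6, nat_lit 5, nat_lit 6, nat_lit 4], [([nat_lit 8, nat_lit 6], nat_lit 54, [nat_lit 4]), ([nat_lit 8, nat_lit 6, nat_lit 6], nat_lit 43, []), ([nat_lit 8, nat_lit 6], nat_lit 53, [nat_lit 5]), ([], nat_lit 70, [nat_lit 6, nat_lit 5]), ([nat_lit 6, nat_lit 5], nat_lit 66, []), ([nat_lit 6], nat_lit 43, [nat_lit 3, nat_lit 8]), ([], nat_lit 53, [nat_lit 5, nat_lit 3, nat_lit 8]), ([nat_lit 4, nat_lit 6], nat_lit 41, [nat_lit 8]), ([nat_lit 4], nat_lit 51, [nat_lit 5, nat_lit 8]), ([nat_lit 4, nat_lit 3], nat_lit 71, []), ([], nat_lit 67, [nat_lit 6, nat_lit 4])], [(nat_lit 9, nat_lit 0x2cc0034f800000000000007b4769b3000000003b449f0000000000000000000000000000000000000000000000000000000)]),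
 ([nat_lit 8, nat_lit 6, nat_lit 5, nat_lit 3, nat_lit 6, nat_lit 4], [([nat_lit 8, nat_lit 6, nat_lit 5], nat_lit 50, [nat_lit 4]), ([nat_lit 8, nat_lit 6, nat_lit 5, nat_lit 6], nat_lit 32, []), ([nat_lit 8, nat_lit 6], nat_lit 54, [nat_lit 4, nat_lit 3]), ([nat_lit 8, nat_lit 6, nat_lit 6], nat_lit 43, [nat_lit 3]), ([nat_lit 8, nat_lit 6], nat_lit 53, [nat_lit 5, nat_lit 3]), ([], nat_lit 70, [nat_lit 6, nat_lit 5, nat_lit 3]), ([nat_lit 6, nat_lit 5], nat_lit 64, []), ([], nat_lit 55, [nat_lit 5, nat_lit 4, nat_lit 8]), ([nat_lit 5, nat_lit 6], nat_lit 43, [nat_lit 8]), ([nat_lit 5], nat_lit 53, [nat_lit 5, nat_lit 8]), ([nat_lit 5, nat_lit 4], nat_lit 71, []), ([], nat_lit 65, [nat_lit 6, nat_lit 4])], [(nat_lit 2, nat_lit 0x2080000000000000000000d91b2008000000000db800000000006e300000000000000000000000000000000000000000000)]),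
 ([nat_lit 8, nat_lit 6, nat_lit 3, nat_lit 6, nat_lit 4], [([nat_lit 8, nat_lit 6], nat_lit 50, [nat_lit 4]), ([nat_lit 8, nat_lit 6, nat_lit 6], nat_lit 32, []), ([nat_lit 8, nat_lit 6], nat_lit 53, [nat_lit 3]), ([], nat_lit 70, [nat_lit 6, nat_lit 3]), ([nat_lit 6, nat_lit 5], nat_lit 68, []), ([nat_lit 6], nat_lit 54, [nat_lit 4, nat_lit 3, nat_lit 8]), ([nat_lit 6, nat_lit 6], nat_lit 43, [nat_lit 3, nat_lit 8]), ([nat_lit 6], nat_lit 53, [nat_lit 5, nat_lit 3, nat_lit 8]), ([nat_lit 6, nat_lit 4, nat_lit 6], nat_lit 41, [nat_lit 8]), ([nat_lit 6, nat_lit 4], nat_lit 51, [nat_lit 5, nat_lit 8]), ([nat_lit 6, nat_lit 4, nat_lit 3], nat_lit 71, []), ([], nat_lit 69, [nat_lit 6, nat_lit 4])], [(nat_lit 4, nat_lit 0xdb868c0000000000000000dc6a5a32800000000086e30000000020000000000000000000000000000000000000000000000)]),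
 ([nat_lit 8, nat_lit 6, nat_lit 5, nat_lit 6, nat_lit 3], [([nat_lit 8, nat_lit 6], nat_lit 54, [nat_lit 3]), ([nat_lit 8, nat_lit 6, nat_lit 6], nat_lit 41, []), ([nat_lit 8, nat_lit 6], nat_lit 51, [nat_lit 5]), ([], nat_lit 68, [nat_lit 6, nat_lit 5]), ([nat_lit 6, nat_lit 4, nat_lit 3], nat_lit 66, []), ([nat_lit 6, nat_lit 4], nat_lit 32, [nat_lit 3, nat_lit 8]), ([nat_lit 6, nat_lit 4, nat_lit 4], nat_lit 6, [nat_lit 8]), ([], nat_lit 53, [nat_lit 4, nat_lit 8]), ([nat_lit 4, nat_lit 6, nat_lit 4], nat_lit 7, [nat_lit 8]), ([nat_lit 4, nat_lit 6], nat_lit 33, [nat_lit 3, nat_lit 8]), ([nat_lit 4], nat_lit 51, [nat_lit 4, nat_lit 3, nat_lit 8]), ([nat_lit 4, nat_lit 3], nat_lit 69, []), ([], nat_lit 67, [nat_lit 6, nat_lit 3])], [(nat_lit 4, nat_lit 0x68f6e000000000000008ea0414b000000000002000000000000000000000000000000000000000000000000000000000)])]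
theorem ap2 : allL aP2 (paChk 451 aCB aHP aT aRU) = true := by decide +kernel
noncomputable def aP3 : List Pa := [([nat_lit 9, nat_lit 0, nat_lit 0], [([nat_lit 9], nat_lit 0, []), ([], nat_lit 13, [nat_lit 9]), ([nat_lit 6, nat_lit 6], nat_lit 11, [nat_lit 9]), ([nat_lit 6], nat_lit 55, [nat_lit 5, nat_lit 9]), ([nat_lit 6, nat_lit 5, nat_lit 6, nat_lit 5], nat_lit 9, [nat_lit 9]), ([nat_lit 6, nat_lit 5, nat_lit 6], nat_lit 43, [nat_lit 4, nat_lit 9]), ([nat_lit 6, nat_lit 5], nat_lit 53, [nat_lit 5, nat_lit 4, nat_lit 9]), ([nat_lit 6, nat_lit 5, nat_lit 4, nat_lit 6], nat_lit 13, [nat_lit 5, nat_lit 4, nat_lit 9]), ([nat_lit 6, nat_lit 5, nat_lit 4, nat_lit 6, nat_lit 6], nat_lit 55, [nat_lit 4, nat_lit 9]), ([nat_lit 6, nat_lit 5, nat_lit 4, nat_lit 6, nat_lit 6, nat_lit 5, nat_lit 6, nat_lit 4], nat_lit 1, [nat_lit 9]), ([nat_lit 6, nat_lit 5, nat_lit 4, nat_lit 6, nat_lit 6, nat_lit 5], nat_lit 27, [nat_lit 0, nat_lit 9]), ([nat_lit 6, nat_lit 5, nat_lit 4, nat_lit 6], nat_lit 35, [nat_lit 4, nat_lit 0, nat_lit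 9]), ([nat_lit 6, nat_lit 5, nat_lit 4], nat_lit 45, [nat_lit 5, nat_lit 4, nat_lit 0, nat_lit 9]), ([nat_lit 6, nat_lit 5, nat_lit 4, nat_lit 0], nat_lit 73, []), ([], nat_lit 73, [nat_lit 0])], [(nat_lit 2, nat_lit 0x208010000000004000200000000080000000000800000000000000000041002004000000003de)]),
 ([nat_lit 0, nat_lit 1, nat_lit 4], [([], nat_lit 14, [nat_lit 4]), ([nat_lit 5, nat_lit 2, nat_lit 1], nat_lit 26, []), ([nat_lit 5, nat_lit 2], nat_lit 46, [nat_lit 4, nat_lit 0]), ([nat_lit 5, nat_lit 2, nat_lit 6], nat_lit 28, [nat_lit 0]), ([nat_lit 5], nat_lit 48, [nat_lit 5, nat_lit 4, nat_lit 1, nat_lit 0]), ([nat_lit 5, nat_lit 6], nat_lit 38, [nat_lit 4, nat_lit 1, nat_lit 0]), ([nat_lit 5, nat_lit 6, nat_lit 5], nat_lit 30, [nat_lit 1, nat_lit 0]), ([nat_lit 5, nat_lit 6], nat_lit 54, [nat_lit 4, nat_lit 2, nat_lit 1, nat_lit 0]), ([nat_lit 5], nat_lit 12, [nat_lit 5, nat_lit 4, nat_lit 2, nat_lit 1, nat_lit 0]), ([], nat_lit 10, [nat_lit 4, nat_lit 2, nat_lit 1, nat_lit 0]), ([], nat_lit 13, [nat_lit 4, nat_lit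 2, nat_lit 1, nat_lit 0]), ([nat_lit 6, nat_lit 6], nat_lit 11, [nat_lit 4, nat_lit 2, nat_lit 1, nat_lit 0]), ([nat_lit 6], nat_lit 55, [nat_lit 5, nat_lit 4, nat_lit 2, nat_lit 1, nat_lit 0]), ([nat_lit 6, nat_lit 5, nat_lit 6], nat_lit 43, [nat_lit 2, nat_lit 1, nat_lit 0]), ([nat_lit 6, nat_lit 5, nat_lit 6, nat_lit 4], nat_lit 15, []), ([nat_lit 6, nat_lit 5], nat_lit 27, [nat_lit 1]), ([], nat_lit 35, [nat_lit 4, nat_lit 1]), ([nat_lit 0], nat_lit 29, [])], [(nat_lit 0, nat_lit 0xc0000001eddc6000f68000400000080008000210000000000000003d87b00000000000000000)]),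
 ([nat_lit 0, nat_lit 2, nat_lit 3], [([], nat_lit 16, [nat_lit 3]), ([nat_lit 6, nat_lit 2], nat_lit 20, []), ([nat_lit 6], nat_lit 38, [nat_lit 4, nat_lit 3, nat_lit 0]), ([nat_lit 6, nat_lit 5], nat_lit 30, [nat_lit 3, nat_lit 0]), ([nat_lit 6, nat_lit 5, nat_lit 6, nat_lit 4], nat_lit 24, [nat_lit 0]), ([nat_lit 6, nat_lit 5, nat_lit 6], nat_lit 52, [nat_lit 5, nat_lit 3, nat_lit 2, nat_lit 0]), ([nat_lit 6, nat_lit 5, nat_lit 6, nat_lit 6], nat_lit 42, [nat_lit 3, nat_lit 2, nat_lit 0]), ([nat_lit 6, nat_lit 5], nat_lit 12, [nat_lit 5, nat_lit 4, nat_lit 3, nat_lit 2, nat_lit 0]), ([nat_lit 6], nat_lit 10, [nat_lit 4, nat_lit 3, nat_lit 2, nat_lit 0]), ([nat_lit 6], nat_lit 13, [nat_lit 4, nat_lit 3, nat_lit 2, nat_lit 0]), ([nat_lit 6, nat_lit 6, nat_lit 6], nat_lit 11, [nat_lit 4, nat_lit 3, nat_lit 2, nat_lit 0]), ([nat_lit 6, nat_lit 6], nat_lit 55, [nat_lit 5, nat_lit 4, nat_lit 3, nat_lit 2, nat_lit 0]), ([nat_lit 6, nat_lit 6, nat_lit 5], nat_lit 55, [nat_lit 4, nat_lit 3, nat_lit 2, nat_lit 0]), ([nat_lit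 6, nat_lit 6, nat_lit 5, nat_lit 5], nat_lit 53, [nat_lit 3, nat_lit 2, nat_lit 0]), ([nat_lit 6, nat_lit 6, nat_lit 5, nat_lit 5, nat_lit 4], nat_lit 51, [nat_lit 2, nat_lit 0]), ([nat_lit 6, nat_lit 6, nat_lit 5, nat_lit 5, nat_lit 4, nat_lit 3], nat_lit 17, []), ([nat_lit 6, nat_lit 6, nat_lit 5], nat_lit 21, [nat_lit 2]), ([nat_lit 6], nat_lit 35, [nat_lit 3, nat_lit 2]), ([], nat_lit 45, [nat_lit 5, nat_lit 3, nat_lit 2]), ([nat_lit 0], nat_lit 25, [])], [(nat_lit 9, nat_lit 0x2cc599b30000008024f8008ea0023a80093e000000000018b4001660003a80000000000000000)]),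
 ([nat_lit 0, nat_lit 1, nat_lit 3], [([], nat_lit 14, [nat_lit 3]), ([nat_lit 5, nat_lit 2, nat_lit 1], nat_lit 20, []), ([nat_lit 5, nat_lit 2], nat_lit 36, [nat_lit 4, nat_lit 3, nat_lit 0]), ([nat_lit 5, nat_lit 2, nat_lit 5], nat_lit 28, [nat_lit 3, nat_lit 0]), ([nat_lit 5, nat_lit 2, nat_lit 5, nat_lit 5, nat_lit 4], nat_lit 22, [nat_lit 0]), ([nat_lit 5, nat_lit 2, nat_lit 5, nat_lit 5], nat_lit 52, [nat_lit 3, nat_lit 1, nat_lit 0]), ([nat_lit 5, nat_lit 2, nat_lit 5], nat_lit 54, [nat_lit 4, nat_lit 3, nat_lit 1, nat_lit 0]), ([nat_lit 5, nat_lit 2], nat_lit 54, [nat_lit 5, nat_lit 4, nat_lit 3, nat_lit 1, nat_lit 0]), ([nat_lit 5, nat_lit 2, nat_lit 6], nat_lit 10, [nat_lit 4, nat_lit 3, nat_lit 1, nat_lit 0]), ([nat_lit 5], nat_lit 48, [nat_lit 4, nat_lit 3, nat_lit 1, nat_lit 0]), ([nat_lit 5, nat_lit 6], nat_lit 30, [nat_lit 3, nat_lit 1, nat_lit 0]), ([nat_lit 5, nat_lit 6, nat_lit 6, nat_lit 4], nat_lit 24, [nat_lit 1, nat_lit 0]), ([nat_lit 5, nat_lit 6, nat_lit 6], nat_lit 52, [nat_lit 5, nat_lit 3,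 nat_lit 2, nat_lit 1, nat_lit 0]), ([nat_lit 5, nat_lit 6, nat_lit 6, nat_lit 6], nat_lit 42, [nat_lit 3, nat_lit 2, nat_lit 1, nat_lit 0]), ([nat_lit 5, nat_lit 6], nat_lit 12, [nat_lit 5, nat_lit 4, nat_lit 3, nat_lit 2, nat_lit 1, nat_lit 0]), ([], nat_lit 54, [nat_lit 5, nat_lit 4, nat_lit 3, nat_lit 2, nat_lit 1, nat_lit 0]), ([nat_lit 6, nat_lit 5], nat_lit 43, [nat_lit 3, nat_lit 2, nat_lit 1, nat_lit 0]), ([nat_lit 6, nat_lit 5, nat_lit 4], nat_lit 41, [nat_lit 2, nat_lit 1, nat_lit 0]), ([nat_lit 6, nat_lit 5, nat_lit 4, nat_lit 3], nat_lit 15, []), ([nat_lit 6], nat_lit 21, [nat_lit 1]), ([], nat_lit 45, [nat_lit 3, nat_lit 1]), ([nat_lit 0], nat_lit 23, [])], [(nat_lit 0, nat_lit 0xea3c38001ed00000400020001b8c000000406cc001ed001100000003d80800800000000000000)])]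
theorem ap3 : allL aP3 (paChk 451 aCB aHP aT aRU) = true := by decide +kernel
noncomputable def aΦ : Tr ℕ := (.node (nat_lit 38) (.node (nat_lit 19) (.node (nat_lit 9) (.node (nat_lit 4) (.node (nat_lit 2) (.node (nat_lit 1) (.leaf (nat_lit 0x80000080041cc3080800000800003000000000000000000000000000800000000000000000000)) (.leaf (nat_lit 0xc0000000040883800001008001021000088110000000000000000000000000000000000000000))) (.node (nat_lit 3) (.leaf (nat_lit 0xc040000000cc3080801000809033000088110000000000002004408800000000000000000000)) (.leaf (nat_lit 0x404c2880000008808021000000000000000000002004408800000000000000000000))))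
 (.node (nat_lit 6) (.node (nat_lit 5) (.leaf (nat_lit 0x44200080001882100800008008039000000000000000000002000408000000000000000000000)) (.leaf (nat_lit 0xcc000000040441100001008801001000088110000000000000000000800000000000000000000))) (.node (nat_lit 7) (.leaf (nat_lit 0x4240000000cc3000800000800008000000000000000000000000000800000000000000000000)) (.node (nat_lit 8) (.leaf (nat_lit 0x48240080001441980800008808019000000000000000000002004408800000000000000000000)) (.leaf (nat_lit 0xc8240000000c40180801000809008000088110000000000002004408800000000000000000000))))))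
 (.node (nat_lit 14) (.node (nat_lit 11) (.node (nat_lit 10) (.leaf (nat_lit 0x800000000000000000000000000000000000004000000000000000000000000)) (.leaf (nat_lit 0x0))) (.node (nat_lit 12) (.leaf (nat_lit 0x4400000020188110000100c011008000000000000000000001200008800000000000000200000)) (.node (nat_lit 13) (.leaf (nat_lit 0x44000080041440000801000011000000000000000000000000000000000000000000000000000)) (.leaf (nat_lit 0x84040000240480000000004818008000000000000000000001200000000000000000000000000)))))
 (.node (nat_lit 16) (.node (nat_lit 15) (.leaf (nat_lit 0x48040080240c00000801004811000000000000000000000001200000000000000000000000000)) (.leaf (nat_lit 0x84240080041cc218000000000000b000000000000000000000000000000000000000000200000))) (.node (nat_lit 17) (.leaf (nat_lit 0x4c240080241083100001004011008000088110000000000001200008800000000000000200000)) (.node (nat_lit 18) (.leaf (nat_lit 0xc020000024088308080100c01100b000000000000000000001200008800000000000000200000)) (.leaf (nat_lit 0xc8200080240880000001004809000000000000000000000001200000000000000000000000000)))))))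
 (.node (nat_lit 28) (.node (nat_lit 23) (.node (nat_lit 21) (.node (nat_lit 20) (.leaf (nat_lit 0xc000080201042000800004800008000000000000000000001200000000000000000000000000)) (.leaf (nat_lit 0x44240080001c4108000100080900b000088110000000000000000008800000000000000000000))) (.node (nat_lit 22) (.leaf (nat_lit 0x0)) (.leaf (nat_lit 0x8200000040000000800000000008000000000000000000000000000000000000000000000000))))
 (.node (nat_lit 25) (.node (nat_lit 24) (.leaf (nat_lit 0x4240000220082000800008800008000000000000000000000000000000000000000000000000)) (.leaf (nat_lit 0x8200000440000000800000000008000000000000000000003000000000000000000000000000))) (.node (nat_lit 26) (.leaf (nat_lit 0xc000000000000000000004800000000000000000000000003000000000000000000000000000)) (.node (nat_lit 27) (.leaf (nat_lit 0x4c000080621cc3080801000809003000088110000000000002000008800000000000000000000)) (.leaf (nat_lit 0xc000000000000000000000800000000000000000000000000000000000000000000000000000))))))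
 (.node (nat_lit 33) (.node (nat_lit 30) (.node (nat_lit 29) (.leaf (nat_lit 0x0)) (.leaf (nat_lit 0x4200000240000000800008800008000000000000000000003000000000000000000000000000))) (.node (nat_lit 31) (.leaf (nat_lit 0x4000066008200000000c000000000000000000000000003000000000000000000000000000)) (.node (nat_lit 32) (.leaf (nat_lit 0x40000080021cc3080801000009003000088110000000000001000008800000000000000000000)) (.leaf (nat_lit 0x0)))))
 (.node (nat_lit 35) (.node (nat_lit 34) (.leaf (nat_lit 0x402401a0000000180807000810003000000000000040800000000000000000000000000000000)) (.leaf (nat_lit 0x8c000190040882000804408001000000088110000000000000000000000000000000000000000))) (.node (nat_lit 36) (.leaf (nat_lit 0x8200380041000180802400800003000000000000440000000000000000000000000000000000)) (.node (nat_lit 37) (.leaf (nat_lit 0x240120041082180800000800003000000000000440000000000000000000000000000000000)) (.leaf (nat_lit 0x44040190040800000801008011000000088110000000800000000000000000000000000000000))))))))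
 (.node (nat_lit 57) (.node (nat_lit 47) (.node (nat_lit 42) (.node (nat_lit 40) (.node (nat_lit 39) (.leaf (nat_lit 0xcc040100000082000007400810000000000000000040800000000000000000000000000000000)) (.leaf (nat_lit 0xc4040100000082000007000810000000000000000040800000000000000000000000000000000))) (.node (nat_lit 41) (.leaf (nat_lit 0x8c040080001800180006008801003000088110000440000000000000000000000000000000000)) (.leaf (nat_lit 0x8c200210001882180004408801003000088110000440000000000000000000000000000000000))))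
 (.node (nat_lit 44) (.node (nat_lit 43) (.leaf (nat_lit 0x40002b0001800000804008001000000088110000400000000000000000000000000000000000)) (.leaf (nat_lit 0x0))) (.node (nat_lit 45) (.leaf (nat_lit 0xc0388000040801183a00000000020000008100000000001000000000000000000000000000000)) (.node (nat_lit 46) (.leaf (nat_lit 0x8088080001882182200008001003000088110000000000000000000000000000000000000000)) (.leaf (nat_lit 0x4418008000100018380000800000b000088000000000000000000000000000000000000000000))))))
 (.node (nat_lit 52) (.node (nat_lit 49) (.node (nat_lit 48) (.leaf (nat_lit 0x290080041882182a0000000100b000000110000000000000000000000000000000000000000)) (.leaf (nat_lit 0x1c8000000883180800000000028000000100000000001000000000000000000000000000000))) (.node (nat_lit 50) (.leaf (nat_lit 0xc0398000040801183800000000020000008100000000001000000000000000000000000000000)) (.node (nat_lit 51) (.leaf (nat_lit 0xc0398000040801183a00000000020000008100000000001000000000000000000000000000000)) (.leaf (nat_lit 0xc824000000088218120000000100b000000110000000000000000000000000000000000000000)))))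
 (.node (nat_lit 54) (.node (nat_lit 53) (.leaf (nat_lit 0x8c14800004000018000000800000b000088000000000000000000000000000000000000000000)) (.leaf (nat_lit 0x8c300000040801182800000001020000008110000000001000000000000000000000000000000))) (.node (nat_lit 55) (.leaf (nat_lit 0x8040000040801002000008001023000088110000000001000000000000000000000000000000)) (.node (nat_lit 56) (.leaf (nat_lit 0x8000000000000000000000000000000000000000000000000000000000000000000000000000)) (.leaf (nat_lit 0x84040080041000000801000000000000000000000000000000000000000000000000000000000)))))))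
 (.node (nat_lit 67) (.node (nat_lit 62) (.node (nat_lit 59) (.node (nat_lit 58) (.leaf (nat_lit 0x800000000000000000000000000000000000000000000000000000000000)) (.leaf (nat_lit 0xc000000000000000801000000000000000000000000000000000000000000000000000000000))) (.node (nat_lit 60) (.leaf (nat_lit 0xc000000040800180001008001003000088110000000000000000000000000000000000000000)) (.node (nat_lit 61) (.leaf (nat_lit 0x44000080001882180801008001003000088110000000000000000000000000000000000000000)) (.leaf (nat_lit 0x0)))))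
 (.node (nat_lit 64) (.node (nat_lit 63) (.leaf (nat_lit 0x1000000000000000000000000000000000000000000000000000000000)) (.leaf (nat_lit 0x0))) (.node (nat_lit 65) (.leaf (nat_lit 0x0)) (.node (nat_lit 66) (.leaf (nat_lit 0x0)) (.leaf (nat_lit 0x84200080000082180800000000003000000000000000000000000000000000000000000000000))))))
 (.node (nat_lit 72) (.node (nat_lit 69) (.node (nat_lit 68) (.leaf (nat_lit 0x40080041082000000000000000000000000000000000000000000000000000000000000000)) (.leaf (nat_lit 0x40000000000000800000000008000000000000000000000000000000000000000000000000))) (.node (nat_lit 70) (.leaf (nat_lit 0x8240080000000000800000000008000000000000000000000000000000000000000000000000)) (.node (nat_lit 71) (.leaf (nat_lit 0x8240000000082000800000000008000000000000000000000000000000000000000000000000)) (.leaf (nat_lit 0x0)))))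
 (.node (nat_lit 74) (.node (nat_lit 73) (.leaf (nat_lit 0x0)) (.leaf (nat_lit 0x80000000000800000000008000000000000000000000000000000000000000000000000))) (.node (nat_lit 75) (.leaf (nat_lit 0x800000000008000000000000000000000000000000000000000000000000)) (.node (nat_lit 76) (.leaf (nat_lit 0x0)) (.leaf (nat_lit 0x0)))))))))
noncomputable def aLT_0 : Tr ℕ := (.node (nat_lit 19) (.node (nat_lit 9) (.node (nat_lit 4) (.node (nat_lit 2) (.node (nat_lit 1) (.leaf (nat_lit 0x20200002201098042200ec00c6324e4edc6c369e42000029d16e28b336ca0ba2)) (.leaf (nat_lit 0x1c401f24601080000000000400002f2010004))) (.node (nat_lit 3) (.leaf (nat_lit 0x1c001c1ee0100000000000040000d3c00000e)) (.leaf (nat_lit 0x3ba8000000000000000000000000000c))))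
 (.node (nat_lit 6) (.node (nat_lit 5) (.leaf (nat_lit 0x20200002201098042200ec00c6324e4edc6c369e42000029d16e28b336ca0ba3)) (.leaf (nat_lit 0x20240002201098042200ec00c6348e4c5c283696c0000039d12e28bf0c6a0ba2))) (.node (nat_lit 7) (.leaf (nat_lit 0x20200002201098042200ec00c6324a4ed46c369642000029d16e28bcf8cb0bab)) (.node (nat_lit 8) (.leaf (nat_lit 0x3ba80000000000000000000100000005)) (.leaf (nat_lit 0x1c001c1ee0100000000000040000d3c00000a))))))
 (.node (nat_lit 14) (.node (nat_lit 11) (.node (nat_lit 10) (.leaf (nat_lit 0x20000002001080040000ec0042334e7b269bb79e40000031a080f0044cea055a)) (.leaf (nat_lit 0x20040002001080040000ec0042344a786f31b69ec2000021a080f00b844b055c))) (.node (nat_lit 12) (.leaf (nat_lit 0x1e00f0a01c800001fa0277628990024800003effe218c769810034d406543320)) (.node (nat_lit 13) (.leaf (nat_lit 0x10000000000000000005f100020000000000000406000000)) (.leaf (nat_lit 0x60000000040080000000300000000000001805040a6000a0)))))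
 (.node (nat_lit 16) (.node (nat_lit 15) (.leaf (nat_lit 0x40000000000000000003c0000a0000000000000406000000)) (.leaf (nat_lit 0x20000000040080000003f000020000000158d5000a600040))) (.node (nat_lit 17) (.leaf (nat_lit 0x400000000000072020002843684488846b00088000079812843d7f98103e9)) (.node (nat_lit 18) (.leaf (nat_lit 0x1e00f0a01c800001ba027762899002480003feffe018c7698040e4d006543380)) (.leaf (nat_lit 0x5000000000000000000631000800000000000000000000c0)))))))
 (.node (nat_lit 28) (.node (nat_lit 23) (.node (nat_lit 21) (.node (nat_lit 20) (.leaf (nat_lit 0x30000000040080000006010008000000001805040a6000c0)) (.leaf (nat_lit 0x400000000000072020002843684488846b00080000079806893d7ff810339))) (.node (nat_lit 22) (.leaf (nat_lit 0x0)) (.leaf (nat_lit 0x1e04f0e07c800c05cbf0ed65919704034800b16aa838c74ff6e8324508913939))))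
 (.node (nat_lit 25) (.node (nat_lit 24) (.leaf (nat_lit 0x4000000020020001800080080003f0000a00000c061b0ff00c900660)) (.leaf (nat_lit 0x200000000000800000000000000000000000000000900))) (.node (nat_lit 26) (.leaf (nat_lit 0x400000006000000180208048000030000000003d475baff00f900a90)) (.node (nat_lit 27) (.leaf (nat_lit 0x1e04f0e03c800c05abf2ed6411b784434800816aa838c773a1b39db507013da9)) (.leaf (nat_lit 0x1e04f0e03c800c05abf2ed6411b784434800816aa838c773a1b39db507013fa9))))))
 (.node (nat_lit 33) (.node (nat_lit 30) (.node (nat_lit 29) (.leaf (nat_lit 0x1e04f0e07c800c05cbf2ed659197040b4800b16aa838c74ef6e8324508913a39)) (.leaf (nat_lit 0x400000006002000180208040000030000000003d475baff00f900f90))) (.node (nat_lit 31) (.leaf (nat_lit 0x40000000002000480003c0000a0000314140a00003000af0)) (.node (nat_lit 32) (.leaf (nat_lit 0x1e04f0e03c800c05ebf0ed64119784034803416aa238c743e0f43dd504013559)) (.leaf (nat_lit 0x1e04f0e03c800c05ebf0ed64119784034803416aa238c743e0f43dd504013d59)))))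
 (.node (nat_lit 35) (.node (nat_lit 34) (.leaf (nat_lit 0x401100362000004006640042784034802830042bcd5800118a5056d6f1059)) (.leaf (nat_lit 0x100800000000000000c000))) (.node (nat_lit 36) (.leaf (nat_lit 0x1e04f0a01c800000800000100426060088428ef9691ec7000118a503fd672059)) (.node (nat_lit 37) (.leaf (nat_lit 0x1e04f0a01c800000800000100426060088428ef9691ec7000118a503fd670059)) (.leaf (nat_lit 0x1e00f9f01fe2040dc7f0fd3491b10003c044336cfc83e2fb504540069dcc35f0))))))))
noncomputable def aLT_1 : Tr ℕ := (.node (nat_lit 57) (.node (nat_lit 47) (.node (nat_lit 42) (.node (nat_lit 40) (.node (nat_lit 39) (.leaf (nat_lit 0x40110036200000400665004278403480383005aabdd800118a5056b6fa059)) (.leaf (nat_lit 0x401100362000004006640042784034802830042bcd5800118a5056d6f0059))) (.node (nat_lit 41) (.leaf (nat_lit 0x1e04f0a01c800000800000000426060088438ef97119cf000118a503fb67f059)) (.leaf (nat_lit 0x1e04f0a01c800000800000000426060088438ef97119cf000118a503fb674059))))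
 (.node (nat_lit 44) (.node (nat_lit 43) (.leaf (nat_lit 0x11003620000440066480400800000024200c2bcdd800018050668ce10a0)) (.leaf (nat_lit 0x9500362040d07f0fd3c95b0020000077c950d9a25fb505d4506630ab550))) (.node (nat_lit 45) (.leaf (nat_lit 0x800000040000000040092000003cd7848000000001805040df700a0)) (.node (nat_lit 46) (.leaf (nat_lit 0x4000000000000000000a0000)) (.leaf (nat_lit 0x400000000000400009a00461606008841cfef0020001001d85503ff950009))))))
 (.node (nat_lit 52) (.node (nat_lit 49) (.node (nat_lit 48) (.leaf (nat_lit 0x400000000000400009a00461604008841cfa74800001001d85507f39c0009)) (.leaf (nat_lit 0x4000008000000000000000427860348030050c00000100118a5030f520059))) (.node (nat_lit 50) (.leaf (nat_lit 0x800000040000000040092000003cd7808200000001805040df400a0)) (.node (nat_lit 51) (.leaf (nat_lit 0x800000040000000040092000003cd7848200000001805040df700a0)) (.leaf (nat_lit 0x400000000000400009a00461604008841cfa74800001001d85507f39e0009)))))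
 (.node (nat_lit 54) (.node (nat_lit 53) (.leaf (nat_lit 0x400000000000400009a00461606008841cfef0020001001d85503ff940009)) (.leaf (nat_lit 0x400800040443f03a049c111003c047f3e9c02000795025ea04f1cb0530))) (.node (nat_lit 55) (.leaf (nat_lit 0x400800040003f0a004da2000000006f1660020007950fd1f0400fd05c0)) (.node (nat_lit 56) (.leaf (nat_lit 0x1e04f0e01c8004058bf0ed6495b704034802716aa238c769501d450303013559)) (.leaf (nat_lit 0x100000000000000000000c00000)))))))
 (.node (nat_lit 67) (.node (nat_lit 62) (.node (nat_lit 59) (.node (nat_lit 58) (.leaf (nat_lit 0x40000000040000000003c000080000000018050406f000a0)) (.leaf (nat_lit 0x40000000040000000003c0000a0000000018050406f000a0))) (.node (nat_lit 60) (.leaf (nat_lit 0x1e00f0e01c8004058bf0ed6495b18003c047716a2038c779505d4500f3a03550)) (.node (nat_lit 61) (.leaf (nat_lit 0x1e04f0e01c8004058bf0ed6495b704034802316aa238c769501d450303113559)) (.leaf (nat_lit 0x1e04f0e01c8004058bf0ed6495b704034802316aa238c769501d450303513559)))))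
 (.node (nat_lit 64) (.node (nat_lit 63) (.leaf (nat_lit 0x40000000040000000003c1000a0000000018050406a000a0)) (.leaf (nat_lit 0x40000000040000000003c100080000000018050406f000a0))) (.node (nat_lit 65) (.leaf (nat_lit 0x400000040403f01a0498118203c0443e95c8200079503def00fc340590)) (.node (nat_lit 66) (.leaf (nat_lit 0x400400000040443f01a049c1706034802bf95422000695065ea070a450539)) (.leaf (nat_lit 0x400000000000040000000002704034800c100800000000100a00305a100f9))))))
 (.node (nat_lit 72) (.node (nat_lit 69) (.node (nat_lit 68) (.leaf (nat_lit 0x8000000000000040c000000)) (.leaf (nat_lit 0x40000000002000000003c0000a0000000140a004000000f0))) (.node (nat_lit 70) (.leaf (nat_lit 0x40000000002000000003c000020000000140a004000000f0)) (.node (nat_lit 71) (.leaf (nat_lit 0x400000000000040000000002704034801c100800000100100a00708a100f9)) (.leaf (nat_lit 0x400000000000040000000002704034801c100800000000100a00301a100f9)))))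
 (.node (nat_lit 74) (.node (nat_lit 73) (.leaf (nat_lit 0x400000000000040000000002704034800c100800000000100a00304a100f9)) (.leaf (nat_lit 0x40000000002000000003c000020000000140a000060000f0))) (.node (nat_lit 75) (.leaf (nat_lit 0x40000000002000000003c0000a0000000140a000030000f0)) (.node (nat_lit 76) (.leaf (nat_lit 0x400000000000040000000002704034801c100880000000140a0030fa100f9)) (.leaf (nat_lit 0x400000000000000000000000704034802010082000010000000030fa10009))))))))
noncomputable def aLT_2 : Tr ℕ := (.node (nat_lit 96) (.node (nat_lit 86) (.node (nat_lit 81) (.node (nat_lit 79) (.node (nat_lit 78) (.leaf (nat_lit 0x80040000000002000000002c00002000020a180a0060d0000f0)) (.leaf (nat_lit 0x1e04f0a13c803001e8027764818682088043fef76018c74b70deb603d6f4395d))) (.node (nat_lit 80) (.leaf (nat_lit 0x7000180004800220200000c1380490007c1088800007406c52c6420500760)) (.leaf (nat_lit 0x1e00f0a0fc8050018802776509b0864808478ff7e018c7164e98509995e53859))))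
 (.node (nat_lit 83) (.node (nat_lit 82) (.leaf (nat_lit 0x670000a000c000000080048430048c325d810080000004b6a43505d1c10553)) (.leaf (nat_lit 0x5000000000800200000000407c4034801b100800000140dd865010bd106f9))) (.node (nat_lit 84) (.leaf (nat_lit 0x0)) (.node (nat_lit 85) (.leaf (nat_lit 0x1e03f0a0bc802801ca0077648d85860188003ef7e818c77fd61b0a6a65a53e34)) (.leaf (nat_lit 0x40001c00018006000000188268400880170008000003d3e86769a43110104))))))
 (.node (nat_lit 91) (.node (nat_lit 88) (.node (nat_lit 87) (.leaf (nat_lit 0x6500012000c800420080048c14448e725831008a0000053c394c64d041073e)) (.leaf (nat_lit 0x0))) (.node (nat_lit 89) (.leaf (nat_lit 0x4002000000200454088ac0080a0000000140a008c00100fb)) (.node (nat_lit 90) (.leaf (nat_lit 0x40000400080006002000180240044400931088800006c571baff40590049e)) (.leaf (nat_lit 0x400000006000000180208090007130000800006c571baff3f390049d)))))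
 (.node (nat_lit 93) (.node (nat_lit 92) (.leaf (nat_lit 0x400000000800000000000000480f84079010880000031a0000003fb000503)) (.leaf (nat_lit 0x400000000021c001c04dc100020000000140a007fc0000f3))) (.node (nat_lit 94) (.leaf (nat_lit 0x4000040000000200200018006403e80b7f0088800001df65b0ffbca30016c)) (.node (nat_lit 95) (.leaf (nat_lit 0x0)) (.leaf (nat_lit 0x400000000800000000000000484804828010080000000000000000001000a)))))))
 (.node (nat_lit 105) (.node (nat_lit 100) (.node (nat_lit 98) (.node (nat_lit 97) (.leaf (nat_lit 0x4000000020000001800084900852f0080200006c565b0ff7f3910469)) (.leaf (nat_lit 0x400000000000000000000000704fb48aa010082000061a000000bc2a10506))) (.node (nat_lit 99) (.leaf (nat_lit 0x0)) (.leaf (nat_lit 0x600200020410804800003000080000512158350006600350))))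
 (.node (nat_lit 102) (.node (nat_lit 101) (.leaf (nat_lit 0x4000000010020007841000480005f1000a00000cc6c05aa405f00ac0)) (.leaf (nat_lit 0x20000006043080080003f000020000318198f5f40a6003a0))) (.node (nat_lit 103) (.leaf (nat_lit 0x10020006001000480005f1000a000000c0c550a405000650)) (.node (nat_lit 104) (.leaf (nat_lit 0x40000000000001200000680160408884680008000001920b05663ffe10359)) (.leaf (nat_lit 0x40000000000005202000680360448884540008a00002861f5f603fce106a9))))))
 (.node (nat_lit 110) (.node (nat_lit 107) (.node (nat_lit 106) (.leaf (nat_lit 0x0)) (.leaf (nat_lit 0x400000005000000184000000000631000800000c06050ac000f00c60))) (.node (nat_lit 108) (.leaf (nat_lit 0x4000000020000007803080080003f0000200003d879dff940a900f30)) (.node (nat_lit 109) (.leaf (nat_lit 0x0)) (.leaf (nat_lit 0x0)))))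
 (.node (nat_lit 112) (.node (nat_lit 111) (.leaf (nat_lit 0x100050000000124880ac076005e0640008003055cde3578160c58ba0c60b37690)) (.leaf (nat_lit 0x40188000a0001c000b1380d8604008842445dc98aa98001600a05942c1039))) (.node (nat_lit 113) (.leaf (nat_lit 0xdf8df16a1c8224000887904b52372c498c458377938ee695726640023fae1c54)) (.node (nat_lit 114) (.leaf (nat_lit 0xdf81f8461c8d2409048777735f91ea48844146fe43082b077246ea0056741c90)) (.leaf (nat_lit 0x15f84f8461c8580854d30ed64cb946a7a4498f090f534535cfd455f020340f63f))))))))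
noncomputable def aLT_3 : Tr ℕ := (.node (nat_lit 134) (.node (nat_lit 124) (.node (nat_lit 119) (.node (nat_lit 117) (.node (nat_lit 116) (.leaf (nat_lit 0x1000508a400012480c6c020005e27c003404680c29f2594040d181a0c95415660)) (.leaf (nat_lit 0x100050000000024880ac076105e06400080030144c63778060c58ba0a6bb37690))) (.node (nat_lit 118) (.leaf (nat_lit 0xdf89f0e21c822401888721735f91aa490401063a40254f057246ea05ca871c9d)) (.leaf (nat_lit 0xdf85f9ce1c8824088487c65b52376c480c04c7ab88a8829772664007a55d8c59))))
 (.node (nat_lit 121) (.node (nat_lit 120) (.leaf (nat_lit 0x800c0188000f800583775d3fc7848430889bf735e9bd21dd823b050eaeaabc0b)) (.leaf (nat_lit 0x0))) (.node (nat_lit 122) (.leaf (nat_lit 0x1404400000062d83f01a379dc7860348057f956029201beefbb10704d59c99)) (.node (nat_lit 123) (.leaf (nat_lit 0x1e04f0a01c800000400001d0050e060088404ef95718c71000180503f76730a9)) (.leaf (nat_lit 0x1e04f0a01c800001f80077d0084e060088424fff5818c70000f0b203f2b53099))))))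
 (.node (nat_lit 129) (.node (nat_lit 126) (.node (nat_lit 125) (.leaf (nat_lit 0x1e04f0a01c800001b80077e0086e060088408fff6a13c70001b01207f4b5a069)) (.leaf (nat_lit 0x1e00f0a01c800001b800776008e90203c0428effe018c70000b0c204f5143060))) (.node (nat_lit 127) (.leaf (nat_lit 0x1404400000062d03f01b2f9ccf860348057f95543e201beebbb10709d5ac99)) (.node (nat_lit 128) (.leaf (nat_lit 0x1404400000062d83f01b9f9ccf860348047f95603e201beebbb10309d5ac99)) (.leaf (nat_lit 0x1b80076800ce0000000030106070b001001a8170400d29060)))))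
 (.node (nat_lit 131) (.node (nat_lit 130) (.leaf (nat_lit 0x1f80076000cc000000000c1060500001000e8b70406d20090)) (.leaf (nat_lit 0x1004400000062d43f01b2f9d6082000004be95dc3e201beefbc1040f74ac60))) (.node (nat_lit 132) (.leaf (nat_lit 0x0)) (.node (nat_lit 133) (.leaf (nat_lit 0x8000000000000000000001000010000030a000000003000000)) (.leaf (nat_lit 0x40000000002f84800760788360448884680068d020022b5dbff07f6630a69)))))))
 (.node (nat_lit 144) (.node (nat_lit 139) (.node (nat_lit 136) (.node (nat_lit 135) (.leaf (nat_lit 0x1e00f6a01c8001d1ca02f76009a082400001feffea18e7084a38af0409e43560)) (.leaf (nat_lit 0x1e00f6a01c8002998802f7678190824000070effe81ac739b5a350000f743900))) (.node (nat_lit 137) (.leaf (nat_lit 0x1e04f2e01c80051dc9f2ed64959604408843c06aba38c74db75de503f5b136a9)) (.node (nat_lit 138) (.leaf (nat_lit 0x40000000000200000001000068400884440009a17c8140c400003f6b1e609)) (.leaf (nat_lit 0x0)))))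
 (.node (nat_lit 141) (.node (nat_lit 140) (.leaf (nat_lit 0x1e04f6a01c800029820081678196064088447ff96f18e72b7fe35003f3873c09)) (.leaf (nat_lit 0x1e04f6a01c800349c800f76009a6064088428fff6a1ae71c8c78af07f5f53669))) (.node (nat_lit 142) (.leaf (nat_lit 0x4400000066c43f21a149c1002480000be95c035e850d065ea0406e4e630)) (.node (nat_lit 143) (.leaf (nat_lit 0x0)) (.leaf (nat_lit 0x410100020810a0000000200004233c790cde4ec982200021a158a5035ea70556))))))
 (.node (nat_lit 149) (.node (nat_lit 146) (.node (nat_lit 145) (.leaf (nat_lit 0x4000000100000000076000006f9009a444d51ca20001000000001f48b0009)) (.leaf (nat_lit 0x4000200108000000076000004887a5c994879c8200021a040000fc02f0506))) (.node (nat_lit 147) (.leaf (nat_lit 0x2000080000000000000026e7ad89d013002200021a040000bcda00506)) (.node (nat_lit 148) (.leaf (nat_lit 0x410500020810a000400020000404297a46df83e10a200021a0580502510205af)) (.leaf (nat_lit 0x410100020800a000400056000402fe7acc9bce80c8200031a0180507a78905a6)))))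
 (.node (nat_lit 151) (.node (nat_lit 150) (.leaf (nat_lit 0x410100020810a0000000200004232d790cde42e18a200031a158a50759a30556)) (.leaf (nat_lit 0x200008000400000000022647ad89fc90800000021a100a00bcba105f6))) (.node (nat_lit 152) (.leaf (nat_lit 0x40002001080004000760000248c7a5c9a8871c2200021a100a00bc02e05f6)) (.node (nat_lit 153) (.leaf (nat_lit 0x100000008000000400020000400b2000007c57808000000001805040df700a0)) (.leaf (nat_lit 0x100000208008000000020000422f87ac4d90c4000200031a158a5083556055f))))))))
noncomputable def aLT_4 : Tr ℕ := (.node (nat_lit 173) (.node (nat_lit 163) (.node (nat_lit 158) (.node (nat_lit 156) (.node (nat_lit 155) (.leaf (nat_lit 0x200000000000002000000041000200000014000040a050000)) (.leaf (nat_lit 0x1e04f0a01c800001c800896069a686008845cff9e018c7100018af07f9d73069))) (.node (nat_lit 157) (.leaf (nat_lit 0x4000000000006700004003c168600884489300820001000b08c03f5200099)) (.leaf (nat_lit 0x1e00f0a01c800001b800736013a0820000058fff6018c70000707604051430f0))))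
 (.node (nat_lit 160) (.node (nat_lit 159) (.leaf (nat_lit 0x1e00f0e01c800401fbf0c76489a18203c046fe802238c77951cdc900f0b835c0)) (.leaf (nat_lit 0x1e04f0a01c8000018800d9600da6840088460c35e218c7100020aa07f3c930c9))) (.node (nat_lit 161) (.leaf (nat_lit 0x0)) (.node (nat_lit 162) (.leaf (nat_lit 0x1e00f0a01c800001f8000d6017a0820000060ef9ea18c7000068730003c63050)) (.leaf (nat_lit 0x40000000000063000000038168600884749308020001000a88907f3d00039))))))
 (.node (nat_lit 168) (.node (nat_lit 165) (.node (nat_lit 164) (.leaf (nat_lit 0x400000040603f09a04fa118003c044fa85c0000079501def04f0610590)) (.leaf (nat_lit 0x0))) (.node (nat_lit 166) (.leaf (nat_lit 0x2000000000120000000c6040000010000000000b070000)) (.node (nat_lit 167) (.leaf (nat_lit 0x400000000040443259a0046368400884537a548000030e0d8f507f73400f9)) (.leaf (nat_lit 0xd800000000020000010830002000001040000408010000)))))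
 (.node (nat_lit 170) (.node (nat_lit 169) (.leaf (nat_lit 0x400000000040443f49a004636860088453f9548200030f098f503fb3500f9)) (.leaf (nat_lit 0x4000000000400022800000007940348043d2a88000020a04000030f020009))) (.node (nat_lit 171) (.leaf (nat_lit 0x40042c00000002080000004f87a40200030a140a00403a500f0)) (.node (nat_lit 172) (.leaf (nat_lit 0x0)) (.leaf (nat_lit 0x400000000040403749a00461684008847f7ad4a000030f1d85503fd340009)))))))
 (.node (nat_lit 182) (.node (nat_lit 177) (.node (nat_lit 175) (.node (nat_lit 174) (.leaf (nat_lit 0x40980000002002000002c8380a2000001100a000080100f0)) (.leaf (nat_lit 0x4000000000000007500000007160348030d68c20000005000000309a60009))) (.node (nat_lit 176) (.leaf (nat_lit 0x0)) (.leaf (nat_lit 0xa008000000c4005600040090000003cb28c600040000180500012900a0))))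
 (.node (nat_lit 179) (.node (nat_lit 178) (.leaf (nat_lit 0x4007600000000000000020082800f000000000000da7000)) (.leaf (nat_lit 0x18000000005c0002b284fb0820000078aea0beca18001e0fa0406456060))) (.node (nat_lit 180) (.leaf (nat_lit 0x18000000005c0002b384fb0820000068aea13eba88001e0fa0400450060)) (.node (nat_lit 181) (.leaf (nat_lit 0x81008020008000000000420000000054101989188020158a5026b777050)) (.leaf (nat_lit 0xa008000000c0002000040092000003c9600c000000001805040df700a0))))))
 (.node (nat_lit 187) (.node (nat_lit 184) (.node (nat_lit 183) (.leaf (nat_lit 0xa008000000c4005600040090000003cb28c600048000180500012900a0)) (.leaf (nat_lit 0x18000000005c0002b384fb0800000068aa25b8bac0001e0fa000c4c0060))) (.node (nat_lit 185) (.leaf (nat_lit 0x18000000005c0002b284fb0800000078aa2438ca18001e0fa000a4c6060)) (.node (nat_lit 186) (.leaf (nat_lit 0x200800000040002000040092000003cd7808e00b80001805040dfa70a0)) (.leaf (nat_lit 0x9100802000d44005d384b9082000003cdf30dfa200200b85f066be87030)))))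
 (.node (nat_lit 189) (.node (nat_lit 188) (.leaf (nat_lit 0x400000000021c003c045c100020000100140a000f50000f0)) (.leaf (nat_lit 0x400000000000040000000002144010804c000820000100140a0040d0100f4))) (.node (nat_lit 190) (.leaf (nat_lit 0x40000000002004010803c0080a0000000140a004000100f4)) (.node (nat_lit 191) (.leaf (nat_lit 0x4000000000000400000000022c0000003c008880000000140a00401a000f0)) (.leaf (nat_lit 0x400000000021c0018045c100020000000140a007fc0000fd))))))))
noncomputable def aLT_5 : Tr ℕ := (.node (nat_lit 211) (.node (nat_lit 201) (.node (nat_lit 196) (.node (nat_lit 194) (.node (nat_lit 193) (.leaf (nat_lit 0x0)) (.leaf (nat_lit 0x0))) (.node (nat_lit 195) (.leaf (nat_lit 0x4000000000000000000000000840108000100800000000000000000010004)) (.leaf (nat_lit 0x0))))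
 (.node (nat_lit 198) (.node (nat_lit 197) (.leaf (nat_lit 0x0)) (.leaf (nat_lit 0x0))) (.node (nat_lit 199) (.leaf (nat_lit 0x8000000000000000c100080000000140000006600000)) (.node (nat_lit 200) (.leaf (nat_lit 0x400000000000100000000000000000000c00000)) (.leaf (nat_lit 0x100000000c0000000005f100000000000018050406f000c0))))))
 (.node (nat_lit 206) (.node (nat_lit 203) (.node (nat_lit 202) (.leaf (nat_lit 0x5000000000000000000630000800000000280a0000f000f0)) (.leaf (nat_lit 0x1e04f0a01c800001d800f76001a6860088407eff6018c7100030a603ff4530a9))) (.node (nat_lit 204) (.leaf (nat_lit 0x1e04f0a01c8000018800f7600da6860088464eff6a18c7100000aa03ff4530c9)) (.node (nat_lit 205) (.leaf (nat_lit 0x0)) (.leaf (nat_lit 0x5000000004000000000631000800000000280600003000f0)))))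
 (.node (nat_lit 208) (.node (nat_lit 207) (.leaf (nat_lit 0x10000000080000000005f100000000000030090406c000c0)) (.leaf (nat_lit 0x0))) (.node (nat_lit 209) (.leaf (nat_lit 0x0)) (.node (nat_lit 210) (.leaf (nat_lit 0x42000000002080000005f00000000030a140a00409a000f0)) (.leaf (nat_lit 0x20007881000480000000008000006dedb5f0003a00f90)))))))
 (.node (nat_lit 221) (.node (nat_lit 216) (.node (nat_lit 213) (.node (nat_lit 212) (.leaf (nat_lit 0x40000000200200060c3080000003f000020000318198f5f40a600aa0)) (.leaf (nat_lit 0x400000006000000184008000000031000200000014030af40a5003c0))) (.node (nat_lit 214) (.leaf (nat_lit 0x4000040000000600000018026044888457000820000295f1baff3ff210599)) (.node (nat_lit 215) (.leaf (nat_lit 0x4000000000000000000000006840088454000820000140c400003f0b10609)) (.leaf (nat_lit 0x0)))))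
 (.node (nat_lit 218) (.node (nat_lit 217) (.leaf (nat_lit 0x4000000020020006081080480003f1000000000ccac050f00fa00cf0)) (.leaf (nat_lit 0x400000006000000180208048000031000200003b535baff00f000390))) (.node (nat_lit 219) (.leaf (nat_lit 0x0)) (.node (nat_lit 220) (.leaf (nat_lit 0x0)) (.leaf (nat_lit 0x100000000000010000181718000000000006003000))))))
 (.node (nat_lit 226) (.node (nat_lit 223) (.node (nat_lit 222) (.leaf (nat_lit 0x80076000000000000000106050090000000000000729000)) (.leaf (nat_lit 0x80076000000000000004106000000000000000000220000))) (.node (nat_lit 224) (.leaf (nat_lit 0x80076000000000000004106000020000000000000220000)) (.node (nat_lit 225) (.leaf (nat_lit 0xd000000000000000d000)) (.leaf (nat_lit 0x4000010090000000000000509000)))))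
 (.node (nat_lit 228) (.node (nat_lit 227) (.leaf (nat_lit 0x0)) (.leaf (nat_lit 0xb0000000000000009000))) (.node (nat_lit 229) (.leaf (nat_lit 0x0)) (.node (nat_lit 230) (.leaf (nat_lit 0x0)) (.leaf (nat_lit 0x0))))))))
noncomputable def aLT_6 : Tr ℕ := (.node (nat_lit 250) (.node (nat_lit 240) (.node (nat_lit 235) (.node (nat_lit 233) (.node (nat_lit 232) (.leaf (nat_lit 0x76000000020000000248ca000000000000040cde0000)) (.leaf (nat_lit 0x85000000000000000000080000))) (.node (nat_lit 234) (.leaf (nat_lit 0x800000000000000000000000)) (.leaf (nat_lit 0x76000000000000004106800000000000000000220000))))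
 (.node (nat_lit 237) (.node (nat_lit 236) (.leaf (nat_lit 0x4301820000000000000000f00000)) (.leaf (nat_lit 0x81800000000000000000000000))) (.node (nat_lit 238) (.leaf (nat_lit 0x0)) (.node (nat_lit 239) (.leaf (nat_lit 0x76000000000000004107800000000000000000220000)) (.leaf (nat_lit 0x0))))))
 (.node (nat_lit 245) (.node (nat_lit 242) (.node (nat_lit 241) (.leaf (nat_lit 0x0)) (.leaf (nat_lit 0x0))) (.node (nat_lit 243) (.leaf (nat_lit 0x1000000000010000000060d000000)) (.node (nat_lit 244) (.leaf (nat_lit 0x40000000002004000842c008020000100140a003fd0100f9)) (.leaf (nat_lit 0x40008000008000000000000000000010004)))))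
 (.node (nat_lit 247) (.node (nat_lit 246) (.leaf (nat_lit 0x40000000002000000043c000020000000140a004000000f0)) (.leaf (nat_lit 0x400080100080000001000000009d3010009))) (.node (nat_lit 248) (.leaf (nat_lit 0x0)) (.node (nat_lit 249) (.leaf (nat_lit 0x0)) (.leaf (nat_lit 0x40000000002000000043c000020000000140a00a4e0000f0)))))))
 (.node (nat_lit 259) (.node (nat_lit 254) (.node (nat_lit 252) (.node (nat_lit 251) (.leaf (nat_lit 0x40008000008000000000000000040010004)) (.leaf (nat_lit 0x0))) (.node (nat_lit 253) (.leaf (nat_lit 0x0)) (.leaf (nat_lit 0x0))))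
 (.node (nat_lit 256) (.node (nat_lit 255) (.leaf (nat_lit 0x1000000000000008000000000000040c000000)) (.leaf (nat_lit 0x600000000420800000003000080000000198550405600000))) (.node (nat_lit 257) (.leaf (nat_lit 0x600000000400800000003000080000000158a5040c600050)) (.node (nat_lit 258) (.leaf (nat_lit 0x6000000004208000000030000000000000d8c50403600000)) (.leaf (nat_lit 0x0))))))
 (.node (nat_lit 264) (.node (nat_lit 261) (.node (nat_lit 260) (.leaf (nat_lit 0x0)) (.leaf (nat_lit 0x20000000041080000003f0000a00000001586504066000f0))) (.node (nat_lit 262) (.leaf (nat_lit 0x20000000043080000003f0000200000000d89504096000a0)) (.node (nat_lit 263) (.leaf (nat_lit 0x0)) (.leaf (nat_lit 0x0)))))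
 (.node (nat_lit 266) (.node (nat_lit 265) (.leaf (nat_lit 0x0)) (.leaf (nat_lit 0x20000000000000000000008000000000000040c000000))) (.node (nat_lit 267) (.leaf (nat_lit 0x200000000004000000000000000600000000003000000)) (.node (nat_lit 268) (.leaf (nat_lit 0x40000000002000080003c000020000618140a000050003f0)) (.leaf (nat_lit 0x40020000002000400003c0000a0000300140a000030000f0))))))))
noncomputable def aLT_7 : Tr ℕ := (.node (nat_lit 288) (.node (nat_lit 278) (.node (nat_lit 273) (.node (nat_lit 271) (.node (nat_lit 270) (.leaf (nat_lit 0x0)) (.leaf (nat_lit 0x0))) (.node (nat_lit 272) (.leaf (nat_lit 0x40000000002000400003c000020000000140a000060000f0)) (.leaf (nat_lit 0x200000000000800000000000000312000000409000300))))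
 (.node (nat_lit 275) (.node (nat_lit 274) (.leaf (nat_lit 0x0)) (.leaf (nat_lit 0x0))) (.node (nat_lit 276) (.leaf (nat_lit 0x100000000000000001000)) (.node (nat_lit 277) (.leaf (nat_lit 0x10000000000000000008000000000000040c000000)) (.leaf (nat_lit 0x100000000000010000380b00000000000006009000))))))
 (.node (nat_lit 283) (.node (nat_lit 280) (.node (nat_lit 279) (.leaf (nat_lit 0x100000000000010000380900000000000006009000)) (.leaf (nat_lit 0x100000000000010000180a00000000000006008000))) (.node (nat_lit 281) (.leaf (nat_lit 0x0)) (.node (nat_lit 282) (.leaf (nat_lit 0x0)) (.leaf (nat_lit 0xb00000000000000009000)))))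
 (.node (nat_lit 285) (.node (nat_lit 284) (.leaf (nat_lit 0x0)) (.leaf (nat_lit 0x0))) (.node (nat_lit 286) (.leaf (nat_lit 0x0)) (.node (nat_lit 287) (.leaf (nat_lit 0x400000000000000000000000000)) (.leaf (nat_lit 0x2000000000008200000000000040c050000)))))))
 (.node (nat_lit 298) (.node (nat_lit 293) (.node (nat_lit 290) (.node (nat_lit 289) (.leaf (nat_lit 0x8000000000000000000000000)) (.leaf (nat_lit 0x20000010838002000000000000406010000))) (.node (nat_lit 291) (.leaf (nat_lit 0x10c0808000000000000000a000000)) (.node (nat_lit 292) (.leaf (nat_lit 0x0)) (.leaf (nat_lit 0x0)))))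
 (.node (nat_lit 295) (.node (nat_lit 294) (.leaf (nat_lit 0x20000010828002000000000000406010000)) (.leaf (nat_lit 0x0))) (.node (nat_lit 296) (.leaf (nat_lit 0x0)) (.node (nat_lit 297) (.leaf (nat_lit 0x0)) (.leaf (nat_lit 0x0))))))
 (.node (nat_lit 303) (.node (nat_lit 300) (.node (nat_lit 299) (.leaf (nat_lit 0x5f0000a000000000000000ac00000)) (.leaf (nat_lit 0x40000000002080000003c1000a0000000140a004000000f0))) (.node (nat_lit 301) (.leaf (nat_lit 0x400000000020800000055000020000000140a000003000f0)) (.node (nat_lit 302) (.leaf (nat_lit 0x40000000002080000006c100020000000140a0040a0000f0)) (.leaf (nat_lit 0x0)))))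
 (.node (nat_lit 305) (.node (nat_lit 304) (.leaf (nat_lit 0x0)) (.leaf (nat_lit 0x400000000020800000003100080000000140a0000ac000f0))) (.node (nat_lit 306) (.leaf (nat_lit 0x40000000002080000006f000000000000140a0040aa000f0)) (.node (nat_lit 307) (.leaf (nat_lit 0x0)) (.leaf (nat_lit 0x0))))))))
noncomputable def aLT : Tr ℕ := (.node (nat_lit 154) (.node (nat_lit 77) (.node (nat_lit 38) aLT_0 aLT_1) (.node (nat_lit 115) aLT_2 aLT_3)) (.node (nat_lit 231) (.node (nat_lit 192) aLT_4 aLT_5) (.node (nat_lit 269) aLT_6 aLT_7)))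
theorem atg : allB 28 (tgChk 451 aCB aHP aT aΦ aRU (rows aP0 (rows aP1 (rows aP2 (rows aP3 [])))) aLT) = true := by decide +kernel
noncomputable def aPI : Tr (ℕ × List ℕ) := (.node (nat_lit 24) (.node (nat_lit 12) (.node (nat_lit 6) (.node (nat_lit 3) (.node (nat_lit 1) (.leaf (0, [])) (.node (nat_lit 2) (.leaf (0, [])) (.leaf (0, [])))) (.node (nat_lit 4) (.leaf (0, [])) (.node (nat_lit 5) (.leaf (0, [])) (.leaf (0, [])))))
 (.node (nat_lit 9) (.node (nat_lit 7) (.leaf (0, [])) (.node (nat_lit 8) (.leaf (7, [nat_lit 5, nat_lit 2])) (.leaf (1, [])))) (.node (nat_lit 10) (.leaf (0, [])) (.node (nat_lit 11) (.leaf (0, [])) (.leaf (0, []))))))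
 (.node (nat_lit 18) (.node (nat_lit 15) (.node (nat_lit 13) (.leaf (0, [])) (.node (nat_lit 14) (.leaf (0, [])) (.leaf (8, [nat_lit 6])))) (.node (nat_lit 16) (.leaf (9, [])) (.node (nat_lit 17) (.leaf (2, [])) (.leaf (0, [])))))
 (.node (nat_lit 21) (.node (nat_lit 19) (.leaf (0, [])) (.node (nat_lit 20) (.leaf (0, [])) (.leaf (0, [])))) (.node (nat_lit 22) (.leaf (10, [nat_lit 5, nat_lit 4])) (.node (nat_lit 23) (.leaf (11, [nat_lit 6])) (.leaf (12, [nat_lit 6, nat_lit 5])))))))
 (.node (nat_lit 36) (.node (nat_lit 30) (.node (nat_lit 27) (.node (nat_lit 25) (.leaf (3, [])) (.node (nat_lit 26) (.leaf (0, [])) (.leaf (0, [])))) (.node (nat_lit 28) (.leaf (0, [])) (.node (nat_lit 29) (.leaf (13, [nat_lit 6])) (.leaf (14, [nat_lit 5])))))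
 (.node (nat_lit 33) (.node (nat_lit 31) (.leaf (15, [nat_lit 6])) (.node (nat_lit 32) (.leaf (16, [])) (.leaf (4, [])))) (.node (nat_lit 34) (.leaf (0, [])) (.node (nat_lit 35) (.leaf (0, [])) (.leaf (17, [nat_lit 6]))))))
 (.node (nat_lit 42) (.node (nat_lit 39) (.node (nat_lit 37) (.leaf (18, [])) (.node (nat_lit 38) (.leaf (19, [])) (.leaf (20, [])))) (.node (nat_lit 40) (.leaf (21, [])) (.node (nat_lit 41) (.leaf (5, [])) (.leaf (0, [])))))
 (.node (nat_lit 45) (.node (nat_lit 43) (.leaf (22, [])) (.node (nat_lit 44) (.leaf (23, [])) (.leaf (24, []))))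
 (.node (nat_lit 47) (.node (nat_lit 46) (.leaf (25, [])) (.leaf (26, []))) (.node (nat_lit 48) (.leaf (27, [])) (.leaf (6, []))))))))
theorem apc : pcChk aRU aPI = true := by decide +kernel
noncomputable def ast0 : ℕ := (nat_lit 0xbc44d34ad02b28e52d243cde81d420)
noncomputable def ast1 : ℕ := (nat_lit 0xbd2b69958f82d517348339a4940820)
noncomputable def ast2 : ℕ := (nat_lit 0xb86a77464d64e0f31528a2d4418ac0)
noncomputable def asT : Tr ℕ := (.node (nat_lit 1) (.leaf ast0) (.node (nat_lit 2) (.leaf ast1) (.leaf ast2)))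
noncomputable def asL0 : Lev := ⟨(nat_lit 1), (nat_lit 3), (nat_lit 0x300020303010303010102020200000303020000000000), (nat_lit 0x100020503020404040303050400000306040000000000),
 (.leaf 0),
 (.leaf 0)⟩
noncomputable def asL1 : Lev := ⟨(nat_lit 3), (nat_lit 2), (nat_lit 0x2020000000100000000), (nat_lit 0x3010000000200000000),
 (.leaf 0),
 (.leaf 0)⟩
noncomputable def asL2 : Lev := ⟨(nat_lit 2), (nat_lit 1), (nat_lit 0x1000000000000000000000000000000000000000000), (nat_lit 0x1000000000000000000000000000000000000000000),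
 (.leaf 0),
 (.leaf 0)⟩
noncomputable def asL : List Lev := [asL0, asL1, asL2]
noncomputable def aD : Tr (List ℕ) := (.node (nat_lit 1) (.leaf [nat_lit 6, nat_lit 5, nat_lit 4, nat_lit 2, nat_lit 0]) (.node (nat_lit 2) (.leaf [nat_lit 6, nat_lit 4, nat_lit 3]) (.leaf [nat_lit 6, nat_lit 2, nat_lit 1])))
theorem asc : band (asT.all2 (fun c w => band (allL w fun y => Nat.ble (Nat.succ y) 7) (isProd 24 5 31 aT c w)) aD) (band (tchainChk 24 5 31 asT asL) (Nat.ble 128 (chainOrd 24 asL))) = true := by decide +kernel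
theorem alets : Lets Spor.M23 24 5 31 H7.pt aT := fun y =>
  have := (band_eq_true _ _).1 (Tr.all_get al y)
  let ⟨σ, h, r⟩ := exists_M24 this.1
  ⟨⟨σ, h, fix_of_rep r (by norm_num) this.2⟩, r⟩
theorem asplit {E : Type*} [Group E] [Finite E] {π : E →* Spor.M23} {R : V → E → Prop} (X : Ext π R aCB aHP) {e : ℕ → E}
    (hT : ∀ y, Rep 24 5 31 H7.pt (aT.get y) (π (e y))) {u : ℕ → Z2} (hu : Tails R aCB aRU e u 451) (hY : ∀ a ∈ ([] : List ℕ), lin u 451 a = 0) :
    ∃ H : Subgroup E, IsComplement' π.ker H :=
  X.split hT hu (X.rows hT hu ap0 (X.rows hT hu ap1 (X.rows hT hu ap2 (X.rows hT hu ap3 hY)))) atg apc asc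
def bCB : ℕ := (nat_lit 0x800800800800800800800800800800800)
def bHP : ℕ := (nat_lit 0x24f8017684017b42003da1001ed0802b90417130215c60116e300813e00549f002)
def bchi : ℕ := (nat_lit 0x12004000000100240000100000200802808)
def bc : ℕ := (nat_lit 0x12004000000100240000100000200802808)
noncomputable def bΦ0 : Tr ℕ := (.node (nat_lit 38) (.node (nat_lit 19) (.node (nat_lit 9) (.node (nat_lit 4) (.node (nat_lit 2) (.node (nat_lit 1) (.leaf (nat_lit 0x100000000000000000000000000000000000000000000000000000000000000000000000000000)) (.leaf (nat_lit 0x200000000000000000000000000000000000000000000000000000000000000000000000000000))) (.node (nat_lit 3) (.leaf (nat_lit 0x400000000000000000000000000000000000000000000000000000000000000000000000000000)) (.leaf (nat_lit 0x800000000000000000000000000000000000000000000000000000000000000000000000000000))))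
 (.node (nat_lit 6) (.node (nat_lit 5) (.leaf (nat_lit 0x1000000000000000000000000000000000000000000000000000000000000000000000000000000)) (.leaf (nat_lit 0x2000000000000000000000000000000000000000000000000000000000000000000000000000000))) (.node (nat_lit 7) (.leaf (nat_lit 0x4000000000000000000000000000000000000000000000000000000000000000000000000000000)) (.node (nat_lit 8) (.leaf (nat_lit 0x8000000000000000000000000000000000000000000000000000000000000000000000000000000)) (.leaf (nat_lit 0x10000000000000000000000000000000000000000000000000000000000000000000000000000000))))))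
 (.node (nat_lit 14) (.node (nat_lit 11) (.node (nat_lit 10) (.leaf (nat_lit 0x20000000000000000000000000000000000000000000000000000000000000000000000000000000)) (.leaf (nat_lit 0x40000000000000000000000000000000000000000000000000000000000000000000000000000000))) (.node (nat_lit 12) (.leaf (nat_lit 0x80000000000000000000000000000000000000000000000000000000000000000000000000000000)) (.node (nat_lit 13) (.leaf (nat_lit 0x100000000000000000000000000000000000000000000000000000000000000000000000000000000)) (.leaf (nat_lit 0x200000000000000000000000000000000000000000000000000000000000000000000000000000000)))))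
 (.node (nat_lit 16) (.node (nat_lit 15) (.leaf (nat_lit 0x400000000000000000000000000000000000000000000000000000000000000000000000000000000)) (.leaf (nat_lit 0x800000000000000000000000000000000000000000000000000000000000000000000000000000000))) (.node (nat_lit 17) (.leaf (nat_lit 0x1000000000000000000000000000000000000000000000000000000000000000000000000000000000)) (.node (nat_lit 18) (.leaf (nat_lit 0x2000000000000000000000000000000000000000000000000000000000000000000000000000000000)) (.leaf (nat_lit 0x4000000000000000000000000000000000000000000000000000000000000000000000000000000000)))))))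
 (.node (nat_lit 28) (.node (nat_lit 23) (.node (nat_lit 21) (.node (nat_lit 20) (.leaf (nat_lit 0x8000000000000000000000000000000000000000000000000000000000000000000000000000000000)) (.leaf (nat_lit 0x10000000000000000000000000000000000000000000000000000000000000000000000000000000000))) (.node (nat_lit 22) (.leaf (nat_lit 0x20000000000000000000000000000000000000000000000000000000000000000000000000000000000)) (.leaf (nat_lit 0x40000000000000000000000000000000000000000000000000000000000000000000000000000000000))))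
 (.node (nat_lit 25) (.node (nat_lit 24) (.leaf (nat_lit 0x80000000000000000000000000000000000000000000000000000000000000000000000000000000000)) (.leaf (nat_lit 0x100000000000000000000000000000000000000000000000000000000000000000000000000000000000))) (.node (nat_lit 26) (.leaf (nat_lit 0x200000000000000000000000000000000000000000000000000000000000000000000000000000000000)) (.node (nat_lit 27) (.leaf (nat_lit 0x400000000000000000000000000000000000000000000000000000000000000000000000000000000000)) (.leaf (nat_lit 0x800000000000000000000000000000000000000000000000000000000000000000000000000000000000))))))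
 (.node (nat_lit 33) (.node (nat_lit 30) (.node (nat_lit 29) (.leaf (nat_lit 0x1000000000000000000000000000000000000000000000000000000000000000000000000000000000000)) (.leaf (nat_lit 0x2000000000000000000000000000000000000000000000000000000000000000000000000000000000000))) (.node (nat_lit 31) (.leaf (nat_lit 0x4000000000000000000000000000000000000000000000000000000000000000000000000000000000000)) (.node (nat_lit 32) (.leaf (nat_lit 0x8000000000000000000000000000000000000000000000000000000000000000000000000000000000000)) (.leaf (nat_lit 0x10000000000000000000000000000000000000000000000000000000000000000000000000000000000000)))))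
 (.node (nat_lit 35) (.node (nat_lit 34) (.leaf (nat_lit 0x20000000000000000000000000000000000000000000000000000000000000000000000000000000000000)) (.leaf (nat_lit 0x40000000000000000000000000000000000000000000000000000000000000000000000000000000000000))) (.node (nat_lit 36) (.leaf (nat_lit 0x80000000000000000000000000000000000000000000000000000000000000000000000000000000000000)) (.node (nat_lit 37) (.leaf (nat_lit 0x100000000000000000000000000000000000000000000000000000000000000000000000000000000000000)) (.leaf (nat_lit 0x200000000000000000000000000000000000000000000000000000000000000000000000000000000000000))))))))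
 (.node (nat_lit 57) (.node (nat_lit 47) (.node (nat_lit 42) (.node (nat_lit 40) (.node (nat_lit 39) (.leaf (nat_lit 0x400000000000000000000000000000000000000000000000000000000000000000000000000000000000000)) (.leaf (nat_lit 0x800000000000000000000000000000000000000000000000000000000000000000000000000000000000000))) (.node (nat_lit 41) (.leaf (nat_lit 0x1000000000000000000000000000000000000000000000000000000000000000000000000000000000000000)) (.leaf (nat_lit 0x2000000000000000000000000000000000000000000000000000000000000000000000000000000000000000))))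
 (.node (nat_lit 44) (.node (nat_lit 43) (.leaf (nat_lit 0x4000000000000000000000000000000000000000000000000000000000000000000000000000000000000000)) (.leaf (nat_lit 0x8000000000000000000000000000000000000000000000000000000000000000000000000000000000000000))) (.node (nat_lit 45) (.leaf (nat_lit 0x10000000000000000000000000000000000000000000000000000000000000000000000000000000000000000)) (.node (nat_lit 46) (.leaf (nat_lit 0x20000000000000000000000000000000000000000000000000000000000000000000000000000000000000000)) (.leaf (nat_lit 0x40000000000000000000000000000000000000000000000000000000000000000000000000000000000000000))))))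
 (.node (nat_lit 52) (.node (nat_lit 49) (.node (nat_lit 48) (.leaf (nat_lit 0x80000000000000000000000000000000000000000000000000000000000000000000000000000000000000000)) (.leaf (nat_lit 0x100000000000000000000000000000000000000000000000000000000000000000000000000000000000000000))) (.node (nat_lit 50) (.leaf (nat_lit 0x200000000000000000000000000000000000000000000000000000000000000000000000000000000000000000)) (.node (nat_lit 51) (.leaf (nat_lit 0x400000000000000000000000000000000000000000000000000000000000000000000000000000000000000000)) (.leaf (nat_lit 0x800000000000000000000000000000000000000000000000000000000000000000000000000000000000000000)))))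
 (.node (nat_lit 54) (.node (nat_lit 53) (.leaf (nat_lit 0x1000000000000000000000000000000000000000000000000000000000000000000000000000000000000000000)) (.leaf (nat_lit 0x2000000000000000000000000000000000000000000000000000000000000000000000000000000000000000000))) (.node (nat_lit 55) (.leaf (nat_lit 0x4000000000000000000000000000000000000000000000000000000000000000000000000000000000000000000)) (.node (nat_lit 56) (.leaf (nat_lit 0x8000000000000000000000000000000000000000000000000000000000000000000000000000000000000000000)) (.leaf (nat_lit 0x10000000000000000000000000000000000000000000000000000000000000000000000000000000000000000000)))))))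
 (.node (nat_lit 67) (.node (nat_lit 62) (.node (nat_lit 59) (.node (nat_lit 58) (.leaf (nat_lit 0x20000000000000000000000000000000000000000000000000000000000000000000000000000000000000000000)) (.leaf (nat_lit 0x40000000000000000000000000000000000000000000000000000000000000000000000000000000000000000000))) (.node (nat_lit 60) (.leaf (nat_lit 0x80000000000000000000000000000000000000000000000000000000000000000000000000000000000000000000)) (.node (nat_lit 61) (.leaf (nat_lit 0x100000000000000000000000000000000000000000000000000000000000000000000000000000000000000000000)) (.leaf (nat_lit 0x200000000000000000000000000000000000000000000000000000000000000000000000000000000000000000000)))))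
 (.node (nat_lit 64) (.node (nat_lit 63) (.leaf (nat_lit 0x400000000000000000000000000000000000000000000000000000000000000000000000000000000000000000000)) (.leaf (nat_lit 0x800000000000000000000000000000000000000000000000000000000000000000000000000000000000000000000))) (.node (nat_lit 65) (.leaf (nat_lit 0x1000000000000000000000000000000000000000000000000000000000000000000000000000000000000000000000)) (.node (nat_lit 66) (.leaf (nat_lit 0x2000000000000000000000000000000000000000000000000000000000000000000000000000000000000000000000)) (.leaf (nat_lit 0x4000000000000000000000000000000000000000000000000000000000000000000000000000000000000000000000))))))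
 (.node (nat_lit 72) (.node (nat_lit 69) (.node (nat_lit 68) (.leaf (nat_lit 0x8000000000000000000000000000000000000000000000000000000000000000000000000000000000000000000000)) (.leaf (nat_lit 0x10000000000000000000000000000000000000000000000000000000000000000000000000000000000000000000000))) (.node (nat_lit 70) (.leaf (nat_lit 0x20000000000000000000000000000000000000000000000000000000000000000000000000000000000000000000000)) (.node (nat_lit 71) (.leaf (nat_lit 0x40000000000000000000000000000000000000000000000000000000000000000000000000000000000000000000000)) (.leaf (nat_lit 0x80000000000000000000000000000000000000000000000000000000000000000000000000000000000000000000000)))))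
 (.node (nat_lit 74) (.node (nat_lit 73) (.leaf (nat_lit 0x100000000000000000000000000000000000000000000000000000000000000000000000000000000000000000000000)) (.leaf (nat_lit 0x200000000000000000000000000000000000000000000000000000000000000000000000000000000000000000000000))) (.node (nat_lit 75) (.leaf (nat_lit 0x400000000000000000000000000000000000000000000000000000000000000000000000000000000000000000000000)) (.node (nat_lit 76) (.leaf (nat_lit 0x800000000000000000000000000000000000000000000000000000000000000000000000000000000000000000000000)) (.leaf (nat_lit 0x1000000000000000000000000000000000000000000000000000000000000000000000000000000000000000000000000)))))))))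
noncomputable def bT : Tr ℕ := (.node (nat_lit 4) (.node (nat_lit 2) (.node (nat_lit 1) (.leaf (nat_lit 0xbd854819b33ae2c728687c8244d4a0)) (.leaf (nat_lit 0xbcab055834594e67cd286b1c418a20))) (.node (nat_lit 3) (.leaf (nat_lit 0xbb6b179e819b2ce52d28914c418a00)) (.leaf (nat_lit 0xbaeae3162f851acb29090ce43208e0))))
 (.node (nat_lit 6) (.node (nat_lit 5) (.leaf (nat_lit 0xbaeae9c1522d18db4464399e848820)) (.leaf (nat_lit 0xbbaab0954f8598da452831e4418a60))) (.node (nat_lit 7) (.leaf (nat_lit 0xbd2b6341b22ae2a731280cde4188e0)) (.node (nat_lit 8) (.leaf (nat_lit 0xba5033cd70909d1ab5960bcd4510a0)) (.leaf (nat_lit 0xbc054b19cc59cb36a8880c9e305629))))))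
noncomputable def bRU : Tr Rl := (.node (nat_lit 18) (.node (nat_lit 9) (.node (nat_lit 4) (.node (nat_lit 2) (.node (nat_lit 1) (.leaf ([nat_lit 0, nat_lit 0], [])) (.leaf ([nat_lit 1, nat_lit 1], []))) (.node (nat_lit 3) (.leaf ([nat_lit 2, nat_lit 2], [])) (.leaf ([nat_lit 3, nat_lit 3], []))))
 (.node (nat_lit 6) (.node (nat_lit 5) (.leaf ([nat_lit 4, nat_lit 4], [])) (.leaf ([nat_lit 5, nat_lit 5], []))) (.node (nat_lit 7) (.leaf ([nat_lit 6, nat_lit 6], [])) (.node (nat_lit 8) (.leaf ([nat_lit 0, nat_lit 1], [nat_lit 5, nat_lit 2, nat_lit 1, nat_lit 0])) (.leaf ([nat_lit 0, nat_lit 2], [nat_lit 6, nat_lit 2, nat_lit 0]))))))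
 (.node (nat_lit 13) (.node (nat_lit 11) (.node (nat_lit 10) (.leaf ([nat_lit 1, nat_lit 2], [nat_lit 2, nat_lit 1])) (.leaf ([nat_lit 0, nat_lit 3], [nat_lit 5, nat_lit 4, nat_lit 3, nat_lit 0]))) (.node (nat_lit 12) (.leaf ([nat_lit 1, nat_lit 3], [nat_lit 6, nat_lit 3, nat_lit 1])) (.leaf ([nat_lit 2, nat_lit 3], [nat_lit 6, nat_lit 5, nat_lit 3, nat_lit 2]))))
 (.node (nat_lit 15) (.node (nat_lit 14) (.leaf ([nat_lit 0, nat_lit 4], [nat_lit 6, nat_lit 4, nat_lit 0])) (.leaf ([nat_lit 1, nat_lit 4], [nat_lit 5, nat_lit 4, nat_lit 1]))) (.node (nat_lit 16) (.leaf ([nat_lit 2, nat_lit 4], [nat_lit 6, nat_lit 4, nat_lit 2])) (.node (nat_lit 17) (.leaf ([nat_lit 3, nat_lit 4], [nat_lit 4, nat_lit 3])) (.leaf ([nat_lit 0, nat_lit 5], [nat_lit 6, nat_lit 5, nat_lit 0])))))))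
 (.node (nat_lit 27) (.node (nat_lit 22) (.node (nat_lit 20) (.node (nat_lit 19) (.leaf ([nat_lit 1, nat_lit 5], [nat_lit 5, nat_lit 1])) (.leaf ([nat_lit 2, nat_lit 5], [nat_lit 5, nat_lit 2]))) (.node (nat_lit 21) (.leaf ([nat_lit 3, nat_lit 5], [nat_lit 5, nat_lit 3])) (.leaf ([nat_lit 4, nat_lit 5], [nat_lit 5, nat_lit 4]))))
 (.node (nat_lit 24) (.node (nat_lit 23) (.leaf ([nat_lit 0, nat_lit 6], [nat_lit 6, nat_lit 0])) (.leaf ([nat_lit 1, nat_lit 6], [nat_lit 6, nat_lit 1]))) (.node (nat_lit 25) (.leaf ([nat_lit 2, nat_lit 6], [nat_lit 6, nat_lit 2])) (.node (nat_lit 26) (.leaf ([nat_lit 3, nat_lit 6], [nat_lit 6, nat_lit 3])) (.leaf ([nat_lit 4, nat_lit 6], [nat_lit 6, nat_lit 4]))))))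
 (.node (nat_lit 31) (.node (nat_lit 29) (.node (nat_lit 28) (.leaf ([nat_lit 5, nat_lit 6], [nat_lit 6, nat_lit 5])) (.leaf ([nat_lit 7, nat_lit 0], [nat_lit 6, nat_lit 5, nat_lit 4, nat_lit 0, nat_lit 7]))) (.node (nat_lit 30) (.leaf ([nat_lit 7, nat_lit 6, nat_lit 4, nat_lit 3], [nat_lit 6, nat_lit 5, nat_lit 2, nat_lit 0, nat_lit 7])) (.leaf ([nat_lit 7, nat_lit 6, nat_lit 5, nat_lit 4], [nat_lit 6, nat_lit 7]))))
 (.node (nat_lit 33) (.node (nat_lit 32) (.leaf ([nat_lit 7, nat_lit 6], [nat_lit 0, nat_lit 7])) (.leaf ([nat_lit 8, nat_lit 6, nat_lit 2], [nat_lit 6, nat_lit 5, nat_lit 1, nat_lit 8]))) (.node (nat_lit 34) (.leaf ([nat_lit 8, nat_lit 6, nat_lit 2, nat_lit 1], [nat_lit 2, nat_lit 1, nat_lit 8])) (.node (nat_lit 35) (.leaf ([nat_lit 8, nat_lit 6, nat_lit 5, nat_lit 1], [nat_lit 5, nat_lit 1, nat_lit 8])) (.leaf ([nat_lit 8, nat_lit 6, nat_lit 5, nat_lit 2, nat_lit 1], [nat_lit 6, nat_lit 1, nat_lit 8]))))))))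
theorem bl : bT.all (fun c => band (m24Chk (ap 5 31 c)) (Nat.beq (ap 5 31 c 23) 23)) = true := by decide +kernel
theorem br : bRU.all (fun r => eqB (List.range 24) (apL 5 31 bT r.1) (apL 5 31 bT r.2)) = true := by decide +kernel
noncomputable def bP0 : List Pa := [([nat_lit 0, nat_lit 0, nat_lit 0], [([], nat_lit 0, [nat_lit 0]), ([nat_lit 0], nat_lit 1, [])], [(nat_lit 0, nat_lit 0x451), (nat_lit 1, nat_lit 0x442), (nat_lit 2, nat_lit 0x126), (nat_lit 3, nat_lit 0x420)]),
 ([nat_lit 1, nat_lit 1, nat_lit 1], [([], nat_lit 2, [nat_lit 1]), ([nat_lit 1], nat_lit 3, [])], [(nat_lit 0, nat_lit 0x338800), (nat_lit 1, nat_lit 0x228800), (nat_lit 2, nat_lit 0x130800), (nat_lit 3, nat_lit 0x128000)]),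
 ([nat_lit 2, nat_lit 2, nat_lit 2], [([], nat_lit 4, [nat_lit 2]), ([nat_lit 2], nat_lit 5, [])], [(nat_lit 1, nat_lit 0x400000), (nat_lit 2, nat_lit 0x10000000), (nat_lit 4, nat_lit 0xc400000), (nat_lit 9, nat_lit 0x190000000)]),
 ([nat_lit 3, nat_lit 3, nat_lit 3], [([], nat_lit 6, [nat_lit 3]), ([nat_lit 3], nat_lit 7, [])], [(nat_lit 0, nat_lit 0x8c200000000), (nat_lit 2, nat_lit 0x87800000000), (nat_lit 4, nat_lit 0x82000000000), (nat_lit 7, nat_lit 0x36000000000)]),
 ([nat_lit 4, nat_lit 4, nat_lit 4], [([], nat_lit 8, [nat_lit 4]), ([nat_lit 4], nat_lit 9, [])], [(nat_lit 0, nat_lit 0x41000000000000), (nat_lit 1, nat_lit 0x21000000000000), (nat_lit 2, nat_lit 0x70400000000000), (nat_lit 3, nat_lit 0x48800000000000)]),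
 ([nat_lit 5, nat_lit 5, nat_lit 5], [([], nat_lit 10, [nat_lit 5]), ([nat_lit 5], nat_lit 11, [])], [(nat_lit 1, nat_lit 0x30000000000000000), (nat_lit 2, nat_lit 0x10880000000000000), (nat_lit 4, nat_lit 0x20800000000000000), (nat_lit 5, nat_lit 0x13080000000000000)]),
 ([nat_lit 6, nat_lit 6, nat_lit 6], [([], nat_lit 12, [nat_lit 6]), ([nat_lit 6], nat_lit 13, [])], [(nat_lit 0, nat_lit 0x19c40000000000000000), (nat_lit 1, nat_lit 0x10400000000000000000), (nat_lit 2, nat_lit 0x8800000000000000000), (nat_lit 3, nat_lit 0x10800000000000000000)]),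
 ([nat_lit 0, nat_lit 0, nat_lit 6], [([], nat_lit 0, [nat_lit 6]), ([nat_lit 6], nat_lit 1, []), ([], nat_lit 45, [nat_lit 0]), ([nat_lit 0], nat_lit 45, [])], [(nat_lit 0, nat_lit 0x1144000000000000000000000000000000000000000000000000000000000671), (nat_lit 1, nat_lit 0x1108000000000000000000000000000000000000000000000000000000000410), (nat_lit 2, nat_lit 0x498000000000000000000000000000000000000000000000000000000000220), (nat_lit 3, nat_lit 0x1080000000000000000000000000000000000000000000000000000000000420), (nat_lit 5, nat_lit 0x188000000000000000000000000000000000000000000000000000000000210)]),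
 ([nat_lit 0, nat_lit 6, nat_lit 6], [([], nat_lit 44, [nat_lit 6]), ([nat_lit 6], nat_lit 44, []), ([], nat_lit 12, [nat_lit 0]), ([nat_lit 0], nat_lit 13, [])], [(nat_lit 0, nat_lit 0x19c4000000000000000000000000000000000000000011440000000000000000), (nat_lit 1, nat_lit 0x1040000000000000000000000000000000000000000011080000000000000000), (nat_lit 2, nat_lit 0x880000000000000000000000000000000000000000004980000000000000000)]),
 ([nat_lit 1, nat_lit 1, nat_lit 2], [([], nat_lit 2, [nat_lit 2]), ([nat_lit 2], nat_lit 3, []), ([], nat_lit 19, [nat_lit 1]), ([nat_lit 1], nat_lit 19, [])], [(nat_lit 0, nat_lit 0x3388000000000000000000000000), (nat_lit 1, nat_lit 0x2288000000000000000000000800), (nat_lit 2, nat_lit 0x1308000000000000000000020000), (nat_lit 3, nat_lit 0x1280000000000000000000020000)]),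
 ([nat_lit 1, nat_lit 1, nat_lit 5], [([], nat_lit 2, [nat_lit 5]), ([nat_lit 5], nat_lit 3, []), ([], nat_lit 37, [nat_lit 1]), ([nat_lit 1], nat_lit 37, [])], [(nat_lit 0, nat_lit 0x19c40000000000000000000000000000000000000000000000000), (nat_lit 1, nat_lit 0x11440000000000000000000000000000000000000000000300000), (nat_lit 2, nat_lit 0x9840000000000000000000000000000000000000000000108800), (nat_lit 3, nat_lit 0x9400000000000000000000000000000000000000000000208800)]),
 ([nat_lit 1, nat_lit 1, nat_lit 6], [([], nat_lit 2, [nat_lit 6]), ([nat_lit 6], nat_lit 3, []), ([], nat_lit 47, [nat_lit 1]), ([nat_lit 1], nat_lit 47, [])], [(nat_lit 0, nat_lit 0xce2000000000000000000000000000000000000000000000000000000000338800), (nat_lit 1, nat_lit 0x8a2000000000000000000000000000000000000000000000000000000000208000), (nat_lit 2, nat_lit 0x4c2000000000000000000000000000000000000000000000000000000000110000), (nat_lit 3, nat_lit 0x4a0000000000000000000000000000000000000000000000000000000000210000)]),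
 ([nat_lit 1, nat_lit 2, nat_lit 2], [([], nat_lit 18, [nat_lit 2]), ([nat_lit 2], nat_lit 18, []), ([], nat_lit 4, [nat_lit 1]), ([nat_lit 1], nat_lit 5, [])], [(nat_lit 1, nat_lit 0x8000000000000000114400000)]),
 ([nat_lit 1, nat_lit 5, nat_lit 5], [([], nat_lit 36, [nat_lit 5]), ([nat_lit 5], nat_lit 36, []), ([], nat_lit 10, [nat_lit 1]), ([nat_lit 1], nat_lit 11, [])], [(nat_lit 1, nat_lit 0x18000000000000000000000000000000000022880000000000000)]),
 ([nat_lit 1, nat_lit 6, nat_lit 6], [([], nat_lit 46, [nat_lit 6]), ([nat_lit 6], nat_lit 46, []), ([], nat_lit 12, [nat_lit 1]), ([nat_lit 1], nat_lit 13, [])], [(nat_lit 3, nat_lit 0x840000000000000000000000000000000000000000000009400000000000000000)]),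
 ([nat_lit 2, nat_lit 2, nat_lit 5], [([], nat_lit 4, [nat_lit 5]), ([nat_lit 5], nat_lit 5, []), ([], nat_lit 39, [nat_lit 2]), ([nat_lit 2], nat_lit 39, [])], [(nat_lit 1, nat_lit 0x20000000000000000000000000000000000000000000180000000), (nat_lit 2, nat_lit 0x800000000000000000000000000000000000000000000084400000), (nat_lit 4, nat_lit 0x620000000000000000000000000000000000000000000104000000), (nat_lit 9, nat_lit 0xc800000000000000000000000000000000000000000000104000000)]),
 ([nat_lit 2, nat_lit 2, nat_lit 6], [([], nat_lit 4, [nat_lit 6]), ([nat_lit 6], nat_lit 5, []), ([], nat_lit 49, [nat_lit 2]), ([nat_lit 2], nat_lit 49, [])], [(nat_lit 1, nat_lit 0x1000000000000000000000000000000000000000000000000000000000104000000), (nat_lit 2, nat_lit 0x40000000000000000000000000000000000000000000000000000000000088000000), (nat_lit 4, nat_lit 0x31000000000000000000000000000000000000000000000000000000000084000000), (nat_lit 9, nat_lit 0x640000000000000000000000000000000000000000000000000000000000084000000)]),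
 ([nat_lit 2, nat_lit 5, nat_lit 5], [([], nat_lit 38, [nat_lit 5]), ([nat_lit 5], nat_lit 38, []), ([], nat_lit 10, [nat_lit 2]), ([nat_lit 2], nat_lit 11, [])], [(nat_lit 2, nat_lit 0x4220000000000000000000000000000000000002000000000000000)]),
 ([nat_lit 2, nat_lit 6, nat_lit 6], [([], nat_lit 48, [nat_lit 6]), ([nat_lit 6], nat_lit 48, []), ([], nat_lit 12, [nat_lit 2]), ([nat_lit 2], nat_lit 13, [])], [(nat_lit 1, nat_lit 0x410000000000000000000000000000000000000000000000000040000000000000000)]),
 ([nat_lit 3, nat_lit 3, nat_lit 4], [([], nat_lit 6, [nat_lit 4]), ([nat_lit 4], nat_lit 7, []), ([], nat_lit 33, [nat_lit 3]), ([nat_lit 3], nat_lit 33, [])], [(nat_lit 0, nat_lit 0x46100000000000000000000000000000000082000000000), (nat_lit 1, nat_lit 0x42000000000), (nat_lit 2, nat_lit 0x43c000000000000000000000000000000000e0800000000), (nat_lit 4, nat_lit 0x41000000000000000000000000000000000082000000000), (nat_lit 7, nat_lit 0x1b000000000000000000000000000000000013000000000)]),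
 ([nat_lit 3, nat_lit 3, nat_lit 5], [([], nat_lit 6, [nat_lit 5]), ([nat_lit 5], nat_lit 7, []), ([], nat_lit 41, [nat_lit 3]), ([nat_lit 3], nat_lit 41, [])], [(nat_lit 0, nat_lit 0x4610000000000000000000000000000000000000000000000000000000), (nat_lit 2, nat_lit 0x43c0000000000000000000000000000000000000000000042200000000), (nat_lit 4, nat_lit 0x4100000000000000000000000000000000000000000000082000000000), (nat_lit 7, nat_lit 0x1b00000000000000000000000000000000000000000000082200000000)]),
 ([nat_lit 3, nat_lit 3, nat_lit 6], [([], nat_lit 6, [nat_lit 6]), ([nat_lit 6], nat_lit 7, []), ([], nat_lit 51, [nat_lit 3]), ([nat_lit 3], nat_lit 51, [])], [(nat_lit 0, nat_lit 0x2308000000000000000000000000000000000000000000000000000000000ce200000000), (nat_lit 2, nat_lit 0x21e000000000000000000000000000000000000000000000000000000000044000000000), (nat_lit 4, nat_lit 0x208000000000000000000000000000000000000000000000000000000000042000000000), (nat_lit 7, nat_lit 0xd8000000000000000000000000000000000000000000000000000000000006000000000)]),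
 ([nat_lit 3, nat_lit 4, nat_lit 4], [([], nat_lit 32, [nat_lit 4]), ([nat_lit 4], nat_lit 32, []), ([], nat_lit 8, [nat_lit 3]), ([nat_lit 3], nat_lit 9, [])], [(nat_lit 0, nat_lit 0x41000000000000000000000000000000046100000000000), (nat_lit 1, nat_lit 0x21000000000000000000000000000000000000000000000), (nat_lit 2, nat_lit 0x70400000000000000000000000000000043c00000000000)]),
 ([nat_lit 3, nat_lit 5, nat_lit 5], [([], nat_lit 40, [nat_lit 5]), ([nat_lit 5], nat_lit 40, []), ([], nat_lit 10, [nat_lit 3]), ([nat_lit 3], nat_lit 11, [])], [(nat_lit 1, nat_lit 0x6000000000000000000000000000000000000000000000000000000000), (nat_lit 2, nat_lit 0x2110000000000000000000000000000000000000021e00000000000000), (nat_lit 7, nat_lit 0x411000000000000000000000000000000000000000d800000000000000)]),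
 ([nat_lit 3, nat_lit 6, nat_lit 6], [([], nat_lit 50, [nat_lit 6]), ([nat_lit 6], nat_lit 50, []), ([], nat_lit 12, [nat_lit 3]), ([nat_lit 3], nat_lit 13, [])], [(nat_lit 0, nat_lit 0x338800000000000000000000000000000000000000000000000011840000000000000000), (nat_lit 2, nat_lit 0x110000000000000000000000000000000000000000000000000010f00000000000000000), (nat_lit 7, nat_lit 0x18000000000000000000000000000000000000000000000000006c00000000000000000)]),
 ([nat_lit 4, nat_lit 4, nat_lit 5], [([], nat_lit 8, [nat_lit 5]), ([nat_lit 5], nat_lit 9, []), ([], nat_lit 43, [nat_lit 4]), ([nat_lit 4], nat_lit 43, [])], [(nat_lit 0, nat_lit 0x2080000000000000000000000000000000000000000000000000000000000), (nat_lit 1, nat_lit 0x1080000000000000000000000000000000000000000000060000000000000), (nat_lit 2, nat_lit 0x3820000000000000000000000000000000000000000000021100000000000), (nat_lit 3, nat_lit 0x2440000000000000000000000000000000000000000000041100000000000)]),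
 ([nat_lit 4, nat_lit 4, nat_lit 6], [([], nat_lit 8, [nat_lit 6]), ([nat_lit 6], nat_lit 9, []), ([], nat_lit 53, [nat_lit 4]), ([nat_lit 4], nat_lit 53, [])], [(nat_lit 0, nat_lit 0x104000000000000000000000000000000000000000000000000000000000067100000000000), (nat_lit 1, nat_lit 0x84000000000000000000000000000000000000000000000000000000000041000000000000), (nat_lit 2, nat_lit 0x1c1000000000000000000000000000000000000000000000000000000000022000000000000), (nat_lit 3, nat_lit 0x122000000000000000000000000000000000000000000000000000000000042000000000000)]),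
 ([nat_lit 4, nat_lit 5, nat_lit 5], [([], nat_lit 42, [nat_lit 5]), ([nat_lit 5], nat_lit 42, []), ([], nat_lit 10, [nat_lit 4]), ([nat_lit 4], nat_lit 11, [])], [(nat_lit 2, nat_lit 0x1088000000000000000000000000000000000000000038200000000000000), (nat_lit 5, nat_lit 0x1308000000000000000000000000000000000000000010800000000000000)]),
 ([nat_lit 4, nat_lit 6, nat_lit 6], [([], nat_lit 52, [nat_lit 6]), ([nat_lit 6], nat_lit 52, []), ([], nat_lit 12, [nat_lit 4]), ([nat_lit 4], nat_lit 13, [])], [(nat_lit 0, nat_lit 0x19c400000000000000000000000000000000000000000000000000010400000000000000000), (nat_lit 2, nat_lit 0x8800000000000000000000000000000000000000000000000000001c100000000000000000)]),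
 ([nat_lit 5, nat_lit 5, nat_lit 6], [([], nat_lit 10, [nat_lit 6]), ([nat_lit 6], nat_lit 11, []), ([], nat_lit 55, [nat_lit 5]), ([nat_lit 5], nat_lit 55, [])], [(nat_lit 1, nat_lit 0xc0000000000000000000000000000000000000000000000000000000000020800000000000000), (nat_lit 2, nat_lit 0x42200000000000000000000000000000000000000000000000000000000011000000000000000), (nat_lit 4, nat_lit 0x82000000000000000000000000000000000000000000000000000000000010800000000000000), (nat_lit 5, nat_lit 0x4c200000000000000000000000000000000000000000000000000000000010800000000000000)]),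
 ([nat_lit 5, nat_lit 6, nat_lit 6], [([], nat_lit 54, [nat_lit 6]), ([nat_lit 6], nat_lit 54, []), ([], nat_lit 12, [nat_lit 5]), ([nat_lit 5], nat_lit 13, [])], [(nat_lit 2, nat_lit 0x44000000000000000000000000000000000000000000000000000000008440000000000000000)]),
 ([nat_lit 7, nat_lit 6, nat_lit 6], [([nat_lit 7], nat_lit 12, []), ([], nat_lit 1, [nat_lit 7]), ([nat_lit 0], nat_lit 63, []), ([], nat_lit 63, [nat_lit 6])], [(nat_lit 0, nat_lit 0x8a2000000000000000000000000000000000000000000000000000000000000000000f800000000000000001), (nat_lit 1, nat_lit 0x8840000000000000000000000000000000000000000000000000000000000000000008a00000000000000002), (nat_lit 3, nat_lit 0x840000000000000000000000000000000000000000000000000000000000000000000a280000000000000008), (nat_lit 5, nat_lit 0xc40000000000000000000000000000000000000000000000000000000000000000014c00000000000000020), (nat_lit 7, nat_lit 0xc40000000000000000000000000000000000000000000000000000000000000000018a00000000000000080)]),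
 ([nat_lit 0, nat_lit 0, nat_lit 2], [([], nat_lit 0, [nat_lit 2]), ([], nat_lit 13, [nat_lit 2]), ([nat_lit 6, nat_lit 6, nat_lit 2], nat_lit 1, []), ([nat_lit 6], nat_lit 17, [nat_lit 0]), ([], nat_lit 45, [nat_lit 2, nat_lit 0]), ([nat_lit 0], nat_lit 17, [])], [(nat_lit 0, nat_lit 0x4000000000000000000000000000000000002200000040000000000000000), (nat_lit 1, nat_lit 0x8000000000000000000000000000000000000520000080000000000000001), (nat_lit 2, nat_lit 0x10000000000000000000000000000000000003060000100000000000000040), (nat_lit 3, nat_lit 0x20000000000000000000000000000000000000000000200000000000000040), (nat_lit 4, nat_lit 0x40000000000000000000000000000000000002030000400000000000000031), (nat_lit 7, nat_lit 0x200000000000000000000000000000000000000520002000000000000000041)]),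
 ([nat_lit 0, nat_lit 0, nat_lit 4], [([], nat_lit 0, [nat_lit 4]), ([], nat_lit 13, [nat_lit 4]), ([nat_lit 6, nat_lit 6, nat_lit 4], nat_lit 1, []), ([nat_lit 6], nat_lit 27, [nat_lit 0]), ([], nat_lit 45, [nat_lit 4, nat_lit 0]), ([nat_lit 0], nat_lit 27, [])], [(nat_lit 0, nat_lit 0x4000000000000000000000110000000000000000000040000000000000410), (nat_lit 1, nat_lit 0x8000000000000000000000029000000000000000000080000000000000210), (nat_lit 2, nat_lit 0x10000000000000000000000183000000000000000000100000000000000704), (nat_lit 4, nat_lit 0x40000000000000000000000101800000000000000000400000000000000410)]),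
 ([nat_lit 0, nat_lit 0, nat_lit 5], [([], nat_lit 0, [nat_lit 5]), ([], nat_lit 13, [nat_lit 5]), ([nat_lit 6, nat_lit 6, nat_lit 5], nat_lit 1, []), ([nat_lit 6], nat_lit 35, [nat_lit 0]), ([], nat_lit 45, [nat_lit 5, nat_lit 0]), ([nat_lit 0], nat_lit 35, [])], [(nat_lit 0, nat_lit 0x4000000000011000000000000000000000000000000040000000000000000), (nat_lit 1, nat_lit 0x8000000000002900000000000000000000000000000080000000000000600), (nat_lit 2, nat_lit 0x10000000000018300000000000000000000000000000100000000000000211), (nat_lit 4, nat_lit 0x40000000000010180000000000000000000000000000400000000000000410)]),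
 ([nat_lit 0, nat_lit 2, nat_lit 2], [([], nat_lit 16, [nat_lit 2]), ([nat_lit 6, nat_lit 2], nat_lit 16, []), ([nat_lit 6], nat_lit 48, [nat_lit 2, nat_lit 0]), ([nat_lit 6, nat_lit 6], nat_lit 4, [nat_lit 0]), ([], nat_lit 12, [nat_lit 0]), ([nat_lit 0], nat_lit 5, [])], [(nat_lit 0, nat_lit 0x670000000000000000000000000000000000000000006710000040000000114400000), (nat_lit 1, nat_lit 0x412000000000000000000000000000000000000000002600000080000000110800000), (nat_lit 2, nat_lit 0x224000000000000000000000000000000000000000004110000100000000049800000), (nat_lit 3, nat_lit 0x428000000000000000000000000000000000000000002110000200000000108000000), (nat_lit 4, nat_lit 0x200000000000000000000000000000000000000000004500000400000000004c00000), (nat_lit 7, nat_lit 0xb0000000000000000000000000000000000000000000710002000000000018800000), (nat_lit 8, nat_lit 0x520000000000000000000000000000000000000000002500004000000000141800000)]),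
 ([nat_lit 0, nat_lit 4, nat_lit 4], [([], nat_lit 26, [nat_lit 4]), ([nat_lit 6, nat_lit 4], nat_lit 26, []), ([nat_lit 6], nat_lit 52, [nat_lit 4, nat_lit 0]), ([nat_lit 6, nat_lit 6], nat_lit 8, [nat_lit 0]), ([], nat_lit 12, [nat_lit 0]), ([nat_lit 0], nat_lit 9, [])], [(nat_lit 0, nat_lit 0x19c000000000000000000000000000000000130800000000000000000040045100000000000), (nat_lit 1, nat_lit 0x104800000000000000000000000000000000300000000000000000000080044200000000000), (nat_lit 2, nat_lit 0x89000000000000000000000000000000000192000000000000000000100012600000000000), (nat_lit 3, nat_lit 0x10a000000000000000000000000000000000354000000000000000000200042000000000000), (nat_lit 4, nat_lit 0x80000000000000000000000000000000000300000000000000000000400001300000000000), (nat_lit 5, nat_lit 0x8c000000000000000000000000000000000000000000000000000000800006200000000000)]),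
 ([nat_lit 0, nat_lit 5, nat_lit 5], [([], nat_lit 34, [nat_lit 5]), ([nat_lit 6, nat_lit 5], nat_lit 34, []), ([nat_lit 6], nat_lit 54, [nat_lit 5, nat_lit 0]), ([nat_lit 6, nat_lit 6], nat_lit 10, [nat_lit 0]), ([], nat_lit 12, [nat_lit 0]), ([nat_lit 0], nat_lit 11, [])], [(nat_lit 0, nat_lit 0xce000000000000000000000000033880000000000000000000000000000062880000000000000), (nat_lit 1, nat_lit 0x824000000000000000000000000108000000000000000000000000000000a2100000000000000), (nat_lit 2, nat_lit 0x44800000000000000000000000032000000000000000000000000000000109300000000000000), (nat_lit 3, nat_lit 0x85000000000000000000000000032000000000000000000000000000000221000000000000000), (nat_lit 4, nat_lit 0x40000000000000000000000000030000000000000000000000000000000400980000000000000), (nat_lit 7, nat_lit 0x16000000000000000000000000012800000000000000000000000000002003100000000000000), (nat_lit 8, nat_lit 0xa4000000000000000000000000022800000000000000000000000000004028300000000000000)]),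
 ([nat_lit 1, nat_lit 1, nat_lit 3], [([], nat_lit 2, [nat_lit 3]), ([], nat_lit 13, [nat_lit 3]), ([nat_lit 6, nat_lit 6, nat_lit 3], nat_lit 3, []), ([nat_lit 6], nat_lit 23, [nat_lit 1]), ([], nat_lit 47, [nat_lit 3, nat_lit 1]), ([nat_lit 1], nat_lit 23, [])], [(nat_lit 1, nat_lit 0x4000000000000000000000000000000082000000000000080000000000000000), (nat_lit 2, nat_lit 0x800000000000000000000000000000008200000000000010000000000021e000), (nat_lit 3, nat_lit 0x10000000000000000000000000000000ce000000000000020000000000021e000), (nat_lit 4, nat_lit 0x200000000000000000000000000000004c0000000000000400000000000208000), (nat_lit 5, nat_lit 0x40000000000000000000000000000000822000000000000800000000000000000), (nat_lit 7, nat_lit 0x100000000000000000000000000000000ce00000000000020000000000000d8000), (nat_lit 8, nat_lit 0x200000000000000000000000000000000c620000000000040000000000002d0000)])]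
theorem bp0 : allL bP0 (paChk 396 bCB bHP bT bRU) = true := by decide +kernel
noncomputable def bP1 : List Pa := [([nat_lit 1, nat_lit 1, nat_lit 4], [([], nat_lit 2, [nat_lit 4]), ([], nat_lit 11, [nat_lit 4]), ([nat_lit 5, nat_lit 5, nat_lit 4], nat_lit 3, []), ([nat_lit 5], nat_lit 29, [nat_lit 1]), ([], nat_lit 37, [nat_lit 4, nat_lit 1]), ([nat_lit 1], nat_lit 29, [])], [(nat_lit 0, nat_lit 0x4000000019c400000000000000000000000080000000208000), (nat_lit 1, nat_lit 0x80000000094400000000000000000000000100000000108000), (nat_lit 2, nat_lit 0x10000000001c000000000000000000000000200000000382000), (nat_lit 3, nat_lit 0x200000000190400000000000000000000000400000000244000), (nat_lit 4, nat_lit 0x400000000118000000000000000000000000800000000208000), (nat_lit 7, nat_lit 0x200000000009440000000000000000000000400000000004c000), (nat_lit 8, nat_lit 0x4000000000104000000000000000000000008000000000382000)]),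
 ([nat_lit 1, nat_lit 3, nat_lit 3], [([], nat_lit 22, [nat_lit 3]), ([nat_lit 6, nat_lit 3], nat_lit 22, []), ([nat_lit 6], nat_lit 50, [nat_lit 3, nat_lit 1]), ([nat_lit 6, nat_lit 6], nat_lit 6, [nat_lit 1]), ([], nat_lit 12, [nat_lit 1]), ([nat_lit 1], nat_lit 7, [])], [(nat_lit 0, nat_lit 0x3380000000000000000000000000000000000004200000000000000400000ce200000000), (nat_lit 1, nat_lit 0x20900000000000000000000000000000000000082000000000000008000008a200000000), (nat_lit 2, nat_lit 0x11200000000000000000000000000000000000041800000000000010000004c200000000), (nat_lit 3, nat_lit 0x21400000000000000000000000000000000000081800000000000020000004a000000000), (nat_lit 5, nat_lit 0x1180000000000000000000000000000000000004200000000000008000000c0200000000), (nat_lit 7, nat_lit 0x58000000000000000000000000000000000000b200000000000020000000c8000000000)]),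
 ([nat_lit 1, nat_lit 4, nat_lit 4], [([], nat_lit 28, [nat_lit 4]), ([nat_lit 5, nat_lit 4], nat_lit 28, []), ([nat_lit 5], nat_lit 42, [nat_lit 4, nat_lit 1]), ([nat_lit 5, nat_lit 5], nat_lit 8, [nat_lit 1]), ([], nat_lit 10, [nat_lit 1]), ([nat_lit 1], nat_lit 9, [])], [(nat_lit 0, nat_lit 0x80000000000000001040000000000000000000000000e7100000000000), (nat_lit 1, nat_lit 0x3010000000000000000104000000000000000000000000145100000000000), (nat_lit 2, nat_lit 0x10a8000000000000000041400000000000000000000000226100000000000), (nat_lit 3, nat_lit 0x20c8000000000000000122400000000000000000000000425000000000000), (nat_lit 4, nat_lit 0x2000000000000000000000000000000000000000000000807000000000000), (nat_lit 5, nat_lit 0x120800000000000000001c400000000000000000000001060100000000000)]),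
 ([nat_lit 2, nat_lit 2, nat_lit 4], [([], nat_lit 4, [nat_lit 4]), ([], nat_lit 13, [nat_lit 4]), ([nat_lit 6, nat_lit 6, nat_lit 4], nat_lit 5, []), ([nat_lit 6], nat_lit 31, [nat_lit 2]), ([], nat_lit 49, [nat_lit 4, nat_lit 2]), ([nat_lit 2], nat_lit 31, [])], [(nat_lit 0, nat_lit 0x10000000000000000000000ce200000000000000000000000040000000104000000), (nat_lit 1, nat_lit 0x2000000000000000000000082200000000000000000000000080000000084000000), (nat_lit 3, nat_lit 0x800000000000000000000008c000000000000000000000000200000000122000000), (nat_lit 4, nat_lit 0x10000000000000000000000044200000000000000000000000400000000104000000), (nat_lit 8, nat_lit 0x1000000000000000000000000842000000000000000000000040000000001c1000000)]),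
 ([nat_lit 2, nat_lit 4, nat_lit 4], [([], nat_lit 30, [nat_lit 4]), ([nat_lit 6, nat_lit 4], nat_lit 30, []), ([nat_lit 6], nat_lit 52, [nat_lit 4, nat_lit 2]), ([nat_lit 6, nat_lit 6], nat_lit 8, [nat_lit 2]), ([], nat_lit 12, [nat_lit 2]), ([nat_lit 2], nat_lit 9, [])], [(nat_lit 0, nat_lit 0x19c00000000000000000000000000004c200000000000000000000000040000000000000000), (nat_lit 1, nat_lit 0x1048000000000000000000000000000c0000000000000000000000000080000100000000000), (nat_lit 2, nat_lit 0x89000000000000000000000000000064800000000000000000000000100004000000000000), (nat_lit 3, nat_lit 0x10a0000000000000000000000000000d5000000000000000000000000200004000000000000)]),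
 ([nat_lit 3, nat_lit 4, nat_lit 5], [([], nat_lit 32, [nat_lit 5]), ([nat_lit 4], nat_lit 40, []), ([], nat_lit 42, [nat_lit 3]), ([nat_lit 5], nat_lit 33, []), ([], nat_lit 41, [nat_lit 4]), ([nat_lit 3], nat_lit 43, [])], [(nat_lit 2, nat_lit 0x21e7040000000021100000000000000000000000000000000000000000000)]),
 ([nat_lit 3, nat_lit 4, nat_lit 6], [([], nat_lit 32, [nat_lit 6]), ([nat_lit 4], nat_lit 50, []), ([], nat_lit 52, [nat_lit 3]), ([nat_lit 6], nat_lit 33, []), ([], nat_lit 51, [nat_lit 4]), ([nat_lit 3], nat_lit 53, [])], [(nat_lit 2, nat_lit 0x10f382000000000000000000000022000000000000000000000000000000000000000000000)]),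
 ([nat_lit 3, nat_lit 5, nat_lit 6], [([], nat_lit 40, [nat_lit 6]), ([nat_lit 5], nat_lit 50, []), ([], nat_lit 54, [nat_lit 3]), ([nat_lit 6], nat_lit 41, []), ([], nat_lit 51, [nat_lit 5]), ([nat_lit 3], nat_lit 55, [])], [(nat_lit 2, nat_lit 0x87800108800000000002200000000000000000000000000000000000000000000000000000000)]),
 ([nat_lit 4, nat_lit 5, nat_lit 6], [([], nat_lit 42, [nat_lit 6]), ([nat_lit 5], nat_lit 52, []), ([], nat_lit 54, [nat_lit 4]), ([nat_lit 6], nat_lit 43, []), ([], nat_lit 53, [nat_lit 5]), ([nat_lit 4], nat_lit 55, [])], [(nat_lit 2, nat_lit 0xe0884400000000001100000000000000000000000000000000000000000000000000000000000)]),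
 ([nat_lit 1, nat_lit 3, nat_lit 5], [([], nat_lit 22, [nat_lit 5]), ([nat_lit 6, nat_lit 3], nat_lit 36, []), ([nat_lit 6], nat_lit 40, [nat_lit 1]), ([], nat_lit 55, [nat_lit 3, nat_lit 1]), ([nat_lit 5], nat_lit 23, []), ([], nat_lit 37, [nat_lit 3]), ([nat_lit 1], nat_lit 41, [])], [(nat_lit 1, nat_lit 0x400000000000000000410010400000000000000000c00000000000000000000000000000000), (nat_lit 2, nat_lit 0x800000000000000000410008300000000000000000422000000000000000000000000000000), (nat_lit 3, nat_lit 0x1000000000000000006700010300000000000000000822000000000000000000000000000000)]),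
 ([nat_lit 2, nat_lit 3, nat_lit 5], [([], nat_lit 24, [nat_lit 5]), ([nat_lit 6, nat_lit 5, nat_lit 3], nat_lit 38, []), ([nat_lit 6, nat_lit 5], nat_lit 40, [nat_lit 2]), ([], nat_lit 55, [nat_lit 5, nat_lit 3, nat_lit 2]), ([nat_lit 5], nat_lit 25, []), ([], nat_lit 39, [nat_lit 3]), ([nat_lit 2], nat_lit 41, [])], [(nat_lit 1, nat_lit 0x400000000000000002114200000000000000000600000000000000000000000000000000000), (nat_lit 2, nat_lit 0x8000000000000000060041a0000000000000000211000000000000000000000000000000000), (nat_lit 4, nat_lit 0x2000000000000000006314200000000000000000410000000000000000000000000000000000), (nat_lit 5, nat_lit 0x4000000000000000000400e20000000000000000261000000000000000000000000000000000), (nat_lit 7, nat_lit 0x10000000000000000002117220000000000000000411000000000000000000000000000000000)]),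
 ([nat_lit 2, nat_lit 3, nat_lit 6], [([], nat_lit 24, [nat_lit 6]), ([nat_lit 6, nat_lit 5, nat_lit 3], nat_lit 48, []), ([nat_lit 6, nat_lit 5], nat_lit 50, [nat_lit 2]), ([nat_lit 6], nat_lit 54, [nat_lit 3, nat_lit 2]), ([nat_lit 6], nat_lit 25, []), ([], nat_lit 49, [nat_lit 3]), ([nat_lit 2], nat_lit 51, [])], [(nat_lit 2, nat_lit 0x4480030020d000000000000000000000000000000220000000000000000000000000000000000)]),
 ([nat_lit 2, nat_lit 4, nat_lit 5], [([], nat_lit 30, [nat_lit 5]), ([nat_lit 6, nat_lit 4], nat_lit 38, []), ([nat_lit 6], nat_lit 42, [nat_lit 2]), ([], nat_lit 55, [nat_lit 4, nat_lit 2]), ([nat_lit 5], nat_lit 31, []), ([], nat_lit 39, [nat_lit 4]), ([nat_lit 2], nat_lit 43, [])], [(nat_lit 2, nat_lit 0x800000000000001300006480000000042200000000000000000000000000000000000000000)]),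
 ([nat_lit 7, nat_lit 6, nat_lit 5, nat_lit 4, nat_lit 6], [([nat_lit 7, nat_lit 6, nat_lit 5], nat_lit 52, []), ([nat_lit 7, nat_lit 6], nat_lit 54, [nat_lit 4]), ([], nat_lit 62, [nat_lit 6, nat_lit 5, nat_lit 4]), ([nat_lit 0], nat_lit 60, []), ([], nat_lit 44, [nat_lit 7]), ([nat_lit 6], nat_lit 63, []), ([], nat_lit 61, [nat_lit 6])], [(nat_lit 0, nat_lit 0xce314400000302e4400000000004000000000000000000000000000000000000000000000000000000000000), (nat_lit 3, nat_lit 0x84108000000134a2800000000020000000000000000000000000000000000000000000000000000000000000)]),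
 ([nat_lit 0, nat_lit 1, nat_lit 6], [([], nat_lit 14, [nat_lit 6]), ([nat_lit 5, nat_lit 2, nat_lit 1], nat_lit 44, []), ([nat_lit 5, nat_lit 2], nat_lit 46, [nat_lit 0]), ([nat_lit 5], nat_lit 48, [nat_lit 1, nat_lit 0]), ([], nat_lit 54, [nat_lit 2, nat_lit 1, nat_lit 0]), ([nat_lit 6], nat_lit 15, []), ([], nat_lit 45, [nat_lit 1]), ([nat_lit 0], nat_lit 47, [])], [(nat_lit 0, nat_lit 0x2000000018a39c400000000000000000000000000000000000000ce20000000000000000000), (nat_lit 1, nat_lit 0x400000602486940000000000000000000000000000000000000008200000000000000000000), (nat_lit 2, nat_lit 0x800000215a0c0c0000000000000000000000000000000000000004400000000000000000000), (nat_lit 3, nat_lit 0x1000000419c001c0000000000000000000000000000000000000008400000000000000000000), (nat_lit 4, nat_lit 0x2000000400486880000000000000000000000000000000000000004200000000000000000000)]),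
 ([nat_lit 0, nat_lit 2, nat_lit 5], [([], nat_lit 16, [nat_lit 5]), ([nat_lit 6, nat_lit 2], nat_lit 34, []), ([nat_lit 6], nat_lit 48, [nat_lit 5, nat_lit 0]), ([nat_lit 6, nat_lit 6], nat_lit 38, [nat_lit 0]), ([nat_lit 6], nat_lit 55, [nat_lit 2, nat_lit 0]), ([nat_lit 6, nat_lit 5], nat_lit 17, []), ([], nat_lit 35, [nat_lit 2]), ([nat_lit 0], nat_lit 39, [])], [(nat_lit 1, nat_lit 0x82400000412000000000008840013000000000000000000000002100000000000000000000000), (nat_lit 2, nat_lit 0x448000002240000000000024c0020880000000000000000000006400000000000000000000000)]),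
 ([nat_lit 0, nat_lit 3, nat_lit 6], [([], nat_lit 20, [nat_lit 6]), ([nat_lit 5, nat_lit 4, nat_lit 3], nat_lit 44, []), ([nat_lit 5, nat_lit 4], nat_lit 50, [nat_lit 0]), ([nat_lit 5], nat_lit 52, [nat_lit 3, nat_lit 0]), ([], nat_lit 54, [nat_lit 4, nat_lit 3, nat_lit 0]), ([nat_lit 6], nat_lit 21, []), ([], nat_lit 45, [nat_lit 3]), ([nat_lit 0], nat_lit 51, [])], [(nat_lit 0, nat_lit 0x2004208000001c40000000000000000000000000000019c4000000000000000000000000000), (nat_lit 1, nat_lit 0x580829000001040000000000000000000000000000001040000000000000000000000000000), (nat_lit 2, nat_lit 0x885411800000310000000000000000000000000000000880000000000000000000000000000), (nat_lit 3, nat_lit 0x1106454800001520000000000000000000000000000001080000000000000000000000000000), (nat_lit 4, nat_lit 0x2100009800001040000000000000000000000000000000840000000000000000000000000000)]),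
 ([nat_lit 0, nat_lit 4, nat_lit 5], [([], nat_lit 26, [nat_lit 5]), ([nat_lit 6, nat_lit 4], nat_lit 34, []), ([nat_lit 6], nat_lit 52, [nat_lit 5, nat_lit 0]), ([nat_lit 6, nat_lit 6], nat_lit 42, [nat_lit 0]), ([nat_lit 6], nat_lit 55, [nat_lit 4, nat_lit 0]), ([nat_lit 6, nat_lit 5], nat_lit 27, []), ([], nat_lit 35, [nat_lit 4]), ([nat_lit 0], nat_lit 43, [])], [(nat_lit 3, nat_lit 0x8510a000000000002100000000035400000000320000000000000000000000000000000000000)]),
 ([nat_lit 0, nat_lit 1, nat_lit 1], [([], nat_lit 14, [nat_lit 1]), ([nat_lit 5, nat_lit 2, nat_lit 1], nat_lit 14, []), ([nat_lit 5, nat_lit 2], nat_lit 36, [nat_lit 2, nat_lit 1, nat_lit 0]), ([nat_lit 5, nat_lit 2, nat_lit 5], nat_lit 18, [nat_lit 1, nat_lit 0]), ([nat_lit 5, nat_lit 2, nat_lit 5, nat_lit 2], nat_lit 2, [nat_lit 0]), ([nat_lit 5], nat_lit 38, [nat_lit 2, nat_lit 0]), ([nat_lit 5, nat_lit 5], nat_lit 4, [nat_lit 0]), ([], nat_lit 10, [nat_lit 0]), ([nat_lit 0], nat_lit 3, [])], [(nat_lit 1, nat_lit 0xc0580c0000000000000000000000018004a00000100000000a21000),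 (nat_lit 2, nat_lit 0x42b0900000000000000000000000220000600000200000001093000), (nat_lit 3, nat_lit 0x8328a00000000000000000000000240000e00000400000002210000), (nat_lit 4, nat_lit 0x8009000000000000000000000000108004400000800000004009800), (nat_lit 7, nat_lit 0x922a840000000000000000000000608004200004000000020031000), (nat_lit 8, nat_lit 0xe03c000000000000000000000000808004c00008000000040283000)]),
 ([nat_lit 0, nat_lit 2, nat_lit 4], [([], nat_lit 16, [nat_lit 4]), ([nat_lit 6, nat_lit 2], nat_lit 26, []), ([nat_lit 6], nat_lit 48, [nat_lit 4, nat_lit 0]), ([nat_lit 6, nat_lit 6], nat_lit 30, [nat_lit 0]), ([nat_lit 6, nat_lit 6], nat_lit 53, [nat_lit 2, nat_lit 0]), ([nat_lit 6, nat_lit 6, nat_lit 4], nat_lit 17, []), ([nat_lit 6], nat_lit 27, [nat_lit 2]), ([], nat_lit 45, [nat_lit 4, nat_lit 2]), ([nat_lit 0], nat_lit 31, [])], [(nat_lit 1, nat_lit 0x800412000008000000000000000088400338000000000002100000000000000000000000), (nat_lit 3, nat_lit 0x2000428000020000000000000000084000318800000000004880000000000000000000000)]),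
 ([nat_lit 0, nat_lit 3, nat_lit 3], [([], nat_lit 20, [nat_lit 3]), ([nat_lit 5, nat_lit 4, nat_lit 3], nat_lit 20, []), ([nat_lit 5, nat_lit 4], nat_lit 40, [nat_lit 4, nat_lit 3, nat_lit 0]), ([nat_lit 5, nat_lit 4, nat_lit 5], nat_lit 32, [nat_lit 3, nat_lit 0]), ([nat_lit 5, nat_lit 4, nat_lit 5, nat_lit 4], nat_lit 6, [nat_lit 0]), ([nat_lit 5], nat_lit 42, [nat_lit 4, nat_lit 0]), ([nat_lit 5, nat_lit 5], nat_lit 8, [nat_lit 0]), ([], nat_lit 10, [nat_lit 0]), ([nat_lit 0], nat_lit 7, [])], [(nat_lit 0, nat_lit 0xc1100000000411000000000000001c400000000000008018a200000000), (nat_lit 1, nat_lit 0x3014120000000021200000000000001040000000000000100288400000000), (nat_lit 2, nat_lit 0x10a9010000000070000000000000000310000000000000200424c00000000), (nat_lit 3, nat_lit 0x20cc810000000048000000000000001520000000000000400884000000000), (nat_lit 4, nat_lit 0x2000100000000040000000000000001040000000000000801002600000000)]),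
 ([nat_lit 1, nat_lit 2, nat_lit 4], [([], nat_lit 18, [nat_lit 4]), ([nat_lit 2], nat_lit 28, []), ([], nat_lit 38, [nat_lit 4, nat_lit 1]), ([nat_lit 5], nat_lit 30, [nat_lit 1]), ([], nat_lit 54, [nat_lit 4, nat_lit 2, nat_lit 1]), ([nat_lit 6, nat_lit 5, nat_lit 4], nat_lit 19, []), ([nat_lit 6], nat_lit 29, [nat_lit 2]), ([], nat_lit 47, [nat_lit 4, nat_lit 2]), ([nat_lit 1], nat_lit 31, [])], [(nat_lit 1, nat_lit 0x40000000000400000000004000000004a304400000000000000000000000000000000000000), (nat_lit 2, nat_lit 0x80000000000800000000008000000000e098000000000001aa0000000000000000000000000), (nat_lit 3, nat_lit 0x10000000000100000000001000000000c83180000000000006c0000000000000000000000000)])]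
theorem bp1 : allL bP1 (paChk 396 bCB bHP bT bRU) = true := by decide +kernel
noncomputable def bP2 : List Pa := [([nat_lit 1, nat_lit 3, nat_lit 4], [([], nat_lit 22, [nat_lit 4]), ([nat_lit 6, nat_lit 3], nat_lit 28, []), ([nat_lit 6], nat_lit 40, [nat_lit 4, nat_lit 1]), ([nat_lit 6, nat_lit 5], nat_lit 32, [nat_lit 1]), ([], nat_lit 55, [nat_lit 4, nat_lit 3, nat_lit 1]), ([nat_lit 5], nat_lit 53, [nat_lit 3, nat_lit 1]), ([nat_lit 5, nat_lit 4], nat_lit 23, []), ([], nat_lit 29, [nat_lit 3]), ([nat_lit 1], nat_lit 33, [])], [(nat_lit 1, nat_lit 0x580800000000000004120000000064100104000000820000000000000000000000000000000), (nat_lit 2, nat_lit 0x88540000000000000224000000004210008300000020a000000000000000000000000000000), (nat_lit 3, nat_lit 0x1106400000000000004280000000041000103000000912000000000000000000000000000000)]),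
 ([nat_lit 2, nat_lit 2, nat_lit 3], [([], nat_lit 4, [nat_lit 3]), ([], nat_lit 13, [nat_lit 3]), ([nat_lit 6, nat_lit 6], nat_lit 11, [nat_lit 3]), ([nat_lit 6], nat_lit 55, [nat_lit 5, nat_lit 3]), ([nat_lit 6, nat_lit 5, nat_lit 6, nat_lit 5, nat_lit 3], nat_lit 5, []), ([nat_lit 6, nat_lit 5], nat_lit 25, [nat_lit 2]), ([nat_lit 6], nat_lit 39, [nat_lit 3, nat_lit 2]), ([], nat_lit 49, [nat_lit 5, nat_lit 3, nat_lit 2]), ([nat_lit 2], nat_lit 25, [])], [(nat_lit 1, nat_lit 0x82400000002000000000008240000000000000000211000000000000000080100000000000000), (nat_lit 2, nat_lit 0x4480000000400000000000448000000000000000060000000000000000010020000010f000000)]),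
 ([nat_lit 2, nat_lit 3, nat_lit 3], [([], nat_lit 24, [nat_lit 3]), ([nat_lit 6, nat_lit 5, nat_lit 3], nat_lit 24, []), ([nat_lit 6, nat_lit 5], nat_lit 50, [nat_lit 5, nat_lit 3, nat_lit 2]), ([nat_lit 6, nat_lit 5, nat_lit 6], nat_lit 40, [nat_lit 3, nat_lit 2]), ([nat_lit 6, nat_lit 5, nat_lit 6, nat_lit 5], nat_lit 6, [nat_lit 2]), ([nat_lit 6], nat_lit 54, [nat_lit 5, nat_lit 2]), ([nat_lit 6, nat_lit 6], nat_lit 10, [nat_lit 2]), ([], nat_lit 12, [nat_lit 2]), ([nat_lit 2], nat_lit 7, [])], [(nat_lit 1, nat_lit 0x82400109000000000006020000000000000000000210000000000000000080100000200000000), (nat_lit 2, nat_lit 0x4480032200000000000215000000000000000000020d000000000000000100200008000000000), (nat_lit 7, nat_lit 0x16000168000000000004910000000000000000000391000000000000002004000008200000000)]),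
 ([nat_lit 7, nat_lit 6, nat_lit 5, nat_lit 4, nat_lit 6, nat_lit 5, nat_lit 4], [([nat_lit 7, nat_lit 6, nat_lit 5], nat_lit 52, [nat_lit 5, nat_lit 4]), ([nat_lit 7, nat_lit 6, nat_lit 5, nat_lit 6], nat_lit 42, [nat_lit 4]), ([nat_lit 7, nat_lit 6, nat_lit 5, nat_lit 6, nat_lit 5], nat_lit 8, []), ([nat_lit 7, nat_lit 6], nat_lit 54, [nat_lit 5]), ([nat_lit 7, nat_lit 6, nat_lit 6], nat_lit 10, []), ([nat_lit 7], nat_lit 12, []), ([], nat_lit 13, [nat_lit 7]), ([nat_lit 6], nat_lit 61, []), ([], nat_lit 61, [nat_lit 6, nat_lit 5, nat_lit 4])], [(nat_lit 0, nat_lit 0x19c400000302e4400000000000f8000000000000000000000000000000000000000f85f03e000000000000), (nat_lit 3, nat_lit 0x108000000134a28000000000004d000000000000000000000000000000000000000a094528a00000000000)]),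
 ([nat_lit 0, nat_lit 3, nat_lit 5], [([], nat_lit 20, [nat_lit 5]), ([nat_lit 5, nat_lit 4, nat_lit 3], nat_lit 34, []), ([nat_lit 5, nat_lit 4], nat_lit 50, [nat_lit 5, nat_lit 0]), ([nat_lit 5, nat_lit 4, nat_lit 6], nat_lit 40, [nat_lit 0]), ([nat_lit 5], nat_lit 52, [nat_lit 5, nat_lit 3, nat_lit 0]), ([nat_lit 5, nat_lit 6], nat_lit 42, [nat_lit 3, nat_lit 0]), ([], nat_lit 54, [nat_lit 5, nat_lit 4, nat_lit 3, nat_lit 0]), ([nat_lit 6, nat_lit 5], nat_lit 21, []), ([], nat_lit 35, [nat_lit 3]), ([nat_lit 0], nat_lit 41, [])], [(nat_lit 2, nat_lit 0x885480800000003222720000006200000000000000001900000000000000000000000000000)]),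
 ([nat_lit 2, nat_lit 3, nat_lit 4], [([], nat_lit 24, [nat_lit 4]), ([nat_lit 6, nat_lit 5, nat_lit 3], nat_lit 30, []), ([nat_lit 6, nat_lit 5], nat_lit 50, [nat_lit 4, nat_lit 2]), ([nat_lit 6, nat_lit 5, nat_lit 6], nat_lit 32, [nat_lit 2]), ([nat_lit 6], nat_lit 54, [nat_lit 4, nat_lit 3, nat_lit 2]), ([nat_lit 6, nat_lit 6], nat_lit 43, [nat_lit 3, nat_lit 2]), ([nat_lit 6], nat_lit 53, [nat_lit 5, nat_lit 3, nat_lit 2]), ([nat_lit 6, nat_lit 4], nat_lit 25, []), ([], nat_lit 31, [nat_lit 3]), ([nat_lit 2], nat_lit 33, [])], [(nat_lit 2, nat_lit 0x44889322000000000020000000000025141a00000324000000000000000000000000000000000)]),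
 ([nat_lit 0, nat_lit 0, nat_lit 1], [([], nat_lit 0, [nat_lit 1]), ([], nat_lit 13, [nat_lit 1]), ([nat_lit 6, nat_lit 6], nat_lit 11, [nat_lit 1]), ([nat_lit 6], nat_lit 55, [nat_lit 5, nat_lit 1]), ([nat_lit 6, nat_lit 5, nat_lit 6, nat_lit 5], nat_lit 5, [nat_lit 1]), ([nat_lit 6, nat_lit 5, nat_lit 6], nat_lit 39, [nat_lit 2, nat_lit 1]), ([nat_lit 6, nat_lit 5, nat_lit 6, nat_lit 2, nat_lit 5, nat_lit 2, nat_lit 1], nat_lit 1, []), ([nat_lit 6, nat_lit 5, nat_lit 6, nat_lit 2], nat_lit 15, [nat_lit 0]), ([nat_lit 6, nat_lit 5], nat_lit 17, [nat_lit 1, nat_lit 0]), ([], nat_lit 35, [nat_lit 2, nat_lit 1, nat_lit 0]), ([nat_lit 0], nat_lit 15, [])], [(nat_lit 1, nat_lit 0x8240000000000000000000c040000100000000000000000000002124860080100000000800451), (nat_lit 2, nat_lit 0x448000000000000000000042a000020000000000000000000000644a0c0100200000001000261), (nat_lit 3, nat_lit 0x8500000000000000000000832000040000000000000000000000648c000200400000002000250)]),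
 ([nat_lit 0, nat_lit 0, nat_lit 3], [([], nat_lit 0, [nat_lit 3]), ([], nat_lit 13, [nat_lit 3]), ([nat_lit 6, nat_lit 6], nat_lit 11, [nat_lit 3]), ([nat_lit 6], nat_lit 55, [nat_lit 5, nat_lit 3]), ([nat_lit 6, nat_lit 5, nat_lit 6, nat_lit 5], nat_lit 9, [nat_lit 3]), ([nat_lit 6, nat_lit 5, nat_lit 6], nat_lit 43, [nat_lit 4, nat_lit 3]), ([nat_lit 6, nat_lit 5, nat_lit 6, nat_lit 4, nat_lit 5, nat_lit 4, nat_lit 3], nat_lit 1, []), ([nat_lit 6, nat_lit 5, nat_lit 6, nat_lit 4], nat_lit 21, [nat_lit 0]), ([nat_lit 6, nat_lit 5], nat_lit 27, [nat_lit 3, nat_lit 0]), ([], nat_lit 35, [nat_lit 4, nat_lit 3, nat_lit 0]), ([nat_lit 0], nat_lit 21, [])], [(nat_lit 1, nat_lit 0x82400000000000003010000000000100000000109000000148000000000080100200000000000), (nat_lit 2, nat_lit 0x448000000000000010a800000000020000000032200000008c00000000010020040000000043c), (nat_lit 3, nat_lit 0x850000000000000020c80000000004000000003240000002a400000000020040080000000043c)]),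
 ([nat_lit 8, nat_lit 6, nat_lit 2, nat_lit 6, nat_lit 2], [([nat_lit 8, nat_lit 6], nat_lit 48, [nat_lit 2]), ([nat_lit 8, nat_lit 6, nat_lit 6], nat_lit 4, []), ([nat_lit 8], nat_lit 12, []), ([], nat_lit 13, [nat_lit 8]), ([nat_lit 6, nat_lit 6], nat_lit 11, [nat_lit 8]), ([nat_lit 6], nat_lit 55, [nat_lit 5, nat_lit 8]), ([nat_lit 6, nat_lit 5, nat_lit 6, nat_lit 5], nat_lit 3, [nat_lit 8]), ([nat_lit 6, nat_lit 5, nat_lit 6], nat_lit 37, [nat_lit 1, nat_lit 8]), ([nat_lit 6, nat_lit 5], nat_lit 47, [nat_lit 5, nat_lit 1, nat_lit 8]), ([nat_lit 6, nat_lit 5, nat_lit 1], nat_lit 65, []), ([], nat_lit 65, [nat_lit 6, nat_lit 2])], [(nat_lit 1, nat_lit 0x3000000000000824000000444240000000000180800000000000000000000000000000105c0100000105401000), (nat_lit 2, nat_lit 0x421000000000004480000026ac88000000000008540000000000000000000000000000010bc020000010ac02000), (nat_lit 3, nat_lit 0x4100000000000085000000324c90000000000010640000000000000000000000000000014b00400000149004000), (nat_lit 4, nat_lit 0x10000000000040000000026c20000000000010000000000000000000000000000000010580800000101808000),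 (nat_lit 6, nat_lit 0x67100000000000c6200000640080000000000018c40000000000000000000000000000001c4200000000c420000), (nat_lit 7, nat_lit 0x41000000000000160000002825a0000000000012440000000000000000000000000000010c8400000012c840000), (nat_lit 8, nat_lit 0x3000000000000a4000000262aa000000000001c0400000000000000000000000000000040c8000000000c80000)]),
 ([nat_lit 8, nat_lit 6, nat_lit 2, nat_lit 1, nat_lit 6, nat_lit 2, nat_lit 1], [([nat_lit 8, nat_lit 6, nat_lit 2], nat_lit 46, [nat_lit 2, nat_lit 1]), ([nat_lit 8, nat_lit 6, nat_lit 2, nat_lit 6], nat_lit 18, [nat_lit 1]), ([nat_lit 8, nat_lit 6, nat_lit 2, nat_lit 6, nat_lit 2], nat_lit 2, []), ([nat_lit 8, nat_lit 6], nat_lit 48, [nat_lit 2]), ([nat_lit 8, nat_lit 6, nat_lit 6], nat_lit 4, []), ([nat_lit 8], nat_lit 12, []), ([], nat_lit 5, [nat_lit 8]), ([nat_lit 2, nat_lit 2], nat_lit 3, [nat_lit 8]), ([nat_lit 2], nat_lit 19, [nat_lit 1, nat_lit 8]), ([nat_lit 2, nat_lit 1], nat_lit 67, []), ([], nat_lit 67, [nat_lit 6, nat_lit 2, nat_lit 1])], [(nat_lit 0, nat_lit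 0x33880000000000000000000002218a0000000000000000000000000000000000001100000011400000000114628800), (nat_lit 1, nat_lit 0x1108000000000000000000000044008000000000000000000000000000000000001138000010540000000105e0b800), (nat_lit 2, nat_lit 0x228000000000000000000000026a8b40000000000000000000000000000000000012f8000010ac000000010be17800), (nat_lit 3, nat_lit 0x2308000000000000000000000324a28000000000000000000000000000000000001ae000001490000000014b296000)]),
 ([nat_lit 8, nat_lit 6, nat_lit 5, nat_lit 1, nat_lit 6, nat_lit 5, nat_lit 1], [([nat_lit 8, nat_lit 6, nat_lit 5], nat_lit 46, [nat_lit 5, nat_lit 1]), ([nat_lit 8, nat_lit 6, nat_lit 5, nat_lit 6], nat_lit 36, [nat_lit 1]), ([nat_lit 8, nat_lit 6, nat_lit 5, nat_lit 6, nat_lit 5], nat_lit 2, []), ([nat_lit 8, nat_lit 6], nat_lit 54, [nat_lit 5]), ([nat_lit 8, nat_lit 6, nat_lit 6], nat_lit 10, []), ([nat_lit 8], nat_lit 12, []), ([], nat_lit 11, [nat_lit 8]), ([nat_lit 5, nat_lit 5], nat_lit 3, [nat_lit 8]), ([nat_lit 5], nat_lit 37, [nat_lit 1, nat_lit 8]), ([nat_lit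 5, nat_lit 1], nat_lit 69, []), ([], nat_lit 69, [nat_lit 6, nat_lit 5, nat_lit 1])], [(nat_lit 3, nat_lit 0xc000000000000000006480000000028a00000000000d700000000000000000000000000000014929600000000296000)]),
 ([nat_lit 7, nat_lit 6, nat_lit 4, nat_lit 3, nat_lit 6], [([nat_lit 7, nat_lit 6, nat_lit 4], nat_lit 50, []), ([nat_lit 7, nat_lit 6], nat_lit 52, [nat_lit 3]), ([], nat_lit 62, [nat_lit 6, nat_lit 4, nat_lit 3]), ([nat_lit 0], nat_lit 58, []), ([], nat_lit 44, [nat_lit 5, nat_lit 2, nat_lit 0, nat_lit 7]), ([nat_lit 6], nat_lit 34, [nat_lit 2, nat_lit 0, nat_lit 7]), ([nat_lit 6, nat_lit 6, nat_lit 5], nat_lit 16, [nat_lit 0, nat_lit 7]), ([nat_lit 6, nat_lit 6, nat_lit 5, nat_lit 6, nat_lit 2], nat_lit 0, [nat_lit 7]), ([nat_lit 6, nat_lit 6], nat_lit 54, [nat_lit 2, nat_lit 7]), ([nat_lit 6], nat_lit 12, [nat_lit 5, nat_lit 2, nat_lit 7]), ([nat_lit 6, nat_lit 5, nat_lit 2], nat_lit 1, [nat_lit 7]), ([nat_lit 6, nat_lit 5, nat_lit 2, nat_lit 0], nat_lit 63, []), ([], nat_lit 59, [nat_lit 6])], [(nat_lit 0,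 nat_lit 0x4400022880000260506800000004000000000033800000000000000000000000010019c00000000000000000), (nat_lit 3, nat_lit 0x4400021000001026945000000020000000000021400000000000000000000004190010a00000000000000000)]),
 ([nat_lit 8, nat_lit 6, nat_lit 2, nat_lit 6, nat_lit 2, nat_lit 1], [([nat_lit 8, nat_lit 6, nat_lit 2, nat_lit 6], nat_lit 19, []), ([nat_lit 8, nat_lit 6, nat_lit 2], nat_lit 47, [nat_lit 2]), ([], nat_lit 66, [nat_lit 6, nat_lit 2]), ([nat_lit 2, nat_lit 1], nat_lit 64, []), ([nat_lit 2], nat_lit 46, [nat_lit 5, nat_lit 1, nat_lit 8]), ([nat_lit 2, nat_lit 6], nat_lit 36, [nat_lit 1, nat_lit 8]), ([nat_lit 2, nat_lit 6, nat_lit 5], nat_lit 2, [nat_lit 8]), ([], nat_lit 48, [nat_lit 5, nat_lit 8]), ([nat_lit 6], nat_lit 38, [nat_lit 8]), ([nat_lit 6, nat_lit 5, nat_lit 2], nat_lit 3, [nat_lit 8]), ([nat_lit 6, nat_lit 5], nat_lit 19, [nat_lit 1, nat_lit 8]), ([nat_lit 6, nat_lit 5, nat_lit 1], nat_lit 67, []), ([], nat_lit 65, [nat_lit 6, nat_lit 2, nat_lit 1])], [(nat_lit 1, nat_lit 0x18221000000000000000000000200e0000000082498800000000000000000000001b0000000000000000000000000),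 (nat_lit 4, nat_lit 0x84100000000000000000000100ee0000000040110000000000000000000000020b8000000000000000000000000)]),
 ([nat_lit 8, nat_lit 6, nat_lit 2, nat_lit 6, nat_lit 5, nat_lit 1], [([nat_lit 8, nat_lit 6], nat_lit 48, [nat_lit 5, nat_lit 1]), ([nat_lit 8, nat_lit 6, nat_lit 6], nat_lit 38, [nat_lit 1]), ([nat_lit 8, nat_lit 6], nat_lit 55, [nat_lit 2, nat_lit 1]), ([nat_lit 8, nat_lit 6, nat_lit 5, nat_lit 6], nat_lit 19, []), ([nat_lit 8, nat_lit 6, nat_lit 5], nat_lit 47, [nat_lit 2]), ([], nat_lit 68, [nat_lit 6, nat_lit 2]), ([nat_lit 5, nat_lit 1], nat_lit 64, []), ([nat_lit 5], nat_lit 46, [nat_lit 5, nat_lit 1, nat_lit 8]), ([nat_lit 5, nat_lit 6], nat_lit 36, [nat_lit 1, nat_lit 8]), ([nat_lit 5, nat_lit 6, nat_lit 5], nat_lit 2, [nat_lit 8]), ([], nat_lit 54, [nat_lit 5, nat_lit 8]), ([nat_lit 6, nat_lit 5, nat_lit 5], nat_lit 3, [nat_lit 8]), ([nat_lit 6, nat_lit 5], nat_lit 37, [nat_lit 1, nat_lit 8]), ([nat_lit 6, nat_lit 5, nat_lit 1], nat_lit 69, []), ([], nat_lit 65, [nat_lit 6, nat_lit 5, nat_lit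 1])], [(nat_lit 1, nat_lit 0xc0004200000000000008c0000004444c0000000082a0000000000000000000000003020000000000000000000000000)])]
theorem bp2 : allL bP2 (paChk 396 bCB bHP bT bRU) = true := by decide +kernel
noncomputable def bP3 : List Pa := [([nat_lit 7, nat_lit 6, nat_lit 4, nat_lit 3, nat_lit 6, nat_lit 5, nat_lit 4], [([nat_lit 7, nat_lit 6, nat_lit 4], nat_lit 50, [nat_lit 5, nat_lit 4]), ([nat_lit 7, nat_lit 6, nat_lit 4, nat_lit 6], nat_lit 40, [nat_lit 4]), ([nat_lit 7, nat_lit 6, nat_lit 4, nat_lit 6, nat_lit 5], nat_lit 32, []), ([nat_lit 7, nat_lit 6], nat_lit 52, [nat_lit 5, nat_lit 4, nat_lit 3]), ([nat_lit 7, nat_lit 6, nat_lit 6], nat_lit 42, [nat_lit 4, nat_lit 3]), ([nat_lit 7, nat_lit 6, nat_lit 6, nat_lit 5], nat_lit 8, [nat_lit 3]), ([nat_lit 7, nat_lit 6], nat_lit 55, [nat_lit 3]), ([nat_lit 7, nat_lit 6, nat_lit 5, nat_lit 6], nat_lit 9, [nat_lit 3]), ([nat_lit 7, nat_lit 6, nat_lit 5], nat_lit 53, [nat_lit 4, nat_lit 3]), ([], nat_lit 60, [nat_lit 6, nat_lit 4, nat_lit 3]), ([nat_lit 6], nat_lit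 58, []), ([nat_lit 6], nat_lit 55, [nat_lit 2, nat_lit 0, nat_lit 7]), ([nat_lit 6, nat_lit 5], nat_lit 49, [nat_lit 0, nat_lit 7]), ([nat_lit 6, nat_lit 5, nat_lit 2], nat_lit 45, [nat_lit 7]), ([nat_lit 6, nat_lit 5, nat_lit 2, nat_lit 0], nat_lit 61, []), ([], nat_lit 59, [nat_lit 6, nat_lit 5, nat_lit 4])], [(nat_lit 0, nat_lit 0x88338800fe284106e700019c1f006c0000000027c00000000000000000000000000000000000000000000), (nat_lit 3, nat_lit 0x88210000964841456480018214509a0000000028a00000000000000000000000000000000000000000000)]),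
 ([nat_lit 0, nat_lit 1, nat_lit 4], [([], nat_lit 14, [nat_lit 4]), ([nat_lit 5, nat_lit 2, nat_lit 1], nat_lit 26, []), ([nat_lit 5, nat_lit 2], nat_lit 46, [nat_lit 4, nat_lit 0]), ([nat_lit 5, nat_lit 2, nat_lit 6], nat_lit 28, [nat_lit 0]), ([nat_lit 5], nat_lit 48, [nat_lit 5, nat_lit 4, nat_lit 1, nat_lit 0]), ([nat_lit 5, nat_lit 6], nat_lit 38, [nat_lit 4, nat_lit 1, nat_lit 0]), ([nat_lit 5, nat_lit 6, nat_lit 5], nat_lit 30, [nat_lit 1, nat_lit 0]), ([nat_lit 5, nat_lit 6], nat_lit 54, [nat_lit 4, nat_lit 2, nat_lit 1, nat_lit 0]), ([nat_lit 5], nat_lit 12, [nat_lit 5, nat_lit 4, nat_lit 2, nat_lit 1, nat_lit 0]), ([], nat_lit 10, [nat_lit 4, nat_lit 2, nat_lit 1, nat_lit 0]), ([], nat_lit 13, [nat_lit 4, nat_lit 2, nat_lit 1, nat_lit 0]), ([nat_lit 6, nat_lit 6], nat_lit 11, [nat_lit 4, nat_lit 2, nat_lit 1, nat_lit 0]), ([nat_lit 6], nat_lit 55, [nat_lit 5, nat_lit 4, nat_lit 2, nat_lit 1, nat_lit 0]), ([nat_lit 6, nat_lit 5, nat_lit 6], nat_lit 43, [nat_lit 2, nat_lit 1, nat_lit 0]), ([nat_lit 6, nat_lit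 5, nat_lit 6, nat_lit 4], nat_lit 15, []), ([nat_lit 6, nat_lit 5], nat_lit 27, [nat_lit 1]), ([], nat_lit 35, [nat_lit 4, nat_lit 1]), ([nat_lit 0], nat_lit 29, [])], [(nat_lit 1, nat_lit 0xc0000000602c06003010004240000100082408820000000000000008218000000000000000000), (nat_lit 2, nat_lit 0x8c0000002158480010a800c8800002000449c9b380000000000000020a8440000000000000000), (nat_lit 3, nat_lit 0x4c0000004194500020c800c900000400085088318000000000000009130440000000000000000)]),
 ([nat_lit 0, nat_lit 2, nat_lit 3], [([], nat_lit 16, [nat_lit 3]), ([nat_lit 6, nat_lit 2], nat_lit 20, []), ([nat_lit 6], nat_lit 38, [nat_lit 4, nat_lit 3, nat_lit 0]), ([nat_lit 6, nat_lit 5], nat_lit 30, [nat_lit 3, nat_lit 0]), ([nat_lit 6, nat_lit 5, nat_lit 6, nat_lit 4], nat_lit 24, [nat_lit 0]), ([nat_lit 6, nat_lit 5, nat_lit 6], nat_lit 52, [nat_lit 5, nat_lit 3, nat_lit 2, nat_lit 0]), ([nat_lit 6, nat_lit 5, nat_lit 6, nat_lit 6], nat_lit 42, [nat_lit 3, nat_lit 2, nat_lit 0]), ([nat_lit 6, nat_lit 5], nat_lit 12, [nat_lit 5, nat_lit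 4, nat_lit 3, nat_lit 2, nat_lit 0]), ([nat_lit 6], nat_lit 10, [nat_lit 4, nat_lit 3, nat_lit 2, nat_lit 0]), ([nat_lit 6], nat_lit 13, [nat_lit 4, nat_lit 3, nat_lit 2, nat_lit 0]), ([nat_lit 6, nat_lit 6, nat_lit 6], nat_lit 11, [nat_lit 4, nat_lit 3, nat_lit 2, nat_lit 0]), ([nat_lit 6, nat_lit 6], nat_lit 55, [nat_lit 5, nat_lit 4, nat_lit 3, nat_lit 2, nat_lit 0]), ([nat_lit 6, nat_lit 6, nat_lit 5], nat_lit 55, [nat_lit 4, nat_lit 3, nat_lit 2, nat_lit 0]), ([nat_lit 6, nat_lit 6, nat_lit 5, nat_lit 5], nat_lit 53, [nat_lit 3, nat_lit 2, nat_lit 0]), ([nat_lit 6, nat_lit 6, nat_lit 5, nat_lit 5, nat_lit 4], nat_lit 51, [nat_lit 2, nat_lit 0]), ([nat_lit 6, nat_lit 6, nat_lit 5, nat_lit 5, nat_lit 4, nat_lit 3], nat_lit 17, []), ([nat_lit 6, nat_lit 6, nat_lit 5], nat_lit 21, [nat_lit 2]), ([nat_lit 6], nat_lit 35, [nat_lit 3, nat_lit 2]), ([], nat_lit 45, [nat_lit 5, nat_lit 3, nat_lit 2]), ([nat_lit 0], nat_lit 25, [])], [(nat_lit 1, nat_lit 0xc0180109000000009090008240020900042400000052001180002100018000000000000000000)]),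
 ([nat_lit 7, nat_lit 6, nat_lit 4, nat_lit 3, nat_lit 6, nat_lit 4, nat_lit 3], [([nat_lit 7, nat_lit 6, nat_lit 4], nat_lit 50, [nat_lit 4, nat_lit 3]), ([nat_lit 7, nat_lit 6, nat_lit 4, nat_lit 6], nat_lit 32, [nat_lit 3]), ([nat_lit 7, nat_lit 6, nat_lit 4, nat_lit 6, nat_lit 4], nat_lit 6, []), ([nat_lit 7, nat_lit 6], nat_lit 52, [nat_lit 4]), ([nat_lit 7, nat_lit 6, nat_lit 6], nat_lit 8, []), ([nat_lit 7], nat_lit 12, []), ([], nat_lit 13, [nat_lit 7]), ([nat_lit 6, nat_lit 6], nat_lit 11, [nat_lit 7]), ([nat_lit 6], nat_lit 55, [nat_lit 5, nat_lit 7]), ([nat_lit 6, nat_lit 5, nat_lit 6, nat_lit 5], nat_lit 5, [nat_lit 7]), ([nat_lit 6, nat_lit 5, nat_lit 6], nat_lit 39, [nat_lit 2, nat_lit 7]), ([nat_lit 6, nat_lit 5], nat_lit 49, [nat_lit 5, nat_lit 2, nat_lit 7]), ([nat_lit 6, nat_lit 5, nat_lit 2, nat_lit 6], nat_lit 13, [nat_lit 5, nat_lit 2, nat_lit 7]), ([nat_lit 6, nat_lit 5, nat_lit 2, nat_lit 6, nat_lit 6], nat_lit 55, [nat_lit 2, nat_lit 7]), ([nat_lit 6, nat_lit 5, nat_lit 2, nat_lit 6, nat_lit 6,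 nat_lit 5, nat_lit 6, nat_lit 2], nat_lit 1, [nat_lit 7]), ([nat_lit 6, nat_lit 5, nat_lit 2, nat_lit 6, nat_lit 6, nat_lit 5], nat_lit 17, [nat_lit 0, nat_lit 7]), ([nat_lit 6, nat_lit 5, nat_lit 2, nat_lit 6], nat_lit 35, [nat_lit 2, nat_lit 0, nat_lit 7]), ([nat_lit 6, nat_lit 5, nat_lit 2], nat_lit 45, [nat_lit 5, nat_lit 2, nat_lit 0, nat_lit 7]), ([nat_lit 6, nat_lit 5, nat_lit 2, nat_lit 0], nat_lit 59, []), ([], nat_lit 59, [nat_lit 6, nat_lit 4, nat_lit 3])], [(nat_lit 3, nat_lit 0x11000044026945648001820000008320011409a00000000000000000002190002a80428a51402000008)]),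
 ([nat_lit 0, nat_lit 1, nat_lit 3], [([], nat_lit 14, [nat_lit 3]), ([nat_lit 5, nat_lit 2, nat_lit 1], nat_lit 20, []), ([nat_lit 5, nat_lit 2], nat_lit 36, [nat_lit 4, nat_lit 3, nat_lit 0]), ([nat_lit 5, nat_lit 2, nat_lit 5], nat_lit 28, [nat_lit 3, nat_lit 0]), ([nat_lit 5, nat_lit 2, nat_lit 5, nat_lit 5, nat_lit 4], nat_lit 22, [nat_lit 0]), ([nat_lit 5, nat_lit 2, nat_lit 5, nat_lit 5], nat_lit 52, [nat_lit 3, nat_lit 1, nat_lit 0]), ([nat_lit 5, nat_lit 2, nat_lit 5], nat_lit 54, [nat_lit 4, nat_lit 3, nat_lit 1, nat_lit 0]), ([nat_lit 5, nat_lit 2], nat_lit 54, [nat_lit 5, nat_lit 4, nat_lit 3, nat_lit 1, nat_lit 0]), ([nat_lit 5, nat_lit 2, nat_lit 6], nat_lit 10, [nat_lit 4, nat_lit 3, nat_lit 1, nat_lit 0]), ([nat_lit 5], nat_lit 48, [nat_lit 4, nat_lit 3, nat_lit 1, nat_lit 0]), ([nat_lit 5, nat_lit 6], nat_lit 30, [nat_lit 3, nat_lit 1, nat_lit 0]), ([nat_lit 5, nat_lit 6, nat_lit 6, nat_lit 4], nat_lit 24, [nat_lit 1, nat_lit 0]), ([nat_lit 5, nat_lit 6, nat_lit 6], nat_lit 52, [nat_lit 5, nat_lit 3,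 nat_lit 2, nat_lit 1, nat_lit 0]), ([nat_lit 5, nat_lit 6, nat_lit 6, nat_lit 6], nat_lit 42, [nat_lit 3, nat_lit 2, nat_lit 1, nat_lit 0]), ([nat_lit 5, nat_lit 6], nat_lit 12, [nat_lit 5, nat_lit 4, nat_lit 3, nat_lit 2, nat_lit 1, nat_lit 0]), ([], nat_lit 54, [nat_lit 5, nat_lit 4, nat_lit 3, nat_lit 2, nat_lit 1, nat_lit 0]), ([nat_lit 6, nat_lit 5], nat_lit 43, [nat_lit 3, nat_lit 2, nat_lit 1, nat_lit 0]), ([nat_lit 6, nat_lit 5, nat_lit 4], nat_lit 41, [nat_lit 2, nat_lit 1, nat_lit 0]), ([nat_lit 6, nat_lit 5, nat_lit 4, nat_lit 3], nat_lit 15, []), ([nat_lit 6], nat_lit 21, [nat_lit 1]), ([], nat_lit 45, [nat_lit 3, nat_lit 1]), ([nat_lit 0], nat_lit 23, [])], [(nat_lit 1, nat_lit 0xc04004006020000080000200180c0000042400c004128879000000000084a3100000000000000), (nat_lit 2, nat_lit 0x8c98c4002150000100035000109000000c881100010180484000000d0b9130200000000000000)])]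
theorem bp3 : allL bP3 (paChk 396 bCB bHP bT bRU) = true := by decide +kernel
noncomputable def bΦ : Tr ℕ := (.node (nat_lit 38) (.node (nat_lit 19) (.node (nat_lit 9) (.node (nat_lit 4) (.node (nat_lit 2) (.node (nat_lit 1) (.leaf (nat_lit 0x35000000000001300000000000024000000000000000000000000000000000000000000000000)) (.leaf (nat_lit 0x34450000508001400800008000028000080000000000000000000000000000000000000000400))) (.node (nat_lit 3) (.leaf (nat_lit 0x45002050800140080100800000c008080000240000000600000000000000000000000000000)) (.leaf (nat_lit 0x244102e0108000000000000000024000000100000000001400000000000000000000000000000))))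
 (.node (nat_lit 6) (.node (nat_lit 5) (.leaf (nat_lit 0x145000050800142080000800000c000080000000000000000000000000000000000000000000)) (.leaf (nat_lit 0xa5000000108000020000000000000000000000000000000000000000000000000000000000000))) (.node (nat_lit 7) (.leaf (nat_lit 0x91450000400001420800008000028000080000000000000000000000000000000000000000000)) (.node (nat_lit 8) (.leaf (nat_lit 0x345222e0400001200800008000028000080100240000001400000000000000000000000000000)) (.leaf (nat_lit 0x0))))))
 (.node (nat_lit 14) (.node (nat_lit 11) (.node (nat_lit 10) (.leaf (nat_lit 0xa5000000108001220000000000000000000000000000000000000000000000000000000000000)) (.leaf (nat_lit 0x0))) (.node (nat_lit 12) (.leaf (nat_lit 0xb9000000088b00000000008004000000000000000000000000000000000000000000000000000)) (.node (nat_lit 13) (.leaf (nat_lit 0x1432000108a8012080000800000c000000100000000000000000008000000000000000000000)) (.leaf (nat_lit 0xb9022000180800000000008004000000000040000000000000000000000000000000000000000)))))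
 (.node (nat_lit 16) (.node (nat_lit 15) (.leaf (nat_lit 0x89000040488b0122080100000400c000080020000000200000000000000000000000000000000)) (.leaf (nat_lit 0x30400000108300000000000000000000000000000000000000000000000000000000000000000))) (.node (nat_lit 17) (.leaf (nat_lit 0x21000000108200000000000000000000000000000000000000000000000000000000000000000)) (.node (nat_lit 18) (.leaf (nat_lit 0x89400000088180000000008004000000000000000000000000000000000000000000000000000)) (.leaf (nat_lit 0x9003202048830122080000800000c000000100000400200000000000000000000000000000000)))))))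
 (.node (nat_lit 28) (.node (nat_lit 23) (.node (nat_lit 21) (.node (nat_lit 20) (.leaf (nat_lit 0x0)) (.leaf (nat_lit 0xa5000000000b00000000000000000000000000000000000000000000000000000000000000000))) (.node (nat_lit 22) (.leaf (nat_lit 0x0)) (.leaf (nat_lit 0xbd00000050800000000000a000000000000000000000000000000000000000000000000000000))))
 (.node (nat_lit 25) (.node (nat_lit 24) (.leaf (nat_lit 0x8800000054800010000000a000024000000000000000000000004000000000000000000000000)) (.leaf (nat_lit 0x1017200018898070000000200402400002014000000000000000000a000000000000000000000))) (.node (nat_lit 26) (.leaf (nat_lit 0xac17226048098070000000800402400009014000010000000000000a000000000000000000000)) (.node (nat_lit 27) (.leaf (nat_lit 0x180000000000000000000000000000000000000000000000000000000000000000000)) (.leaf (nat_lit 0x8000000000000000000000000000000000000000000000000000000000000000000))))))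
 (.node (nat_lit 33) (.node (nat_lit 30) (.node (nat_lit 29) (.leaf (nat_lit 0xac40000014000000000000a000000000000000000000000000000000000000000000000000000)) (.leaf (nat_lit 0x9c44026010898070000000800402400008014000010000000000000a000000000000000000000))) (.node (nat_lit 31) (.leaf (nat_lit 0x2044000040098070000000200402400008014000000000000000000a000000000000000000000)) (.node (nat_lit 32) (.leaf (nat_lit 0x11400000580000000000000000000000000000000000000000000000000000000000000000000)) (.leaf (nat_lit 0x0)))))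
 (.node (nat_lit 35) (.node (nat_lit 34) (.leaf (nat_lit 0x350322a048800122080000800000c000000100000400000000000000000000000000000000000)) (.leaf (nat_lit 0x3507208000000142080000800000c000080000000400001000000000000000000000000000000))) (.node (nat_lit 36) (.leaf (nat_lit 0xb50102c040000122080000800000c010080000000000000000000000000000000000000000000)) (.node (nat_lit 37) (.leaf (nat_lit 0x1003204050800122080000800000c008080000000000000000000000000000000020000000000)) (.leaf (nat_lit 0x304000c0000000000000000000000000000000000000000000000000000000000000000000000))))))))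
 (.node (nat_lit 57) (.node (nat_lit 47) (.node (nat_lit 42) (.node (nat_lit 40) (.node (nat_lit 39) (.leaf (nat_lit 0xa5000080108000000000000000000000000000000000000000000000000000000000000000000)) (.leaf (nat_lit 0x3503200058000122080000800000c000000100000400000000000000000000000000000000000))) (.node (nat_lit 41) (.leaf (nat_lit 0xa5000080108000000000000000000000000000000000000000000000000000000020000000000)) (.leaf (nat_lit 0x0))))
 (.node (nat_lit 44) (.node (nat_lit 43) (.leaf (nat_lit 0x2c0000000000000000000000000000000000000000000000000000000000000000000000)) (.leaf (nat_lit 0x0))) (.node (nat_lit 45) (.leaf (nat_lit 0x8552200018000122080000800000c000000000000000000000000000000000000000000000000)) (.node (nat_lit 46) (.leaf (nat_lit 0x153200008800000080000800000c000000000200000000000000000000000000000000000000)) (.leaf (nat_lit 0x1117202008800060080100800000c0080000000c0000000600000000000000000000000000000))))))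
 (.node (nat_lit 52) (.node (nat_lit 49) (.node (nat_lit 48) (.leaf (nat_lit 0x215720e008800060080100800000c0008000000c0000000600000000000000000000000000000)) (.leaf (nat_lit 0x30422000000000000000000000000000000000000000000000000000000000000000000000000))) (.node (nat_lit 50) (.leaf (nat_lit 0xb501000040000122080000800000c000080000000000000000000000000000000000000000000)) (.node (nat_lit 51) (.leaf (nat_lit 0x21022000580000000000000000000000080000000000000000000000000000000000000000000)) (.leaf (nat_lit 0x0)))))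
 (.node (nat_lit 54) (.node (nat_lit 53) (.leaf (nat_lit 0x0)) (.leaf (nat_lit 0x122000000000000000000000000000000000000000000000000000000000000000000000000))) (.node (nat_lit 55) (.leaf (nat_lit 0x0)) (.node (nat_lit 56) (.leaf (nat_lit 0xac400000088000000000008000000000000000000000000000000000000000000000000000000)) (.leaf (nat_lit 0x1143200000000000080000000002c000000100000000000000000000000000000000000000000)))))))
 (.node (nat_lit 67) (.node (nat_lit 62) (.node (nat_lit 59) (.node (nat_lit 58) (.leaf (nat_lit 0x2400000018000122000000800000c000000000000000000000000000000000000000000000000)) (.leaf (nat_lit 0x34500060580001220c0100800000c000000000000400000000000000000000000000000000000))) (.node (nat_lit 60) (.leaf (nat_lit 0x8503200018000122080000800000c000000100000000000000000000000000000000000000000)) (.node (nat_lit 61) (.leaf (nat_lit 0xa543200008800122080000800000c000000100000000000000000000000000000000000000000)) (.leaf (nat_lit 0xa1400000180000000000008000000000000000000000000000000000000000000000000000000)))))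
 (.node (nat_lit 64) (.node (nat_lit 63) (.leaf (nat_lit 0x443206058000122080100800000c000000100000400000000000000000000000000000000000)) (.leaf (nat_lit 0x0))) (.node (nat_lit 65) (.leaf (nat_lit 0x3543200018000122080000800000c000000100000000000000000000000000000000000000000)) (.node (nat_lit 66) (.leaf (nat_lit 0x9403200018000122080000800000c000000100000000000000000000000000000000000000000)) (.leaf (nat_lit 0x108000000000000000000000000000000000000000000000000000000000000000000))))))
 (.node (nat_lit 72) (.node (nat_lit 69) (.node (nat_lit 68) (.leaf (nat_lit 0x145000050800160080000800000c000080000000000000000000000000000000000000000000)) (.leaf (nat_lit 0xa445000040000122080000800000c000080000000000000000000000000000000000000000000))) (.node (nat_lit 70) (.leaf (nat_lit 0xb501200040000122080000800000c000080000000000000000000000000000000000000000000)) (.node (nat_lit 71) (.leaf (nat_lit 0x30400000000000000000000000000000000000000000000000000000000000000000000000000)) (.leaf (nat_lit 0xa5000000108000000000000000000000000000000000000000000000000000000000000000000)))))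
 (.node (nat_lit 74) (.node (nat_lit 73) (.leaf (nat_lit 0x0)) (.leaf (nat_lit 0x0))) (.node (nat_lit 75) (.leaf (nat_lit 0x0)) (.node (nat_lit 76) (.leaf (nat_lit 0x11400000000000000000000000000000000000000000000000000000000000000000000000000)) (.leaf (nat_lit 0x0)))))))))
noncomputable def bLT_0 : Tr ℕ := (.node (nat_lit 19) (.node (nat_lit 9) (.node (nat_lit 4) (.node (nat_lit 2) (.node (nat_lit 1) (.leaf (nat_lit 0x14e01f3cc028386d823f47a200988340a719e0390239c1b48db325420)) (.leaf (nat_lit 0x14e01f3cc028386d823f47a200988600a719903d0639c1b4349324422))) (.node (nat_lit 3) (.leaf (nat_lit 0x847d5209ccd8c79192bcc968bd115d2ebad0c4f29db3f20fe08f9b41c9acb053)) (.leaf (nat_lit 0x1808000340000004b00e8036e518170040514000019f331d03))))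
 (.node (nat_lit 6) (.node (nat_lit 5) (.leaf (nat_lit 0x5400000700404000000b92001001)) (.leaf (nat_lit 0x8))) (.node (nat_lit 7) (.leaf (nat_lit 0x14e01f3cc028386d823f47a200988600a719903d0639c1b4349324420)) (.node (nat_lit 8) (.leaf (nat_lit 0x14e01f3d40a83859823f47e900708578f698903d072dc1b4968014920)) (.leaf (nat_lit 0x847d520882d9345d903f4fb09ee5270eb358a4f8ec2af1df83138002809ef47d))))))
 (.node (nat_lit 14) (.node (nat_lit 11) (.node (nat_lit 10) (.leaf (nat_lit 0x1a0000008)) (.leaf (nat_lit 0x0))) (.node (nat_lit 12) (.leaf (nat_lit 0x8800000000004e000074000f0)) (.node (nat_lit 13) (.leaf (nat_lit 0x2105c0014e01e3d68a9386782256c9503c085600698943d4728a2f91631147a8)) (.leaf (nat_lit 0x2170a0000400d01802650180bbc939c00ed82605081704854631109a151118a1)))))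
 (.node (nat_lit 16) (.node (nat_lit 15) (.leaf (nat_lit 0x18b26001ca003bcb80df8758a36d5e403288700ef98927d56332c09c72d30c39)) (.leaf (nat_lit 0x39c2c00080011818003c0000015007101e80000400000004169f1e400c200660))) (.node (nat_lit 17) (.leaf (nat_lit 0x39c2c00080011818003c0000015007101e80000c80000004169bfe400b600650)) (.node (nat_lit 18) (.leaf (nat_lit 0x8800000000004e00007400080)) (.leaf (nat_lit 0x39b2c001ca002bd688ca84182016ace014d070016989439461242440c2714998)))))))
 (.node (nat_lit 28) (.node (nat_lit 23) (.node (nat_lit 21) (.node (nat_lit 20) (.leaf (nat_lit 0x39b2c0008401d81a8a4c02c001e393b01d00000e9817604042bc8a03bf431d01)) (.leaf (nat_lit 0x39c2c00080011818003c0000015007101e80000c80000004169bfe400b600660))) (.node (nat_lit 22) (.leaf (nat_lit 0x39c2c00080011818003c0000015007101e80000400000004169f1e400c200630)) (.leaf (nat_lit 0x100))))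
 (.node (nat_lit 25) (.node (nat_lit 24) (.leaf (nat_lit 0x39bb00014a002bc908e384181a1402e00f085601698923506d682e45ec710e60)) (.leaf (nat_lit 0x39c6400000011800000503e03af123a03d802601800720844f51ae4a2d205118))) (.node (nat_lit 26) (.leaf (nat_lit 0x18bf20000401c81f82750260023bf10035d8260c000040400fe6e1de9df00aa9)) (.node (nat_lit 27) (.leaf (nat_lit 0x39bb00014a002bd100e687582014032011d05601f19e03d43ea82b45db425e99)) (.leaf (nat_lit 0x39bb00014a002bd100e687582014032011d05601f19e03d43ea82b45db425b99))))))
 (.node (nat_lit 33) (.node (nat_lit 30) (.node (nat_lit 29) (.leaf (nat_lit 0x200)) (.leaf (nat_lit 0x210420014e01e3d68a968598182ff3e01750700d69896310618ecf9b718104c9))) (.node (nat_lit 31) (.leaf (nat_lit 0x39c640014e00ebcc0283853823055e401c88700bf19903d07ccdb0034cc247c0)) (.node (nat_lit 32) (.leaf (nat_lit 0x39bb00014a002bd100e687582014032011d05601f19e03d43fa82b45db425b99)) (.leaf (nat_lit 0x39bb00014a002bd100e687582014032011d05601f19e03d43fa82b45db425199)))))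
 (.node (nat_lit 35) (.node (nat_lit 34) (.leaf (nat_lit 0x14e01f3d40a8685983bf47be00750560ae989231472dc1e49560159d1)) (.leaf (nat_lit 0x10c67d4011c400c00d2abec12039115c801180264747fe8631f0cf9b44a690ec50))) (.node (nat_lit 36) (.leaf (nat_lit 0x14e01f0140a8305981ff479548708020f2d880ed372dc1b43b0d0b921)) (.node (nat_lit 37) (.leaf (nat_lit 0x10420002080818022490188001020000600d0036fcce81bccc4002000501f68603)) (.leaf (nat_lit 0x10420002094619f2309a9e859927f47ef48a0834fb630d90db32de1e46bfb61fd2))))))))
noncomputable def bLT_1 : Tr ℕ := (.node (nat_lit 57) (.node (nat_lit 47) (.node (nat_lit 42) (.node (nat_lit 40) (.node (nat_lit 39) (.leaf (nat_lit 0x10420002094619f2309a9b85991df479348a0834f3e309b21f32de1b46b1265f22)) (.leaf (nat_lit 0x14e01f3d40a83859801f47c2007505602698d01d072dc1b4958914921))) (.node (nat_lit 41) (.leaf (nat_lit 0x500003a0007c000000008800422c4000005000e90c0f0)) (.leaf (nat_lit 0x0))))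
 (.node (nat_lit 44) (.node (nat_lit 43) (.leaf (nat_lit 0x10420002094619f2309a9e859927f47ef48a0834fb630d90db72de1e46bfb61fd2)) (.leaf (nat_lit 0x10420002094619f2309a9e859927f47ef48a0834fb630d90db32de1e46bfb65fd2))) (.node (nat_lit 45) (.leaf (nat_lit 0x14e01f3d40a868e9819f47954af887007ec0e235433dc1e4340931ed0)) (.node (nat_lit 46) (.leaf (nat_lit 0x100000000020050b01ba0007c4a88036a889c0c0c40100050196eb47f3)) (.leaf (nat_lit 0x9cbf3e194cd9cdeb3295c268863bf4378f7126b7775b72cbf446e1dd95e2ffa3))))))
 (.node (nat_lit 52) (.node (nat_lit 49) (.node (nat_lit 48) (.leaf (nat_lit 0x18c27c01fe48fdf682aa06c1ccdad2e314f934028e2453eef6576bd10e74bc79)) (.leaf (nat_lit 0x100000000020050001ba0007c8000010a8ccc0c0c40000050bbfea40fb))) (.node (nat_lit 50) (.leaf (nat_lit 0x100000000020050001ba0007c8000010a8c8c0c0c40000050bbfeb40fb)) (.node (nat_lit 51) (.leaf (nat_lit 0x14e01f3d40a868e9819f47954af887007e80e275533dc1e4340935ed0)) (.leaf (nat_lit 0x18c27c11fe48fdf6a2af06c076dad52b14f924aa42e4932af6576edab197fc82)))))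
 (.node (nat_lit 54) (.node (nat_lit 53) (.leaf (nat_lit 0x9cbf3e194cd9cdeb3295c268863bf4378f7126b7775b72cbf446e1dd95e5ffa3)) (.leaf (nat_lit 0x100000000020050001ba0007c8000010a8ccc0c0c40000050bbfe840fb))) (.node (nat_lit 55) (.leaf (nat_lit 0x100000000020050001ba0007c8000010a8ccc0c0c40000050bbfeb40fb)) (.node (nat_lit 56) (.leaf (nat_lit 0x700000)) (.leaf (nat_lit 0x1080003c000a180009a0004a00000540ac89603102000000adf931009)))))))
 (.node (nat_lit 67) (.node (nat_lit 62) (.node (nat_lit 59) (.node (nat_lit 58) (.leaf (nat_lit 0x18c2600080010802882903403b2aaa7013d82603181060c404897a99ad7345f0)) (.leaf (nat_lit 0x18c26000c600f816821206d8b8ded15014882409390f00c4565761d19fc15cd9))) (.node (nat_lit 60) (.leaf (nat_lit 0x4601f0140a27059883f47ce0075002082118204412dc1e483fe209d9)) (.node (nat_lit 61) (.leaf (nat_lit 0x4601f0140a27059883f47ce00750020f2118204412dc1e483fb209d9)) (.leaf (nat_lit 0x7000000000000000000f00000)))))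
 (.node (nat_lit 64) (.node (nat_lit 63) (.leaf (nat_lit 0x18c260008001080288300340012aaed013d8260b9810e004048b7a92164305f1)) (.leaf (nat_lit 0x18c2600080010802882c0340012aa91013d826099817404044897f921b531501))) (.node (nat_lit 65) (.leaf (nat_lit 0x4601f0140a27059883f47ce0075002082118204412dc1e483fb209d9)) (.node (nat_lit 66) (.leaf (nat_lit 0x4601f0140a27059883f47ce0075002082118204412dc1e483fa209d9)) (.leaf (nat_lit 0x880000000000000000e400000))))))
 (.node (nat_lit 72) (.node (nat_lit 69) (.node (nat_lit 68) (.leaf (nat_lit 0x14e01f3d40a86859819f4795007085607e98e235432dc1e42d09119d9)) (.leaf (nat_lit 0x1808000340000006000ed82600981700405140000a12e31d01))) (.node (nat_lit 70) (.leaf (nat_lit 0x14e01f3cc028386d823f47a200988700a719903d0639c1b4349324420)) (.node (nat_lit 71) (.leaf (nat_lit 0x14e01f3d40a86859819f47be0075056026989231472dc1e49524109d1)) (.leaf (nat_lit 0x14e01f3d40a86859819f47be0075056026989231472dc1e49584109d1)))))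
 (.node (nat_lit 74) (.node (nat_lit 73) (.leaf (nat_lit 0x8800000000000000009400000)) (.leaf (nat_lit 0x18080503403a0003700e80260d981020c41140050a2ba34df8))) (.node (nat_lit 75) (.leaf (nat_lit 0x1808000340000004b00e802605181000001140000a2f330d08)) (.node (nat_lit 76) (.leaf (nat_lit 0x14e01f3d40a86859819f47be0075056026989231472dc1e495c4109d1)) (.leaf (nat_lit 0x14e01f3d40a86859819f47be0075056026989231472dc1e49504109d1))))))))
noncomputable def bLT_2 : Tr ℕ := (.node (nat_lit 96) (.node (nat_lit 86) (.node (nat_lit 81) (.node (nat_lit 79) (.node (nat_lit 78) (.leaf (nat_lit 0x14c00e3c9c281818022e375e037885609408607913bc2d2bb65f21348)) (.leaf (nat_lit 0x39bb008042002803c8470418ba1708a01710640aa11f00844ea87b4b2cf25de8))) (.node (nat_lit 80) (.leaf (nat_lit 0x318c26000c503e80c420e16fbb9cddf8df8ae000fbc0f40c049a1972b91c55cae)) (.leaf (nat_lit 0x6e18c260008d01ed5fc74ea7a938d6a0fc3c28120087f647416af7ce2899215e20))))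
 (.node (nat_lit 83) (.node (nat_lit 82) (.leaf (nat_lit 0x14e01f3d48a83859823f774201250560ae98e039037d85b45ddd15c49)) (.leaf (nat_lit 0x200000000000002b00058000d000700405184300f00901f40))) (.node (nat_lit 84) (.leaf (nat_lit 0x201101b88020418011401c030d80005290f0441591e99f706635a10)) (.node (nat_lit 85) (.leaf (nat_lit 0x6a18c2600181010a86059a0539204477e50ca30203582f00501305cc970257142f)) (.leaf (nat_lit 0x0))))))
 (.node (nat_lit 91) (.node (nat_lit 88) (.node (nat_lit 87) (.leaf (nat_lit 0x480000000000002b01558000f0000000005000004bbc00501)) (.leaf (nat_lit 0x0))) (.node (nat_lit 89) (.leaf (nat_lit 0x14e01f3cc028386d823f478901150540ff19903d0629c1b475ce24e21)) (.node (nat_lit 90) (.leaf (nat_lit 0x14e01f3d40a86859819f479501f08640f69892314755c1e48dcd100d0)) (.leaf (nat_lit 0x3007d4181490223c108e397db1bf524adf1067400ec8e23103b6d26f485651f77)))))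
 (.node (nat_lit 93) (.node (nat_lit 92) (.leaf (nat_lit 0x7d42018a0137dd80848fb820e523b1f78e0205528663d43311800fb385527f)) (.leaf (nat_lit 0x1c000208800700405400000e09401900))) (.node (nat_lit 94) (.leaf (nat_lit 0x802400000000000680000425000308)) (.node (nat_lit 95) (.leaf (nat_lit 0x14e01f3cc028386d823f47a200d88540a719903d0701c1b476c324428)) (.leaf (nat_lit 0x7d42018a0537c5888181981ae522702c55b405891147516051850172b04f89)))))))
 (.node (nat_lit 105) (.node (nat_lit 100) (.node (nat_lit 98) (.node (nat_lit 97) (.leaf (nat_lit 0x3007d4181490223c108e697db21f5236de9862c00ec8903947a6d23f5c2b5458e)) (.leaf (nat_lit 0x2b000d82605800700404680000a12d01301))) (.node (nat_lit 99) (.leaf (nat_lit 0x0)) (.leaf (nat_lit 0x101000000000c00))))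
 (.node (nat_lit 102) (.node (nat_lit 101) (.leaf (nat_lit 0x217c0001c8003bdb88d880a0198867d03600720fd8960751213e5727c6c15ee8)) (.leaf (nat_lit 0x21014001cf01f3dc0aad83c0a3e7ee000d587208508643903c3309e377805519))) (.node (nat_lit 103) (.leaf (nat_lit 0x7d400080000000082900a0baa2a9d02b582605100064c50e886a8a12620f51)) (.node (nat_lit 104) (.leaf (nat_lit 0x217c000085009009024b04380351c4301cd02402311844450de9225e9d904b49)) (.leaf (nat_lit 0x217c000085009009024b04380351c4301cd02402311844450ce8229e9d904749))))))
 (.node (nat_lit 110) (.node (nat_lit 107) (.node (nat_lit 106) (.leaf (nat_lit 0x101007000000c70)) (.leaf (nat_lit 0x21014001480093ce828183e01bf01f503450560dc086071133c428a15b025301))) (.node (nat_lit 108) (.leaf (nat_lit 0x210140008200001f802b0758ba1792a01bd8260db90f6084541dcd252f015ba8)) (.node (nat_lit 109) (.leaf (nat_lit 0x217c000085009009024b04380351c4301cd0240ab11844450cecc2ae9ad047b9)) (.leaf (nat_lit 0x217c000085009009024b04380351c4301cd0240ab11844450dedc20e9ad04bc9)))))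
 (.node (nat_lit 112) (.node (nat_lit 111) (.leaf (nat_lit 0x217609f0d40a878580d7f07b0487604607e5240bd952de14478d504979)) (.leaf (nat_lit 0x430380803a020040018c80405f1c07f10ac8cfaeec860020f01c4ff0055))) (.node (nat_lit 113) (.leaf (nat_lit 0x1c2038e8042000078b114804045328c17206e5222c6b21020f050307a758)) (.node (nat_lit 114) (.leaf (nat_lit 0x847d5e288a9937bd9020cfb9b8e5228fb3492411107dab2c63118507406a4481)) (.leaf (nat_lit 0x14e01f3940a86859825f479548708560f6d0d219472dc1e46d6d259d9))))))))
noncomputable def bLT_3 : Tr ℕ := (.node (nat_lit 134) (.node (nat_lit 124) (.node (nat_lit 119) (.node (nat_lit 117) (.node (nat_lit 116) (.leaf (nat_lit 0x14e01f1140a8385981ff479548708020f0b09015072dc1b43bdd11921)) (.leaf (nat_lit 0x217609f0340a828580edf07b000760120167202f1c52de114867124989))) (.node (nat_lit 118) (.leaf (nat_lit 0x0)) (.leaf (nat_lit 0x0))))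
 (.node (nat_lit 121) (.node (nat_lit 120) (.leaf (nat_lit 0x240000500003a0005748058000f048321c44000050b8c1340f8)) (.leaf (nat_lit 0x0))) (.node (nat_lit 122) (.leaf (nat_lit 0x14e01f3d40a8385981bf4fc2007505602698e031032d81b495c911921)) (.node (nat_lit 123) (.leaf (nat_lit 0x882170a0a1320b22fe455b8e61f4394611a83304eadabb0b89025df4dedf644b3c)) (.leaf (nat_lit 0x100003c00018c0163e0487c4800054003613440000040a0ad3b340a9))))))
 (.node (nat_lit 129) (.node (nat_lit 126) (.node (nat_lit 125) (.leaf (nat_lit 0xa12170a0a063092266c85e4a575a31cd99706e76e039276d995a251bdc84961c35)) (.leaf (nat_lit 0xa12170a0a13d08d1aacac50c9971c137b979e606e2fc2d2b0979bd0a9fc58718b5))) (.node (nat_lit 127) (.leaf (nat_lit 0xa12170a0a13d08d1aacac00c9971c2f07979e606ea7c2f0a4d79b95f9fc0170865)) (.node (nat_lit 128) (.leaf (nat_lit 0x14e01f3d40a86859821f7fbe00750560ae98e23d432d81e4958015981)) (.leaf (nat_lit 0x14e01f3cc028686d843f47f5009d0700ff19e21d4639c1e437e3214d9)))))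
 (.node (nat_lit 131) (.node (nat_lit 130) (.leaf (nat_lit 0x0)) (.leaf (nat_lit 0xa12170a0a13d08d1aacac00c9949c1307979e606e2fc280a8d39bd0f9fca575845))) (.node (nat_lit 132) (.leaf (nat_lit 0xa12170a0a13d08d1aacac00c9973c1307979e606ea7c2a0b0d39bd0f9fc6170845)) (.node (nat_lit 133) (.leaf (nat_lit 0x1480003d0080083409a0005f01208560dd08322107a88000adac01209)) (.leaf (nat_lit 0x800000021360bf2f40fa68ca157f07d81b97370034abe0e8c4fe61443ce265b77)))))))
 (.node (nat_lit 144) (.node (nat_lit 139) (.node (nat_lit 136) (.node (nat_lit 135) (.leaf (nat_lit 0x414e01f3d40e8339f823f47e94ac08700f2bb0069047dc1b434a021020)) (.leaf (nat_lit 0x18c26043c8090a6a8c127420852aa8500cd0020d18436e55534b7a92b1a34ef1))) (.node (nat_lit 137) (.leaf (nat_lit 0x9800003a0007c000000008800501c0480a000001a04a00)) (.node (nat_lit 138) (.leaf (nat_lit 0x43c0000000002b03e582605000101441c8a050a10a016f1)) (.leaf (nat_lit 0x1480003d00d188340a00007402c507007508002c46e3a0000c6d01508)))))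
 (.node (nat_lit 141) (.node (nat_lit 140) (.leaf (nat_lit 0x18c260048600f81e820a06d8a0ded3b00800000cb908c3341d9d61dbbdf113d1)) (.leaf (nat_lit 0x0))) (.node (nat_lit 142) (.leaf (nat_lit 0x3c0000000007c00000000200070044480a05000db01af0)) (.node (nat_lit 143) (.leaf (nat_lit 0x0)) (.leaf (nat_lit 0x18080508403a00037da606c4051e9024c51040050acfe40afe))))))
 (.node (nat_lit 149) (.node (nat_lit 146) (.node (nat_lit 145) (.leaf (nat_lit 0x14e01f3cc02838dd823f47891a152c60fb61e0390229c1b47bde5532f)) (.leaf (nat_lit 0x18080008400000060da658d4009e90040110400005afe44a08))) (.node (nat_lit 147) (.leaf (nat_lit 0x14e01f3cc028386d823f47a220988a40a341e0791239c1b46dd311421)) (.node (nat_lit 148) (.leaf (nat_lit 0x2bc405d8005858704414000000bb8d35001)) (.leaf (nat_lit 0xc0000d40041070441400000059e005001)))))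
 (.node (nat_lit 151) (.node (nat_lit 150) (.leaf (nat_lit 0x18080508403a00037de606100dda1724855040050f55a71aff)) (.leaf (nat_lit 0x0))) (.node (nat_lit 152) (.leaf (nat_lit 0x0)) (.node (nat_lit 153) (.leaf (nat_lit 0x2bc00580005c1070441400000003bd05009)) (.leaf (nat_lit 0x0))))))))
noncomputable def bLT_4 : Tr ℕ := (.node (nat_lit 173) (.node (nat_lit 163) (.node (nat_lit 158) (.node (nat_lit 156) (.node (nat_lit 155) (.leaf (nat_lit 0x100001008050500ba030f403ad0240f5087208443d0050a1ae05ea1)) (.leaf (nat_lit 0x1000000004603f01b0a3204b90181a078ec15700f2d8840041a42944b9f410e49))) (.node (nat_lit 157) (.leaf (nat_lit 0x18c26001cf00fbc68aaf88daa2dddf04868072012ca64791348564db41321570)) (.leaf (nat_lit 0x18c26001cf00fbc68ab388d4a2ddd8c48680720328c103d4748761db4c614580))))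
 (.node (nat_lit 160) (.node (nat_lit 159) (.leaf (nat_lit 0x50000ba0003600000000a881724854000050bb64110f1)) (.leaf (nat_lit 0x14e01f3d38a9685982181a4202c5070026989639062da914c4e314fb0))) (.node (nat_lit 161) (.leaf (nat_lit 0x14f01f3c3829480802182ad7016d85407c0816791610a914ddc8201e9)) (.node (nat_lit 162) (.leaf (nat_lit 0x0)) (.leaf (nat_lit 0x0))))))
 (.node (nat_lit 168) (.node (nat_lit 165) (.node (nat_lit 164) (.leaf (nat_lit 0x2001800040570005800077198000000020a003ea200a9)) (.leaf (nat_lit 0x0))) (.node (nat_lit 166) (.leaf (nat_lit 0x14e01f3d40a8681f819f47be012505602290e2755335c1e4953435cd1)) (.node (nat_lit 167) (.leaf (nat_lit 0x14e03f3cc028388d823f47a25288b620a739903d0711c1b47bc374627)) (.leaf (nat_lit 0x14e01f3cc028698b819f47de4b408560a77192715721c1e496ce249d8)))))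
 (.node (nat_lit 170) (.node (nat_lit 169) (.leaf (nat_lit 0x1808052d203a0001c4b35800009897248540c00500373010f9)) (.leaf (nat_lit 0x420000002b000580005c08704414080000031d25009))) (.node (nat_lit 171) (.leaf (nat_lit 0x660000002b03dd8260d408004011180000a1d924d01)) (.node (nat_lit 172) (.leaf (nat_lit 0x14e01f3d40a86809819f4795007085607a90e275523dc1e49639356d8)) (.leaf (nat_lit 0x0)))))))
 (.node (nat_lit 182) (.node (nat_lit 177) (.node (nat_lit 175) (.node (nat_lit 174) (.leaf (nat_lit 0x0)) (.leaf (nat_lit 0x300000002b028d82605800700404100000a12d01701))) (.node (nat_lit 176) (.leaf (nat_lit 0x0)) (.leaf (nat_lit 0x14e09f1b40a9a8e9819f47a302f887006001a055033de1b4274410e29))))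
 (.node (nat_lit 179) (.node (nat_lit 178) (.leaf (nat_lit 0x847d4209c408c2699aa64a219d115ce4b400261b84bbdcfe91cd9b44301cbd50)) (.leaf (nat_lit 0x847d4208b291301d903ac4a8f0e1211c9b88021d31bff9e002118f07247c4321))) (.node (nat_lit 180) (.leaf (nat_lit 0x0)) (.node (nat_lit 181) (.leaf (nat_lit 0x847d4208b291301d903ac4a8f0e1211c9b88021d31bff9e3c2118f07247ca321)) (.leaf (nat_lit 0x847d4209fc90c0099ab9c130ef1558481c8000121c37f732b0cd944494acfa00))))))
 (.node (nat_lit 187) (.node (nat_lit 184) (.node (nat_lit 183) (.leaf (nat_lit 0x801a000198b0006000364a88072092d920b8061020001c4915708)) (.leaf (nat_lit 0x0))) (.node (nat_lit 185) (.leaf (nat_lit 0x0)) (.node (nat_lit 186) (.leaf (nat_lit 0x847d4208b291301d903ac4a8f0e1211c9b88021d31bff1e3c2118f07247ca321)) (.leaf (nat_lit 0x847d4208b291301d903ac4a8f0e1211c9b88021d31bff9e2c2118f07247ce321)))))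
 (.node (nat_lit 189) (.node (nat_lit 188) (.leaf (nat_lit 0x14e01f3cc028386d823f4793009807005f19e0390239c1b4d40625420)) (.leaf (nat_lit 0x18080503403a0002c00ec8720a981020c41140050bbbb34df9))) (.node (nat_lit 190) (.leaf (nat_lit 0x14e01f3cc028686d819f47c4009b86000719e2354239c1e42206214d9)) (.node (nat_lit 191) (.leaf (nat_lit 0x418080708403a0004b1e60e100f3b0820c41040050156644aff)) (.leaf (nat_lit 0x39000580000000700404000000b82001008))))))))
noncomputable def bLT_5 : Tr ℕ := (.node (nat_lit 211) (.node (nat_lit 201) (.node (nat_lit 196) (.node (nat_lit 194) (.node (nat_lit 193) (.leaf (nat_lit 0x1000500005800000000000000585d00008)) (.leaf (nat_lit 0x14e01f3cc028386d823f478000988700d719e0390239c1b48fb225421))) (.node (nat_lit 195) (.leaf (nat_lit 0x0)) (.leaf (nat_lit 0x0))))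
 (.node (nat_lit 198) (.node (nat_lit 197) (.leaf (nat_lit 0x2a000000000000700404000000bb2001001)) (.leaf (nat_lit 0x0))) (.node (nat_lit 199) (.leaf (nat_lit 0x70000000000020a0000c000f0)) (.node (nat_lit 200) (.leaf (nat_lit 0x4601f0138a370598bb8da0802c502407211f608042dc7b4696525f19)) (.leaf (nat_lit 0x1000010080705183b130a303a88240f290f248543d0050a24931ea8))))))
 (.node (nat_lit 206) (.node (nat_lit 203) (.node (nat_lit 202) (.leaf (nat_lit 0x1080003c000a88000a15083a00000540d489123946006050adb8340a9)) (.leaf (nat_lit 0x4701f0040225008083b775b03dd8260d88102445110c1e49ad5147d0))) (.node (nat_lit 204) (.leaf (nat_lit 0x4701f0040225008083b775b03dd8260208102445110af849aad14770)) (.node (nat_lit 205) (.leaf (nat_lit 0xf800000000006ed0007800050)) (.leaf (nat_lit 0x14e01f3d40a8f8598a204ff40075056056199e7d172da1b42e4400920)))))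
 (.node (nat_lit 208) (.node (nat_lit 207) (.leaf (nat_lit 0x0)) (.leaf (nat_lit 0x4701f0040225008083b775b03dd8260a88102445110e1b49ad914720))) (.node (nat_lit 209) (.leaf (nat_lit 0x4701f0040225008083b775b03dd8260d88102445110c1b49ad514720)) (.node (nat_lit 210) (.leaf (nat_lit 0x8000000000a00)) (.leaf (nat_lit 0x14e01f3c4028386d823f478000000540f719e0390200c1b496b725a28)))))))
 (.node (nat_lit 221) (.node (nat_lit 216) (.node (nat_lit 213) (.node (nat_lit 212) (.leaf (nat_lit 0x14e01f3d4028386d823f47f403ad0700df19e03903bfc1b48cb525428)) (.leaf (nat_lit 0x601f0040a67059883f47d7028d82608a1180044012c1e42100207d1))) (.node (nat_lit 214) (.leaf (nat_lit 0x7000000000858000000f00100)) (.node (nat_lit 215) (.leaf (nat_lit 0x7000000000970000000f00400)) (.leaf (nat_lit 0x110000000000400)))))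
 (.node (nat_lit 218) (.node (nat_lit 217) (.leaf (nat_lit 0x1480003d00a848340a00005f012085607508123947a80050ad6d048f9)) (.leaf (nat_lit 0x0))) (.node (nat_lit 219) (.leaf (nat_lit 0x50000000000b00)) (.node (nat_lit 220) (.leaf (nat_lit 0x0)) (.leaf (nat_lit 0x1c0000000007c00000000500072054400205000d4050f0))))))
 (.node (nat_lit 226) (.node (nat_lit 223) (.node (nat_lit 222) (.leaf (nat_lit 0x14601f0140a830598a7f47f4007500208a11f020012dc1b4387d24928)) (.leaf (nat_lit 0x14e09f1b40a98ce9819f47f402fd0700161f2295133de1b424a514e20))) (.node (nat_lit 224) (.leaf (nat_lit 0x17e01f3d40a8345804bf07be007505608b97f01d032de114952e14981)) (.node (nat_lit 225) (.leaf (nat_lit 0x17e09f1b40a990e8053f07f402fd0700bb1060a1933dc114242f10e80)) (.leaf (nat_lit 0x17e09f1b40a9d0e8069f07f402fd0700331040b8d33dc14424eb11e70)))))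
 (.node (nat_lit 228) (.node (nat_lit 227) (.leaf (nat_lit 0x1800003a0007c00000000d800521d44002000001000000)) (.leaf (nat_lit 0x14e01f3d40a82859801f47be007505602698b22a072dc1b495a410921))) (.node (nat_lit 229) (.leaf (nat_lit 0x0)) (.node (nat_lit 230) (.leaf (nat_lit 0x17e09f1b40a990e8053f07f402fd0700bb1062a0933dc114242f14e80)) (.leaf (nat_lit 0x17e09f1b40a990e8053f07f402fd0700bb1060a0933dc114242f14e80))))))))
noncomputable def bLT_6 : Tr ℕ := (.node (nat_lit 250) (.node (nat_lit 240) (.node (nat_lit 235) (.node (nat_lit 233) (.node (nat_lit 232) (.leaf (nat_lit 0x500003a0003600000000a881720844000050bb63350f1)) (.leaf (nat_lit 0x1080003c000a48001200007c000005400449923946000050169d040f8))) (.node (nat_lit 234) (.leaf (nat_lit 0x14e01f3d40a868e9819f47954af887007ec36235433dc1e4340921ed0)) (.leaf (nat_lit 0x4601f0140a27059083f47ce0075002082158244512dc1e483fe249d9))))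
 (.node (nat_lit 237) (.node (nat_lit 236) (.leaf (nat_lit 0x1080003c000a18b089a0005b4a8d8720fcd1e07112100000b7f705709)) (.leaf (nat_lit 0x1080003c000a38b089a0000c4a8807208ac8e03102100000b41601700))) (.node (nat_lit 238) (.leaf (nat_lit 0x700003a0006100058000df99724854000050b887010f8)) (.node (nat_lit 239) (.leaf (nat_lit 0x0)) (.leaf (nat_lit 0x0))))))
 (.node (nat_lit 245) (.node (nat_lit 242) (.node (nat_lit 241) (.leaf (nat_lit 0x1080003c000a18b089a0005b4a8d8720fcd0e07112100000b7f735709)) (.leaf (nat_lit 0x1080003c000a18b089a0005b4a8d8720fcd1607112100000b7f705709))) (.node (nat_lit 243) (.leaf (nat_lit 0x2b00058000d000700404000000e39901009)) (.node (nat_lit 244) (.leaf (nat_lit 0x5400000700404000000bb2001001)) (.leaf (nat_lit 0x5400000700404000000ad2001009)))))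
 (.node (nat_lit 247) (.node (nat_lit 246) (.leaf (nat_lit 0x0)) (.leaf (nat_lit 0x2b00058000d000700404000000f89901008))) (.node (nat_lit 248) (.leaf (nat_lit 0x80000008)) (.node (nat_lit 249) (.leaf (nat_lit 0x0)) (.leaf (nat_lit 0x0)))))))
 (.node (nat_lit 259) (.node (nat_lit 254) (.node (nat_lit 252) (.node (nat_lit 251) (.leaf (nat_lit 0x0)) (.leaf (nat_lit 0x335000009))) (.node (nat_lit 253) (.leaf (nat_lit 0x0)) (.leaf (nat_lit 0x700000000070))))
 (.node (nat_lit 256) (.node (nat_lit 255) (.leaf (nat_lit 0x14e01f3d40a83859823f776900708560f698e039032dc1b42d4015979)) (.leaf (nat_lit 0x14e01f3d38a83859823f771502c08700f698903d062d82b4c7ad14f39))) (.node (nat_lit 257) (.leaf (nat_lit 0x14e01f3d38a86859821f406902c087007e989239462d87e4c74414fe9)) (.node (nat_lit 258) (.leaf (nat_lit 0x500000000020)) (.leaf (nat_lit 0x8800000000004000007400000))))))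
 (.node (nat_lit 264) (.node (nat_lit 261) (.node (nat_lit 260) (.leaf (nat_lit 0x0)) (.leaf (nat_lit 0x0))) (.node (nat_lit 262) (.leaf (nat_lit 0x0)) (.node (nat_lit 263) (.leaf (nat_lit 0x8800000000004300007400040)) (.leaf (nat_lit 0x0)))))
 (.node (nat_lit 266) (.node (nat_lit 265) (.leaf (nat_lit 0x180000000000f00)) (.leaf (nat_lit 0x15000000000700404000000bb2001001))) (.node (nat_lit 267) (.leaf (nat_lit 0x2b03e582605800000001000000a1fd00601)) (.node (nat_lit 268) (.leaf (nat_lit 0x0)) (.leaf (nat_lit 0x880000000100000000e400000))))))))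
noncomputable def bLT_7 : Tr ℕ := (.node (nat_lit 288) (.node (nat_lit 278) (.node (nat_lit 273) (.node (nat_lit 271) (.node (nat_lit 270) (.leaf (nat_lit 0x880000000128000000e400a00)) (.leaf (nat_lit 0x0))) (.node (nat_lit 272) (.leaf (nat_lit 0x0)) (.leaf (nat_lit 0x0))))
 (.node (nat_lit 275) (.node (nat_lit 274) (.leaf (nat_lit 0x500000000000500)) (.leaf (nat_lit 0x0))) (.node (nat_lit 276) (.leaf (nat_lit 0x500003a0007c00000000880042184000005000e9050f0)) (.node (nat_lit 277) (.leaf (nat_lit 0x14e01f3d40a86859825f4795007085607e98d209432dc1e42dd9159d9)) (.leaf (nat_lit 0x14e01f0140a8385981ff47be48750020aeb0e03d032dc1b438e011928))))))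
 (.node (nat_lit 283) (.node (nat_lit 280) (.node (nat_lit 279) (.leaf (nat_lit 0x14e01f0140a8385981ff47be48750020aeb0e015072dc1b438e011928)) (.leaf (nat_lit 0x1004000000000000000))) (.node (nat_lit 281) (.leaf (nat_lit 0x500003a0007c000000008800421c4400005000e9040f0)) (.node (nat_lit 282) (.leaf (nat_lit 0x0)) (.leaf (nat_lit 0x0)))))
 (.node (nat_lit 285) (.node (nat_lit 284) (.leaf (nat_lit 0x0)) (.leaf (nat_lit 0x10140000000000f001000))) (.node (nat_lit 286) (.leaf (nat_lit 0x0)) (.node (nat_lit 287) (.leaf (nat_lit 0x2b000580005e08704414000000033d25009)) (.leaf (nat_lit 0x2b480580005850704414000000b82d05008)))))))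
 (.node (nat_lit 298) (.node (nat_lit 293) (.node (nat_lit 290) (.node (nat_lit 289) (.leaf (nat_lit 0x78004010000000000004000)) (.leaf (nat_lit 0x0))) (.node (nat_lit 291) (.leaf (nat_lit 0x8004010000000000024000)) (.node (nat_lit 292) (.leaf (nat_lit 0x2b000580005c18704414000000031d35009)) (.leaf (nat_lit 0x0)))))
 (.node (nat_lit 295) (.node (nat_lit 294) (.leaf (nat_lit 0x0)) (.leaf (nat_lit 0x0))) (.node (nat_lit 296) (.leaf (nat_lit 0x18004010000000000034000)) (.node (nat_lit 297) (.leaf (nat_lit 0x0)) (.leaf (nat_lit 0x4800000000000000000100000))))))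
 (.node (nat_lit 303) (.node (nat_lit 300) (.node (nat_lit 299) (.leaf (nat_lit 0x0)) (.leaf (nat_lit 0x7c00000000200070040400000000d801000))) (.node (nat_lit 301) (.leaf (nat_lit 0x0)) (.node (nat_lit 302) (.leaf (nat_lit 0x2000000000000000000500000)) (.leaf (nat_lit 0x0)))))
 (.node (nat_lit 305) (.node (nat_lit 304) (.leaf (nat_lit 0x0)) (.leaf (nat_lit 0x0))) (.node (nat_lit 306) (.leaf (nat_lit 0x0)) (.node (nat_lit 307) (.leaf (nat_lit 0x800000000000000000400000)) (.leaf (nat_lit 0x0))))))))
noncomputable def bLT : Tr ℕ := (.node (nat_lit 154) (.node (nat_lit 77) (.node (nat_lit 38) bLT_0 bLT_1) (.node (nat_lit 115) bLT_2 bLT_3)) (.node (nat_lit 231) (.node (nat_lit 192) bLT_4 bLT_5) (.node (nat_lit 269) bLT_6 bLT_7)))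
theorem btg : allB 28 (tgChk 396 bCB bHP bT bΦ bRU (rows bP0 (rows bP1 (rows bP2 (rows bP3 [bchi])))) bLT) = true := by decide +kernel
noncomputable def bPI : Tr (ℕ × List ℕ) := (.node (nat_lit 24) (.node (nat_lit 12) (.node (nat_lit 6) (.node (nat_lit 3) (.node (nat_lit 1) (.leaf (0, [])) (.node (nat_lit 2) (.leaf (0, [])) (.leaf (0, [])))) (.node (nat_lit 4) (.leaf (0, [])) (.node (nat_lit 5) (.leaf (0, [])) (.leaf (0, [])))))
 (.node (nat_lit 9) (.node (nat_lit 7) (.leaf (0, [])) (.node (nat_lit 8) (.leaf (7, [nat_lit 5, nat_lit 2])) (.leaf (1, [])))) (.node (nat_lit 10) (.leaf (0, [])) (.node (nat_lit 11) (.leaf (0, [])) (.leaf (0, []))))))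
 (.node (nat_lit 18) (.node (nat_lit 15) (.node (nat_lit 13) (.leaf (0, [])) (.node (nat_lit 14) (.leaf (0, [])) (.leaf (8, [nat_lit 6])))) (.node (nat_lit 16) (.leaf (9, [])) (.node (nat_lit 17) (.leaf (2, [])) (.leaf (0, [])))))
 (.node (nat_lit 21) (.node (nat_lit 19) (.leaf (0, [])) (.node (nat_lit 20) (.leaf (0, [])) (.leaf (0, [])))) (.node (nat_lit 22) (.leaf (10, [nat_lit 5, nat_lit 4])) (.node (nat_lit 23) (.leaf (11, [nat_lit 6])) (.leaf (12, [nat_lit 6, nat_lit 5])))))))
 (.node (nat_lit 36) (.node (nat_lit 30) (.node (nat_lit 27) (.node (nat_lit 25) (.leaf (3, [])) (.node (nat_lit 26) (.leaf (0, [])) (.leaf (0, [])))) (.node (nat_lit 28) (.leaf (0, [])) (.node (nat_lit 29) (.leaf (13, [nat_lit 6])) (.leaf (14, [nat_lit 5])))))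
 (.node (nat_lit 33) (.node (nat_lit 31) (.leaf (15, [nat_lit 6])) (.node (nat_lit 32) (.leaf (16, [])) (.leaf (4, [])))) (.node (nat_lit 34) (.leaf (0, [])) (.node (nat_lit 35) (.leaf (0, [])) (.leaf (17, [nat_lit 6]))))))
 (.node (nat_lit 42) (.node (nat_lit 39) (.node (nat_lit 37) (.leaf (18, [])) (.node (nat_lit 38) (.leaf (19, [])) (.leaf (20, [])))) (.node (nat_lit 40) (.leaf (21, [])) (.node (nat_lit 41) (.leaf (5, [])) (.leaf (0, [])))))
 (.node (nat_lit 45) (.node (nat_lit 43) (.leaf (22, [])) (.node (nat_lit 44) (.leaf (23, [])) (.leaf (24, []))))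
 (.node (nat_lit 47) (.node (nat_lit 46) (.leaf (25, [])) (.leaf (26, []))) (.node (nat_lit 48) (.leaf (27, [])) (.leaf (6, []))))))))
theorem bpc : pcChk bRU bPI = true := by decide +kernel
noncomputable def bst0 : ℕ := (nat_lit 0xbc44d34ad02b28e52d243cde81d420)
noncomputable def bst1 : ℕ := (nat_lit 0xbd2b69958f82d517348339a4940820)
noncomputable def bst2 : ℕ := (nat_lit 0xb96af8ba6ba48c780528636c418940)
noncomputable def bsT : Tr ℕ := (.node (nat_lit 1) (.leaf bst0) (.node (nat_lit 2) (.leaf bst1) (.leaf bst2)))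
noncomputable def bsL0 : Lev := ⟨(nat_lit 1), (nat_lit 3), (nat_lit 0x200010103020302020201010300000303020000000000), (nat_lit 0x400030404050304030204020100000503050000000000),
 (.leaf 0),
 (.leaf 0)⟩
noncomputable def bsL1 : Lev := ⟨(nat_lit 3), (nat_lit 2), (nat_lit 0x2020000000100000000), (nat_lit 0x3010000000200000000),
 (.leaf 0),
 (.leaf 0)⟩
noncomputable def bsL2 : Lev := ⟨(nat_lit 2), (nat_lit 1), (nat_lit 0x1000000000000000000000000000000000000000000), (nat_lit 0x1000000000000000000000000000000000000000000),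
 (.leaf 0),
 (.leaf 0)⟩
noncomputable def bsL : List Lev := [bsL0, bsL1, bsL2]
noncomputable def bD : Tr (List ℕ) := (.node (nat_lit 1) (.leaf [nat_lit 6, nat_lit 5, nat_lit 4, nat_lit 2, nat_lit 0]) (.node (nat_lit 2) (.leaf [nat_lit 6, nat_lit 4, nat_lit 3]) (.leaf [nat_lit 5, nat_lit 1])))
theorem bsc : band (bsT.all2 (fun c w => band (allL w fun y => Nat.ble (Nat.succ y) 7) (isProd 24 5 31 bT c w)) bD) (band (tchainChk 24 5 31 bsT bsL) (Nat.ble 128 (chainOrd 24 bsL))) = true := by decide +kernel
theorem blets : Lets Spor.M23 24 5 31 H7.pt bT := fun y =>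
  have := (band_eq_true _ _).1 (Tr.all_get bl y)
  let ⟨σ, h, r⟩ := exists_M24 this.1
  ⟨⟨σ, h, fix_of_rep r (by norm_num) this.2⟩, r⟩
theorem bsplit {E : Type*} [Group E] [Finite E] {π : E →* Spor.M23} {R : V → E → Prop} (X : Ext π R bCB bHP) {e : ℕ → E}
    (hT : ∀ y, Rep 24 5 31 H7.pt (bT.get y) (π (e y))) {u : ℕ → Z2} (hu : Tails R bCB bRU e u 396) (hY : ∀ a ∈ ([bchi] : List ℕ), lin u 396 a = 0) :
    ∃ H : Subgroup E, IsComplement' π.ker H :=
  X.split hT hu (X.rows hT hu bp0 (X.rows hT hu bp1 (X.rows hT hu bp2 (X.rows hT hu bp3 hY)))) btg bpc bsc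
theorem bo : band (band (allB 77 fun i => Nat.beq (bΦ0.get i) (Nat.pow 2 (Nat.add 308 i))) (allB 28 fun j =>
      allL (app (bRU.get j).1 (bRU.get j).2) fun y => Nat.ble (Nat.succ y) 7)) (band (Nat.ble (Nat.succ bchi) (Nat.pow 2 308)) (Nat.beq bchi
        (xs 28 (Nat.pow 2 28 - 1) fun j => frc (Co.tgt 385 bCB bT bΦ0 bRU j) fun S => xs 11 (ap 11 2047 bc j) fun i => row 385 bHP i S))) = true := by decide +kernel

end H8.Co
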