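import Cfsg.Agent.H8.CoE

/-! H8.CoF: the non-split extension of `M23` by the cocode module, acting monomially on the 253 code words of weight 16 missing `∞`. -/

set_option autoImplicit false
set_option linter.all false
open Cfsg Subgroup
open H7 (gC pt wd)

noncomputable section
namespace H8.Co

abbrev XX := Fin 253 × Z2
def dec (a : ℕ) : XX := (Fin.ofNat 253 (a / 2), (a : Z2))
def xC : H7.Coding XX := ⟨506, dec, fun x => 2 * x.1.val + x.2.val, by decide +kernel, by decide +kernel, by decide +kernel⟩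
theorem dec_xor : ∀ b < 506, dec (b ^^^ 1) = ((dec b).1, (dec b).2 + 1) ∧ b ^^^ 1 < 506 ∧ (dec b).1.val = b / 2 := by decide +kernel
theorem dec_two : ∀ i : Fin 253, dec (2 * i.val) = (i, 0) ∧ dec (2 * i.val + 1) = (i, 1) := by decide +kernel
theorem xB : IsB (Equiv.Perm XX) 506 dec (List.range 506) := ⟨fun a ha => List.mem_range.1 ha, fun g hg => Equiv.ext fun p => by
  have := hg _ (List.mem_range.2 (xC.code_lt p))
  rwa [show dec (xC.code p) = p from xC.dec_code p] at this⟩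

def δ (w : V) : Equiv.Perm XX := Equiv.prodCongrRight fun i => Equiv.addRight (dt SP i.val w)
theorem δ_apply (w : V) (x : XX) : δ w x = (x.1, x.2 + dt SP x.1.val w) := rfl
theorem δ_add (w w' : V) : δ (w + w') = δ w * δ w' := Equiv.ext fun x => by
  rw [Equiv.Perm.mul_apply, δ_apply, δ_apply, δ_apply, dt_add, add_comm (dt _ _ w), ← add_assoc]
theorem δ_zero : δ 0 = 1 := Equiv.ext fun x => by rw [δ_apply, show dt SP _ 0 = 0 from lin_u0 _, add_zero]; rfl

def fd (m a : ℕ) : ℕ := Nat.xor a (row 1 SP (Nat.div a 2) m)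

theorem fd_rep (m : ℕ) : RepF 506 dec (fd m) (δ (wd m)) := fun a ha => by
  obtain ⟨h1, h2, h3⟩ := dec_xor a ha
  have : dt SP (a / 2) (wd m) = lin (fun _ => 1) 1 (row 1 SP (a / 2) m) := by rw [wd_eq, lin_row]
  show a ^^^ row 1 SP (a / 2) m < 506 ∧ dec (a ^^^ row 1 SP (a / 2) m) = δ (wd m) (dec a)
  rw [δ_apply, h3, this]
  rcases show row 1 SP (a / 2) m = 0 ∨ row 1 SP (a / 2) m = 1 from Nat.mod_two_eq_zero_or_one _ with h | h <;> rw [h]
  · exact ⟨by simpa, by simp [lin_zero]⟩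
  · exact ⟨h2, h1⟩

theorem lin_ip (s : ℕ) (w : V) : lin (fun a => w (pt a)) 24 s = ∑ p, wd s p * w p :=
  Finset.sum_nbij' pt gC.code (fun _ _ => Finset.mem_univ _) (fun p _ => Finset.mem_range.2 (gC.code_lt p))
    (fun a ha => gC.code_dec a (Finset.mem_range.1 ha)) (fun p _ => gC.dec_code p) fun a ha => by
      simp [wd, gC.code_dec a (Finset.mem_range.1 ha)]

theorem lin_act {f : ℕ → ℕ} {g : Spor.M23} (r : RepF 24 pt f g) (s : ℕ) (w : V) :
    lin (fun a => (w ∘ ⇑((g : Equiv.Perm GolayPt)⁻¹)) (pt a)) 24 (pk 1 f (blk 1 s) 24) = lin (fun a => w (pt a)) 24 s := by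
  rw [lin_ip, lin_ip, wd_eq, Λ_pk r, wd_eq]
  exact Equiv.sum_comp ((g : Equiv.Perm GolayPt)⁻¹) fun p => Λ (fun _ => 1) 1 s p * w p

def mon (c0 c : ℕ) : Bool := band (surjF 506 (ap 9 511 c)) (allB 253 fun i => frc (ap 9 511 c (Nat.mul 2 i)) fun b =>
  band (Nat.beq (ap 9 511 c (Nat.add (Nat.mul 2 i) 1)) (Nat.xor b 1))
    (Nat.beq (ap 24 16777215 SP (Nat.div b 2)) (pk 1 (ap 5 31 c0) (blk 1 (ap 24 16777215 SP i)) 24)))

abbrev WW := Spor.M23 × Equiv.Perm XX

def Γ : Subgroup WW where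
  carrier := {x | ∀ w, x.2 * δ w = δ (w ∘ ⇑((x.1 : Equiv.Perm GolayPt)⁻¹)) * x.2}
  one_mem' := fun w => by simp
  mul_mem' := fun {a b} h h' w => by
    rw [Prod.snd_mul, mul_assoc, h' w, ← mul_assoc, h, mul_assoc]; rfl
  inv_mem' := fun {a} h w => by
    have := h (w ∘ ⇑(a.1 : Equiv.Perm GolayPt))
    rw [show (w ∘ ⇑(a.1 : Equiv.Perm GolayPt)) ∘ ⇑((a.1 : Equiv.Perm GolayPt)⁻¹) = w by ext; simp] at this
    rw [Prod.snd_inv, inv_mul_eq_iff_eq_mul, ← mul_assoc, eq_mul_inv_iff_mul_eq, ← this]; rfl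

theorem mon_spec {c0 c : ℕ} (h : mon c0 c = true) {g : Spor.M23} (r : Rep 24 5 31 pt c0 g) :
    ∃ σ : Equiv.Perm XX, Rep 506 9 511 dec c σ ∧ (g, σ) ∈ Γ := by
  obtain ⟨h1, h2⟩ := (band_eq_true _ _).1 h
  obtain ⟨σ, s⟩ := exists_perm_coding xC h1
  refine ⟨σ, s, fun w => Equiv.ext fun ⟨i, ε⟩ => ?_⟩
  have := allB_iff.1 h2 i i.2
  rw [frc_eq, band_eq_true, Nat.beq_eq, Nat.beq_eq] at this
  have a0 := s (2 * i.val) (by show _ < 506; omega)
  have a1 := s (2 * i.val + 1) (by show _ < 506; omega)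
  obtain ⟨d1, -, d3⟩ := dec_xor _ a0.1
  have e0 : σ (i, 0) = dec (ap 9 511 c (2 * i.val)) := by rw [← (dec_two i).1]; exact a0.2.symm
  have e : ∀ x, σ (i, x) = ((σ (i, 0)).1, (σ (i, 0)).2 + x) := fun x => by
    rcases H7.zmod2_cases x with rfl | rfl
    · simp
    · rw [e0, ← d1, ← (dec_two i).2]; exact a1.2.symm.trans (congrArg dec this.1)
  show σ (δ w (i, ε)) = δ _ (σ (i, ε))
  rw [δ_apply, δ_apply, e, e ε, add_assoc, e0, d3, dt, dt, show ap 24 16777215 SP (ap 9 511 c (2 * i.val) / 2) = _ from this.2, lin_act r]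

theorem std23 : Std Spor.M23 24 5 31 pt M23.T M23.RL M23.L :=
  std_of_card M23.std M23.gen gC.inj (fun j hj => by
    have := allB_iff.1 (show (allB 8 fun j => band (m24Chk (ap 5 31 (M23.G0.get j)))
      (Nat.beq (ap 5 31 (M23.G0.get j) 23) 23)) = true by decide +kernel) j hj
    rw [band_eq_true] at this
    obtain ⟨σ, h, r⟩ := exists_M24 this.1
    exact ⟨⟨σ, h, fix_of_rep r (by norm_num) this.2⟩, r⟩) (by rw [H7.isM23.2, M23.card])

theorem c1 : M23.T.all2 mon sT = true := by decide +kernel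
theorem c2 : M23.RL.all2 (fun w m => eqB (List.range 506) (apL 9 511 sT w) (fd m)) sM = true := by decide +kernel
theorem c3 : bT.all2 (fun c w => band (allL w fun y => Nat.ble (Nat.succ y) 8) (isProd 24 5 31 M23.T c w)) sD = true := by decide +kernel
theorem c4 : pT.all2 (fun c w => isProd 506 9 511 sT c w) sD = true := by decide +kernel
theorem c5 : (allB 28 fun j => frc (cm bCB (Nat.shiftRight U0 (Nat.mul 11 j))) fun m => eqB (List.range 506) (apL 9 511 pT (bRU.get j).1)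
    fun a => frc (apL 9 511 pT (bRU.get j).2 a) (fd m)) = true := by decide +kernel
theorem c6 : (allB 11 fun i => Nat.beq (ap 24 16777215 bHP i) (xs 253 (sH.get i) (ap 24 16777215 SP))) = true := by decide +kernel
theorem c7 : (allB 253 fun i => frc (ap 24 16777215 SP i) fun s => Nat.beq s (xs 11 (Nat.shiftRight s 1) (ap 24 16777215 bHP))) = true := by
  decide +kernel

theorem δ_one {w : V} : δ w = 1 ↔ KC w := by
  rw [KC_iff]
  refine ⟨fun h i hi => ?_, fun h => Equiv.ext fun x => ?_⟩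
  · rw [dt, Nat.eq_of_beq_eq_true (allB_iff.1 c6 i hi), lin_xs, ← lin_u0 (K := 253) (sH.get i)]
    refine lin_congr (fun _ _ => rfl) fun j hj => ?_
    have := δ_apply w (⟨j, hj⟩, 0)
    rw [h, Equiv.Perm.one_apply, Prod.ext_iff, zero_add] at this
    exact this.2.symm
  · have := allB_iff.1 c7 _ x.1.2
    rw [frc_eq, Nat.beq_eq] at this
    rw [δ_apply, dt, this, lin_xs]
    exact (congrArg (fun t => (x.1, x.2 + t)) ((lin_congr (fun _ _ => rfl) h).trans (lin_u0 _))).trans (by rw [add_zero]; rfl)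

def σ (y : ℕ) : Equiv.Perm XX := (mon_spec (Tr.all2_get c1 y) (std23.lets.rep y)).choose
theorem σ_spec (y : ℕ) : Rep 506 9 511 dec (sT.get y) (σ y) ∧ (std23.lets.e y, σ y) ∈ Γ := (mon_spec (Tr.all2_get c1 y) (std23.lets.rep y)).choose_spec

def gens : Set WW := Set.range (fun y => (std23.lets.e y, σ y)) ∪ Set.range fun w => (1, δ w)
def EE : Subgroup WW := closure gens
def ee (y : ℕ) : EE := ⟨_, subset_closure (.inl ⟨y, rfl⟩)⟩
def dd (w : V) : EE := ⟨_, subset_closure (.inr ⟨w, rfl⟩)⟩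
def π0 : EE →* Spor.M23 := (MonoidHom.fst _ _).comp EE.subtype
def π1 : EE →* Equiv.Perm XX := (MonoidHom.snd _ _).comp EE.subtype

theorem ext0 {a b : EE} (h : π0 a = π0 b) (h' : π1 a = π1 b) : a = b := Subtype.ext (Prod.ext h h')
theorem dd_add (w w' : V) : dd (w + w') = dd w * dd w' := ext0 (one_mul _).symm (δ_add w w')
theorem dd_conj (g : EE) (w : V) : dd (w ∘ ⇑((π0 g : Equiv.Perm GolayPt)⁻¹)) = g * dd w * g⁻¹ := by
  have : EE ≤ Γ := (closure_le _).2 (by
    rintro _ (⟨y, rfl⟩ | ⟨v, rfl⟩)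
    · exact (σ_spec y).2
    · exact fun w => by rw [← δ_add, add_comm, δ_add]; rfl)
  refine ext0 (by simp [show ∀ w, π0 (dd w) = 1 from fun _ => rfl]) ?_
  rw [map_mul, map_mul, map_inv, eq_mul_inv_iff_mul_eq]
  exact (this g.2 w).symm

def N0 : Subgroup EE where
  carrier := Set.range dd
  one_mem' := ⟨0, ext0 rfl δ_zero⟩
  mul_mem' := by rintro _ _ ⟨w, rfl⟩ ⟨w', rfl⟩; exact ⟨_, dd_add _ _⟩
  inv_mem' := by
    rintro _ ⟨w, rfl⟩
    exact ⟨w, eq_inv_of_mul_eq_one_right (by rw [← dd_add, show w + w = 0 from funext fun _ => z2 _]; exact ext0 rfl δ_zero)⟩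

instance : N0.Normal := ⟨by rintro _ ⟨w, rfl⟩ g; exact ⟨_, dd_conj g w⟩⟩

theorem ker0 (a : EE) (h : π0 a = 1) : a ∈ N0 := by
  obtain ⟨φ, hφ⟩ := std23.hom (fun y => (ee y : EE ⧸ N0)) fun i => by
    rw [show ev (fun y => (ee y : EE ⧸ N0)) (M23.RL.get i) = QuotientGroup.mk' N0 (ev ee (M23.RL.get i)) from (map_ev (QuotientGroup.mk' N0) ee _).symm]
    refine (QuotientGroup.eq_one_iff _).2 ⟨wd (sM.get i), ext0 ?_ ?_⟩
    · rw [map_ev]; exact (std23.rels i).symm
    · rw [map_ev]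
      exact ((eqB_iff xB xC.inj (apL_rep (fun y => (σ_spec y).1) _) (fd_rep _)).1 (Tr.all2_get c2 i)).symm
  have : φ.comp π0 = QuotientGroup.mk' N0 := MonoidHom.eq_of_eqOn_dense (closure_closure_coe_preimage (k := gens)) (by
    rintro ⟨_, hx⟩ (⟨y, rfl⟩ | ⟨v, rfl⟩)
    · rcases lt_or_ge y 8 with hy | hy
      · exact hφ y hy
      · obtain ⟨k, rfl⟩ := Nat.exists_eq_add_of_le' hy
        have : ee (k + 8) = ee 7 := ext0 (isB.eq_of_rep (std23.lets.rep _) (std23.lets.rep 7) fun _ _ => rfl)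
          (xB.eq_of_rep (σ_spec _).1 (σ_spec 7).1 fun _ _ => rfl)
        show φ (π0 (ee (k + 8))) = ee (k + 8)
        rw [this]; exact hφ 7 (by decide)
    · exact (map_one φ).trans ((QuotientGroup.eq_one_iff (N := N0) (dd v)).2 ⟨v, rfl⟩).symm)
  rw [← QuotientGroup.eq_one_iff, ← QuotientGroup.mk'_apply, ← this, MonoidHom.comp_apply, h, map_one]

theorem sur0 : Function.Surjective π0 := by
  rw [← MonoidHom.range_eq_top, eq_top_iff, ← std23.top]
  exact sup_le ((closure_le _).2 fun _ ⟨y, _, e⟩ => ⟨ee y, e⟩) bot_le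

def θ0 : V →+ Additive π0.ker := AddMonoidHom.mk' (fun w => Additive.ofMul ⟨dd w, rfl⟩) fun w w' => Subtype.ext (dd_add w w')

theorem θ0_sur : Function.Surjective θ0 := fun a => let ⟨w, h⟩ := ker0 _ a.toMul.2; ⟨w, Subtype.ext h⟩

theorem θ0_ker (w : V) : θ0 w = 0 ↔ KC w :=
  ⟨fun h => δ_one.1 (congrArg (fun a : Additive π0.ker => π1 a.toMul) h), fun h => Subtype.ext (ext0 rfl (δ_one.2 h))⟩

theorem nonsplit (H : Subgroup EE) (h : H ⊓ π0.ker = ⊥) : H ⊔ π0.ker ≠ ⊤ := fun h' => by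
  have X := extB π0.ker (QuotientGroup.quotientKerEquivOfSurjective π0 sur0) θ0 θ0_sur θ0_ker fun g w => dd_conj g w
  have hT : ∀ y, Rep 24 5 31 pt (bT.get y) (π0 (ev ee (sD.get y))) := fun y => by
    rw [map_ev]
    refine RepF.congr (G := Spor.M23) (apL_rep std23.lets.rep (sD.get y)) fun a ha => ?_
    have h2 := Nat.eq_of_beq_eq_true (allB_iff.1 ((band_eq_true _ _).1 (Tr.all2_get c3 y)).2 a ha)
    rw [apW_mkW] at h2
    exact h2.symm
  have hP : ∀ y, Rep 506 9 511 dec (pT.get y) (π1 (ev ee (sD.get y))) := fun y => by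
    rw [map_ev]
    refine RepF.congr (G := Equiv.Perm XX) (apL_rep (fun y => (σ_spec y).1) (sD.get y)) fun a ha => ?_
    have h2 := Nat.eq_of_beq_eq_true (allB_iff.1 (Tr.all2_get c4 y) a ha)
    rw [apW_mkW] at h2
    exact h2.symm
  have := X.of_split (u := fun i => lin (fun _ => 1) 1 (U0 >>> i)) (e := fun y => ev ee (sD.get y)) hT (fun j hj => ?_) br bo
    (H := H) (by rwa [pr_ker]) (by rwa [pr_ker])
  · rw [← lin_xs] at this
    revert this
    decide +kernel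
  · have e : wd (cm bCB (U0 >>> (11 * j))) = cb bCB fun i => lin (fun _ => 1) 1 (U0 >>> (11 * j + i)) := by
      rw [wd_eq, cm, Λ_pk (RepF.id 24 pt)]
      simp only [Nat.shiftRight_add]
      exact funext fun p => lin_xs _ _ _
    have c := allB_iff.1 c5 j (by omega)
    simp only [frc_eq] at c
    show dd _ = _
    rw [← e, eq_mul_inv_iff_mul_eq]
    refine ext0 ?_ ?_ <;> rw [map_mul, map_ev, map_ev]
    · exact (one_mul _).trans ((eqB_iff isB gC.inj (apL_rep hT _) (apL_rep hT _)).1 (Tr.all_get br j)).symm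
    · exact ((eqB_iff xB xC.inj (apL_rep hP _) ((fd_rep _).comp (apL_rep hP _))).1 c).symm

end H8.Co
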