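import Cfsg.Agent.H8.CoD

/-! H8.CoI: the code and cocode modules satisfy `Ext`; the Baer difference of two extensions. -/

set_option autoImplicit false
set_option linter.all false
open Cfsg Subgroup
open H7 (gC pt wd)

noncomputable section
namespace H8.Co

theorem dt_add (HP i : ℕ) (w w' : V) : dt HP i (w + w') = dt HP i w + dt HP i w' := lin_add _

theorem dt_cb {CB HP : ℕ} (h : (allB 11 fun i => Nat.beq (xs 24 (ap 24 16777215 HP i) (ap 11 2047 CB)) (Nat.pow 2 i)) = true) (v : ℕ → Z2)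
    {i : ℕ} (hi : i < 11) : dt HP i (cb CB v) = v i := by
  rw [← lin_pow (u := v) hi, ← Nat.eq_of_beq_eq_true (allB_iff.1 h i hi), lin_xs]
  exact lin_congr (fun _ _ => rfl) fun a ha => by rw [cb, gC.code_dec a ha]

theorem cb_zero {CB : ℕ} {v : ℕ → Z2} (h : ∀ i < 11, v i = 0) : cb CB v = 0 :=
  funext fun p => (lin_congr (fun _ _ => rfl) h).trans (lin_u0 _)

theorem wd_eq (m : ℕ) : wd m = Λ (fun _ => 1) 1 m := funext fun p => by
  rw [Λ, lin, Finset.sum_range_one, show blk 1 m (gC.code p) = m >>> (1 * gC.code p) from rfl, Nat.testBit_shiftRight, one_mul]; rfl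

theorem dt_wd {HP i m : ℕ} (h : Nat.beq (row 1 HP i m) 0 = true) : dt HP i (wd m) = 0 := by
  rw [wd_eq, ← lin_row, Nat.eq_of_beq_eq_true h, lin_zero]

def cm (CB i : ℕ) : ℕ := pk 1 (fun a => a) (fun a => xs 11 (ap 11 2047 CB a) fun k => Nat.shiftRight i k) 24

theorem wd_cm (CB i : ℕ) : ∃ v, wd (cm CB i) = cb CB v :=
  ⟨fun k => lin (fun _ => 1) 1 (Nat.shiftRight i k), by rw [wd_eq, cm, Λ_pk (RepF.id 24 pt)]; exact funext fun p => lin_xs _ _ _⟩

theorem wd_mem {m : ℕ} (h : H7.isCw m = true) : wd m ∈ golayCode := H7.wd_mem_iff.2 (H7.fs_mem_supp_of h)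

theorem golay_ind {P : V → Prop} (h0 : ∀ t < 23, P (wd (H7.qrM t))) (h1 : P (wd 16777215)) (hz : P 0) (ha : ∀ a b, P a → P b → P (a + b))
    {w : V} (h : w ∈ golayCode) : P w := by
  induction h using Submodule.span_induction with
  | mem x hx =>
    rcases hx with ⟨t, rfl⟩ | rfl
    · rw [H7.qrWord_eq]; exact h0 _ t.val_lt
    · rwa [H7.one_eq_wd]
  | zero => exact hz
  | add x y _ _ a b => exact ha _ _ a b
  | smul c x _ a => rcases H7.zmod2_cases c with rfl | rfl <;> simpa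

theorem a_ex {w : V} (h : w ∈ golayCode) (h' : w none = 0) : ∃ v, w = cb aCB v := by
  obtain ⟨v, c, rfl⟩ := golay_ind (P := fun w => ∃ v, ∃ c : Z2, w = cb aCB v + c • 1) (fun t ht => by
      obtain ⟨v, e⟩ := wd_cm aCB (H7.qrM t >>> 1)
      refine ⟨v, 0, ?_⟩
      rw [← e, ← Nat.eq_of_beq_eq_true (allB_iff.1 (show (allB 23 fun t => Nat.beq (H7.qrM t) (cm aCB (H7.qrM t >>> 1))) = true by
        decide +kernel) t ht), zero_smul, add_zero])
    ⟨0, 1, by rw [cb_zero (v := 0) fun _ _ => rfl, ← H7.one_eq_wd]; simp⟩ ⟨0, 0, by rw [cb_zero (v := 0) fun _ _ => rfl]; simp⟩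
    (fun _ _ ⟨v, c, e⟩ ⟨v', c', e'⟩ => ⟨v + v', c + c', by rw [e, e', cb_add, add_smul, add_add_add_comm]⟩) h
  have : cb aCB v none = 0 := by rw [cb, show ap 11 2047 aCB (gC.code none) = 0 by decide +kernel, lin_zero]
  exact ⟨v, by simpa [this] using (show c = 0 by simpa [this] using h')⟩

theorem a_all (v : ℕ → Z2) : cb aCB v ∈ golayCode ∧ cb aCB v none = 0 := by
  refine ⟨?_, by rw [cb, show ap 11 2047 aCB (gC.code none) = 0 by decide +kernel, lin_zero]⟩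
  have : cb aCB v = ∑ k ∈ Finset.range 11, v k • wd (cm aCB (2 ^ k)) := funext fun p => by
    rw [Finset.sum_apply, cb, lin]
    refine Finset.sum_congr rfl fun k hk => ?_
    have := (show ∀ k < 11, ∀ a < 24, (cm aCB (2 ^ k)).testBit a = (ap 11 2047 aCB a).testBit k by decide +kernel) k (Finset.mem_range.1 hk) _
      (gC.code_lt p)
    simp [wd, this]
  rw [this]
  exact Submodule.sum_mem _ fun k hk => Submodule.smul_mem _ _ (wd_mem (allB_iff.1
    (show (allB 11 fun k => H7.isCw (cm aCB (2 ^ k))) = true by decide +kernel) k (Finset.mem_range.1 hk)))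

section
variable {E : Type*} [Group E] (N : Subgroup E) [hN : N.Normal] (φ : E ⧸ N ≃* Spor.M23)

def pr : E →* Spor.M23 := φ.toMonoidHom.comp (QuotientGroup.mk' N)

theorem pr_ker : (pr N φ).ker = N := by
  ext a; simp [pr]

theorem pr_sur : Function.Surjective (pr N φ) := φ.surjective.comp QuotientGroup.mk_surjective

theorem extA (ψ : Additive N →+ V) (hinj : Function.Injective ψ) (hr : ∀ w : V, w ∈ Set.range ψ ↔ (w ∈ golayCode ∧ w none = 0))
    (hψ : ∀ (g : E) (n : N), ψ (Additive.ofMul ⟨g * n * g⁻¹, hN.conj_mem n n.2 g⟩)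
      = ψ (Additive.ofMul n) ∘ ⇑(((φ (QuotientGroup.mk g) : Spor.M23) : Equiv.Perm GolayPt)⁻¹)) :
    Ext (pr N φ) (fun w a => ∃ h : a ∈ N, ψ (Additive.ofMul ⟨a, h⟩) = w) aCB aHP where
  sur := pr_sur N φ
  add := fun ⟨h, e⟩ ⟨h', e'⟩ => ⟨mul_mem h h', by rw [← e, ← e', ← map_add]; rfl⟩
  conj := fun g _ _ ⟨h, e⟩ => ⟨hN.conj_mem _ h g, e ▸ hψ g ⟨_, h⟩⟩
  ex := fun a h => by
    have h : a ∈ N := pr_ker N φ ▸ h
    obtain ⟨h1, h2⟩ := (hr _).1 ⟨Additive.ofMul ⟨a, h⟩, rfl⟩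
    exact (a_ex h1 h2).imp fun v e => ⟨h, e⟩
  all := fun v => let ⟨n, e⟩ := (hr _).2 (a_all v); ⟨_, n.toMul.2, e⟩
  ker := fun ⟨h, _⟩ => (pr_ker N φ).ge h
  one := fun {w a} ⟨h, e⟩ => by
    refine ⟨fun k i _ => ?_, fun k => ?_⟩
    · subst k
      rw [← e, show Additive.ofMul (⟨1, h⟩ : N) = 0 from rfl, map_zero]; exact lin_u0 _
    · obtain ⟨h1, h2⟩ := (hr _).1 ⟨_, e⟩
      obtain ⟨v, rfl⟩ := a_ex h1 h2
      rw [cb_zero fun i hi => (dt_cb (by decide +kernel) v hi).symm.trans (k i hi), ← map_zero ψ] at e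
      exact congrArg Subtype.val (hinj e)

def KC (w : V) : Prop := w ∈ golayCode ∨ w + Pi.single none 1 ∈ golayCode

theorem KC.add {w w' : V} (h : KC w) (h' : KC w') : KC (w + w') := by
  rcases h with h | h <;> rcases h' with h' | h'
  · exact .inl (add_mem h h')
  · exact .inr (by rw [add_assoc]; exact add_mem h h')
  · exact .inr (by rw [add_right_comm]; exact add_mem h h')
  · refine .inl ?_
    have := add_mem h h'
    rwa [add_add_add_comm, show (Pi.single none 1 + Pi.single none 1 : V) = 0 from funext fun _ => z2 _, add_zero] at this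

theorem single_eq : ∀ p : GolayPt, (Pi.single p 1 : V) = wd (2 ^ gC.code p) := by decide +kernel

theorem b_ex (w : V) : ∃ v, KC (w + cb bCB v) := by
  induction w using Pi.single_induction with
  | zero => exact ⟨0, .inl (by rw [cb_zero (v := 0) fun _ _ => rfl]; simp)⟩
  | add f g a b =>
    obtain ⟨v, a⟩ := a; obtain ⟨v', b⟩ := b
    exact ⟨v + v', by rw [cb_add, add_add_add_comm]; exact a.add b⟩
  | single p c =>
    rcases H7.zmod2_cases c with rfl | rfl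
    · exact ⟨0, .inl (by rw [cb_zero (v := 0) fun _ _ => rfl]; simp)⟩
    obtain ⟨v, e⟩ := wd_cm bCB (xs 11 2047 fun i => row 1 bHP i (2 ^ gC.code p) <<< i)
    refine ⟨v, ?_⟩
    rw [KC, ← e, single_eq, single_eq, ← H7.wd_xor, ← H7.wd_xor]
    exact ((bor_eq_true _ _).1 (allB_iff.1 (show (allB 24 fun a => frc (2 ^ a ^^^ cm bCB (xs 11 2047 fun i => row 1 bHP i (2 ^ a) <<< i))
      fun x => bor (H7.isCw x) (H7.isCw (x ^^^ 2 ^ 23))) = true by decide +kernel) _ (gC.code_lt p) |>.symm.trans (frc_eq _ _) |>.symm)).imp wd_mem wd_mem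

theorem KC_iff {w : V} : KC w ↔ ∀ i < 11, dt bHP i w = 0 := by
  have c : ∀ {w : V}, w ∈ golayCode → ∀ i < 11, dt bHP i w = 0 := golay_ind (P := fun w => ∀ i < 11, dt bHP i w = 0)
    (fun t ht i hi => dt_wd (allB_iff.1 (allB_iff.1 (show (allB 23 fun t => allB 11 fun i => Nat.beq (row 1 bHP i (H7.qrM t)) 0) = true by
      decide +kernel) t ht) i hi))
    (fun i hi => dt_wd (allB_iff.1 (show (allB 11 fun i => Nat.beq (row 1 bHP i 16777215) 0) = true by decide +kernel) i hi))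
    (fun _ _ => lin_u0 _) fun a b h h' i hi => by rw [dt_add, h i hi, h' i hi, add_zero]
  have d : ∀ {w : V}, KC w → ∀ i < 11, dt bHP i w = 0 := fun h i hi => h.elim (c · i hi) fun h => by
    have := c h i hi
    rwa [dt_add, single_eq, dt_wd (allB_iff.1 (show (allB 11 fun i => Nat.beq (row 1 bHP i (2 ^ gC.code none)) 0) = true by decide +kernel) i hi),
      add_zero] at this
  refine ⟨d, fun h => ?_⟩
  obtain ⟨v, k⟩ := b_ex w
  rwa [cb_zero fun i hi => by simpa [dt_add, h i hi, dt_cb (CB := bCB) (HP := bHP) (by decide +kernel) v hi] using d k i hi, add_zero] at k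

theorem extB (θ : V →+ Additive N) (hs : Function.Surjective θ) (hk : ∀ w : V, θ w = 0 ↔ KC w)
    (hθ : ∀ (g : E) (w : V), ((θ (w ∘ ⇑(((φ (QuotientGroup.mk g) : Spor.M23) : Equiv.Perm GolayPt)⁻¹))).toMul : E)
      = g * ((θ w).toMul : E) * g⁻¹) : Ext (pr N φ) (fun w a => ((θ w).toMul : E) = a) bCB bHP where
  sur := pr_sur N φ
  add := fun h h' => by rw [← h, ← h', map_add]; rfl
  conj := fun g _ _ h => h ▸ hθ g _
  ex := fun a h => by
    obtain ⟨w, e⟩ := hs (Additive.ofMul ⟨a, pr_ker N φ ▸ h⟩)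
    obtain ⟨v, k⟩ := b_ex w
    have := map_add θ (w + cb bCB v) w
    rw [(hk _).2 k, zero_add, add_right_comm, show w + w = 0 from funext fun _ => z2 _, zero_add, e] at this
    exact ⟨v, by rw [this]; rfl⟩
  all := fun v => ⟨_, rfl⟩
  ker := fun h => h ▸ (pr_ker N φ).ge (Subtype.prop _)
  one := fun {w a} h => by
    rw [← KC_iff, ← hk, ← h]
    exact ⟨fun k => Subtype.ext k, fun k => by rw [k]; rfl⟩

end

section
variable {E E' : Type*} [Group E] [Group E'] {π : E →* Spor.M23} {π' : E' →* Spor.M23} {R : V → E → Prop} {R' : V → E' → Prop} {CB HP : ℕ}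

theorem Ext.lift {T : Tr ℕ} (X : Ext π R CB HP) (h : Lets Spor.M23 24 5 31 pt T) : ∃ e : ℕ → E, ∀ y, π (e y) = h.e y :=
  ⟨fun y => (X.sur (h.e y)).choose, fun y => (X.sur (h.e y)).choose_spec⟩

theorem bij (X : Ext π R CB HP) (X' : Ext π' R' CB HP) {H : Type*} [Group H] (f : H →* E) (f' : H →* E')
    (h0 : ∀ d, f d = 1 → f' d = 1 → d = 1) (h1 : ∀ d, f d = 1 → ∃ w, R w (f d) ∧ R' w (f' d))
    (h2 : ∀ w a a', R w a → R' w a' → ∃ d, f d = a) (h3 : ∀ g, ∃ d, π (f d) = g) : Function.Bijective f := by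
  refine ⟨(injective_iff_map_eq_one f).2 fun d h => ?_, fun a => ?_⟩
  · obtain ⟨w, a, b⟩ := h1 d h
    exact h0 d h ((X'.one b).2 ((X.one a).1 h))
  · obtain ⟨d, h⟩ := h3 (π a)
    obtain ⟨v, k⟩ := X.ex (a * (f d)⁻¹) (by simp [h])
    obtain ⟨b, k'⟩ := X'.all v
    obtain ⟨c, e⟩ := h2 _ _ _ k k'
    exact ⟨c * d, by simp [e]⟩

def fib (π : E →* Spor.M23) (π' : E' →* Spor.M23) : Subgroup (E × E') := (π.comp (MonoidHom.fst E E')).eqLocus (π'.comp (MonoidHom.snd E E'))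

def dia (X : Ext π R CB HP) (X' : Ext π' R' CB HP) : Subgroup (fib π π') where
  carrier := {d | ∃ w, R w d.1.1 ∧ R' w d.1.2}
  one_mem' := ⟨0, X.zero, X'.zero⟩
  mul_mem' := fun ⟨_, a, b⟩ ⟨_, c, d⟩ => ⟨_, X.add a c, X'.add b d⟩
  inv_mem' := fun ⟨w, a, b⟩ => ⟨w, (congrArg (R w) (X.inv a)).mpr a, (congrArg (R' w) (X'.inv b)).mpr b⟩

instance (X : Ext π R CB HP) (X' : Ext π' R' CB HP) : (dia X X').Normal :=
  ⟨fun d ⟨_, a, b⟩ g => ⟨_, X.conj g.1.1 a, (show π g.1.1 = π' g.1.2 from g.2) ▸ X'.conj g.1.2 b⟩⟩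

def dπ (X : Ext π R CB HP) (X' : Ext π' R' CB HP) : fib π π' ⧸ dia X X' →* Spor.M23 :=
  QuotientGroup.lift _ ((π.comp (MonoidHom.fst E E')).comp (fib π π').subtype) fun _ ⟨_, a, _⟩ => X.ker a

def dR (X : Ext π R CB HP) (X' : Ext π' R' CB HP) (w : V) (q : fib π π' ⧸ dia X X') : Prop :=
  ∃ d : fib π π', (d : fib π π' ⧸ dia X X') = q ∧ ∃ w1 w2, w = w1 + w2 ∧ R w1 d.1.1 ∧ R' w2 d.1.2

theorem dExt (X : Ext π R CB HP) (X' : Ext π' R' CB HP) : Ext (dπ X X') (dR X X') CB HP where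
  sur := fun g => let ⟨a, h⟩ := X.sur g; let ⟨b, h'⟩ := X'.sur g; ⟨((⟨(a, b), h.trans h'.symm⟩ : fib π π') : fib π π' ⧸ dia X X'), h⟩
  add := by
    rintro _ _ _ _ ⟨d, rfl, w1, w2, rfl, a, b⟩ ⟨d', rfl, w3, w4, rfl, a', b'⟩
    exact ⟨d * d', rfl, _, _, add_add_add_comm _ _ _ _, X.add a a', X'.add b b'⟩
  conj := by
    rintro g _ _ ⟨d, rfl, w1, w2, rfl, a, b⟩
    obtain ⟨g, rfl⟩ := QuotientGroup.mk_surjective g
    exact ⟨g * d * g⁻¹, rfl, _, _, rfl, X.conj g.1.1 a, by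
      have := X'.conj g.1.2 b
      rwa [← show π g.1.1 = π' g.1.2 from g.2] at this⟩
  ex := fun q h => by
    obtain ⟨d, rfl⟩ := QuotientGroup.mk_surjective q
    obtain ⟨v, a⟩ := X.ex d.1.1 h
    obtain ⟨v', b⟩ := X'.ex d.1.2 ((show π d.1.1 = π' d.1.2 from d.2).symm.trans h)
    exact ⟨v + v', d, rfl, _, _, cb_add _ _ _, a, b⟩
  all := fun v => let ⟨a, h⟩ := X.all v
    ⟨_, ⟨(a, 1), (X.ker h).trans (map_one π').symm⟩, rfl, _, 0, (add_zero _).symm, h, X'.zero⟩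
  ker := by
    rintro _ _ ⟨d, rfl, w1, w2, rfl, a, b⟩
    exact X.ker a
  one := by
    rintro _ _ ⟨d, rfl, w1, w2, rfl, a, b⟩
    rw [QuotientGroup.eq_one_iff]
    refine ⟨fun ⟨w, c, c'⟩ i hi => ?_, fun h => ?_⟩
    · have h1 := (X.one (X.add a c)).1 (X.sq a) i hi
      have h2 := (X'.one (X'.add b c')).1 (X'.sq b) i hi
      rw [dt_add] at h1 h2 ⊢
      rw [eq_neg_of_add_eq_zero_left h1, eq_neg_of_add_eq_zero_left h2, z2]
    · obtain ⟨v, c⟩ := X.ex _ (X.ker a)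
      obtain ⟨y, c'⟩ := X'.all v
      have := (X'.one (X'.add b c')).2 fun i hi => by
        have h1 := (X.one (X.add a c)).1 (X.sq a) i hi
        have h2 := h i hi
        rw [dt_add] at h1 h2 ⊢
        rw [eq_neg_of_add_eq_zero_right h1, eq_neg_of_add_eq_zero_right h2, z2]
      exact ⟨_, c, by rwa [← X'.inv b, ← eq_inv_of_mul_eq_one_right this]⟩

theorem baer (X : Ext π R CB HP) (X' : Ext π' R' CB HP) {H : Subgroup (fib π π' ⧸ dia X X')} (h : IsComplement' (dπ X X').ker H) :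
    Nonempty (E ≃* E') := by
  let K := H.comap (QuotientGroup.mk' (dia X X'))
  let f := ((MonoidHom.fst E E').comp (fib π π').subtype).comp K.subtype
  let f' := ((MonoidHom.snd E E').comp (fib π π').subtype).comp K.subtype
  have c : ∀ d, π (f d) = π' (f' d) := fun d => d.1.2
  have h1 : ∀ d, π (f d) = 1 → ∃ w, R w (f d) ∧ R' w (f' d) := fun d k =>
    (QuotientGroup.eq_one_iff (N := dia X X') d.1).1 (mem_bot.1 (h.disjoint.le_bot ⟨k, d.2⟩))
  have h2 : ∀ w a a', R w a → R' w a' → ∃ d, f d = a ∧ f' d = a' := fun w a a' r r' =>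
    ⟨⟨⟨(a, a'), (X.ker r).trans (X'.ker r').symm⟩, by
      show _ ∈ H
      rw [QuotientGroup.mk'_apply, (QuotientGroup.eq_one_iff _).2 (show _ ∈ dia X X' from ⟨w, r, r'⟩)]; exact one_mem _⟩, rfl, rfl⟩
  have h3 : ∀ g, ∃ d, π (f d) = g := fun g => by
    obtain ⟨q, rfl⟩ := (dExt X X').sur g
    obtain ⟨⟨a, b⟩, rfl⟩ := h.2 q
    obtain ⟨d, e⟩ := QuotientGroup.mk_surjective b.1
    refine ⟨⟨d, by show (d : fib π π' ⧸ dia X X') ∈ H; rw [e]; exact b.2⟩, ?_⟩
    show dπ X X' d = dπ X X' (a.1 * b.1)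
    rw [map_mul, show dπ X X' a.1 = 1 from a.2, one_mul, e]
  have b1 := bij X X' f f' (fun d a b => Subtype.ext (Subtype.ext (Prod.ext a b))) (fun d k => h1 d (by rw [k, map_one]))
    (fun w a a' r r' => (h2 w a a' r r').imp fun _ k => k.1) h3
  have b2 := bij X' X f' f (fun d a b => Subtype.ext (Subtype.ext (Prod.ext b a))) (fun d k => (h1 d (by rw [c, k, map_one])).imp fun _ k => k.symm)
    (fun w a a' r r' => (h2 w a' a r' r).imp fun _ k => k.2) fun g => (h3 g).imp fun d k => (c d).symm.trans k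
  exact ⟨(MulEquiv.ofBijective f b1).symm.trans (MulEquiv.ofBijective f' b2)⟩

theorem dTails (X : Ext π R CB HP) (X' : Ext π' R' CB HP) {RU : Tr Rl} {e : ℕ → E} {e' : ℕ → E'} (h : ∀ y, π (e y) = π' (e' y)) {u u' : ℕ → Z2} {M : ℕ}
    (t : Tails R CB RU e u M) (t' : Tails R' CB RU e' u' M) :
    Tails (dR X X') CB RU (fun y => ((⟨(e y, e' y), h y⟩ : fib π π') : fib π π' ⧸ dia X X')) (u + u') M := fun j hj => by
  let d : ℕ → fib π π' := fun y => ⟨(e y, e' y), h y⟩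
  refine ⟨ev d (RU.get j).1 * (ev d (RU.get j).2)⁻¹, ?_, _, _, cb_add CB (fun i => u (11 * j + i)) fun i => u' (11 * j + i), ?_, ?_⟩
  · show QuotientGroup.mk' _ _ = _
    rw [map_mul, map_inv, map_ev, map_ev]; rfl
  · show R _ (((MonoidHom.fst E E').comp (fib π π').subtype) (ev d (RU.get j).1 * (ev d (RU.get j).2)⁻¹))
    rw [map_mul, map_inv, map_ev, map_ev]; exact t j hj
  · show R' _ (((MonoidHom.snd E E').comp (fib π π').subtype) (ev d (RU.get j).1 * (ev d (RU.get j).2)⁻¹))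
    rw [map_mul, map_inv, map_ev, map_ev]; exact t' j hj

end
end H8.Co
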