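import Cfsg.Agent.H8.GG24
import Cfsg.Agent.H8.SpecC

/-! H8.EG24: `gk`: the prime graph of the model `P` (generated certificate) -/

set_option autoImplicit false
set_option maxRecDepth 200000

open Matrix

namespace H8.G24

noncomputable def x7t0 : ℕ := (nat_lit 0x3233f2dd9663c941eed55d95636c994f228f473064c4c439353b53cd4087eb55eac949cf4e9b631877e5716248184f09a93cd450074cbd2ee454f656eb86562ccd8ed0738258e2f41e6070123acc8a3676542a2f7da6069ace292123e1c4118cac465cd0c99d484cbc228f729228390a953dcfbba85471f4ce1875db2967ccf83c0cb1c043a7a698dde96f8254353b4768ee655da1f0992a22a3c4a464fc8d72e0917379045096449c50dc0e6049066abae3d6e66a8a827d85f5ec25888080a9db324dadc0df9608d9311d21e75f4fd9f09775ca746771fd553365e62d057f169dccb0372bbe56a8468954e94a996b2ffa4199242e585b6cc1980aba75203882f5a781d2718b8a2322747c63a8ca9469c6ea593b642502d671a490eaa9bc3929f48e2292e85f91f952354a48c4db4d0f2e4b05113d04c90f1073297dd289799dc512d25afa9ea3cc1a3c4792d4b2630a736e742a9953356b2356f1b078c598e24b89c34d16fa5c89f139f8ca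350cd29ce9da3ded823d24660f4418aa1f5850fa1ebd2926add95b7e4173eea71867cd1fccc9f674ed558726636ed94abc0c8b917528acfa5ec94e7cf17c05da0ec73522d41d1c188de9adb7b8455895e213eb8aee5d40a9675b0b6164012e32edb44674432a0f154c67ea34c435333d091fc9f841adf2492d2575451e02182c505d8cb43301159f49d8486eae6b300854b616baafa7b25e2db636c89a55e97867350defa287431c91eaf75f131a6d324862f28ff31f96f03de29c6a90775f7c4d69065a1029d3e50152fbda412cd21ab5d60900dd8bb04094c24525b867376069644de7090cca0a8cd1e79c488e08e8f1d16520628d042e9b14ae429b58b055585b0c670b8511bde717498f4a3f31ea55972d67a8e09c0a148d7444de4be82a5e53fb953a88a57db523e8e95fc3ce6f738d942d1624b02323ba6cee45f1ae65cecf500c955b8ab674b5c6b70a52148275f2b1cc28368c5f8afa6c97f449e14395a9391065374c4ff2912a299e66da0c5146ee50f0b6b8cc880b827766f0d12ec8c71547203b09994a7225983698e79cfca1790716844b5596949bd52c64f0c0d1c1b526d468ba3c8e35064da2688acf13eb102b302908d046cd279129d0a88ced9d1755c8562599b876ede64443254ed3d7ca3b8e946943af4461524e1c622cac821b1ac565381c42067b8f6e0351f998a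6cca2ea68077e54c69778da8e527597b050b72b85a69869c9f57f466a12cd1aa88ad78501636b190ad154ad4fe762da602a5e951ea48076d7ab4b9e88c5eeab45666b698b8983ec28f8a476c29c9e3c606ea5a0b3cfe4592acebaf18aa69d6db8592d3a2012983230a29451358f0598e216786f9e5328c5d952dbf9b3572cb648b568f8931d4c235fcb0e871cb77d2e98b44471f509f127c551219e6d2d85f460c6c1a524fdddc2684cf02681c1c3d0e89fa4c5962c3509d052b4af1c6ae39de9fa4e2544a736d66b77a5c93926cd033ae9a919cc8269e25e3bb51d29df2d4d5d30ecda53879ecaa72b587fe7b0f6c2b58adb8e046d4dc8b916cff2fee5aa9383a786a1984984b3475d93059969210ea1c96c5a5b9184898e6d19cf566b37d2f38735ec5d3546a37656d7fbaa7fb20269b574aacbd559a53ff5422a4fd684fa255371590c7a5a45f788911af29a3267b8d49aa40a969584f293f515cd2f2893021b15028b32bda6cc37e6e817b1fa33ea955325049e8913d1742e6738e6a1e4e85acb61c838e7cccc29f54092924ab64c14d9051b186e614ef3e4468a299f3d19cc6c9beb93a9f14d75a8b9f88d91ab148d0724b6afda4a92dfdcd2542684d11fc3f7225e5b269b89ee4eb8e88f4195f30f420fd66398c316794f3207356cda473f09ec609ce410594dd285c634349c190c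cd48b481d9b088433ad98bd79334f9001a65b25f0bd9d53acfaa5750068af06374c2634578ae9be37aeb0c84d76b5002420841042044195029e538a6873296504a48dc28e1d4a28eb1d03a8728e906e0d01b03509a0842701f09e080280220500a81482703c0700d84a03a2784989a12a2604b09c1283d0780f31e44788e91c23648c9292722e4a4520a214028c558af15a2a4668cc19c32c9f13f2784c49e92423e4a09092a2444989008c11a228470f81ee3d87a8ff1fa40c789010fe1e43e87b10c21c4288828c544a5153298550a41521be3786e8e11b60680b81903011413047046120128460480ec1d0390700b01682b0960b86a0d61a0348560ae1542c0960a118e27c9b93b2724c89a83005e0c81885107c1501e05207a14c1f8330880580a843082100260420924007c9041f64087e0fe1f44648c11a22c2484889011e2744d89911625c44943284510a00e21cc390700800ee1f83c07c0e81e83b0ed1de3b8738ec1c64d86a9381a24d06793a1a635c640d9194368648d818c2a0598a7168298588a51644bc9592e2664b4980c017e3045f0b51722dc5c0bc1762f45d0c218a30c6206022a44c8911421c4408890f2164348610a210414839090c416c2e85f0c218c328670d22d8830570aa1c43786d0d61b8360720e01682c8580ac1983206a0d01782e0140020480601001e008058030080280480800e04c0700d02201403000)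
noncomputable def x7t1 : ℕ := (nat_lit 0x2cb9548a6689fe35f0d52040051540d793c39cae8cf33077ac9d98b5405845b9efa279934e968a3c6906fa8ac528b917558bae84693d3832072caf654a95a62e28d1c7b492d16851765c919d11332a36bda48a6e632e71623f2528d39bf4428f09f67750c2fb17a6e325a486492e30c4ca78164164458a90fe1ab86d20e7ccf8a0460d0a2b77427a2104994af2e6a12c12e5275aea9aa766cd1cb4a6dd45229aea425379d51974a4f365b3972b0f966ad3040a6816624c68742cbc2e343ecbe73d1c31af39304c23b85825049f69edf16ba4580c9ea86c5478e86d921f56032352fcb03bc59656b565447e56ec02484a367d5068991b9943a43cec28caa5562b50cb7a247bca6db053c876fd542d13a246162d3349beeb4cd2fd90e9c9ca95594ad629a2068651fa7f283a0f116324659d73b28eaf7838f498bb9f82e585184c36fe8316e1a7808cee87b692f8bc230aa83e9486134277bb2c8efb9381efa94f9fd35d205a050589f139e021765b390f1ba032725589a78a890464dccba7f0fa1ec7247d3d1a6511376bb5dab36756bf1e5b1e4dee6205409468f8dad296a674c966bfa501420b9bbd55f4820ea646389b2a34187dca49bdad648f3be8818078d361d4c28914c39331e2662b95dd51e764a660415646f29903b46342b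3dfcb714d52f8c72613b738a269847831be8bccf820599f49fa51d0cd209b86ca9d65ec1f7aae315aae75ccee2954cd2e126a9eb839e70f0da474476dc138cb5332f2aa832755315de29f351ed34b13f1a6e9ee78adb488da258a695ff232a74e92ea885d8bb06af3520595a7cc82140d0085e929b94c1832989e99da652caa2498142c7966935581c8a9bc33e361211b35044ee6512cc97716ccd582e94214a14e414450e09c0cf55130e0d8bf66dec857f4854a15495397e8be864fc4c682a8ca50d39678b6a3cc056cec2e153db7b878555c468d27c5da35c6b655e53a38408a121747c7f8dd18d41a5f523ceeb2b57112a353bf744d4cb1cab7d87eda0adf7fe6d5b131260cc15ebb8f66e61909bb6a4d320b8a25404e15434f68728ea3836d63e662113ccaa936cbcaee7907da92a9158e57df6d3841c9e6209a88f4dae873103210b52f390722ab998174887199103b3a3f35d5fbe44129fcd247f6eb2fd7cbcf7a07655caf48da791502c995d4b27da8b35ab811fc806c6d925db034b1259c74e08a316694b5f53ab00b5be27c2e129f34b5a6fd1b64b484922528d516465fe311f7526b1919d354fd0fe3b36a966645eca5aa9afcd43ad48747022dab4566bae939e97c1279af41340321a5ba735f6754eb47d9fed10cf9c33891a1de32e5c47c25429857d031c34906369ae0db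9ba9090dff28c3586da35ce65eb12e8ccac6a934206d2f6f295988a7432c746a0a466713b56c1cb8c0aaa6d17a74e8be63b5082c835ed2684cf0b2a54739e4d1d691bf7728459ac507587a911ccc824b0d01a544a6c8a129d43a693926a82344708e0a1e559110bb9f27ced666b2bb71124de8b185f0e7aa3c8267e6a8d49b742b38d5b2f3a308b916aa35954adbb3d4928c51849d271b1d601b3a8807310ea1c9b25edd2bf0946a4162b804bb22d8698fa9f1c5fbb4986e6f5dbcdd310ba0f5baf939329b096d3fef265c19c336762a9bf8a030c16837338ceed56ce888e7b91aa369a6af1c4a63980624c554973b0059ecf75bc6e5e146c5751228d3e854259cb4377a5d2625d308842738e6a484f8b64d31c838ef11934555e2e9a91a3198a570adb7d41723a57b0085752dca23d5106c8de45841f385592ec30e7b0f6a2653c5b10048863a674cf3993aefed25cfd684b3a189c5a12efa752e13df2914b95970f2493698c316e6aa2bfd9f90d0dd21865860a8b3eb456d4a6716a2d34b5bd3d8979079821d039f1de03b399e0b54d29c939518d0d2a654b15977ba8a44fbe514c46a2578aed3641496d87b02853531c90e21c83807315029e538a68e3296394a48e128e39ca288611021ca5085210424829071701b05b8701721c85a86e0ae2d8830550b41602b0bd0b24008b102230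3f88c9042343fc808fd2064788e91c2362504b09522e24c218400841041e83e0780fc1d0390760e01a03706a0a41b09c1e42687809e1e82607989913625c4e8f81ee3d87a92224047c789210ee1d83c074288508a01430ea20ca08820e62106e0811be3786e9481b6198340640d4310388c50d6308378c30da42c8690c21419c3286917618c2384508c120290540a61442504c0961242784d09c0a82805f0c216c2e8be220300878c12222fc870620c01782e1152244505e1131744a84712411a4a046126114494939232522484889011e3e47d8fc1163e8448e81d43ac749542a254ca90801de1f87687c1d81e87707d0fe1e4a307b2980801301f04a08812021046060158170580681681905c0cc17844060058188150640780e81c05006c138ae1542b05813526e4e49d8a118e4b04f8d21a83406b0a7148280518a21522bc558ad19c334660cb27e4f49e13e1502c8588b4166318648ca1904c898933260354688cf1a64d09d1362704bc9592e25a3686c0d71b22985281400c0480181001e0140201101a0280480800e0040100b01803809800)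
noncomputable def x7t2 : ℕ := (nat_lit 0x49f46128e50ca29548a915cae9592b6524a994c8e253c9a93d26d1349c91496d2e48e9192364a49992c9664bc8f4c324e48c9290b2264325290f1d63d4774911e24024090920a41c7b49492e3fc7d8fd1c23a4714791ca2fc6243718230c6b8dc85a3646d8cb1a1104668cf1662e2118b516e7928550ca2144cfd500a05414fe508a2945a8c9f4a393d27b9e29f13f4dd562ac959cde56aaad562ad9d4abe712b656eae55d2a654f371542aa534a6d4e4cb53d34d4aa96530a66672a0542a8a67aa4520a4663a925289be5c2704e29cd354c24d69b13727497a9d53b2784cb2cd332674d2bc97a2f5894bcd7717b5e0bc4beaef5cebad76ae85d2b84b9ae45cab8d6e9ab5beb80d6ade5acb696e2d75b0b4569ad4872b496619f59eb4167304610c2982b065fec0581428600becccafd5fc66d7e2f6312be57d2f82c6b21652cb5925a4adac458cb1d629612d6b01612c35825c4aaabb57cafd5eabca8ce71cf9dc3a8755ccd53720e46a73933c2e52a6b9239c73ea0b8f71a8150338aa66e05c153e708809c2d3d7074d9beb8041a7e8fdd2c6f4de1d83b1a3eeccf8bb4a3ceca93bac75e7b0fa1f5753490f21e5a2ee91d11c1389425b99bb37d44db71c7395439b49b5371411b3364338660cd19d33c65581993328c1ccb19184c6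3cc819231b068c518c31c61d7318530cba8c4183890604c11842fc5e8be17f3005de221742ec5e0d9c373626c8da1ae3546b0d79b034eb54d29a65b26a0d1c2f340688d216f2e05b0b71722ce5a0b21662d457cb015c2bc58a049592ac560ad47c492fed2724d48f1da0224448d1e521241903005ff3f64728ee39a3e46f295f223446d2a119231940fc5f74ab452fad1722d7c288d12c9d45098d314907a4f3e45a5a7b897d2f25892af552aa57930f3127a51910951df46443f1a5113c88bc86a31a1d7871a90ac6f430ee62c2108ba84dab3526ab341aa4ca6c2d75b04cc6bed6dabb5a9aed65a8b4d986d41a74f9682cf5a04fb67ed2da3b4a9ecd25a334268b3fda233c6713b59db39658ca195ce6654cdd99b369becd674b3265ccc675b3064ec8e6c326648c5a5cb12628c4e5db22968c799031f96cc725f318634c666031095ec318730d963489d452174b495d3d2374d4728dd20a3b4a29352aa534628b51a747466a5d4aa9f532a3d45a93522a8b98aa0e56aa397aa4e5aa1540a88e3aa1d37a6b4e69c5317134c1c35347114c9c3d3ba754fe9e52da574bdbcd2ea1b4328850fa1141e85d0aa254468ad14a0740a83365a0b3b2744e765eab95c4e465b38d94ce59c33815a2b0668c966caa954b36a6da979aad726a3589ad34a68aa353ed4e66cc9990d794eb4f988a4d47c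c598d406802834fed0e7e4f89eecf946a879e8d3279b489eacea7727d4f33be7831b97e9b58bcc162b2e93bb11978c865aa7263b2dd87cb04d0c2e59442880b6e1fc4187b0fa1d4388790ee1b4343530ce1a9a18650c21743159b0b216c2984f0ae1542584665e1142484307d84c1e84062e0ec1b8330717bc578aa5e62a4568a7145764508a513a27c4b8931362617588f11621c465c45760c41682b05cb6c148250460996582103a06c0f2af03205408816f5d2b3d87a8f59e8bd379c981323d07b6975eebd97b4f2de6bc94a094de5400804ff51fa437fefe9263fc7f0fe60324580f00e02bf57eefcd1d23d7e8fa9163ec7d0fa5f32357cef8df2bf07e4fb517a337def81f13de44889defbc1784851dfbc042eef1dea1e774eed10bc678e865e23c5438edddc20f76aed9092004027fd01a0b6fc831bfa0a6f6839be207410811049fc3fa7e5bb1fe6ee7a9d69eb75c7a5d51ed7567d8fb9f33f07bcf81ee3e4798f39e37407a1d09d63ae74cec1df3c0778f11da73a76dcf1d9734775cd9d03a2735c59d27186f5b79bf6e06f1b61c06da725b51cb6d6721b39cc6d070dba1c56ea709b89c66e46dcdc9b66c46e9b19262544a09211c23c4748d9181e4468781191e8458799202444847c11f29c540a794d284374a20db28637ca00de290530a51462a4550a98eb2a24b46412f18c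4b86512b1924dc9d93926a4f49f93e2784c4999321b44c08610a2164348a1122264548810e21e4448410520e2dc848a51ac298690a71a02a06a0a014428c520b11642cc5a0aa1582b86b8b01142304688e11e240488921264104a10012a3f84b1021302684e0f513c20441083108214738861c621c708881ca1d03b0770f01e83e07e1d02003706c0e41c0330640d41a02f05c0c41802c0560b42e02c8dc0ea1cca09491d852c779451da51c770e21c83807307f0f61e47487d1d44e06593a19c4d06613619a344698cf1aa31c5089f2582bc558a91b02b46c8ff2023f4818f11162248b9271f24a47e1231f44947d89d13225c7b09b1ee17c6005b17e1746086117c1bc5e06b1761b45e87117419c62063186194628691844182a8571722d85a8190300680b8210400880f81d0380780d84402c0cc0a8230841002084307c0f01e83f0740e01c83b06c0d01a83704a1342704f0a01242504b098144290530a8114230470900c4178300640b41582c05c0a4138280540901301001e0380880b01201c030080280300980a0240140680100601001000)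
noncomputable def x7t3 : ℕ := (nat_lit 0x2e98a0b9d76aeb5e713624af25eabd177aee5e315d782e35c2b9622ae45a50f21c2d15a8b4d6f2dd5c10d96fad887eb596e2da59cb316843059ebf17dafe84abf58341e608c298430085709d7fb02602be17b2fa836be560ac0824b0d612c959103965aca58ab120b2c758caf55dc0a57eaf94728d67d3e27e2896913cda628850ed0d3fa8350340677a794f49f59d2ba65338d96ab9570cd1582b456538557aae65f3a2764da54aa9954b256a6a7d51aa19a4a794eb5e9933354cb589a8d714c29798aa3d4829369f2f13a3114eec565ba6f63a9c990cc14d4c5d36b1b96499585a6861f532a554b72953ea439aa8b51dcf549aa5542a8b97aa950dc6540a855129c37ba6b4ddbfd39a654c298b88a694f29d53b70b4fe97377a574b697d23a43489d3d25a3b46e8e3b4a414a5d5526a50eba9551974345a8c51a6d143e8650da20da9b950aa0f42285b746db45288d12a2adbdb1d05a0540e833654708d11ba354668bd1923045a8b9152294592ad15beb44e891133e144a991302634c29792fa5b4b497645a5c7b89652aa584ac94d2825279894526a4e4949252647c496fed2424448e91521a3f4849011ea3a478fd91da2143c8810fa1c43286d0d2174288590aa1241e845dca103d67b4f4bad3d47ddd31f83e6e94fb1f07647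c8f71ef3cee90f41e33cc75dcb1d83a6e54eb1e0724788ef1df3b6774ecb9d3b4745c79d239a74100b834067fd0020c41c829bf20b410e1d04a0470c81cfeb7a3fc7e4fe37037e700de1bd6d672ce61c8392dd4e29c638470db31b93746d8dbc2885509a1642d84666ccec2432e6660fb0960ac0d83c1a5ef064c498b8aa5f4bfc562f25ee28aec5d0b997544a8991222744f888b8a219732eb1016dad75aab661cc3b86f0f61f43435a6be1a9a93570bd66c2e33e684af96182a56cae96f2e3044b596d2ce5a6069632cb0255e4082aa55dadb596aea59ad2a26acd51a92a06aad85afb5d534d81a8b4e528d35a828268cd11a128068ad059fb3d514d01a5b4968ea19a533c6729f99c33b664cc1972ab662cb19532856ecad59b3766accd58b3664ec915532364cc7137319630c6935b164f0c4d893144eac8939b1f63cc81383104d2c358630e4cd20920c837fd20240c848031f63f47b8ff1de3c4758f51c6394704731d2564ad9552ba534a79492a650a31944fba4fca0946fc64dc9c93488e4f49692f2524cc914c5249e7c8f92124de948c91b22a4748690f21527c898d91b635c6e8cd19e32c688c11862fc628b516e2cc588b93766f2b59bf38273aad9d33aa75aac9c4ada724e59cd361544d99b737153cc853932a65ccc53734d4acd59ad35e674cf54934268cc3525312634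c75233c942cf49eb3da7ecfe5093fe804f75193e67d4fb5173b53e4ee9e13c53dcb44e32d65b4b897c9b25fcc09852e53b4ba9772f657a679612c659a05714e2699a06704e050153da7ce129b3806f8835beb763f54b1bc1fb6f2ec5d81f1a3d47dd9d2775eeacf63ac3e8ea5d45243eae80f2517744795d1d4673ee6cee39c3a8e65cc5533aae45c81e1a9b539c9b8b39d505c69cf71cdc4e0d096e6711b61bba26db8df36738f439b49ca6c46d6823643706aa199ae3606b0d29a7351106211a63630e8d99b4364680d19a48630c8d119332a65a1042132863e14991324640cc422338678cd18a31a63a0e41d31860625983308608bd4542fc600be18530e6222945330c5d0bb97888d11cbb1642d103cb5166820570b04172c457a0c16c2e104cb916e828558acc0b2b4562063d97baf69edbd47aaf624abd6930f5d2bbce7a6f41e8bc979af292a3cb91100e024078ed0163cc0648cff6013ff800fe1fe3f97f4fcdfbbf447cfd639bed7e4fbdf83e87d8fa5f53e37c8f9e52be5950f991b3de7c4f7d143e093af122f3c7790f150ebc68c6efe353c2786f010c3c18deeea323bd77ceed113bc8d2ed5dc3b6426ede2e92e25a4bc9593e27a4fc9e13215c4c4581331544c05613926e4ec5893523a4708f11b2422709009e2442608f89a2324608d1162504989508f24854c3f152100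5503d1510f850ca114428053ca715029a528a414c1025188711121e4408510d216430891152264508290920e168840e610a380438e41103884307d0f21ec3f9410e61d46e14728a52c4214915a2a4558af25827c508c71aa294678a71a62a0688a626c4d09d0b427045c4488b1e240c498fd12a4044b0ff12826c4b89913a4949192912449c2e8610be16c368710de1ac328690ce18c2b8b620c1582a8f51ec3dc7c0f011c3c8450f311a3d0460fe200408820f91f43ec488fc12036c3c0dd0e83783b8df0ec384718e51ce3a0748ea1d63b0768ee1063bc410d01a43506b0d71b03646d0c6148320500c9146328510cb198334598ce16430c320c20d4314330c40d02fc2e0be0c43042f0c00c02ec360ba0e42f4370bc0e02dc5a8b90b02e02c8270500a41502f0600c41902b0580b4170230480941304808010c208420780fc1e83e0700ec1c83a0680dc1a83608c07c1102004206c0f01c03a05c0d018032054198160881382804f09a1282604b0921482a0530a211c2280b01201c088140260480280a0200200780c01c0340300200600402000)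
noncomputable def x7t4 : ℕ := (nat_lit 0x52f9b8c9528acf37141987cb376e560f33508e9074c5b8e4f72764f447400e1156331932b64df4c2782b18af3ad6b4a5a00c2daa940515bea5e0e21593dc3570d8e2321970f18b3520a3f33266a45610769a54a37e3139bece64c2f44d91ca97a87dde16e3eb34525bfa33553a7da357cc61a9737855521d67364a0ac3509c5b2b4e866323d838bdce94ef9e0f7e232037073a92cbd65af4518ca1858a589d59ed6b0ffe15d53508d1256aef412cd1ed1af86adce8531f43a5aa8ed1e53d1e23cb067373d5a42338994e15d32a79e6d287a78626888b9523548d512719ea98a399fca83107f66cbcc90cb41b34b04d1169dc959a30a49fbc1b835506a133c44d1169db3255af612c2db6e09b6362c72c0ebdada428050a4ebb989fd2ad78b8a66e974d6c346ea9ca303c82d07c264cca8ed1dd8554773ea21f944a418dfd96c91366b50e5b6b4ef198b82c33eeea151c7d338bf8f03949f1298c3aed6ecc8de4acc36c995079563c945947cc34731c0c4c19a813b64d223886e0597bd55aa6f1b626a630851df95c58949a69c8084ee55a13e8454bba982059baac24525a8666a4e126f432591d8b5d806c12a34f394127e2420a56c980d89c84e8878b61f3540928cc1de5148d1f198548e7c5b099583f22e98a089bcacd703c738b4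21389679428c9cf34c3071c68bba4526d44c6a526f54b193c3077140d33abf812f85f11d19dcb9520d283d73558149670b3a2201a77846fe8926c97e57d164ac732d1a2ac7c7f94895119b4c4f4e9bab9872ef9ded0d4ec5be52be7a96a3176246766a6e1099491c9729a2079c2b7d0d462386c80b2bf0738a1a7b1828e6fd4f2ba398e631e5c886f2a9e1945c36ec38ababe44b5119db3a5c92112052a52ec05ebd3e9d669a212158dc6f68ab1a2bafadcbd0050315e3f9f69a4d54ccc93416ae195c3d8d07258ab142db2a4efcfc680baa029f253a65a1025e91b4cd5acdf5bc871b94b64e65a5f75483bad24c23f447d465a74c531cf28ff4da6490c509363962af55e49c71ae313f2e39067b14ccd66012629e3308826a236a176db301371617d2762a93438ac936923a69a06757e26441adf272c3b5a4885b4b689765c560a38a9ae4a7d2e85d31d52251b3dd3214d41e326f65c33335bb178e0b1d2c68bceca859e46051d1e352062a42d2b9b10ba2c3b536ad8985b0c2aaaedef38b6709e570bfd754d5d7fa559287fe9d2ab9ce6961fc6a376c5cadcaaaa13f5404544927d14f9979214da71c378c871d8896b7c8e419f33d5cd305e036e38105daca437fd4a4c942a55eaba4bd3d5b13fd1722d72c5fcc04b78c2f14e340f59332dafa48764c159aa5f70f4c8d82897df288ee2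f389b2c934bb637502d4a4723d0e897c4db4a894dbbacd348ce513a28a865e1714bc8ceeece64136a71f9fc9f8848ca6493d041d0f146ca77ca78a2931c42cf0e89c16530d72413ae3230a274c954048056e283504fb2a897d2fd2d59121ba1303965a9c80eed28e309569231eeb8935cd2e7a2313b6bd625b104226e68240a988fd91e1e75f4aa5543cda5b0bcd1a7c4fb26dc79778892e98b220a1d04a67b56498ea611ce465898dc043a9f2d051b9e18a29ad8dc6f6df0626bc007587aa161909d895d2b53f5b4d16571d63aa5f0bda708c6dd285aca820d820347a3dec1e703367b6818d6287461525cec4f5e89990845d6cb031a7a914774697cb269127f0fd9a23433c5f01cf3a05d4bb2758d3441b5414584a85fdd2574f0957eab77a54e5bf43e5a6a2d1b54f72714d75cbe8d74460aa959a88fe409e9a4e63e1332e7a8e096b27f452750e99792f52d18f45f78941db8c0d590d7a023b0606ac52da04354d1df6b9aa8abca24caf8b340a0434d7e6e817b2a554c93d281fa3f267cd027a448734e71742e72e589465775431b3c11581339a947b7f1485d2c225f73899448f79d4d5bdc385a33de5254a7231417391e23a4708d9011fe40c7e89513c24c4d0941302584e1041fc4087b100146280510a41424d8639342584e84f938194318648c825e4b8969372563ac708e81ce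3a8718e91ca1ec3f87d0f2550a99522a21f83d07c10a2002684e09e1402304509011c2584c0921282a0530a40642894429c508a814029e50ca68dd1b637c6f0dc0e65043a8760ee1d043078120244478922544989212824e2649189b24a25c9489d1f43e47e0f81f63606b8da1b22b0588ae1682a8590b01662bc548ad1564cc989302724c82004108410c1c8380760e81b0370680d41f83e07a0681e0d319e3446a8d019c350660d6196348668a614a2a05393c27e4f49d93e26a52c701451c8524731471c4518a61482943b0770ef1da2084088411020c4388b1123c48b88c11423846916242468901182444648f8f01e63d07a8f21ee08c0a82402c094220260660b00e02b0360b80f02d03a0c4108320440bc0f8300400a81482803009c0b90921041c829122264508a90c21a4288590f21c4448806d18430c620c51722e05b8b517e2f8608c01782f45d0bb0d61803105c0bc1983206a0d01682c8580ac1b0370700e417c3085b0ba194318690ce2d8830570aa1bc3880902601c020080140380180c01603c0a0100240080081101a01802800)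
noncomputable def x7t5 : ℕ := (nat_lit 0x2dc8091d53db693bee4e58cb27bb09de2c573e736554a90700b14b14a351b3e8dc5065ba909ea19571ac565ed189c538d0aaf32ccfa667aa33f47094124d59e688c73d14c29a8edceb9d947a8ec458cb29a0453440d35a3a1b437edc279b223a866612a535ceee59a4df3d54f14da247bc5bddaa0f30e7b5594cb53b4f8b5c117c30f51f34ca226eceba6f63c944cf51fa40abddea202e70291a35aa654cda1280a10b35fd26483a62ea331c659458c146d4312b9f596aa5ad49b19ba9f8ff51fc3483cf612c4bc3a05fe31c626467de9acc45268cd634765ab0fdb527e967532a69917b3349bb9685972a9e1449891468f2abaa809d9eb42160e6c16f48467cd99622327e4d394a37e3f0a9d0caf12fcf6d803943c0c313e33c3906992449c2da7fd4e3616667ad744528b8bf9e4a506432e2a951537cd211e2d17128226a3e6816af172176444cca8dbb0983301ce9894c6f4d24c7b5a0dcd40b45a90c6d302fa85d1f142374530d6dc320481855e544a743eb8e8e1f165e948cbb9796ca1e7b1c06db0ea1cbf34745c512cc870a7a55a3b642514e1642d7b497933b10a94e4286a7a80cb5e502c741d31e6d9f65dc5e9e431271ec19ebbfe3566d67c1fc5488b0b244b8d73995c5194e108d27d5372ce05143df2dd052651885633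75d7bb77ecfddb7a8987125ce738b4eec58ca1679a2a86973e87471b0c0b2a652a2a7b9af80140ea5a5c91d0ae57cc682b28505d398bce9a9232564c5f56cada4fa71e3cc19314c66a4a6246b2a5c529557aab674975442ec6851c67f10c280ae5662ec9dd4647f2938e0b715066858c3175eef49cfb887ce5555db5974a7d230a1c5e0aa19db3a88100ce648ca9c9a57fc2682ea3e9ba0c7e0f0637ba456d13619a8e6ca906015433a52512ab09628d58b2a2d95a7e59ac508b4845d65127eab4a1da855fb2d6a81d34a9269c1b6099a5c2403645166b5702f489d391d01e442ede9159695933393c304607258e7cf45106c91ec723787b22c2ec5db384b629e40126d13488732e618e99d3489fdbad098ff199d9aae8865d14b4d757ef91f1a093b2f3de82f997f4423ba475ad3bd9ccd88ac601e33a9750fba9b37b525060af42861ec38f148a4b6835be22f93f058b035069e9a0c848d7231e9b5a79351151921f574e86d5f35ca608e24839b4d706da1b4459867d2647da1670dda46988c5e155b5d2e52769dd543acf31e6998844c7e5bad450cdba3845ba4eace6f2eb9567eda99638412e6a149936c90cd628c656bd5dfc6a7432914bc092b2e1ce2c3159d3f5fda4b9d4cc1df1ef5c2632a2b9a9249b53640fa587f5f529f540d027dc81a0a6b8f1c4f572cb5e0495976c4cc9d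4471ce129fac06bef89fa34b87cb4db64517574a62cce066d2d1e5c89aa30917e3517df2890515d34a724e54079e0869532a55df489c93028529992d4dc8bef1291c553250a8f0bdc61699518cc52b856dbeb67a1910a7747880aeba942e95608422ec85640670cd9d85854e9c12279933d5a4c7137b0dcd8af23cc859e1ce59752612c9cd6107f9bc40e6aa8a914c01480cf61ad0437319dddce888e7b8ed39c5ec9ba48cd36ae8da9895a3470bdb924aa0107d8538c7aa9d59446e3cf45cc244c36e6a8d4b3f9048b9514105954adbb49397d0717c39ea8e7ca2217755887a7f3468fd41e1915640e8de52b58532c352ec8ba9e63cbe17ba4287593a449e2b6cd3d0f6d0dfcb0cc369afc5183953349c539487794ee15a9855cd4a9d6c3ca271cd1db479e533111d3d406b0e09514366d291cc9e7c0a69af2c182680900afb3ab21939b37427499d51865d53b59c24648a72e872d888257e9c3ed52297e583013bd494bcaaa9b4f1e303fc9fe680e22052b1355f2b1a98523de71dd3b9068c6ae23e11a1de32e9ceb7e1b362a04ffe41b419f3341aa4ac7d94bdbcc0d591504e8b0532cc453a2574ac8515b9838947a1d10841042044187d0f21ec3f8e528e38ca28e7296384a494028450c3e14403c0700d81d04c0f01203f0460f41283e0a6150288520720e81c02d076308300c50b8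30c2f0c40c42d82b85520c4548a1132241c03606e1701c88f11d23846c4d8971322744608e11a2287e0f91f647c7d0bb0ca2e8338bd0c62f03490920e414840640d41983405f0ba1845a85b0f01d03b8761d03a4750eb290378a60df29436ca30dd1c83987007a1c4100208420860a82682709e0a42802809c0801081f0441182404705c1149412424c4a84d09c130278800fe208408459171124887884b0941302482f02a0c00b0310880c81983706a0d01b01802e068160190562f8870c0222304878bf2201602b05a0b21bc3886b0da4308590d1724285b88810e218429542a254ca907329a1d4a814129c370a78ef1da3b03f0ee1004584891a124460479191203dc7e8f52023d8818f81fe48c791291e8494799271e025049896242254901322664c0988d11a633c6a8b21682cc588c9190328630ab1ae3606c8da2704d09b13a2564b89792d150294538a61522a8560ae16031c960a113e358690d01a84ec9a93926e32c668ce1984fc9e13e27a288500a41462b4578140060180500501e010048010040440680800e0480800e02602c06000)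
noncomputable def x7t6 : ℕ := (nat_lit 0xee86294225368a402662faaf77a5ce380912fa1e98a33e7201ac62ae6a7e2ae35a8e78e626428b3336261900fb88c892143726bcec0318c1607268419ad154c6866c1c4750e5b6d4f0f71954f3c233ecbdc085b17ab559539771501c6e359710ea5f38c7692e9dccbd81e2d89860b716ced5374dd07337a704155d2bad76c7d02e0b8f49eb9e67b49b93b6b402c9cc1160cc218548c0360c90520c9a88393c4fd07b3fa80148298cac0394a054764edce33ba9ce6704199f34606ad85b4b725601f24c4a9a500925118d5021d79117a34a80444efa3246f562861e1c6a08d0302400408ef02194c99163ccdd9df0eaa8cf017569edf0b030093ea5c9f2400c54a8e39ef116ad0f818b64ae6cb82d2900eee23ce89563255c14f4c21ca9cb3a7565a179c8f78b0767c47c1bc705000a1506804d0a8723a8c035549970259fc183a7b2d25e8887d06ce8f4b99842a1ec991a9b2f81a158370161db8366aade20722a22ec75c02e231ca3de30934055443ba1f91b4cc6186f56a4b18bb9f5ee69152bc114a7869108d434cd9c6c164952b6a98bf0cea10bc279778214f8d31146855a2ba282496ca0b1175eb363f52417617d523fd1b10d27e3ed1ed08e763ce1d315666cb28162e42bbb6a24f998283154cacc0c38b0fcbca0c2b949235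cf246d0ba028d2a55556a080e3a0138bfe0a2884b43a0fd467a1b0196b8294f41b406185468a294c2291ea73a30d087aeba016a90544081bb0ae5a3040328083269114d4bfa771363f8fd96b4721e4ae1c12eaa5c2b91c33c019068b30228117e43235553d2e83e9c8bb38c906dee87187a14d4070866305091ce3f08809b4c63a1924e6a84995a28c987f19c4283993dd430bc6421abac80144cd3d0f676340d721e206a468cc514ee689bbca27541b8d94566faf45ae0a41bb4c11c34c11c32290a5965a1e07955049016987b64421419210e42d94bd5537548f3be8819214ec5a2ba3d3ca8145d3a6946934ceb704b1316859b410ec8a12a533f6751319012c95113f0c270f2112f1af6390d9139cf3e88c86995ca34a51b5a379b5454c209517ce5a49a2d2fed18595351de6522933712149867186882d58415451f869a100b86ca56986d054cd3a5364ea5d53ae0283aa568c4294a07dcbf97d81d5fa0408f92187e4892084a902ff9702dd042b7e7ca769f4c1e7dbd607d5000713026514099af15dc065784ca4e332d6cccc7ca10a8b26209d241e780f2a254e0f15437e6f4e01bc38a70ce31c2396724e61c800409811a0f04a281fe48934071221c968043c25b8d9a9826cb3aac7e6d743606976300e1ec1994cf4c634c11d54745695f516f243a3dd93c5d0df32e0c8185c13d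489d4f03e96f536f78453ec8e8628e542e8eefc86dcbc1eecf42e071722f8e164e16febb0f61389a4eb96d9dc24f405cf30941a524da8590aac2caa95d682b524388f0a8ce50b206844fadb634b3e44d9fa14d688300c055229c131a72203ab0cdfdb676b680ca3bca2dad857ac9c16246daa0bc33d48c8e37165878892bdf2cacc9814721021419221b3eb151ee13c66a310d853227b2ec8224c890e12600e74590ddd9cb61ac9761339306a8485ab6357938935ce4071394139d73a6971a91d648d12e3b4790965080a144686fa4a002b3ee7cd15b333ec95e14c9593013e792759e80f27a918024469a9bf922c8da1d4a595014e69a709aa1026b02f41081125b4240e4b40992f668f6895ac1586a15612c0932b1563ab658cb123d2c9596a55652c895211000c5b02c05534b488ccde4c7a25670e169417120432cb5129712c49fac3e0e0dfa3aab7a368eda6b94a6e5a46a0ec2c44e9cc31e796d623038e36313c3439d928a1a9d14b750c61f03298d8e8cc0a51646ed2a39611ca3e4b942d0c0eb652296a945e4d64915181f121b5f1526a4cd48255a2b119b3f12e65cbe4a1538269323300f2c382b45c2ac55d32acc59c0896784d91093d2a4db311361354dc48a0ec4e9fc0607fa109f90a327511a289e065a76a749e29581f8af5c2b8c0d2e43a00a0e944239b318d44c34df3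1d1a8430febd97c01e5f212639a3947c798161e88a678c8690c2164288891021e4388a9142264480300001aee002a217066ada01000e6e55e2313a683e8bd0f84ff04ded8f4954da683ab263f550661981b4a7e07bea438e48bdb601a4225d2bbf1951edb9d115023ad584177f485dd919966238c4fb86774c66928ed35437e4536ea18a86a0a2688acf296252860c9e8ba3c836d4605310a0940d0888ca70c851f894268f414e966a7d49cb5c626ae27a1db7484e24a3c2ba1a2298a2bef55c57aa75362c71b9940b089828aa431b4c0dbe1c0b492ea247146868e20215076a52c5517886246ffd4696ea3f518adb6a89221253a991ff2193e1a3888de9f12a9a851c55418d85ee91e6a93a5b26d49177834e3dfba7da30d993445a81256533a5f3bcc049fa2e3dcb4ca824e3febd08f4b195f2cc1b9ba248b5a681da26ab9e6f9ea28cc127fa0b08b16109c5d04939a021433b13d9ea9193f135df212e412af95d83357a54977bd29904817e3f19ce4c56f4019ee6dcdb1fd3a279c08afa5a0b9483be19dcfda623cc9b242482cb0772afcdc908)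
noncomputable def x7t7 : ℕ := (nat_lit 0x4e11663c8e63e8710e6e480fc9765e511550358610822c1501238528f6324358be4f27781f93a87475633a50483592764b6885a2020dac1c65e511a21c474000659db1107ace59c1cf5b435413b8d39c89d122258ca151d218d21aa4e389596cc01a2d2682eee3c8849b4faaa6431136f468e9a0775731e5cab869eb2588ba98a4b0420740d9a903ddb0b902d2c8dd0d17271b0d017d53adc9760e519731c8caa41771f97e03e6962b1a4b475082fe569405deefd24247094916788f93234296da233429da5c5267dee29672050608186192e56ab7a4699b55d1a87133a2fcf41f989297af51c12d6244186a21f086ea65713c71b86913a4893d708a61c2503d08c27ba84c8981532639c0924e90cd58f2e63a12318f4c601952762c1034c8f5363ae7d2f139471db4bfea1c5540130b8b00942a8981b53a8cc3f29a32228e1621f6b2c99ae70e2f8dc880e328d01a0b3f0789de8d462402bdc3c3c268ad181fb4212d295b7aaa36401c371489cc529e89468e05a1c90cf9d8c3c2d2bea0c51e6f1955d4a05d520e1988510b21742ab66678fa3dae69024919749b91f0c95e0bd810440885104dec8c0ec5ccc10669ec4a1f80de5992853c4009ae178c80fd2c698a7782da4eebd429ec16f16d3482657b3a0d50997dd008ccbd33573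2c3d17aa13200e09c46e69b49a37630d5463c0bd240d4dfc9f84648cc298a445f52c680ee2d51cdb0a6a080d7db03bd84d4be31a8975d274b48fea773b460954686fa4ec49793d488a2cbe3fd0da1a0228664c59a0c5412f695d469730251484d2380f646eb672743a55896c58b1fd2b8ef353301d399a4313ae980e79c48ed1e8ae474131a41e57447901584169ad39a80a003b0665141c83a3609495c51c7be6654c8d622d0eb97136c5e5b2e848cc21f28c86d840de6aa821f0be96d428884293e3e281340c02bb84cf06a8c1147eea48ea1d5050da1cc81487b24d059440d8e10c528d7431829709a168c6d76a089ca506aa3e68ef3cdeb8f42587de0c41582e28e0b2666ca0ce2e85989d28ced11a0c8964272568bc960d9beb9babe28a1cb7bd3098a88435cb50ba3c471825e331839fa93e878ec38a170979ea9090b009b5ba8ad5dac8424d94213f3e08ed0a8542b66d4d59a90436aa9047016b9b417e9d4e724d25033d1b9911d65fadf4507cdc019f0631f69b1c341a289eeac013b315d1cfe6f63b58385708e994021b608c55822d4711ea7d6c22043e8849b21e8a606228c523f83d603cc19ef29037d4a6e82224abf55287d0162397527d5558123fe174d29160f2c95dd3026ee5d5853ff4e34d6a1c645ea3fcd6b4f152f706a2e337f3394d1ee286194c983a338ca1963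2a79338e540df3af01846ba5194a224c41494d04e094119ad40800caf20d1640a86d256615451de46eecc2923846ac25fd9026db3716e18b0f94659081a8ae5ca2ac543b729dd027234c63a3708e14c7816680f5a6ae0395392a33e07c2ac5fd27c55cb32b00902c3b76dc6ec5551337cb80bd87b992f3d458868df1a1c4a7a6620e25a3326600417a2870d55248fb7f3d096961d002c24c29506252ec05c58f14185e137a291c2e78b8cd889012d2124347ec98cbb23072c9217432862a82570214a3485280504a67e8fdb78a02fe017a70902229828ad6f8bfe02d0b652244f4a9e2cb24849bc69a627050d1d3688d935b1d0fab5e7dbc18be1d69e3715d6f5a8aad11cc590efaaf414574a5abf372035dccb0000fda6210e5f479c88ad03fa42de64d92193b9f09153a2b948921a4328710d9dd5d249458aa1a5069d582bc6c72c45a88160c9fcc3d375653f1bcc85590ec9f616015e0a4ee54673f2dc741e67cf48ccf24e0122f0923cb52b13286d523008b8600f31ae9ce5e2e17b1208e842003908518c1f2b66c09cd3226e3109aa5f016e3a66ac4934ff1c187f2e0cd97eb333a6cdd2a03b96a724c4cac8762328922b458145150909f2579e537e0101c0a7bd229cadca828f6ea6209c4998b8158db9571c922dda54f7d463d690d2630c718cb1aa7f1f080300302b7596bbe781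3186c9d63c60c90153ea7ab195a080a80e74343f1238a18751f9698eed4b4010c0eb493d079c92700dc27852fb6159677be9ee65529164f38b724c49412525cd52934324385b5aaf548eb2f0c6c0e0235e78681e782fb8754ac0faa3870b2a1e0b056672044c723192acd88e3a402d81b3b5006aec1a36206f1284ac7b406c598a3131a6c4aa702a3c3535678f05391b5f233e0d6b98b30829d2a45fa32063cc7d912f33c440453bfa850e16455052b484c5c0873e52a9ca4397b72a4d12a53846594137013e05e26c498971846daf9518675d34d00142e88f2a77fb520b797f72d3fc5f0f718cf16339cd55ad717251e05d47e7a1f1a22e1c9e9af27c3089fcdf0185da3d1bc4f2a88d40736d6970fb25b5dc9766d84d790b0a8b283a70278af92165d091182618acd74a99b50466e1b224086acf4993ac284cad225538170220604469446292255a668d1ad12d8a0c9d2952c860cf11354188b06e8ba3c6a2414849080221210921041f0fdce354254d10a641e6facd49d94d61b13e16b8145a0d5c830e6189348dbb087c9789e50481441d08b10)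
noncomputable def x7T_0 : Tr ℕ := (.node (nat_lit 4) (.node (nat_lit 2) (.node (nat_lit 1) (.leaf x7t0) (.leaf x7t1)) (.node (nat_lit 3) (.leaf x7t2) (.leaf x7t3)))
 (.node (nat_lit 6) (.node (nat_lit 5) (.leaf x7t4) (.leaf x7t5)) (.node (nat_lit 7) (.leaf x7t6) (.leaf x7t7))))
noncomputable def x7E_0 : Tr (List ℕ) := (.node (nat_lit 4) (.node (nat_lit 2) (.node (nat_lit 1) (.leaf [nat_lit 8, nat_lit 12, nat_lit 8, nat_lit 6, nat_lit 3, nat_lit 12, nat_lit 11, nat_lit 6, nat_lit 3, nat_lit 10, nat_lit 8, nat_lit 5, nat_lit 3, nat_lit 6]) (.leaf [nat_lit 12, nat_lit 10, nat_lit 9, nat_lit 5, nat_lit 12, nat_lit 10, nat_lit 11, nat_lit 10, nat_lit 9, nat_lit 3, nat_lit 7, nat_lit 3, nat_lit 1])) (.node (nat_lit 3) (.leaf [nat_lit 8, nat_lit 12, nat_lit 1, nat_lit 12, nat_lit 0, nat_lit 12, nat_lit 10, nat_lit 5, nat_lit 10, nat_lit 3, nat_lit 7]) (.leaf [nat_lit 12, nat_lit 0, nat_lit 12, nat_lit 1, nat_lit 12, nat_lit 10, nat_lit 3, nat_lit 10, nat_lit 9, nat_lit 3, nat_lit 6, nat_lit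 5, nat_lit 1, nat_lit 0])))
 (.node (nat_lit 6) (.node (nat_lit 5) (.leaf [nat_lit 11, nat_lit 8, nat_lit 12, nat_lit 7, nat_lit 3, nat_lit 12, nat_lit 3, nat_lit 0, nat_lit 11, nat_lit 9, nat_lit 10, nat_lit 3, nat_lit 1]) (.leaf [nat_lit 11, nat_lit 3, nat_lit 12, nat_lit 11, nat_lit 12, nat_lit 2, nat_lit 11, nat_lit 1])) (.node (nat_lit 7) (.leaf [nat_lit 3, nat_lit 7, nat_lit 10, nat_lit 4, nat_lit 12, nat_lit 2, nat_lit 0, nat_lit 11, nat_lit 8, nat_lit 6, nat_lit 5, nat_lit 7, nat_lit 5, nat_lit 1, nat_lit 0]) (.leaf [nat_lit 7, nat_lit 8, nat_lit 1, nat_lit 12, nat_lit 10, nat_lit 11, nat_lit 7, nat_lit 10, nat_lit 7, nat_lit 5, nat_lit 0]))))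
theorem x7w_0 : x7T_0.all2 (fun c w => isProd 1365 (nat_lit 11) (nat_lit 2047) T c w) x7E_0 = true := by decide +kernel
noncomputable def x7T : Tr ℕ := x7T_0
noncomputable def x7E : Tr (List ℕ) := x7E_0
theorem x7lets : Lets P 1365 (nat_lit 11) (nat_lit 2047) (Fin.ofNat 1365) x7T := lets_words lets x7E x7w_0
noncomputable def x7L0 : Lev := ⟨(nat_lit 0), (nat_lit 7), (nat_lit 0x70504040507070606010605070107040404050306060701020107050206070507010201020402010405010301070307020202010307040506070406030702070305070704020206070606050501020307050205010707050401010705070706030504060706040706050205030707020606020502020603070202030707040604070503070606060503050407070703030705050601040502050107050701050107070207020204060507050603020706010503050503070607060403010102030402040306020201060701070304020207070302010405030701020706040301070306020307040603060607010201040207070201040702030701070607030605050206060401030607070204070205030702070306040607050505030201010505040707050604030404010701030106040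20703070601070601040702010203060104070305050406070106070607010307040301040603070503040306060105070704040204040604050303030702040605020407010302060203010703010604070407070706060102020604070701040207010704010101040106020703040307020606070207060502030604070603050505020706060503070307050107020607030103030501060107060407030506020302050207030104030707070102050707060506070706070703040305050704030206030506070704060306020202050402030503030204020604060405050306050605050405070707030504020201050605060501060702060501010701070303010704010101050703070504060305060201010301070707070407020402010407040707070407060704070501070605040506040402040701070407010706030307020605050303050706060306070407050102060205060606050504070702040707060306010407060702070602020206020407070407060604070505040705020407050202050507060207060507060102070203020304050207050207070305020501010105070101010207030301040704070704070203010407070607020503020107030307040701060707040103040604050207020204040407010107020307010405070202050505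0507050505040406050707070707070104010707020404060706070707030502070204060507070707060303040701030705030707070705040206020704060504070403030203070702040505020405050704070407060701040702010707070506070604030507030501070305010207060301020701020707040601070702040106070505050205040302040105030502020406020707010701020506010706010705030404050707050403030306020504060707040303010402040403050607040307060305060706020705030701070701070503030105040205040204040406040404040404070703050302050202020505030405050306030606060101070302060403030602020607050507020303030603030305050106060103050606030602040307070404060503050605060606030606060603060302010303010301030406040406060501070401050505050206060601010101050205020601010404040501020206050201010602020205050506040103020207060601010401040505010606050606040505020506070106050401060106020603070305030204020302070404030401050501040304030306050603020304020401020503010204050403020305050501010305060102040202020502050505050207050405070101030702070307020202020101010104050506050104020302060505060204060303020303030407010605030306040606070404060204030206050604020306020303050307070306050100),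 (nat_lit 0x60607060606050606060507060606060605050607060606070606060506050606050505070605040506060606040606050606060505050706050606060507070507060606060606060706060605060606050606060607060606070607050607070607060606060606060506070505060706060606060606050606060605070506050607050506060606060606060607060606060506060706050606070607060606050506040706060606060606060606060606060505040705060606060607060606060706070606060606050605060606060707070607060405060507070706040705060606070506060706060706050604060606050405060506040707060606070705060706060507050607060505060606060607050705070607060606070506070406070706060607050405050606060606070607050504060706060507060607060607060407060505050505060706040606060606060507060605050606060506060606060606040506040606060606060606060606060507060605060606060506070506060707060707070607050706050707070606050506050606060606060706070605060605070506050506050505060606060607060606050605050606060505050607070605050606050507060606060605060506050607040507060704060606070506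06060505060506060607060706070606060607060706050605050605070707070606070507060706060606060606060706070707060607060707070606060606060506060707060606050506060605060506070506040605060506060706060606060706060506060506060606060506050606060507070705070605060605060706060506050504060705060607060606060606070607070505050506060605060706060706070605050506050605070606060607060605060606070705060605070606070607050706060606060606050605060606050607060605060706050606060606060606060607050606060606070607060606060406070705060605070606060507070607040707060706050606060705060506060405070605060505060605060707060607060704060605070605060707060506060606060506060506050606040606070606060607070606050606060605070506060606050705060606060606060606060606060705070506050606060506060607060606060606050606070605060506030405060606060506060605060505060606060607060606060607070606060705070606070406060505060606050506070706050506060706060606060607040706060606060506060505060506060406060706060505060606060604060606050705060306060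6060606050705070706070706060605070606060507050706050606060605060706050504050504040304050505050404050405050506060203030405050505060506040304040504040505050506050505050504050404050403040505040506060404050405040504050405050201050502050405050505040503050302060506060405050505040505040606050605040505050405040403040505060505040405050604050406050505040405050504060405050504030404030406050605050605050506040404050505030503050404030304040406050305060404040405060506050505060306040604050505060505050405050306040504050504040506050606050604050605050404050506040505040505050506040504060404050503020603050605050405040505050503060405040505050606040505050203050304040505050504050504050304040505060506060503050404050403040504050404060405040405050605050503030505040400),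
 (.leaf 0),
 (.leaf 0)⟩
noncomputable def x7L1 : Lev := ⟨(nat_lit 784), (nat_lit 6), (nat_lit 0x4010106040306050405010206040306040304050601050203060506010403060205050604030606010103020203060201040306030405010304060506020206040306050504040203060101060601060102060404030201030206050301020204060501010105020405040105050302030605050405050502060106050204050604060603030505040501040304040601050305010505030501050301040106030506050502030505040204040603060404030105050205010303020605030506040301060401010602050104050605020201010204030103020304050106050203010203030305060306030501040505010304020504010504020403040302020606060505050504060305050206030106060504060504050404040206040504030206040605050606010406030205020602040505050503060102060101050101060501010605020105030403020102040502010105030502050506020603030406030301020104030304040601010502020302060504020204060603010103050201010202040604040105060206040106020103060603010404010405030401040605050105020606060605050504010404010405050503010203010601010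30405040406020106030605010303030605060304010203020406020605060205010303060106010302060406050403030306020604020305040602010502020605060502030404030606050404010406030504030205020302040504040105060601060303060104020502010601020502010405020303050206050301010405030400030505020104020601020406050401060301060405050301030605040206020203030502050206010306060101010406050601020405010301030205060504050106030605040506030305060103040102050502050606050403060403010606060102040603030404020306010503030603040603050506040105020602030602060503050101040501050501020506040206010203020202010404010606050102050206060205060406010101030405060502040505020504040405010301050505010406060606050302020102040301040203040405060506040102010103050303020502010105010306020201040506060201020302050503020305050504060104020205010501030403050606050502050306030104040306040103040603010401040403050206060406060505020603020604060104020506020304060305030401050606030101060103030106030406010502030402030306060502060103060506060205030603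03010303060601050304040505020402020206030405040501050602020503030103030404020506050402040206040305040404050402060601040201050203020406050406060606050402060000000000000000000000000000000000000000000000000000000000000000000000000000000000000000000000000000000000000000000000000000000000000000000000000000000000000000000000000000000000000000000000000000000000000000000000000000000000000000000000000000000000000000000000000000000000000000000000000000000000000000000000000000000000000000000000000000000000000000000000000000000000000000000000000000000000000000000000000000000000000000000000000000000000000000000000000000000000000000000000000000000000000000000000000000000000000000000000000000000000000000000000000000000000000000000000000000000000000000000000000000000000000000000000000000000000000000000000000000000000000000000000000000000000), (nat_lit 0x6050406050606060306040303050205050504050606040606060607050505060405030705060507050605050707060605060306060604050606060605050506060505050506060705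06070504040506060405050705050506060505060607050406050505050605060605030707070505040605050307060504060305060505050504060306050603060506050605050606060607060605050406060505040605040406060403040605050405050505040505050606040507040505060505050704050705050505050406060606060506060204050606050205060606070604050606060605060406060407060505060705060605050604050605060402050505060306050406050503050604060506040506050605060705030405060605060505060606040506070505050105040706050506040506030505050306060606040704050603050602060606060504060504050704060505050505060605060406050606060606050605060406040506060506050605040706060405060606060606060505050505050605060304030406040506060505040706050605050506020605060706060506040505060506050603040605060505040604050606050604050506050505050507060606050605030506060505060606060505060503050605060604050504070505060505050406050506060603030606040602070606030605050406050505050505060505040506060406050404060606060507060406070606050405030705060605040605060605060504060506050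60404050605050505070005060606060306050606050506060506060606050505060504050605050204060404050604050505050503070406050406060507060405050604050505060606060506050605050505050506060606050506050306050606040506050405060606040406060604040505050405050603040507050506050505020606050605060404060405070606050406050304060606060707050606040605050605060506050506050504050606070306050506050606030605020404050507040505060606070604050605060603060605060606050404050405040105050505060505050405050406050406070506060505050606050605040506050606060404030605070604050606060506040606060406060305040505060405060505060605040606060506050306040604040306060405050306060505050606060406050607050607060606040505060605050406060405060505050404070606030507040505060604060705050605050506050504050604060406050605040406060505060604050605050305050606050606040506060506050506060506060606060606050405060405040405050604060405060505070606060505050504050000000000000000000000000000000000000000000000000000000000000000000000000000000000000000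000000000000000000000000000000000000000000000000000000000000000000000000000000000000000000000000000000000000000000000000000000000000000000000000000000000000000000000000000000000000000000000000000000000000000000000000000000000000000000000000000000000000000000000000000000000000000000000000000000000000000000000000000000000000000000000000000000000000000000000000000000000000000000000000000000000000000000000000000000000000000000000000000000000000000000000000000000000000000000000000000000000000000000000000000000000000000000000000000000000000000000000000000000000000000000000000000000000000000000),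
 (.leaf 0),
 (.leaf 0)⟩
noncomputable def x7L2 : Lev := ⟨(nat_lit 859), (nat_lit 4), (nat_lit 0x3000000000000000000000000000000030000000000000000000000000000000000000000000000000000000000000400000000000000000000000000000000000000000000000000010000000300000000000403030000000000000000000000000004030300000000000000030000000000000200000000000000010000000000010400000000000000000000000000000000000000000000000000000002000000000000000000000000000000000000000000000000000000000000000200000000000000000000000000000200000000000000000000000000000000000000000000000000000000000000000002000000000000000000000000000000000000000000000000000000000000000000000000000000000000000000000000000000000000000000000000000000000000000000000000000000000000000000000000000000000000000000000300000000000000000000000000000004000000000000000000000000000004000000000000000000000000000000000000000000000000000000000000000000000000000001000000000000000000000000000000000000000000000000000000000000000000000000000000000000000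00000000000000000000000000000000000000000000000000000000000000000000000000000000004000000000000000000000300000400000000000000010000000003000004000400000000000000000003000004000400000000000100000000000000000000000000000000000000000000000000000000000000000000000000000000000100000000000000000000000004000000000000000000000000000000000000000000000000000000000000000004000000000000000000000000000000000000000000030000000002040000010000000000000000000100000000000001000000000000000000010004020000000000000000000000000100020400000100000000000000000000000000000000000000000000000000000000000000000000000000000000000000000000000000000000000000000000000000000000000000000000000000000000000000000000000000000000000000000000000000000000000000000000000000000000000000000000000000000000000000000000020000000000000000000000000000000002000000000000000000000000000000020000000000000000000000000000000000000000000000000000000000000000000000000000000000020000030000000000000000000000000000000000000000000000000000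00000000000000010000000000000000000000000003000000000000000000000000000000000000000000000000000000000000000000000000000000000000030000000000000000000000000000000000000000000000000000000000000000000000000000000000000000000000000000000000000000000000000000000000000000000000000000000000000000000000000000000000000000000000000000000000000000000000000000000000000000000000000000000000000000000000000000000000000000000000000000000000000000000000000000000000000000000000000000000000000000000000000000000000000000000000000000000000000000000000000000000000000000000000000000000000000000000000000000000000000000000000000000000000000000000000000000000000000000000000000000000000000000000000000000000000000000000000000000000000000000000000000000000000000000000000000000000000000000000000000000000000000000000000000000000000000000), (nat_lit 0x3000000000000000000000000000000050000000000000000000000000000000000000000000000000000000000000700000000000000000000000000000000000000000000000000040000000500000000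00050305000000000000000000000000000505030000000000000005000000000000060000000000000006000000000006070000000000000000000000000000000000000000000000000000000200000000000000000000000000000000000000000000000000000000000000040000000000000000000000000000060000000000000000000000000000000000000000000000000000000000000000000400000000000000000000000000000000000000000000000000000000000000000000000000000000000000000000000000000000000000000000000000000000000000000000000000000000000000000000000000000000000000000000070000000000000000000000000000000500000000000000000000000000000300000000000000000000000000000000000000000000000000000000000000000000000000000400000000000000000000000000000000000000000000000000000000000000000000000000000000000000000000000000000000000000000000000000000000000000000000000000000000000000000000000001000000000000000000000100000700000000000000060000000007000005000700000000000000000007000003000700000000000600000000000000000000000000000000000000000000000000000000000000000000000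00000000000060000000000000000000000000300000000000000000000000000000000000000000000000000000000000000000500000000000000000000000000000000000000000005000000000405000004000000000000000000020000000000000600000000000000000006000706000000000000000000000000040004030000020000000000000000000000000000000000000000000000000000000000000000000000000000000000000000000000000000000000000000000000000000000000000000000000000000000000000000000000000000000000000000000000000000000000000000000000000000000000000000000000000000000000000000000002000000000000000000000000000000000600000000000000000000000000000004000000000000000000000000000000000000000000000000000000000000000000000000000000000004000003000000000000000000000000000000000000000000000000000000000000000000060000000000000000000000000005000000000000000000000000000000000000000000000000000000000000000000000000000000000000050000000000000000000000000000000000000000000000000000000000000000000000000000000000000000000000000000000000000000000000000000000000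000000000000000000000000000000000000000000000000000000000000000000000000000000000000000000000000000000000000000000000000000000000000000000000000000000000000000000000000000000000000000000000000000000000000000000000000000000000000000000000000000000000000000000000000000000000000000000000000000000000000000000000000000000000000000000000000000000000000000000000000000000000000000000000000000000000000000000000000000000000000000000000000000000000000000000000000000000000000000000000000000000000000000000000000000000000000000000000000000000000000000000000000000000),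
 (.leaf 0),
 (.leaf 0)⟩
noncomputable def x7L3 : Lev := ⟨(nat_lit 1085), (nat_lit 2), (nat_lit 0x0), (nat_lit 0x0),
 (.leaf 0),
 (.leaf 0)⟩
noncomputable def x7L4 : Lev := ⟨(nat_lit 1246), (nat_lit 2), (nat_lit 0x0), (nat_lit 0x0),
 (.leaf 0),
 (.leaf 0)⟩
noncomputable def x7L5 : Lev := ⟨(nat_lit 1150), (nat_lit 2), (nat_lit 0x0), (nat_lit 0x0),
 (.leaf 0),
 (.leaf 0)⟩
noncomputable def x7L6 : Lev := ⟨(nat_lit 455), (nat_lit 2), (nat_lit 0x0), (nat_lit 0x0),
 (.leaf 0),
 (.leaf 0)⟩
noncomputable def x7L7 : Lev := ⟨(nat_lit 1), (nat_lit 2), (nat_lit 0x100000000000000000000000002000000000000), (nat_lit 0x100000000000000000000000001000000000000),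
 (.leaf 0),
 (.leaf 0)⟩
noncomputable def x7L : List Lev := [x7L0, x7L1, x7L2, x7L3, x7L4, x7L5, x7L6, x7L7]
theorem x7_0 : srchR 1365 (nat_lit 11) (nat_lit 2047) x7T (x7T.get 7) (leafC (nat_lit 11) (nat_lit 2047) B (x7T.get 7) 21) x7L (0 * 1) 1 = true := by decide +kernel
theorem x7_1 : srchR 1365 (nat_lit 11) (nat_lit 2047) x7T (x7T.get 7) (leafC (nat_lit 11) (nat_lit 2047) B (x7T.get 7) 21) x7L (1 * 1) 1 = true := by decide +kernel
theorem x7_2 : srchR 1365 (nat_lit 11) (nat_lit 2047) x7T (x7T.get 7) (leafC (nat_lit 11) (nat_lit 2047) B (x7T.get 7) 21) x7L (2 * 1) 1 = true := by decide +kernel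
theorem x7_3 : srchR 1365 (nat_lit 11) (nat_lit 2047) x7T (x7T.get 7) (leafC (nat_lit 11) (nat_lit 2047) B (x7T.get 7) 21) x7L (3 * 1) 1 = true := by decide +kernel
theorem x7_4 : srchR 1365 (nat_lit 11) (nat_lit 2047) x7T (x7T.get 7) (leafC (nat_lit 11) (nat_lit 2047) B (x7T.get 7) 21) x7L (4 * 1) 1 = true := by decide +kernel
theorem x7_5 : srchR 1365 (nat_lit 11) (nat_lit 2047) x7T (x7T.get 7) (leafC (nat_lit 11) (nat_lit 2047) B (x7T.get 7) 21) x7L (5 * 1) 1 = true := by decide +kernel
theorem x7_6 : srchR 1365 (nat_lit 11) (nat_lit 2047) x7T (x7T.get 7) (leafC (nat_lit 11) (nat_lit 2047) B (x7T.get 7) 21) x7L (6 * 1) 1 = true := by decide +kernel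
theorem x7_7 : srchR 1365 (nat_lit 11) (nat_lit 2047) x7T (x7T.get 7) (leafC (nat_lit 11) (nat_lit 2047) B (x7T.get 7) 21) x7L (7 * 1) 1 = true := by decide +kernel
theorem x7_8 : srchR 1365 (nat_lit 11) (nat_lit 2047) x7T (x7T.get 7) (leafC (nat_lit 11) (nat_lit 2047) B (x7T.get 7) 21) x7L (8 * 1) 1 = true := by decide +kernel
theorem x7_9 : srchR 1365 (nat_lit 11) (nat_lit 2047) x7T (x7T.get 7) (leafC (nat_lit 11) (nat_lit 2047) B (x7T.get 7) 21) x7L (9 * 1) 1 = true := by decide +kernel
theorem x7_10 : srchR 1365 (nat_lit 11) (nat_lit 2047) x7T (x7T.get 7) (leafC (nat_lit 11) (nat_lit 2047) B (x7T.get 7) 21) x7L (10 * 1) 1 = true := by decide +kernel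
theorem x7_11 : srchR 1365 (nat_lit 11) (nat_lit 2047) x7T (x7T.get 7) (leafC (nat_lit 11) (nat_lit 2047) B (x7T.get 7) 21) x7L (11 * 1) 1 = true := by decide +kernel
theorem x7_12 : srchR 1365 (nat_lit 11) (nat_lit 2047) x7T (x7T.get 7) (leafC (nat_lit 11) (nat_lit 2047) B (x7T.get 7) 21) x7L (12 * 1) 1 = true := by decide +kernel
theorem x7_13 : srchR 1365 (nat_lit 11) (nat_lit 2047) x7T (x7T.get 7) (leafC (nat_lit 11) (nat_lit 2047) B (x7T.get 7) 21) x7L (13 * 1) 1 = true := by decide +kernel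
theorem x7_14 : srchR 1365 (nat_lit 11) (nat_lit 2047) x7T (x7T.get 7) (leafC (nat_lit 11) (nat_lit 2047) B (x7T.get 7) 21) x7L (14 * 1) 1 = true := by decide +kernel
theorem x7_15 : srchR 1365 (nat_lit 11) (nat_lit 2047) x7T (x7T.get 7) (leafC (nat_lit 11) (nat_lit 2047) B (x7T.get 7) 21) x7L (15 * 1) 1 = true := by decide +kernel
theorem x7_16 : srchR 1365 (nat_lit 11) (nat_lit 2047) x7T (x7T.get 7) (leafC (nat_lit 11) (nat_lit 2047) B (x7T.get 7) 21) x7L (16 * 1) 1 = true := by decide +kernel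
theorem x7_17 : srchR 1365 (nat_lit 11) (nat_lit 2047) x7T (x7T.get 7) (leafC (nat_lit 11) (nat_lit 2047) B (x7T.get 7) 21) x7L (17 * 1) 1 = true := by decide +kernel
theorem x7_18 : srchR 1365 (nat_lit 11) (nat_lit 2047) x7T (x7T.get 7) (leafC (nat_lit 11) (nat_lit 2047) B (x7T.get 7) 21) x7L (18 * 1) 1 = true := by decide +kernel
theorem x7_19 : srchR 1365 (nat_lit 11) (nat_lit 2047) x7T (x7T.get 7) (leafC (nat_lit 11) (nat_lit 2047) B (x7T.get 7) 21) x7L (19 * 1) 1 = true := by decide +kernel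
theorem x7_20 : srchR 1365 (nat_lit 11) (nat_lit 2047) x7T (x7T.get 7) (leafC (nat_lit 11) (nat_lit 2047) B (x7T.get 7) 21) x7L (20 * 1) 1 = true := by decide +kernel
theorem x7_21 : srchR 1365 (nat_lit 11) (nat_lit 2047) x7T (x7T.get 7) (leafC (nat_lit 11) (nat_lit 2047) B (x7T.get 7) 21) x7L (21 * 1) 1 = true := by decide +kernel
theorem x7_22 : srchR 1365 (nat_lit 11) (nat_lit 2047) x7T (x7T.get 7) (leafC (nat_lit 11) (nat_lit 2047) B (x7T.get 7) 21) x7L (22 * 1) 1 = true := by decide +kernel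
theorem x7_23 : srchR 1365 (nat_lit 11) (nat_lit 2047) x7T (x7T.get 7) (leafC (nat_lit 11) (nat_lit 2047) B (x7T.get 7) 21) x7L (23 * 1) 1 = true := by decide +kernel
theorem x7_24 : srchR 1365 (nat_lit 11) (nat_lit 2047) x7T (x7T.get 7) (leafC (nat_lit 11) (nat_lit 2047) B (x7T.get 7) 21) x7L (24 * 1) 1 = true := by decide +kernel
theorem x7_25 : srchR 1365 (nat_lit 11) (nat_lit 2047) x7T (x7T.get 7) (leafC (nat_lit 11) (nat_lit 2047) B (x7T.get 7) 21) x7L (25 * 1) 1 = true := by decide +kernel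
theorem x7_26 : srchR 1365 (nat_lit 11) (nat_lit 2047) x7T (x7T.get 7) (leafC (nat_lit 11) (nat_lit 2047) B (x7T.get 7) 21) x7L (26 * 1) 1 = true := by decide +kernel
theorem x7_27 : srchR 1365 (nat_lit 11) (nat_lit 2047) x7T (x7T.get 7) (leafC (nat_lit 11) (nat_lit 2047) B (x7T.get 7) 21) x7L (27 * 1) 1 = true := by decide +kernel
theorem x7_28 : srchR 1365 (nat_lit 11) (nat_lit 2047) x7T (x7T.get 7) (leafC (nat_lit 11) (nat_lit 2047) B (x7T.get 7) 21) x7L (28 * 1) 1 = true := by decide +kernel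
theorem x7_29 : srchR 1365 (nat_lit 11) (nat_lit 2047) x7T (x7T.get 7) (leafC (nat_lit 11) (nat_lit 2047) B (x7T.get 7) 21) x7L (29 * 1) 1 = true := by decide +kernel
theorem x7_30 : srchR 1365 (nat_lit 11) (nat_lit 2047) x7T (x7T.get 7) (leafC (nat_lit 11) (nat_lit 2047) B (x7T.get 7) 21) x7L (30 * 1) 1 = true := by decide +kernel
theorem x7_31 : srchR 1365 (nat_lit 11) (nat_lit 2047) x7T (x7T.get 7) (leafC (nat_lit 11) (nat_lit 2047) B (x7T.get 7) 21) x7L (31 * 1) 1 = true := by decide +kernel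
theorem x7_32 : srchR 1365 (nat_lit 11) (nat_lit 2047) x7T (x7T.get 7) (leafC (nat_lit 11) (nat_lit 2047) B (x7T.get 7) 21) x7L (32 * 1) 1 = true := by decide +kernel
theorem x7_33 : srchR 1365 (nat_lit 11) (nat_lit 2047) x7T (x7T.get 7) (leafC (nat_lit 11) (nat_lit 2047) B (x7T.get 7) 21) x7L (33 * 1) 1 = true := by decide +kernel
theorem x7_34 : srchR 1365 (nat_lit 11) (nat_lit 2047) x7T (x7T.get 7) (leafC (nat_lit 11) (nat_lit 2047) B (x7T.get 7) 21) x7L (34 * 1) 1 = true := by decide +kernel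
theorem x7_35 : srchR 1365 (nat_lit 11) (nat_lit 2047) x7T (x7T.get 7) (leafC (nat_lit 11) (nat_lit 2047) B (x7T.get 7) 21) x7L (35 * 1) 1 = true := by decide +kernel
theorem x7_36 : srchR 1365 (nat_lit 11) (nat_lit 2047) x7T (x7T.get 7) (leafC (nat_lit 11) (nat_lit 2047) B (x7T.get 7) 21) x7L (36 * 1) 1 = true := by decide +kernel
theorem x7_37 : srchR 1365 (nat_lit 11) (nat_lit 2047) x7T (x7T.get 7) (leafC (nat_lit 11) (nat_lit 2047) B (x7T.get 7) 21) x7L (37 * 1) 1 = true := by decide +kernel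
theorem x7_38 : srchR 1365 (nat_lit 11) (nat_lit 2047) x7T (x7T.get 7) (leafC (nat_lit 11) (nat_lit 2047) B (x7T.get 7) 21) x7L (38 * 1) 1 = true := by decide +kernel
theorem x7_39 : srchR 1365 (nat_lit 11) (nat_lit 2047) x7T (x7T.get 7) (leafC (nat_lit 11) (nat_lit 2047) B (x7T.get 7) 21) x7L (39 * 1) 1 = true := by decide +kernel
theorem x7_40 : srchR 1365 (nat_lit 11) (nat_lit 2047) x7T (x7T.get 7) (leafC (nat_lit 11) (nat_lit 2047) B (x7T.get 7) 21) x7L (40 * 1) 1 = true := by decide +kernel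
theorem x7_41 : srchR 1365 (nat_lit 11) (nat_lit 2047) x7T (x7T.get 7) (leafC (nat_lit 11) (nat_lit 2047) B (x7T.get 7) 21) x7L (41 * 1) 1 = true := by decide +kernel
theorem x7_42 : srchR 1365 (nat_lit 11) (nat_lit 2047) x7T (x7T.get 7) (leafC (nat_lit 11) (nat_lit 2047) B (x7T.get 7) 21) x7L (42 * 1) 1 = true := by decide +kernel
theorem x7_43 : srchR 1365 (nat_lit 11) (nat_lit 2047) x7T (x7T.get 7) (leafC (nat_lit 11) (nat_lit 2047) B (x7T.get 7) 21) x7L (43 * 1) 1 = true := by decide +kernel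
theorem x7_44 : srchR 1365 (nat_lit 11) (nat_lit 2047) x7T (x7T.get 7) (leafC (nat_lit 11) (nat_lit 2047) B (x7T.get 7) 21) x7L (44 * 1) 1 = true := by decide +kernel
theorem x7_45 : srchR 1365 (nat_lit 11) (nat_lit 2047) x7T (x7T.get 7) (leafC (nat_lit 11) (nat_lit 2047) B (x7T.get 7) 21) x7L (45 * 1) 1 = true := by decide +kernel
theorem x7_46 : srchR 1365 (nat_lit 11) (nat_lit 2047) x7T (x7T.get 7) (leafC (nat_lit 11) (nat_lit 2047) B (x7T.get 7) 21) x7L (46 * 1) 1 = true := by decide +kernel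
theorem x7_47 : srchR 1365 (nat_lit 11) (nat_lit 2047) x7T (x7T.get 7) (leafC (nat_lit 11) (nat_lit 2047) B (x7T.get 7) 21) x7L (47 * 1) 1 = true := by decide +kernel
theorem x7_48 : srchR 1365 (nat_lit 11) (nat_lit 2047) x7T (x7T.get 7) (leafC (nat_lit 11) (nat_lit 2047) B (x7T.get 7) 21) x7L (48 * 1) 1 = true := by decide +kernel
theorem x7_49 : srchR 1365 (nat_lit 11) (nat_lit 2047) x7T (x7T.get 7) (leafC (nat_lit 11) (nat_lit 2047) B (x7T.get 7) 21) x7L (49 * 1) 1 = true := by decide +kernel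
theorem x7_50 : srchR 1365 (nat_lit 11) (nat_lit 2047) x7T (x7T.get 7) (leafC (nat_lit 11) (nat_lit 2047) B (x7T.get 7) 21) x7L (50 * 1) 1 = true := by decide +kernel
theorem x7_51 : srchR 1365 (nat_lit 11) (nat_lit 2047) x7T (x7T.get 7) (leafC (nat_lit 11) (nat_lit 2047) B (x7T.get 7) 21) x7L (51 * 1) 1 = true := by decide +kernel
theorem x7_52 : srchR 1365 (nat_lit 11) (nat_lit 2047) x7T (x7T.get 7) (leafC (nat_lit 11) (nat_lit 2047) B (x7T.get 7) 21) x7L (52 * 1) 1 = true := by decide +kernel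
theorem x7_53 : srchR 1365 (nat_lit 11) (nat_lit 2047) x7T (x7T.get 7) (leafC (nat_lit 11) (nat_lit 2047) B (x7T.get 7) 21) x7L (53 * 1) 1 = true := by decide +kernel
theorem x7_54 : srchR 1365 (nat_lit 11) (nat_lit 2047) x7T (x7T.get 7) (leafC (nat_lit 11) (nat_lit 2047) B (x7T.get 7) 21) x7L (54 * 1) 1 = true := by decide +kernel
theorem x7_55 : srchR 1365 (nat_lit 11) (nat_lit 2047) x7T (x7T.get 7) (leafC (nat_lit 11) (nat_lit 2047) B (x7T.get 7) 21) x7L (55 * 1) 1 = true := by decide +kernel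
theorem x7_56 : srchR 1365 (nat_lit 11) (nat_lit 2047) x7T (x7T.get 7) (leafC (nat_lit 11) (nat_lit 2047) B (x7T.get 7) 21) x7L (56 * 1) 1 = true := by decide +kernel
theorem x7_57 : srchR 1365 (nat_lit 11) (nat_lit 2047) x7T (x7T.get 7) (leafC (nat_lit 11) (nat_lit 2047) B (x7T.get 7) 21) x7L (57 * 1) 1 = true := by decide +kernel
theorem x7_58 : srchR 1365 (nat_lit 11) (nat_lit 2047) x7T (x7T.get 7) (leafC (nat_lit 11) (nat_lit 2047) B (x7T.get 7) 21) x7L (58 * 1) 1 = true := by decide +kernel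
theorem x7_59 : srchR 1365 (nat_lit 11) (nat_lit 2047) x7T (x7T.get 7) (leafC (nat_lit 11) (nat_lit 2047) B (x7T.get 7) 21) x7L (59 * 1) 1 = true := by decide +kernel
theorem x7_60 : srchR 1365 (nat_lit 11) (nat_lit 2047) x7T (x7T.get 7) (leafC (nat_lit 11) (nat_lit 2047) B (x7T.get 7) 21) x7L (60 * 1) 1 = true := by decide +kernel
theorem x7_61 : srchR 1365 (nat_lit 11) (nat_lit 2047) x7T (x7T.get 7) (leafC (nat_lit 11) (nat_lit 2047) B (x7T.get 7) 21) x7L (61 * 1) 1 = true := by decide +kernel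
theorem x7_62 : srchR 1365 (nat_lit 11) (nat_lit 2047) x7T (x7T.get 7) (leafC (nat_lit 11) (nat_lit 2047) B (x7T.get 7) 21) x7L (62 * 1) 1 = true := by decide +kernel
theorem x7_63 : srchR 1365 (nat_lit 11) (nat_lit 2047) x7T (x7T.get 7) (leafC (nat_lit 11) (nat_lit 2047) B (x7T.get 7) 21) x7L (63 * 1) 1 = true := by decide +kernel
theorem x7_64 : srchR 1365 (nat_lit 11) (nat_lit 2047) x7T (x7T.get 7) (leafC (nat_lit 11) (nat_lit 2047) B (x7T.get 7) 21) x7L (64 * 1) 1 = true := by decide +kernel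
theorem x7_65 : srchR 1365 (nat_lit 11) (nat_lit 2047) x7T (x7T.get 7) (leafC (nat_lit 11) (nat_lit 2047) B (x7T.get 7) 21) x7L (65 * 1) 1 = true := by decide +kernel
theorem x7_66 : srchR 1365 (nat_lit 11) (nat_lit 2047) x7T (x7T.get 7) (leafC (nat_lit 11) (nat_lit 2047) B (x7T.get 7) 21) x7L (66 * 1) 1 = true := by decide +kernel
theorem x7_67 : srchR 1365 (nat_lit 11) (nat_lit 2047) x7T (x7T.get 7) (leafC (nat_lit 11) (nat_lit 2047) B (x7T.get 7) 21) x7L (67 * 1) 1 = true := by decide +kernel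
theorem x7_68 : srchR 1365 (nat_lit 11) (nat_lit 2047) x7T (x7T.get 7) (leafC (nat_lit 11) (nat_lit 2047) B (x7T.get 7) 21) x7L (68 * 1) 1 = true := by decide +kernel
theorem x7_69 : srchR 1365 (nat_lit 11) (nat_lit 2047) x7T (x7T.get 7) (leafC (nat_lit 11) (nat_lit 2047) B (x7T.get 7) 21) x7L (69 * 1) 1 = true := by decide +kernel
theorem x7_70 : srchR 1365 (nat_lit 11) (nat_lit 2047) x7T (x7T.get 7) (leafC (nat_lit 11) (nat_lit 2047) B (x7T.get 7) 21) x7L (70 * 1) 1 = true := by decide +kernel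
theorem x7_71 : srchR 1365 (nat_lit 11) (nat_lit 2047) x7T (x7T.get 7) (leafC (nat_lit 11) (nat_lit 2047) B (x7T.get 7) 21) x7L (71 * 1) 1 = true := by decide +kernel
theorem x7_72 : srchR 1365 (nat_lit 11) (nat_lit 2047) x7T (x7T.get 7) (leafC (nat_lit 11) (nat_lit 2047) B (x7T.get 7) 21) x7L (72 * 1) 1 = true := by decide +kernel
theorem x7_73 : srchR 1365 (nat_lit 11) (nat_lit 2047) x7T (x7T.get 7) (leafC (nat_lit 11) (nat_lit 2047) B (x7T.get 7) 21) x7L (73 * 1) 1 = true := by decide +kernel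
theorem x7_74 : srchR 1365 (nat_lit 11) (nat_lit 2047) x7T (x7T.get 7) (leafC (nat_lit 11) (nat_lit 2047) B (x7T.get 7) 21) x7L (74 * 1) 1 = true := by decide +kernel
theorem x7_75 : srchR 1365 (nat_lit 11) (nat_lit 2047) x7T (x7T.get 7) (leafC (nat_lit 11) (nat_lit 2047) B (x7T.get 7) 21) x7L (75 * 1) 1 = true := by decide +kernel
theorem x7_76 : srchR 1365 (nat_lit 11) (nat_lit 2047) x7T (x7T.get 7) (leafC (nat_lit 11) (nat_lit 2047) B (x7T.get 7) 21) x7L (76 * 1) 1 = true := by decide +kernel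
theorem x7_77 : srchR 1365 (nat_lit 11) (nat_lit 2047) x7T (x7T.get 7) (leafC (nat_lit 11) (nat_lit 2047) B (x7T.get 7) 21) x7L (77 * 1) 1 = true := by decide +kernel
theorem x7_78 : srchR 1365 (nat_lit 11) (nat_lit 2047) x7T (x7T.get 7) (leafC (nat_lit 11) (nat_lit 2047) B (x7T.get 7) 21) x7L (78 * 1) 1 = true := by decide +kernel
theorem x7_79 : srchR 1365 (nat_lit 11) (nat_lit 2047) x7T (x7T.get 7) (leafC (nat_lit 11) (nat_lit 2047) B (x7T.get 7) 21) x7L (79 * 1) 1 = true := by decide +kernel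
theorem x7_80 : srchR 1365 (nat_lit 11) (nat_lit 2047) x7T (x7T.get 7) (leafC (nat_lit 11) (nat_lit 2047) B (x7T.get 7) 21) x7L (80 * 1) 1 = true := by decide +kernel
theorem x7_81 : srchR 1365 (nat_lit 11) (nat_lit 2047) x7T (x7T.get 7) (leafC (nat_lit 11) (nat_lit 2047) B (x7T.get 7) 21) x7L (81 * 1) 1 = true := by decide +kernel
theorem x7_82 : srchR 1365 (nat_lit 11) (nat_lit 2047) x7T (x7T.get 7) (leafC (nat_lit 11) (nat_lit 2047) B (x7T.get 7) 21) x7L (82 * 1) 1 = true := by decide +kernel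
theorem x7_83 : srchR 1365 (nat_lit 11) (nat_lit 2047) x7T (x7T.get 7) (leafC (nat_lit 11) (nat_lit 2047) B (x7T.get 7) 21) x7L (83 * 1) 1 = true := by decide +kernel
theorem x7_84 : srchR 1365 (nat_lit 11) (nat_lit 2047) x7T (x7T.get 7) (leafC (nat_lit 11) (nat_lit 2047) B (x7T.get 7) 21) x7L (84 * 1) 1 = true := by decide +kernel
theorem x7_85 : srchR 1365 (nat_lit 11) (nat_lit 2047) x7T (x7T.get 7) (leafC (nat_lit 11) (nat_lit 2047) B (x7T.get 7) 21) x7L (85 * 1) 1 = true := by decide +kernel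
theorem x7_86 : srchR 1365 (nat_lit 11) (nat_lit 2047) x7T (x7T.get 7) (leafC (nat_lit 11) (nat_lit 2047) B (x7T.get 7) 21) x7L (86 * 1) 1 = true := by decide +kernel
theorem x7_87 : srchR 1365 (nat_lit 11) (nat_lit 2047) x7T (x7T.get 7) (leafC (nat_lit 11) (nat_lit 2047) B (x7T.get 7) 21) x7L (87 * 1) 1 = true := by decide +kernel
theorem x7_88 : srchR 1365 (nat_lit 11) (nat_lit 2047) x7T (x7T.get 7) (leafC (nat_lit 11) (nat_lit 2047) B (x7T.get 7) 21) x7L (88 * 1) 1 = true := by decide +kernel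
theorem x7_89 : srchR 1365 (nat_lit 11) (nat_lit 2047) x7T (x7T.get 7) (leafC (nat_lit 11) (nat_lit 2047) B (x7T.get 7) 21) x7L (89 * 1) 1 = true := by decide +kernel
theorem x7_90 : srchR 1365 (nat_lit 11) (nat_lit 2047) x7T (x7T.get 7) (leafC (nat_lit 11) (nat_lit 2047) B (x7T.get 7) 21) x7L (90 * 1) 1 = true := by decide +kernel
theorem x7_91 : srchR 1365 (nat_lit 11) (nat_lit 2047) x7T (x7T.get 7) (leafC (nat_lit 11) (nat_lit 2047) B (x7T.get 7) 21) x7L (91 * 1) 1 = true := by decide +kernel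
theorem x7_92 : srchR 1365 (nat_lit 11) (nat_lit 2047) x7T (x7T.get 7) (leafC (nat_lit 11) (nat_lit 2047) B (x7T.get 7) 21) x7L (92 * 1) 1 = true := by decide +kernel
theorem x7_93 : srchR 1365 (nat_lit 11) (nat_lit 2047) x7T (x7T.get 7) (leafC (nat_lit 11) (nat_lit 2047) B (x7T.get 7) 21) x7L (93 * 1) 1 = true := by decide +kernel
theorem x7_94 : srchR 1365 (nat_lit 11) (nat_lit 2047) x7T (x7T.get 7) (leafC (nat_lit 11) (nat_lit 2047) B (x7T.get 7) 21) x7L (94 * 1) 1 = true := by decide +kernel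
theorem x7_95 : srchR 1365 (nat_lit 11) (nat_lit 2047) x7T (x7T.get 7) (leafC (nat_lit 11) (nat_lit 2047) B (x7T.get 7) 21) x7L (95 * 1) 1 = true := by decide +kernel
theorem x7_96 : srchR 1365 (nat_lit 11) (nat_lit 2047) x7T (x7T.get 7) (leafC (nat_lit 11) (nat_lit 2047) B (x7T.get 7) 21) x7L (96 * 1) 1 = true := by decide +kernel
theorem x7_97 : srchR 1365 (nat_lit 11) (nat_lit 2047) x7T (x7T.get 7) (leafC (nat_lit 11) (nat_lit 2047) B (x7T.get 7) 21) x7L (97 * 1) 1 = true := by decide +kernel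
theorem x7_98 : srchR 1365 (nat_lit 11) (nat_lit 2047) x7T (x7T.get 7) (leafC (nat_lit 11) (nat_lit 2047) B (x7T.get 7) 21) x7L (98 * 1) 1 = true := by decide +kernel
theorem x7_99 : srchR 1365 (nat_lit 11) (nat_lit 2047) x7T (x7T.get 7) (leafC (nat_lit 11) (nat_lit 2047) B (x7T.get 7) 21) x7L (99 * 1) 1 = true := by decide +kernel
theorem x7_100 : srchR 1365 (nat_lit 11) (nat_lit 2047) x7T (x7T.get 7) (leafC (nat_lit 11) (nat_lit 2047) B (x7T.get 7) 21) x7L (100 * 1) 1 = true := by decide +kernel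
theorem x7_101 : srchR 1365 (nat_lit 11) (nat_lit 2047) x7T (x7T.get 7) (leafC (nat_lit 11) (nat_lit 2047) B (x7T.get 7) 21) x7L (101 * 1) 1 = true := by decide +kernel
theorem x7_102 : srchR 1365 (nat_lit 11) (nat_lit 2047) x7T (x7T.get 7) (leafC (nat_lit 11) (nat_lit 2047) B (x7T.get 7) 21) x7L (102 * 1) 1 = true := by decide +kernel
theorem x7_103 : srchR 1365 (nat_lit 11) (nat_lit 2047) x7T (x7T.get 7) (leafC (nat_lit 11) (nat_lit 2047) B (x7T.get 7) 21) x7L (103 * 1) 1 = true := by decide +kernel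
theorem x7_104 : srchR 1365 (nat_lit 11) (nat_lit 2047) x7T (x7T.get 7) (leafC (nat_lit 11) (nat_lit 2047) B (x7T.get 7) 21) x7L (104 * 1) 1 = true := by decide +kernel
theorem x7_105 : srchR 1365 (nat_lit 11) (nat_lit 2047) x7T (x7T.get 7) (leafC (nat_lit 11) (nat_lit 2047) B (x7T.get 7) 21) x7L (105 * 1) 1 = true := by decide +kernel
theorem x7_106 : srchR 1365 (nat_lit 11) (nat_lit 2047) x7T (x7T.get 7) (leafC (nat_lit 11) (nat_lit 2047) B (x7T.get 7) 21) x7L (106 * 1) 1 = true := by decide +kernel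
theorem x7_107 : srchR 1365 (nat_lit 11) (nat_lit 2047) x7T (x7T.get 7) (leafC (nat_lit 11) (nat_lit 2047) B (x7T.get 7) 21) x7L (107 * 1) 1 = true := by decide +kernel
theorem x7_108 : srchR 1365 (nat_lit 11) (nat_lit 2047) x7T (x7T.get 7) (leafC (nat_lit 11) (nat_lit 2047) B (x7T.get 7) 21) x7L (108 * 1) 1 = true := by decide +kernel
theorem x7_109 : srchR 1365 (nat_lit 11) (nat_lit 2047) x7T (x7T.get 7) (leafC (nat_lit 11) (nat_lit 2047) B (x7T.get 7) 21) x7L (109 * 1) 1 = true := by decide +kernel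
theorem x7_110 : srchR 1365 (nat_lit 11) (nat_lit 2047) x7T (x7T.get 7) (leafC (nat_lit 11) (nat_lit 2047) B (x7T.get 7) 21) x7L (110 * 1) 1 = true := by decide +kernel
theorem x7_111 : srchR 1365 (nat_lit 11) (nat_lit 2047) x7T (x7T.get 7) (leafC (nat_lit 11) (nat_lit 2047) B (x7T.get 7) 21) x7L (111 * 1) 1 = true := by decide +kernel
theorem x7_112 : srchR 1365 (nat_lit 11) (nat_lit 2047) x7T (x7T.get 7) (leafC (nat_lit 11) (nat_lit 2047) B (x7T.get 7) 21) x7L (112 * 1) 1 = true := by decide +kernel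
theorem x7_113 : srchR 1365 (nat_lit 11) (nat_lit 2047) x7T (x7T.get 7) (leafC (nat_lit 11) (nat_lit 2047) B (x7T.get 7) 21) x7L (113 * 1) 1 = true := by decide +kernel
theorem x7_114 : srchR 1365 (nat_lit 11) (nat_lit 2047) x7T (x7T.get 7) (leafC (nat_lit 11) (nat_lit 2047) B (x7T.get 7) 21) x7L (114 * 1) 1 = true := by decide +kernel
theorem x7_115 : srchR 1365 (nat_lit 11) (nat_lit 2047) x7T (x7T.get 7) (leafC (nat_lit 11) (nat_lit 2047) B (x7T.get 7) 21) x7L (115 * 1) 1 = true := by decide +kernel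
theorem x7_116 : srchR 1365 (nat_lit 11) (nat_lit 2047) x7T (x7T.get 7) (leafC (nat_lit 11) (nat_lit 2047) B (x7T.get 7) 21) x7L (116 * 1) 1 = true := by decide +kernel
theorem x7_117 : srchR 1365 (nat_lit 11) (nat_lit 2047) x7T (x7T.get 7) (leafC (nat_lit 11) (nat_lit 2047) B (x7T.get 7) 21) x7L (117 * 1) 1 = true := by decide +kernel
theorem x7_118 : srchR 1365 (nat_lit 11) (nat_lit 2047) x7T (x7T.get 7) (leafC (nat_lit 11) (nat_lit 2047) B (x7T.get 7) 21) x7L (118 * 1) 1 = true := by decide +kernel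
theorem x7_119 : srchR 1365 (nat_lit 11) (nat_lit 2047) x7T (x7T.get 7) (leafC (nat_lit 11) (nat_lit 2047) B (x7T.get 7) 21) x7L (119 * 1) 1 = true := by decide +kernel
theorem x7_120 : srchR 1365 (nat_lit 11) (nat_lit 2047) x7T (x7T.get 7) (leafC (nat_lit 11) (nat_lit 2047) B (x7T.get 7) 21) x7L (120 * 1) 1 = true := by decide +kernel
theorem x7_121 : srchR 1365 (nat_lit 11) (nat_lit 2047) x7T (x7T.get 7) (leafC (nat_lit 11) (nat_lit 2047) B (x7T.get 7) 21) x7L (121 * 1) 1 = true := by decide +kernel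
theorem x7_122 : srchR 1365 (nat_lit 11) (nat_lit 2047) x7T (x7T.get 7) (leafC (nat_lit 11) (nat_lit 2047) B (x7T.get 7) 21) x7L (122 * 1) 1 = true := by decide +kernel
theorem x7_123 : srchR 1365 (nat_lit 11) (nat_lit 2047) x7T (x7T.get 7) (leafC (nat_lit 11) (nat_lit 2047) B (x7T.get 7) 21) x7L (123 * 1) 1 = true := by decide +kernel
theorem x7_124 : srchR 1365 (nat_lit 11) (nat_lit 2047) x7T (x7T.get 7) (leafC (nat_lit 11) (nat_lit 2047) B (x7T.get 7) 21) x7L (124 * 1) 1 = true := by decide +kernel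
theorem x7_125 : srchR 1365 (nat_lit 11) (nat_lit 2047) x7T (x7T.get 7) (leafC (nat_lit 11) (nat_lit 2047) B (x7T.get 7) 21) x7L (125 * 1) 1 = true := by decide +kernel
theorem x7_126 : srchR 1365 (nat_lit 11) (nat_lit 2047) x7T (x7T.get 7) (leafC (nat_lit 11) (nat_lit 2047) B (x7T.get 7) 21) x7L (126 * 1) 1 = true := by decide +kernel
theorem x7_127 : srchR 1365 (nat_lit 11) (nat_lit 2047) x7T (x7T.get 7) (leafC (nat_lit 11) (nat_lit 2047) B (x7T.get 7) 21) x7L (127 * 1) 1 = true := by decide +kernel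
theorem x7_128 : srchR 1365 (nat_lit 11) (nat_lit 2047) x7T (x7T.get 7) (leafC (nat_lit 11) (nat_lit 2047) B (x7T.get 7) 21) x7L (128 * 1) 1 = true := by decide +kernel
theorem x7_129 : srchR 1365 (nat_lit 11) (nat_lit 2047) x7T (x7T.get 7) (leafC (nat_lit 11) (nat_lit 2047) B (x7T.get 7) 21) x7L (129 * 1) 1 = true := by decide +kernel
theorem x7_130 : srchR 1365 (nat_lit 11) (nat_lit 2047) x7T (x7T.get 7) (leafC (nat_lit 11) (nat_lit 2047) B (x7T.get 7) 21) x7L (130 * 1) 1 = true := by decide +kernel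
theorem x7_131 : srchR 1365 (nat_lit 11) (nat_lit 2047) x7T (x7T.get 7) (leafC (nat_lit 11) (nat_lit 2047) B (x7T.get 7) 21) x7L (131 * 1) 1 = true := by decide +kernel
theorem x7_132 : srchR 1365 (nat_lit 11) (nat_lit 2047) x7T (x7T.get 7) (leafC (nat_lit 11) (nat_lit 2047) B (x7T.get 7) 21) x7L (132 * 1) 1 = true := by decide +kernel
theorem x7_133 : srchR 1365 (nat_lit 11) (nat_lit 2047) x7T (x7T.get 7) (leafC (nat_lit 11) (nat_lit 2047) B (x7T.get 7) 21) x7L (133 * 1) 1 = true := by decide +kernel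
theorem x7_134 : srchR 1365 (nat_lit 11) (nat_lit 2047) x7T (x7T.get 7) (leafC (nat_lit 11) (nat_lit 2047) B (x7T.get 7) 21) x7L (134 * 1) 1 = true := by decide +kernel
theorem x7_135 : srchR 1365 (nat_lit 11) (nat_lit 2047) x7T (x7T.get 7) (leafC (nat_lit 11) (nat_lit 2047) B (x7T.get 7) 21) x7L (135 * 1) 1 = true := by decide +kernel
theorem x7_136 : srchR 1365 (nat_lit 11) (nat_lit 2047) x7T (x7T.get 7) (leafC (nat_lit 11) (nat_lit 2047) B (x7T.get 7) 21) x7L (136 * 1) 1 = true := by decide +kernel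
theorem x7_137 : srchR 1365 (nat_lit 11) (nat_lit 2047) x7T (x7T.get 7) (leafC (nat_lit 11) (nat_lit 2047) B (x7T.get 7) 21) x7L (137 * 1) 1 = true := by decide +kernel
theorem x7_138 : srchR 1365 (nat_lit 11) (nat_lit 2047) x7T (x7T.get 7) (leafC (nat_lit 11) (nat_lit 2047) B (x7T.get 7) 21) x7L (138 * 1) 1 = true := by decide +kernel
theorem x7_139 : srchR 1365 (nat_lit 11) (nat_lit 2047) x7T (x7T.get 7) (leafC (nat_lit 11) (nat_lit 2047) B (x7T.get 7) 21) x7L (139 * 1) 1 = true := by decide +kernel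
theorem x7_140 : srchR 1365 (nat_lit 11) (nat_lit 2047) x7T (x7T.get 7) (leafC (nat_lit 11) (nat_lit 2047) B (x7T.get 7) 21) x7L (140 * 1) 1 = true := by decide +kernel
theorem x7_141 : srchR 1365 (nat_lit 11) (nat_lit 2047) x7T (x7T.get 7) (leafC (nat_lit 11) (nat_lit 2047) B (x7T.get 7) 21) x7L (141 * 1) 1 = true := by decide +kernel
theorem x7_142 : srchR 1365 (nat_lit 11) (nat_lit 2047) x7T (x7T.get 7) (leafC (nat_lit 11) (nat_lit 2047) B (x7T.get 7) 21) x7L (142 * 1) 1 = true := by decide +kernel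
theorem x7_143 : srchR 1365 (nat_lit 11) (nat_lit 2047) x7T (x7T.get 7) (leafC (nat_lit 11) (nat_lit 2047) B (x7T.get 7) 21) x7L (143 * 1) 1 = true := by decide +kernel
theorem x7_144 : srchR 1365 (nat_lit 11) (nat_lit 2047) x7T (x7T.get 7) (leafC (nat_lit 11) (nat_lit 2047) B (x7T.get 7) 21) x7L (144 * 1) 1 = true := by decide +kernel
theorem x7_145 : srchR 1365 (nat_lit 11) (nat_lit 2047) x7T (x7T.get 7) (leafC (nat_lit 11) (nat_lit 2047) B (x7T.get 7) 21) x7L (145 * 1) 1 = true := by decide +kernel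
theorem x7_146 : srchR 1365 (nat_lit 11) (nat_lit 2047) x7T (x7T.get 7) (leafC (nat_lit 11) (nat_lit 2047) B (x7T.get 7) 21) x7L (146 * 1) 1 = true := by decide +kernel
theorem x7_147 : srchR 1365 (nat_lit 11) (nat_lit 2047) x7T (x7T.get 7) (leafC (nat_lit 11) (nat_lit 2047) B (x7T.get 7) 21) x7L (147 * 1) 1 = true := by decide +kernel
theorem x7_148 : srchR 1365 (nat_lit 11) (nat_lit 2047) x7T (x7T.get 7) (leafC (nat_lit 11) (nat_lit 2047) B (x7T.get 7) 21) x7L (148 * 1) 1 = true := by decide +kernel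
theorem x7_149 : srchR 1365 (nat_lit 11) (nat_lit 2047) x7T (x7T.get 7) (leafC (nat_lit 11) (nat_lit 2047) B (x7T.get 7) 21) x7L (149 * 1) 1 = true := by decide +kernel
theorem x7_150 : srchR 1365 (nat_lit 11) (nat_lit 2047) x7T (x7T.get 7) (leafC (nat_lit 11) (nat_lit 2047) B (x7T.get 7) 21) x7L (150 * 1) 1 = true := by decide +kernel
theorem x7_151 : srchR 1365 (nat_lit 11) (nat_lit 2047) x7T (x7T.get 7) (leafC (nat_lit 11) (nat_lit 2047) B (x7T.get 7) 21) x7L (151 * 1) 1 = true := by decide +kernel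
theorem x7_152 : srchR 1365 (nat_lit 11) (nat_lit 2047) x7T (x7T.get 7) (leafC (nat_lit 11) (nat_lit 2047) B (x7T.get 7) 21) x7L (152 * 1) 1 = true := by decide +kernel
theorem x7_153 : srchR 1365 (nat_lit 11) (nat_lit 2047) x7T (x7T.get 7) (leafC (nat_lit 11) (nat_lit 2047) B (x7T.get 7) 21) x7L (153 * 1) 1 = true := by decide +kernel
theorem x7_154 : srchR 1365 (nat_lit 11) (nat_lit 2047) x7T (x7T.get 7) (leafC (nat_lit 11) (nat_lit 2047) B (x7T.get 7) 21) x7L (154 * 1) 1 = true := by decide +kernel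
theorem x7_155 : srchR 1365 (nat_lit 11) (nat_lit 2047) x7T (x7T.get 7) (leafC (nat_lit 11) (nat_lit 2047) B (x7T.get 7) 21) x7L (155 * 1) 1 = true := by decide +kernel
theorem x7_156 : srchR 1365 (nat_lit 11) (nat_lit 2047) x7T (x7T.get 7) (leafC (nat_lit 11) (nat_lit 2047) B (x7T.get 7) 21) x7L (156 * 1) 1 = true := by decide +kernel
theorem x7_157 : srchR 1365 (nat_lit 11) (nat_lit 2047) x7T (x7T.get 7) (leafC (nat_lit 11) (nat_lit 2047) B (x7T.get 7) 21) x7L (157 * 1) 1 = true := by decide +kernel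
theorem x7_158 : srchR 1365 (nat_lit 11) (nat_lit 2047) x7T (x7T.get 7) (leafC (nat_lit 11) (nat_lit 2047) B (x7T.get 7) 21) x7L (158 * 1) 1 = true := by decide +kernel
theorem x7_159 : srchR 1365 (nat_lit 11) (nat_lit 2047) x7T (x7T.get 7) (leafC (nat_lit 11) (nat_lit 2047) B (x7T.get 7) 21) x7L (159 * 1) 1 = true := by decide +kernel
theorem x7_160 : srchR 1365 (nat_lit 11) (nat_lit 2047) x7T (x7T.get 7) (leafC (nat_lit 11) (nat_lit 2047) B (x7T.get 7) 21) x7L (160 * 1) 1 = true := by decide +kernel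
theorem x7_161 : srchR 1365 (nat_lit 11) (nat_lit 2047) x7T (x7T.get 7) (leafC (nat_lit 11) (nat_lit 2047) B (x7T.get 7) 21) x7L (161 * 1) 1 = true := by decide +kernel
theorem x7_162 : srchR 1365 (nat_lit 11) (nat_lit 2047) x7T (x7T.get 7) (leafC (nat_lit 11) (nat_lit 2047) B (x7T.get 7) 21) x7L (162 * 1) 1 = true := by decide +kernel
theorem x7_163 : srchR 1365 (nat_lit 11) (nat_lit 2047) x7T (x7T.get 7) (leafC (nat_lit 11) (nat_lit 2047) B (x7T.get 7) 21) x7L (163 * 1) 1 = true := by decide +kernel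
theorem x7_164 : srchR 1365 (nat_lit 11) (nat_lit 2047) x7T (x7T.get 7) (leafC (nat_lit 11) (nat_lit 2047) B (x7T.get 7) 21) x7L (164 * 1) 1 = true := by decide +kernel
theorem x7_165 : srchR 1365 (nat_lit 11) (nat_lit 2047) x7T (x7T.get 7) (leafC (nat_lit 11) (nat_lit 2047) B (x7T.get 7) 21) x7L (165 * 1) 1 = true := by decide +kernel
theorem x7_166 : srchR 1365 (nat_lit 11) (nat_lit 2047) x7T (x7T.get 7) (leafC (nat_lit 11) (nat_lit 2047) B (x7T.get 7) 21) x7L (166 * 1) 1 = true := by decide +kernel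
theorem x7_167 : srchR 1365 (nat_lit 11) (nat_lit 2047) x7T (x7T.get 7) (leafC (nat_lit 11) (nat_lit 2047) B (x7T.get 7) 21) x7L (167 * 1) 1 = true := by decide +kernel
theorem x7_168 : srchR 1365 (nat_lit 11) (nat_lit 2047) x7T (x7T.get 7) (leafC (nat_lit 11) (nat_lit 2047) B (x7T.get 7) 21) x7L (168 * 1) 1 = true := by decide +kernel
theorem x7_169 : srchR 1365 (nat_lit 11) (nat_lit 2047) x7T (x7T.get 7) (leafC (nat_lit 11) (nat_lit 2047) B (x7T.get 7) 21) x7L (169 * 1) 1 = true := by decide +kernel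
theorem x7_170 : srchR 1365 (nat_lit 11) (nat_lit 2047) x7T (x7T.get 7) (leafC (nat_lit 11) (nat_lit 2047) B (x7T.get 7) 21) x7L (170 * 1) 1 = true := by decide +kernel
theorem x7_171 : srchR 1365 (nat_lit 11) (nat_lit 2047) x7T (x7T.get 7) (leafC (nat_lit 11) (nat_lit 2047) B (x7T.get 7) 21) x7L (171 * 1) 1 = true := by decide +kernel
theorem x7_172 : srchR 1365 (nat_lit 11) (nat_lit 2047) x7T (x7T.get 7) (leafC (nat_lit 11) (nat_lit 2047) B (x7T.get 7) 21) x7L (172 * 1) 1 = true := by decide +kernel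
theorem x7_173 : srchR 1365 (nat_lit 11) (nat_lit 2047) x7T (x7T.get 7) (leafC (nat_lit 11) (nat_lit 2047) B (x7T.get 7) 21) x7L (173 * 1) 1 = true := by decide +kernel
theorem x7_174 : srchR 1365 (nat_lit 11) (nat_lit 2047) x7T (x7T.get 7) (leafC (nat_lit 11) (nat_lit 2047) B (x7T.get 7) 21) x7L (174 * 1) 1 = true := by decide +kernel
theorem x7_175 : srchR 1365 (nat_lit 11) (nat_lit 2047) x7T (x7T.get 7) (leafC (nat_lit 11) (nat_lit 2047) B (x7T.get 7) 21) x7L (175 * 1) 1 = true := by decide +kernel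
theorem x7_176 : srchR 1365 (nat_lit 11) (nat_lit 2047) x7T (x7T.get 7) (leafC (nat_lit 11) (nat_lit 2047) B (x7T.get 7) 21) x7L (176 * 1) 1 = true := by decide +kernel
theorem x7_177 : srchR 1365 (nat_lit 11) (nat_lit 2047) x7T (x7T.get 7) (leafC (nat_lit 11) (nat_lit 2047) B (x7T.get 7) 21) x7L (177 * 1) 1 = true := by decide +kernel
theorem x7_178 : srchR 1365 (nat_lit 11) (nat_lit 2047) x7T (x7T.get 7) (leafC (nat_lit 11) (nat_lit 2047) B (x7T.get 7) 21) x7L (178 * 1) 1 = true := by decide +kernel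
theorem x7_179 : srchR 1365 (nat_lit 11) (nat_lit 2047) x7T (x7T.get 7) (leafC (nat_lit 11) (nat_lit 2047) B (x7T.get 7) 21) x7L (179 * 1) 1 = true := by decide +kernel
theorem x7_180 : srchR 1365 (nat_lit 11) (nat_lit 2047) x7T (x7T.get 7) (leafC (nat_lit 11) (nat_lit 2047) B (x7T.get 7) 21) x7L (180 * 1) 1 = true := by decide +kernel
theorem x7_181 : srchR 1365 (nat_lit 11) (nat_lit 2047) x7T (x7T.get 7) (leafC (nat_lit 11) (nat_lit 2047) B (x7T.get 7) 21) x7L (181 * 1) 1 = true := by decide +kernel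
theorem x7_182 : srchR 1365 (nat_lit 11) (nat_lit 2047) x7T (x7T.get 7) (leafC (nat_lit 11) (nat_lit 2047) B (x7T.get 7) 21) x7L (182 * 1) 1 = true := by decide +kernel
theorem x7_183 : srchR 1365 (nat_lit 11) (nat_lit 2047) x7T (x7T.get 7) (leafC (nat_lit 11) (nat_lit 2047) B (x7T.get 7) 21) x7L (183 * 1) 1 = true := by decide +kernel
theorem x7_184 : srchR 1365 (nat_lit 11) (nat_lit 2047) x7T (x7T.get 7) (leafC (nat_lit 11) (nat_lit 2047) B (x7T.get 7) 21) x7L (184 * 1) 1 = true := by decide +kernel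
theorem x7_185 : srchR 1365 (nat_lit 11) (nat_lit 2047) x7T (x7T.get 7) (leafC (nat_lit 11) (nat_lit 2047) B (x7T.get 7) 21) x7L (185 * 1) 1 = true := by decide +kernel
theorem x7_186 : srchR 1365 (nat_lit 11) (nat_lit 2047) x7T (x7T.get 7) (leafC (nat_lit 11) (nat_lit 2047) B (x7T.get 7) 21) x7L (186 * 1) 1 = true := by decide +kernel
theorem x7_187 : srchR 1365 (nat_lit 11) (nat_lit 2047) x7T (x7T.get 7) (leafC (nat_lit 11) (nat_lit 2047) B (x7T.get 7) 21) x7L (187 * 1) 1 = true := by decide +kernel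
theorem x7_188 : srchR 1365 (nat_lit 11) (nat_lit 2047) x7T (x7T.get 7) (leafC (nat_lit 11) (nat_lit 2047) B (x7T.get 7) 21) x7L (188 * 1) 1 = true := by decide +kernel
theorem x7_189 : srchR 1365 (nat_lit 11) (nat_lit 2047) x7T (x7T.get 7) (leafC (nat_lit 11) (nat_lit 2047) B (x7T.get 7) 21) x7L (189 * 1) 1 = true := by decide +kernel
theorem x7_190 : srchR 1365 (nat_lit 11) (nat_lit 2047) x7T (x7T.get 7) (leafC (nat_lit 11) (nat_lit 2047) B (x7T.get 7) 21) x7L (190 * 1) 1 = true := by decide +kernel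
theorem x7_191 : srchR 1365 (nat_lit 11) (nat_lit 2047) x7T (x7T.get 7) (leafC (nat_lit 11) (nat_lit 2047) B (x7T.get 7) 21) x7L (191 * 1) 1 = true := by decide +kernel
theorem x7_192 : srchR 1365 (nat_lit 11) (nat_lit 2047) x7T (x7T.get 7) (leafC (nat_lit 11) (nat_lit 2047) B (x7T.get 7) 21) x7L (192 * 1) 1 = true := by decide +kernel
theorem x7_193 : srchR 1365 (nat_lit 11) (nat_lit 2047) x7T (x7T.get 7) (leafC (nat_lit 11) (nat_lit 2047) B (x7T.get 7) 21) x7L (193 * 1) 1 = true := by decide +kernel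
theorem x7_194 : srchR 1365 (nat_lit 11) (nat_lit 2047) x7T (x7T.get 7) (leafC (nat_lit 11) (nat_lit 2047) B (x7T.get 7) 21) x7L (194 * 1) 1 = true := by decide +kernel
theorem x7_195 : srchR 1365 (nat_lit 11) (nat_lit 2047) x7T (x7T.get 7) (leafC (nat_lit 11) (nat_lit 2047) B (x7T.get 7) 21) x7L (195 * 1) 1 = true := by decide +kernel
theorem x7_196 : srchR 1365 (nat_lit 11) (nat_lit 2047) x7T (x7T.get 7) (leafC (nat_lit 11) (nat_lit 2047) B (x7T.get 7) 21) x7L (196 * 1) 1 = true := by decide +kernel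
theorem x7_197 : srchR 1365 (nat_lit 11) (nat_lit 2047) x7T (x7T.get 7) (leafC (nat_lit 11) (nat_lit 2047) B (x7T.get 7) 21) x7L (197 * 1) 1 = true := by decide +kernel
theorem x7_198 : srchR 1365 (nat_lit 11) (nat_lit 2047) x7T (x7T.get 7) (leafC (nat_lit 11) (nat_lit 2047) B (x7T.get 7) 21) x7L (198 * 1) 1 = true := by decide +kernel
theorem x7_199 : srchR 1365 (nat_lit 11) (nat_lit 2047) x7T (x7T.get 7) (leafC (nat_lit 11) (nat_lit 2047) B (x7T.get 7) 21) x7L (199 * 1) 1 = true := by decide +kernel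
theorem x7_200 : srchR 1365 (nat_lit 11) (nat_lit 2047) x7T (x7T.get 7) (leafC (nat_lit 11) (nat_lit 2047) B (x7T.get 7) 21) x7L (200 * 1) 1 = true := by decide +kernel
theorem x7_201 : srchR 1365 (nat_lit 11) (nat_lit 2047) x7T (x7T.get 7) (leafC (nat_lit 11) (nat_lit 2047) B (x7T.get 7) 21) x7L (201 * 1) 1 = true := by decide +kernel
theorem x7_202 : srchR 1365 (nat_lit 11) (nat_lit 2047) x7T (x7T.get 7) (leafC (nat_lit 11) (nat_lit 2047) B (x7T.get 7) 21) x7L (202 * 1) 1 = true := by decide +kernel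
theorem x7_203 : srchR 1365 (nat_lit 11) (nat_lit 2047) x7T (x7T.get 7) (leafC (nat_lit 11) (nat_lit 2047) B (x7T.get 7) 21) x7L (203 * 1) 1 = true := by decide +kernel
theorem x7_204 : srchR 1365 (nat_lit 11) (nat_lit 2047) x7T (x7T.get 7) (leafC (nat_lit 11) (nat_lit 2047) B (x7T.get 7) 21) x7L (204 * 1) 1 = true := by decide +kernel
theorem x7_205 : srchR 1365 (nat_lit 11) (nat_lit 2047) x7T (x7T.get 7) (leafC (nat_lit 11) (nat_lit 2047) B (x7T.get 7) 21) x7L (205 * 1) 1 = true := by decide +kernel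
theorem x7_206 : srchR 1365 (nat_lit 11) (nat_lit 2047) x7T (x7T.get 7) (leafC (nat_lit 11) (nat_lit 2047) B (x7T.get 7) 21) x7L (206 * 1) 1 = true := by decide +kernel
theorem x7_207 : srchR 1365 (nat_lit 11) (nat_lit 2047) x7T (x7T.get 7) (leafC (nat_lit 11) (nat_lit 2047) B (x7T.get 7) 21) x7L (207 * 1) 1 = true := by decide +kernel
theorem x7_208 : srchR 1365 (nat_lit 11) (nat_lit 2047) x7T (x7T.get 7) (leafC (nat_lit 11) (nat_lit 2047) B (x7T.get 7) 21) x7L (208 * 1) 1 = true := by decide +kernel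
theorem x7_209 : srchR 1365 (nat_lit 11) (nat_lit 2047) x7T (x7T.get 7) (leafC (nat_lit 11) (nat_lit 2047) B (x7T.get 7) 21) x7L (209 * 1) 1 = true := by decide +kernel
theorem x7_210 : srchR 1365 (nat_lit 11) (nat_lit 2047) x7T (x7T.get 7) (leafC (nat_lit 11) (nat_lit 2047) B (x7T.get 7) 21) x7L (210 * 1) 1 = true := by decide +kernel
theorem x7_211 : srchR 1365 (nat_lit 11) (nat_lit 2047) x7T (x7T.get 7) (leafC (nat_lit 11) (nat_lit 2047) B (x7T.get 7) 21) x7L (211 * 1) 1 = true := by decide +kernel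
theorem x7_212 : srchR 1365 (nat_lit 11) (nat_lit 2047) x7T (x7T.get 7) (leafC (nat_lit 11) (nat_lit 2047) B (x7T.get 7) 21) x7L (212 * 1) 1 = true := by decide +kernel
theorem x7_213 : srchR 1365 (nat_lit 11) (nat_lit 2047) x7T (x7T.get 7) (leafC (nat_lit 11) (nat_lit 2047) B (x7T.get 7) 21) x7L (213 * 1) 1 = true := by decide +kernel
theorem x7_214 : srchR 1365 (nat_lit 11) (nat_lit 2047) x7T (x7T.get 7) (leafC (nat_lit 11) (nat_lit 2047) B (x7T.get 7) 21) x7L (214 * 1) 1 = true := by decide +kernel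
theorem x7_215 : srchR 1365 (nat_lit 11) (nat_lit 2047) x7T (x7T.get 7) (leafC (nat_lit 11) (nat_lit 2047) B (x7T.get 7) 21) x7L (215 * 1) 1 = true := by decide +kernel
theorem x7_216 : srchR 1365 (nat_lit 11) (nat_lit 2047) x7T (x7T.get 7) (leafC (nat_lit 11) (nat_lit 2047) B (x7T.get 7) 21) x7L (216 * 1) 1 = true := by decide +kernel
theorem x7_217 : srchR 1365 (nat_lit 11) (nat_lit 2047) x7T (x7T.get 7) (leafC (nat_lit 11) (nat_lit 2047) B (x7T.get 7) 21) x7L (217 * 1) 1 = true := by decide +kernel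
theorem x7_218 : srchR 1365 (nat_lit 11) (nat_lit 2047) x7T (x7T.get 7) (leafC (nat_lit 11) (nat_lit 2047) B (x7T.get 7) 21) x7L (218 * 1) 1 = true := by decide +kernel
theorem x7_219 : srchR 1365 (nat_lit 11) (nat_lit 2047) x7T (x7T.get 7) (leafC (nat_lit 11) (nat_lit 2047) B (x7T.get 7) 21) x7L (219 * 1) 1 = true := by decide +kernel
theorem x7_220 : srchR 1365 (nat_lit 11) (nat_lit 2047) x7T (x7T.get 7) (leafC (nat_lit 11) (nat_lit 2047) B (x7T.get 7) 21) x7L (220 * 1) 1 = true := by decide +kernel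
theorem x7_221 : srchR 1365 (nat_lit 11) (nat_lit 2047) x7T (x7T.get 7) (leafC (nat_lit 11) (nat_lit 2047) B (x7T.get 7) 21) x7L (221 * 1) 1 = true := by decide +kernel
theorem x7_222 : srchR 1365 (nat_lit 11) (nat_lit 2047) x7T (x7T.get 7) (leafC (nat_lit 11) (nat_lit 2047) B (x7T.get 7) 21) x7L (222 * 1) 1 = true := by decide +kernel
theorem x7_223 : srchR 1365 (nat_lit 11) (nat_lit 2047) x7T (x7T.get 7) (leafC (nat_lit 11) (nat_lit 2047) B (x7T.get 7) 21) x7L (223 * 1) 1 = true := by decide +kernel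
theorem x7_224 : srchR 1365 (nat_lit 11) (nat_lit 2047) x7T (x7T.get 7) (leafC (nat_lit 11) (nat_lit 2047) B (x7T.get 7) 21) x7L (224 * 1) 1 = true := by decide +kernel
theorem x7_225 : srchR 1365 (nat_lit 11) (nat_lit 2047) x7T (x7T.get 7) (leafC (nat_lit 11) (nat_lit 2047) B (x7T.get 7) 21) x7L (225 * 1) 1 = true := by decide +kernel
theorem x7_226 : srchR 1365 (nat_lit 11) (nat_lit 2047) x7T (x7T.get 7) (leafC (nat_lit 11) (nat_lit 2047) B (x7T.get 7) 21) x7L (226 * 1) 1 = true := by decide +kernel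
theorem x7_227 : srchR 1365 (nat_lit 11) (nat_lit 2047) x7T (x7T.get 7) (leafC (nat_lit 11) (nat_lit 2047) B (x7T.get 7) 21) x7L (227 * 1) 1 = true := by decide +kernel
theorem x7_228 : srchR 1365 (nat_lit 11) (nat_lit 2047) x7T (x7T.get 7) (leafC (nat_lit 11) (nat_lit 2047) B (x7T.get 7) 21) x7L (228 * 1) 1 = true := by decide +kernel
theorem x7_229 : srchR 1365 (nat_lit 11) (nat_lit 2047) x7T (x7T.get 7) (leafC (nat_lit 11) (nat_lit 2047) B (x7T.get 7) 21) x7L (229 * 1) 1 = true := by decide +kernel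
theorem x7_230 : srchR 1365 (nat_lit 11) (nat_lit 2047) x7T (x7T.get 7) (leafC (nat_lit 11) (nat_lit 2047) B (x7T.get 7) 21) x7L (230 * 1) 1 = true := by decide +kernel
theorem x7_231 : srchR 1365 (nat_lit 11) (nat_lit 2047) x7T (x7T.get 7) (leafC (nat_lit 11) (nat_lit 2047) B (x7T.get 7) 21) x7L (231 * 1) 1 = true := by decide +kernel
theorem x7_232 : srchR 1365 (nat_lit 11) (nat_lit 2047) x7T (x7T.get 7) (leafC (nat_lit 11) (nat_lit 2047) B (x7T.get 7) 21) x7L (232 * 1) 1 = true := by decide +kernel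
theorem x7_233 : srchR 1365 (nat_lit 11) (nat_lit 2047) x7T (x7T.get 7) (leafC (nat_lit 11) (nat_lit 2047) B (x7T.get 7) 21) x7L (233 * 1) 1 = true := by decide +kernel
theorem x7_234 : srchR 1365 (nat_lit 11) (nat_lit 2047) x7T (x7T.get 7) (leafC (nat_lit 11) (nat_lit 2047) B (x7T.get 7) 21) x7L (234 * 1) 1 = true := by decide +kernel
theorem x7_235 : srchR 1365 (nat_lit 11) (nat_lit 2047) x7T (x7T.get 7) (leafC (nat_lit 11) (nat_lit 2047) B (x7T.get 7) 21) x7L (235 * 1) 1 = true := by decide +kernel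
theorem x7_236 : srchR 1365 (nat_lit 11) (nat_lit 2047) x7T (x7T.get 7) (leafC (nat_lit 11) (nat_lit 2047) B (x7T.get 7) 21) x7L (236 * 1) 1 = true := by decide +kernel
theorem x7_237 : srchR 1365 (nat_lit 11) (nat_lit 2047) x7T (x7T.get 7) (leafC (nat_lit 11) (nat_lit 2047) B (x7T.get 7) 21) x7L (237 * 1) 1 = true := by decide +kernel
theorem x7_238 : srchR 1365 (nat_lit 11) (nat_lit 2047) x7T (x7T.get 7) (leafC (nat_lit 11) (nat_lit 2047) B (x7T.get 7) 21) x7L (238 * 1) 1 = true := by decide +kernel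
theorem x7_239 : srchR 1365 (nat_lit 11) (nat_lit 2047) x7T (x7T.get 7) (leafC (nat_lit 11) (nat_lit 2047) B (x7T.get 7) 21) x7L (239 * 1) 1 = true := by decide +kernel
theorem x7_240 : srchR 1365 (nat_lit 11) (nat_lit 2047) x7T (x7T.get 7) (leafC (nat_lit 11) (nat_lit 2047) B (x7T.get 7) 21) x7L (240 * 1) 1 = true := by decide +kernel
theorem x7_241 : srchR 1365 (nat_lit 11) (nat_lit 2047) x7T (x7T.get 7) (leafC (nat_lit 11) (nat_lit 2047) B (x7T.get 7) 21) x7L (241 * 1) 1 = true := by decide +kernel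
theorem x7_242 : srchR 1365 (nat_lit 11) (nat_lit 2047) x7T (x7T.get 7) (leafC (nat_lit 11) (nat_lit 2047) B (x7T.get 7) 21) x7L (242 * 1) 1 = true := by decide +kernel
theorem x7_243 : srchR 1365 (nat_lit 11) (nat_lit 2047) x7T (x7T.get 7) (leafC (nat_lit 11) (nat_lit 2047) B (x7T.get 7) 21) x7L (243 * 1) 1 = true := by decide +kernel
theorem x7_244 : srchR 1365 (nat_lit 11) (nat_lit 2047) x7T (x7T.get 7) (leafC (nat_lit 11) (nat_lit 2047) B (x7T.get 7) 21) x7L (244 * 1) 1 = true := by decide +kernel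
theorem x7_245 : srchR 1365 (nat_lit 11) (nat_lit 2047) x7T (x7T.get 7) (leafC (nat_lit 11) (nat_lit 2047) B (x7T.get 7) 21) x7L (245 * 1) 1 = true := by decide +kernel
theorem x7_246 : srchR 1365 (nat_lit 11) (nat_lit 2047) x7T (x7T.get 7) (leafC (nat_lit 11) (nat_lit 2047) B (x7T.get 7) 21) x7L (246 * 1) 1 = true := by decide +kernel
theorem x7_247 : srchR 1365 (nat_lit 11) (nat_lit 2047) x7T (x7T.get 7) (leafC (nat_lit 11) (nat_lit 2047) B (x7T.get 7) 21) x7L (247 * 1) 1 = true := by decide +kernel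
theorem x7_248 : srchR 1365 (nat_lit 11) (nat_lit 2047) x7T (x7T.get 7) (leafC (nat_lit 11) (nat_lit 2047) B (x7T.get 7) 21) x7L (248 * 1) 1 = true := by decide +kernel
theorem x7_249 : srchR 1365 (nat_lit 11) (nat_lit 2047) x7T (x7T.get 7) (leafC (nat_lit 11) (nat_lit 2047) B (x7T.get 7) 21) x7L (249 * 1) 1 = true := by decide +kernel
theorem x7_250 : srchR 1365 (nat_lit 11) (nat_lit 2047) x7T (x7T.get 7) (leafC (nat_lit 11) (nat_lit 2047) B (x7T.get 7) 21) x7L (250 * 1) 1 = true := by decide +kernel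
theorem x7_251 : srchR 1365 (nat_lit 11) (nat_lit 2047) x7T (x7T.get 7) (leafC (nat_lit 11) (nat_lit 2047) B (x7T.get 7) 21) x7L (251 * 1) 1 = true := by decide +kernel
theorem x7_252 : srchR 1365 (nat_lit 11) (nat_lit 2047) x7T (x7T.get 7) (leafC (nat_lit 11) (nat_lit 2047) B (x7T.get 7) 21) x7L (252 * 1) 1 = true := by decide +kernel
theorem x7_253 : srchR 1365 (nat_lit 11) (nat_lit 2047) x7T (x7T.get 7) (leafC (nat_lit 11) (nat_lit 2047) B (x7T.get 7) 21) x7L (253 * 1) 1 = true := by decide +kernel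
theorem x7_254 : srchR 1365 (nat_lit 11) (nat_lit 2047) x7T (x7T.get 7) (leafC (nat_lit 11) (nat_lit 2047) B (x7T.get 7) 21) x7L (254 * 1) 1 = true := by decide +kernel
theorem x7_255 : srchR 1365 (nat_lit 11) (nat_lit 2047) x7T (x7T.get 7) (leafC (nat_lit 11) (nat_lit 2047) B (x7T.get 7) 21) x7L (255 * 1) 1 = true := by decide +kernel
theorem x7_256 : srchR 1365 (nat_lit 11) (nat_lit 2047) x7T (x7T.get 7) (leafC (nat_lit 11) (nat_lit 2047) B (x7T.get 7) 21) x7L (256 * 1) 1 = true := by decide +kernel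
theorem x7_257 : srchR 1365 (nat_lit 11) (nat_lit 2047) x7T (x7T.get 7) (leafC (nat_lit 11) (nat_lit 2047) B (x7T.get 7) 21) x7L (257 * 1) 1 = true := by decide +kernel
theorem x7_258 : srchR 1365 (nat_lit 11) (nat_lit 2047) x7T (x7T.get 7) (leafC (nat_lit 11) (nat_lit 2047) B (x7T.get 7) 21) x7L (258 * 1) 1 = true := by decide +kernel
theorem x7_259 : srchR 1365 (nat_lit 11) (nat_lit 2047) x7T (x7T.get 7) (leafC (nat_lit 11) (nat_lit 2047) B (x7T.get 7) 21) x7L (259 * 1) 1 = true := by decide +kernel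
theorem x7_260 : srchR 1365 (nat_lit 11) (nat_lit 2047) x7T (x7T.get 7) (leafC (nat_lit 11) (nat_lit 2047) B (x7T.get 7) 21) x7L (260 * 1) 1 = true := by decide +kernel
theorem x7_261 : srchR 1365 (nat_lit 11) (nat_lit 2047) x7T (x7T.get 7) (leafC (nat_lit 11) (nat_lit 2047) B (x7T.get 7) 21) x7L (261 * 1) 1 = true := by decide +kernel
theorem x7_262 : srchR 1365 (nat_lit 11) (nat_lit 2047) x7T (x7T.get 7) (leafC (nat_lit 11) (nat_lit 2047) B (x7T.get 7) 21) x7L (262 * 1) 1 = true := by decide +kernel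
theorem x7_263 : srchR 1365 (nat_lit 11) (nat_lit 2047) x7T (x7T.get 7) (leafC (nat_lit 11) (nat_lit 2047) B (x7T.get 7) 21) x7L (263 * 1) 1 = true := by decide +kernel
theorem x7_264 : srchR 1365 (nat_lit 11) (nat_lit 2047) x7T (x7T.get 7) (leafC (nat_lit 11) (nat_lit 2047) B (x7T.get 7) 21) x7L (264 * 1) 1 = true := by decide +kernel
theorem x7_265 : srchR 1365 (nat_lit 11) (nat_lit 2047) x7T (x7T.get 7) (leafC (nat_lit 11) (nat_lit 2047) B (x7T.get 7) 21) x7L (265 * 1) 1 = true := by decide +kernel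
theorem x7_266 : srchR 1365 (nat_lit 11) (nat_lit 2047) x7T (x7T.get 7) (leafC (nat_lit 11) (nat_lit 2047) B (x7T.get 7) 21) x7L (266 * 1) 1 = true := by decide +kernel
theorem x7_267 : srchR 1365 (nat_lit 11) (nat_lit 2047) x7T (x7T.get 7) (leafC (nat_lit 11) (nat_lit 2047) B (x7T.get 7) 21) x7L (267 * 1) 1 = true := by decide +kernel
theorem x7_268 : srchR 1365 (nat_lit 11) (nat_lit 2047) x7T (x7T.get 7) (leafC (nat_lit 11) (nat_lit 2047) B (x7T.get 7) 21) x7L (268 * 1) 1 = true := by decide +kernel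
theorem x7_269 : srchR 1365 (nat_lit 11) (nat_lit 2047) x7T (x7T.get 7) (leafC (nat_lit 11) (nat_lit 2047) B (x7T.get 7) 21) x7L (269 * 1) 1 = true := by decide +kernel
theorem x7_270 : srchR 1365 (nat_lit 11) (nat_lit 2047) x7T (x7T.get 7) (leafC (nat_lit 11) (nat_lit 2047) B (x7T.get 7) 21) x7L (270 * 1) 1 = true := by decide +kernel
theorem x7_271 : srchR 1365 (nat_lit 11) (nat_lit 2047) x7T (x7T.get 7) (leafC (nat_lit 11) (nat_lit 2047) B (x7T.get 7) 21) x7L (271 * 1) 1 = true := by decide +kernel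
theorem x7_272 : srchR 1365 (nat_lit 11) (nat_lit 2047) x7T (x7T.get 7) (leafC (nat_lit 11) (nat_lit 2047) B (x7T.get 7) 21) x7L (272 * 1) 1 = true := by decide +kernel
theorem x7_273 : srchR 1365 (nat_lit 11) (nat_lit 2047) x7T (x7T.get 7) (leafC (nat_lit 11) (nat_lit 2047) B (x7T.get 7) 21) x7L (273 * 1) 1 = true := by decide +kernel
theorem x7_274 : srchR 1365 (nat_lit 11) (nat_lit 2047) x7T (x7T.get 7) (leafC (nat_lit 11) (nat_lit 2047) B (x7T.get 7) 21) x7L (274 * 1) 1 = true := by decide +kernel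
theorem x7_275 : srchR 1365 (nat_lit 11) (nat_lit 2047) x7T (x7T.get 7) (leafC (nat_lit 11) (nat_lit 2047) B (x7T.get 7) 21) x7L (275 * 1) 1 = true := by decide +kernel
theorem x7_276 : srchR 1365 (nat_lit 11) (nat_lit 2047) x7T (x7T.get 7) (leafC (nat_lit 11) (nat_lit 2047) B (x7T.get 7) 21) x7L (276 * 1) 1 = true := by decide +kernel
theorem x7_277 : srchR 1365 (nat_lit 11) (nat_lit 2047) x7T (x7T.get 7) (leafC (nat_lit 11) (nat_lit 2047) B (x7T.get 7) 21) x7L (277 * 1) 1 = true := by decide +kernel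
theorem x7_278 : srchR 1365 (nat_lit 11) (nat_lit 2047) x7T (x7T.get 7) (leafC (nat_lit 11) (nat_lit 2047) B (x7T.get 7) 21) x7L (278 * 1) 1 = true := by decide +kernel
theorem x7_279 : srchR 1365 (nat_lit 11) (nat_lit 2047) x7T (x7T.get 7) (leafC (nat_lit 11) (nat_lit 2047) B (x7T.get 7) 21) x7L (279 * 1) 1 = true := by decide +kernel
theorem x7_280 : srchR 1365 (nat_lit 11) (nat_lit 2047) x7T (x7T.get 7) (leafC (nat_lit 11) (nat_lit 2047) B (x7T.get 7) 21) x7L (280 * 1) 1 = true := by decide +kernel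
theorem x7_281 : srchR 1365 (nat_lit 11) (nat_lit 2047) x7T (x7T.get 7) (leafC (nat_lit 11) (nat_lit 2047) B (x7T.get 7) 21) x7L (281 * 1) 1 = true := by decide +kernel
theorem x7_282 : srchR 1365 (nat_lit 11) (nat_lit 2047) x7T (x7T.get 7) (leafC (nat_lit 11) (nat_lit 2047) B (x7T.get 7) 21) x7L (282 * 1) 1 = true := by decide +kernel
theorem x7_283 : srchR 1365 (nat_lit 11) (nat_lit 2047) x7T (x7T.get 7) (leafC (nat_lit 11) (nat_lit 2047) B (x7T.get 7) 21) x7L (283 * 1) 1 = true := by decide +kernel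
theorem x7_284 : srchR 1365 (nat_lit 11) (nat_lit 2047) x7T (x7T.get 7) (leafC (nat_lit 11) (nat_lit 2047) B (x7T.get 7) 21) x7L (284 * 1) 1 = true := by decide +kernel
theorem x7_285 : srchR 1365 (nat_lit 11) (nat_lit 2047) x7T (x7T.get 7) (leafC (nat_lit 11) (nat_lit 2047) B (x7T.get 7) 21) x7L (285 * 1) 1 = true := by decide +kernel
theorem x7_286 : srchR 1365 (nat_lit 11) (nat_lit 2047) x7T (x7T.get 7) (leafC (nat_lit 11) (nat_lit 2047) B (x7T.get 7) 21) x7L (286 * 1) 1 = true := by decide +kernel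
theorem x7_287 : srchR 1365 (nat_lit 11) (nat_lit 2047) x7T (x7T.get 7) (leafC (nat_lit 11) (nat_lit 2047) B (x7T.get 7) 21) x7L (287 * 1) 1 = true := by decide +kernel
theorem x7_288 : srchR 1365 (nat_lit 11) (nat_lit 2047) x7T (x7T.get 7) (leafC (nat_lit 11) (nat_lit 2047) B (x7T.get 7) 21) x7L (288 * 1) 1 = true := by decide +kernel
theorem x7_289 : srchR 1365 (nat_lit 11) (nat_lit 2047) x7T (x7T.get 7) (leafC (nat_lit 11) (nat_lit 2047) B (x7T.get 7) 21) x7L (289 * 1) 1 = true := by decide +kernel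
theorem x7_290 : srchR 1365 (nat_lit 11) (nat_lit 2047) x7T (x7T.get 7) (leafC (nat_lit 11) (nat_lit 2047) B (x7T.get 7) 21) x7L (290 * 1) 1 = true := by decide +kernel
theorem x7_291 : srchR 1365 (nat_lit 11) (nat_lit 2047) x7T (x7T.get 7) (leafC (nat_lit 11) (nat_lit 2047) B (x7T.get 7) 21) x7L (291 * 1) 1 = true := by decide +kernel
theorem x7_292 : srchR 1365 (nat_lit 11) (nat_lit 2047) x7T (x7T.get 7) (leafC (nat_lit 11) (nat_lit 2047) B (x7T.get 7) 21) x7L (292 * 1) 1 = true := by decide +kernel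
theorem x7_293 : srchR 1365 (nat_lit 11) (nat_lit 2047) x7T (x7T.get 7) (leafC (nat_lit 11) (nat_lit 2047) B (x7T.get 7) 21) x7L (293 * 1) 1 = true := by decide +kernel
theorem x7_294 : srchR 1365 (nat_lit 11) (nat_lit 2047) x7T (x7T.get 7) (leafC (nat_lit 11) (nat_lit 2047) B (x7T.get 7) 21) x7L (294 * 1) 1 = true := by decide +kernel
theorem x7_295 : srchR 1365 (nat_lit 11) (nat_lit 2047) x7T (x7T.get 7) (leafC (nat_lit 11) (nat_lit 2047) B (x7T.get 7) 21) x7L (295 * 1) 1 = true := by decide +kernel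
theorem x7_296 : srchR 1365 (nat_lit 11) (nat_lit 2047) x7T (x7T.get 7) (leafC (nat_lit 11) (nat_lit 2047) B (x7T.get 7) 21) x7L (296 * 1) 1 = true := by decide +kernel
theorem x7_297 : srchR 1365 (nat_lit 11) (nat_lit 2047) x7T (x7T.get 7) (leafC (nat_lit 11) (nat_lit 2047) B (x7T.get 7) 21) x7L (297 * 1) 1 = true := by decide +kernel
theorem x7_298 : srchR 1365 (nat_lit 11) (nat_lit 2047) x7T (x7T.get 7) (leafC (nat_lit 11) (nat_lit 2047) B (x7T.get 7) 21) x7L (298 * 1) 1 = true := by decide +kernel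
theorem x7_299 : srchR 1365 (nat_lit 11) (nat_lit 2047) x7T (x7T.get 7) (leafC (nat_lit 11) (nat_lit 2047) B (x7T.get 7) 21) x7L (299 * 1) 1 = true := by decide +kernel
theorem x7_300 : srchR 1365 (nat_lit 11) (nat_lit 2047) x7T (x7T.get 7) (leafC (nat_lit 11) (nat_lit 2047) B (x7T.get 7) 21) x7L (300 * 1) 1 = true := by decide +kernel
theorem x7_301 : srchR 1365 (nat_lit 11) (nat_lit 2047) x7T (x7T.get 7) (leafC (nat_lit 11) (nat_lit 2047) B (x7T.get 7) 21) x7L (301 * 1) 1 = true := by decide +kernel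
theorem x7_302 : srchR 1365 (nat_lit 11) (nat_lit 2047) x7T (x7T.get 7) (leafC (nat_lit 11) (nat_lit 2047) B (x7T.get 7) 21) x7L (302 * 1) 1 = true := by decide +kernel
theorem x7_303 : srchR 1365 (nat_lit 11) (nat_lit 2047) x7T (x7T.get 7) (leafC (nat_lit 11) (nat_lit 2047) B (x7T.get 7) 21) x7L (303 * 1) 1 = true := by decide +kernel
theorem x7_304 : srchR 1365 (nat_lit 11) (nat_lit 2047) x7T (x7T.get 7) (leafC (nat_lit 11) (nat_lit 2047) B (x7T.get 7) 21) x7L (304 * 1) 1 = true := by decide +kernel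
theorem x7_305 : srchR 1365 (nat_lit 11) (nat_lit 2047) x7T (x7T.get 7) (leafC (nat_lit 11) (nat_lit 2047) B (x7T.get 7) 21) x7L (305 * 1) 1 = true := by decide +kernel
theorem x7_306 : srchR 1365 (nat_lit 11) (nat_lit 2047) x7T (x7T.get 7) (leafC (nat_lit 11) (nat_lit 2047) B (x7T.get 7) 21) x7L (306 * 1) 1 = true := by decide +kernel
theorem x7_307 : srchR 1365 (nat_lit 11) (nat_lit 2047) x7T (x7T.get 7) (leafC (nat_lit 11) (nat_lit 2047) B (x7T.get 7) 21) x7L (307 * 1) 1 = true := by decide +kernel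
theorem x7_308 : srchR 1365 (nat_lit 11) (nat_lit 2047) x7T (x7T.get 7) (leafC (nat_lit 11) (nat_lit 2047) B (x7T.get 7) 21) x7L (308 * 1) 1 = true := by decide +kernel
theorem x7_309 : srchR 1365 (nat_lit 11) (nat_lit 2047) x7T (x7T.get 7) (leafC (nat_lit 11) (nat_lit 2047) B (x7T.get 7) 21) x7L (309 * 1) 1 = true := by decide +kernel
theorem x7_310 : srchR 1365 (nat_lit 11) (nat_lit 2047) x7T (x7T.get 7) (leafC (nat_lit 11) (nat_lit 2047) B (x7T.get 7) 21) x7L (310 * 1) 1 = true := by decide +kernel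
theorem x7_311 : srchR 1365 (nat_lit 11) (nat_lit 2047) x7T (x7T.get 7) (leafC (nat_lit 11) (nat_lit 2047) B (x7T.get 7) 21) x7L (311 * 1) 1 = true := by decide +kernel
theorem x7_312 : srchR 1365 (nat_lit 11) (nat_lit 2047) x7T (x7T.get 7) (leafC (nat_lit 11) (nat_lit 2047) B (x7T.get 7) 21) x7L (312 * 1) 1 = true := by decide +kernel
theorem x7_313 : srchR 1365 (nat_lit 11) (nat_lit 2047) x7T (x7T.get 7) (leafC (nat_lit 11) (nat_lit 2047) B (x7T.get 7) 21) x7L (313 * 1) 1 = true := by decide +kernel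
theorem x7_314 : srchR 1365 (nat_lit 11) (nat_lit 2047) x7T (x7T.get 7) (leafC (nat_lit 11) (nat_lit 2047) B (x7T.get 7) 21) x7L (314 * 1) 1 = true := by decide +kernel
theorem x7_315 : srchR 1365 (nat_lit 11) (nat_lit 2047) x7T (x7T.get 7) (leafC (nat_lit 11) (nat_lit 2047) B (x7T.get 7) 21) x7L (315 * 1) 1 = true := by decide +kernel
theorem x7_316 : srchR 1365 (nat_lit 11) (nat_lit 2047) x7T (x7T.get 7) (leafC (nat_lit 11) (nat_lit 2047) B (x7T.get 7) 21) x7L (316 * 1) 1 = true := by decide +kernel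
theorem x7_317 : srchR 1365 (nat_lit 11) (nat_lit 2047) x7T (x7T.get 7) (leafC (nat_lit 11) (nat_lit 2047) B (x7T.get 7) 21) x7L (317 * 1) 1 = true := by decide +kernel
theorem x7_318 : srchR 1365 (nat_lit 11) (nat_lit 2047) x7T (x7T.get 7) (leafC (nat_lit 11) (nat_lit 2047) B (x7T.get 7) 21) x7L (318 * 1) 1 = true := by decide +kernel
theorem x7_319 : srchR 1365 (nat_lit 11) (nat_lit 2047) x7T (x7T.get 7) (leafC (nat_lit 11) (nat_lit 2047) B (x7T.get 7) 21) x7L (319 * 1) 1 = true := by decide +kernel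
theorem x7_320 : srchR 1365 (nat_lit 11) (nat_lit 2047) x7T (x7T.get 7) (leafC (nat_lit 11) (nat_lit 2047) B (x7T.get 7) 21) x7L (320 * 1) 1 = true := by decide +kernel
theorem x7_321 : srchR 1365 (nat_lit 11) (nat_lit 2047) x7T (x7T.get 7) (leafC (nat_lit 11) (nat_lit 2047) B (x7T.get 7) 21) x7L (321 * 1) 1 = true := by decide +kernel
theorem x7_322 : srchR 1365 (nat_lit 11) (nat_lit 2047) x7T (x7T.get 7) (leafC (nat_lit 11) (nat_lit 2047) B (x7T.get 7) 21) x7L (322 * 1) 1 = true := by decide +kernel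
theorem x7_323 : srchR 1365 (nat_lit 11) (nat_lit 2047) x7T (x7T.get 7) (leafC (nat_lit 11) (nat_lit 2047) B (x7T.get 7) 21) x7L (323 * 1) 1 = true := by decide +kernel
theorem x7_324 : srchR 1365 (nat_lit 11) (nat_lit 2047) x7T (x7T.get 7) (leafC (nat_lit 11) (nat_lit 2047) B (x7T.get 7) 21) x7L (324 * 1) 1 = true := by decide +kernel
theorem x7_325 : srchR 1365 (nat_lit 11) (nat_lit 2047) x7T (x7T.get 7) (leafC (nat_lit 11) (nat_lit 2047) B (x7T.get 7) 21) x7L (325 * 1) 1 = true := by decide +kernel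
theorem x7_326 : srchR 1365 (nat_lit 11) (nat_lit 2047) x7T (x7T.get 7) (leafC (nat_lit 11) (nat_lit 2047) B (x7T.get 7) 21) x7L (326 * 1) 1 = true := by decide +kernel
theorem x7_327 : srchR 1365 (nat_lit 11) (nat_lit 2047) x7T (x7T.get 7) (leafC (nat_lit 11) (nat_lit 2047) B (x7T.get 7) 21) x7L (327 * 1) 1 = true := by decide +kernel
theorem x7_328 : srchR 1365 (nat_lit 11) (nat_lit 2047) x7T (x7T.get 7) (leafC (nat_lit 11) (nat_lit 2047) B (x7T.get 7) 21) x7L (328 * 1) 1 = true := by decide +kernel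
theorem x7_329 : srchR 1365 (nat_lit 11) (nat_lit 2047) x7T (x7T.get 7) (leafC (nat_lit 11) (nat_lit 2047) B (x7T.get 7) 21) x7L (329 * 1) 1 = true := by decide +kernel
theorem x7_330 : srchR 1365 (nat_lit 11) (nat_lit 2047) x7T (x7T.get 7) (leafC (nat_lit 11) (nat_lit 2047) B (x7T.get 7) 21) x7L (330 * 1) 1 = true := by decide +kernel
theorem x7_331 : srchR 1365 (nat_lit 11) (nat_lit 2047) x7T (x7T.get 7) (leafC (nat_lit 11) (nat_lit 2047) B (x7T.get 7) 21) x7L (331 * 1) 1 = true := by decide +kernel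
theorem x7_332 : srchR 1365 (nat_lit 11) (nat_lit 2047) x7T (x7T.get 7) (leafC (nat_lit 11) (nat_lit 2047) B (x7T.get 7) 21) x7L (332 * 1) 1 = true := by decide +kernel
theorem x7_333 : srchR 1365 (nat_lit 11) (nat_lit 2047) x7T (x7T.get 7) (leafC (nat_lit 11) (nat_lit 2047) B (x7T.get 7) 21) x7L (333 * 1) 1 = true := by decide +kernel
theorem x7_334 : srchR 1365 (nat_lit 11) (nat_lit 2047) x7T (x7T.get 7) (leafC (nat_lit 11) (nat_lit 2047) B (x7T.get 7) 21) x7L (334 * 1) 1 = true := by decide +kernel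
theorem x7_335 : srchR 1365 (nat_lit 11) (nat_lit 2047) x7T (x7T.get 7) (leafC (nat_lit 11) (nat_lit 2047) B (x7T.get 7) 21) x7L (335 * 1) 1 = true := by decide +kernel
theorem x7_336 : srchR 1365 (nat_lit 11) (nat_lit 2047) x7T (x7T.get 7) (leafC (nat_lit 11) (nat_lit 2047) B (x7T.get 7) 21) x7L (336 * 1) 1 = true := by decide +kernel
theorem x7_337 : srchR 1365 (nat_lit 11) (nat_lit 2047) x7T (x7T.get 7) (leafC (nat_lit 11) (nat_lit 2047) B (x7T.get 7) 21) x7L (337 * 1) 1 = true := by decide +kernel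
theorem x7_338 : srchR 1365 (nat_lit 11) (nat_lit 2047) x7T (x7T.get 7) (leafC (nat_lit 11) (nat_lit 2047) B (x7T.get 7) 21) x7L (338 * 1) 1 = true := by decide +kernel
theorem x7_339 : srchR 1365 (nat_lit 11) (nat_lit 2047) x7T (x7T.get 7) (leafC (nat_lit 11) (nat_lit 2047) B (x7T.get 7) 21) x7L (339 * 1) 1 = true := by decide +kernel
theorem x7_340 : srchR 1365 (nat_lit 11) (nat_lit 2047) x7T (x7T.get 7) (leafC (nat_lit 11) (nat_lit 2047) B (x7T.get 7) 21) x7L (340 * 1) 1 = true := by decide +kernel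
theorem x7_341 : srchR 1365 (nat_lit 11) (nat_lit 2047) x7T (x7T.get 7) (leafC (nat_lit 11) (nat_lit 2047) B (x7T.get 7) 21) x7L (341 * 1) 1 = true := by decide +kernel
theorem x7_342 : srchR 1365 (nat_lit 11) (nat_lit 2047) x7T (x7T.get 7) (leafC (nat_lit 11) (nat_lit 2047) B (x7T.get 7) 21) x7L (342 * 1) 1 = true := by decide +kernel
theorem x7_343 : srchR 1365 (nat_lit 11) (nat_lit 2047) x7T (x7T.get 7) (leafC (nat_lit 11) (nat_lit 2047) B (x7T.get 7) 21) x7L (343 * 1) 1 = true := by decide +kernel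
theorem x7_344 : srchR 1365 (nat_lit 11) (nat_lit 2047) x7T (x7T.get 7) (leafC (nat_lit 11) (nat_lit 2047) B (x7T.get 7) 21) x7L (344 * 1) 1 = true := by decide +kernel
theorem x7_345 : srchR 1365 (nat_lit 11) (nat_lit 2047) x7T (x7T.get 7) (leafC (nat_lit 11) (nat_lit 2047) B (x7T.get 7) 21) x7L (345 * 1) 1 = true := by decide +kernel
theorem x7_346 : srchR 1365 (nat_lit 11) (nat_lit 2047) x7T (x7T.get 7) (leafC (nat_lit 11) (nat_lit 2047) B (x7T.get 7) 21) x7L (346 * 1) 1 = true := by decide +kernel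
theorem x7_347 : srchR 1365 (nat_lit 11) (nat_lit 2047) x7T (x7T.get 7) (leafC (nat_lit 11) (nat_lit 2047) B (x7T.get 7) 21) x7L (347 * 1) 1 = true := by decide +kernel
theorem x7_348 : srchR 1365 (nat_lit 11) (nat_lit 2047) x7T (x7T.get 7) (leafC (nat_lit 11) (nat_lit 2047) B (x7T.get 7) 21) x7L (348 * 1) 1 = true := by decide +kernel
theorem x7_349 : srchR 1365 (nat_lit 11) (nat_lit 2047) x7T (x7T.get 7) (leafC (nat_lit 11) (nat_lit 2047) B (x7T.get 7) 21) x7L (349 * 1) 1 = true := by decide +kernel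
theorem x7_350 : srchR 1365 (nat_lit 11) (nat_lit 2047) x7T (x7T.get 7) (leafC (nat_lit 11) (nat_lit 2047) B (x7T.get 7) 21) x7L (350 * 1) 1 = true := by decide +kernel
theorem x7_351 : srchR 1365 (nat_lit 11) (nat_lit 2047) x7T (x7T.get 7) (leafC (nat_lit 11) (nat_lit 2047) B (x7T.get 7) 21) x7L (351 * 1) 1 = true := by decide +kernel
theorem x7_352 : srchR 1365 (nat_lit 11) (nat_lit 2047) x7T (x7T.get 7) (leafC (nat_lit 11) (nat_lit 2047) B (x7T.get 7) 21) x7L (352 * 1) 1 = true := by decide +kernel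
theorem x7_353 : srchR 1365 (nat_lit 11) (nat_lit 2047) x7T (x7T.get 7) (leafC (nat_lit 11) (nat_lit 2047) B (x7T.get 7) 21) x7L (353 * 1) 1 = true := by decide +kernel
theorem x7_354 : srchR 1365 (nat_lit 11) (nat_lit 2047) x7T (x7T.get 7) (leafC (nat_lit 11) (nat_lit 2047) B (x7T.get 7) 21) x7L (354 * 1) 1 = true := by decide +kernel
theorem x7_355 : srchR 1365 (nat_lit 11) (nat_lit 2047) x7T (x7T.get 7) (leafC (nat_lit 11) (nat_lit 2047) B (x7T.get 7) 21) x7L (355 * 1) 1 = true := by decide +kernel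
theorem x7_356 : srchR 1365 (nat_lit 11) (nat_lit 2047) x7T (x7T.get 7) (leafC (nat_lit 11) (nat_lit 2047) B (x7T.get 7) 21) x7L (356 * 1) 1 = true := by decide +kernel
theorem x7_357 : srchR 1365 (nat_lit 11) (nat_lit 2047) x7T (x7T.get 7) (leafC (nat_lit 11) (nat_lit 2047) B (x7T.get 7) 21) x7L (357 * 1) 1 = true := by decide +kernel
theorem x7_358 : srchR 1365 (nat_lit 11) (nat_lit 2047) x7T (x7T.get 7) (leafC (nat_lit 11) (nat_lit 2047) B (x7T.get 7) 21) x7L (358 * 1) 1 = true := by decide +kernel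
theorem x7_359 : srchR 1365 (nat_lit 11) (nat_lit 2047) x7T (x7T.get 7) (leafC (nat_lit 11) (nat_lit 2047) B (x7T.get 7) 21) x7L (359 * 1) 1 = true := by decide +kernel
theorem x7_360 : srchR 1365 (nat_lit 11) (nat_lit 2047) x7T (x7T.get 7) (leafC (nat_lit 11) (nat_lit 2047) B (x7T.get 7) 21) x7L (360 * 1) 1 = true := by decide +kernel
theorem x7_361 : srchR 1365 (nat_lit 11) (nat_lit 2047) x7T (x7T.get 7) (leafC (nat_lit 11) (nat_lit 2047) B (x7T.get 7) 21) x7L (361 * 1) 1 = true := by decide +kernel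
theorem x7_362 : srchR 1365 (nat_lit 11) (nat_lit 2047) x7T (x7T.get 7) (leafC (nat_lit 11) (nat_lit 2047) B (x7T.get 7) 21) x7L (362 * 1) 1 = true := by decide +kernel
theorem x7_363 : srchR 1365 (nat_lit 11) (nat_lit 2047) x7T (x7T.get 7) (leafC (nat_lit 11) (nat_lit 2047) B (x7T.get 7) 21) x7L (363 * 1) 1 = true := by decide +kernel
theorem x7_364 : srchR 1365 (nat_lit 11) (nat_lit 2047) x7T (x7T.get 7) (leafC (nat_lit 11) (nat_lit 2047) B (x7T.get 7) 21) x7L (364 * 1) 1 = true := by decide +kernel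
theorem x7_365 : srchR 1365 (nat_lit 11) (nat_lit 2047) x7T (x7T.get 7) (leafC (nat_lit 11) (nat_lit 2047) B (x7T.get 7) 21) x7L (365 * 1) 1 = true := by decide +kernel
theorem x7_366 : srchR 1365 (nat_lit 11) (nat_lit 2047) x7T (x7T.get 7) (leafC (nat_lit 11) (nat_lit 2047) B (x7T.get 7) 21) x7L (366 * 1) 1 = true := by decide +kernel
theorem x7_367 : srchR 1365 (nat_lit 11) (nat_lit 2047) x7T (x7T.get 7) (leafC (nat_lit 11) (nat_lit 2047) B (x7T.get 7) 21) x7L (367 * 1) 1 = true := by decide +kernel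
theorem x7_368 : srchR 1365 (nat_lit 11) (nat_lit 2047) x7T (x7T.get 7) (leafC (nat_lit 11) (nat_lit 2047) B (x7T.get 7) 21) x7L (368 * 1) 1 = true := by decide +kernel
theorem x7_369 : srchR 1365 (nat_lit 11) (nat_lit 2047) x7T (x7T.get 7) (leafC (nat_lit 11) (nat_lit 2047) B (x7T.get 7) 21) x7L (369 * 1) 1 = true := by decide +kernel
theorem x7_370 : srchR 1365 (nat_lit 11) (nat_lit 2047) x7T (x7T.get 7) (leafC (nat_lit 11) (nat_lit 2047) B (x7T.get 7) 21) x7L (370 * 1) 1 = true := by decide +kernel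
theorem x7_371 : srchR 1365 (nat_lit 11) (nat_lit 2047) x7T (x7T.get 7) (leafC (nat_lit 11) (nat_lit 2047) B (x7T.get 7) 21) x7L (371 * 1) 1 = true := by decide +kernel
theorem x7_372 : srchR 1365 (nat_lit 11) (nat_lit 2047) x7T (x7T.get 7) (leafC (nat_lit 11) (nat_lit 2047) B (x7T.get 7) 21) x7L (372 * 1) 1 = true := by decide +kernel
theorem x7_373 : srchR 1365 (nat_lit 11) (nat_lit 2047) x7T (x7T.get 7) (leafC (nat_lit 11) (nat_lit 2047) B (x7T.get 7) 21) x7L (373 * 1) 1 = true := by decide +kernel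
theorem x7_374 : srchR 1365 (nat_lit 11) (nat_lit 2047) x7T (x7T.get 7) (leafC (nat_lit 11) (nat_lit 2047) B (x7T.get 7) 21) x7L (374 * 1) 1 = true := by decide +kernel
theorem x7_375 : srchR 1365 (nat_lit 11) (nat_lit 2047) x7T (x7T.get 7) (leafC (nat_lit 11) (nat_lit 2047) B (x7T.get 7) 21) x7L (375 * 1) 1 = true := by decide +kernel
theorem x7_376 : srchR 1365 (nat_lit 11) (nat_lit 2047) x7T (x7T.get 7) (leafC (nat_lit 11) (nat_lit 2047) B (x7T.get 7) 21) x7L (376 * 1) 1 = true := by decide +kernel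
theorem x7_377 : srchR 1365 (nat_lit 11) (nat_lit 2047) x7T (x7T.get 7) (leafC (nat_lit 11) (nat_lit 2047) B (x7T.get 7) 21) x7L (377 * 1) 1 = true := by decide +kernel
theorem x7_378 : srchR 1365 (nat_lit 11) (nat_lit 2047) x7T (x7T.get 7) (leafC (nat_lit 11) (nat_lit 2047) B (x7T.get 7) 21) x7L (378 * 1) 1 = true := by decide +kernel
theorem x7_379 : srchR 1365 (nat_lit 11) (nat_lit 2047) x7T (x7T.get 7) (leafC (nat_lit 11) (nat_lit 2047) B (x7T.get 7) 21) x7L (379 * 1) 1 = true := by decide +kernel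
theorem x7_380 : srchR 1365 (nat_lit 11) (nat_lit 2047) x7T (x7T.get 7) (leafC (nat_lit 11) (nat_lit 2047) B (x7T.get 7) 21) x7L (380 * 1) 1 = true := by decide +kernel
theorem x7_381 : srchR 1365 (nat_lit 11) (nat_lit 2047) x7T (x7T.get 7) (leafC (nat_lit 11) (nat_lit 2047) B (x7T.get 7) 21) x7L (381 * 1) 1 = true := by decide +kernel
theorem x7_382 : srchR 1365 (nat_lit 11) (nat_lit 2047) x7T (x7T.get 7) (leafC (nat_lit 11) (nat_lit 2047) B (x7T.get 7) 21) x7L (382 * 1) 1 = true := by decide +kernel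
theorem x7_383 : srchR 1365 (nat_lit 11) (nat_lit 2047) x7T (x7T.get 7) (leafC (nat_lit 11) (nat_lit 2047) B (x7T.get 7) 21) x7L (383 * 1) 1 = true := by decide +kernel
theorem x7_384 : srchR 1365 (nat_lit 11) (nat_lit 2047) x7T (x7T.get 7) (leafC (nat_lit 11) (nat_lit 2047) B (x7T.get 7) 21) x7L (384 * 1) 1 = true := by decide +kernel
theorem x7_385 : srchR 1365 (nat_lit 11) (nat_lit 2047) x7T (x7T.get 7) (leafC (nat_lit 11) (nat_lit 2047) B (x7T.get 7) 21) x7L (385 * 1) 1 = true := by decide +kernel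
theorem x7_386 : srchR 1365 (nat_lit 11) (nat_lit 2047) x7T (x7T.get 7) (leafC (nat_lit 11) (nat_lit 2047) B (x7T.get 7) 21) x7L (386 * 1) 1 = true := by decide +kernel
theorem x7_387 : srchR 1365 (nat_lit 11) (nat_lit 2047) x7T (x7T.get 7) (leafC (nat_lit 11) (nat_lit 2047) B (x7T.get 7) 21) x7L (387 * 1) 1 = true := by decide +kernel
theorem x7_388 : srchR 1365 (nat_lit 11) (nat_lit 2047) x7T (x7T.get 7) (leafC (nat_lit 11) (nat_lit 2047) B (x7T.get 7) 21) x7L (388 * 1) 1 = true := by decide +kernel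
theorem x7_389 : srchR 1365 (nat_lit 11) (nat_lit 2047) x7T (x7T.get 7) (leafC (nat_lit 11) (nat_lit 2047) B (x7T.get 7) 21) x7L (389 * 1) 1 = true := by decide +kernel
theorem x7_390 : srchR 1365 (nat_lit 11) (nat_lit 2047) x7T (x7T.get 7) (leafC (nat_lit 11) (nat_lit 2047) B (x7T.get 7) 21) x7L (390 * 1) 1 = true := by decide +kernel
theorem x7_391 : srchR 1365 (nat_lit 11) (nat_lit 2047) x7T (x7T.get 7) (leafC (nat_lit 11) (nat_lit 2047) B (x7T.get 7) 21) x7L (391 * 1) 1 = true := by decide +kernel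
theorem x7_392 : srchR 1365 (nat_lit 11) (nat_lit 2047) x7T (x7T.get 7) (leafC (nat_lit 11) (nat_lit 2047) B (x7T.get 7) 21) x7L (392 * 1) 1 = true := by decide +kernel
theorem x7_393 : srchR 1365 (nat_lit 11) (nat_lit 2047) x7T (x7T.get 7) (leafC (nat_lit 11) (nat_lit 2047) B (x7T.get 7) 21) x7L (393 * 1) 1 = true := by decide +kernel
theorem x7_394 : srchR 1365 (nat_lit 11) (nat_lit 2047) x7T (x7T.get 7) (leafC (nat_lit 11) (nat_lit 2047) B (x7T.get 7) 21) x7L (394 * 1) 1 = true := by decide +kernel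
theorem x7_395 : srchR 1365 (nat_lit 11) (nat_lit 2047) x7T (x7T.get 7) (leafC (nat_lit 11) (nat_lit 2047) B (x7T.get 7) 21) x7L (395 * 1) 1 = true := by decide +kernel
theorem x7_396 : srchR 1365 (nat_lit 11) (nat_lit 2047) x7T (x7T.get 7) (leafC (nat_lit 11) (nat_lit 2047) B (x7T.get 7) 21) x7L (396 * 1) 1 = true := by decide +kernel
theorem x7_397 : srchR 1365 (nat_lit 11) (nat_lit 2047) x7T (x7T.get 7) (leafC (nat_lit 11) (nat_lit 2047) B (x7T.get 7) 21) x7L (397 * 1) 1 = true := by decide +kernel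
theorem x7_398 : srchR 1365 (nat_lit 11) (nat_lit 2047) x7T (x7T.get 7) (leafC (nat_lit 11) (nat_lit 2047) B (x7T.get 7) 21) x7L (398 * 1) 1 = true := by decide +kernel
theorem x7_399 : srchR 1365 (nat_lit 11) (nat_lit 2047) x7T (x7T.get 7) (leafC (nat_lit 11) (nat_lit 2047) B (x7T.get 7) 21) x7L (399 * 1) 1 = true := by decide +kernel
theorem x7_400 : srchR 1365 (nat_lit 11) (nat_lit 2047) x7T (x7T.get 7) (leafC (nat_lit 11) (nat_lit 2047) B (x7T.get 7) 21) x7L (400 * 1) 1 = true := by decide +kernel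
theorem x7_401 : srchR 1365 (nat_lit 11) (nat_lit 2047) x7T (x7T.get 7) (leafC (nat_lit 11) (nat_lit 2047) B (x7T.get 7) 21) x7L (401 * 1) 1 = true := by decide +kernel
theorem x7_402 : srchR 1365 (nat_lit 11) (nat_lit 2047) x7T (x7T.get 7) (leafC (nat_lit 11) (nat_lit 2047) B (x7T.get 7) 21) x7L (402 * 1) 1 = true := by decide +kernel
theorem x7_403 : srchR 1365 (nat_lit 11) (nat_lit 2047) x7T (x7T.get 7) (leafC (nat_lit 11) (nat_lit 2047) B (x7T.get 7) 21) x7L (403 * 1) 1 = true := by decide +kernel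
theorem x7_404 : srchR 1365 (nat_lit 11) (nat_lit 2047) x7T (x7T.get 7) (leafC (nat_lit 11) (nat_lit 2047) B (x7T.get 7) 21) x7L (404 * 1) 1 = true := by decide +kernel
theorem x7_405 : srchR 1365 (nat_lit 11) (nat_lit 2047) x7T (x7T.get 7) (leafC (nat_lit 11) (nat_lit 2047) B (x7T.get 7) 21) x7L (405 * 1) 1 = true := by decide +kernel
theorem x7_406 : srchR 1365 (nat_lit 11) (nat_lit 2047) x7T (x7T.get 7) (leafC (nat_lit 11) (nat_lit 2047) B (x7T.get 7) 21) x7L (406 * 1) 1 = true := by decide +kernel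
theorem x7_407 : srchR 1365 (nat_lit 11) (nat_lit 2047) x7T (x7T.get 7) (leafC (nat_lit 11) (nat_lit 2047) B (x7T.get 7) 21) x7L (407 * 1) 1 = true := by decide +kernel
theorem x7_408 : srchR 1365 (nat_lit 11) (nat_lit 2047) x7T (x7T.get 7) (leafC (nat_lit 11) (nat_lit 2047) B (x7T.get 7) 21) x7L (408 * 1) 1 = true := by decide +kernel
theorem x7_409 : srchR 1365 (nat_lit 11) (nat_lit 2047) x7T (x7T.get 7) (leafC (nat_lit 11) (nat_lit 2047) B (x7T.get 7) 21) x7L (409 * 1) 1 = true := by decide +kernel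
theorem x7_410 : srchR 1365 (nat_lit 11) (nat_lit 2047) x7T (x7T.get 7) (leafC (nat_lit 11) (nat_lit 2047) B (x7T.get 7) 21) x7L (410 * 1) 1 = true := by decide +kernel
theorem x7_411 : srchR 1365 (nat_lit 11) (nat_lit 2047) x7T (x7T.get 7) (leafC (nat_lit 11) (nat_lit 2047) B (x7T.get 7) 21) x7L (411 * 1) 1 = true := by decide +kernel
theorem x7_412 : srchR 1365 (nat_lit 11) (nat_lit 2047) x7T (x7T.get 7) (leafC (nat_lit 11) (nat_lit 2047) B (x7T.get 7) 21) x7L (412 * 1) 1 = true := by decide +kernel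
theorem x7_413 : srchR 1365 (nat_lit 11) (nat_lit 2047) x7T (x7T.get 7) (leafC (nat_lit 11) (nat_lit 2047) B (x7T.get 7) 21) x7L (413 * 1) 1 = true := by decide +kernel
theorem x7_414 : srchR 1365 (nat_lit 11) (nat_lit 2047) x7T (x7T.get 7) (leafC (nat_lit 11) (nat_lit 2047) B (x7T.get 7) 21) x7L (414 * 1) 1 = true := by decide +kernel
theorem x7_415 : srchR 1365 (nat_lit 11) (nat_lit 2047) x7T (x7T.get 7) (leafC (nat_lit 11) (nat_lit 2047) B (x7T.get 7) 21) x7L (415 * 1) 1 = true := by decide +kernel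
theorem x7_416 : srchR 1365 (nat_lit 11) (nat_lit 2047) x7T (x7T.get 7) (leafC (nat_lit 11) (nat_lit 2047) B (x7T.get 7) 21) x7L (416 * 1) 1 = true := by decide +kernel
theorem x7_417 : srchR 1365 (nat_lit 11) (nat_lit 2047) x7T (x7T.get 7) (leafC (nat_lit 11) (nat_lit 2047) B (x7T.get 7) 21) x7L (417 * 1) 1 = true := by decide +kernel
theorem x7_418 : srchR 1365 (nat_lit 11) (nat_lit 2047) x7T (x7T.get 7) (leafC (nat_lit 11) (nat_lit 2047) B (x7T.get 7) 21) x7L (418 * 1) 1 = true := by decide +kernel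
theorem x7_419 : srchR 1365 (nat_lit 11) (nat_lit 2047) x7T (x7T.get 7) (leafC (nat_lit 11) (nat_lit 2047) B (x7T.get 7) 21) x7L (419 * 1) 1 = true := by decide +kernel
theorem x7_420 : srchR 1365 (nat_lit 11) (nat_lit 2047) x7T (x7T.get 7) (leafC (nat_lit 11) (nat_lit 2047) B (x7T.get 7) 21) x7L (420 * 1) 1 = true := by decide +kernel
theorem x7_421 : srchR 1365 (nat_lit 11) (nat_lit 2047) x7T (x7T.get 7) (leafC (nat_lit 11) (nat_lit 2047) B (x7T.get 7) 21) x7L (421 * 1) 1 = true := by decide +kernel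
theorem x7_422 : srchR 1365 (nat_lit 11) (nat_lit 2047) x7T (x7T.get 7) (leafC (nat_lit 11) (nat_lit 2047) B (x7T.get 7) 21) x7L (422 * 1) 1 = true := by decide +kernel
theorem x7_423 : srchR 1365 (nat_lit 11) (nat_lit 2047) x7T (x7T.get 7) (leafC (nat_lit 11) (nat_lit 2047) B (x7T.get 7) 21) x7L (423 * 1) 1 = true := by decide +kernel
theorem x7_424 : srchR 1365 (nat_lit 11) (nat_lit 2047) x7T (x7T.get 7) (leafC (nat_lit 11) (nat_lit 2047) B (x7T.get 7) 21) x7L (424 * 1) 1 = true := by decide +kernel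
theorem x7_425 : srchR 1365 (nat_lit 11) (nat_lit 2047) x7T (x7T.get 7) (leafC (nat_lit 11) (nat_lit 2047) B (x7T.get 7) 21) x7L (425 * 1) 1 = true := by decide +kernel
theorem x7_426 : srchR 1365 (nat_lit 11) (nat_lit 2047) x7T (x7T.get 7) (leafC (nat_lit 11) (nat_lit 2047) B (x7T.get 7) 21) x7L (426 * 1) 1 = true := by decide +kernel
theorem x7_427 : srchR 1365 (nat_lit 11) (nat_lit 2047) x7T (x7T.get 7) (leafC (nat_lit 11) (nat_lit 2047) B (x7T.get 7) 21) x7L (427 * 1) 1 = true := by decide +kernel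
theorem x7_428 : srchR 1365 (nat_lit 11) (nat_lit 2047) x7T (x7T.get 7) (leafC (nat_lit 11) (nat_lit 2047) B (x7T.get 7) 21) x7L (428 * 1) 1 = true := by decide +kernel
theorem x7_429 : srchR 1365 (nat_lit 11) (nat_lit 2047) x7T (x7T.get 7) (leafC (nat_lit 11) (nat_lit 2047) B (x7T.get 7) 21) x7L (429 * 1) 1 = true := by decide +kernel
theorem x7_430 : srchR 1365 (nat_lit 11) (nat_lit 2047) x7T (x7T.get 7) (leafC (nat_lit 11) (nat_lit 2047) B (x7T.get 7) 21) x7L (430 * 1) 1 = true := by decide +kernel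
theorem x7_431 : srchR 1365 (nat_lit 11) (nat_lit 2047) x7T (x7T.get 7) (leafC (nat_lit 11) (nat_lit 2047) B (x7T.get 7) 21) x7L (431 * 1) 1 = true := by decide +kernel
theorem x7_432 : srchR 1365 (nat_lit 11) (nat_lit 2047) x7T (x7T.get 7) (leafC (nat_lit 11) (nat_lit 2047) B (x7T.get 7) 21) x7L (432 * 1) 1 = true := by decide +kernel
theorem x7_433 : srchR 1365 (nat_lit 11) (nat_lit 2047) x7T (x7T.get 7) (leafC (nat_lit 11) (nat_lit 2047) B (x7T.get 7) 21) x7L (433 * 1) 1 = true := by decide +kernel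
theorem x7_434 : srchR 1365 (nat_lit 11) (nat_lit 2047) x7T (x7T.get 7) (leafC (nat_lit 11) (nat_lit 2047) B (x7T.get 7) 21) x7L (434 * 1) 1 = true := by decide +kernel
theorem x7_435 : srchR 1365 (nat_lit 11) (nat_lit 2047) x7T (x7T.get 7) (leafC (nat_lit 11) (nat_lit 2047) B (x7T.get 7) 21) x7L (435 * 1) 1 = true := by decide +kernel
theorem x7_436 : srchR 1365 (nat_lit 11) (nat_lit 2047) x7T (x7T.get 7) (leafC (nat_lit 11) (nat_lit 2047) B (x7T.get 7) 21) x7L (436 * 1) 1 = true := by decide +kernel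
theorem x7_437 : srchR 1365 (nat_lit 11) (nat_lit 2047) x7T (x7T.get 7) (leafC (nat_lit 11) (nat_lit 2047) B (x7T.get 7) 21) x7L (437 * 1) 1 = true := by decide +kernel
theorem x7_438 : srchR 1365 (nat_lit 11) (nat_lit 2047) x7T (x7T.get 7) (leafC (nat_lit 11) (nat_lit 2047) B (x7T.get 7) 21) x7L (438 * 1) 1 = true := by decide +kernel
theorem x7_439 : srchR 1365 (nat_lit 11) (nat_lit 2047) x7T (x7T.get 7) (leafC (nat_lit 11) (nat_lit 2047) B (x7T.get 7) 21) x7L (439 * 1) 1 = true := by decide +kernel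
theorem x7_440 : srchR 1365 (nat_lit 11) (nat_lit 2047) x7T (x7T.get 7) (leafC (nat_lit 11) (nat_lit 2047) B (x7T.get 7) 21) x7L (440 * 1) 1 = true := by decide +kernel
theorem x7_441 : srchR 1365 (nat_lit 11) (nat_lit 2047) x7T (x7T.get 7) (leafC (nat_lit 11) (nat_lit 2047) B (x7T.get 7) 21) x7L (441 * 1) 1 = true := by decide +kernel
theorem x7_442 : srchR 1365 (nat_lit 11) (nat_lit 2047) x7T (x7T.get 7) (leafC (nat_lit 11) (nat_lit 2047) B (x7T.get 7) 21) x7L (442 * 1) 1 = true := by decide +kernel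
theorem x7_443 : srchR 1365 (nat_lit 11) (nat_lit 2047) x7T (x7T.get 7) (leafC (nat_lit 11) (nat_lit 2047) B (x7T.get 7) 21) x7L (443 * 1) 1 = true := by decide +kernel
theorem x7_444 : srchR 1365 (nat_lit 11) (nat_lit 2047) x7T (x7T.get 7) (leafC (nat_lit 11) (nat_lit 2047) B (x7T.get 7) 21) x7L (444 * 1) 1 = true := by decide +kernel
theorem x7_445 : srchR 1365 (nat_lit 11) (nat_lit 2047) x7T (x7T.get 7) (leafC (nat_lit 11) (nat_lit 2047) B (x7T.get 7) 21) x7L (445 * 1) 1 = true := by decide +kernel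
theorem x7_446 : srchR 1365 (nat_lit 11) (nat_lit 2047) x7T (x7T.get 7) (leafC (nat_lit 11) (nat_lit 2047) B (x7T.get 7) 21) x7L (446 * 1) 1 = true := by decide +kernel
theorem x7_447 : srchR 1365 (nat_lit 11) (nat_lit 2047) x7T (x7T.get 7) (leafC (nat_lit 11) (nat_lit 2047) B (x7T.get 7) 21) x7L (447 * 1) 1 = true := by decide +kernel
theorem x7_448 : srchR 1365 (nat_lit 11) (nat_lit 2047) x7T (x7T.get 7) (leafC (nat_lit 11) (nat_lit 2047) B (x7T.get 7) 21) x7L (448 * 1) 1 = true := by decide +kernel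
theorem x7_449 : srchR 1365 (nat_lit 11) (nat_lit 2047) x7T (x7T.get 7) (leafC (nat_lit 11) (nat_lit 2047) B (x7T.get 7) 21) x7L (449 * 1) 1 = true := by decide +kernel
theorem x7_450 : srchR 1365 (nat_lit 11) (nat_lit 2047) x7T (x7T.get 7) (leafC (nat_lit 11) (nat_lit 2047) B (x7T.get 7) 21) x7L (450 * 1) 1 = true := by decide +kernel
theorem x7_451 : srchR 1365 (nat_lit 11) (nat_lit 2047) x7T (x7T.get 7) (leafC (nat_lit 11) (nat_lit 2047) B (x7T.get 7) 21) x7L (451 * 1) 1 = true := by decide +kernel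
theorem x7_452 : srchR 1365 (nat_lit 11) (nat_lit 2047) x7T (x7T.get 7) (leafC (nat_lit 11) (nat_lit 2047) B (x7T.get 7) 21) x7L (452 * 1) 1 = true := by decide +kernel
theorem x7_453 : srchR 1365 (nat_lit 11) (nat_lit 2047) x7T (x7T.get 7) (leafC (nat_lit 11) (nat_lit 2047) B (x7T.get 7) 21) x7L (453 * 1) 1 = true := by decide +kernel
theorem x7_454 : srchR 1365 (nat_lit 11) (nat_lit 2047) x7T (x7T.get 7) (leafC (nat_lit 11) (nat_lit 2047) B (x7T.get 7) 21) x7L (454 * 1) 1 = true := by decide +kernel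
theorem x7_455 : srchR 1365 (nat_lit 11) (nat_lit 2047) x7T (x7T.get 7) (leafC (nat_lit 11) (nat_lit 2047) B (x7T.get 7) 21) x7L (455 * 1) 1 = true := by decide +kernel
theorem x7_456 : srchR 1365 (nat_lit 11) (nat_lit 2047) x7T (x7T.get 7) (leafC (nat_lit 11) (nat_lit 2047) B (x7T.get 7) 21) x7L (456 * 1) 1 = true := by decide +kernel
theorem x7_457 : srchR 1365 (nat_lit 11) (nat_lit 2047) x7T (x7T.get 7) (leafC (nat_lit 11) (nat_lit 2047) B (x7T.get 7) 21) x7L (457 * 1) 1 = true := by decide +kernel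
theorem x7_458 : srchR 1365 (nat_lit 11) (nat_lit 2047) x7T (x7T.get 7) (leafC (nat_lit 11) (nat_lit 2047) B (x7T.get 7) 21) x7L (458 * 1) 1 = true := by decide +kernel
theorem x7_459 : srchR 1365 (nat_lit 11) (nat_lit 2047) x7T (x7T.get 7) (leafC (nat_lit 11) (nat_lit 2047) B (x7T.get 7) 21) x7L (459 * 1) 1 = true := by decide +kernel
theorem x7_460 : srchR 1365 (nat_lit 11) (nat_lit 2047) x7T (x7T.get 7) (leafC (nat_lit 11) (nat_lit 2047) B (x7T.get 7) 21) x7L (460 * 1) 1 = true := by decide +kernel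
theorem x7_461 : srchR 1365 (nat_lit 11) (nat_lit 2047) x7T (x7T.get 7) (leafC (nat_lit 11) (nat_lit 2047) B (x7T.get 7) 21) x7L (461 * 1) 1 = true := by decide +kernel
theorem x7_462 : srchR 1365 (nat_lit 11) (nat_lit 2047) x7T (x7T.get 7) (leafC (nat_lit 11) (nat_lit 2047) B (x7T.get 7) 21) x7L (462 * 1) 1 = true := by decide +kernel
theorem x7_463 : srchR 1365 (nat_lit 11) (nat_lit 2047) x7T (x7T.get 7) (leafC (nat_lit 11) (nat_lit 2047) B (x7T.get 7) 21) x7L (463 * 1) 1 = true := by decide +kernel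
theorem x7_464 : srchR 1365 (nat_lit 11) (nat_lit 2047) x7T (x7T.get 7) (leafC (nat_lit 11) (nat_lit 2047) B (x7T.get 7) 21) x7L (464 * 1) 1 = true := by decide +kernel
theorem x7_465 : srchR 1365 (nat_lit 11) (nat_lit 2047) x7T (x7T.get 7) (leafC (nat_lit 11) (nat_lit 2047) B (x7T.get 7) 21) x7L (465 * 1) 1 = true := by decide +kernel
theorem x7_466 : srchR 1365 (nat_lit 11) (nat_lit 2047) x7T (x7T.get 7) (leafC (nat_lit 11) (nat_lit 2047) B (x7T.get 7) 21) x7L (466 * 1) 1 = true := by decide +kernel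
theorem x7_467 : srchR 1365 (nat_lit 11) (nat_lit 2047) x7T (x7T.get 7) (leafC (nat_lit 11) (nat_lit 2047) B (x7T.get 7) 21) x7L (467 * 1) 1 = true := by decide +kernel
theorem x7_468 : srchR 1365 (nat_lit 11) (nat_lit 2047) x7T (x7T.get 7) (leafC (nat_lit 11) (nat_lit 2047) B (x7T.get 7) 21) x7L (468 * 1) 1 = true := by decide +kernel
theorem x7_469 : srchR 1365 (nat_lit 11) (nat_lit 2047) x7T (x7T.get 7) (leafC (nat_lit 11) (nat_lit 2047) B (x7T.get 7) 21) x7L (469 * 1) 1 = true := by decide +kernel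
theorem x7_470 : srchR 1365 (nat_lit 11) (nat_lit 2047) x7T (x7T.get 7) (leafC (nat_lit 11) (nat_lit 2047) B (x7T.get 7) 21) x7L (470 * 1) 1 = true := by decide +kernel
theorem x7_471 : srchR 1365 (nat_lit 11) (nat_lit 2047) x7T (x7T.get 7) (leafC (nat_lit 11) (nat_lit 2047) B (x7T.get 7) 21) x7L (471 * 1) 1 = true := by decide +kernel
theorem x7_472 : srchR 1365 (nat_lit 11) (nat_lit 2047) x7T (x7T.get 7) (leafC (nat_lit 11) (nat_lit 2047) B (x7T.get 7) 21) x7L (472 * 1) 1 = true := by decide +kernel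
theorem x7_473 : srchR 1365 (nat_lit 11) (nat_lit 2047) x7T (x7T.get 7) (leafC (nat_lit 11) (nat_lit 2047) B (x7T.get 7) 21) x7L (473 * 1) 1 = true := by decide +kernel
theorem x7_474 : srchR 1365 (nat_lit 11) (nat_lit 2047) x7T (x7T.get 7) (leafC (nat_lit 11) (nat_lit 2047) B (x7T.get 7) 21) x7L (474 * 1) 1 = true := by decide +kernel
theorem x7_475 : srchR 1365 (nat_lit 11) (nat_lit 2047) x7T (x7T.get 7) (leafC (nat_lit 11) (nat_lit 2047) B (x7T.get 7) 21) x7L (475 * 1) 1 = true := by decide +kernel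
theorem x7_476 : srchR 1365 (nat_lit 11) (nat_lit 2047) x7T (x7T.get 7) (leafC (nat_lit 11) (nat_lit 2047) B (x7T.get 7) 21) x7L (476 * 1) 1 = true := by decide +kernel
theorem x7_477 : srchR 1365 (nat_lit 11) (nat_lit 2047) x7T (x7T.get 7) (leafC (nat_lit 11) (nat_lit 2047) B (x7T.get 7) 21) x7L (477 * 1) 1 = true := by decide +kernel
theorem x7_478 : srchR 1365 (nat_lit 11) (nat_lit 2047) x7T (x7T.get 7) (leafC (nat_lit 11) (nat_lit 2047) B (x7T.get 7) 21) x7L (478 * 1) 1 = true := by decide +kernel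
theorem x7_479 : srchR 1365 (nat_lit 11) (nat_lit 2047) x7T (x7T.get 7) (leafC (nat_lit 11) (nat_lit 2047) B (x7T.get 7) 21) x7L (479 * 1) 1 = true := by decide +kernel
theorem x7_480 : srchR 1365 (nat_lit 11) (nat_lit 2047) x7T (x7T.get 7) (leafC (nat_lit 11) (nat_lit 2047) B (x7T.get 7) 21) x7L (480 * 1) 1 = true := by decide +kernel
theorem x7_481 : srchR 1365 (nat_lit 11) (nat_lit 2047) x7T (x7T.get 7) (leafC (nat_lit 11) (nat_lit 2047) B (x7T.get 7) 21) x7L (481 * 1) 1 = true := by decide +kernel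
theorem x7_482 : srchR 1365 (nat_lit 11) (nat_lit 2047) x7T (x7T.get 7) (leafC (nat_lit 11) (nat_lit 2047) B (x7T.get 7) 21) x7L (482 * 1) 1 = true := by decide +kernel
theorem x7_483 : srchR 1365 (nat_lit 11) (nat_lit 2047) x7T (x7T.get 7) (leafC (nat_lit 11) (nat_lit 2047) B (x7T.get 7) 21) x7L (483 * 1) 1 = true := by decide +kernel
theorem x7_484 : srchR 1365 (nat_lit 11) (nat_lit 2047) x7T (x7T.get 7) (leafC (nat_lit 11) (nat_lit 2047) B (x7T.get 7) 21) x7L (484 * 1) 1 = true := by decide +kernel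
theorem x7_485 : srchR 1365 (nat_lit 11) (nat_lit 2047) x7T (x7T.get 7) (leafC (nat_lit 11) (nat_lit 2047) B (x7T.get 7) 21) x7L (485 * 1) 1 = true := by decide +kernel
theorem x7_486 : srchR 1365 (nat_lit 11) (nat_lit 2047) x7T (x7T.get 7) (leafC (nat_lit 11) (nat_lit 2047) B (x7T.get 7) 21) x7L (486 * 1) 1 = true := by decide +kernel
theorem x7_487 : srchR 1365 (nat_lit 11) (nat_lit 2047) x7T (x7T.get 7) (leafC (nat_lit 11) (nat_lit 2047) B (x7T.get 7) 21) x7L (487 * 1) 1 = true := by decide +kernel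
theorem x7_488 : srchR 1365 (nat_lit 11) (nat_lit 2047) x7T (x7T.get 7) (leafC (nat_lit 11) (nat_lit 2047) B (x7T.get 7) 21) x7L (488 * 1) 1 = true := by decide +kernel
theorem x7_489 : srchR 1365 (nat_lit 11) (nat_lit 2047) x7T (x7T.get 7) (leafC (nat_lit 11) (nat_lit 2047) B (x7T.get 7) 21) x7L (489 * 1) 1 = true := by decide +kernel
theorem x7_490 : srchR 1365 (nat_lit 11) (nat_lit 2047) x7T (x7T.get 7) (leafC (nat_lit 11) (nat_lit 2047) B (x7T.get 7) 21) x7L (490 * 1) 1 = true := by decide +kernel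
theorem x7_491 : srchR 1365 (nat_lit 11) (nat_lit 2047) x7T (x7T.get 7) (leafC (nat_lit 11) (nat_lit 2047) B (x7T.get 7) 21) x7L (491 * 1) 1 = true := by decide +kernel
theorem x7_492 : srchR 1365 (nat_lit 11) (nat_lit 2047) x7T (x7T.get 7) (leafC (nat_lit 11) (nat_lit 2047) B (x7T.get 7) 21) x7L (492 * 1) 1 = true := by decide +kernel
theorem x7_493 : srchR 1365 (nat_lit 11) (nat_lit 2047) x7T (x7T.get 7) (leafC (nat_lit 11) (nat_lit 2047) B (x7T.get 7) 21) x7L (493 * 1) 1 = true := by decide +kernel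
theorem x7_494 : srchR 1365 (nat_lit 11) (nat_lit 2047) x7T (x7T.get 7) (leafC (nat_lit 11) (nat_lit 2047) B (x7T.get 7) 21) x7L (494 * 1) 1 = true := by decide +kernel
theorem x7_495 : srchR 1365 (nat_lit 11) (nat_lit 2047) x7T (x7T.get 7) (leafC (nat_lit 11) (nat_lit 2047) B (x7T.get 7) 21) x7L (495 * 1) 1 = true := by decide +kernel
theorem x7_496 : srchR 1365 (nat_lit 11) (nat_lit 2047) x7T (x7T.get 7) (leafC (nat_lit 11) (nat_lit 2047) B (x7T.get 7) 21) x7L (496 * 1) 1 = true := by decide +kernel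
theorem x7_497 : srchR 1365 (nat_lit 11) (nat_lit 2047) x7T (x7T.get 7) (leafC (nat_lit 11) (nat_lit 2047) B (x7T.get 7) 21) x7L (497 * 1) 1 = true := by decide +kernel
theorem x7_498 : srchR 1365 (nat_lit 11) (nat_lit 2047) x7T (x7T.get 7) (leafC (nat_lit 11) (nat_lit 2047) B (x7T.get 7) 21) x7L (498 * 1) 1 = true := by decide +kernel
theorem x7_499 : srchR 1365 (nat_lit 11) (nat_lit 2047) x7T (x7T.get 7) (leafC (nat_lit 11) (nat_lit 2047) B (x7T.get 7) 21) x7L (499 * 1) 1 = true := by decide +kernel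
theorem x7_500 : srchR 1365 (nat_lit 11) (nat_lit 2047) x7T (x7T.get 7) (leafC (nat_lit 11) (nat_lit 2047) B (x7T.get 7) 21) x7L (500 * 1) 1 = true := by decide +kernel
theorem x7_501 : srchR 1365 (nat_lit 11) (nat_lit 2047) x7T (x7T.get 7) (leafC (nat_lit 11) (nat_lit 2047) B (x7T.get 7) 21) x7L (501 * 1) 1 = true := by decide +kernel
theorem x7_502 : srchR 1365 (nat_lit 11) (nat_lit 2047) x7T (x7T.get 7) (leafC (nat_lit 11) (nat_lit 2047) B (x7T.get 7) 21) x7L (502 * 1) 1 = true := by decide +kernel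
theorem x7_503 : srchR 1365 (nat_lit 11) (nat_lit 2047) x7T (x7T.get 7) (leafC (nat_lit 11) (nat_lit 2047) B (x7T.get 7) 21) x7L (503 * 1) 1 = true := by decide +kernel
theorem x7_504 : srchR 1365 (nat_lit 11) (nat_lit 2047) x7T (x7T.get 7) (leafC (nat_lit 11) (nat_lit 2047) B (x7T.get 7) 21) x7L (504 * 1) 1 = true := by decide +kernel
theorem x7_505 : srchR 1365 (nat_lit 11) (nat_lit 2047) x7T (x7T.get 7) (leafC (nat_lit 11) (nat_lit 2047) B (x7T.get 7) 21) x7L (505 * 1) 1 = true := by decide +kernel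
theorem x7_506 : srchR 1365 (nat_lit 11) (nat_lit 2047) x7T (x7T.get 7) (leafC (nat_lit 11) (nat_lit 2047) B (x7T.get 7) 21) x7L (506 * 1) 1 = true := by decide +kernel
theorem x7_507 : srchR 1365 (nat_lit 11) (nat_lit 2047) x7T (x7T.get 7) (leafC (nat_lit 11) (nat_lit 2047) B (x7T.get 7) 21) x7L (507 * 1) 1 = true := by decide +kernel
theorem x7_508 : srchR 1365 (nat_lit 11) (nat_lit 2047) x7T (x7T.get 7) (leafC (nat_lit 11) (nat_lit 2047) B (x7T.get 7) 21) x7L (508 * 1) 1 = true := by decide +kernel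
theorem x7_509 : srchR 1365 (nat_lit 11) (nat_lit 2047) x7T (x7T.get 7) (leafC (nat_lit 11) (nat_lit 2047) B (x7T.get 7) 21) x7L (509 * 1) 1 = true := by decide +kernel
theorem x7_510 : srchR 1365 (nat_lit 11) (nat_lit 2047) x7T (x7T.get 7) (leafC (nat_lit 11) (nat_lit 2047) B (x7T.get 7) 21) x7L (510 * 1) 1 = true := by decide +kernel
theorem x7_511 : srchR 1365 (nat_lit 11) (nat_lit 2047) x7T (x7T.get 7) (leafC (nat_lit 11) (nat_lit 2047) B (x7T.get 7) 21) x7L (511 * 1) 1 = true := by decide +kernel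
theorem x7_512 : srchR 1365 (nat_lit 11) (nat_lit 2047) x7T (x7T.get 7) (leafC (nat_lit 11) (nat_lit 2047) B (x7T.get 7) 21) x7L (512 * 1) 1 = true := by decide +kernel
theorem x7_513 : srchR 1365 (nat_lit 11) (nat_lit 2047) x7T (x7T.get 7) (leafC (nat_lit 11) (nat_lit 2047) B (x7T.get 7) 21) x7L (513 * 1) 1 = true := by decide +kernel
theorem x7_514 : srchR 1365 (nat_lit 11) (nat_lit 2047) x7T (x7T.get 7) (leafC (nat_lit 11) (nat_lit 2047) B (x7T.get 7) 21) x7L (514 * 1) 1 = true := by decide +kernel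
theorem x7_515 : srchR 1365 (nat_lit 11) (nat_lit 2047) x7T (x7T.get 7) (leafC (nat_lit 11) (nat_lit 2047) B (x7T.get 7) 21) x7L (515 * 1) 1 = true := by decide +kernel
theorem x7_516 : srchR 1365 (nat_lit 11) (nat_lit 2047) x7T (x7T.get 7) (leafC (nat_lit 11) (nat_lit 2047) B (x7T.get 7) 21) x7L (516 * 1) 1 = true := by decide +kernel
theorem x7_517 : srchR 1365 (nat_lit 11) (nat_lit 2047) x7T (x7T.get 7) (leafC (nat_lit 11) (nat_lit 2047) B (x7T.get 7) 21) x7L (517 * 1) 1 = true := by decide +kernel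
theorem x7_518 : srchR 1365 (nat_lit 11) (nat_lit 2047) x7T (x7T.get 7) (leafC (nat_lit 11) (nat_lit 2047) B (x7T.get 7) 21) x7L (518 * 1) 1 = true := by decide +kernel
theorem x7_519 : srchR 1365 (nat_lit 11) (nat_lit 2047) x7T (x7T.get 7) (leafC (nat_lit 11) (nat_lit 2047) B (x7T.get 7) 21) x7L (519 * 1) 1 = true := by decide +kernel
theorem x7_520 : srchR 1365 (nat_lit 11) (nat_lit 2047) x7T (x7T.get 7) (leafC (nat_lit 11) (nat_lit 2047) B (x7T.get 7) 21) x7L (520 * 1) 1 = true := by decide +kernel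
theorem x7_521 : srchR 1365 (nat_lit 11) (nat_lit 2047) x7T (x7T.get 7) (leafC (nat_lit 11) (nat_lit 2047) B (x7T.get 7) 21) x7L (521 * 1) 1 = true := by decide +kernel
theorem x7_522 : srchR 1365 (nat_lit 11) (nat_lit 2047) x7T (x7T.get 7) (leafC (nat_lit 11) (nat_lit 2047) B (x7T.get 7) 21) x7L (522 * 1) 1 = true := by decide +kernel
theorem x7_523 : srchR 1365 (nat_lit 11) (nat_lit 2047) x7T (x7T.get 7) (leafC (nat_lit 11) (nat_lit 2047) B (x7T.get 7) 21) x7L (523 * 1) 1 = true := by decide +kernel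
theorem x7_524 : srchR 1365 (nat_lit 11) (nat_lit 2047) x7T (x7T.get 7) (leafC (nat_lit 11) (nat_lit 2047) B (x7T.get 7) 21) x7L (524 * 1) 1 = true := by decide +kernel
theorem x7_525 : srchR 1365 (nat_lit 11) (nat_lit 2047) x7T (x7T.get 7) (leafC (nat_lit 11) (nat_lit 2047) B (x7T.get 7) 21) x7L (525 * 1) 1 = true := by decide +kernel
theorem x7_526 : srchR 1365 (nat_lit 11) (nat_lit 2047) x7T (x7T.get 7) (leafC (nat_lit 11) (nat_lit 2047) B (x7T.get 7) 21) x7L (526 * 1) 1 = true := by decide +kernel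
theorem x7_527 : srchR 1365 (nat_lit 11) (nat_lit 2047) x7T (x7T.get 7) (leafC (nat_lit 11) (nat_lit 2047) B (x7T.get 7) 21) x7L (527 * 1) 1 = true := by decide +kernel
theorem x7_528 : srchR 1365 (nat_lit 11) (nat_lit 2047) x7T (x7T.get 7) (leafC (nat_lit 11) (nat_lit 2047) B (x7T.get 7) 21) x7L (528 * 1) 1 = true := by decide +kernel
theorem x7_529 : srchR 1365 (nat_lit 11) (nat_lit 2047) x7T (x7T.get 7) (leafC (nat_lit 11) (nat_lit 2047) B (x7T.get 7) 21) x7L (529 * 1) 1 = true := by decide +kernel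
theorem x7_530 : srchR 1365 (nat_lit 11) (nat_lit 2047) x7T (x7T.get 7) (leafC (nat_lit 11) (nat_lit 2047) B (x7T.get 7) 21) x7L (530 * 1) 1 = true := by decide +kernel
theorem x7_531 : srchR 1365 (nat_lit 11) (nat_lit 2047) x7T (x7T.get 7) (leafC (nat_lit 11) (nat_lit 2047) B (x7T.get 7) 21) x7L (531 * 1) 1 = true := by decide +kernel
theorem x7_532 : srchR 1365 (nat_lit 11) (nat_lit 2047) x7T (x7T.get 7) (leafC (nat_lit 11) (nat_lit 2047) B (x7T.get 7) 21) x7L (532 * 1) 1 = true := by decide +kernel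
theorem x7_533 : srchR 1365 (nat_lit 11) (nat_lit 2047) x7T (x7T.get 7) (leafC (nat_lit 11) (nat_lit 2047) B (x7T.get 7) 21) x7L (533 * 1) 1 = true := by decide +kernel
theorem x7_534 : srchR 1365 (nat_lit 11) (nat_lit 2047) x7T (x7T.get 7) (leafC (nat_lit 11) (nat_lit 2047) B (x7T.get 7) 21) x7L (534 * 1) 1 = true := by decide +kernel
theorem x7_535 : srchR 1365 (nat_lit 11) (nat_lit 2047) x7T (x7T.get 7) (leafC (nat_lit 11) (nat_lit 2047) B (x7T.get 7) 21) x7L (535 * 1) 1 = true := by decide +kernel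
theorem x7_536 : srchR 1365 (nat_lit 11) (nat_lit 2047) x7T (x7T.get 7) (leafC (nat_lit 11) (nat_lit 2047) B (x7T.get 7) 21) x7L (536 * 1) 1 = true := by decide +kernel
theorem x7_537 : srchR 1365 (nat_lit 11) (nat_lit 2047) x7T (x7T.get 7) (leafC (nat_lit 11) (nat_lit 2047) B (x7T.get 7) 21) x7L (537 * 1) 1 = true := by decide +kernel
theorem x7_538 : srchR 1365 (nat_lit 11) (nat_lit 2047) x7T (x7T.get 7) (leafC (nat_lit 11) (nat_lit 2047) B (x7T.get 7) 21) x7L (538 * 1) 1 = true := by decide +kernel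
theorem x7_539 : srchR 1365 (nat_lit 11) (nat_lit 2047) x7T (x7T.get 7) (leafC (nat_lit 11) (nat_lit 2047) B (x7T.get 7) 21) x7L (539 * 1) 1 = true := by decide +kernel
theorem x7_540 : srchR 1365 (nat_lit 11) (nat_lit 2047) x7T (x7T.get 7) (leafC (nat_lit 11) (nat_lit 2047) B (x7T.get 7) 21) x7L (540 * 1) 1 = true := by decide +kernel
theorem x7_541 : srchR 1365 (nat_lit 11) (nat_lit 2047) x7T (x7T.get 7) (leafC (nat_lit 11) (nat_lit 2047) B (x7T.get 7) 21) x7L (541 * 1) 1 = true := by decide +kernel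
theorem x7_542 : srchR 1365 (nat_lit 11) (nat_lit 2047) x7T (x7T.get 7) (leafC (nat_lit 11) (nat_lit 2047) B (x7T.get 7) 21) x7L (542 * 1) 1 = true := by decide +kernel
theorem x7_543 : srchR 1365 (nat_lit 11) (nat_lit 2047) x7T (x7T.get 7) (leafC (nat_lit 11) (nat_lit 2047) B (x7T.get 7) 21) x7L (543 * 1) 1 = true := by decide +kernel
theorem x7_544 : srchR 1365 (nat_lit 11) (nat_lit 2047) x7T (x7T.get 7) (leafC (nat_lit 11) (nat_lit 2047) B (x7T.get 7) 21) x7L (544 * 1) 1 = true := by decide +kernel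
theorem x7_545 : srchR 1365 (nat_lit 11) (nat_lit 2047) x7T (x7T.get 7) (leafC (nat_lit 11) (nat_lit 2047) B (x7T.get 7) 21) x7L (545 * 1) 1 = true := by decide +kernel
theorem x7_546 : srchR 1365 (nat_lit 11) (nat_lit 2047) x7T (x7T.get 7) (leafC (nat_lit 11) (nat_lit 2047) B (x7T.get 7) 21) x7L (546 * 1) 1 = true := by decide +kernel
theorem x7_547 : srchR 1365 (nat_lit 11) (nat_lit 2047) x7T (x7T.get 7) (leafC (nat_lit 11) (nat_lit 2047) B (x7T.get 7) 21) x7L (547 * 1) 1 = true := by decide +kernel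
theorem x7_548 : srchR 1365 (nat_lit 11) (nat_lit 2047) x7T (x7T.get 7) (leafC (nat_lit 11) (nat_lit 2047) B (x7T.get 7) 21) x7L (548 * 1) 1 = true := by decide +kernel
theorem x7_549 : srchR 1365 (nat_lit 11) (nat_lit 2047) x7T (x7T.get 7) (leafC (nat_lit 11) (nat_lit 2047) B (x7T.get 7) 21) x7L (549 * 1) 1 = true := by decide +kernel
theorem x7_550 : srchR 1365 (nat_lit 11) (nat_lit 2047) x7T (x7T.get 7) (leafC (nat_lit 11) (nat_lit 2047) B (x7T.get 7) 21) x7L (550 * 1) 1 = true := by decide +kernel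
theorem x7_551 : srchR 1365 (nat_lit 11) (nat_lit 2047) x7T (x7T.get 7) (leafC (nat_lit 11) (nat_lit 2047) B (x7T.get 7) 21) x7L (551 * 1) 1 = true := by decide +kernel
theorem x7_552 : srchR 1365 (nat_lit 11) (nat_lit 2047) x7T (x7T.get 7) (leafC (nat_lit 11) (nat_lit 2047) B (x7T.get 7) 21) x7L (552 * 1) 1 = true := by decide +kernel
theorem x7_553 : srchR 1365 (nat_lit 11) (nat_lit 2047) x7T (x7T.get 7) (leafC (nat_lit 11) (nat_lit 2047) B (x7T.get 7) 21) x7L (553 * 1) 1 = true := by decide +kernel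
theorem x7_554 : srchR 1365 (nat_lit 11) (nat_lit 2047) x7T (x7T.get 7) (leafC (nat_lit 11) (nat_lit 2047) B (x7T.get 7) 21) x7L (554 * 1) 1 = true := by decide +kernel
theorem x7_555 : srchR 1365 (nat_lit 11) (nat_lit 2047) x7T (x7T.get 7) (leafC (nat_lit 11) (nat_lit 2047) B (x7T.get 7) 21) x7L (555 * 1) 1 = true := by decide +kernel
theorem x7_556 : srchR 1365 (nat_lit 11) (nat_lit 2047) x7T (x7T.get 7) (leafC (nat_lit 11) (nat_lit 2047) B (x7T.get 7) 21) x7L (556 * 1) 1 = true := by decide +kernel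
theorem x7_557 : srchR 1365 (nat_lit 11) (nat_lit 2047) x7T (x7T.get 7) (leafC (nat_lit 11) (nat_lit 2047) B (x7T.get 7) 21) x7L (557 * 1) 1 = true := by decide +kernel
theorem x7_558 : srchR 1365 (nat_lit 11) (nat_lit 2047) x7T (x7T.get 7) (leafC (nat_lit 11) (nat_lit 2047) B (x7T.get 7) 21) x7L (558 * 1) 1 = true := by decide +kernel
theorem x7_559 : srchR 1365 (nat_lit 11) (nat_lit 2047) x7T (x7T.get 7) (leafC (nat_lit 11) (nat_lit 2047) B (x7T.get 7) 21) x7L (559 * 1) 1 = true := by decide +kernel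
theorem x7_560 : srchR 1365 (nat_lit 11) (nat_lit 2047) x7T (x7T.get 7) (leafC (nat_lit 11) (nat_lit 2047) B (x7T.get 7) 21) x7L (560 * 1) 1 = true := by decide +kernel
theorem x7_561 : srchR 1365 (nat_lit 11) (nat_lit 2047) x7T (x7T.get 7) (leafC (nat_lit 11) (nat_lit 2047) B (x7T.get 7) 21) x7L (561 * 1) 1 = true := by decide +kernel
theorem x7_562 : srchR 1365 (nat_lit 11) (nat_lit 2047) x7T (x7T.get 7) (leafC (nat_lit 11) (nat_lit 2047) B (x7T.get 7) 21) x7L (562 * 1) 1 = true := by decide +kernel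
theorem x7_563 : srchR 1365 (nat_lit 11) (nat_lit 2047) x7T (x7T.get 7) (leafC (nat_lit 11) (nat_lit 2047) B (x7T.get 7) 21) x7L (563 * 1) 1 = true := by decide +kernel
theorem x7_564 : srchR 1365 (nat_lit 11) (nat_lit 2047) x7T (x7T.get 7) (leafC (nat_lit 11) (nat_lit 2047) B (x7T.get 7) 21) x7L (564 * 1) 1 = true := by decide +kernel
theorem x7_565 : srchR 1365 (nat_lit 11) (nat_lit 2047) x7T (x7T.get 7) (leafC (nat_lit 11) (nat_lit 2047) B (x7T.get 7) 21) x7L (565 * 1) 1 = true := by decide +kernel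
theorem x7_566 : srchR 1365 (nat_lit 11) (nat_lit 2047) x7T (x7T.get 7) (leafC (nat_lit 11) (nat_lit 2047) B (x7T.get 7) 21) x7L (566 * 1) 1 = true := by decide +kernel
theorem x7_567 : srchR 1365 (nat_lit 11) (nat_lit 2047) x7T (x7T.get 7) (leafC (nat_lit 11) (nat_lit 2047) B (x7T.get 7) 21) x7L (567 * 1) 1 = true := by decide +kernel
theorem x7_568 : srchR 1365 (nat_lit 11) (nat_lit 2047) x7T (x7T.get 7) (leafC (nat_lit 11) (nat_lit 2047) B (x7T.get 7) 21) x7L (568 * 1) 1 = true := by decide +kernel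
theorem x7_569 : srchR 1365 (nat_lit 11) (nat_lit 2047) x7T (x7T.get 7) (leafC (nat_lit 11) (nat_lit 2047) B (x7T.get 7) 21) x7L (569 * 1) 1 = true := by decide +kernel
theorem x7_570 : srchR 1365 (nat_lit 11) (nat_lit 2047) x7T (x7T.get 7) (leafC (nat_lit 11) (nat_lit 2047) B (x7T.get 7) 21) x7L (570 * 1) 1 = true := by decide +kernel
theorem x7_571 : srchR 1365 (nat_lit 11) (nat_lit 2047) x7T (x7T.get 7) (leafC (nat_lit 11) (nat_lit 2047) B (x7T.get 7) 21) x7L (571 * 1) 1 = true := by decide +kernel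
theorem x7_572 : srchR 1365 (nat_lit 11) (nat_lit 2047) x7T (x7T.get 7) (leafC (nat_lit 11) (nat_lit 2047) B (x7T.get 7) 21) x7L (572 * 1) 1 = true := by decide +kernel
theorem x7_573 : srchR 1365 (nat_lit 11) (nat_lit 2047) x7T (x7T.get 7) (leafC (nat_lit 11) (nat_lit 2047) B (x7T.get 7) 21) x7L (573 * 1) 1 = true := by decide +kernel
theorem x7_574 : srchR 1365 (nat_lit 11) (nat_lit 2047) x7T (x7T.get 7) (leafC (nat_lit 11) (nat_lit 2047) B (x7T.get 7) 21) x7L (574 * 1) 1 = true := by decide +kernel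
theorem x7_575 : srchR 1365 (nat_lit 11) (nat_lit 2047) x7T (x7T.get 7) (leafC (nat_lit 11) (nat_lit 2047) B (x7T.get 7) 21) x7L (575 * 1) 1 = true := by decide +kernel
theorem x7_576 : srchR 1365 (nat_lit 11) (nat_lit 2047) x7T (x7T.get 7) (leafC (nat_lit 11) (nat_lit 2047) B (x7T.get 7) 21) x7L (576 * 1) 1 = true := by decide +kernel
theorem x7_577 : srchR 1365 (nat_lit 11) (nat_lit 2047) x7T (x7T.get 7) (leafC (nat_lit 11) (nat_lit 2047) B (x7T.get 7) 21) x7L (577 * 1) 1 = true := by decide +kernel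
theorem x7_578 : srchR 1365 (nat_lit 11) (nat_lit 2047) x7T (x7T.get 7) (leafC (nat_lit 11) (nat_lit 2047) B (x7T.get 7) 21) x7L (578 * 1) 1 = true := by decide +kernel
theorem x7_579 : srchR 1365 (nat_lit 11) (nat_lit 2047) x7T (x7T.get 7) (leafC (nat_lit 11) (nat_lit 2047) B (x7T.get 7) 21) x7L (579 * 1) 1 = true := by decide +kernel
theorem x7_580 : srchR 1365 (nat_lit 11) (nat_lit 2047) x7T (x7T.get 7) (leafC (nat_lit 11) (nat_lit 2047) B (x7T.get 7) 21) x7L (580 * 1) 1 = true := by decide +kernel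
theorem x7_581 : srchR 1365 (nat_lit 11) (nat_lit 2047) x7T (x7T.get 7) (leafC (nat_lit 11) (nat_lit 2047) B (x7T.get 7) 21) x7L (581 * 1) 1 = true := by decide +kernel
theorem x7_582 : srchR 1365 (nat_lit 11) (nat_lit 2047) x7T (x7T.get 7) (leafC (nat_lit 11) (nat_lit 2047) B (x7T.get 7) 21) x7L (582 * 1) 1 = true := by decide +kernel
theorem x7_583 : srchR 1365 (nat_lit 11) (nat_lit 2047) x7T (x7T.get 7) (leafC (nat_lit 11) (nat_lit 2047) B (x7T.get 7) 21) x7L (583 * 1) 1 = true := by decide +kernel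
theorem x7_584 : srchR 1365 (nat_lit 11) (nat_lit 2047) x7T (x7T.get 7) (leafC (nat_lit 11) (nat_lit 2047) B (x7T.get 7) 21) x7L (584 * 1) 1 = true := by decide +kernel
theorem x7_585 : srchR 1365 (nat_lit 11) (nat_lit 2047) x7T (x7T.get 7) (leafC (nat_lit 11) (nat_lit 2047) B (x7T.get 7) 21) x7L (585 * 1) 1 = true := by decide +kernel
theorem x7_586 : srchR 1365 (nat_lit 11) (nat_lit 2047) x7T (x7T.get 7) (leafC (nat_lit 11) (nat_lit 2047) B (x7T.get 7) 21) x7L (586 * 1) 1 = true := by decide +kernel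
theorem x7_587 : srchR 1365 (nat_lit 11) (nat_lit 2047) x7T (x7T.get 7) (leafC (nat_lit 11) (nat_lit 2047) B (x7T.get 7) 21) x7L (587 * 1) 1 = true := by decide +kernel
theorem x7_588 : srchR 1365 (nat_lit 11) (nat_lit 2047) x7T (x7T.get 7) (leafC (nat_lit 11) (nat_lit 2047) B (x7T.get 7) 21) x7L (588 * 1) 1 = true := by decide +kernel
theorem x7_589 : srchR 1365 (nat_lit 11) (nat_lit 2047) x7T (x7T.get 7) (leafC (nat_lit 11) (nat_lit 2047) B (x7T.get 7) 21) x7L (589 * 1) 1 = true := by decide +kernel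
theorem x7_590 : srchR 1365 (nat_lit 11) (nat_lit 2047) x7T (x7T.get 7) (leafC (nat_lit 11) (nat_lit 2047) B (x7T.get 7) 21) x7L (590 * 1) 1 = true := by decide +kernel
theorem x7_591 : srchR 1365 (nat_lit 11) (nat_lit 2047) x7T (x7T.get 7) (leafC (nat_lit 11) (nat_lit 2047) B (x7T.get 7) 21) x7L (591 * 1) 1 = true := by decide +kernel
theorem x7_592 : srchR 1365 (nat_lit 11) (nat_lit 2047) x7T (x7T.get 7) (leafC (nat_lit 11) (nat_lit 2047) B (x7T.get 7) 21) x7L (592 * 1) 1 = true := by decide +kernel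
theorem x7_593 : srchR 1365 (nat_lit 11) (nat_lit 2047) x7T (x7T.get 7) (leafC (nat_lit 11) (nat_lit 2047) B (x7T.get 7) 21) x7L (593 * 1) 1 = true := by decide +kernel
theorem x7_594 : srchR 1365 (nat_lit 11) (nat_lit 2047) x7T (x7T.get 7) (leafC (nat_lit 11) (nat_lit 2047) B (x7T.get 7) 21) x7L (594 * 1) 1 = true := by decide +kernel
theorem x7_595 : srchR 1365 (nat_lit 11) (nat_lit 2047) x7T (x7T.get 7) (leafC (nat_lit 11) (nat_lit 2047) B (x7T.get 7) 21) x7L (595 * 1) 1 = true := by decide +kernel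
theorem x7_596 : srchR 1365 (nat_lit 11) (nat_lit 2047) x7T (x7T.get 7) (leafC (nat_lit 11) (nat_lit 2047) B (x7T.get 7) 21) x7L (596 * 1) 1 = true := by decide +kernel
theorem x7_597 : srchR 1365 (nat_lit 11) (nat_lit 2047) x7T (x7T.get 7) (leafC (nat_lit 11) (nat_lit 2047) B (x7T.get 7) 21) x7L (597 * 1) 1 = true := by decide +kernel
theorem x7_598 : srchR 1365 (nat_lit 11) (nat_lit 2047) x7T (x7T.get 7) (leafC (nat_lit 11) (nat_lit 2047) B (x7T.get 7) 21) x7L (598 * 1) 1 = true := by decide +kernel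
theorem x7_599 : srchR 1365 (nat_lit 11) (nat_lit 2047) x7T (x7T.get 7) (leafC (nat_lit 11) (nat_lit 2047) B (x7T.get 7) 21) x7L (599 * 1) 1 = true := by decide +kernel
theorem x7_600 : srchR 1365 (nat_lit 11) (nat_lit 2047) x7T (x7T.get 7) (leafC (nat_lit 11) (nat_lit 2047) B (x7T.get 7) 21) x7L (600 * 1) 1 = true := by decide +kernel
theorem x7_601 : srchR 1365 (nat_lit 11) (nat_lit 2047) x7T (x7T.get 7) (leafC (nat_lit 11) (nat_lit 2047) B (x7T.get 7) 21) x7L (601 * 1) 1 = true := by decide +kernel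
theorem x7_602 : srchR 1365 (nat_lit 11) (nat_lit 2047) x7T (x7T.get 7) (leafC (nat_lit 11) (nat_lit 2047) B (x7T.get 7) 21) x7L (602 * 1) 1 = true := by decide +kernel
theorem x7_603 : srchR 1365 (nat_lit 11) (nat_lit 2047) x7T (x7T.get 7) (leafC (nat_lit 11) (nat_lit 2047) B (x7T.get 7) 21) x7L (603 * 1) 1 = true := by decide +kernel
theorem x7_604 : srchR 1365 (nat_lit 11) (nat_lit 2047) x7T (x7T.get 7) (leafC (nat_lit 11) (nat_lit 2047) B (x7T.get 7) 21) x7L (604 * 1) 1 = true := by decide +kernel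
theorem x7_605 : srchR 1365 (nat_lit 11) (nat_lit 2047) x7T (x7T.get 7) (leafC (nat_lit 11) (nat_lit 2047) B (x7T.get 7) 21) x7L (605 * 1) 1 = true := by decide +kernel
theorem x7_606 : srchR 1365 (nat_lit 11) (nat_lit 2047) x7T (x7T.get 7) (leafC (nat_lit 11) (nat_lit 2047) B (x7T.get 7) 21) x7L (606 * 1) 1 = true := by decide +kernel
theorem x7_607 : srchR 1365 (nat_lit 11) (nat_lit 2047) x7T (x7T.get 7) (leafC (nat_lit 11) (nat_lit 2047) B (x7T.get 7) 21) x7L (607 * 1) 1 = true := by decide +kernel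
theorem x7_608 : srchR 1365 (nat_lit 11) (nat_lit 2047) x7T (x7T.get 7) (leafC (nat_lit 11) (nat_lit 2047) B (x7T.get 7) 21) x7L (608 * 1) 1 = true := by decide +kernel
theorem x7_609 : srchR 1365 (nat_lit 11) (nat_lit 2047) x7T (x7T.get 7) (leafC (nat_lit 11) (nat_lit 2047) B (x7T.get 7) 21) x7L (609 * 1) 1 = true := by decide +kernel
theorem x7_610 : srchR 1365 (nat_lit 11) (nat_lit 2047) x7T (x7T.get 7) (leafC (nat_lit 11) (nat_lit 2047) B (x7T.get 7) 21) x7L (610 * 1) 1 = true := by decide +kernel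
theorem x7_611 : srchR 1365 (nat_lit 11) (nat_lit 2047) x7T (x7T.get 7) (leafC (nat_lit 11) (nat_lit 2047) B (x7T.get 7) 21) x7L (611 * 1) 1 = true := by decide +kernel
theorem x7_612 : srchR 1365 (nat_lit 11) (nat_lit 2047) x7T (x7T.get 7) (leafC (nat_lit 11) (nat_lit 2047) B (x7T.get 7) 21) x7L (612 * 1) 1 = true := by decide +kernel
theorem x7_613 : srchR 1365 (nat_lit 11) (nat_lit 2047) x7T (x7T.get 7) (leafC (nat_lit 11) (nat_lit 2047) B (x7T.get 7) 21) x7L (613 * 1) 1 = true := by decide +kernel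
theorem x7_614 : srchR 1365 (nat_lit 11) (nat_lit 2047) x7T (x7T.get 7) (leafC (nat_lit 11) (nat_lit 2047) B (x7T.get 7) 21) x7L (614 * 1) 1 = true := by decide +kernel
theorem x7_615 : srchR 1365 (nat_lit 11) (nat_lit 2047) x7T (x7T.get 7) (leafC (nat_lit 11) (nat_lit 2047) B (x7T.get 7) 21) x7L (615 * 1) 1 = true := by decide +kernel
theorem x7_616 : srchR 1365 (nat_lit 11) (nat_lit 2047) x7T (x7T.get 7) (leafC (nat_lit 11) (nat_lit 2047) B (x7T.get 7) 21) x7L (616 * 1) 1 = true := by decide +kernel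
theorem x7_617 : srchR 1365 (nat_lit 11) (nat_lit 2047) x7T (x7T.get 7) (leafC (nat_lit 11) (nat_lit 2047) B (x7T.get 7) 21) x7L (617 * 1) 1 = true := by decide +kernel
theorem x7_618 : srchR 1365 (nat_lit 11) (nat_lit 2047) x7T (x7T.get 7) (leafC (nat_lit 11) (nat_lit 2047) B (x7T.get 7) 21) x7L (618 * 1) 1 = true := by decide +kernel
theorem x7_619 : srchR 1365 (nat_lit 11) (nat_lit 2047) x7T (x7T.get 7) (leafC (nat_lit 11) (nat_lit 2047) B (x7T.get 7) 21) x7L (619 * 1) 1 = true := by decide +kernel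
theorem x7_620 : srchR 1365 (nat_lit 11) (nat_lit 2047) x7T (x7T.get 7) (leafC (nat_lit 11) (nat_lit 2047) B (x7T.get 7) 21) x7L (620 * 1) 1 = true := by decide +kernel
theorem x7_621 : srchR 1365 (nat_lit 11) (nat_lit 2047) x7T (x7T.get 7) (leafC (nat_lit 11) (nat_lit 2047) B (x7T.get 7) 21) x7L (621 * 1) 1 = true := by decide +kernel
theorem x7_622 : srchR 1365 (nat_lit 11) (nat_lit 2047) x7T (x7T.get 7) (leafC (nat_lit 11) (nat_lit 2047) B (x7T.get 7) 21) x7L (622 * 1) 1 = true := by decide +kernel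
theorem x7_623 : srchR 1365 (nat_lit 11) (nat_lit 2047) x7T (x7T.get 7) (leafC (nat_lit 11) (nat_lit 2047) B (x7T.get 7) 21) x7L (623 * 1) 1 = true := by decide +kernel
theorem x7_624 : srchR 1365 (nat_lit 11) (nat_lit 2047) x7T (x7T.get 7) (leafC (nat_lit 11) (nat_lit 2047) B (x7T.get 7) 21) x7L (624 * 1) 1 = true := by decide +kernel
theorem x7_625 : srchR 1365 (nat_lit 11) (nat_lit 2047) x7T (x7T.get 7) (leafC (nat_lit 11) (nat_lit 2047) B (x7T.get 7) 21) x7L (625 * 1) 1 = true := by decide +kernel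
theorem x7_626 : srchR 1365 (nat_lit 11) (nat_lit 2047) x7T (x7T.get 7) (leafC (nat_lit 11) (nat_lit 2047) B (x7T.get 7) 21) x7L (626 * 1) 1 = true := by decide +kernel
theorem x7_627 : srchR 1365 (nat_lit 11) (nat_lit 2047) x7T (x7T.get 7) (leafC (nat_lit 11) (nat_lit 2047) B (x7T.get 7) 21) x7L (627 * 1) 1 = true := by decide +kernel
theorem x7_628 : srchR 1365 (nat_lit 11) (nat_lit 2047) x7T (x7T.get 7) (leafC (nat_lit 11) (nat_lit 2047) B (x7T.get 7) 21) x7L (628 * 1) 1 = true := by decide +kernel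
theorem x7_629 : srchR 1365 (nat_lit 11) (nat_lit 2047) x7T (x7T.get 7) (leafC (nat_lit 11) (nat_lit 2047) B (x7T.get 7) 21) x7L (629 * 1) 1 = true := by decide +kernel
theorem x7_630 : srchR 1365 (nat_lit 11) (nat_lit 2047) x7T (x7T.get 7) (leafC (nat_lit 11) (nat_lit 2047) B (x7T.get 7) 21) x7L (630 * 1) 1 = true := by decide +kernel
theorem x7_631 : srchR 1365 (nat_lit 11) (nat_lit 2047) x7T (x7T.get 7) (leafC (nat_lit 11) (nat_lit 2047) B (x7T.get 7) 21) x7L (631 * 1) 1 = true := by decide +kernel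
theorem x7_632 : srchR 1365 (nat_lit 11) (nat_lit 2047) x7T (x7T.get 7) (leafC (nat_lit 11) (nat_lit 2047) B (x7T.get 7) 21) x7L (632 * 1) 1 = true := by decide +kernel
theorem x7_633 : srchR 1365 (nat_lit 11) (nat_lit 2047) x7T (x7T.get 7) (leafC (nat_lit 11) (nat_lit 2047) B (x7T.get 7) 21) x7L (633 * 1) 1 = true := by decide +kernel
theorem x7_634 : srchR 1365 (nat_lit 11) (nat_lit 2047) x7T (x7T.get 7) (leafC (nat_lit 11) (nat_lit 2047) B (x7T.get 7) 21) x7L (634 * 1) 1 = true := by decide +kernel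
theorem x7_635 : srchR 1365 (nat_lit 11) (nat_lit 2047) x7T (x7T.get 7) (leafC (nat_lit 11) (nat_lit 2047) B (x7T.get 7) 21) x7L (635 * 1) 1 = true := by decide +kernel
theorem x7_636 : srchR 1365 (nat_lit 11) (nat_lit 2047) x7T (x7T.get 7) (leafC (nat_lit 11) (nat_lit 2047) B (x7T.get 7) 21) x7L (636 * 1) 1 = true := by decide +kernel
theorem x7_637 : srchR 1365 (nat_lit 11) (nat_lit 2047) x7T (x7T.get 7) (leafC (nat_lit 11) (nat_lit 2047) B (x7T.get 7) 21) x7L (637 * 1) 1 = true := by decide +kernel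
theorem x7_638 : srchR 1365 (nat_lit 11) (nat_lit 2047) x7T (x7T.get 7) (leafC (nat_lit 11) (nat_lit 2047) B (x7T.get 7) 21) x7L (638 * 1) 1 = true := by decide +kernel
theorem x7_639 : srchR 1365 (nat_lit 11) (nat_lit 2047) x7T (x7T.get 7) (leafC (nat_lit 11) (nat_lit 2047) B (x7T.get 7) 21) x7L (639 * 1) 1 = true := by decide +kernel
theorem x7_640 : srchR 1365 (nat_lit 11) (nat_lit 2047) x7T (x7T.get 7) (leafC (nat_lit 11) (nat_lit 2047) B (x7T.get 7) 21) x7L (640 * 1) 1 = true := by decide +kernel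
theorem x7_641 : srchR 1365 (nat_lit 11) (nat_lit 2047) x7T (x7T.get 7) (leafC (nat_lit 11) (nat_lit 2047) B (x7T.get 7) 21) x7L (641 * 1) 1 = true := by decide +kernel
theorem x7_642 : srchR 1365 (nat_lit 11) (nat_lit 2047) x7T (x7T.get 7) (leafC (nat_lit 11) (nat_lit 2047) B (x7T.get 7) 21) x7L (642 * 1) 1 = true := by decide +kernel
theorem x7_643 : srchR 1365 (nat_lit 11) (nat_lit 2047) x7T (x7T.get 7) (leafC (nat_lit 11) (nat_lit 2047) B (x7T.get 7) 21) x7L (643 * 1) 1 = true := by decide +kernel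
theorem x7_644 : srchR 1365 (nat_lit 11) (nat_lit 2047) x7T (x7T.get 7) (leafC (nat_lit 11) (nat_lit 2047) B (x7T.get 7) 21) x7L (644 * 1) 1 = true := by decide +kernel
theorem x7_645 : srchR 1365 (nat_lit 11) (nat_lit 2047) x7T (x7T.get 7) (leafC (nat_lit 11) (nat_lit 2047) B (x7T.get 7) 21) x7L (645 * 1) 1 = true := by decide +kernel
theorem x7_646 : srchR 1365 (nat_lit 11) (nat_lit 2047) x7T (x7T.get 7) (leafC (nat_lit 11) (nat_lit 2047) B (x7T.get 7) 21) x7L (646 * 1) 1 = true := by decide +kernel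
theorem x7_647 : srchR 1365 (nat_lit 11) (nat_lit 2047) x7T (x7T.get 7) (leafC (nat_lit 11) (nat_lit 2047) B (x7T.get 7) 21) x7L (647 * 1) 1 = true := by decide +kernel
theorem x7_648 : srchR 1365 (nat_lit 11) (nat_lit 2047) x7T (x7T.get 7) (leafC (nat_lit 11) (nat_lit 2047) B (x7T.get 7) 21) x7L (648 * 1) 1 = true := by decide +kernel
theorem x7_649 : srchR 1365 (nat_lit 11) (nat_lit 2047) x7T (x7T.get 7) (leafC (nat_lit 11) (nat_lit 2047) B (x7T.get 7) 21) x7L (649 * 1) 1 = true := by decide +kernel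
theorem x7_650 : srchR 1365 (nat_lit 11) (nat_lit 2047) x7T (x7T.get 7) (leafC (nat_lit 11) (nat_lit 2047) B (x7T.get 7) 21) x7L (650 * 1) 1 = true := by decide +kernel
theorem x7_651 : srchR 1365 (nat_lit 11) (nat_lit 2047) x7T (x7T.get 7) (leafC (nat_lit 11) (nat_lit 2047) B (x7T.get 7) 21) x7L (651 * 1) 1 = true := by decide +kernel
theorem x7_652 : srchR 1365 (nat_lit 11) (nat_lit 2047) x7T (x7T.get 7) (leafC (nat_lit 11) (nat_lit 2047) B (x7T.get 7) 21) x7L (652 * 1) 1 = true := by decide +kernel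
theorem x7_653 : srchR 1365 (nat_lit 11) (nat_lit 2047) x7T (x7T.get 7) (leafC (nat_lit 11) (nat_lit 2047) B (x7T.get 7) 21) x7L (653 * 1) 1 = true := by decide +kernel
theorem x7_654 : srchR 1365 (nat_lit 11) (nat_lit 2047) x7T (x7T.get 7) (leafC (nat_lit 11) (nat_lit 2047) B (x7T.get 7) 21) x7L (654 * 1) 1 = true := by decide +kernel
theorem x7_655 : srchR 1365 (nat_lit 11) (nat_lit 2047) x7T (x7T.get 7) (leafC (nat_lit 11) (nat_lit 2047) B (x7T.get 7) 21) x7L (655 * 1) 1 = true := by decide +kernel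
theorem x7_656 : srchR 1365 (nat_lit 11) (nat_lit 2047) x7T (x7T.get 7) (leafC (nat_lit 11) (nat_lit 2047) B (x7T.get 7) 21) x7L (656 * 1) 1 = true := by decide +kernel
theorem x7_657 : srchR 1365 (nat_lit 11) (nat_lit 2047) x7T (x7T.get 7) (leafC (nat_lit 11) (nat_lit 2047) B (x7T.get 7) 21) x7L (657 * 1) 1 = true := by decide +kernel
theorem x7_658 : srchR 1365 (nat_lit 11) (nat_lit 2047) x7T (x7T.get 7) (leafC (nat_lit 11) (nat_lit 2047) B (x7T.get 7) 21) x7L (658 * 1) 1 = true := by decide +kernel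
theorem x7_659 : srchR 1365 (nat_lit 11) (nat_lit 2047) x7T (x7T.get 7) (leafC (nat_lit 11) (nat_lit 2047) B (x7T.get 7) 21) x7L (659 * 1) 1 = true := by decide +kernel
theorem x7_660 : srchR 1365 (nat_lit 11) (nat_lit 2047) x7T (x7T.get 7) (leafC (nat_lit 11) (nat_lit 2047) B (x7T.get 7) 21) x7L (660 * 1) 1 = true := by decide +kernel
theorem x7_661 : srchR 1365 (nat_lit 11) (nat_lit 2047) x7T (x7T.get 7) (leafC (nat_lit 11) (nat_lit 2047) B (x7T.get 7) 21) x7L (661 * 1) 1 = true := by decide +kernel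
theorem x7_662 : srchR 1365 (nat_lit 11) (nat_lit 2047) x7T (x7T.get 7) (leafC (nat_lit 11) (nat_lit 2047) B (x7T.get 7) 21) x7L (662 * 1) 1 = true := by decide +kernel
theorem x7_663 : srchR 1365 (nat_lit 11) (nat_lit 2047) x7T (x7T.get 7) (leafC (nat_lit 11) (nat_lit 2047) B (x7T.get 7) 21) x7L (663 * 1) 1 = true := by decide +kernel
theorem x7_664 : srchR 1365 (nat_lit 11) (nat_lit 2047) x7T (x7T.get 7) (leafC (nat_lit 11) (nat_lit 2047) B (x7T.get 7) 21) x7L (664 * 1) 1 = true := by decide +kernel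
theorem x7_665 : srchR 1365 (nat_lit 11) (nat_lit 2047) x7T (x7T.get 7) (leafC (nat_lit 11) (nat_lit 2047) B (x7T.get 7) 21) x7L (665 * 1) 1 = true := by decide +kernel
theorem x7_666 : srchR 1365 (nat_lit 11) (nat_lit 2047) x7T (x7T.get 7) (leafC (nat_lit 11) (nat_lit 2047) B (x7T.get 7) 21) x7L (666 * 1) 1 = true := by decide +kernel
theorem x7_667 : srchR 1365 (nat_lit 11) (nat_lit 2047) x7T (x7T.get 7) (leafC (nat_lit 11) (nat_lit 2047) B (x7T.get 7) 21) x7L (667 * 1) 1 = true := by decide +kernel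
theorem x7_668 : srchR 1365 (nat_lit 11) (nat_lit 2047) x7T (x7T.get 7) (leafC (nat_lit 11) (nat_lit 2047) B (x7T.get 7) 21) x7L (668 * 1) 1 = true := by decide +kernel
theorem x7_669 : srchR 1365 (nat_lit 11) (nat_lit 2047) x7T (x7T.get 7) (leafC (nat_lit 11) (nat_lit 2047) B (x7T.get 7) 21) x7L (669 * 1) 1 = true := by decide +kernel
theorem x7_670 : srchR 1365 (nat_lit 11) (nat_lit 2047) x7T (x7T.get 7) (leafC (nat_lit 11) (nat_lit 2047) B (x7T.get 7) 21) x7L (670 * 1) 1 = true := by decide +kernel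
theorem x7_671 : srchR 1365 (nat_lit 11) (nat_lit 2047) x7T (x7T.get 7) (leafC (nat_lit 11) (nat_lit 2047) B (x7T.get 7) 21) x7L (671 * 1) 1 = true := by decide +kernel
theorem x7_672 : srchR 1365 (nat_lit 11) (nat_lit 2047) x7T (x7T.get 7) (leafC (nat_lit 11) (nat_lit 2047) B (x7T.get 7) 21) x7L (672 * 1) 1 = true := by decide +kernel
theorem x7_673 : srchR 1365 (nat_lit 11) (nat_lit 2047) x7T (x7T.get 7) (leafC (nat_lit 11) (nat_lit 2047) B (x7T.get 7) 21) x7L (673 * 1) 1 = true := by decide +kernel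
theorem x7_674 : srchR 1365 (nat_lit 11) (nat_lit 2047) x7T (x7T.get 7) (leafC (nat_lit 11) (nat_lit 2047) B (x7T.get 7) 21) x7L (674 * 1) 1 = true := by decide +kernel
theorem x7_675 : srchR 1365 (nat_lit 11) (nat_lit 2047) x7T (x7T.get 7) (leafC (nat_lit 11) (nat_lit 2047) B (x7T.get 7) 21) x7L (675 * 1) 1 = true := by decide +kernel
theorem x7_676 : srchR 1365 (nat_lit 11) (nat_lit 2047) x7T (x7T.get 7) (leafC (nat_lit 11) (nat_lit 2047) B (x7T.get 7) 21) x7L (676 * 1) 1 = true := by decide +kernel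
theorem x7_677 : srchR 1365 (nat_lit 11) (nat_lit 2047) x7T (x7T.get 7) (leafC (nat_lit 11) (nat_lit 2047) B (x7T.get 7) 21) x7L (677 * 1) 1 = true := by decide +kernel
theorem x7_678 : srchR 1365 (nat_lit 11) (nat_lit 2047) x7T (x7T.get 7) (leafC (nat_lit 11) (nat_lit 2047) B (x7T.get 7) 21) x7L (678 * 1) 1 = true := by decide +kernel
theorem x7_679 : srchR 1365 (nat_lit 11) (nat_lit 2047) x7T (x7T.get 7) (leafC (nat_lit 11) (nat_lit 2047) B (x7T.get 7) 21) x7L (679 * 1) 1 = true := by decide +kernel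
theorem x7_680 : srchR 1365 (nat_lit 11) (nat_lit 2047) x7T (x7T.get 7) (leafC (nat_lit 11) (nat_lit 2047) B (x7T.get 7) 21) x7L (680 * 1) 1 = true := by decide +kernel
theorem x7_681 : srchR 1365 (nat_lit 11) (nat_lit 2047) x7T (x7T.get 7) (leafC (nat_lit 11) (nat_lit 2047) B (x7T.get 7) 21) x7L (681 * 1) 1 = true := by decide +kernel
theorem x7_682 : srchR 1365 (nat_lit 11) (nat_lit 2047) x7T (x7T.get 7) (leafC (nat_lit 11) (nat_lit 2047) B (x7T.get 7) 21) x7L (682 * 1) 1 = true := by decide +kernel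
theorem x7_683 : srchR 1365 (nat_lit 11) (nat_lit 2047) x7T (x7T.get 7) (leafC (nat_lit 11) (nat_lit 2047) B (x7T.get 7) 21) x7L (683 * 1) 1 = true := by decide +kernel
theorem x7_684 : srchR 1365 (nat_lit 11) (nat_lit 2047) x7T (x7T.get 7) (leafC (nat_lit 11) (nat_lit 2047) B (x7T.get 7) 21) x7L (684 * 1) 1 = true := by decide +kernel
theorem x7_685 : srchR 1365 (nat_lit 11) (nat_lit 2047) x7T (x7T.get 7) (leafC (nat_lit 11) (nat_lit 2047) B (x7T.get 7) 21) x7L (685 * 1) 1 = true := by decide +kernel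
theorem x7_686 : srchR 1365 (nat_lit 11) (nat_lit 2047) x7T (x7T.get 7) (leafC (nat_lit 11) (nat_lit 2047) B (x7T.get 7) 21) x7L (686 * 1) 1 = true := by decide +kernel
theorem x7_687 : srchR 1365 (nat_lit 11) (nat_lit 2047) x7T (x7T.get 7) (leafC (nat_lit 11) (nat_lit 2047) B (x7T.get 7) 21) x7L (687 * 1) 1 = true := by decide +kernel
theorem x7_688 : srchR 1365 (nat_lit 11) (nat_lit 2047) x7T (x7T.get 7) (leafC (nat_lit 11) (nat_lit 2047) B (x7T.get 7) 21) x7L (688 * 1) 1 = true := by decide +kernel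
theorem x7_689 : srchR 1365 (nat_lit 11) (nat_lit 2047) x7T (x7T.get 7) (leafC (nat_lit 11) (nat_lit 2047) B (x7T.get 7) 21) x7L (689 * 1) 1 = true := by decide +kernel
theorem x7_690 : srchR 1365 (nat_lit 11) (nat_lit 2047) x7T (x7T.get 7) (leafC (nat_lit 11) (nat_lit 2047) B (x7T.get 7) 21) x7L (690 * 1) 1 = true := by decide +kernel
theorem x7_691 : srchR 1365 (nat_lit 11) (nat_lit 2047) x7T (x7T.get 7) (leafC (nat_lit 11) (nat_lit 2047) B (x7T.get 7) 21) x7L (691 * 1) 1 = true := by decide +kernel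
theorem x7_692 : srchR 1365 (nat_lit 11) (nat_lit 2047) x7T (x7T.get 7) (leafC (nat_lit 11) (nat_lit 2047) B (x7T.get 7) 21) x7L (692 * 1) 1 = true := by decide +kernel
theorem x7_693 : srchR 1365 (nat_lit 11) (nat_lit 2047) x7T (x7T.get 7) (leafC (nat_lit 11) (nat_lit 2047) B (x7T.get 7) 21) x7L (693 * 1) 1 = true := by decide +kernel
theorem x7_694 : srchR 1365 (nat_lit 11) (nat_lit 2047) x7T (x7T.get 7) (leafC (nat_lit 11) (nat_lit 2047) B (x7T.get 7) 21) x7L (694 * 1) 1 = true := by decide +kernel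
theorem x7_695 : srchR 1365 (nat_lit 11) (nat_lit 2047) x7T (x7T.get 7) (leafC (nat_lit 11) (nat_lit 2047) B (x7T.get 7) 21) x7L (695 * 1) 1 = true := by decide +kernel
theorem x7_696 : srchR 1365 (nat_lit 11) (nat_lit 2047) x7T (x7T.get 7) (leafC (nat_lit 11) (nat_lit 2047) B (x7T.get 7) 21) x7L (696 * 1) 1 = true := by decide +kernel
theorem x7_697 : srchR 1365 (nat_lit 11) (nat_lit 2047) x7T (x7T.get 7) (leafC (nat_lit 11) (nat_lit 2047) B (x7T.get 7) 21) x7L (697 * 1) 1 = true := by decide +kernel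
theorem x7_698 : srchR 1365 (nat_lit 11) (nat_lit 2047) x7T (x7T.get 7) (leafC (nat_lit 11) (nat_lit 2047) B (x7T.get 7) 21) x7L (698 * 1) 1 = true := by decide +kernel
theorem x7_699 : srchR 1365 (nat_lit 11) (nat_lit 2047) x7T (x7T.get 7) (leafC (nat_lit 11) (nat_lit 2047) B (x7T.get 7) 21) x7L (699 * 1) 1 = true := by decide +kernel
theorem x7_700 : srchR 1365 (nat_lit 11) (nat_lit 2047) x7T (x7T.get 7) (leafC (nat_lit 11) (nat_lit 2047) B (x7T.get 7) 21) x7L (700 * 1) 1 = true := by decide +kernel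
theorem x7_701 : srchR 1365 (nat_lit 11) (nat_lit 2047) x7T (x7T.get 7) (leafC (nat_lit 11) (nat_lit 2047) B (x7T.get 7) 21) x7L (701 * 1) 1 = true := by decide +kernel
theorem x7_702 : srchR 1365 (nat_lit 11) (nat_lit 2047) x7T (x7T.get 7) (leafC (nat_lit 11) (nat_lit 2047) B (x7T.get 7) 21) x7L (702 * 1) 1 = true := by decide +kernel
theorem x7_703 : srchR 1365 (nat_lit 11) (nat_lit 2047) x7T (x7T.get 7) (leafC (nat_lit 11) (nat_lit 2047) B (x7T.get 7) 21) x7L (703 * 1) 1 = true := by decide +kernel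
theorem x7_704 : srchR 1365 (nat_lit 11) (nat_lit 2047) x7T (x7T.get 7) (leafC (nat_lit 11) (nat_lit 2047) B (x7T.get 7) 21) x7L (704 * 1) 1 = true := by decide +kernel
theorem x7_705 : srchR 1365 (nat_lit 11) (nat_lit 2047) x7T (x7T.get 7) (leafC (nat_lit 11) (nat_lit 2047) B (x7T.get 7) 21) x7L (705 * 1) 1 = true := by decide +kernel
theorem x7_706 : srchR 1365 (nat_lit 11) (nat_lit 2047) x7T (x7T.get 7) (leafC (nat_lit 11) (nat_lit 2047) B (x7T.get 7) 21) x7L (706 * 1) 1 = true := by decide +kernel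
theorem x7_707 : srchR 1365 (nat_lit 11) (nat_lit 2047) x7T (x7T.get 7) (leafC (nat_lit 11) (nat_lit 2047) B (x7T.get 7) 21) x7L (707 * 1) 1 = true := by decide +kernel
theorem x7_708 : srchR 1365 (nat_lit 11) (nat_lit 2047) x7T (x7T.get 7) (leafC (nat_lit 11) (nat_lit 2047) B (x7T.get 7) 21) x7L (708 * 1) 1 = true := by decide +kernel
theorem x7_709 : srchR 1365 (nat_lit 11) (nat_lit 2047) x7T (x7T.get 7) (leafC (nat_lit 11) (nat_lit 2047) B (x7T.get 7) 21) x7L (709 * 1) 1 = true := by decide +kernel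
theorem x7_710 : srchR 1365 (nat_lit 11) (nat_lit 2047) x7T (x7T.get 7) (leafC (nat_lit 11) (nat_lit 2047) B (x7T.get 7) 21) x7L (710 * 1) 1 = true := by decide +kernel
theorem x7_711 : srchR 1365 (nat_lit 11) (nat_lit 2047) x7T (x7T.get 7) (leafC (nat_lit 11) (nat_lit 2047) B (x7T.get 7) 21) x7L (711 * 1) 1 = true := by decide +kernel
theorem x7_712 : srchR 1365 (nat_lit 11) (nat_lit 2047) x7T (x7T.get 7) (leafC (nat_lit 11) (nat_lit 2047) B (x7T.get 7) 21) x7L (712 * 1) 1 = true := by decide +kernel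
theorem x7_713 : srchR 1365 (nat_lit 11) (nat_lit 2047) x7T (x7T.get 7) (leafC (nat_lit 11) (nat_lit 2047) B (x7T.get 7) 21) x7L (713 * 1) 1 = true := by decide +kernel
theorem x7_714 : srchR 1365 (nat_lit 11) (nat_lit 2047) x7T (x7T.get 7) (leafC (nat_lit 11) (nat_lit 2047) B (x7T.get 7) 21) x7L (714 * 1) 1 = true := by decide +kernel
theorem x7_715 : srchR 1365 (nat_lit 11) (nat_lit 2047) x7T (x7T.get 7) (leafC (nat_lit 11) (nat_lit 2047) B (x7T.get 7) 21) x7L (715 * 1) 1 = true := by decide +kernel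
theorem x7_716 : srchR 1365 (nat_lit 11) (nat_lit 2047) x7T (x7T.get 7) (leafC (nat_lit 11) (nat_lit 2047) B (x7T.get 7) 21) x7L (716 * 1) 1 = true := by decide +kernel
theorem x7_717 : srchR 1365 (nat_lit 11) (nat_lit 2047) x7T (x7T.get 7) (leafC (nat_lit 11) (nat_lit 2047) B (x7T.get 7) 21) x7L (717 * 1) 1 = true := by decide +kernel
theorem x7_718 : srchR 1365 (nat_lit 11) (nat_lit 2047) x7T (x7T.get 7) (leafC (nat_lit 11) (nat_lit 2047) B (x7T.get 7) 21) x7L (718 * 1) 1 = true := by decide +kernel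
theorem x7_719 : srchR 1365 (nat_lit 11) (nat_lit 2047) x7T (x7T.get 7) (leafC (nat_lit 11) (nat_lit 2047) B (x7T.get 7) 21) x7L (719 * 1) 1 = true := by decide +kernel
theorem x7_720 : srchR 1365 (nat_lit 11) (nat_lit 2047) x7T (x7T.get 7) (leafC (nat_lit 11) (nat_lit 2047) B (x7T.get 7) 21) x7L (720 * 1) 1 = true := by decide +kernel
theorem x7_721 : srchR 1365 (nat_lit 11) (nat_lit 2047) x7T (x7T.get 7) (leafC (nat_lit 11) (nat_lit 2047) B (x7T.get 7) 21) x7L (721 * 1) 1 = true := by decide +kernel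
theorem x7_722 : srchR 1365 (nat_lit 11) (nat_lit 2047) x7T (x7T.get 7) (leafC (nat_lit 11) (nat_lit 2047) B (x7T.get 7) 21) x7L (722 * 1) 1 = true := by decide +kernel
theorem x7_723 : srchR 1365 (nat_lit 11) (nat_lit 2047) x7T (x7T.get 7) (leafC (nat_lit 11) (nat_lit 2047) B (x7T.get 7) 21) x7L (723 * 1) 1 = true := by decide +kernel
theorem x7_724 : srchR 1365 (nat_lit 11) (nat_lit 2047) x7T (x7T.get 7) (leafC (nat_lit 11) (nat_lit 2047) B (x7T.get 7) 21) x7L (724 * 1) 1 = true := by decide +kernel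
theorem x7_725 : srchR 1365 (nat_lit 11) (nat_lit 2047) x7T (x7T.get 7) (leafC (nat_lit 11) (nat_lit 2047) B (x7T.get 7) 21) x7L (725 * 1) 1 = true := by decide +kernel
theorem x7_726 : srchR 1365 (nat_lit 11) (nat_lit 2047) x7T (x7T.get 7) (leafC (nat_lit 11) (nat_lit 2047) B (x7T.get 7) 21) x7L (726 * 1) 1 = true := by decide +kernel
theorem x7_727 : srchR 1365 (nat_lit 11) (nat_lit 2047) x7T (x7T.get 7) (leafC (nat_lit 11) (nat_lit 2047) B (x7T.get 7) 21) x7L (727 * 1) 1 = true := by decide +kernel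
theorem x7_728 : srchR 1365 (nat_lit 11) (nat_lit 2047) x7T (x7T.get 7) (leafC (nat_lit 11) (nat_lit 2047) B (x7T.get 7) 21) x7L (728 * 1) 1 = true := by decide +kernel
theorem x7_729 : srchR 1365 (nat_lit 11) (nat_lit 2047) x7T (x7T.get 7) (leafC (nat_lit 11) (nat_lit 2047) B (x7T.get 7) 21) x7L (729 * 1) 1 = true := by decide +kernel
theorem x7_730 : srchR 1365 (nat_lit 11) (nat_lit 2047) x7T (x7T.get 7) (leafC (nat_lit 11) (nat_lit 2047) B (x7T.get 7) 21) x7L (730 * 1) 1 = true := by decide +kernel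
theorem x7_731 : srchR 1365 (nat_lit 11) (nat_lit 2047) x7T (x7T.get 7) (leafC (nat_lit 11) (nat_lit 2047) B (x7T.get 7) 21) x7L (731 * 1) 1 = true := by decide +kernel
theorem x7_732 : srchR 1365 (nat_lit 11) (nat_lit 2047) x7T (x7T.get 7) (leafC (nat_lit 11) (nat_lit 2047) B (x7T.get 7) 21) x7L (732 * 1) 1 = true := by decide +kernel
theorem x7_733 : srchR 1365 (nat_lit 11) (nat_lit 2047) x7T (x7T.get 7) (leafC (nat_lit 11) (nat_lit 2047) B (x7T.get 7) 21) x7L (733 * 1) 1 = true := by decide +kernel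
theorem x7_734 : srchR 1365 (nat_lit 11) (nat_lit 2047) x7T (x7T.get 7) (leafC (nat_lit 11) (nat_lit 2047) B (x7T.get 7) 21) x7L (734 * 1) 1 = true := by decide +kernel
theorem x7_735 : srchR 1365 (nat_lit 11) (nat_lit 2047) x7T (x7T.get 7) (leafC (nat_lit 11) (nat_lit 2047) B (x7T.get 7) 21) x7L (735 * 1) 1 = true := by decide +kernel
theorem x7_736 : srchR 1365 (nat_lit 11) (nat_lit 2047) x7T (x7T.get 7) (leafC (nat_lit 11) (nat_lit 2047) B (x7T.get 7) 21) x7L (736 * 1) 1 = true := by decide +kernel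
theorem x7_737 : srchR 1365 (nat_lit 11) (nat_lit 2047) x7T (x7T.get 7) (leafC (nat_lit 11) (nat_lit 2047) B (x7T.get 7) 21) x7L (737 * 1) 1 = true := by decide +kernel
theorem x7_738 : srchR 1365 (nat_lit 11) (nat_lit 2047) x7T (x7T.get 7) (leafC (nat_lit 11) (nat_lit 2047) B (x7T.get 7) 21) x7L (738 * 1) 1 = true := by decide +kernel
theorem x7_739 : srchR 1365 (nat_lit 11) (nat_lit 2047) x7T (x7T.get 7) (leafC (nat_lit 11) (nat_lit 2047) B (x7T.get 7) 21) x7L (739 * 1) 1 = true := by decide +kernel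
theorem x7_740 : srchR 1365 (nat_lit 11) (nat_lit 2047) x7T (x7T.get 7) (leafC (nat_lit 11) (nat_lit 2047) B (x7T.get 7) 21) x7L (740 * 1) 1 = true := by decide +kernel
theorem x7_741 : srchR 1365 (nat_lit 11) (nat_lit 2047) x7T (x7T.get 7) (leafC (nat_lit 11) (nat_lit 2047) B (x7T.get 7) 21) x7L (741 * 1) 1 = true := by decide +kernel
theorem x7_742 : srchR 1365 (nat_lit 11) (nat_lit 2047) x7T (x7T.get 7) (leafC (nat_lit 11) (nat_lit 2047) B (x7T.get 7) 21) x7L (742 * 1) 1 = true := by decide +kernel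
theorem x7_743 : srchR 1365 (nat_lit 11) (nat_lit 2047) x7T (x7T.get 7) (leafC (nat_lit 11) (nat_lit 2047) B (x7T.get 7) 21) x7L (743 * 1) 1 = true := by decide +kernel
theorem x7_744 : srchR 1365 (nat_lit 11) (nat_lit 2047) x7T (x7T.get 7) (leafC (nat_lit 11) (nat_lit 2047) B (x7T.get 7) 21) x7L (744 * 1) 1 = true := by decide +kernel
theorem x7_745 : srchR 1365 (nat_lit 11) (nat_lit 2047) x7T (x7T.get 7) (leafC (nat_lit 11) (nat_lit 2047) B (x7T.get 7) 21) x7L (745 * 1) 1 = true := by decide +kernel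
theorem x7_746 : srchR 1365 (nat_lit 11) (nat_lit 2047) x7T (x7T.get 7) (leafC (nat_lit 11) (nat_lit 2047) B (x7T.get 7) 21) x7L (746 * 1) 1 = true := by decide +kernel
theorem x7_747 : srchR 1365 (nat_lit 11) (nat_lit 2047) x7T (x7T.get 7) (leafC (nat_lit 11) (nat_lit 2047) B (x7T.get 7) 21) x7L (747 * 1) 1 = true := by decide +kernel
theorem x7_748 : srchR 1365 (nat_lit 11) (nat_lit 2047) x7T (x7T.get 7) (leafC (nat_lit 11) (nat_lit 2047) B (x7T.get 7) 21) x7L (748 * 1) 1 = true := by decide +kernel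
theorem x7_749 : srchR 1365 (nat_lit 11) (nat_lit 2047) x7T (x7T.get 7) (leafC (nat_lit 11) (nat_lit 2047) B (x7T.get 7) 21) x7L (749 * 1) 1 = true := by decide +kernel
theorem x7_750 : srchR 1365 (nat_lit 11) (nat_lit 2047) x7T (x7T.get 7) (leafC (nat_lit 11) (nat_lit 2047) B (x7T.get 7) 21) x7L (750 * 1) 1 = true := by decide +kernel
theorem x7_751 : srchR 1365 (nat_lit 11) (nat_lit 2047) x7T (x7T.get 7) (leafC (nat_lit 11) (nat_lit 2047) B (x7T.get 7) 21) x7L (751 * 1) 1 = true := by decide +kernel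
theorem x7_752 : srchR 1365 (nat_lit 11) (nat_lit 2047) x7T (x7T.get 7) (leafC (nat_lit 11) (nat_lit 2047) B (x7T.get 7) 21) x7L (752 * 1) 1 = true := by decide +kernel
theorem x7_753 : srchR 1365 (nat_lit 11) (nat_lit 2047) x7T (x7T.get 7) (leafC (nat_lit 11) (nat_lit 2047) B (x7T.get 7) 21) x7L (753 * 1) 1 = true := by decide +kernel
theorem x7_754 : srchR 1365 (nat_lit 11) (nat_lit 2047) x7T (x7T.get 7) (leafC (nat_lit 11) (nat_lit 2047) B (x7T.get 7) 21) x7L (754 * 1) 1 = true := by decide +kernel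
theorem x7_755 : srchR 1365 (nat_lit 11) (nat_lit 2047) x7T (x7T.get 7) (leafC (nat_lit 11) (nat_lit 2047) B (x7T.get 7) 21) x7L (755 * 1) 1 = true := by decide +kernel
theorem x7_756 : srchR 1365 (nat_lit 11) (nat_lit 2047) x7T (x7T.get 7) (leafC (nat_lit 11) (nat_lit 2047) B (x7T.get 7) 21) x7L (756 * 1) 1 = true := by decide +kernel
theorem x7_757 : srchR 1365 (nat_lit 11) (nat_lit 2047) x7T (x7T.get 7) (leafC (nat_lit 11) (nat_lit 2047) B (x7T.get 7) 21) x7L (757 * 1) 1 = true := by decide +kernel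
theorem x7_758 : srchR 1365 (nat_lit 11) (nat_lit 2047) x7T (x7T.get 7) (leafC (nat_lit 11) (nat_lit 2047) B (x7T.get 7) 21) x7L (758 * 1) 1 = true := by decide +kernel
theorem x7_759 : srchR 1365 (nat_lit 11) (nat_lit 2047) x7T (x7T.get 7) (leafC (nat_lit 11) (nat_lit 2047) B (x7T.get 7) 21) x7L (759 * 1) 1 = true := by decide +kernel
theorem x7_760 : srchR 1365 (nat_lit 11) (nat_lit 2047) x7T (x7T.get 7) (leafC (nat_lit 11) (nat_lit 2047) B (x7T.get 7) 21) x7L (760 * 1) 1 = true := by decide +kernel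
theorem x7_761 : srchR 1365 (nat_lit 11) (nat_lit 2047) x7T (x7T.get 7) (leafC (nat_lit 11) (nat_lit 2047) B (x7T.get 7) 21) x7L (761 * 1) 1 = true := by decide +kernel
theorem x7_762 : srchR 1365 (nat_lit 11) (nat_lit 2047) x7T (x7T.get 7) (leafC (nat_lit 11) (nat_lit 2047) B (x7T.get 7) 21) x7L (762 * 1) 1 = true := by decide +kernel
theorem x7_763 : srchR 1365 (nat_lit 11) (nat_lit 2047) x7T (x7T.get 7) (leafC (nat_lit 11) (nat_lit 2047) B (x7T.get 7) 21) x7L (763 * 1) 1 = true := by decide +kernel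
theorem x7_764 : srchR 1365 (nat_lit 11) (nat_lit 2047) x7T (x7T.get 7) (leafC (nat_lit 11) (nat_lit 2047) B (x7T.get 7) 21) x7L (764 * 1) 1 = true := by decide +kernel
theorem x7_765 : srchR 1365 (nat_lit 11) (nat_lit 2047) x7T (x7T.get 7) (leafC (nat_lit 11) (nat_lit 2047) B (x7T.get 7) 21) x7L (765 * 1) 1 = true := by decide +kernel
theorem x7_766 : srchR 1365 (nat_lit 11) (nat_lit 2047) x7T (x7T.get 7) (leafC (nat_lit 11) (nat_lit 2047) B (x7T.get 7) 21) x7L (766 * 1) 1 = true := by decide +kernel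
theorem x7_767 : srchR 1365 (nat_lit 11) (nat_lit 2047) x7T (x7T.get 7) (leafC (nat_lit 11) (nat_lit 2047) B (x7T.get 7) 21) x7L (767 * 1) 1 = true := by decide +kernel
theorem x7_768 : srchR 1365 (nat_lit 11) (nat_lit 2047) x7T (x7T.get 7) (leafC (nat_lit 11) (nat_lit 2047) B (x7T.get 7) 21) x7L (768 * 1) 1 = true := by decide +kernel
theorem x7_769 : srchR 1365 (nat_lit 11) (nat_lit 2047) x7T (x7T.get 7) (leafC (nat_lit 11) (nat_lit 2047) B (x7T.get 7) 21) x7L (769 * 1) 1 = true := by decide +kernel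
theorem x7_770 : srchR 1365 (nat_lit 11) (nat_lit 2047) x7T (x7T.get 7) (leafC (nat_lit 11) (nat_lit 2047) B (x7T.get 7) 21) x7L (770 * 1) 1 = true := by decide +kernel
theorem x7_771 : srchR 1365 (nat_lit 11) (nat_lit 2047) x7T (x7T.get 7) (leafC (nat_lit 11) (nat_lit 2047) B (x7T.get 7) 21) x7L (771 * 1) 1 = true := by decide +kernel
theorem x7_772 : srchR 1365 (nat_lit 11) (nat_lit 2047) x7T (x7T.get 7) (leafC (nat_lit 11) (nat_lit 2047) B (x7T.get 7) 21) x7L (772 * 1) 1 = true := by decide +kernel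
theorem x7_773 : srchR 1365 (nat_lit 11) (nat_lit 2047) x7T (x7T.get 7) (leafC (nat_lit 11) (nat_lit 2047) B (x7T.get 7) 21) x7L (773 * 1) 1 = true := by decide +kernel
theorem x7_774 : srchR 1365 (nat_lit 11) (nat_lit 2047) x7T (x7T.get 7) (leafC (nat_lit 11) (nat_lit 2047) B (x7T.get 7) 21) x7L (774 * 1) 1 = true := by decide +kernel
theorem x7_775 : srchR 1365 (nat_lit 11) (nat_lit 2047) x7T (x7T.get 7) (leafC (nat_lit 11) (nat_lit 2047) B (x7T.get 7) 21) x7L (775 * 1) 1 = true := by decide +kernel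
theorem x7_776 : srchR 1365 (nat_lit 11) (nat_lit 2047) x7T (x7T.get 7) (leafC (nat_lit 11) (nat_lit 2047) B (x7T.get 7) 21) x7L (776 * 1) 1 = true := by decide +kernel
theorem x7_777 : srchR 1365 (nat_lit 11) (nat_lit 2047) x7T (x7T.get 7) (leafC (nat_lit 11) (nat_lit 2047) B (x7T.get 7) 21) x7L (777 * 1) 1 = true := by decide +kernel
theorem x7_778 : srchR 1365 (nat_lit 11) (nat_lit 2047) x7T (x7T.get 7) (leafC (nat_lit 11) (nat_lit 2047) B (x7T.get 7) 21) x7L (778 * 1) 1 = true := by decide +kernel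
theorem x7_779 : srchR 1365 (nat_lit 11) (nat_lit 2047) x7T (x7T.get 7) (leafC (nat_lit 11) (nat_lit 2047) B (x7T.get 7) 21) x7L (779 * 1) 1 = true := by decide +kernel
theorem x7_780 : srchR 1365 (nat_lit 11) (nat_lit 2047) x7T (x7T.get 7) (leafC (nat_lit 11) (nat_lit 2047) B (x7T.get 7) 21) x7L (780 * 1) 1 = true := by decide +kernel
theorem x7_781 : srchR 1365 (nat_lit 11) (nat_lit 2047) x7T (x7T.get 7) (leafC (nat_lit 11) (nat_lit 2047) B (x7T.get 7) 21) x7L (781 * 1) 1 = true := by decide +kernel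
theorem x7_782 : srchR 1365 (nat_lit 11) (nat_lit 2047) x7T (x7T.get 7) (leafC (nat_lit 11) (nat_lit 2047) B (x7T.get 7) 21) x7L (782 * 1) 1 = true := by decide +kernel
theorem x7_783 : srchR 1365 (nat_lit 11) (nat_lit 2047) x7T (x7T.get 7) (leafC (nat_lit 11) (nat_lit 2047) B (x7T.get 7) 21) x7L (783 * 1) 1 = true := by decide +kernel
theorem x7_784 : srchR 1365 (nat_lit 11) (nat_lit 2047) x7T (x7T.get 7) (leafC (nat_lit 11) (nat_lit 2047) B (x7T.get 7) 21) x7L (784 * 1) 1 = true := by decide +kernel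
theorem x7_785 : srchR 1365 (nat_lit 11) (nat_lit 2047) x7T (x7T.get 7) (leafC (nat_lit 11) (nat_lit 2047) B (x7T.get 7) 21) x7L (785 * 1) 1 = true := by decide +kernel
theorem x7_786 : srchR 1365 (nat_lit 11) (nat_lit 2047) x7T (x7T.get 7) (leafC (nat_lit 11) (nat_lit 2047) B (x7T.get 7) 21) x7L (786 * 1) 1 = true := by decide +kernel
theorem x7_787 : srchR 1365 (nat_lit 11) (nat_lit 2047) x7T (x7T.get 7) (leafC (nat_lit 11) (nat_lit 2047) B (x7T.get 7) 21) x7L (787 * 1) 1 = true := by decide +kernel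
theorem x7_788 : srchR 1365 (nat_lit 11) (nat_lit 2047) x7T (x7T.get 7) (leafC (nat_lit 11) (nat_lit 2047) B (x7T.get 7) 21) x7L (788 * 1) 1 = true := by decide +kernel
theorem x7_789 : srchR 1365 (nat_lit 11) (nat_lit 2047) x7T (x7T.get 7) (leafC (nat_lit 11) (nat_lit 2047) B (x7T.get 7) 21) x7L (789 * 1) 1 = true := by decide +kernel
theorem x7_790 : srchR 1365 (nat_lit 11) (nat_lit 2047) x7T (x7T.get 7) (leafC (nat_lit 11) (nat_lit 2047) B (x7T.get 7) 21) x7L (790 * 1) 1 = true := by decide +kernel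
theorem x7_791 : srchR 1365 (nat_lit 11) (nat_lit 2047) x7T (x7T.get 7) (leafC (nat_lit 11) (nat_lit 2047) B (x7T.get 7) 21) x7L (791 * 1) 1 = true := by decide +kernel
theorem x7_792 : srchR 1365 (nat_lit 11) (nat_lit 2047) x7T (x7T.get 7) (leafC (nat_lit 11) (nat_lit 2047) B (x7T.get 7) 21) x7L (792 * 1) 1 = true := by decide +kernel
theorem x7_793 : srchR 1365 (nat_lit 11) (nat_lit 2047) x7T (x7T.get 7) (leafC (nat_lit 11) (nat_lit 2047) B (x7T.get 7) 21) x7L (793 * 1) 1 = true := by decide +kernel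
theorem x7_794 : srchR 1365 (nat_lit 11) (nat_lit 2047) x7T (x7T.get 7) (leafC (nat_lit 11) (nat_lit 2047) B (x7T.get 7) 21) x7L (794 * 1) 1 = true := by decide +kernel
theorem x7_795 : srchR 1365 (nat_lit 11) (nat_lit 2047) x7T (x7T.get 7) (leafC (nat_lit 11) (nat_lit 2047) B (x7T.get 7) 21) x7L (795 * 1) 1 = true := by decide +kernel
theorem x7_796 : srchR 1365 (nat_lit 11) (nat_lit 2047) x7T (x7T.get 7) (leafC (nat_lit 11) (nat_lit 2047) B (x7T.get 7) 21) x7L (796 * 1) 1 = true := by decide +kernel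
theorem x7_797 : srchR 1365 (nat_lit 11) (nat_lit 2047) x7T (x7T.get 7) (leafC (nat_lit 11) (nat_lit 2047) B (x7T.get 7) 21) x7L (797 * 1) 1 = true := by decide +kernel
theorem x7_798 : srchR 1365 (nat_lit 11) (nat_lit 2047) x7T (x7T.get 7) (leafC (nat_lit 11) (nat_lit 2047) B (x7T.get 7) 21) x7L (798 * 1) 1 = true := by decide +kernel
theorem x7_799 : srchR 1365 (nat_lit 11) (nat_lit 2047) x7T (x7T.get 7) (leafC (nat_lit 11) (nat_lit 2047) B (x7T.get 7) 21) x7L (799 * 1) 1 = true := by decide +kernel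
theorem x7_800 : srchR 1365 (nat_lit 11) (nat_lit 2047) x7T (x7T.get 7) (leafC (nat_lit 11) (nat_lit 2047) B (x7T.get 7) 21) x7L (800 * 1) 1 = true := by decide +kernel
theorem x7_801 : srchR 1365 (nat_lit 11) (nat_lit 2047) x7T (x7T.get 7) (leafC (nat_lit 11) (nat_lit 2047) B (x7T.get 7) 21) x7L (801 * 1) 1 = true := by decide +kernel
theorem x7_802 : srchR 1365 (nat_lit 11) (nat_lit 2047) x7T (x7T.get 7) (leafC (nat_lit 11) (nat_lit 2047) B (x7T.get 7) 21) x7L (802 * 1) 1 = true := by decide +kernel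
theorem x7_803 : srchR 1365 (nat_lit 11) (nat_lit 2047) x7T (x7T.get 7) (leafC (nat_lit 11) (nat_lit 2047) B (x7T.get 7) 21) x7L (803 * 1) 1 = true := by decide +kernel
theorem x7_804 : srchR 1365 (nat_lit 11) (nat_lit 2047) x7T (x7T.get 7) (leafC (nat_lit 11) (nat_lit 2047) B (x7T.get 7) 21) x7L (804 * 1) 1 = true := by decide +kernel
theorem x7_805 : srchR 1365 (nat_lit 11) (nat_lit 2047) x7T (x7T.get 7) (leafC (nat_lit 11) (nat_lit 2047) B (x7T.get 7) 21) x7L (805 * 1) 1 = true := by decide +kernel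
theorem x7_806 : srchR 1365 (nat_lit 11) (nat_lit 2047) x7T (x7T.get 7) (leafC (nat_lit 11) (nat_lit 2047) B (x7T.get 7) 21) x7L (806 * 1) 1 = true := by decide +kernel
theorem x7_807 : srchR 1365 (nat_lit 11) (nat_lit 2047) x7T (x7T.get 7) (leafC (nat_lit 11) (nat_lit 2047) B (x7T.get 7) 21) x7L (807 * 1) 1 = true := by decide +kernel
theorem x7_808 : srchR 1365 (nat_lit 11) (nat_lit 2047) x7T (x7T.get 7) (leafC (nat_lit 11) (nat_lit 2047) B (x7T.get 7) 21) x7L (808 * 1) 1 = true := by decide +kernel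
theorem x7_809 : srchR 1365 (nat_lit 11) (nat_lit 2047) x7T (x7T.get 7) (leafC (nat_lit 11) (nat_lit 2047) B (x7T.get 7) 21) x7L (809 * 1) 1 = true := by decide +kernel
theorem x7_810 : srchR 1365 (nat_lit 11) (nat_lit 2047) x7T (x7T.get 7) (leafC (nat_lit 11) (nat_lit 2047) B (x7T.get 7) 21) x7L (810 * 1) 1 = true := by decide +kernel
theorem x7_811 : srchR 1365 (nat_lit 11) (nat_lit 2047) x7T (x7T.get 7) (leafC (nat_lit 11) (nat_lit 2047) B (x7T.get 7) 21) x7L (811 * 1) 1 = true := by decide +kernel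
theorem x7_812 : srchR 1365 (nat_lit 11) (nat_lit 2047) x7T (x7T.get 7) (leafC (nat_lit 11) (nat_lit 2047) B (x7T.get 7) 21) x7L (812 * 1) 1 = true := by decide +kernel
theorem x7_813 : srchR 1365 (nat_lit 11) (nat_lit 2047) x7T (x7T.get 7) (leafC (nat_lit 11) (nat_lit 2047) B (x7T.get 7) 21) x7L (813 * 1) 1 = true := by decide +kernel
theorem x7_814 : srchR 1365 (nat_lit 11) (nat_lit 2047) x7T (x7T.get 7) (leafC (nat_lit 11) (nat_lit 2047) B (x7T.get 7) 21) x7L (814 * 1) 1 = true := by decide +kernel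
theorem x7_815 : srchR 1365 (nat_lit 11) (nat_lit 2047) x7T (x7T.get 7) (leafC (nat_lit 11) (nat_lit 2047) B (x7T.get 7) 21) x7L (815 * 1) 1 = true := by decide +kernel
theorem x7_816 : srchR 1365 (nat_lit 11) (nat_lit 2047) x7T (x7T.get 7) (leafC (nat_lit 11) (nat_lit 2047) B (x7T.get 7) 21) x7L (816 * 1) 1 = true := by decide +kernel
theorem x7_817 : srchR 1365 (nat_lit 11) (nat_lit 2047) x7T (x7T.get 7) (leafC (nat_lit 11) (nat_lit 2047) B (x7T.get 7) 21) x7L (817 * 1) 1 = true := by decide +kernel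
theorem x7_818 : srchR 1365 (nat_lit 11) (nat_lit 2047) x7T (x7T.get 7) (leafC (nat_lit 11) (nat_lit 2047) B (x7T.get 7) 21) x7L (818 * 1) 1 = true := by decide +kernel
theorem x7_819 : srchR 1365 (nat_lit 11) (nat_lit 2047) x7T (x7T.get 7) (leafC (nat_lit 11) (nat_lit 2047) B (x7T.get 7) 21) x7L (819 * 1) 1 = true := by decide +kernel
theorem x7_820 : srchR 1365 (nat_lit 11) (nat_lit 2047) x7T (x7T.get 7) (leafC (nat_lit 11) (nat_lit 2047) B (x7T.get 7) 21) x7L (820 * 1) 1 = true := by decide +kernel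
theorem x7_821 : srchR 1365 (nat_lit 11) (nat_lit 2047) x7T (x7T.get 7) (leafC (nat_lit 11) (nat_lit 2047) B (x7T.get 7) 21) x7L (821 * 1) 1 = true := by decide +kernel
theorem x7_822 : srchR 1365 (nat_lit 11) (nat_lit 2047) x7T (x7T.get 7) (leafC (nat_lit 11) (nat_lit 2047) B (x7T.get 7) 21) x7L (822 * 1) 1 = true := by decide +kernel
theorem x7_823 : srchR 1365 (nat_lit 11) (nat_lit 2047) x7T (x7T.get 7) (leafC (nat_lit 11) (nat_lit 2047) B (x7T.get 7) 21) x7L (823 * 1) 1 = true := by decide +kernel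
theorem x7_824 : srchR 1365 (nat_lit 11) (nat_lit 2047) x7T (x7T.get 7) (leafC (nat_lit 11) (nat_lit 2047) B (x7T.get 7) 21) x7L (824 * 1) 1 = true := by decide +kernel
theorem x7_825 : srchR 1365 (nat_lit 11) (nat_lit 2047) x7T (x7T.get 7) (leafC (nat_lit 11) (nat_lit 2047) B (x7T.get 7) 21) x7L (825 * 1) 1 = true := by decide +kernel
theorem x7_826 : srchR 1365 (nat_lit 11) (nat_lit 2047) x7T (x7T.get 7) (leafC (nat_lit 11) (nat_lit 2047) B (x7T.get 7) 21) x7L (826 * 1) 1 = true := by decide +kernel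
theorem x7_827 : srchR 1365 (nat_lit 11) (nat_lit 2047) x7T (x7T.get 7) (leafC (nat_lit 11) (nat_lit 2047) B (x7T.get 7) 21) x7L (827 * 1) 1 = true := by decide +kernel
theorem x7_828 : srchR 1365 (nat_lit 11) (nat_lit 2047) x7T (x7T.get 7) (leafC (nat_lit 11) (nat_lit 2047) B (x7T.get 7) 21) x7L (828 * 1) 1 = true := by decide +kernel
theorem x7_829 : srchR 1365 (nat_lit 11) (nat_lit 2047) x7T (x7T.get 7) (leafC (nat_lit 11) (nat_lit 2047) B (x7T.get 7) 21) x7L (829 * 1) 1 = true := by decide +kernel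
theorem x7_830 : srchR 1365 (nat_lit 11) (nat_lit 2047) x7T (x7T.get 7) (leafC (nat_lit 11) (nat_lit 2047) B (x7T.get 7) 21) x7L (830 * 1) 1 = true := by decide +kernel
theorem x7_831 : srchR 1365 (nat_lit 11) (nat_lit 2047) x7T (x7T.get 7) (leafC (nat_lit 11) (nat_lit 2047) B (x7T.get 7) 21) x7L (831 * 1) 1 = true := by decide +kernel
theorem x7_832 : srchR 1365 (nat_lit 11) (nat_lit 2047) x7T (x7T.get 7) (leafC (nat_lit 11) (nat_lit 2047) B (x7T.get 7) 21) x7L (832 * 1) 1 = true := by decide +kernel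
theorem x7_833 : srchR 1365 (nat_lit 11) (nat_lit 2047) x7T (x7T.get 7) (leafC (nat_lit 11) (nat_lit 2047) B (x7T.get 7) 21) x7L (833 * 1) 1 = true := by decide +kernel
theorem x7_834 : srchR 1365 (nat_lit 11) (nat_lit 2047) x7T (x7T.get 7) (leafC (nat_lit 11) (nat_lit 2047) B (x7T.get 7) 21) x7L (834 * 1) 1 = true := by decide +kernel
theorem x7_835 : srchR 1365 (nat_lit 11) (nat_lit 2047) x7T (x7T.get 7) (leafC (nat_lit 11) (nat_lit 2047) B (x7T.get 7) 21) x7L (835 * 1) 1 = true := by decide +kernel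
theorem x7_836 : srchR 1365 (nat_lit 11) (nat_lit 2047) x7T (x7T.get 7) (leafC (nat_lit 11) (nat_lit 2047) B (x7T.get 7) 21) x7L (836 * 1) 1 = true := by decide +kernel
theorem x7_837 : srchR 1365 (nat_lit 11) (nat_lit 2047) x7T (x7T.get 7) (leafC (nat_lit 11) (nat_lit 2047) B (x7T.get 7) 21) x7L (837 * 1) 1 = true := by decide +kernel
theorem x7_838 : srchR 1365 (nat_lit 11) (nat_lit 2047) x7T (x7T.get 7) (leafC (nat_lit 11) (nat_lit 2047) B (x7T.get 7) 21) x7L (838 * 1) 1 = true := by decide +kernel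
theorem x7_839 : srchR 1365 (nat_lit 11) (nat_lit 2047) x7T (x7T.get 7) (leafC (nat_lit 11) (nat_lit 2047) B (x7T.get 7) 21) x7L (839 * 1) 1 = true := by decide +kernel
theorem x7_840 : srchR 1365 (nat_lit 11) (nat_lit 2047) x7T (x7T.get 7) (leafC (nat_lit 11) (nat_lit 2047) B (x7T.get 7) 21) x7L (840 * 1) 1 = true := by decide +kernel
theorem x7_841 : srchR 1365 (nat_lit 11) (nat_lit 2047) x7T (x7T.get 7) (leafC (nat_lit 11) (nat_lit 2047) B (x7T.get 7) 21) x7L (841 * 1) 1 = true := by decide +kernel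
theorem x7_842 : srchR 1365 (nat_lit 11) (nat_lit 2047) x7T (x7T.get 7) (leafC (nat_lit 11) (nat_lit 2047) B (x7T.get 7) 21) x7L (842 * 1) 1 = true := by decide +kernel
theorem x7_843 : srchR 1365 (nat_lit 11) (nat_lit 2047) x7T (x7T.get 7) (leafC (nat_lit 11) (nat_lit 2047) B (x7T.get 7) 21) x7L (843 * 1) 1 = true := by decide +kernel
theorem x7_844 : srchR 1365 (nat_lit 11) (nat_lit 2047) x7T (x7T.get 7) (leafC (nat_lit 11) (nat_lit 2047) B (x7T.get 7) 21) x7L (844 * 1) 1 = true := by decide +kernel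
theorem x7_845 : srchR 1365 (nat_lit 11) (nat_lit 2047) x7T (x7T.get 7) (leafC (nat_lit 11) (nat_lit 2047) B (x7T.get 7) 21) x7L (845 * 1) 1 = true := by decide +kernel
theorem x7_846 : srchR 1365 (nat_lit 11) (nat_lit 2047) x7T (x7T.get 7) (leafC (nat_lit 11) (nat_lit 2047) B (x7T.get 7) 21) x7L (846 * 1) 1 = true := by decide +kernel
theorem x7_847 : srchR 1365 (nat_lit 11) (nat_lit 2047) x7T (x7T.get 7) (leafC (nat_lit 11) (nat_lit 2047) B (x7T.get 7) 21) x7L (847 * 1) 1 = true := by decide +kernel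
theorem x7_848 : srchR 1365 (nat_lit 11) (nat_lit 2047) x7T (x7T.get 7) (leafC (nat_lit 11) (nat_lit 2047) B (x7T.get 7) 21) x7L (848 * 1) 1 = true := by decide +kernel
theorem x7_849 : srchR 1365 (nat_lit 11) (nat_lit 2047) x7T (x7T.get 7) (leafC (nat_lit 11) (nat_lit 2047) B (x7T.get 7) 21) x7L (849 * 1) 1 = true := by decide +kernel
theorem x7_850 : srchR 1365 (nat_lit 11) (nat_lit 2047) x7T (x7T.get 7) (leafC (nat_lit 11) (nat_lit 2047) B (x7T.get 7) 21) x7L (850 * 1) 1 = true := by decide +kernel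
theorem x7_851 : srchR 1365 (nat_lit 11) (nat_lit 2047) x7T (x7T.get 7) (leafC (nat_lit 11) (nat_lit 2047) B (x7T.get 7) 21) x7L (851 * 1) 1 = true := by decide +kernel
theorem x7_852 : srchR 1365 (nat_lit 11) (nat_lit 2047) x7T (x7T.get 7) (leafC (nat_lit 11) (nat_lit 2047) B (x7T.get 7) 21) x7L (852 * 1) 1 = true := by decide +kernel
theorem x7_853 : srchR 1365 (nat_lit 11) (nat_lit 2047) x7T (x7T.get 7) (leafC (nat_lit 11) (nat_lit 2047) B (x7T.get 7) 21) x7L (853 * 1) 1 = true := by decide +kernel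
theorem x7_854 : srchR 1365 (nat_lit 11) (nat_lit 2047) x7T (x7T.get 7) (leafC (nat_lit 11) (nat_lit 2047) B (x7T.get 7) 21) x7L (854 * 1) 1 = true := by decide +kernel
theorem x7_855 : srchR 1365 (nat_lit 11) (nat_lit 2047) x7T (x7T.get 7) (leafC (nat_lit 11) (nat_lit 2047) B (x7T.get 7) 21) x7L (855 * 1) 1 = true := by decide +kernel
theorem x7_856 : srchR 1365 (nat_lit 11) (nat_lit 2047) x7T (x7T.get 7) (leafC (nat_lit 11) (nat_lit 2047) B (x7T.get 7) 21) x7L (856 * 1) 1 = true := by decide +kernel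
theorem x7_857 : srchR 1365 (nat_lit 11) (nat_lit 2047) x7T (x7T.get 7) (leafC (nat_lit 11) (nat_lit 2047) B (x7T.get 7) 21) x7L (857 * 1) 1 = true := by decide +kernel
theorem x7_858 : srchR 1365 (nat_lit 11) (nat_lit 2047) x7T (x7T.get 7) (leafC (nat_lit 11) (nat_lit 2047) B (x7T.get 7) 21) x7L (858 * 1) 1 = true := by decide +kernel
theorem x7_859 : srchR 1365 (nat_lit 11) (nat_lit 2047) x7T (x7T.get 7) (leafC (nat_lit 11) (nat_lit 2047) B (x7T.get 7) 21) x7L (859 * 1) 1 = true := by decide +kernel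
theorem x7_860 : srchR 1365 (nat_lit 11) (nat_lit 2047) x7T (x7T.get 7) (leafC (nat_lit 11) (nat_lit 2047) B (x7T.get 7) 21) x7L (860 * 1) 1 = true := by decide +kernel
theorem x7_861 : srchR 1365 (nat_lit 11) (nat_lit 2047) x7T (x7T.get 7) (leafC (nat_lit 11) (nat_lit 2047) B (x7T.get 7) 21) x7L (861 * 1) 1 = true := by decide +kernel
theorem x7_862 : srchR 1365 (nat_lit 11) (nat_lit 2047) x7T (x7T.get 7) (leafC (nat_lit 11) (nat_lit 2047) B (x7T.get 7) 21) x7L (862 * 1) 1 = true := by decide +kernel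
theorem x7_863 : srchR 1365 (nat_lit 11) (nat_lit 2047) x7T (x7T.get 7) (leafC (nat_lit 11) (nat_lit 2047) B (x7T.get 7) 21) x7L (863 * 1) 1 = true := by decide +kernel
theorem x7_864 : srchR 1365 (nat_lit 11) (nat_lit 2047) x7T (x7T.get 7) (leafC (nat_lit 11) (nat_lit 2047) B (x7T.get 7) 21) x7L (864 * 1) 1 = true := by decide +kernel
theorem x7_865 : srchR 1365 (nat_lit 11) (nat_lit 2047) x7T (x7T.get 7) (leafC (nat_lit 11) (nat_lit 2047) B (x7T.get 7) 21) x7L (865 * 1) 1 = true := by decide +kernel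
theorem x7_866 : srchR 1365 (nat_lit 11) (nat_lit 2047) x7T (x7T.get 7) (leafC (nat_lit 11) (nat_lit 2047) B (x7T.get 7) 21) x7L (866 * 1) 1 = true := by decide +kernel
theorem x7_867 : srchR 1365 (nat_lit 11) (nat_lit 2047) x7T (x7T.get 7) (leafC (nat_lit 11) (nat_lit 2047) B (x7T.get 7) 21) x7L (867 * 1) 1 = true := by decide +kernel
theorem x7_868 : srchR 1365 (nat_lit 11) (nat_lit 2047) x7T (x7T.get 7) (leafC (nat_lit 11) (nat_lit 2047) B (x7T.get 7) 21) x7L (868 * 1) 1 = true := by decide +kernel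
theorem x7_869 : srchR 1365 (nat_lit 11) (nat_lit 2047) x7T (x7T.get 7) (leafC (nat_lit 11) (nat_lit 2047) B (x7T.get 7) 21) x7L (869 * 1) 1 = true := by decide +kernel
theorem x7_870 : srchR 1365 (nat_lit 11) (nat_lit 2047) x7T (x7T.get 7) (leafC (nat_lit 11) (nat_lit 2047) B (x7T.get 7) 21) x7L (870 * 1) 1 = true := by decide +kernel
theorem x7_871 : srchR 1365 (nat_lit 11) (nat_lit 2047) x7T (x7T.get 7) (leafC (nat_lit 11) (nat_lit 2047) B (x7T.get 7) 21) x7L (871 * 1) 1 = true := by decide +kernel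
theorem x7_872 : srchR 1365 (nat_lit 11) (nat_lit 2047) x7T (x7T.get 7) (leafC (nat_lit 11) (nat_lit 2047) B (x7T.get 7) 21) x7L (872 * 1) 1 = true := by decide +kernel
theorem x7_873 : srchR 1365 (nat_lit 11) (nat_lit 2047) x7T (x7T.get 7) (leafC (nat_lit 11) (nat_lit 2047) B (x7T.get 7) 21) x7L (873 * 1) 1 = true := by decide +kernel
theorem x7_874 : srchR 1365 (nat_lit 11) (nat_lit 2047) x7T (x7T.get 7) (leafC (nat_lit 11) (nat_lit 2047) B (x7T.get 7) 21) x7L (874 * 1) 1 = true := by decide +kernel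
theorem x7_875 : srchR 1365 (nat_lit 11) (nat_lit 2047) x7T (x7T.get 7) (leafC (nat_lit 11) (nat_lit 2047) B (x7T.get 7) 21) x7L (875 * 1) 1 = true := by decide +kernel
theorem x7_876 : srchR 1365 (nat_lit 11) (nat_lit 2047) x7T (x7T.get 7) (leafC (nat_lit 11) (nat_lit 2047) B (x7T.get 7) 21) x7L (876 * 1) 1 = true := by decide +kernel
theorem x7_877 : srchR 1365 (nat_lit 11) (nat_lit 2047) x7T (x7T.get 7) (leafC (nat_lit 11) (nat_lit 2047) B (x7T.get 7) 21) x7L (877 * 1) 1 = true := by decide +kernel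
theorem x7_878 : srchR 1365 (nat_lit 11) (nat_lit 2047) x7T (x7T.get 7) (leafC (nat_lit 11) (nat_lit 2047) B (x7T.get 7) 21) x7L (878 * 1) 1 = true := by decide +kernel
theorem x7_879 : srchR 1365 (nat_lit 11) (nat_lit 2047) x7T (x7T.get 7) (leafC (nat_lit 11) (nat_lit 2047) B (x7T.get 7) 21) x7L (879 * 1) 1 = true := by decide +kernel
theorem x7_880 : srchR 1365 (nat_lit 11) (nat_lit 2047) x7T (x7T.get 7) (leafC (nat_lit 11) (nat_lit 2047) B (x7T.get 7) 21) x7L (880 * 1) 1 = true := by decide +kernel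
theorem x7_881 : srchR 1365 (nat_lit 11) (nat_lit 2047) x7T (x7T.get 7) (leafC (nat_lit 11) (nat_lit 2047) B (x7T.get 7) 21) x7L (881 * 1) 1 = true := by decide +kernel
theorem x7_882 : srchR 1365 (nat_lit 11) (nat_lit 2047) x7T (x7T.get 7) (leafC (nat_lit 11) (nat_lit 2047) B (x7T.get 7) 21) x7L (882 * 1) 1 = true := by decide +kernel
theorem x7_883 : srchR 1365 (nat_lit 11) (nat_lit 2047) x7T (x7T.get 7) (leafC (nat_lit 11) (nat_lit 2047) B (x7T.get 7) 21) x7L (883 * 1) 1 = true := by decide +kernel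
theorem x7_884 : srchR 1365 (nat_lit 11) (nat_lit 2047) x7T (x7T.get 7) (leafC (nat_lit 11) (nat_lit 2047) B (x7T.get 7) 21) x7L (884 * 1) 1 = true := by decide +kernel
theorem x7_885 : srchR 1365 (nat_lit 11) (nat_lit 2047) x7T (x7T.get 7) (leafC (nat_lit 11) (nat_lit 2047) B (x7T.get 7) 21) x7L (885 * 1) 1 = true := by decide +kernel
theorem x7_886 : srchR 1365 (nat_lit 11) (nat_lit 2047) x7T (x7T.get 7) (leafC (nat_lit 11) (nat_lit 2047) B (x7T.get 7) 21) x7L (886 * 1) 1 = true := by decide +kernel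
theorem x7_887 : srchR 1365 (nat_lit 11) (nat_lit 2047) x7T (x7T.get 7) (leafC (nat_lit 11) (nat_lit 2047) B (x7T.get 7) 21) x7L (887 * 1) 1 = true := by decide +kernel
theorem x7_888 : srchR 1365 (nat_lit 11) (nat_lit 2047) x7T (x7T.get 7) (leafC (nat_lit 11) (nat_lit 2047) B (x7T.get 7) 21) x7L (888 * 1) 1 = true := by decide +kernel
theorem x7_889 : srchR 1365 (nat_lit 11) (nat_lit 2047) x7T (x7T.get 7) (leafC (nat_lit 11) (nat_lit 2047) B (x7T.get 7) 21) x7L (889 * 1) 1 = true := by decide +kernel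
theorem x7_890 : srchR 1365 (nat_lit 11) (nat_lit 2047) x7T (x7T.get 7) (leafC (nat_lit 11) (nat_lit 2047) B (x7T.get 7) 21) x7L (890 * 1) 1 = true := by decide +kernel
theorem x7_891 : srchR 1365 (nat_lit 11) (nat_lit 2047) x7T (x7T.get 7) (leafC (nat_lit 11) (nat_lit 2047) B (x7T.get 7) 21) x7L (891 * 1) 1 = true := by decide +kernel
theorem x7_892 : srchR 1365 (nat_lit 11) (nat_lit 2047) x7T (x7T.get 7) (leafC (nat_lit 11) (nat_lit 2047) B (x7T.get 7) 21) x7L (892 * 1) 1 = true := by decide +kernel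
theorem x7_893 : srchR 1365 (nat_lit 11) (nat_lit 2047) x7T (x7T.get 7) (leafC (nat_lit 11) (nat_lit 2047) B (x7T.get 7) 21) x7L (893 * 1) 1 = true := by decide +kernel
theorem x7_894 : srchR 1365 (nat_lit 11) (nat_lit 2047) x7T (x7T.get 7) (leafC (nat_lit 11) (nat_lit 2047) B (x7T.get 7) 21) x7L (894 * 1) 1 = true := by decide +kernel
theorem x7_895 : srchR 1365 (nat_lit 11) (nat_lit 2047) x7T (x7T.get 7) (leafC (nat_lit 11) (nat_lit 2047) B (x7T.get 7) 21) x7L (895 * 1) 1 = true := by decide +kernel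
theorem x7_896 : srchR 1365 (nat_lit 11) (nat_lit 2047) x7T (x7T.get 7) (leafC (nat_lit 11) (nat_lit 2047) B (x7T.get 7) 21) x7L (896 * 1) 1 = true := by decide +kernel
theorem x7_897 : srchR 1365 (nat_lit 11) (nat_lit 2047) x7T (x7T.get 7) (leafC (nat_lit 11) (nat_lit 2047) B (x7T.get 7) 21) x7L (897 * 1) 1 = true := by decide +kernel
theorem x7_898 : srchR 1365 (nat_lit 11) (nat_lit 2047) x7T (x7T.get 7) (leafC (nat_lit 11) (nat_lit 2047) B (x7T.get 7) 21) x7L (898 * 1) 1 = true := by decide +kernel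
theorem x7_899 : srchR 1365 (nat_lit 11) (nat_lit 2047) x7T (x7T.get 7) (leafC (nat_lit 11) (nat_lit 2047) B (x7T.get 7) 21) x7L (899 * 1) 1 = true := by decide +kernel
theorem x7_900 : srchR 1365 (nat_lit 11) (nat_lit 2047) x7T (x7T.get 7) (leafC (nat_lit 11) (nat_lit 2047) B (x7T.get 7) 21) x7L (900 * 1) 1 = true := by decide +kernel
theorem x7_901 : srchR 1365 (nat_lit 11) (nat_lit 2047) x7T (x7T.get 7) (leafC (nat_lit 11) (nat_lit 2047) B (x7T.get 7) 21) x7L (901 * 1) 1 = true := by decide +kernel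
theorem x7_902 : srchR 1365 (nat_lit 11) (nat_lit 2047) x7T (x7T.get 7) (leafC (nat_lit 11) (nat_lit 2047) B (x7T.get 7) 21) x7L (902 * 1) 1 = true := by decide +kernel
theorem x7_903 : srchR 1365 (nat_lit 11) (nat_lit 2047) x7T (x7T.get 7) (leafC (nat_lit 11) (nat_lit 2047) B (x7T.get 7) 21) x7L (903 * 1) 1 = true := by decide +kernel
theorem x7_904 : srchR 1365 (nat_lit 11) (nat_lit 2047) x7T (x7T.get 7) (leafC (nat_lit 11) (nat_lit 2047) B (x7T.get 7) 21) x7L (904 * 1) 1 = true := by decide +kernel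
theorem x7_905 : srchR 1365 (nat_lit 11) (nat_lit 2047) x7T (x7T.get 7) (leafC (nat_lit 11) (nat_lit 2047) B (x7T.get 7) 21) x7L (905 * 1) 1 = true := by decide +kernel
theorem x7_906 : srchR 1365 (nat_lit 11) (nat_lit 2047) x7T (x7T.get 7) (leafC (nat_lit 11) (nat_lit 2047) B (x7T.get 7) 21) x7L (906 * 1) 1 = true := by decide +kernel
theorem x7_907 : srchR 1365 (nat_lit 11) (nat_lit 2047) x7T (x7T.get 7) (leafC (nat_lit 11) (nat_lit 2047) B (x7T.get 7) 21) x7L (907 * 1) 1 = true := by decide +kernel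
theorem x7_908 : srchR 1365 (nat_lit 11) (nat_lit 2047) x7T (x7T.get 7) (leafC (nat_lit 11) (nat_lit 2047) B (x7T.get 7) 21) x7L (908 * 1) 1 = true := by decide +kernel
theorem x7_909 : srchR 1365 (nat_lit 11) (nat_lit 2047) x7T (x7T.get 7) (leafC (nat_lit 11) (nat_lit 2047) B (x7T.get 7) 21) x7L (909 * 1) 1 = true := by decide +kernel
theorem x7_910 : srchR 1365 (nat_lit 11) (nat_lit 2047) x7T (x7T.get 7) (leafC (nat_lit 11) (nat_lit 2047) B (x7T.get 7) 21) x7L (910 * 1) 1 = true := by decide +kernel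
theorem x7_911 : srchR 1365 (nat_lit 11) (nat_lit 2047) x7T (x7T.get 7) (leafC (nat_lit 11) (nat_lit 2047) B (x7T.get 7) 21) x7L (911 * 1) 1 = true := by decide +kernel
theorem x7_912 : srchR 1365 (nat_lit 11) (nat_lit 2047) x7T (x7T.get 7) (leafC (nat_lit 11) (nat_lit 2047) B (x7T.get 7) 21) x7L (912 * 1) 1 = true := by decide +kernel
theorem x7_913 : srchR 1365 (nat_lit 11) (nat_lit 2047) x7T (x7T.get 7) (leafC (nat_lit 11) (nat_lit 2047) B (x7T.get 7) 21) x7L (913 * 1) 1 = true := by decide +kernel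
theorem x7_914 : srchR 1365 (nat_lit 11) (nat_lit 2047) x7T (x7T.get 7) (leafC (nat_lit 11) (nat_lit 2047) B (x7T.get 7) 21) x7L (914 * 1) 1 = true := by decide +kernel
theorem x7_915 : srchR 1365 (nat_lit 11) (nat_lit 2047) x7T (x7T.get 7) (leafC (nat_lit 11) (nat_lit 2047) B (x7T.get 7) 21) x7L (915 * 1) 1 = true := by decide +kernel
theorem x7_916 : srchR 1365 (nat_lit 11) (nat_lit 2047) x7T (x7T.get 7) (leafC (nat_lit 11) (nat_lit 2047) B (x7T.get 7) 21) x7L (916 * 1) 1 = true := by decide +kernel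
theorem x7_917 : srchR 1365 (nat_lit 11) (nat_lit 2047) x7T (x7T.get 7) (leafC (nat_lit 11) (nat_lit 2047) B (x7T.get 7) 21) x7L (917 * 1) 1 = true := by decide +kernel
theorem x7_918 : srchR 1365 (nat_lit 11) (nat_lit 2047) x7T (x7T.get 7) (leafC (nat_lit 11) (nat_lit 2047) B (x7T.get 7) 21) x7L (918 * 1) 1 = true := by decide +kernel
theorem x7_919 : srchR 1365 (nat_lit 11) (nat_lit 2047) x7T (x7T.get 7) (leafC (nat_lit 11) (nat_lit 2047) B (x7T.get 7) 21) x7L (919 * 1) 1 = true := by decide +kernel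
theorem x7_920 : srchR 1365 (nat_lit 11) (nat_lit 2047) x7T (x7T.get 7) (leafC (nat_lit 11) (nat_lit 2047) B (x7T.get 7) 21) x7L (920 * 1) 1 = true := by decide +kernel
theorem x7_921 : srchR 1365 (nat_lit 11) (nat_lit 2047) x7T (x7T.get 7) (leafC (nat_lit 11) (nat_lit 2047) B (x7T.get 7) 21) x7L (921 * 1) 1 = true := by decide +kernel
theorem x7_922 : srchR 1365 (nat_lit 11) (nat_lit 2047) x7T (x7T.get 7) (leafC (nat_lit 11) (nat_lit 2047) B (x7T.get 7) 21) x7L (922 * 1) 1 = true := by decide +kernel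
theorem x7_923 : srchR 1365 (nat_lit 11) (nat_lit 2047) x7T (x7T.get 7) (leafC (nat_lit 11) (nat_lit 2047) B (x7T.get 7) 21) x7L (923 * 1) 1 = true := by decide +kernel
theorem x7_924 : srchR 1365 (nat_lit 11) (nat_lit 2047) x7T (x7T.get 7) (leafC (nat_lit 11) (nat_lit 2047) B (x7T.get 7) 21) x7L (924 * 1) 1 = true := by decide +kernel
theorem x7_925 : srchR 1365 (nat_lit 11) (nat_lit 2047) x7T (x7T.get 7) (leafC (nat_lit 11) (nat_lit 2047) B (x7T.get 7) 21) x7L (925 * 1) 1 = true := by decide +kernel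
theorem x7_926 : srchR 1365 (nat_lit 11) (nat_lit 2047) x7T (x7T.get 7) (leafC (nat_lit 11) (nat_lit 2047) B (x7T.get 7) 21) x7L (926 * 1) 1 = true := by decide +kernel
theorem x7_927 : srchR 1365 (nat_lit 11) (nat_lit 2047) x7T (x7T.get 7) (leafC (nat_lit 11) (nat_lit 2047) B (x7T.get 7) 21) x7L (927 * 1) 1 = true := by decide +kernel
theorem x7_928 : srchR 1365 (nat_lit 11) (nat_lit 2047) x7T (x7T.get 7) (leafC (nat_lit 11) (nat_lit 2047) B (x7T.get 7) 21) x7L (928 * 1) 1 = true := by decide +kernel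
theorem x7_929 : srchR 1365 (nat_lit 11) (nat_lit 2047) x7T (x7T.get 7) (leafC (nat_lit 11) (nat_lit 2047) B (x7T.get 7) 21) x7L (929 * 1) 1 = true := by decide +kernel
theorem x7_930 : srchR 1365 (nat_lit 11) (nat_lit 2047) x7T (x7T.get 7) (leafC (nat_lit 11) (nat_lit 2047) B (x7T.get 7) 21) x7L (930 * 1) 1 = true := by decide +kernel
theorem x7_931 : srchR 1365 (nat_lit 11) (nat_lit 2047) x7T (x7T.get 7) (leafC (nat_lit 11) (nat_lit 2047) B (x7T.get 7) 21) x7L (931 * 1) 1 = true := by decide +kernel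
theorem x7_932 : srchR 1365 (nat_lit 11) (nat_lit 2047) x7T (x7T.get 7) (leafC (nat_lit 11) (nat_lit 2047) B (x7T.get 7) 21) x7L (932 * 1) 1 = true := by decide +kernel
theorem x7_933 : srchR 1365 (nat_lit 11) (nat_lit 2047) x7T (x7T.get 7) (leafC (nat_lit 11) (nat_lit 2047) B (x7T.get 7) 21) x7L (933 * 1) 1 = true := by decide +kernel
theorem x7_934 : srchR 1365 (nat_lit 11) (nat_lit 2047) x7T (x7T.get 7) (leafC (nat_lit 11) (nat_lit 2047) B (x7T.get 7) 21) x7L (934 * 1) 1 = true := by decide +kernel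
theorem x7_935 : srchR 1365 (nat_lit 11) (nat_lit 2047) x7T (x7T.get 7) (leafC (nat_lit 11) (nat_lit 2047) B (x7T.get 7) 21) x7L (935 * 1) 1 = true := by decide +kernel
theorem x7_936 : srchR 1365 (nat_lit 11) (nat_lit 2047) x7T (x7T.get 7) (leafC (nat_lit 11) (nat_lit 2047) B (x7T.get 7) 21) x7L (936 * 1) 1 = true := by decide +kernel
theorem x7_937 : srchR 1365 (nat_lit 11) (nat_lit 2047) x7T (x7T.get 7) (leafC (nat_lit 11) (nat_lit 2047) B (x7T.get 7) 21) x7L (937 * 1) 1 = true := by decide +kernel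
theorem x7_938 : srchR 1365 (nat_lit 11) (nat_lit 2047) x7T (x7T.get 7) (leafC (nat_lit 11) (nat_lit 2047) B (x7T.get 7) 21) x7L (938 * 1) 1 = true := by decide +kernel
theorem x7_939 : srchR 1365 (nat_lit 11) (nat_lit 2047) x7T (x7T.get 7) (leafC (nat_lit 11) (nat_lit 2047) B (x7T.get 7) 21) x7L (939 * 1) 1 = true := by decide +kernel
theorem x7_940 : srchR 1365 (nat_lit 11) (nat_lit 2047) x7T (x7T.get 7) (leafC (nat_lit 11) (nat_lit 2047) B (x7T.get 7) 21) x7L (940 * 1) 1 = true := by decide +kernel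
theorem x7_941 : srchR 1365 (nat_lit 11) (nat_lit 2047) x7T (x7T.get 7) (leafC (nat_lit 11) (nat_lit 2047) B (x7T.get 7) 21) x7L (941 * 1) 1 = true := by decide +kernel
theorem x7_942 : srchR 1365 (nat_lit 11) (nat_lit 2047) x7T (x7T.get 7) (leafC (nat_lit 11) (nat_lit 2047) B (x7T.get 7) 21) x7L (942 * 1) 1 = true := by decide +kernel
theorem x7_943 : srchR 1365 (nat_lit 11) (nat_lit 2047) x7T (x7T.get 7) (leafC (nat_lit 11) (nat_lit 2047) B (x7T.get 7) 21) x7L (943 * 1) 1 = true := by decide +kernel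
theorem x7_944 : srchR 1365 (nat_lit 11) (nat_lit 2047) x7T (x7T.get 7) (leafC (nat_lit 11) (nat_lit 2047) B (x7T.get 7) 21) x7L (944 * 1) 1 = true := by decide +kernel
theorem x7_945 : srchR 1365 (nat_lit 11) (nat_lit 2047) x7T (x7T.get 7) (leafC (nat_lit 11) (nat_lit 2047) B (x7T.get 7) 21) x7L (945 * 1) 1 = true := by decide +kernel
theorem x7_946 : srchR 1365 (nat_lit 11) (nat_lit 2047) x7T (x7T.get 7) (leafC (nat_lit 11) (nat_lit 2047) B (x7T.get 7) 21) x7L (946 * 1) 1 = true := by decide +kernel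
theorem x7_947 : srchR 1365 (nat_lit 11) (nat_lit 2047) x7T (x7T.get 7) (leafC (nat_lit 11) (nat_lit 2047) B (x7T.get 7) 21) x7L (947 * 1) 1 = true := by decide +kernel
theorem x7_948 : srchR 1365 (nat_lit 11) (nat_lit 2047) x7T (x7T.get 7) (leafC (nat_lit 11) (nat_lit 2047) B (x7T.get 7) 21) x7L (948 * 1) 1 = true := by decide +kernel
theorem x7_949 : srchR 1365 (nat_lit 11) (nat_lit 2047) x7T (x7T.get 7) (leafC (nat_lit 11) (nat_lit 2047) B (x7T.get 7) 21) x7L (949 * 1) 1 = true := by decide +kernel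
theorem x7_950 : srchR 1365 (nat_lit 11) (nat_lit 2047) x7T (x7T.get 7) (leafC (nat_lit 11) (nat_lit 2047) B (x7T.get 7) 21) x7L (950 * 1) 1 = true := by decide +kernel
theorem x7_951 : srchR 1365 (nat_lit 11) (nat_lit 2047) x7T (x7T.get 7) (leafC (nat_lit 11) (nat_lit 2047) B (x7T.get 7) 21) x7L (951 * 1) 1 = true := by decide +kernel
theorem x7_952 : srchR 1365 (nat_lit 11) (nat_lit 2047) x7T (x7T.get 7) (leafC (nat_lit 11) (nat_lit 2047) B (x7T.get 7) 21) x7L (952 * 1) 1 = true := by decide +kernel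
theorem x7_953 : srchR 1365 (nat_lit 11) (nat_lit 2047) x7T (x7T.get 7) (leafC (nat_lit 11) (nat_lit 2047) B (x7T.get 7) 21) x7L (953 * 1) 1 = true := by decide +kernel
theorem x7_954 : srchR 1365 (nat_lit 11) (nat_lit 2047) x7T (x7T.get 7) (leafC (nat_lit 11) (nat_lit 2047) B (x7T.get 7) 21) x7L (954 * 1) 1 = true := by decide +kernel
theorem x7_955 : srchR 1365 (nat_lit 11) (nat_lit 2047) x7T (x7T.get 7) (leafC (nat_lit 11) (nat_lit 2047) B (x7T.get 7) 21) x7L (955 * 1) 1 = true := by decide +kernel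
theorem x7_956 : srchR 1365 (nat_lit 11) (nat_lit 2047) x7T (x7T.get 7) (leafC (nat_lit 11) (nat_lit 2047) B (x7T.get 7) 21) x7L (956 * 1) 1 = true := by decide +kernel
theorem x7_957 : srchR 1365 (nat_lit 11) (nat_lit 2047) x7T (x7T.get 7) (leafC (nat_lit 11) (nat_lit 2047) B (x7T.get 7) 21) x7L (957 * 1) 1 = true := by decide +kernel
theorem x7_958 : srchR 1365 (nat_lit 11) (nat_lit 2047) x7T (x7T.get 7) (leafC (nat_lit 11) (nat_lit 2047) B (x7T.get 7) 21) x7L (958 * 1) 1 = true := by decide +kernel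
theorem x7_959 : srchR 1365 (nat_lit 11) (nat_lit 2047) x7T (x7T.get 7) (leafC (nat_lit 11) (nat_lit 2047) B (x7T.get 7) 21) x7L (959 * 1) 1 = true := by decide +kernel
theorem x7_960 : srchR 1365 (nat_lit 11) (nat_lit 2047) x7T (x7T.get 7) (leafC (nat_lit 11) (nat_lit 2047) B (x7T.get 7) 21) x7L (960 * 1) 1 = true := by decide +kernel
theorem x7_961 : srchR 1365 (nat_lit 11) (nat_lit 2047) x7T (x7T.get 7) (leafC (nat_lit 11) (nat_lit 2047) B (x7T.get 7) 21) x7L (961 * 1) 1 = true := by decide +kernel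
theorem x7_962 : srchR 1365 (nat_lit 11) (nat_lit 2047) x7T (x7T.get 7) (leafC (nat_lit 11) (nat_lit 2047) B (x7T.get 7) 21) x7L (962 * 1) 1 = true := by decide +kernel
theorem x7_963 : srchR 1365 (nat_lit 11) (nat_lit 2047) x7T (x7T.get 7) (leafC (nat_lit 11) (nat_lit 2047) B (x7T.get 7) 21) x7L (963 * 1) 1 = true := by decide +kernel
theorem x7_964 : srchR 1365 (nat_lit 11) (nat_lit 2047) x7T (x7T.get 7) (leafC (nat_lit 11) (nat_lit 2047) B (x7T.get 7) 21) x7L (964 * 1) 1 = true := by decide +kernel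
theorem x7_965 : srchR 1365 (nat_lit 11) (nat_lit 2047) x7T (x7T.get 7) (leafC (nat_lit 11) (nat_lit 2047) B (x7T.get 7) 21) x7L (965 * 1) 1 = true := by decide +kernel
theorem x7_966 : srchR 1365 (nat_lit 11) (nat_lit 2047) x7T (x7T.get 7) (leafC (nat_lit 11) (nat_lit 2047) B (x7T.get 7) 21) x7L (966 * 1) 1 = true := by decide +kernel
theorem x7_967 : srchR 1365 (nat_lit 11) (nat_lit 2047) x7T (x7T.get 7) (leafC (nat_lit 11) (nat_lit 2047) B (x7T.get 7) 21) x7L (967 * 1) 1 = true := by decide +kernel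
theorem x7_968 : srchR 1365 (nat_lit 11) (nat_lit 2047) x7T (x7T.get 7) (leafC (nat_lit 11) (nat_lit 2047) B (x7T.get 7) 21) x7L (968 * 1) 1 = true := by decide +kernel
theorem x7_969 : srchR 1365 (nat_lit 11) (nat_lit 2047) x7T (x7T.get 7) (leafC (nat_lit 11) (nat_lit 2047) B (x7T.get 7) 21) x7L (969 * 1) 1 = true := by decide +kernel
theorem x7_970 : srchR 1365 (nat_lit 11) (nat_lit 2047) x7T (x7T.get 7) (leafC (nat_lit 11) (nat_lit 2047) B (x7T.get 7) 21) x7L (970 * 1) 1 = true := by decide +kernel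
theorem x7_971 : srchR 1365 (nat_lit 11) (nat_lit 2047) x7T (x7T.get 7) (leafC (nat_lit 11) (nat_lit 2047) B (x7T.get 7) 21) x7L (971 * 1) 1 = true := by decide +kernel
theorem x7_972 : srchR 1365 (nat_lit 11) (nat_lit 2047) x7T (x7T.get 7) (leafC (nat_lit 11) (nat_lit 2047) B (x7T.get 7) 21) x7L (972 * 1) 1 = true := by decide +kernel
theorem x7_973 : srchR 1365 (nat_lit 11) (nat_lit 2047) x7T (x7T.get 7) (leafC (nat_lit 11) (nat_lit 2047) B (x7T.get 7) 21) x7L (973 * 1) 1 = true := by decide +kernel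
theorem x7_974 : srchR 1365 (nat_lit 11) (nat_lit 2047) x7T (x7T.get 7) (leafC (nat_lit 11) (nat_lit 2047) B (x7T.get 7) 21) x7L (974 * 1) 1 = true := by decide +kernel
theorem x7_975 : srchR 1365 (nat_lit 11) (nat_lit 2047) x7T (x7T.get 7) (leafC (nat_lit 11) (nat_lit 2047) B (x7T.get 7) 21) x7L (975 * 1) 1 = true := by decide +kernel
theorem x7_976 : srchR 1365 (nat_lit 11) (nat_lit 2047) x7T (x7T.get 7) (leafC (nat_lit 11) (nat_lit 2047) B (x7T.get 7) 21) x7L (976 * 1) 1 = true := by decide +kernel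
theorem x7_977 : srchR 1365 (nat_lit 11) (nat_lit 2047) x7T (x7T.get 7) (leafC (nat_lit 11) (nat_lit 2047) B (x7T.get 7) 21) x7L (977 * 1) 1 = true := by decide +kernel
theorem x7_978 : srchR 1365 (nat_lit 11) (nat_lit 2047) x7T (x7T.get 7) (leafC (nat_lit 11) (nat_lit 2047) B (x7T.get 7) 21) x7L (978 * 1) 1 = true := by decide +kernel
theorem x7_979 : srchR 1365 (nat_lit 11) (nat_lit 2047) x7T (x7T.get 7) (leafC (nat_lit 11) (nat_lit 2047) B (x7T.get 7) 21) x7L (979 * 1) 1 = true := by decide +kernel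
theorem x7_980 : srchR 1365 (nat_lit 11) (nat_lit 2047) x7T (x7T.get 7) (leafC (nat_lit 11) (nat_lit 2047) B (x7T.get 7) 21) x7L (980 * 1) 1 = true := by decide +kernel
theorem x7_981 : srchR 1365 (nat_lit 11) (nat_lit 2047) x7T (x7T.get 7) (leafC (nat_lit 11) (nat_lit 2047) B (x7T.get 7) 21) x7L (981 * 1) 1 = true := by decide +kernel
theorem x7_982 : srchR 1365 (nat_lit 11) (nat_lit 2047) x7T (x7T.get 7) (leafC (nat_lit 11) (nat_lit 2047) B (x7T.get 7) 21) x7L (982 * 1) 1 = true := by decide +kernel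
theorem x7_983 : srchR 1365 (nat_lit 11) (nat_lit 2047) x7T (x7T.get 7) (leafC (nat_lit 11) (nat_lit 2047) B (x7T.get 7) 21) x7L (983 * 1) 1 = true := by decide +kernel
theorem x7_984 : srchR 1365 (nat_lit 11) (nat_lit 2047) x7T (x7T.get 7) (leafC (nat_lit 11) (nat_lit 2047) B (x7T.get 7) 21) x7L (984 * 1) 1 = true := by decide +kernel
theorem x7_985 : srchR 1365 (nat_lit 11) (nat_lit 2047) x7T (x7T.get 7) (leafC (nat_lit 11) (nat_lit 2047) B (x7T.get 7) 21) x7L (985 * 1) 1 = true := by decide +kernel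
theorem x7_986 : srchR 1365 (nat_lit 11) (nat_lit 2047) x7T (x7T.get 7) (leafC (nat_lit 11) (nat_lit 2047) B (x7T.get 7) 21) x7L (986 * 1) 1 = true := by decide +kernel
theorem x7_987 : srchR 1365 (nat_lit 11) (nat_lit 2047) x7T (x7T.get 7) (leafC (nat_lit 11) (nat_lit 2047) B (x7T.get 7) 21) x7L (987 * 1) 1 = true := by decide +kernel
theorem x7_988 : srchR 1365 (nat_lit 11) (nat_lit 2047) x7T (x7T.get 7) (leafC (nat_lit 11) (nat_lit 2047) B (x7T.get 7) 21) x7L (988 * 1) 1 = true := by decide +kernel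
theorem x7_989 : srchR 1365 (nat_lit 11) (nat_lit 2047) x7T (x7T.get 7) (leafC (nat_lit 11) (nat_lit 2047) B (x7T.get 7) 21) x7L (989 * 1) 1 = true := by decide +kernel
theorem x7_990 : srchR 1365 (nat_lit 11) (nat_lit 2047) x7T (x7T.get 7) (leafC (nat_lit 11) (nat_lit 2047) B (x7T.get 7) 21) x7L (990 * 1) 1 = true := by decide +kernel
theorem x7_991 : srchR 1365 (nat_lit 11) (nat_lit 2047) x7T (x7T.get 7) (leafC (nat_lit 11) (nat_lit 2047) B (x7T.get 7) 21) x7L (991 * 1) 1 = true := by decide +kernel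
theorem x7_992 : srchR 1365 (nat_lit 11) (nat_lit 2047) x7T (x7T.get 7) (leafC (nat_lit 11) (nat_lit 2047) B (x7T.get 7) 21) x7L (992 * 1) 1 = true := by decide +kernel
theorem x7_993 : srchR 1365 (nat_lit 11) (nat_lit 2047) x7T (x7T.get 7) (leafC (nat_lit 11) (nat_lit 2047) B (x7T.get 7) 21) x7L (993 * 1) 1 = true := by decide +kernel
theorem x7_994 : srchR 1365 (nat_lit 11) (nat_lit 2047) x7T (x7T.get 7) (leafC (nat_lit 11) (nat_lit 2047) B (x7T.get 7) 21) x7L (994 * 1) 1 = true := by decide +kernel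
theorem x7_995 : srchR 1365 (nat_lit 11) (nat_lit 2047) x7T (x7T.get 7) (leafC (nat_lit 11) (nat_lit 2047) B (x7T.get 7) 21) x7L (995 * 1) 1 = true := by decide +kernel
theorem x7_996 : srchR 1365 (nat_lit 11) (nat_lit 2047) x7T (x7T.get 7) (leafC (nat_lit 11) (nat_lit 2047) B (x7T.get 7) 21) x7L (996 * 1) 1 = true := by decide +kernel
theorem x7_997 : srchR 1365 (nat_lit 11) (nat_lit 2047) x7T (x7T.get 7) (leafC (nat_lit 11) (nat_lit 2047) B (x7T.get 7) 21) x7L (997 * 1) 1 = true := by decide +kernel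
theorem x7_998 : srchR 1365 (nat_lit 11) (nat_lit 2047) x7T (x7T.get 7) (leafC (nat_lit 11) (nat_lit 2047) B (x7T.get 7) 21) x7L (998 * 1) 1 = true := by decide +kernel
theorem x7_999 : srchR 1365 (nat_lit 11) (nat_lit 2047) x7T (x7T.get 7) (leafC (nat_lit 11) (nat_lit 2047) B (x7T.get 7) 21) x7L (999 * 1) 1 = true := by decide +kernel
theorem x7_1000 : srchR 1365 (nat_lit 11) (nat_lit 2047) x7T (x7T.get 7) (leafC (nat_lit 11) (nat_lit 2047) B (x7T.get 7) 21) x7L (1000 * 1) 1 = true := by decide +kernel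
theorem x7_1001 : srchR 1365 (nat_lit 11) (nat_lit 2047) x7T (x7T.get 7) (leafC (nat_lit 11) (nat_lit 2047) B (x7T.get 7) 21) x7L (1001 * 1) 1 = true := by decide +kernel
theorem x7_1002 : srchR 1365 (nat_lit 11) (nat_lit 2047) x7T (x7T.get 7) (leafC (nat_lit 11) (nat_lit 2047) B (x7T.get 7) 21) x7L (1002 * 1) 1 = true := by decide +kernel
theorem x7_1003 : srchR 1365 (nat_lit 11) (nat_lit 2047) x7T (x7T.get 7) (leafC (nat_lit 11) (nat_lit 2047) B (x7T.get 7) 21) x7L (1003 * 1) 1 = true := by decide +kernel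
theorem x7_1004 : srchR 1365 (nat_lit 11) (nat_lit 2047) x7T (x7T.get 7) (leafC (nat_lit 11) (nat_lit 2047) B (x7T.get 7) 21) x7L (1004 * 1) 1 = true := by decide +kernel
theorem x7_1005 : srchR 1365 (nat_lit 11) (nat_lit 2047) x7T (x7T.get 7) (leafC (nat_lit 11) (nat_lit 2047) B (x7T.get 7) 21) x7L (1005 * 1) 1 = true := by decide +kernel
theorem x7_1006 : srchR 1365 (nat_lit 11) (nat_lit 2047) x7T (x7T.get 7) (leafC (nat_lit 11) (nat_lit 2047) B (x7T.get 7) 21) x7L (1006 * 1) 1 = true := by decide +kernel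
theorem x7_1007 : srchR 1365 (nat_lit 11) (nat_lit 2047) x7T (x7T.get 7) (leafC (nat_lit 11) (nat_lit 2047) B (x7T.get 7) 21) x7L (1007 * 1) 1 = true := by decide +kernel
theorem x7_1008 : srchR 1365 (nat_lit 11) (nat_lit 2047) x7T (x7T.get 7) (leafC (nat_lit 11) (nat_lit 2047) B (x7T.get 7) 21) x7L (1008 * 1) 1 = true := by decide +kernel
theorem x7_1009 : srchR 1365 (nat_lit 11) (nat_lit 2047) x7T (x7T.get 7) (leafC (nat_lit 11) (nat_lit 2047) B (x7T.get 7) 21) x7L (1009 * 1) 1 = true := by decide +kernel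
theorem x7_1010 : srchR 1365 (nat_lit 11) (nat_lit 2047) x7T (x7T.get 7) (leafC (nat_lit 11) (nat_lit 2047) B (x7T.get 7) 21) x7L (1010 * 1) 1 = true := by decide +kernel
theorem x7_1011 : srchR 1365 (nat_lit 11) (nat_lit 2047) x7T (x7T.get 7) (leafC (nat_lit 11) (nat_lit 2047) B (x7T.get 7) 21) x7L (1011 * 1) 1 = true := by decide +kernel
theorem x7_1012 : srchR 1365 (nat_lit 11) (nat_lit 2047) x7T (x7T.get 7) (leafC (nat_lit 11) (nat_lit 2047) B (x7T.get 7) 21) x7L (1012 * 1) 1 = true := by decide +kernel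
theorem x7_1013 : srchR 1365 (nat_lit 11) (nat_lit 2047) x7T (x7T.get 7) (leafC (nat_lit 11) (nat_lit 2047) B (x7T.get 7) 21) x7L (1013 * 1) 1 = true := by decide +kernel
theorem x7_1014 : srchR 1365 (nat_lit 11) (nat_lit 2047) x7T (x7T.get 7) (leafC (nat_lit 11) (nat_lit 2047) B (x7T.get 7) 21) x7L (1014 * 1) 1 = true := by decide +kernel
theorem x7_1015 : srchR 1365 (nat_lit 11) (nat_lit 2047) x7T (x7T.get 7) (leafC (nat_lit 11) (nat_lit 2047) B (x7T.get 7) 21) x7L (1015 * 1) 1 = true := by decide +kernel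
theorem x7_1016 : srchR 1365 (nat_lit 11) (nat_lit 2047) x7T (x7T.get 7) (leafC (nat_lit 11) (nat_lit 2047) B (x7T.get 7) 21) x7L (1016 * 1) 1 = true := by decide +kernel
theorem x7_1017 : srchR 1365 (nat_lit 11) (nat_lit 2047) x7T (x7T.get 7) (leafC (nat_lit 11) (nat_lit 2047) B (x7T.get 7) 21) x7L (1017 * 1) 1 = true := by decide +kernel
theorem x7_1018 : srchR 1365 (nat_lit 11) (nat_lit 2047) x7T (x7T.get 7) (leafC (nat_lit 11) (nat_lit 2047) B (x7T.get 7) 21) x7L (1018 * 1) 1 = true := by decide +kernel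
theorem x7_1019 : srchR 1365 (nat_lit 11) (nat_lit 2047) x7T (x7T.get 7) (leafC (nat_lit 11) (nat_lit 2047) B (x7T.get 7) 21) x7L (1019 * 1) 1 = true := by decide +kernel
theorem x7_1020 : srchR 1365 (nat_lit 11) (nat_lit 2047) x7T (x7T.get 7) (leafC (nat_lit 11) (nat_lit 2047) B (x7T.get 7) 21) x7L (1020 * 1) 1 = true := by decide +kernel
theorem x7_1021 : srchR 1365 (nat_lit 11) (nat_lit 2047) x7T (x7T.get 7) (leafC (nat_lit 11) (nat_lit 2047) B (x7T.get 7) 21) x7L (1021 * 1) 1 = true := by decide +kernel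
theorem x7_1022 : srchR 1365 (nat_lit 11) (nat_lit 2047) x7T (x7T.get 7) (leafC (nat_lit 11) (nat_lit 2047) B (x7T.get 7) 21) x7L (1022 * 1) 1 = true := by decide +kernel
theorem x7_1023 : srchR 1365 (nat_lit 11) (nat_lit 2047) x7T (x7T.get 7) (leafC (nat_lit 11) (nat_lit 2047) B (x7T.get 7) 21) x7L (1023 * 1) 1 = true := by decide +kernel
theorem x7_1024 : srchR 1365 (nat_lit 11) (nat_lit 2047) x7T (x7T.get 7) (leafC (nat_lit 11) (nat_lit 2047) B (x7T.get 7) 21) x7L (1024 * 1) 1 = true := by decide +kernel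
theorem x7_1025 : srchR 1365 (nat_lit 11) (nat_lit 2047) x7T (x7T.get 7) (leafC (nat_lit 11) (nat_lit 2047) B (x7T.get 7) 21) x7L (1025 * 1) 1 = true := by decide +kernel
theorem x7_1026 : srchR 1365 (nat_lit 11) (nat_lit 2047) x7T (x7T.get 7) (leafC (nat_lit 11) (nat_lit 2047) B (x7T.get 7) 21) x7L (1026 * 1) 1 = true := by decide +kernel
theorem x7_1027 : srchR 1365 (nat_lit 11) (nat_lit 2047) x7T (x7T.get 7) (leafC (nat_lit 11) (nat_lit 2047) B (x7T.get 7) 21) x7L (1027 * 1) 1 = true := by decide +kernel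
theorem x7_1028 : srchR 1365 (nat_lit 11) (nat_lit 2047) x7T (x7T.get 7) (leafC (nat_lit 11) (nat_lit 2047) B (x7T.get 7) 21) x7L (1028 * 1) 1 = true := by decide +kernel
theorem x7_1029 : srchR 1365 (nat_lit 11) (nat_lit 2047) x7T (x7T.get 7) (leafC (nat_lit 11) (nat_lit 2047) B (x7T.get 7) 21) x7L (1029 * 1) 1 = true := by decide +kernel
theorem x7_1030 : srchR 1365 (nat_lit 11) (nat_lit 2047) x7T (x7T.get 7) (leafC (nat_lit 11) (nat_lit 2047) B (x7T.get 7) 21) x7L (1030 * 1) 1 = true := by decide +kernel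
theorem x7_1031 : srchR 1365 (nat_lit 11) (nat_lit 2047) x7T (x7T.get 7) (leafC (nat_lit 11) (nat_lit 2047) B (x7T.get 7) 21) x7L (1031 * 1) 1 = true := by decide +kernel
theorem x7_1032 : srchR 1365 (nat_lit 11) (nat_lit 2047) x7T (x7T.get 7) (leafC (nat_lit 11) (nat_lit 2047) B (x7T.get 7) 21) x7L (1032 * 1) 1 = true := by decide +kernel
theorem x7_1033 : srchR 1365 (nat_lit 11) (nat_lit 2047) x7T (x7T.get 7) (leafC (nat_lit 11) (nat_lit 2047) B (x7T.get 7) 21) x7L (1033 * 1) 1 = true := by decide +kernel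
theorem x7_1034 : srchR 1365 (nat_lit 11) (nat_lit 2047) x7T (x7T.get 7) (leafC (nat_lit 11) (nat_lit 2047) B (x7T.get 7) 21) x7L (1034 * 1) 1 = true := by decide +kernel
theorem x7_1035 : srchR 1365 (nat_lit 11) (nat_lit 2047) x7T (x7T.get 7) (leafC (nat_lit 11) (nat_lit 2047) B (x7T.get 7) 21) x7L (1035 * 1) 1 = true := by decide +kernel
theorem x7_1036 : srchR 1365 (nat_lit 11) (nat_lit 2047) x7T (x7T.get 7) (leafC (nat_lit 11) (nat_lit 2047) B (x7T.get 7) 21) x7L (1036 * 1) 1 = true := by decide +kernel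
theorem x7_1037 : srchR 1365 (nat_lit 11) (nat_lit 2047) x7T (x7T.get 7) (leafC (nat_lit 11) (nat_lit 2047) B (x7T.get 7) 21) x7L (1037 * 1) 1 = true := by decide +kernel
theorem x7_1038 : srchR 1365 (nat_lit 11) (nat_lit 2047) x7T (x7T.get 7) (leafC (nat_lit 11) (nat_lit 2047) B (x7T.get 7) 21) x7L (1038 * 1) 1 = true := by decide +kernel
theorem x7_1039 : srchR 1365 (nat_lit 11) (nat_lit 2047) x7T (x7T.get 7) (leafC (nat_lit 11) (nat_lit 2047) B (x7T.get 7) 21) x7L (1039 * 1) 1 = true := by decide +kernel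
theorem x7_1040 : srchR 1365 (nat_lit 11) (nat_lit 2047) x7T (x7T.get 7) (leafC (nat_lit 11) (nat_lit 2047) B (x7T.get 7) 21) x7L (1040 * 1) 1 = true := by decide +kernel
theorem x7_1041 : srchR 1365 (nat_lit 11) (nat_lit 2047) x7T (x7T.get 7) (leafC (nat_lit 11) (nat_lit 2047) B (x7T.get 7) 21) x7L (1041 * 1) 1 = true := by decide +kernel
theorem x7_1042 : srchR 1365 (nat_lit 11) (nat_lit 2047) x7T (x7T.get 7) (leafC (nat_lit 11) (nat_lit 2047) B (x7T.get 7) 21) x7L (1042 * 1) 1 = true := by decide +kernel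
theorem x7_1043 : srchR 1365 (nat_lit 11) (nat_lit 2047) x7T (x7T.get 7) (leafC (nat_lit 11) (nat_lit 2047) B (x7T.get 7) 21) x7L (1043 * 1) 1 = true := by decide +kernel
theorem x7_1044 : srchR 1365 (nat_lit 11) (nat_lit 2047) x7T (x7T.get 7) (leafC (nat_lit 11) (nat_lit 2047) B (x7T.get 7) 21) x7L (1044 * 1) 1 = true := by decide +kernel
theorem x7_1045 : srchR 1365 (nat_lit 11) (nat_lit 2047) x7T (x7T.get 7) (leafC (nat_lit 11) (nat_lit 2047) B (x7T.get 7) 21) x7L (1045 * 1) 1 = true := by decide +kernel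
theorem x7_1046 : srchR 1365 (nat_lit 11) (nat_lit 2047) x7T (x7T.get 7) (leafC (nat_lit 11) (nat_lit 2047) B (x7T.get 7) 21) x7L (1046 * 1) 1 = true := by decide +kernel
theorem x7_1047 : srchR 1365 (nat_lit 11) (nat_lit 2047) x7T (x7T.get 7) (leafC (nat_lit 11) (nat_lit 2047) B (x7T.get 7) 21) x7L (1047 * 1) 1 = true := by decide +kernel
theorem x7_1048 : srchR 1365 (nat_lit 11) (nat_lit 2047) x7T (x7T.get 7) (leafC (nat_lit 11) (nat_lit 2047) B (x7T.get 7) 21) x7L (1048 * 1) 1 = true := by decide +kernel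
theorem x7_1049 : srchR 1365 (nat_lit 11) (nat_lit 2047) x7T (x7T.get 7) (leafC (nat_lit 11) (nat_lit 2047) B (x7T.get 7) 21) x7L (1049 * 1) 1 = true := by decide +kernel
theorem x7_1050 : srchR 1365 (nat_lit 11) (nat_lit 2047) x7T (x7T.get 7) (leafC (nat_lit 11) (nat_lit 2047) B (x7T.get 7) 21) x7L (1050 * 1) 1 = true := by decide +kernel
theorem x7_1051 : srchR 1365 (nat_lit 11) (nat_lit 2047) x7T (x7T.get 7) (leafC (nat_lit 11) (nat_lit 2047) B (x7T.get 7) 21) x7L (1051 * 1) 1 = true := by decide +kernel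
theorem x7_1052 : srchR 1365 (nat_lit 11) (nat_lit 2047) x7T (x7T.get 7) (leafC (nat_lit 11) (nat_lit 2047) B (x7T.get 7) 21) x7L (1052 * 1) 1 = true := by decide +kernel
theorem x7_1053 : srchR 1365 (nat_lit 11) (nat_lit 2047) x7T (x7T.get 7) (leafC (nat_lit 11) (nat_lit 2047) B (x7T.get 7) 21) x7L (1053 * 1) 1 = true := by decide +kernel
theorem x7_1054 : srchR 1365 (nat_lit 11) (nat_lit 2047) x7T (x7T.get 7) (leafC (nat_lit 11) (nat_lit 2047) B (x7T.get 7) 21) x7L (1054 * 1) 1 = true := by decide +kernel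
theorem x7_1055 : srchR 1365 (nat_lit 11) (nat_lit 2047) x7T (x7T.get 7) (leafC (nat_lit 11) (nat_lit 2047) B (x7T.get 7) 21) x7L (1055 * 1) 1 = true := by decide +kernel
theorem x7_1056 : srchR 1365 (nat_lit 11) (nat_lit 2047) x7T (x7T.get 7) (leafC (nat_lit 11) (nat_lit 2047) B (x7T.get 7) 21) x7L (1056 * 1) 1 = true := by decide +kernel
theorem x7_1057 : srchR 1365 (nat_lit 11) (nat_lit 2047) x7T (x7T.get 7) (leafC (nat_lit 11) (nat_lit 2047) B (x7T.get 7) 21) x7L (1057 * 1) 1 = true := by decide +kernel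
theorem x7_1058 : srchR 1365 (nat_lit 11) (nat_lit 2047) x7T (x7T.get 7) (leafC (nat_lit 11) (nat_lit 2047) B (x7T.get 7) 21) x7L (1058 * 1) 1 = true := by decide +kernel
theorem x7_1059 : srchR 1365 (nat_lit 11) (nat_lit 2047) x7T (x7T.get 7) (leafC (nat_lit 11) (nat_lit 2047) B (x7T.get 7) 21) x7L (1059 * 1) 1 = true := by decide +kernel
theorem x7_1060 : srchR 1365 (nat_lit 11) (nat_lit 2047) x7T (x7T.get 7) (leafC (nat_lit 11) (nat_lit 2047) B (x7T.get 7) 21) x7L (1060 * 1) 1 = true := by decide +kernel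
theorem x7_1061 : srchR 1365 (nat_lit 11) (nat_lit 2047) x7T (x7T.get 7) (leafC (nat_lit 11) (nat_lit 2047) B (x7T.get 7) 21) x7L (1061 * 1) 1 = true := by decide +kernel
theorem x7_1062 : srchR 1365 (nat_lit 11) (nat_lit 2047) x7T (x7T.get 7) (leafC (nat_lit 11) (nat_lit 2047) B (x7T.get 7) 21) x7L (1062 * 1) 1 = true := by decide +kernel
theorem x7_1063 : srchR 1365 (nat_lit 11) (nat_lit 2047) x7T (x7T.get 7) (leafC (nat_lit 11) (nat_lit 2047) B (x7T.get 7) 21) x7L (1063 * 1) 1 = true := by decide +kernel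
theorem x7_1064 : srchR 1365 (nat_lit 11) (nat_lit 2047) x7T (x7T.get 7) (leafC (nat_lit 11) (nat_lit 2047) B (x7T.get 7) 21) x7L (1064 * 1) 1 = true := by decide +kernel
theorem x7_1065 : srchR 1365 (nat_lit 11) (nat_lit 2047) x7T (x7T.get 7) (leafC (nat_lit 11) (nat_lit 2047) B (x7T.get 7) 21) x7L (1065 * 1) 1 = true := by decide +kernel
theorem x7_1066 : srchR 1365 (nat_lit 11) (nat_lit 2047) x7T (x7T.get 7) (leafC (nat_lit 11) (nat_lit 2047) B (x7T.get 7) 21) x7L (1066 * 1) 1 = true := by decide +kernel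
theorem x7_1067 : srchR 1365 (nat_lit 11) (nat_lit 2047) x7T (x7T.get 7) (leafC (nat_lit 11) (nat_lit 2047) B (x7T.get 7) 21) x7L (1067 * 1) 1 = true := by decide +kernel
theorem x7_1068 : srchR 1365 (nat_lit 11) (nat_lit 2047) x7T (x7T.get 7) (leafC (nat_lit 11) (nat_lit 2047) B (x7T.get 7) 21) x7L (1068 * 1) 1 = true := by decide +kernel
theorem x7_1069 : srchR 1365 (nat_lit 11) (nat_lit 2047) x7T (x7T.get 7) (leafC (nat_lit 11) (nat_lit 2047) B (x7T.get 7) 21) x7L (1069 * 1) 1 = true := by decide +kernel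
theorem x7_1070 : srchR 1365 (nat_lit 11) (nat_lit 2047) x7T (x7T.get 7) (leafC (nat_lit 11) (nat_lit 2047) B (x7T.get 7) 21) x7L (1070 * 1) 1 = true := by decide +kernel
theorem x7_1071 : srchR 1365 (nat_lit 11) (nat_lit 2047) x7T (x7T.get 7) (leafC (nat_lit 11) (nat_lit 2047) B (x7T.get 7) 21) x7L (1071 * 1) 1 = true := by decide +kernel
theorem x7_1072 : srchR 1365 (nat_lit 11) (nat_lit 2047) x7T (x7T.get 7) (leafC (nat_lit 11) (nat_lit 2047) B (x7T.get 7) 21) x7L (1072 * 1) 1 = true := by decide +kernel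
theorem x7_1073 : srchR 1365 (nat_lit 11) (nat_lit 2047) x7T (x7T.get 7) (leafC (nat_lit 11) (nat_lit 2047) B (x7T.get 7) 21) x7L (1073 * 1) 1 = true := by decide +kernel
theorem x7_1074 : srchR 1365 (nat_lit 11) (nat_lit 2047) x7T (x7T.get 7) (leafC (nat_lit 11) (nat_lit 2047) B (x7T.get 7) 21) x7L (1074 * 1) 1 = true := by decide +kernel
theorem x7_1075 : srchR 1365 (nat_lit 11) (nat_lit 2047) x7T (x7T.get 7) (leafC (nat_lit 11) (nat_lit 2047) B (x7T.get 7) 21) x7L (1075 * 1) 1 = true := by decide +kernel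
theorem x7_1076 : srchR 1365 (nat_lit 11) (nat_lit 2047) x7T (x7T.get 7) (leafC (nat_lit 11) (nat_lit 2047) B (x7T.get 7) 21) x7L (1076 * 1) 1 = true := by decide +kernel
theorem x7_1077 : srchR 1365 (nat_lit 11) (nat_lit 2047) x7T (x7T.get 7) (leafC (nat_lit 11) (nat_lit 2047) B (x7T.get 7) 21) x7L (1077 * 1) 1 = true := by decide +kernel
theorem x7_1078 : srchR 1365 (nat_lit 11) (nat_lit 2047) x7T (x7T.get 7) (leafC (nat_lit 11) (nat_lit 2047) B (x7T.get 7) 21) x7L (1078 * 1) 1 = true := by decide +kernel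
theorem x7_1079 : srchR 1365 (nat_lit 11) (nat_lit 2047) x7T (x7T.get 7) (leafC (nat_lit 11) (nat_lit 2047) B (x7T.get 7) 21) x7L (1079 * 1) 1 = true := by decide +kernel
theorem x7_1080 : srchR 1365 (nat_lit 11) (nat_lit 2047) x7T (x7T.get 7) (leafC (nat_lit 11) (nat_lit 2047) B (x7T.get 7) 21) x7L (1080 * 1) 1 = true := by decide +kernel
theorem x7_1081 : srchR 1365 (nat_lit 11) (nat_lit 2047) x7T (x7T.get 7) (leafC (nat_lit 11) (nat_lit 2047) B (x7T.get 7) 21) x7L (1081 * 1) 1 = true := by decide +kernel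
theorem x7_1082 : srchR 1365 (nat_lit 11) (nat_lit 2047) x7T (x7T.get 7) (leafC (nat_lit 11) (nat_lit 2047) B (x7T.get 7) 21) x7L (1082 * 1) 1 = true := by decide +kernel
theorem x7_1083 : srchR 1365 (nat_lit 11) (nat_lit 2047) x7T (x7T.get 7) (leafC (nat_lit 11) (nat_lit 2047) B (x7T.get 7) 21) x7L (1083 * 1) 1 = true := by decide +kernel
theorem x7_1084 : srchR 1365 (nat_lit 11) (nat_lit 2047) x7T (x7T.get 7) (leafC (nat_lit 11) (nat_lit 2047) B (x7T.get 7) 21) x7L (1084 * 1) 1 = true := by decide +kernel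
theorem x7_1085 : srchR 1365 (nat_lit 11) (nat_lit 2047) x7T (x7T.get 7) (leafC (nat_lit 11) (nat_lit 2047) B (x7T.get 7) 21) x7L (1085 * 1) 1 = true := by decide +kernel
theorem x7_1086 : srchR 1365 (nat_lit 11) (nat_lit 2047) x7T (x7T.get 7) (leafC (nat_lit 11) (nat_lit 2047) B (x7T.get 7) 21) x7L (1086 * 1) 1 = true := by decide +kernel
theorem x7_1087 : srchR 1365 (nat_lit 11) (nat_lit 2047) x7T (x7T.get 7) (leafC (nat_lit 11) (nat_lit 2047) B (x7T.get 7) 21) x7L (1087 * 1) 1 = true := by decide +kernel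
theorem x7_1088 : srchR 1365 (nat_lit 11) (nat_lit 2047) x7T (x7T.get 7) (leafC (nat_lit 11) (nat_lit 2047) B (x7T.get 7) 21) x7L (1088 * 1) 1 = true := by decide +kernel
theorem x7_1089 : srchR 1365 (nat_lit 11) (nat_lit 2047) x7T (x7T.get 7) (leafC (nat_lit 11) (nat_lit 2047) B (x7T.get 7) 21) x7L (1089 * 1) 1 = true := by decide +kernel
theorem x7_1090 : srchR 1365 (nat_lit 11) (nat_lit 2047) x7T (x7T.get 7) (leafC (nat_lit 11) (nat_lit 2047) B (x7T.get 7) 21) x7L (1090 * 1) 1 = true := by decide +kernel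
theorem x7_1091 : srchR 1365 (nat_lit 11) (nat_lit 2047) x7T (x7T.get 7) (leafC (nat_lit 11) (nat_lit 2047) B (x7T.get 7) 21) x7L (1091 * 1) 1 = true := by decide +kernel
theorem x7_1092 : srchR 1365 (nat_lit 11) (nat_lit 2047) x7T (x7T.get 7) (leafC (nat_lit 11) (nat_lit 2047) B (x7T.get 7) 21) x7L (1092 * 1) 1 = true := by decide +kernel
theorem x7_1093 : srchR 1365 (nat_lit 11) (nat_lit 2047) x7T (x7T.get 7) (leafC (nat_lit 11) (nat_lit 2047) B (x7T.get 7) 21) x7L (1093 * 1) 1 = true := by decide +kernel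
theorem x7_1094 : srchR 1365 (nat_lit 11) (nat_lit 2047) x7T (x7T.get 7) (leafC (nat_lit 11) (nat_lit 2047) B (x7T.get 7) 21) x7L (1094 * 1) 1 = true := by decide +kernel
theorem x7_1095 : srchR 1365 (nat_lit 11) (nat_lit 2047) x7T (x7T.get 7) (leafC (nat_lit 11) (nat_lit 2047) B (x7T.get 7) 21) x7L (1095 * 1) 1 = true := by decide +kernel
theorem x7_1096 : srchR 1365 (nat_lit 11) (nat_lit 2047) x7T (x7T.get 7) (leafC (nat_lit 11) (nat_lit 2047) B (x7T.get 7) 21) x7L (1096 * 1) 1 = true := by decide +kernel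
theorem x7_1097 : srchR 1365 (nat_lit 11) (nat_lit 2047) x7T (x7T.get 7) (leafC (nat_lit 11) (nat_lit 2047) B (x7T.get 7) 21) x7L (1097 * 1) 1 = true := by decide +kernel
theorem x7_1098 : srchR 1365 (nat_lit 11) (nat_lit 2047) x7T (x7T.get 7) (leafC (nat_lit 11) (nat_lit 2047) B (x7T.get 7) 21) x7L (1098 * 1) 1 = true := by decide +kernel
theorem x7_1099 : srchR 1365 (nat_lit 11) (nat_lit 2047) x7T (x7T.get 7) (leafC (nat_lit 11) (nat_lit 2047) B (x7T.get 7) 21) x7L (1099 * 1) 1 = true := by decide +kernel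
theorem x7_1100 : srchR 1365 (nat_lit 11) (nat_lit 2047) x7T (x7T.get 7) (leafC (nat_lit 11) (nat_lit 2047) B (x7T.get 7) 21) x7L (1100 * 1) 1 = true := by decide +kernel
theorem x7_1101 : srchR 1365 (nat_lit 11) (nat_lit 2047) x7T (x7T.get 7) (leafC (nat_lit 11) (nat_lit 2047) B (x7T.get 7) 21) x7L (1101 * 1) 1 = true := by decide +kernel
theorem x7_1102 : srchR 1365 (nat_lit 11) (nat_lit 2047) x7T (x7T.get 7) (leafC (nat_lit 11) (nat_lit 2047) B (x7T.get 7) 21) x7L (1102 * 1) 1 = true := by decide +kernel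
theorem x7_1103 : srchR 1365 (nat_lit 11) (nat_lit 2047) x7T (x7T.get 7) (leafC (nat_lit 11) (nat_lit 2047) B (x7T.get 7) 21) x7L (1103 * 1) 1 = true := by decide +kernel
theorem x7_1104 : srchR 1365 (nat_lit 11) (nat_lit 2047) x7T (x7T.get 7) (leafC (nat_lit 11) (nat_lit 2047) B (x7T.get 7) 21) x7L (1104 * 1) 1 = true := by decide +kernel
theorem x7_1105 : srchR 1365 (nat_lit 11) (nat_lit 2047) x7T (x7T.get 7) (leafC (nat_lit 11) (nat_lit 2047) B (x7T.get 7) 21) x7L (1105 * 1) 1 = true := by decide +kernel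
theorem x7_1106 : srchR 1365 (nat_lit 11) (nat_lit 2047) x7T (x7T.get 7) (leafC (nat_lit 11) (nat_lit 2047) B (x7T.get 7) 21) x7L (1106 * 1) 1 = true := by decide +kernel
theorem x7_1107 : srchR 1365 (nat_lit 11) (nat_lit 2047) x7T (x7T.get 7) (leafC (nat_lit 11) (nat_lit 2047) B (x7T.get 7) 21) x7L (1107 * 1) 1 = true := by decide +kernel
theorem x7_1108 : srchR 1365 (nat_lit 11) (nat_lit 2047) x7T (x7T.get 7) (leafC (nat_lit 11) (nat_lit 2047) B (x7T.get 7) 21) x7L (1108 * 1) 1 = true := by decide +kernel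
theorem x7_1109 : srchR 1365 (nat_lit 11) (nat_lit 2047) x7T (x7T.get 7) (leafC (nat_lit 11) (nat_lit 2047) B (x7T.get 7) 21) x7L (1109 * 1) 1 = true := by decide +kernel
theorem x7_1110 : srchR 1365 (nat_lit 11) (nat_lit 2047) x7T (x7T.get 7) (leafC (nat_lit 11) (nat_lit 2047) B (x7T.get 7) 21) x7L (1110 * 1) 1 = true := by decide +kernel
theorem x7_1111 : srchR 1365 (nat_lit 11) (nat_lit 2047) x7T (x7T.get 7) (leafC (nat_lit 11) (nat_lit 2047) B (x7T.get 7) 21) x7L (1111 * 1) 1 = true := by decide +kernel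
theorem x7_1112 : srchR 1365 (nat_lit 11) (nat_lit 2047) x7T (x7T.get 7) (leafC (nat_lit 11) (nat_lit 2047) B (x7T.get 7) 21) x7L (1112 * 1) 1 = true := by decide +kernel
theorem x7_1113 : srchR 1365 (nat_lit 11) (nat_lit 2047) x7T (x7T.get 7) (leafC (nat_lit 11) (nat_lit 2047) B (x7T.get 7) 21) x7L (1113 * 1) 1 = true := by decide +kernel
theorem x7_1114 : srchR 1365 (nat_lit 11) (nat_lit 2047) x7T (x7T.get 7) (leafC (nat_lit 11) (nat_lit 2047) B (x7T.get 7) 21) x7L (1114 * 1) 1 = true := by decide +kernel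
theorem x7_1115 : srchR 1365 (nat_lit 11) (nat_lit 2047) x7T (x7T.get 7) (leafC (nat_lit 11) (nat_lit 2047) B (x7T.get 7) 21) x7L (1115 * 1) 1 = true := by decide +kernel
theorem x7_1116 : srchR 1365 (nat_lit 11) (nat_lit 2047) x7T (x7T.get 7) (leafC (nat_lit 11) (nat_lit 2047) B (x7T.get 7) 21) x7L (1116 * 1) 1 = true := by decide +kernel
theorem x7_1117 : srchR 1365 (nat_lit 11) (nat_lit 2047) x7T (x7T.get 7) (leafC (nat_lit 11) (nat_lit 2047) B (x7T.get 7) 21) x7L (1117 * 1) 1 = true := by decide +kernel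
theorem x7_1118 : srchR 1365 (nat_lit 11) (nat_lit 2047) x7T (x7T.get 7) (leafC (nat_lit 11) (nat_lit 2047) B (x7T.get 7) 21) x7L (1118 * 1) 1 = true := by decide +kernel
theorem x7_1119 : srchR 1365 (nat_lit 11) (nat_lit 2047) x7T (x7T.get 7) (leafC (nat_lit 11) (nat_lit 2047) B (x7T.get 7) 21) x7L (1119 * 1) 1 = true := by decide +kernel
theorem x7_1120 : srchR 1365 (nat_lit 11) (nat_lit 2047) x7T (x7T.get 7) (leafC (nat_lit 11) (nat_lit 2047) B (x7T.get 7) 21) x7L (1120 * 1) 1 = true := by decide +kernel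
theorem x7_1121 : srchR 1365 (nat_lit 11) (nat_lit 2047) x7T (x7T.get 7) (leafC (nat_lit 11) (nat_lit 2047) B (x7T.get 7) 21) x7L (1121 * 1) 1 = true := by decide +kernel
theorem x7_1122 : srchR 1365 (nat_lit 11) (nat_lit 2047) x7T (x7T.get 7) (leafC (nat_lit 11) (nat_lit 2047) B (x7T.get 7) 21) x7L (1122 * 1) 1 = true := by decide +kernel
theorem x7_1123 : srchR 1365 (nat_lit 11) (nat_lit 2047) x7T (x7T.get 7) (leafC (nat_lit 11) (nat_lit 2047) B (x7T.get 7) 21) x7L (1123 * 1) 1 = true := by decide +kernel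
theorem x7_1124 : srchR 1365 (nat_lit 11) (nat_lit 2047) x7T (x7T.get 7) (leafC (nat_lit 11) (nat_lit 2047) B (x7T.get 7) 21) x7L (1124 * 1) 1 = true := by decide +kernel
theorem x7_1125 : srchR 1365 (nat_lit 11) (nat_lit 2047) x7T (x7T.get 7) (leafC (nat_lit 11) (nat_lit 2047) B (x7T.get 7) 21) x7L (1125 * 1) 1 = true := by decide +kernel
theorem x7_1126 : srchR 1365 (nat_lit 11) (nat_lit 2047) x7T (x7T.get 7) (leafC (nat_lit 11) (nat_lit 2047) B (x7T.get 7) 21) x7L (1126 * 1) 1 = true := by decide +kernel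
theorem x7_1127 : srchR 1365 (nat_lit 11) (nat_lit 2047) x7T (x7T.get 7) (leafC (nat_lit 11) (nat_lit 2047) B (x7T.get 7) 21) x7L (1127 * 1) 1 = true := by decide +kernel
theorem x7_1128 : srchR 1365 (nat_lit 11) (nat_lit 2047) x7T (x7T.get 7) (leafC (nat_lit 11) (nat_lit 2047) B (x7T.get 7) 21) x7L (1128 * 1) 1 = true := by decide +kernel
theorem x7_1129 : srchR 1365 (nat_lit 11) (nat_lit 2047) x7T (x7T.get 7) (leafC (nat_lit 11) (nat_lit 2047) B (x7T.get 7) 21) x7L (1129 * 1) 1 = true := by decide +kernel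
theorem x7_1130 : srchR 1365 (nat_lit 11) (nat_lit 2047) x7T (x7T.get 7) (leafC (nat_lit 11) (nat_lit 2047) B (x7T.get 7) 21) x7L (1130 * 1) 1 = true := by decide +kernel
theorem x7_1131 : srchR 1365 (nat_lit 11) (nat_lit 2047) x7T (x7T.get 7) (leafC (nat_lit 11) (nat_lit 2047) B (x7T.get 7) 21) x7L (1131 * 1) 1 = true := by decide +kernel
theorem x7_1132 : srchR 1365 (nat_lit 11) (nat_lit 2047) x7T (x7T.get 7) (leafC (nat_lit 11) (nat_lit 2047) B (x7T.get 7) 21) x7L (1132 * 1) 1 = true := by decide +kernel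
theorem x7_1133 : srchR 1365 (nat_lit 11) (nat_lit 2047) x7T (x7T.get 7) (leafC (nat_lit 11) (nat_lit 2047) B (x7T.get 7) 21) x7L (1133 * 1) 1 = true := by decide +kernel
theorem x7_1134 : srchR 1365 (nat_lit 11) (nat_lit 2047) x7T (x7T.get 7) (leafC (nat_lit 11) (nat_lit 2047) B (x7T.get 7) 21) x7L (1134 * 1) 1 = true := by decide +kernel
theorem x7_1135 : srchR 1365 (nat_lit 11) (nat_lit 2047) x7T (x7T.get 7) (leafC (nat_lit 11) (nat_lit 2047) B (x7T.get 7) 21) x7L (1135 * 1) 1 = true := by decide +kernel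
theorem x7_1136 : srchR 1365 (nat_lit 11) (nat_lit 2047) x7T (x7T.get 7) (leafC (nat_lit 11) (nat_lit 2047) B (x7T.get 7) 21) x7L (1136 * 1) 1 = true := by decide +kernel
theorem x7_1137 : srchR 1365 (nat_lit 11) (nat_lit 2047) x7T (x7T.get 7) (leafC (nat_lit 11) (nat_lit 2047) B (x7T.get 7) 21) x7L (1137 * 1) 1 = true := by decide +kernel
theorem x7_1138 : srchR 1365 (nat_lit 11) (nat_lit 2047) x7T (x7T.get 7) (leafC (nat_lit 11) (nat_lit 2047) B (x7T.get 7) 21) x7L (1138 * 1) 1 = true := by decide +kernel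
theorem x7_1139 : srchR 1365 (nat_lit 11) (nat_lit 2047) x7T (x7T.get 7) (leafC (nat_lit 11) (nat_lit 2047) B (x7T.get 7) 21) x7L (1139 * 1) 1 = true := by decide +kernel
theorem x7_1140 : srchR 1365 (nat_lit 11) (nat_lit 2047) x7T (x7T.get 7) (leafC (nat_lit 11) (nat_lit 2047) B (x7T.get 7) 21) x7L (1140 * 1) 1 = true := by decide +kernel
theorem x7_1141 : srchR 1365 (nat_lit 11) (nat_lit 2047) x7T (x7T.get 7) (leafC (nat_lit 11) (nat_lit 2047) B (x7T.get 7) 21) x7L (1141 * 1) 1 = true := by decide +kernel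
theorem x7_1142 : srchR 1365 (nat_lit 11) (nat_lit 2047) x7T (x7T.get 7) (leafC (nat_lit 11) (nat_lit 2047) B (x7T.get 7) 21) x7L (1142 * 1) 1 = true := by decide +kernel
theorem x7_1143 : srchR 1365 (nat_lit 11) (nat_lit 2047) x7T (x7T.get 7) (leafC (nat_lit 11) (nat_lit 2047) B (x7T.get 7) 21) x7L (1143 * 1) 1 = true := by decide +kernel
theorem x7_1144 : srchR 1365 (nat_lit 11) (nat_lit 2047) x7T (x7T.get 7) (leafC (nat_lit 11) (nat_lit 2047) B (x7T.get 7) 21) x7L (1144 * 1) 1 = true := by decide +kernel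
theorem x7_1145 : srchR 1365 (nat_lit 11) (nat_lit 2047) x7T (x7T.get 7) (leafC (nat_lit 11) (nat_lit 2047) B (x7T.get 7) 21) x7L (1145 * 1) 1 = true := by decide +kernel
theorem x7_1146 : srchR 1365 (nat_lit 11) (nat_lit 2047) x7T (x7T.get 7) (leafC (nat_lit 11) (nat_lit 2047) B (x7T.get 7) 21) x7L (1146 * 1) 1 = true := by decide +kernel
theorem x7_1147 : srchR 1365 (nat_lit 11) (nat_lit 2047) x7T (x7T.get 7) (leafC (nat_lit 11) (nat_lit 2047) B (x7T.get 7) 21) x7L (1147 * 1) 1 = true := by decide +kernel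
theorem x7_1148 : srchR 1365 (nat_lit 11) (nat_lit 2047) x7T (x7T.get 7) (leafC (nat_lit 11) (nat_lit 2047) B (x7T.get 7) 21) x7L (1148 * 1) 1 = true := by decide +kernel
theorem x7_1149 : srchR 1365 (nat_lit 11) (nat_lit 2047) x7T (x7T.get 7) (leafC (nat_lit 11) (nat_lit 2047) B (x7T.get 7) 21) x7L (1149 * 1) 1 = true := by decide +kernel
theorem x7_1150 : srchR 1365 (nat_lit 11) (nat_lit 2047) x7T (x7T.get 7) (leafC (nat_lit 11) (nat_lit 2047) B (x7T.get 7) 21) x7L (1150 * 1) 1 = true := by decide +kernel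
theorem x7_1151 : srchR 1365 (nat_lit 11) (nat_lit 2047) x7T (x7T.get 7) (leafC (nat_lit 11) (nat_lit 2047) B (x7T.get 7) 21) x7L (1151 * 1) 1 = true := by decide +kernel
theorem x7_1152 : srchR 1365 (nat_lit 11) (nat_lit 2047) x7T (x7T.get 7) (leafC (nat_lit 11) (nat_lit 2047) B (x7T.get 7) 21) x7L (1152 * 1) 1 = true := by decide +kernel
theorem x7_1153 : srchR 1365 (nat_lit 11) (nat_lit 2047) x7T (x7T.get 7) (leafC (nat_lit 11) (nat_lit 2047) B (x7T.get 7) 21) x7L (1153 * 1) 1 = true := by decide +kernel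
theorem x7_1154 : srchR 1365 (nat_lit 11) (nat_lit 2047) x7T (x7T.get 7) (leafC (nat_lit 11) (nat_lit 2047) B (x7T.get 7) 21) x7L (1154 * 1) 1 = true := by decide +kernel
theorem x7_1155 : srchR 1365 (nat_lit 11) (nat_lit 2047) x7T (x7T.get 7) (leafC (nat_lit 11) (nat_lit 2047) B (x7T.get 7) 21) x7L (1155 * 1) 1 = true := by decide +kernel
theorem x7_1156 : srchR 1365 (nat_lit 11) (nat_lit 2047) x7T (x7T.get 7) (leafC (nat_lit 11) (nat_lit 2047) B (x7T.get 7) 21) x7L (1156 * 1) 1 = true := by decide +kernel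
theorem x7_1157 : srchR 1365 (nat_lit 11) (nat_lit 2047) x7T (x7T.get 7) (leafC (nat_lit 11) (nat_lit 2047) B (x7T.get 7) 21) x7L (1157 * 1) 1 = true := by decide +kernel
theorem x7_1158 : srchR 1365 (nat_lit 11) (nat_lit 2047) x7T (x7T.get 7) (leafC (nat_lit 11) (nat_lit 2047) B (x7T.get 7) 21) x7L (1158 * 1) 1 = true := by decide +kernel
theorem x7_1159 : srchR 1365 (nat_lit 11) (nat_lit 2047) x7T (x7T.get 7) (leafC (nat_lit 11) (nat_lit 2047) B (x7T.get 7) 21) x7L (1159 * 1) 1 = true := by decide +kernel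
theorem x7_1160 : srchR 1365 (nat_lit 11) (nat_lit 2047) x7T (x7T.get 7) (leafC (nat_lit 11) (nat_lit 2047) B (x7T.get 7) 21) x7L (1160 * 1) 1 = true := by decide +kernel
theorem x7_1161 : srchR 1365 (nat_lit 11) (nat_lit 2047) x7T (x7T.get 7) (leafC (nat_lit 11) (nat_lit 2047) B (x7T.get 7) 21) x7L (1161 * 1) 1 = true := by decide +kernel
theorem x7_1162 : srchR 1365 (nat_lit 11) (nat_lit 2047) x7T (x7T.get 7) (leafC (nat_lit 11) (nat_lit 2047) B (x7T.get 7) 21) x7L (1162 * 1) 1 = true := by decide +kernel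
theorem x7_1163 : srchR 1365 (nat_lit 11) (nat_lit 2047) x7T (x7T.get 7) (leafC (nat_lit 11) (nat_lit 2047) B (x7T.get 7) 21) x7L (1163 * 1) 1 = true := by decide +kernel
theorem x7_1164 : srchR 1365 (nat_lit 11) (nat_lit 2047) x7T (x7T.get 7) (leafC (nat_lit 11) (nat_lit 2047) B (x7T.get 7) 21) x7L (1164 * 1) 1 = true := by decide +kernel
theorem x7_1165 : srchR 1365 (nat_lit 11) (nat_lit 2047) x7T (x7T.get 7) (leafC (nat_lit 11) (nat_lit 2047) B (x7T.get 7) 21) x7L (1165 * 1) 1 = true := by decide +kernel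
theorem x7_1166 : srchR 1365 (nat_lit 11) (nat_lit 2047) x7T (x7T.get 7) (leafC (nat_lit 11) (nat_lit 2047) B (x7T.get 7) 21) x7L (1166 * 1) 1 = true := by decide +kernel
theorem x7_1167 : srchR 1365 (nat_lit 11) (nat_lit 2047) x7T (x7T.get 7) (leafC (nat_lit 11) (nat_lit 2047) B (x7T.get 7) 21) x7L (1167 * 1) 1 = true := by decide +kernel
theorem x7_1168 : srchR 1365 (nat_lit 11) (nat_lit 2047) x7T (x7T.get 7) (leafC (nat_lit 11) (nat_lit 2047) B (x7T.get 7) 21) x7L (1168 * 1) 1 = true := by decide +kernel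
theorem x7_1169 : srchR 1365 (nat_lit 11) (nat_lit 2047) x7T (x7T.get 7) (leafC (nat_lit 11) (nat_lit 2047) B (x7T.get 7) 21) x7L (1169 * 1) 1 = true := by decide +kernel
theorem x7_1170 : srchR 1365 (nat_lit 11) (nat_lit 2047) x7T (x7T.get 7) (leafC (nat_lit 11) (nat_lit 2047) B (x7T.get 7) 21) x7L (1170 * 1) 1 = true := by decide +kernel
theorem x7_1171 : srchR 1365 (nat_lit 11) (nat_lit 2047) x7T (x7T.get 7) (leafC (nat_lit 11) (nat_lit 2047) B (x7T.get 7) 21) x7L (1171 * 1) 1 = true := by decide +kernel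
theorem x7_1172 : srchR 1365 (nat_lit 11) (nat_lit 2047) x7T (x7T.get 7) (leafC (nat_lit 11) (nat_lit 2047) B (x7T.get 7) 21) x7L (1172 * 1) 1 = true := by decide +kernel
theorem x7_1173 : srchR 1365 (nat_lit 11) (nat_lit 2047) x7T (x7T.get 7) (leafC (nat_lit 11) (nat_lit 2047) B (x7T.get 7) 21) x7L (1173 * 1) 1 = true := by decide +kernel
theorem x7_1174 : srchR 1365 (nat_lit 11) (nat_lit 2047) x7T (x7T.get 7) (leafC (nat_lit 11) (nat_lit 2047) B (x7T.get 7) 21) x7L (1174 * 1) 1 = true := by decide +kernel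
theorem x7_1175 : srchR 1365 (nat_lit 11) (nat_lit 2047) x7T (x7T.get 7) (leafC (nat_lit 11) (nat_lit 2047) B (x7T.get 7) 21) x7L (1175 * 1) 1 = true := by decide +kernel
theorem x7_1176 : srchR 1365 (nat_lit 11) (nat_lit 2047) x7T (x7T.get 7) (leafC (nat_lit 11) (nat_lit 2047) B (x7T.get 7) 21) x7L (1176 * 1) 1 = true := by decide +kernel
theorem x7_1177 : srchR 1365 (nat_lit 11) (nat_lit 2047) x7T (x7T.get 7) (leafC (nat_lit 11) (nat_lit 2047) B (x7T.get 7) 21) x7L (1177 * 1) 1 = true := by decide +kernel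
theorem x7_1178 : srchR 1365 (nat_lit 11) (nat_lit 2047) x7T (x7T.get 7) (leafC (nat_lit 11) (nat_lit 2047) B (x7T.get 7) 21) x7L (1178 * 1) 1 = true := by decide +kernel
theorem x7_1179 : srchR 1365 (nat_lit 11) (nat_lit 2047) x7T (x7T.get 7) (leafC (nat_lit 11) (nat_lit 2047) B (x7T.get 7) 21) x7L (1179 * 1) 1 = true := by decide +kernel
theorem x7_1180 : srchR 1365 (nat_lit 11) (nat_lit 2047) x7T (x7T.get 7) (leafC (nat_lit 11) (nat_lit 2047) B (x7T.get 7) 21) x7L (1180 * 1) 1 = true := by decide +kernel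
theorem x7_1181 : srchR 1365 (nat_lit 11) (nat_lit 2047) x7T (x7T.get 7) (leafC (nat_lit 11) (nat_lit 2047) B (x7T.get 7) 21) x7L (1181 * 1) 1 = true := by decide +kernel
theorem x7_1182 : srchR 1365 (nat_lit 11) (nat_lit 2047) x7T (x7T.get 7) (leafC (nat_lit 11) (nat_lit 2047) B (x7T.get 7) 21) x7L (1182 * 1) 1 = true := by decide +kernel
theorem x7_1183 : srchR 1365 (nat_lit 11) (nat_lit 2047) x7T (x7T.get 7) (leafC (nat_lit 11) (nat_lit 2047) B (x7T.get 7) 21) x7L (1183 * 1) 1 = true := by decide +kernel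
theorem x7_1184 : srchR 1365 (nat_lit 11) (nat_lit 2047) x7T (x7T.get 7) (leafC (nat_lit 11) (nat_lit 2047) B (x7T.get 7) 21) x7L (1184 * 1) 1 = true := by decide +kernel
theorem x7_1185 : srchR 1365 (nat_lit 11) (nat_lit 2047) x7T (x7T.get 7) (leafC (nat_lit 11) (nat_lit 2047) B (x7T.get 7) 21) x7L (1185 * 1) 1 = true := by decide +kernel
theorem x7_1186 : srchR 1365 (nat_lit 11) (nat_lit 2047) x7T (x7T.get 7) (leafC (nat_lit 11) (nat_lit 2047) B (x7T.get 7) 21) x7L (1186 * 1) 1 = true := by decide +kernel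
theorem x7_1187 : srchR 1365 (nat_lit 11) (nat_lit 2047) x7T (x7T.get 7) (leafC (nat_lit 11) (nat_lit 2047) B (x7T.get 7) 21) x7L (1187 * 1) 1 = true := by decide +kernel
theorem x7_1188 : srchR 1365 (nat_lit 11) (nat_lit 2047) x7T (x7T.get 7) (leafC (nat_lit 11) (nat_lit 2047) B (x7T.get 7) 21) x7L (1188 * 1) 1 = true := by decide +kernel
theorem x7_1189 : srchR 1365 (nat_lit 11) (nat_lit 2047) x7T (x7T.get 7) (leafC (nat_lit 11) (nat_lit 2047) B (x7T.get 7) 21) x7L (1189 * 1) 1 = true := by decide +kernel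
theorem x7_1190 : srchR 1365 (nat_lit 11) (nat_lit 2047) x7T (x7T.get 7) (leafC (nat_lit 11) (nat_lit 2047) B (x7T.get 7) 21) x7L (1190 * 1) 1 = true := by decide +kernel
theorem x7_1191 : srchR 1365 (nat_lit 11) (nat_lit 2047) x7T (x7T.get 7) (leafC (nat_lit 11) (nat_lit 2047) B (x7T.get 7) 21) x7L (1191 * 1) 1 = true := by decide +kernel
theorem x7_1192 : srchR 1365 (nat_lit 11) (nat_lit 2047) x7T (x7T.get 7) (leafC (nat_lit 11) (nat_lit 2047) B (x7T.get 7) 21) x7L (1192 * 1) 1 = true := by decide +kernel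
theorem x7_1193 : srchR 1365 (nat_lit 11) (nat_lit 2047) x7T (x7T.get 7) (leafC (nat_lit 11) (nat_lit 2047) B (x7T.get 7) 21) x7L (1193 * 1) 1 = true := by decide +kernel
theorem x7_1194 : srchR 1365 (nat_lit 11) (nat_lit 2047) x7T (x7T.get 7) (leafC (nat_lit 11) (nat_lit 2047) B (x7T.get 7) 21) x7L (1194 * 1) 1 = true := by decide +kernel
theorem x7_1195 : srchR 1365 (nat_lit 11) (nat_lit 2047) x7T (x7T.get 7) (leafC (nat_lit 11) (nat_lit 2047) B (x7T.get 7) 21) x7L (1195 * 1) 1 = true := by decide +kernel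
theorem x7_1196 : srchR 1365 (nat_lit 11) (nat_lit 2047) x7T (x7T.get 7) (leafC (nat_lit 11) (nat_lit 2047) B (x7T.get 7) 21) x7L (1196 * 1) 1 = true := by decide +kernel
theorem x7_1197 : srchR 1365 (nat_lit 11) (nat_lit 2047) x7T (x7T.get 7) (leafC (nat_lit 11) (nat_lit 2047) B (x7T.get 7) 21) x7L (1197 * 1) 1 = true := by decide +kernel
theorem x7_1198 : srchR 1365 (nat_lit 11) (nat_lit 2047) x7T (x7T.get 7) (leafC (nat_lit 11) (nat_lit 2047) B (x7T.get 7) 21) x7L (1198 * 1) 1 = true := by decide +kernel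
theorem x7_1199 : srchR 1365 (nat_lit 11) (nat_lit 2047) x7T (x7T.get 7) (leafC (nat_lit 11) (nat_lit 2047) B (x7T.get 7) 21) x7L (1199 * 1) 1 = true := by decide +kernel
theorem x7_1200 : srchR 1365 (nat_lit 11) (nat_lit 2047) x7T (x7T.get 7) (leafC (nat_lit 11) (nat_lit 2047) B (x7T.get 7) 21) x7L (1200 * 1) 1 = true := by decide +kernel
theorem x7_1201 : srchR 1365 (nat_lit 11) (nat_lit 2047) x7T (x7T.get 7) (leafC (nat_lit 11) (nat_lit 2047) B (x7T.get 7) 21) x7L (1201 * 1) 1 = true := by decide +kernel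
theorem x7_1202 : srchR 1365 (nat_lit 11) (nat_lit 2047) x7T (x7T.get 7) (leafC (nat_lit 11) (nat_lit 2047) B (x7T.get 7) 21) x7L (1202 * 1) 1 = true := by decide +kernel
theorem x7_1203 : srchR 1365 (nat_lit 11) (nat_lit 2047) x7T (x7T.get 7) (leafC (nat_lit 11) (nat_lit 2047) B (x7T.get 7) 21) x7L (1203 * 1) 1 = true := by decide +kernel
theorem x7_1204 : srchR 1365 (nat_lit 11) (nat_lit 2047) x7T (x7T.get 7) (leafC (nat_lit 11) (nat_lit 2047) B (x7T.get 7) 21) x7L (1204 * 1) 1 = true := by decide +kernel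
theorem x7_1205 : srchR 1365 (nat_lit 11) (nat_lit 2047) x7T (x7T.get 7) (leafC (nat_lit 11) (nat_lit 2047) B (x7T.get 7) 21) x7L (1205 * 1) 1 = true := by decide +kernel
theorem x7_1206 : srchR 1365 (nat_lit 11) (nat_lit 2047) x7T (x7T.get 7) (leafC (nat_lit 11) (nat_lit 2047) B (x7T.get 7) 21) x7L (1206 * 1) 1 = true := by decide +kernel
theorem x7_1207 : srchR 1365 (nat_lit 11) (nat_lit 2047) x7T (x7T.get 7) (leafC (nat_lit 11) (nat_lit 2047) B (x7T.get 7) 21) x7L (1207 * 1) 1 = true := by decide +kernel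
theorem x7_1208 : srchR 1365 (nat_lit 11) (nat_lit 2047) x7T (x7T.get 7) (leafC (nat_lit 11) (nat_lit 2047) B (x7T.get 7) 21) x7L (1208 * 1) 1 = true := by decide +kernel
theorem x7_1209 : srchR 1365 (nat_lit 11) (nat_lit 2047) x7T (x7T.get 7) (leafC (nat_lit 11) (nat_lit 2047) B (x7T.get 7) 21) x7L (1209 * 1) 1 = true := by decide +kernel
theorem x7_1210 : srchR 1365 (nat_lit 11) (nat_lit 2047) x7T (x7T.get 7) (leafC (nat_lit 11) (nat_lit 2047) B (x7T.get 7) 21) x7L (1210 * 1) 1 = true := by decide +kernel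
theorem x7_1211 : srchR 1365 (nat_lit 11) (nat_lit 2047) x7T (x7T.get 7) (leafC (nat_lit 11) (nat_lit 2047) B (x7T.get 7) 21) x7L (1211 * 1) 1 = true := by decide +kernel
theorem x7_1212 : srchR 1365 (nat_lit 11) (nat_lit 2047) x7T (x7T.get 7) (leafC (nat_lit 11) (nat_lit 2047) B (x7T.get 7) 21) x7L (1212 * 1) 1 = true := by decide +kernel
theorem x7_1213 : srchR 1365 (nat_lit 11) (nat_lit 2047) x7T (x7T.get 7) (leafC (nat_lit 11) (nat_lit 2047) B (x7T.get 7) 21) x7L (1213 * 1) 1 = true := by decide +kernel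
theorem x7_1214 : srchR 1365 (nat_lit 11) (nat_lit 2047) x7T (x7T.get 7) (leafC (nat_lit 11) (nat_lit 2047) B (x7T.get 7) 21) x7L (1214 * 1) 1 = true := by decide +kernel
theorem x7_1215 : srchR 1365 (nat_lit 11) (nat_lit 2047) x7T (x7T.get 7) (leafC (nat_lit 11) (nat_lit 2047) B (x7T.get 7) 21) x7L (1215 * 1) 1 = true := by decide +kernel
theorem x7_1216 : srchR 1365 (nat_lit 11) (nat_lit 2047) x7T (x7T.get 7) (leafC (nat_lit 11) (nat_lit 2047) B (x7T.get 7) 21) x7L (1216 * 1) 1 = true := by decide +kernel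
theorem x7_1217 : srchR 1365 (nat_lit 11) (nat_lit 2047) x7T (x7T.get 7) (leafC (nat_lit 11) (nat_lit 2047) B (x7T.get 7) 21) x7L (1217 * 1) 1 = true := by decide +kernel
theorem x7_1218 : srchR 1365 (nat_lit 11) (nat_lit 2047) x7T (x7T.get 7) (leafC (nat_lit 11) (nat_lit 2047) B (x7T.get 7) 21) x7L (1218 * 1) 1 = true := by decide +kernel
theorem x7_1219 : srchR 1365 (nat_lit 11) (nat_lit 2047) x7T (x7T.get 7) (leafC (nat_lit 11) (nat_lit 2047) B (x7T.get 7) 21) x7L (1219 * 1) 1 = true := by decide +kernel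
theorem x7_1220 : srchR 1365 (nat_lit 11) (nat_lit 2047) x7T (x7T.get 7) (leafC (nat_lit 11) (nat_lit 2047) B (x7T.get 7) 21) x7L (1220 * 1) 1 = true := by decide +kernel
theorem x7_1221 : srchR 1365 (nat_lit 11) (nat_lit 2047) x7T (x7T.get 7) (leafC (nat_lit 11) (nat_lit 2047) B (x7T.get 7) 21) x7L (1221 * 1) 1 = true := by decide +kernel
theorem x7_1222 : srchR 1365 (nat_lit 11) (nat_lit 2047) x7T (x7T.get 7) (leafC (nat_lit 11) (nat_lit 2047) B (x7T.get 7) 21) x7L (1222 * 1) 1 = true := by decide +kernel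
theorem x7_1223 : srchR 1365 (nat_lit 11) (nat_lit 2047) x7T (x7T.get 7) (leafC (nat_lit 11) (nat_lit 2047) B (x7T.get 7) 21) x7L (1223 * 1) 1 = true := by decide +kernel
theorem x7_1224 : srchR 1365 (nat_lit 11) (nat_lit 2047) x7T (x7T.get 7) (leafC (nat_lit 11) (nat_lit 2047) B (x7T.get 7) 21) x7L (1224 * 1) 1 = true := by decide +kernel
theorem x7_1225 : srchR 1365 (nat_lit 11) (nat_lit 2047) x7T (x7T.get 7) (leafC (nat_lit 11) (nat_lit 2047) B (x7T.get 7) 21) x7L (1225 * 1) 1 = true := by decide +kernel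
theorem x7_1226 : srchR 1365 (nat_lit 11) (nat_lit 2047) x7T (x7T.get 7) (leafC (nat_lit 11) (nat_lit 2047) B (x7T.get 7) 21) x7L (1226 * 1) 1 = true := by decide +kernel
theorem x7_1227 : srchR 1365 (nat_lit 11) (nat_lit 2047) x7T (x7T.get 7) (leafC (nat_lit 11) (nat_lit 2047) B (x7T.get 7) 21) x7L (1227 * 1) 1 = true := by decide +kernel
theorem x7_1228 : srchR 1365 (nat_lit 11) (nat_lit 2047) x7T (x7T.get 7) (leafC (nat_lit 11) (nat_lit 2047) B (x7T.get 7) 21) x7L (1228 * 1) 1 = true := by decide +kernel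
theorem x7_1229 : srchR 1365 (nat_lit 11) (nat_lit 2047) x7T (x7T.get 7) (leafC (nat_lit 11) (nat_lit 2047) B (x7T.get 7) 21) x7L (1229 * 1) 1 = true := by decide +kernel
theorem x7_1230 : srchR 1365 (nat_lit 11) (nat_lit 2047) x7T (x7T.get 7) (leafC (nat_lit 11) (nat_lit 2047) B (x7T.get 7) 21) x7L (1230 * 1) 1 = true := by decide +kernel
theorem x7_1231 : srchR 1365 (nat_lit 11) (nat_lit 2047) x7T (x7T.get 7) (leafC (nat_lit 11) (nat_lit 2047) B (x7T.get 7) 21) x7L (1231 * 1) 1 = true := by decide +kernel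
theorem x7_1232 : srchR 1365 (nat_lit 11) (nat_lit 2047) x7T (x7T.get 7) (leafC (nat_lit 11) (nat_lit 2047) B (x7T.get 7) 21) x7L (1232 * 1) 1 = true := by decide +kernel
theorem x7_1233 : srchR 1365 (nat_lit 11) (nat_lit 2047) x7T (x7T.get 7) (leafC (nat_lit 11) (nat_lit 2047) B (x7T.get 7) 21) x7L (1233 * 1) 1 = true := by decide +kernel
theorem x7_1234 : srchR 1365 (nat_lit 11) (nat_lit 2047) x7T (x7T.get 7) (leafC (nat_lit 11) (nat_lit 2047) B (x7T.get 7) 21) x7L (1234 * 1) 1 = true := by decide +kernel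
theorem x7_1235 : srchR 1365 (nat_lit 11) (nat_lit 2047) x7T (x7T.get 7) (leafC (nat_lit 11) (nat_lit 2047) B (x7T.get 7) 21) x7L (1235 * 1) 1 = true := by decide +kernel
theorem x7_1236 : srchR 1365 (nat_lit 11) (nat_lit 2047) x7T (x7T.get 7) (leafC (nat_lit 11) (nat_lit 2047) B (x7T.get 7) 21) x7L (1236 * 1) 1 = true := by decide +kernel
theorem x7_1237 : srchR 1365 (nat_lit 11) (nat_lit 2047) x7T (x7T.get 7) (leafC (nat_lit 11) (nat_lit 2047) B (x7T.get 7) 21) x7L (1237 * 1) 1 = true := by decide +kernel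
theorem x7_1238 : srchR 1365 (nat_lit 11) (nat_lit 2047) x7T (x7T.get 7) (leafC (nat_lit 11) (nat_lit 2047) B (x7T.get 7) 21) x7L (1238 * 1) 1 = true := by decide +kernel
theorem x7_1239 : srchR 1365 (nat_lit 11) (nat_lit 2047) x7T (x7T.get 7) (leafC (nat_lit 11) (nat_lit 2047) B (x7T.get 7) 21) x7L (1239 * 1) 1 = true := by decide +kernel
theorem x7_1240 : srchR 1365 (nat_lit 11) (nat_lit 2047) x7T (x7T.get 7) (leafC (nat_lit 11) (nat_lit 2047) B (x7T.get 7) 21) x7L (1240 * 1) 1 = true := by decide +kernel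
theorem x7_1241 : srchR 1365 (nat_lit 11) (nat_lit 2047) x7T (x7T.get 7) (leafC (nat_lit 11) (nat_lit 2047) B (x7T.get 7) 21) x7L (1241 * 1) 1 = true := by decide +kernel
theorem x7_1242 : srchR 1365 (nat_lit 11) (nat_lit 2047) x7T (x7T.get 7) (leafC (nat_lit 11) (nat_lit 2047) B (x7T.get 7) 21) x7L (1242 * 1) 1 = true := by decide +kernel
theorem x7_1243 : srchR 1365 (nat_lit 11) (nat_lit 2047) x7T (x7T.get 7) (leafC (nat_lit 11) (nat_lit 2047) B (x7T.get 7) 21) x7L (1243 * 1) 1 = true := by decide +kernel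
theorem x7_1244 : srchR 1365 (nat_lit 11) (nat_lit 2047) x7T (x7T.get 7) (leafC (nat_lit 11) (nat_lit 2047) B (x7T.get 7) 21) x7L (1244 * 1) 1 = true := by decide +kernel
theorem x7_1245 : srchR 1365 (nat_lit 11) (nat_lit 2047) x7T (x7T.get 7) (leafC (nat_lit 11) (nat_lit 2047) B (x7T.get 7) 21) x7L (1245 * 1) 1 = true := by decide +kernel
theorem x7_1246 : srchR 1365 (nat_lit 11) (nat_lit 2047) x7T (x7T.get 7) (leafC (nat_lit 11) (nat_lit 2047) B (x7T.get 7) 21) x7L (1246 * 1) 1 = true := by decide +kernel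
theorem x7_1247 : srchR 1365 (nat_lit 11) (nat_lit 2047) x7T (x7T.get 7) (leafC (nat_lit 11) (nat_lit 2047) B (x7T.get 7) 21) x7L (1247 * 1) 1 = true := by decide +kernel
theorem x7_1248 : srchR 1365 (nat_lit 11) (nat_lit 2047) x7T (x7T.get 7) (leafC (nat_lit 11) (nat_lit 2047) B (x7T.get 7) 21) x7L (1248 * 1) 1 = true := by decide +kernel
theorem x7_1249 : srchR 1365 (nat_lit 11) (nat_lit 2047) x7T (x7T.get 7) (leafC (nat_lit 11) (nat_lit 2047) B (x7T.get 7) 21) x7L (1249 * 1) 1 = true := by decide +kernel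
theorem x7_1250 : srchR 1365 (nat_lit 11) (nat_lit 2047) x7T (x7T.get 7) (leafC (nat_lit 11) (nat_lit 2047) B (x7T.get 7) 21) x7L (1250 * 1) 1 = true := by decide +kernel
theorem x7_1251 : srchR 1365 (nat_lit 11) (nat_lit 2047) x7T (x7T.get 7) (leafC (nat_lit 11) (nat_lit 2047) B (x7T.get 7) 21) x7L (1251 * 1) 1 = true := by decide +kernel
theorem x7_1252 : srchR 1365 (nat_lit 11) (nat_lit 2047) x7T (x7T.get 7) (leafC (nat_lit 11) (nat_lit 2047) B (x7T.get 7) 21) x7L (1252 * 1) 1 = true := by decide +kernel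
theorem x7_1253 : srchR 1365 (nat_lit 11) (nat_lit 2047) x7T (x7T.get 7) (leafC (nat_lit 11) (nat_lit 2047) B (x7T.get 7) 21) x7L (1253 * 1) 1 = true := by decide +kernel
theorem x7_1254 : srchR 1365 (nat_lit 11) (nat_lit 2047) x7T (x7T.get 7) (leafC (nat_lit 11) (nat_lit 2047) B (x7T.get 7) 21) x7L (1254 * 1) 1 = true := by decide +kernel
theorem x7_1255 : srchR 1365 (nat_lit 11) (nat_lit 2047) x7T (x7T.get 7) (leafC (nat_lit 11) (nat_lit 2047) B (x7T.get 7) 21) x7L (1255 * 1) 1 = true := by decide +kernel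
theorem x7_1256 : srchR 1365 (nat_lit 11) (nat_lit 2047) x7T (x7T.get 7) (leafC (nat_lit 11) (nat_lit 2047) B (x7T.get 7) 21) x7L (1256 * 1) 1 = true := by decide +kernel
theorem x7_1257 : srchR 1365 (nat_lit 11) (nat_lit 2047) x7T (x7T.get 7) (leafC (nat_lit 11) (nat_lit 2047) B (x7T.get 7) 21) x7L (1257 * 1) 1 = true := by decide +kernel
theorem x7_1258 : srchR 1365 (nat_lit 11) (nat_lit 2047) x7T (x7T.get 7) (leafC (nat_lit 11) (nat_lit 2047) B (x7T.get 7) 21) x7L (1258 * 1) 1 = true := by decide +kernel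
theorem x7_1259 : srchR 1365 (nat_lit 11) (nat_lit 2047) x7T (x7T.get 7) (leafC (nat_lit 11) (nat_lit 2047) B (x7T.get 7) 21) x7L (1259 * 1) 1 = true := by decide +kernel
theorem x7_1260 : srchR 1365 (nat_lit 11) (nat_lit 2047) x7T (x7T.get 7) (leafC (nat_lit 11) (nat_lit 2047) B (x7T.get 7) 21) x7L (1260 * 1) 1 = true := by decide +kernel
theorem x7_1261 : srchR 1365 (nat_lit 11) (nat_lit 2047) x7T (x7T.get 7) (leafC (nat_lit 11) (nat_lit 2047) B (x7T.get 7) 21) x7L (1261 * 1) 1 = true := by decide +kernel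
theorem x7_1262 : srchR 1365 (nat_lit 11) (nat_lit 2047) x7T (x7T.get 7) (leafC (nat_lit 11) (nat_lit 2047) B (x7T.get 7) 21) x7L (1262 * 1) 1 = true := by decide +kernel
theorem x7_1263 : srchR 1365 (nat_lit 11) (nat_lit 2047) x7T (x7T.get 7) (leafC (nat_lit 11) (nat_lit 2047) B (x7T.get 7) 21) x7L (1263 * 1) 1 = true := by decide +kernel
theorem x7_1264 : srchR 1365 (nat_lit 11) (nat_lit 2047) x7T (x7T.get 7) (leafC (nat_lit 11) (nat_lit 2047) B (x7T.get 7) 21) x7L (1264 * 1) 1 = true := by decide +kernel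
theorem x7_1265 : srchR 1365 (nat_lit 11) (nat_lit 2047) x7T (x7T.get 7) (leafC (nat_lit 11) (nat_lit 2047) B (x7T.get 7) 21) x7L (1265 * 1) 1 = true := by decide +kernel
theorem x7_1266 : srchR 1365 (nat_lit 11) (nat_lit 2047) x7T (x7T.get 7) (leafC (nat_lit 11) (nat_lit 2047) B (x7T.get 7) 21) x7L (1266 * 1) 1 = true := by decide +kernel
theorem x7_1267 : srchR 1365 (nat_lit 11) (nat_lit 2047) x7T (x7T.get 7) (leafC (nat_lit 11) (nat_lit 2047) B (x7T.get 7) 21) x7L (1267 * 1) 1 = true := by decide +kernel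
theorem x7_1268 : srchR 1365 (nat_lit 11) (nat_lit 2047) x7T (x7T.get 7) (leafC (nat_lit 11) (nat_lit 2047) B (x7T.get 7) 21) x7L (1268 * 1) 1 = true := by decide +kernel
theorem x7_1269 : srchR 1365 (nat_lit 11) (nat_lit 2047) x7T (x7T.get 7) (leafC (nat_lit 11) (nat_lit 2047) B (x7T.get 7) 21) x7L (1269 * 1) 1 = true := by decide +kernel
theorem x7_1270 : srchR 1365 (nat_lit 11) (nat_lit 2047) x7T (x7T.get 7) (leafC (nat_lit 11) (nat_lit 2047) B (x7T.get 7) 21) x7L (1270 * 1) 1 = true := by decide +kernel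
theorem x7_1271 : srchR 1365 (nat_lit 11) (nat_lit 2047) x7T (x7T.get 7) (leafC (nat_lit 11) (nat_lit 2047) B (x7T.get 7) 21) x7L (1271 * 1) 1 = true := by decide +kernel
theorem x7_1272 : srchR 1365 (nat_lit 11) (nat_lit 2047) x7T (x7T.get 7) (leafC (nat_lit 11) (nat_lit 2047) B (x7T.get 7) 21) x7L (1272 * 1) 1 = true := by decide +kernel
theorem x7_1273 : srchR 1365 (nat_lit 11) (nat_lit 2047) x7T (x7T.get 7) (leafC (nat_lit 11) (nat_lit 2047) B (x7T.get 7) 21) x7L (1273 * 1) 1 = true := by decide +kernel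
theorem x7_1274 : srchR 1365 (nat_lit 11) (nat_lit 2047) x7T (x7T.get 7) (leafC (nat_lit 11) (nat_lit 2047) B (x7T.get 7) 21) x7L (1274 * 1) 1 = true := by decide +kernel
theorem x7_1275 : srchR 1365 (nat_lit 11) (nat_lit 2047) x7T (x7T.get 7) (leafC (nat_lit 11) (nat_lit 2047) B (x7T.get 7) 21) x7L (1275 * 1) 1 = true := by decide +kernel
theorem x7_1276 : srchR 1365 (nat_lit 11) (nat_lit 2047) x7T (x7T.get 7) (leafC (nat_lit 11) (nat_lit 2047) B (x7T.get 7) 21) x7L (1276 * 1) 1 = true := by decide +kernel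
theorem x7_1277 : srchR 1365 (nat_lit 11) (nat_lit 2047) x7T (x7T.get 7) (leafC (nat_lit 11) (nat_lit 2047) B (x7T.get 7) 21) x7L (1277 * 1) 1 = true := by decide +kernel
theorem x7_1278 : srchR 1365 (nat_lit 11) (nat_lit 2047) x7T (x7T.get 7) (leafC (nat_lit 11) (nat_lit 2047) B (x7T.get 7) 21) x7L (1278 * 1) 1 = true := by decide +kernel
theorem x7_1279 : srchR 1365 (nat_lit 11) (nat_lit 2047) x7T (x7T.get 7) (leafC (nat_lit 11) (nat_lit 2047) B (x7T.get 7) 21) x7L (1279 * 1) 1 = true := by decide +kernel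
theorem x7_1280 : srchR 1365 (nat_lit 11) (nat_lit 2047) x7T (x7T.get 7) (leafC (nat_lit 11) (nat_lit 2047) B (x7T.get 7) 21) x7L (1280 * 1) 1 = true := by decide +kernel
theorem x7_1281 : srchR 1365 (nat_lit 11) (nat_lit 2047) x7T (x7T.get 7) (leafC (nat_lit 11) (nat_lit 2047) B (x7T.get 7) 21) x7L (1281 * 1) 1 = true := by decide +kernel
theorem x7_1282 : srchR 1365 (nat_lit 11) (nat_lit 2047) x7T (x7T.get 7) (leafC (nat_lit 11) (nat_lit 2047) B (x7T.get 7) 21) x7L (1282 * 1) 1 = true := by decide +kernel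
theorem x7_1283 : srchR 1365 (nat_lit 11) (nat_lit 2047) x7T (x7T.get 7) (leafC (nat_lit 11) (nat_lit 2047) B (x7T.get 7) 21) x7L (1283 * 1) 1 = true := by decide +kernel
theorem x7_1284 : srchR 1365 (nat_lit 11) (nat_lit 2047) x7T (x7T.get 7) (leafC (nat_lit 11) (nat_lit 2047) B (x7T.get 7) 21) x7L (1284 * 1) 1 = true := by decide +kernel
theorem x7_1285 : srchR 1365 (nat_lit 11) (nat_lit 2047) x7T (x7T.get 7) (leafC (nat_lit 11) (nat_lit 2047) B (x7T.get 7) 21) x7L (1285 * 1) 1 = true := by decide +kernel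
theorem x7_1286 : srchR 1365 (nat_lit 11) (nat_lit 2047) x7T (x7T.get 7) (leafC (nat_lit 11) (nat_lit 2047) B (x7T.get 7) 21) x7L (1286 * 1) 1 = true := by decide +kernel
theorem x7_1287 : srchR 1365 (nat_lit 11) (nat_lit 2047) x7T (x7T.get 7) (leafC (nat_lit 11) (nat_lit 2047) B (x7T.get 7) 21) x7L (1287 * 1) 1 = true := by decide +kernel
theorem x7_1288 : srchR 1365 (nat_lit 11) (nat_lit 2047) x7T (x7T.get 7) (leafC (nat_lit 11) (nat_lit 2047) B (x7T.get 7) 21) x7L (1288 * 1) 1 = true := by decide +kernel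
theorem x7_1289 : srchR 1365 (nat_lit 11) (nat_lit 2047) x7T (x7T.get 7) (leafC (nat_lit 11) (nat_lit 2047) B (x7T.get 7) 21) x7L (1289 * 1) 1 = true := by decide +kernel
theorem x7_1290 : srchR 1365 (nat_lit 11) (nat_lit 2047) x7T (x7T.get 7) (leafC (nat_lit 11) (nat_lit 2047) B (x7T.get 7) 21) x7L (1290 * 1) 1 = true := by decide +kernel
theorem x7_1291 : srchR 1365 (nat_lit 11) (nat_lit 2047) x7T (x7T.get 7) (leafC (nat_lit 11) (nat_lit 2047) B (x7T.get 7) 21) x7L (1291 * 1) 1 = true := by decide +kernel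
theorem x7_1292 : srchR 1365 (nat_lit 11) (nat_lit 2047) x7T (x7T.get 7) (leafC (nat_lit 11) (nat_lit 2047) B (x7T.get 7) 21) x7L (1292 * 1) 1 = true := by decide +kernel
theorem x7_1293 : srchR 1365 (nat_lit 11) (nat_lit 2047) x7T (x7T.get 7) (leafC (nat_lit 11) (nat_lit 2047) B (x7T.get 7) 21) x7L (1293 * 1) 1 = true := by decide +kernel
theorem x7_1294 : srchR 1365 (nat_lit 11) (nat_lit 2047) x7T (x7T.get 7) (leafC (nat_lit 11) (nat_lit 2047) B (x7T.get 7) 21) x7L (1294 * 1) 1 = true := by decide +kernel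
theorem x7_1295 : srchR 1365 (nat_lit 11) (nat_lit 2047) x7T (x7T.get 7) (leafC (nat_lit 11) (nat_lit 2047) B (x7T.get 7) 21) x7L (1295 * 1) 1 = true := by decide +kernel
theorem x7_1296 : srchR 1365 (nat_lit 11) (nat_lit 2047) x7T (x7T.get 7) (leafC (nat_lit 11) (nat_lit 2047) B (x7T.get 7) 21) x7L (1296 * 1) 1 = true := by decide +kernel
theorem x7_1297 : srchR 1365 (nat_lit 11) (nat_lit 2047) x7T (x7T.get 7) (leafC (nat_lit 11) (nat_lit 2047) B (x7T.get 7) 21) x7L (1297 * 1) 1 = true := by decide +kernel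
theorem x7_1298 : srchR 1365 (nat_lit 11) (nat_lit 2047) x7T (x7T.get 7) (leafC (nat_lit 11) (nat_lit 2047) B (x7T.get 7) 21) x7L (1298 * 1) 1 = true := by decide +kernel
theorem x7_1299 : srchR 1365 (nat_lit 11) (nat_lit 2047) x7T (x7T.get 7) (leafC (nat_lit 11) (nat_lit 2047) B (x7T.get 7) 21) x7L (1299 * 1) 1 = true := by decide +kernel
theorem x7_1300 : srchR 1365 (nat_lit 11) (nat_lit 2047) x7T (x7T.get 7) (leafC (nat_lit 11) (nat_lit 2047) B (x7T.get 7) 21) x7L (1300 * 1) 1 = true := by decide +kernel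
theorem x7_1301 : srchR 1365 (nat_lit 11) (nat_lit 2047) x7T (x7T.get 7) (leafC (nat_lit 11) (nat_lit 2047) B (x7T.get 7) 21) x7L (1301 * 1) 1 = true := by decide +kernel
theorem x7_1302 : srchR 1365 (nat_lit 11) (nat_lit 2047) x7T (x7T.get 7) (leafC (nat_lit 11) (nat_lit 2047) B (x7T.get 7) 21) x7L (1302 * 1) 1 = true := by decide +kernel
theorem x7_1303 : srchR 1365 (nat_lit 11) (nat_lit 2047) x7T (x7T.get 7) (leafC (nat_lit 11) (nat_lit 2047) B (x7T.get 7) 21) x7L (1303 * 1) 1 = true := by decide +kernel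
theorem x7_1304 : srchR 1365 (nat_lit 11) (nat_lit 2047) x7T (x7T.get 7) (leafC (nat_lit 11) (nat_lit 2047) B (x7T.get 7) 21) x7L (1304 * 1) 1 = true := by decide +kernel
theorem x7_1305 : srchR 1365 (nat_lit 11) (nat_lit 2047) x7T (x7T.get 7) (leafC (nat_lit 11) (nat_lit 2047) B (x7T.get 7) 21) x7L (1305 * 1) 1 = true := by decide +kernel
theorem x7_1306 : srchR 1365 (nat_lit 11) (nat_lit 2047) x7T (x7T.get 7) (leafC (nat_lit 11) (nat_lit 2047) B (x7T.get 7) 21) x7L (1306 * 1) 1 = true := by decide +kernel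
theorem x7_1307 : srchR 1365 (nat_lit 11) (nat_lit 2047) x7T (x7T.get 7) (leafC (nat_lit 11) (nat_lit 2047) B (x7T.get 7) 21) x7L (1307 * 1) 1 = true := by decide +kernel
theorem x7_1308 : srchR 1365 (nat_lit 11) (nat_lit 2047) x7T (x7T.get 7) (leafC (nat_lit 11) (nat_lit 2047) B (x7T.get 7) 21) x7L (1308 * 1) 1 = true := by decide +kernel
theorem x7_1309 : srchR 1365 (nat_lit 11) (nat_lit 2047) x7T (x7T.get 7) (leafC (nat_lit 11) (nat_lit 2047) B (x7T.get 7) 21) x7L (1309 * 1) 1 = true := by decide +kernel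
theorem x7_1310 : srchR 1365 (nat_lit 11) (nat_lit 2047) x7T (x7T.get 7) (leafC (nat_lit 11) (nat_lit 2047) B (x7T.get 7) 21) x7L (1310 * 1) 1 = true := by decide +kernel
theorem x7_1311 : srchR 1365 (nat_lit 11) (nat_lit 2047) x7T (x7T.get 7) (leafC (nat_lit 11) (nat_lit 2047) B (x7T.get 7) 21) x7L (1311 * 1) 1 = true := by decide +kernel
theorem x7_1312 : srchR 1365 (nat_lit 11) (nat_lit 2047) x7T (x7T.get 7) (leafC (nat_lit 11) (nat_lit 2047) B (x7T.get 7) 21) x7L (1312 * 1) 1 = true := by decide +kernel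
theorem x7_1313 : srchR 1365 (nat_lit 11) (nat_lit 2047) x7T (x7T.get 7) (leafC (nat_lit 11) (nat_lit 2047) B (x7T.get 7) 21) x7L (1313 * 1) 1 = true := by decide +kernel
theorem x7_1314 : srchR 1365 (nat_lit 11) (nat_lit 2047) x7T (x7T.get 7) (leafC (nat_lit 11) (nat_lit 2047) B (x7T.get 7) 21) x7L (1314 * 1) 1 = true := by decide +kernel
theorem x7_1315 : srchR 1365 (nat_lit 11) (nat_lit 2047) x7T (x7T.get 7) (leafC (nat_lit 11) (nat_lit 2047) B (x7T.get 7) 21) x7L (1315 * 1) 1 = true := by decide +kernel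
theorem x7_1316 : srchR 1365 (nat_lit 11) (nat_lit 2047) x7T (x7T.get 7) (leafC (nat_lit 11) (nat_lit 2047) B (x7T.get 7) 21) x7L (1316 * 1) 1 = true := by decide +kernel
theorem x7_1317 : srchR 1365 (nat_lit 11) (nat_lit 2047) x7T (x7T.get 7) (leafC (nat_lit 11) (nat_lit 2047) B (x7T.get 7) 21) x7L (1317 * 1) 1 = true := by decide +kernel
theorem x7_1318 : srchR 1365 (nat_lit 11) (nat_lit 2047) x7T (x7T.get 7) (leafC (nat_lit 11) (nat_lit 2047) B (x7T.get 7) 21) x7L (1318 * 1) 1 = true := by decide +kernel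
theorem x7_1319 : srchR 1365 (nat_lit 11) (nat_lit 2047) x7T (x7T.get 7) (leafC (nat_lit 11) (nat_lit 2047) B (x7T.get 7) 21) x7L (1319 * 1) 1 = true := by decide +kernel
theorem x7_1320 : srchR 1365 (nat_lit 11) (nat_lit 2047) x7T (x7T.get 7) (leafC (nat_lit 11) (nat_lit 2047) B (x7T.get 7) 21) x7L (1320 * 1) 1 = true := by decide +kernel
theorem x7_1321 : srchR 1365 (nat_lit 11) (nat_lit 2047) x7T (x7T.get 7) (leafC (nat_lit 11) (nat_lit 2047) B (x7T.get 7) 21) x7L (1321 * 1) 1 = true := by decide +kernel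
theorem x7_1322 : srchR 1365 (nat_lit 11) (nat_lit 2047) x7T (x7T.get 7) (leafC (nat_lit 11) (nat_lit 2047) B (x7T.get 7) 21) x7L (1322 * 1) 1 = true := by decide +kernel
theorem x7_1323 : srchR 1365 (nat_lit 11) (nat_lit 2047) x7T (x7T.get 7) (leafC (nat_lit 11) (nat_lit 2047) B (x7T.get 7) 21) x7L (1323 * 1) 1 = true := by decide +kernel
theorem x7_1324 : srchR 1365 (nat_lit 11) (nat_lit 2047) x7T (x7T.get 7) (leafC (nat_lit 11) (nat_lit 2047) B (x7T.get 7) 21) x7L (1324 * 1) 1 = true := by decide +kernel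
theorem x7_1325 : srchR 1365 (nat_lit 11) (nat_lit 2047) x7T (x7T.get 7) (leafC (nat_lit 11) (nat_lit 2047) B (x7T.get 7) 21) x7L (1325 * 1) 1 = true := by decide +kernel
theorem x7_1326 : srchR 1365 (nat_lit 11) (nat_lit 2047) x7T (x7T.get 7) (leafC (nat_lit 11) (nat_lit 2047) B (x7T.get 7) 21) x7L (1326 * 1) 1 = true := by decide +kernel
theorem x7_1327 : srchR 1365 (nat_lit 11) (nat_lit 2047) x7T (x7T.get 7) (leafC (nat_lit 11) (nat_lit 2047) B (x7T.get 7) 21) x7L (1327 * 1) 1 = true := by decide +kernel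
theorem x7_1328 : srchR 1365 (nat_lit 11) (nat_lit 2047) x7T (x7T.get 7) (leafC (nat_lit 11) (nat_lit 2047) B (x7T.get 7) 21) x7L (1328 * 1) 1 = true := by decide +kernel
theorem x7_1329 : srchR 1365 (nat_lit 11) (nat_lit 2047) x7T (x7T.get 7) (leafC (nat_lit 11) (nat_lit 2047) B (x7T.get 7) 21) x7L (1329 * 1) 1 = true := by decide +kernel
theorem x7_1330 : srchR 1365 (nat_lit 11) (nat_lit 2047) x7T (x7T.get 7) (leafC (nat_lit 11) (nat_lit 2047) B (x7T.get 7) 21) x7L (1330 * 1) 1 = true := by decide +kernel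
theorem x7_1331 : srchR 1365 (nat_lit 11) (nat_lit 2047) x7T (x7T.get 7) (leafC (nat_lit 11) (nat_lit 2047) B (x7T.get 7) 21) x7L (1331 * 1) 1 = true := by decide +kernel
theorem x7_1332 : srchR 1365 (nat_lit 11) (nat_lit 2047) x7T (x7T.get 7) (leafC (nat_lit 11) (nat_lit 2047) B (x7T.get 7) 21) x7L (1332 * 1) 1 = true := by decide +kernel
theorem x7_1333 : srchR 1365 (nat_lit 11) (nat_lit 2047) x7T (x7T.get 7) (leafC (nat_lit 11) (nat_lit 2047) B (x7T.get 7) 21) x7L (1333 * 1) 1 = true := by decide +kernel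
theorem x7_1334 : srchR 1365 (nat_lit 11) (nat_lit 2047) x7T (x7T.get 7) (leafC (nat_lit 11) (nat_lit 2047) B (x7T.get 7) 21) x7L (1334 * 1) 1 = true := by decide +kernel
theorem x7_1335 : srchR 1365 (nat_lit 11) (nat_lit 2047) x7T (x7T.get 7) (leafC (nat_lit 11) (nat_lit 2047) B (x7T.get 7) 21) x7L (1335 * 1) 1 = true := by decide +kernel
theorem x7_1336 : srchR 1365 (nat_lit 11) (nat_lit 2047) x7T (x7T.get 7) (leafC (nat_lit 11) (nat_lit 2047) B (x7T.get 7) 21) x7L (1336 * 1) 1 = true := by decide +kernel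
theorem x7_1337 : srchR 1365 (nat_lit 11) (nat_lit 2047) x7T (x7T.get 7) (leafC (nat_lit 11) (nat_lit 2047) B (x7T.get 7) 21) x7L (1337 * 1) 1 = true := by decide +kernel
theorem x7_1338 : srchR 1365 (nat_lit 11) (nat_lit 2047) x7T (x7T.get 7) (leafC (nat_lit 11) (nat_lit 2047) B (x7T.get 7) 21) x7L (1338 * 1) 1 = true := by decide +kernel
theorem x7_1339 : srchR 1365 (nat_lit 11) (nat_lit 2047) x7T (x7T.get 7) (leafC (nat_lit 11) (nat_lit 2047) B (x7T.get 7) 21) x7L (1339 * 1) 1 = true := by decide +kernel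
theorem x7_1340 : srchR 1365 (nat_lit 11) (nat_lit 2047) x7T (x7T.get 7) (leafC (nat_lit 11) (nat_lit 2047) B (x7T.get 7) 21) x7L (1340 * 1) 1 = true := by decide +kernel
theorem x7_1341 : srchR 1365 (nat_lit 11) (nat_lit 2047) x7T (x7T.get 7) (leafC (nat_lit 11) (nat_lit 2047) B (x7T.get 7) 21) x7L (1341 * 1) 1 = true := by decide +kernel
theorem x7_1342 : srchR 1365 (nat_lit 11) (nat_lit 2047) x7T (x7T.get 7) (leafC (nat_lit 11) (nat_lit 2047) B (x7T.get 7) 21) x7L (1342 * 1) 1 = true := by decide +kernel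
theorem x7_1343 : srchR 1365 (nat_lit 11) (nat_lit 2047) x7T (x7T.get 7) (leafC (nat_lit 11) (nat_lit 2047) B (x7T.get 7) 21) x7L (1343 * 1) 1 = true := by decide +kernel
theorem x7_1344 : srchR 1365 (nat_lit 11) (nat_lit 2047) x7T (x7T.get 7) (leafC (nat_lit 11) (nat_lit 2047) B (x7T.get 7) 21) x7L (1344 * 1) 1 = true := by decide +kernel
theorem x7_1345 : srchR 1365 (nat_lit 11) (nat_lit 2047) x7T (x7T.get 7) (leafC (nat_lit 11) (nat_lit 2047) B (x7T.get 7) 21) x7L (1345 * 1) 1 = true := by decide +kernel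
theorem x7_1346 : srchR 1365 (nat_lit 11) (nat_lit 2047) x7T (x7T.get 7) (leafC (nat_lit 11) (nat_lit 2047) B (x7T.get 7) 21) x7L (1346 * 1) 1 = true := by decide +kernel
theorem x7_1347 : srchR 1365 (nat_lit 11) (nat_lit 2047) x7T (x7T.get 7) (leafC (nat_lit 11) (nat_lit 2047) B (x7T.get 7) 21) x7L (1347 * 1) 1 = true := by decide +kernel
theorem x7_1348 : srchR 1365 (nat_lit 11) (nat_lit 2047) x7T (x7T.get 7) (leafC (nat_lit 11) (nat_lit 2047) B (x7T.get 7) 21) x7L (1348 * 1) 1 = true := by decide +kernel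
theorem x7_1349 : srchR 1365 (nat_lit 11) (nat_lit 2047) x7T (x7T.get 7) (leafC (nat_lit 11) (nat_lit 2047) B (x7T.get 7) 21) x7L (1349 * 1) 1 = true := by decide +kernel
theorem x7_1350 : srchR 1365 (nat_lit 11) (nat_lit 2047) x7T (x7T.get 7) (leafC (nat_lit 11) (nat_lit 2047) B (x7T.get 7) 21) x7L (1350 * 1) 1 = true := by decide +kernel
theorem x7_1351 : srchR 1365 (nat_lit 11) (nat_lit 2047) x7T (x7T.get 7) (leafC (nat_lit 11) (nat_lit 2047) B (x7T.get 7) 21) x7L (1351 * 1) 1 = true := by decide +kernel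
theorem x7_1352 : srchR 1365 (nat_lit 11) (nat_lit 2047) x7T (x7T.get 7) (leafC (nat_lit 11) (nat_lit 2047) B (x7T.get 7) 21) x7L (1352 * 1) 1 = true := by decide +kernel
theorem x7_1353 : srchR 1365 (nat_lit 11) (nat_lit 2047) x7T (x7T.get 7) (leafC (nat_lit 11) (nat_lit 2047) B (x7T.get 7) 21) x7L (1353 * 1) 1 = true := by decide +kernel
theorem x7_1354 : srchR 1365 (nat_lit 11) (nat_lit 2047) x7T (x7T.get 7) (leafC (nat_lit 11) (nat_lit 2047) B (x7T.get 7) 21) x7L (1354 * 1) 1 = true := by decide +kernel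
theorem x7_1355 : srchR 1365 (nat_lit 11) (nat_lit 2047) x7T (x7T.get 7) (leafC (nat_lit 11) (nat_lit 2047) B (x7T.get 7) 21) x7L (1355 * 1) 1 = true := by decide +kernel
theorem x7_1356 : srchR 1365 (nat_lit 11) (nat_lit 2047) x7T (x7T.get 7) (leafC (nat_lit 11) (nat_lit 2047) B (x7T.get 7) 21) x7L (1356 * 1) 1 = true := by decide +kernel
theorem x7_1357 : srchR 1365 (nat_lit 11) (nat_lit 2047) x7T (x7T.get 7) (leafC (nat_lit 11) (nat_lit 2047) B (x7T.get 7) 21) x7L (1357 * 1) 1 = true := by decide +kernel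
theorem x7_1358 : srchR 1365 (nat_lit 11) (nat_lit 2047) x7T (x7T.get 7) (leafC (nat_lit 11) (nat_lit 2047) B (x7T.get 7) 21) x7L (1358 * 1) 1 = true := by decide +kernel
theorem x7_1359 : srchR 1365 (nat_lit 11) (nat_lit 2047) x7T (x7T.get 7) (leafC (nat_lit 11) (nat_lit 2047) B (x7T.get 7) 21) x7L (1359 * 1) 1 = true := by decide +kernel
theorem x7_1360 : srchR 1365 (nat_lit 11) (nat_lit 2047) x7T (x7T.get 7) (leafC (nat_lit 11) (nat_lit 2047) B (x7T.get 7) 21) x7L (1360 * 1) 1 = true := by decide +kernel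
theorem x7_1361 : srchR 1365 (nat_lit 11) (nat_lit 2047) x7T (x7T.get 7) (leafC (nat_lit 11) (nat_lit 2047) B (x7T.get 7) 21) x7L (1361 * 1) 1 = true := by decide +kernel
theorem x7_1362 : srchR 1365 (nat_lit 11) (nat_lit 2047) x7T (x7T.get 7) (leafC (nat_lit 11) (nat_lit 2047) B (x7T.get 7) 21) x7L (1362 * 1) 1 = true := by decide +kernel
theorem x7_1363 : srchR 1365 (nat_lit 11) (nat_lit 2047) x7T (x7T.get 7) (leafC (nat_lit 11) (nat_lit 2047) B (x7T.get 7) 21) x7L (1363 * 1) 1 = true := by decide +kernel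
theorem x7_1364 : srchR 1365 (nat_lit 11) (nat_lit 2047) x7T (x7T.get 7) (leafC (nat_lit 11) (nat_lit 2047) B (x7T.get 7) 21) x7L (1364 * 1) 1 = true := by decide +kernel
theorem x7 : Excl P 7 21 ∧ orderOf (x7lets.e 7) = 7 :=
  excl_of_srch x7lets (ofNat_inj 1365) base card (by norm_num) (by norm_num) (Ls := x7L) (by decide +kernel) 1 (by norm_num) fun i hi => by
    have : i < 1365 := by omega
    interval_cases i
    exacts [x7_0, x7_1, x7_2, x7_3, x7_4, x7_5, x7_6, x7_7, x7_8, x7_9, x7_10, x7_11, x7_12, x7_13, x7_14, x7_15, x7_16, x7_17, x7_18, x7_19, x7_20, x7_21, x7_22, x7_23, x7_24, x7_25, x7_26, x7_27, x7_28, x7_29, x7_30, x7_31, x7_32, x7_33, x7_34, x7_35, x7_36, x7_37, x7_38, x7_39, x7_40, x7_41, x7_42, x7_43, x7_44, x7_45, x7_46, x7_47, x7_48, x7_49, x7_50, x7_51, x7_52, x7_53, x7_54, x7_55, x7_56, x7_57, x7_58, x7_59, x7_60, x7_61, x7_62, x7_63, x7_64, x7_65, x7_66, x7_67, x7_68, x7_69, x7_70, x7_71, x7_72, x7_73, x7_74, x7_75, x7_76, x7_77, x7_78, x7_79, x7_80, x7_81,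 x7_82, x7_83, x7_84, x7_85, x7_86, x7_87, x7_88, x7_89, x7_90, x7_91, x7_92, x7_93, x7_94, x7_95, x7_96, x7_97, x7_98, x7_99, x7_100, x7_101, x7_102, x7_103, x7_104, x7_105, x7_106, x7_107, x7_108, x7_109, x7_110, x7_111, x7_112, x7_113, x7_114, x7_115, x7_116, x7_117, x7_118, x7_119, x7_120, x7_121, x7_122, x7_123, x7_124, x7_125, x7_126, x7_127, x7_128, x7_129, x7_130, x7_131, x7_132, x7_133, x7_134, x7_135, x7_136, x7_137, x7_138, x7_139, x7_140, x7_141, x7_142, x7_143, x7_144, x7_145, x7_146, x7_147, x7_148, x7_149, x7_150, x7_151, x7_152, x7_153, x7_154, x7_155, x7_156, x7_157, x7_158, x7_159, x7_160, x7_161, x7_162, x7_163, x7_164, x7_165, x7_166, x7_167, x7_168, x7_169, x7_170, x7_171, x7_172, x7_173, x7_174, x7_175, x7_176, x7_177, x7_178, x7_179, x7_180, x7_181, x7_182, x7_183, x7_184, x7_185, x7_186, x7_187, x7_188, x7_189, x7_190, x7_191, x7_192, x7_193, x7_194, x7_195, x7_196, x7_197, x7_198, x7_199, x7_200, x7_201, x7_202, x7_203, x7_204, x7_205, x7_206, x7_207, x7_208,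 x7_209, x7_210, x7_211, x7_212, x7_213, x7_214, x7_215, x7_216, x7_217, x7_218, x7_219, x7_220, x7_221, x7_222, x7_223, x7_224, x7_225, x7_226, x7_227, x7_228, x7_229, x7_230, x7_231, x7_232, x7_233, x7_234, x7_235, x7_236, x7_237, x7_238, x7_239, x7_240, x7_241, x7_242, x7_243, x7_244, x7_245, x7_246, x7_247, x7_248, x7_249, x7_250, x7_251, x7_252, x7_253, x7_254, x7_255, x7_256, x7_257, x7_258, x7_259, x7_260, x7_261, x7_262, x7_263, x7_264, x7_265, x7_266, x7_267, x7_268, x7_269, x7_270, x7_271, x7_272, x7_273, x7_274, x7_275, x7_276, x7_277, x7_278, x7_279, x7_280, x7_281, x7_282, x7_283, x7_284, x7_285, x7_286, x7_287, x7_288, x7_289, x7_290, x7_291, x7_292, x7_293, x7_294, x7_295, x7_296, x7_297, x7_298, x7_299, x7_300, x7_301, x7_302, x7_303, x7_304, x7_305, x7_306, x7_307, x7_308, x7_309, x7_310, x7_311, x7_312, x7_313, x7_314, x7_315, x7_316, x7_317, x7_318, x7_319, x7_320, x7_321, x7_322, x7_323, x7_324, x7_325, x7_326, x7_327, x7_328, x7_329, x7_330, x7_331, x7_332, x7_333,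 x7_334, x7_335, x7_336, x7_337, x7_338, x7_339, x7_340, x7_341, x7_342, x7_343, x7_344, x7_345, x7_346, x7_347, x7_348, x7_349, x7_350, x7_351, x7_352, x7_353, x7_354, x7_355, x7_356, x7_357, x7_358, x7_359, x7_360, x7_361, x7_362, x7_363, x7_364, x7_365, x7_366, x7_367, x7_368, x7_369, x7_370, x7_371, x7_372, x7_373, x7_374, x7_375, x7_376, x7_377, x7_378, x7_379, x7_380, x7_381, x7_382, x7_383, x7_384, x7_385, x7_386, x7_387, x7_388, x7_389, x7_390, x7_391, x7_392, x7_393, x7_394, x7_395, x7_396, x7_397, x7_398, x7_399, x7_400, x7_401, x7_402, x7_403, x7_404, x7_405, x7_406, x7_407, x7_408, x7_409, x7_410, x7_411, x7_412, x7_413, x7_414, x7_415, x7_416, x7_417, x7_418, x7_419, x7_420, x7_421, x7_422, x7_423, x7_424, x7_425, x7_426, x7_427, x7_428, x7_429, x7_430, x7_431, x7_432, x7_433, x7_434, x7_435, x7_436, x7_437, x7_438, x7_439, x7_440, x7_441, x7_442, x7_443, x7_444, x7_445, x7_446, x7_447, x7_448, x7_449, x7_450, x7_451, x7_452, x7_453, x7_454, x7_455, x7_456, x7_457, x7_458,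 x7_459, x7_460, x7_461, x7_462, x7_463, x7_464, x7_465, x7_466, x7_467, x7_468, x7_469, x7_470, x7_471, x7_472, x7_473, x7_474, x7_475, x7_476, x7_477, x7_478, x7_479, x7_480, x7_481, x7_482, x7_483, x7_484, x7_485, x7_486, x7_487, x7_488, x7_489, x7_490, x7_491, x7_492, x7_493, x7_494, x7_495, x7_496, x7_497, x7_498, x7_499, x7_500, x7_501, x7_502, x7_503, x7_504, x7_505, x7_506, x7_507, x7_508, x7_509, x7_510, x7_511, x7_512, x7_513, x7_514, x7_515, x7_516, x7_517, x7_518, x7_519, x7_520, x7_521, x7_522, x7_523, x7_524, x7_525, x7_526, x7_527, x7_528, x7_529, x7_530, x7_531, x7_532, x7_533, x7_534, x7_535, x7_536, x7_537, x7_538, x7_539, x7_540, x7_541, x7_542, x7_543, x7_544, x7_545, x7_546, x7_547, x7_548, x7_549, x7_550, x7_551, x7_552, x7_553, x7_554, x7_555, x7_556, x7_557, x7_558, x7_559, x7_560, x7_561, x7_562, x7_563, x7_564, x7_565, x7_566, x7_567, x7_568, x7_569, x7_570, x7_571, x7_572, x7_573, x7_574, x7_575, x7_576, x7_577, x7_578, x7_579, x7_580, x7_581, x7_582, x7_583,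 x7_584, x7_585, x7_586, x7_587, x7_588, x7_589, x7_590, x7_591, x7_592, x7_593, x7_594, x7_595, x7_596, x7_597, x7_598, x7_599, x7_600, x7_601, x7_602, x7_603, x7_604, x7_605, x7_606, x7_607, x7_608, x7_609, x7_610, x7_611, x7_612, x7_613, x7_614, x7_615, x7_616, x7_617, x7_618, x7_619, x7_620, x7_621, x7_622, x7_623, x7_624, x7_625, x7_626, x7_627, x7_628, x7_629, x7_630, x7_631, x7_632, x7_633, x7_634, x7_635, x7_636, x7_637, x7_638, x7_639, x7_640, x7_641, x7_642, x7_643, x7_644, x7_645, x7_646, x7_647, x7_648, x7_649, x7_650, x7_651, x7_652, x7_653, x7_654, x7_655, x7_656, x7_657, x7_658, x7_659, x7_660, x7_661, x7_662, x7_663, x7_664, x7_665, x7_666, x7_667, x7_668, x7_669, x7_670, x7_671, x7_672, x7_673, x7_674, x7_675, x7_676, x7_677, x7_678, x7_679, x7_680, x7_681, x7_682, x7_683, x7_684, x7_685, x7_686, x7_687, x7_688, x7_689, x7_690, x7_691, x7_692, x7_693, x7_694, x7_695, x7_696, x7_697, x7_698, x7_699, x7_700, x7_701, x7_702, x7_703, x7_704, x7_705, x7_706, x7_707, x7_708,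 x7_709, x7_710, x7_711, x7_712, x7_713, x7_714, x7_715, x7_716, x7_717, x7_718, x7_719, x7_720, x7_721, x7_722, x7_723, x7_724, x7_725, x7_726, x7_727, x7_728, x7_729, x7_730, x7_731, x7_732, x7_733, x7_734, x7_735, x7_736, x7_737, x7_738, x7_739, x7_740, x7_741, x7_742, x7_743, x7_744, x7_745, x7_746, x7_747, x7_748, x7_749, x7_750, x7_751, x7_752, x7_753, x7_754, x7_755, x7_756, x7_757, x7_758, x7_759, x7_760, x7_761, x7_762, x7_763, x7_764, x7_765, x7_766, x7_767, x7_768, x7_769, x7_770, x7_771, x7_772, x7_773, x7_774, x7_775, x7_776, x7_777, x7_778, x7_779, x7_780, x7_781, x7_782, x7_783, x7_784, x7_785, x7_786, x7_787, x7_788, x7_789, x7_790, x7_791, x7_792, x7_793, x7_794, x7_795, x7_796, x7_797, x7_798, x7_799, x7_800, x7_801, x7_802, x7_803, x7_804, x7_805, x7_806, x7_807, x7_808, x7_809, x7_810, x7_811, x7_812, x7_813, x7_814, x7_815, x7_816, x7_817, x7_818, x7_819, x7_820, x7_821, x7_822, x7_823, x7_824, x7_825, x7_826, x7_827, x7_828, x7_829, x7_830, x7_831, x7_832, x7_833,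 x7_834, x7_835, x7_836, x7_837, x7_838, x7_839, x7_840, x7_841, x7_842, x7_843, x7_844, x7_845, x7_846, x7_847, x7_848, x7_849, x7_850, x7_851, x7_852, x7_853, x7_854, x7_855, x7_856, x7_857, x7_858, x7_859, x7_860, x7_861, x7_862, x7_863, x7_864, x7_865, x7_866, x7_867, x7_868, x7_869, x7_870, x7_871, x7_872, x7_873, x7_874, x7_875, x7_876, x7_877, x7_878, x7_879, x7_880, x7_881, x7_882, x7_883, x7_884, x7_885, x7_886, x7_887, x7_888, x7_889, x7_890, x7_891, x7_892, x7_893, x7_894, x7_895, x7_896, x7_897, x7_898, x7_899, x7_900, x7_901, x7_902, x7_903, x7_904, x7_905, x7_906, x7_907, x7_908, x7_909, x7_910, x7_911, x7_912, x7_913, x7_914, x7_915, x7_916, x7_917, x7_918, x7_919, x7_920, x7_921, x7_922, x7_923, x7_924, x7_925, x7_926, x7_927, x7_928, x7_929, x7_930, x7_931, x7_932, x7_933, x7_934, x7_935, x7_936, x7_937, x7_938, x7_939, x7_940, x7_941, x7_942, x7_943, x7_944, x7_945, x7_946, x7_947, x7_948, x7_949, x7_950, x7_951, x7_952, x7_953, x7_954, x7_955, x7_956, x7_957, x7_958,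 x7_959, x7_960, x7_961, x7_962, x7_963, x7_964, x7_965, x7_966, x7_967, x7_968, x7_969, x7_970, x7_971, x7_972, x7_973, x7_974, x7_975, x7_976, x7_977, x7_978, x7_979, x7_980, x7_981, x7_982, x7_983, x7_984, x7_985, x7_986, x7_987, x7_988, x7_989, x7_990, x7_991, x7_992, x7_993, x7_994, x7_995, x7_996, x7_997, x7_998, x7_999, x7_1000, x7_1001, x7_1002, x7_1003, x7_1004, x7_1005, x7_1006, x7_1007, x7_1008, x7_1009, x7_1010, x7_1011, x7_1012, x7_1013, x7_1014, x7_1015, x7_1016, x7_1017, x7_1018, x7_1019, x7_1020, x7_1021, x7_1022, x7_1023, x7_1024, x7_1025, x7_1026, x7_1027, x7_1028, x7_1029, x7_1030, x7_1031, x7_1032, x7_1033, x7_1034, x7_1035, x7_1036, x7_1037, x7_1038, x7_1039, x7_1040, x7_1041, x7_1042, x7_1043, x7_1044, x7_1045, x7_1046, x7_1047, x7_1048, x7_1049, x7_1050, x7_1051, x7_1052, x7_1053, x7_1054, x7_1055, x7_1056, x7_1057, x7_1058, x7_1059, x7_1060, x7_1061, x7_1062, x7_1063, x7_1064, x7_1065, x7_1066, x7_1067, x7_1068, x7_1069, x7_1070, x7_1071, x7_1072, x7_1073, x7_1074,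 x7_1075, x7_1076, x7_1077, x7_1078, x7_1079, x7_1080, x7_1081, x7_1082, x7_1083, x7_1084, x7_1085, x7_1086, x7_1087, x7_1088, x7_1089, x7_1090, x7_1091, x7_1092, x7_1093, x7_1094, x7_1095, x7_1096, x7_1097, x7_1098, x7_1099, x7_1100, x7_1101, x7_1102, x7_1103, x7_1104, x7_1105, x7_1106, x7_1107, x7_1108, x7_1109, x7_1110, x7_1111, x7_1112, x7_1113, x7_1114, x7_1115, x7_1116, x7_1117, x7_1118, x7_1119, x7_1120, x7_1121, x7_1122, x7_1123, x7_1124, x7_1125, x7_1126, x7_1127, x7_1128, x7_1129, x7_1130, x7_1131, x7_1132, x7_1133, x7_1134, x7_1135, x7_1136, x7_1137, x7_1138, x7_1139, x7_1140, x7_1141, x7_1142, x7_1143, x7_1144, x7_1145, x7_1146, x7_1147, x7_1148, x7_1149, x7_1150, x7_1151, x7_1152, x7_1153, x7_1154, x7_1155, x7_1156, x7_1157, x7_1158, x7_1159, x7_1160, x7_1161, x7_1162, x7_1163, x7_1164, x7_1165, x7_1166, x7_1167, x7_1168, x7_1169, x7_1170, x7_1171, x7_1172, x7_1173, x7_1174, x7_1175, x7_1176, x7_1177, x7_1178, x7_1179, x7_1180, x7_1181, x7_1182, x7_1183, x7_1184, x7_1185,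 x7_1186, x7_1187, x7_1188, x7_1189, x7_1190, x7_1191, x7_1192, x7_1193, x7_1194, x7_1195, x7_1196, x7_1197, x7_1198, x7_1199, x7_1200, x7_1201, x7_1202, x7_1203, x7_1204, x7_1205, x7_1206, x7_1207, x7_1208, x7_1209, x7_1210, x7_1211, x7_1212, x7_1213, x7_1214, x7_1215, x7_1216, x7_1217, x7_1218, x7_1219, x7_1220, x7_1221, x7_1222, x7_1223, x7_1224, x7_1225, x7_1226, x7_1227, x7_1228, x7_1229, x7_1230, x7_1231, x7_1232, x7_1233, x7_1234, x7_1235, x7_1236, x7_1237, x7_1238, x7_1239, x7_1240, x7_1241, x7_1242, x7_1243, x7_1244, x7_1245, x7_1246, x7_1247, x7_1248, x7_1249, x7_1250, x7_1251, x7_1252, x7_1253, x7_1254, x7_1255, x7_1256, x7_1257, x7_1258, x7_1259, x7_1260, x7_1261, x7_1262, x7_1263, x7_1264, x7_1265, x7_1266, x7_1267, x7_1268, x7_1269, x7_1270, x7_1271, x7_1272, x7_1273, x7_1274, x7_1275, x7_1276, x7_1277, x7_1278, x7_1279, x7_1280, x7_1281, x7_1282, x7_1283, x7_1284, x7_1285, x7_1286, x7_1287, x7_1288, x7_1289, x7_1290, x7_1291, x7_1292, x7_1293, x7_1294, x7_1295, x7_1296,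 x7_1297, x7_1298, x7_1299, x7_1300, x7_1301, x7_1302, x7_1303, x7_1304, x7_1305, x7_1306, x7_1307, x7_1308, x7_1309, x7_1310, x7_1311, x7_1312, x7_1313, x7_1314, x7_1315, x7_1316, x7_1317, x7_1318, x7_1319, x7_1320, x7_1321, x7_1322, x7_1323, x7_1324, x7_1325, x7_1326, x7_1327, x7_1328, x7_1329, x7_1330, x7_1331, x7_1332, x7_1333, x7_1334, x7_1335, x7_1336, x7_1337, x7_1338, x7_1339, x7_1340, x7_1341, x7_1342, x7_1343, x7_1344, x7_1345, x7_1346, x7_1347, x7_1348, x7_1349, x7_1350, x7_1351, x7_1352, x7_1353, x7_1354, x7_1355, x7_1356, x7_1357, x7_1358, x7_1359, x7_1360, x7_1361, x7_1362, x7_1363, x7_1364]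
noncomputable def x13t0 : ℕ := (nat_lit 0x4744e92e62b531a0e708c842d9c9271472523df054ae1a73ba83e2caa15ceb99bc9fb8ee9ba763ed374672119e72e504d3fbdb8c2a6169c3d39d4f17ab0f8f6929f3aaa9b664cdf2ca2ca7a6932644fb30dde3997306c1912436f74da2398e6d68ae572b07a8a195fc09a4677d6629e996f0e79b474af488ad4323455290c3c06c300a5bc43a7282ce641b31b385f41eaa550367827e922ee9a82e0aa6e5a262f370afe9864d994e8e288c215867a12d281a00d65ac46071c6c6959f95d72fd36479946cbd9719e6cd21e7c3412ba7baa3ad75b0a7d082757e68e5c3c5531edd0e23e29cb0ece8c62434d5da325e91a78e8b16da0cbed574a14649123ab1b5db4b908b536a90fcd2b9c3e4b1e7dbc949f38a4e9c5a10c022b97c40a8f58b4cd8d55356842f8114964b2589ea8b99bab4316be4e3d3741911a5a484aa074e1b293776889e8bd26705aa941eb614c25b6a349b8a9e58a698fb4f97944837ec1a6c23649d2c17a1ff352b76aa1d677aef94a4c64f6f3a949ed2cecd1165105ed114bbb7c41b205fea709711bd4d4317294855f34c6969651249a9ccade143026e4dcd03c54978fde67a12734b660b9f07972219f19936afba7431880cde974d4387535e2fa5d5085b2089e683b2b66f367a19531b04cc8d6efe184952ac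554fab4863a9bdc02e28033a8db9b833065df94635a50f1c7a95740a092fac282861d76403984de1baab69c7278c92d5770a91ced499f9475d91602bf215fa4722f74c13b4a47c707ce03256a3311ca9ab44303d64c934f4ebdc253f61b1f0c0bd02cd49e7733c61d2ce9ea03306fe20f30446f36a8ad5151f1a50fadea40ecd9fcfa79ab10c017f8e6c45c532d3830b11422776ab72a439b6aad0a7eba42e29723b185a5ec66605056c73ad98a2f3366c90ecd56b7502052559ecd2a925354e320dff9757d6be2871cb9baa75c999f3411b136b7630d0163c3d99145c1d0d19a027426b3c8436b457e3f146139cdc9742e690a5b31f6fcea542c997aeaf636acf7213254e4e06d143e0d22a49661100a024cb3bdd61634c6988d69ae43ca45a79d8376aa5544a860e8265eb148e05f4bf4184a6951463b1a37338edb9f350ede2e22684ebfe85b29574766a32a3544eda2dc425b50a5ef2b838d2edc4179478944b0bb4a393dd104333aad3952b7032d2a4c144e8fcfe5342677054e8f633b4c1242072cd8dcd74f01ca39337d9abec958628c4c80888839904f43e8560abbd652ee361cc5e945096814e93fa9a922988580f75a24ff74731e1a4648cb54a9dbfb8ff13657b0b5905919cbad7a6f94de36c64ec20ca3c739f5114cc3787114d7531c3f4921d125b2df049a2aab848675f8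503a08e44ef21734332939ae1483209bea563eeea2792bc816be99b2b26d32a914c416a4a81cf45d4754ce993155e33e56315e794ec0e1be193709995416680a2e8f2507c089684b288570aa682d68b4ee4ed3864088f9784ba4ee7d9d3bd8576d2544ab3318fa5169c8428789c929b3465e171b1e6ff001203da3c8a0e7f16e844abd9836546350aa0bc636934e6a31a4d7146023773fc9e6769694c2eb9b75147c8655931ac5bea48ea467498ff1004b289327e50364558bf960a80a2f461ee48e3f891e03c50982d721f3c5438e2ce6b2460729a52b6f37aeaa493cf8209f225c4a4cce0d24c683aed354843535ec055cb2c6e2f7de6486a3ea34adb125defd51da087127722c2db8813466950d7d50717bab1666a1cacbd5928e98fc3fe4149ca5aae42ed0b9afd4fa9c859e153847eb9590b5e990b38d221578352cf0cab6d4ad60cc0c510e94f9c9892ebb8bd27862681a9a4717ec84ea2b5634ccacc8a23a147c644ac52c4a299eb1089e935c0b978cc6aa62c2060ac8d53513a248d5f348f756cea789685971e92352da592f98bc525d0b50d9b5a52ce30e93c44326d9b12337de6697eaad664d0cb5c8b9187968d0c2186310629052104248385c0d21883185e0ce1803286b0e21b42b06f0a6144290540620601801906405c1781a08410c2004102a0cc0b02c0885004194310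4510421421021e84007c0fc3b0768ee1de380710e41d0398540a514e2986c8da1ae3609692f25c4ac9a1382744c09b0850ea218398871b8220a087b0f21fc3e8df1ba36c6f14a2905307594621e440871110aa15c830b60cc2ec320bd0d42f0340ba17e3046005917c07c1002104408c1c8240760941d0260701242604a0960f01f03f05c0f4660ce19a32c558a915e2b49f93c27c4f4520a31444c45003606a0dc1a02708a0a42302a08e0a02401e03806c0e84e09a1401584f05a524a694b29c514a79472a0548a89542a6394718e71c21d03b8781d41d87485d0c217c2d8b71702d45c8702281b08a86e2241c88990a2164302c10d0b431c598a116227c5912c1682c0688ac1a62a8678ae1aa4d4641371924e46313b1943406b0d22663509909813c2684e12a24c4909408b22e224788fe2004088209923e488901211e43d0798f01fe40c808fd11e2404889213a3e07a8f71ec24c4a89612848c929272524608b11a2322304708d1143e47e0fa1f64708d91e23a25c4d80500203c0980701a00c060040040200a01100c02c0700902004805000)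
noncomputable def x13t1 : ℕ := (nat_lit 0x44d9c6ad9d246f3706de414023553e9ea38d97ac24caaa28208b916b76771169d6d2a56ab9a799b48e9449b81994e49c6a83ca707268b816f99b3ae22c657654763f371a0f3fa1939f3b6985e92f762e555ac20640f295d2a1c2f85ee6cc40674da4e640361a63d2ec8ba9f28dc028f520b15abcd35788d5c4bd3922e71374c15ecdce3dad0a02a04bace9664ec510d396fcfc96241569d0ae57d4b7b723a7733c5b5015b3c5fa46e9a6e45581cd55bc229454734e7259842c5a42400a06a299f1af575120c0bc2a34f7cffb819945b990c235fc942a94379ead24dec7175c8422ec52563436032d73509e9773249b67d8fabc898eb1e5020d41cf6a46d4a4cf0b1a21a033f1f5fe1c37787c673ae22f0812539572b0d6cc6c1a984771e74706dca1a1d2d4566bae2dbb6a4e5ca6435da76e164ed5472ef30cc31f86cb7da0b627ff20dd11e842860d5bab87d92b297cd081ab213a31160a95ea09d19135465a42453c5b11320030ebb1594e13da7b107c58a231ca1f2d39e8c113c1cf92c7f6963ea95d03d64a9f5411b4f22b95e93f21a3fd9006eaa63924b69698142961e99963293a6a8ce6c18078cea6039ca9e0ce4d2b1c83a992a33e3a64a5a049ef77cb86751a44fedd68447f40304daf2257c13d9f9a3a6da7021ca12569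379753aa84465ceb3cd96efb5a82912bf05a9c2d86d672d234eda4a5e55521b78f2c13425f3bcc055f205a608e1ae24c686b30e250b5571a234bb43e1119cd9dd8369ae483545488b0fe164a046d4d5cf87fd12a25d198d73992b3d7624c19c7af873cf458c26a774879563312ee7c9a328249a708d1388576a65acbe76289d5eac9471907e8c517309389e0c336ca9054733f7d333d651663f4e54e9afd96a9526fbb93d4b9cc2bf5476d1d42c3ca2704a9ebde448d81eecb284d09cefaf03e887630aa8a1e69d3db3b80930d1820c6fe5867bc013726c16f1fe6ee5a2694d1954651c5c979309dde1ce5652bc8f343085edc9253f8a012a54aabd2b4e2a6026373b064c4bb05c85d956c678f29f56cc4238e56dbea3198d315ca1e03249958625c54e865e21f82fd454d8ad16908f1fba9c9388a1c14142db21538320336761cb188a50ebddbcdd56118e312a6647158bfba83ef0a0f148a61c828aeb519449fa3b36a3930fe94c519c116537a513ae67a4dbe1996a760896ba7f4f8d91bc47afd1444e442ee822738e3a0c0e0f4bb978961ec16aa5afada94816806b9705052e7481deaaf9249b4c639a9aef9104abfa130c5a1280496c2cf0b00854f70d34784909f0e450c465284ae20b529491933258bc5f578bd6610c1ea0276975411b333d4810d550d2e59659df44498d885995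1e5747524ed3194c4629249a338d429a2c0b46cf9a6a208a633a28d9ee88eeed1119c49ef265c5535126f9b7c387ed4e9b0cc944eb0a2e2e95d07ad99d1c65ecb90fae37cb2a2063865313561747c9fea11ba31a6375217d26091f14cc321366f498f4a9a4045c560c9ea28d2943a3936694a432fb3aa9ce5b4da74f150bd4602c127d17b4f6f91e922c41a1cce13cb91720c412f42d3211a9dfaf5742cadbc9fb6a72acb1cf95186d8d624332d0824ccb9a84b4a1dc739e46fd911d484a66a43a53758cd19aa118a088d61a03a78a6e661c1506939fcacf34324cc741ca8f2fa222e58c93b28f4d6a69020ab23794c908d4adda0ca36a19d262a955853283cf13179a158dc59656b565474acfccf16d0b716da448eabfe464b14d3539c9bc58af484f9aa964f4dda6bf07e258a0ba2b2d2dea675163c6cb196a1878060a27b13a8864e4a9ad47f3ed45b636c9311495366f657a0c3ef7dcbbd0d2a5a44f64c8d4d96744277a478eeb596aac07c4d7dc2336756bb5dab99730c758f4887966757e23e87a6edb634c6974cdc3b5a52e8d25240a2b319910174886ece8faae66062d7cbd079e9b25fd453b33f4e2ace59afedfd0941262584a89713226c4e8f21383d04f0f31303c04d1262504907e92a17a2ec5d0bc0b841c2f1080c0414311090ae1545b10621842c8686c2141401384d05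013c1484e054108200410860600b81a032090118260960943e87f0f21ec760ee1de3b43a0760ee1e0a714f29a3a4a80450741181c8470761201c01d0360700f0320600bc1883e07a0fc2483c2364708e91e1e222c44917120458491181224644791a1f03d47b8ff1ec4408890e21e164318560ce1603485a0ca310618c518416c2f8610e4174a89522a65506f0dd1be36c720e21cc380408831083a04106b0e21b43786a17e1905f068182198601152264488a0b91702dc380b50dc14c1985102a1482205402c0b01682b05c0d01a83606e0841002209807c250fe2004088212525249c919211f447c7c9201f84887d88c11a2288188e2021e8a18802801f0a107e28838ca58e128e39ca28e52925284394610c5204414c10a1cc6e0751d45047593c27e4f49f0a2140290518cd196330670a91562b45792b2644cc98131190324630ca1a63446a8cf1642d0598b125c4dc9d93926a31c4f92c1422b0570aa160340690d41ac35c6c0d91b42a0528a714c4d09c13a26c4b497809022008040030240140780d00c0040200a02001c0a00c01c02c09800)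
noncomputable def x13t2 : ℕ := (nat_lit 0x34e416df9623f27b6970c9300728c30e427c490b68d317e432a9d931f82dcb0913bdf994e05cb27049e66e11bf686f0e1b7a899baebcc42e976e8aa07378542d565d38b39ac224c43535f0012033da0879a72bc38d8bc9c4cd37cc8d55e4197a7302609da68b429681a349319d7251b760ab4e1b745091f2172e288d1a555b2e768d6d0215795129e47c1a8367758d3ff4866b0db36251939a8cc4b8d51acb1c0d959342979d14e8c492b1963668e5a536ea287a5d54de424baa4f49d2e54ed0135d96ce5ceb1974a4ce286d0e882915e3c542f34955520e69f31e502c732097e46a68722b9ddccdf6687a8dfcf39e51ce3a2d290e669cacb54e5336663832e1269545213e8bc0be461488b6db433a9e2e4e58a5d7bb09962962946a41c01f25588797297734293941cfe3829a9cf1db31cbe130ca594c5550335842af04c25179c538e7d28da0cb752140283ec264a3143a4e30fcb765448ba081657b1078e84bc53e7f607bea89d13d0bbc09c8cb5d01e36c73ed1fbfd35a7665fbcf5f3026053e3468a59ad532a66abe9017377afed671c56eb3f53330e72478a14c284b522919ac6a6aa4dd42a68c71596b2479df3c2882fc796c79cc20053c898b64598a34a67034c3770f61f23e5eec5dcfbd17a5191d951e9d8cc622282864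689269c240f4d11b9565335412a3ca332bf538b3530b14108bac47744da39b48785bd61a9ba78f7a459dfa9ec34c7c575527cd0ebc5a1f00e021a7880ced47b4d82efc10627597a655ea38da3079e3744c6506aa19a8e6ca90656a2da56a8d654f75bd004dcd03a5c7f914be8597344ca42162c7392ca163caca59544980b1e4e3b674fab64ae41598d4e650d4b91d0ae57a6564a5f5e245ea486f68aa3c5a2d21b096d9387fe9d4854a1548ec3215fcba199d283d717217d006e6dc925236a63351ab95a4dcbd931c917387b9dd97688f3a1c2a252e2a6a642869ed0e51d4706da84e93337568618cc31f96f551e640c2b135502b867ca93285b43688b3197ae343e7c28e1dc79d240c6cc26a8b21f64ab6f26d5ff1ab6833e2252f5656e85d13bf4af505c7b1160a8bdbe20d6a1058b02d84f53b4e5a4680ce9d0dc602f5369922676030b1ed54a3bc86a315223eea9591aef2fec0987d4c4b6dedf74185249fa1fc7680eda996182431458e7c966089e16496954133a9637a95c8ae40d056813f0d717455cece33264925519cd31c4db074c62972b3291c3d094970c4d2342756ed576b3696909244d517c34f94e96b364a20de51147a7a0c1ab856e85116353548590fe1fb86cb7e814839f32e5ebc99a85081832b376d16e93aeb8a704d60a017c0d79f9a875a90e8e01d5844bed39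c8679aef2344e72f07c6982be530d711c4ff8faff0e21a033ebe9cdd484c0c6d35aee3ea7d9e44db52327df6d382bedad6b9a84f31e92f4b06210b5c82dc6d27323aa7b9649a64654e5ff09dd297b64f3650e3f146130cb0b7fa6f1f9fcb4659edc683d47838c625f4939d7195dd51d88b0215db887ced666b2857eadc28943b84a750e9a53645169dc2b55cd4a9d6a03a7b049b02244466e0db9a967f209eaa5562ac2aa1af389ae9237ab66ad33df49fa2cd2e1903c9aa6670d89be7ef1c5a4cf54513254e414704eba292b15608422ed4060e9d93bc977ad2114533e360d98b41676ef2aa692ba785469d19818910a8f01e17b8c2e7733c8f14322137d2b73154a23246317e6e4555e2e9a91a62632624c554973a71a18281a02fe23da95952821c52bd8165d5d8a224433a5993e49aeafd049efa3eb8621cea660ef91026c7a1514c5acda10fea3fa804fe574af20aa6d289f7b51989361e33a9301534c8cb37b31dd9cad534a724e552d2d4d49f5c6d572bd0f2193607511c74954b0c4e5da8b900d90dd2e086932dafc9b7c54fdc241158061d761ed3d883e2c2b29c322128b1d4de674cf3993aedb169b4b9e8fd2390630ce1a43290921041c828c10d02f8320c00cc2fc350720dc1b05c0700680dc1a8360a4110288150a80582983305c0b01582d0400881084903e45c4a88912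622c4a0f112c2404909111e4748f11b2383d47c0f62543dc3e8790f61fc770ed1de3b03b8740ec1e0a814f29c20ca68981e62787a09a1e0270790fc1f63e87c91922c4608d1012063f4920ff21e4448810e0b01642b05a1861b46106f18a1ac620710b61842e8b50be0600c81703413c1484d0501381505004e10c2104108008c13024098094718e11ce394a614828c5284007a0fc1f03a9410e62106e0320620c0178470761181c8480701141d01e03a0700d83d07e0f82583c0944084b8fe1324004d90413a48c9492524e4849012223e2344708a24c2309405e0b8188300b620c15c2a8bd2242ec8a8ba2262f08a10a21a42c5c90c16e510701401c850c731421c4514a914b2a651ca89492a82186f0851b62206e8871be3a0750eb1043a44093726a4ec9c8d01ac3486a0c714227c960ac1602b85513a19c334660cb146288520a015e2a4568ab27c4f09e93f2682d0598b21624cc981322623446a8d319e324630c81944b89692f2562a0538a614a35c6c8da1b04d89c0060020480401000a008038030080280481101a0500780b01803809800)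
noncomputable def x13t3 : ℕ := (nat_lit 0x17880090137a0c999336a6d4c8611ace42b345abe4c6496811494facf5400e1258cb27f9125ddc363a731149b0a7c929153b6e4f4ebd6496a92700cc3b7863730aa14d39a8869692ae9d46e2832fb4645b9ed4fe5067918b2052f715d1ead6772d4e681da93c648e2b759c747545a5079257e473dc2e5461a13633753b1f6a2f846d6ea01b28c28762840748f304fe4fa51b47cadc157990b11432da0e705daa0f34e77550a084e8c491d980814955a5523a48ccd58d0d5eefaaa754f53cf090b19f48711cbad3664549a7727d4c8b2a52b0383cdbd551af8d31a1a69d79674f29e9837f0d48edad788317178bf3474c565ed3290e574f728c68342ce232944cbfde3c3886f510e7a99a569b202c535d5405d0970587228cf2fc946cbdb31d8522879701ae7f4bcdc2a01618b2131bd36729f9d6aa864e6f0ca23859e6890c361a94e425bcb66fc5cd214027507de79bd7816af114caa5f4da559336a24a99f3305920b2cf6cf189d13dfca4d4cec429d38198c7596e9aa77d06655ab56d4a21a5ba53e7030abc9892f4e190a3f5ca8556754b3c2d795c4e638cdca14c287bc890b0a519eeed11e1797112ececaa376c84a213ee3326d6741e6508974b63186f4ba60343a8bf35d4bd439e1036489eaa55191cb55369ed40d6d3b497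1fe26caf60ec21549bb950ec12a3ca2bd0627c9a8541339cfbb74eb1551cd3370ef85f137457509cb7d00503465ecb8e8c06c5acb588f07e9bb26d63861955ce733afc281a56932ea542abd539328d0a1772310cba31fa72906879cc7d106e70c2255ed9518bf2a5c7fa3aa445d8c69e346371ea561e3462da97a469e37d28b8e3b6756862d8f31d5c5005c02d06c0e49dfc6a74ef60aaabb692c9992c1f7c67023ed3e4d2bca243953a919d10adf52503d3cd283d6f46843e06010a95b2f09754c10223e6a90fe2d211739215d93409f85823639353b0b8d02869ecafdeabd43f06395836ba1d2b9053fe7feb925aad387b355c59ce438e912e1715833f64fb6455866d7f26e5ceb9a3b9fb3b91616dadc9a4571471ef90c94a722b932089e4e1c28e6e29c4b112ff30e1a9b0778e65cc3cfa4eea93e4102cd456532376093699244a61ec3901c7b4954d103bf67ee5ea2a313978c095bb73934cf4b1488a3916ea32a299eb69341828fce0a54b7054a658f63ab4c123e07168676cea19b4e3aae5d104816f89c222b3466abd8c4a2c959440e4abe6994852cb948df0c4d229a8a52fa96c7a36c8cccd2ad916795a196b6b4b51e245e718f7d9642d602dc62039ba9116668b557674816233f79b2e5fac74a63159779cb838be26ebeb45732dafbc33beb324a287812565d3176a6adee41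a724e2cc675ca0a0a670e6c3e530d71e2c13a2e79deda7f5011da6031930b4bdbc99337a6f9f3cdb43ea4147adeaa2cf1e84923d2595c1af589699924cbf8f2920fcaeb3d0e8a093454b6969689d0436f226b3f1460cba12504372612262027f6c2d32a629de590b1bac98f195dd552868db288c219b329df2c706285f8bea0958d46dd8a539f0e7aa3ad853e8422ece565526ce1c2631e82dbeae14e720a793474af488ad46d781326191de31b069b422a9c06b0d5d50444d451a4dc6126568a36d61a9323e53f302eb8b4ced670f4930b578c4746a09b48766dccc19766128628aed6ef01135a5f5050516151674078a179a35368526f33795b4320ec8496911971b7fa6e558fb25892ad2144bb85486956ad4973b0ae84c9d44aca2713862f89d93bc727e93ed27d1e3e4b1e0b1f42b13d1eb320971201fea0e41b110bbbec9be628e52cd3c11b9e0b5d991225e5a8a67cb160b9f13e0bb9034714f1428c8b2b446d5909d457346996c967a52f393da4e960bd0ffcd86468d91a9bfa26c1a10554352a5262bbd8cd3fda248c7bb469d1c115814b0feae8310c5d3524648abf612b62a04fbe513329d28654b1b3872749c68b60ae1548310d21842c850ba0d02f4320bb0cc2f0350600b81785c06215a2a4558af1a84d8691341ac4e8681381682c8588b32564b4970ac25e0981c02407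608c1c82507413c2804d09c0680c0170321042104005210c3e8790f61fc3b0780ee1d0a814f29c534778ec1dc544768320920bc258310980c02501c03a06c0f03c07a0f81f84609011c1504521241c829080d81c83707017e1b45f06f1821ac600710ce194348b50c635c6c0d91b44dc6493b1944e463135190290500a314434c6a8cf1543443e07e0f4200718e11ce394a51462905303a9410e65506e1332604c89889f2782849f92c27a31c9f0a814e298528ce19832c570cd1600ac0a82c02c0b42202e0660dc1a83406c14c290540a20800f822050084138580ac1682c85f0c216c2e8c22243108a8c522630c8a11021e4445c90e16e3a8700e81c83a4730eb1c45146e94b1be51c6f1491b65004194410850840943104218428882a621ca90901242444792124447c900ff2023f4818f31e43d07809922c4648d1181ea3d87b8f824e48c9292912c24c4a89412e410800fe2042604d09c13c3c48b88b1124a89212824c2304508e11a3e47d8fc1f44788d91d23826c4e80602600c0400400a0380380c0160040101101a0500781002402405000)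
noncomputable def x13t4 : ℕ := (nat_lit 0x384406e0dc2b826fb4e69c20d7014da9a532a62816981fc3fc7f5bd1f972e758ec396730e56a754d3c3529c85493b9522a3d453a0748e8b8f39adbdb6b70378db0e550f6d3438e3d0b388dce85508a0e6dcdd1b96cc6d9d6bab3d6eb9d51f5a49489d49f4a41474f8d1ca36798f43a43ce78d56331660cc9974e6570ca596ce49c73826fcde56137553aaa648aa15328168ad11a32826853f146cf89eecf943cf69eb3d27927b4fcce53e27a634c658e26a6312f58acbc4eec4590cb896d2d5394b44cc9a586a674cad694cb596b6d5e694d06a6a8d4fccc53b32e654c8522d394a292520f5deb3d84b0f51e949279e98a48c9091d2364625a914945e5a534a4941f522d7d2fb1163e846d2a252ca47c928e514a146327d12be044e899123c1780f090a3bf8d2889df4668c91890ec618c0f222fa1076e84908a0f481001ffc027fa8fe3fbfb49d1f124c7b48d1ea3c4778eb011faa3b47a8f11d3f35b4b616e2d687b0ee1cc3786c6ae1a9af8686b6199a9344690d1ad0340bc177af15dcbaa29ae88a4bb228ae68a113e26c4b8925d8bc1775ca5d16315e58a58963960588570b69712de5ae0840f81d034ac15a2b2afcab301600c097f99933a66ccbc2184107e0f18c31c6357d18a78ef19e2c5e7891b10ac6e8da85e35a208d0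87d10a1e772ee22ea138b0f75ee3db7b497decc964ad2664bc944c69853248f4c0f31e6c884a893df93f17e0fbdf6cac95d2b5154aa46f2a51aa3894e8d1f0be293a8a111c7680f01a02c0348520a424839011f52624b49a929fbbf68e68f91cb756e8dc9b89c137f44a8a9bda29446869cb392730e4504370d8db21b5714e25c420670ee1900d3ba7f4f29d20c41683905535a587edbbb783f4e7dcf39d736e6aa8d54aa5540e9d4b3c077ea79e23bd504e7b8c71a739da3b3a3cec9d8d28a547b694d263ee7da919f83e745cf2ba17447919132063ec758f26c97f30a6026e97c9d93aa789769d13430f61d2c985ab466ecd99ab346673a675cea55f39d5cab75753895b2a964ac9a6d2a5696d29a4b4868f3fa804ff5013f67ca8c516a3a7d28a4face99dcef4f2d8666b606bed75af4d552d35e6b4d352aa8a68aa1548a82672936a0d3e62a8f69ab2cb3aca2cab24b4ac82c705a0c41782a5c0b71722d9024ababc57a555702df5bcb76204428830fcd9c3a3650f8da43c3630e2179a159ab38cfaf55e8bcd794552fd15cbe456301150bd18730c620c2c442eab8971973614c21833048530b615c27338668cf19883462d7baf8312cfda0cfb680cf544b4c510a1942cf3686a1141d014ff3c19e4ee9e33b59c313974c598a3129729ce5ba714e09be60a6d4d6c6d8bcb16212c259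caf618caa72b2c656ca15aab39c2ac958aae55b3a27632f55736d93cd99b936191b5499ed59aab5253d3254e29b534d614c35c52f3526335198931e61be57cf299f33e37dc8cd1923045f281174ab456fad14bdf93926e4f49a7bd19dddbbd778eea32a1c43718d0d219430f0d0b46f8d4eda2dc5a8b9165dabd07a724de8bce4bc97645a5c4b69664c4954aef552abca90f21a44c857931f9fcbfc7f4fe23ca4848e915222437fc90600c817e91ca38c748e0e4aa6394726e44ee9db3b4e72a31d9aa675dcc9d53a950ea154471ce2ea03686d6daa8850c6ce71a849c5386709b71c0a266f8ddd05a07419b2b62a04df29bb7f6fcded04d3341081d0253d4054f9001ff7034ba96d2f6f2dda95ba6751495d3ba5a427c8f851f3de7b9d81ec75e7a9d65273d34668c3a3a35459d02e95dabad7398489860e2518289c6062417f2fa5ecbcc4688b11d724435c2b0609ac3824b0a0a2c08225a8b41662c8584af95d2b702e0540c57d0215dad25a8b4d689b035c6b0d52d7350b6cd3ad934cb54d2c318610c967c2e598bf2122fe846bf612afb84465982995612651839936070a8c94283230b0c842631f0720dc1d5f30657b07f0f61e43e8e01cc38872147290514a314b298524a50751b8504a107314e294530a81643345a0cc166338588cb1602b0550ae14028c520c81443ec480fa12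43f0488f911e3e07a8f71ec3f8821002043c8798f01143d0891132284548811121c43c8690c2164288390521215c8411d12c46c4991c12a4784a1262544a09212224047c909162324684611810420c408840f42003e07e11053c4294d10e538431500ee1d83c1430e82a4578ab15a34c6a0d51ac33c680d11a44d89d13826831c4f92c194284628c41863085f8be1823005d0bb1782f45c0b916a1545b93926e4ec9a9331b24c06b9321b04c46d13c27e4f49f12d25c4ac6312f19225c4c09913426c4e09d13c40c7f8fd20249c9292924622c448f111c45c468e71c6384728ec1dc3bc768ea2a83a0a88e92a63aca90dd1be378a20db2801b83686c0d61c8388700de1a8348680ce198328640c61802f8620c21702d85e0ba1582c05920c1685b04e09a140278520a21502984608a1202384a0921302581c06c0dc1a0350740ec1c03907c0fc1e03d08410c2004103609c1402905408c1202504c0bc180310640ac1602d05c05c0c0190340540b04406607c100210440740f0070180400881201002c0681301c0240500f0280180280400600800800)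
noncomputable def x13t5 : ℕ := (nat_lit 0xbfa02300068be916aba2096b12e79481a1e52318cd7123a632e6734748f8cfcd4afe2207dd80a888ce1987430a91ac56a1a552c8058b53782d0ee20490571140cdd8672748f9a652086e0868e51d0587152bae985930d2ec3492c42dc533566c3c41db3339a1e97115d8fc619099e2a4c33aa983d9fb3fa7fa5a5f7218669e84e6578df3c143b3093b928758e1a3942e67a1e100a168c550562c7f80c3a40d9160244648c3cb89896d4a94c4f2410f5cbb7a2a8cff1fc0607e52286b49265d351f4430cb1e2982a2d3c8ed13737f1cc4c4239a886aa120d5272495d0bb04003d68ad35a88a915a2c9568b653be19532924eca67c4f81ef8457bc1265284b09812a1032123b44d6e3237472d96a9941d6d6a9992da9f0285d0a15d13e9c92c11988087e29a9c941c93d3f85a3b971add4dc9f8fad4097d3b62190641cb34a0baf6224f93ab4da6e350b1430a8d39cdc9205f818d98c4f0d0e754319c72e0a5cc396704cb9ea2d68b87d9064db60a4f0423c840c9e07dc318e2f66a699115021c170863e2215d8014a3e32d1cd1469431e224646713b23dd17718d44b01072a88f2098bd978eed5ec9950aea60e41d03aac20ca0f3ba69c9287084ae9dfdaa2080a81522e51bf22a94b6e24938dbab8d324425b9a7d71eadcbb883822c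68fc1ad162515b09ff2dafb4233ef7e0121f90007d600c010014668c91822345f28e544a294327ca8aeb6447922110f6827843e45118caa269b89378af0812999b8db584c482b6df6628cf58e4327a1db5ea1d15789e844d947ad2a340375898364d299932c398d8cc8654ef4445da0f1dc824c991fa0b9264f59586c54c5222d0a6326df941c558af1500d320167214cda037fed620242b3db445e85271293b98e11f49114cdb9c45b2e69e30fa4242a805d2c1602ba02ada802cf06ab5b28f021e52f46d0da844b6b04cb01dd29b0e2c49fa8ef65e274f02586e1238a038e2f035c6c0136a63661508038cd1e3452123d0cd100d669c5f8bd18005005deb9a6a7cb0e75b7249464064c2f04b43e88189a18eba2e8b26bf1496bcc67428f53d0b550ee9832959928f6e4c39460034ce0b852d8fe880af3554aee990b676ad8a35b0e1c0c41868351cd4d1e486a1dab7e25a5c52e9069cb1f2e94f03ac5f9f6720121cb074725dfb6c630b1178aef5e0064b919a7b89ca8c4871ee4e6062b98f34243ba9e60c30e3c495222dd1bfa9465b14248caf9600de58a9643226e371d22644cc9880e78679a72af267c6c24236639c96610bce62d2d57213f7fc8295a98b564acc1c41a77b5388716f4ecc5cd53d2258e7d0240d9a50402240e084b80c428b6c9201e6108606b426cad896e842a38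8f18a1e4909b6538990a5d3864f1660f8627320183005c3a91da000732aaca66bc469e2aae348a29eeba8b08f94a31dd2110d32b325d98e2056ec9d8a8a30a3f4ef06d0e42568ab049b53f15f35ca32292981563ce1fd379a840e4d82b1d02eacee65b832762de669703589b58114a74b489954263862421a84e09a8a02804f7cef9823be57c68ba554ac95b2b914a3644a89113a267c8eacc2349189522799e92892e967cc73333a04c9b5a0adec53a928311be5c44d748ad82a99f49f11c6e2a572120a748827e934420cd03f60be673f9a7513a3acc82385361d94f010541c59989aa3d90e4f84a6b1aa53da125411eb35d2a69860bba8781304e00273ae74c1f27f3acb3051a4c286afe8581e5f00257b2fa116d3e8d3804761698e9d997f3d497bcfa4a36e309a3702a310a1b20446d0d8ac212d515fc243306aa69ea5082cd0093158370160cebb74104e0d0c58722bb10b9ec99428135c9073700e2033a1a43cc780f45680419a29d0fd41931a21357310803440bed180283f0bad142db577faea925aff25cbb4a3244558269f9b1ba994b4b2d2b02a0c4b4d2f2c719538c292153da8407b78e2e1921a42369513dc273be341ee9ee3e00b4f94d85129005a39e6de5c5fb21b39e48a36b595711a9d144a48f48d7319e9809387c0bc594b2d6483337a5ce462a70ec2943ecf08fa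6960ac07a8850946c60708d2e4b9f32ae0e66f4dd0473808991422a0456dd3b7b0ab5363c2a2457e012988511c2944d6a92f358c9811902053148188adf1381355ce7a9dc98c31c0728718d6c11e98386491e1be715351cac2c738341c69a003b0f8162e5db20537410da93556acd21b8c6663c63c3495278940a7cc8386ceb59c8ff864f4d47a1f5bc24c15552aa9542121349692246f15a48cc5194149726cc1fbb77018dd85583215ade854c3f422e70952563a29d2441960b2ef1af06e59c5b90acbda966bd2f38718478c2ba3a5202384608d38e029b481f87d0f21d4497f88007f3504a461c94bd52b9429474ea5c24ad7ebbe4f897db1c141d4271303a0998c2068c5ba494d9928ec8bca100c2812fe0f0bda802f27084f9a2122935048540a201029a354688e11bc9b93926a4f3ee462fc6502a11b4a7cfec0f2f87568005ea1abdc8d2b15a4ed1860e42602b0b34cf3f50f4a751b4ce3062b3433b0d9d9baf922e6ce8f4b31107320d8f29c2e55770616854b8b3c386a937c8918a964b22a88af6f2228e51ef1c2a08be8527d4fa5f43ec)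
noncomputable def x13t6 : ℕ := (nat_lit 0x48ca8f3fe8d09b3141120a3194c432166a536ee3805aaeb6a2dc41dbd60dce2c5b3d19cc6c8669d590d0697d87798b455a9a5d4af489a38ea2b4d7cbc87c5292458ac19614956a1bcd8dee9162127766ac12d0638b8815fb4732da8f91c84c096c000204a4949367ca4b49901a039198070146a0283a2740e905781f2dc6297438c66d17ceb878d8e889388ef1ca7a3e671d180900ca362d55aa3568bcd48f685ba4f206134a425f311c3959aa01e12437465b4c9914423c854554218334cf0de0e7140031878a3144768a4864946d288e164a7499dfcc4aa711300cc48740ea06c2179c90b6008609aca5a501854ea1d19a4309bcba86651c425490a1ba93ea7d167d03598b4091022774d9d600dc0e283147c171143595d12948e758ab082840a022837f070ad55996e564d2562c7137b5061b8bd6ca78946be5782f9193195a2821ce5a008932c9fe2d8934024811002084181fc67524b7cea4f11aa7e153a196860f93fd0148b2b6710531b72a95e4ae3127259ab1e1191d279935368529d949c2546b242ba59f8a748c1a0726570af16273405887ce9220804872dc223255363c2a2457e2ab467328b120b023d60166acc844a5c465af3202c31fd38305ee09c228a8c7071820768b011509c7f772c8628d525fc061282567bf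424a7b4d0cb0310225b3545a29033a91f46c8f02d8540081582e79f0413e13712ab213b8ff672f4d51b5e3765d52f8ab71ef5cceb0690e01dbc0b70e6aa9f6b890a8fbdf94430e4ae29cad333c638eda6a18e4f427a604c69927735d2a715a820243746d8dcc4d77a0f1a0d5467ad00a21ad356080d78ae160c38058aa01ea1c350e2460bd2a43eb6170ecf89be326f9c49c129374fe6c1369968c5e04c9864779b9ac98c230d9c4e06885311521183cef8f7ad62573a99297086ce6ca820e11ac9d9044484f34d4c85fa4cb8145b7b1b4d915eabb0663f55fa844ecfd0bdc7c24cb89971f0a691a1740ba420e4a7d43a1bd0767c4383fe5358822d3e6ec07c0f51ec890093378fcb9cae87aa54900313ff602a6d4e29a410a784ea0613e555c6ca5a84b4a61a1a13062e8008b5688ba2c96b28a1ad88c6402834d1e2d98f29f557d0e630da4e50237c041d6d9057b042556908a76c710b51382d3f978cab3aea6294428001008509a138293968a691cb47e1ac90521416348e8128d80be0173004e8bd37c93ed3c9f9218d661a36b7608d1e23736c6da099b7b8829d3bc9719888e325dd9ee65eab81cceca948f4422ca332265f70d936adae44c3928c610200c108410401c2b79302e258ed399442632f24a420e6388ea6296690b4c064634ca1dc79d3091aa3485c8dc2948aa0c19e19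cdd0b41c13d3d26fcade4c13303ec225d1728af461ee342552f19373c478e11cfdbcc3be1364424f3a707d7e93b96ac90a38b83494ba0c2de762a3048b9c0cc5067b18242ac5989b1406b52e2fd3c5573ee0daef25afece2cfd7eb32a20aa0120e79c08978f43a696cbe5ef4362991a7d4998070b41622cc2c9e63cf168f19e846437e8e99f9762f9abbfd5fe18521ca2268cd976bb534491a73b944763b2a00c2438dca5b38a2ca054b19679e035d15b7a99cb8db42e45ca06938a704de56c678361e8f78080f01e54d818a0d94c795c0197134cc10dd3e9423bd5b22674f3026791d3f4599f4d4c9502f0ab8563109ee09a09338850378e48cb4325c9f67904f013d455dcb54942a49b3371dc1ea8587b02e35a17f4de230af1132d2811b06cc7659f13010aa9871a72582e7cbb3297464c4c0b1b2813054fb172f00d2471548f6e3270aa52372a6491963184322010a4b042d9910d404b1cdfbc397e5f5415517d90a52135b01aebc0352f9a1034568927e74ce5eb9613ce5e8b0294bce556120a1dd0857e3b67970124a0d00a0cee4cd0f92e2027abe3a4ae888bcb8810494e1a0f69c775732a110c694109a64f06a0e79877aa385a81619eeed128851aa727522228284f860543d0d924cb9a0b09087d10a205e08a5b0acb6c5345e8132812459ea523862f285c8089b4996129e084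6972110d184834aa7b0d916e4646a6827c0040e01da5206d4091f2df465eebda7b6138e04451bb3496eb8666656034d2c7c41f8e23bc11f3ca72a27246ae4e1307606c1584a950ba7a5ff23f40f1525e3f7650cb01d32a8694213582510342dd350743ac7c620552d40c0fe9f93f9510674156dd37e3847d5a840cec1ae5221a1cebf10f713e9aac65268ccfb97f6471893f4766d50fc530a514e6e009a885120f542a363e4b5d565172eec749609c8eac697616c0da7203fa740f249295ce31d727911375696bd97d2f85f3198a93486f335e0005e180eb1acba15eaefc548c6492d14d1a035b53322dac35444e6a300a1f43f13c8fb39c8e84b1487f1038c1b31a7b0be584cd9631a81b8f195f53a8f1e13660a9f4390110ba5474a776e2ec2c3ab75a0b1d52ce7e01d5890b256314a2e9694c23fa76b851494c11c2be87cf14e68f752ed626a04389c950e394b9d0b8479b7d4e62b0d4b3f36f044735499b720024c849071b0b03704da4488a1130225fa5628373069e4b32b3fc079ec98fa14a185421e0fa640c90f944753659bae6b92088a991)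
noncomputable def x13T_0 : Tr ℕ := (.node (nat_lit 3) (.node (nat_lit 1) (.leaf x13t0) (.node (nat_lit 2) (.leaf x13t1) (.leaf x13t2)))
 (.node (nat_lit 5) (.node (nat_lit 4) (.leaf x13t3) (.leaf x13t4)) (.node (nat_lit 6) (.leaf x13t5) (.leaf x13t6))))
noncomputable def x13E_0 : Tr (List ℕ) := (.node (nat_lit 3) (.node (nat_lit 1) (.leaf [nat_lit 12, nat_lit 7, nat_lit 11, nat_lit 1, nat_lit 0, nat_lit 12, nat_lit 3, nat_lit 0, nat_lit 11, nat_lit 10, nat_lit 9, nat_lit 5, nat_lit 6, nat_lit 5, nat_lit 0]) (.node (nat_lit 2) (.leaf [nat_lit 12, nat_lit 10, nat_lit 9, nat_lit 5, nat_lit 12, nat_lit 10, nat_lit 11, nat_lit 8, nat_lit 7, nat_lit 10, nat_lit 9, nat_lit 5, nat_lit 3, nat_lit 6, nat_lit 5, nat_lit 3, nat_lit 0]) (.leaf [nat_lit 12, nat_lit 10, nat_lit 9, nat_lit 5, nat_lit 12, nat_lit 10, nat_lit 11, nat_lit 7, nat_lit 5, nat_lit 10, nat_lit 9, nat_lit 5, nat_lit 3, nat_lit 7, nat_lit 5, nat_lit 3])))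
 (.node (nat_lit 5) (.node (nat_lit 4) (.leaf [nat_lit 12, nat_lit 7, nat_lit 11, nat_lit 1, nat_lit 0, nat_lit 12, nat_lit 3, nat_lit 0, nat_lit 11, nat_lit 6, nat_lit 3, nat_lit 10, nat_lit 5, nat_lit 3, nat_lit 6, nat_lit 3, nat_lit 0]) (.leaf [nat_lit 6, nat_lit 5, nat_lit 7, nat_lit 3, nat_lit 1, nat_lit 0])) (.node (nat_lit 6) (.leaf [nat_lit 11, nat_lit 10, nat_lit 5, nat_lit 12, nat_lit 9, nat_lit 11, nat_lit 9, nat_lit 10, nat_lit 8, nat_lit 3, nat_lit 6, nat_lit 5, nat_lit 3]) (.leaf [nat_lit 4, nat_lit 10, nat_lit 11, nat_lit 0, nat_lit 12, nat_lit 3, nat_lit 11, nat_lit 7, nat_lit 3, nat_lit 10, nat_lit 5, nat_lit 3, nat_lit 7, nat_lit 1, nat_lit 0]))))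
theorem x13w_0 : x13T_0.all2 (fun c w => isProd 1365 (nat_lit 11) (nat_lit 2047) T c w) x13E_0 = true := by decide +kernel
noncomputable def x13T : Tr ℕ := x13T_0
noncomputable def x13E : Tr (List ℕ) := x13E_0
theorem x13lets : Lets P 1365 (nat_lit 11) (nat_lit 2047) (Fin.ofNat 1365) x13T := lets_words lets x13E x13w_0
noncomputable def x13L0 : Lev := ⟨(nat_lit 0), (nat_lit 6), (nat_lit 0x40503010105030602020505040406020402010404060304060204060506030204050201040602020605010305060103030404030205020103030206010105040406020506030405050301050501030404050103020403050603060303020605030302040404060505060106050601020306050403010303050201040102050506050603060204060405010104030106040401030303030304010205020202010103040502020202060206020505020204030501050305040603050601050505060503030305020304060201010102010202010306020401040203060103020603040405050302040402020304040501010202020506020105010503060505030503040406010602020601010503060101040501010203020205020204020406030505050606060305060205020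30601050104030403040401040103020406020101050105020505030504040602050305050204020602020102010102030306020401050604040306040202020103040205040504030204020402020503010201020206030403040101010605050204020403040506050103040503050602060205010202050303010306010405060301020505030603050204020501060505020501060502010305040506040105060101010306060606040205050103060606010103020403040506040101010506030203030103050605060105030601020505010405010505050103050501050104030102060202040306020405040503030302020104060602050606020105030104050602050401030403030303050301010502040301040504020102020202020305050505010101010404060302010501060503060503040401040602010402040301050602010604030101010401030204060402010505050305050203040302010101040506050502060104060303030305010101050102050103030403050501030602020401060504020202030601040403010203020602050105030605030102040504020403050501030605010205050204020203060502020402060403010501050204060302040504040501010501060601010602010101050505060205030204050503020402030504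0203060604050602050402010106030504010506040601020101020302020604040403060303060101010601020204040505010202050501030502010305010505030301010101060605050205010204020304060305050506060205020301010304020104010404030605030203030205020603060604040406010601010303050503050406060305030603030402010505040402010301010301020204020403030503060205020503040304040402050202010202050501050403030301040406010501050205010101020205050304040502020302020203020502050505050602020104060604060602050206060606060205050203060506060106060401060606060504060202050301040606020606060303030106010602050304060105060506050603060203060304040602010606060601040405050605010204040206020601050303010203060204060201010605050305060603020204060603050604030306060601040202030606060306060602030206040504020206030505040304060501010503010306060106050302040205030401020101060103020303050506050101050405020101010106060202030305010606030604030406010303060602030606020602060606020101030506060106040602020203010102040404020106030601060606060306030206020606060102040404060404010106060505060105030301060106030606060303020102060206060606060206030606060601060602020604050306060206060600),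 (nat_lit 0x70606040706060507060605060703060306060507050705050505060607050504050606060505060607060505050505050505060606060606050607050506060503050603060506070606060706070604060607060705070607060507050506060606060507060506060604050606070606060506050606060606060505060404050606050506060705060407050706060706070605060605030406070704060607060406060706040307050505060507060606060605060706040605050204050604060607060506070606050505060706060707060603040606060605050506070606060706070607070705060506050205060606060506040606070503050506050605060606060505040606060606050404040307070606060606060706060505070607070605070606070606060506070405030405060606040406050405060506050504050705060606040506070606070706060705060605060605060606070606050506010605040606040606050706060606070506060505070506060506060504060507050705060504050505060707060406070705070607050406060605060606060605050503050707050606060505070506060404040606060607060506050606060406060405050407060606060405050604060605050607050606050405050606060406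05070606050506050705060604050607070705050604060607070706060605030506050505060607060605050505050606050602040706060606060606060607060606060604060606060505030606050406050606030607060606060605030405050404040406050705040505060504050504050605060503040406060506050606060606050705060506060503040302050405060707050707070606040505050506060506060607070605060506070606060405050505060605050704060607070405040504060505050604060606060506060306050706050606060506050606050406040405060506060605060505050506060605050705060603060507060605060607060504060606050605060406070606060704030606060506040606060305060606060607060505050605050605050707050606060706030606050606060706060606040607060605040606060506060605050605070706060507060506040505050305060506040605060605050406060605050606050604070606050606060605060506050704070604060507040507050604050606060405040606060605060706050506060505060607070506060606060706060607070505020405050706070606060505060405050606050506050605060604070605050406060606070606050503040504040404060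6040706050604050606070607060506050606040506050605040605050707060505050706060705060707060607060606050606060607060707070507060606070707070605060607060507060607060406050504070607060606060606060705070507060604050606040606060606060706070606060606060607070706070606060605060606060506050707070607060607070706060606060505060506060605060607060706070606060605060606060707060607060606060707060704060507070607060605070607060604060707060605060606070707070707070605070605050607050606070606060606050605060505070707060706070706050506050507060607070506070607050606070606060506040705070506060706070606060706060706070706050606070607070606070605050607050506060606070607070605060606060705040507060605060706060705070706070506070606060706070606060506060706070605060706050700),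
 (.leaf 0),
 (.leaf 0)⟩
noncomputable def x13L1 : Lev := ⟨(nat_lit 401), (nat_lit 5), (nat_lit 0x201020401010402030405050403030404030404010203010502030301010302020202050303020303020501030305050401030403030302030303040304040102010401020105020204010401010501050504040204040105040404030102050303030102040205050504020105040302040501040102050301010402040405040501010105010303030302020502050302030305020402030105050403040502050303030105050302050405050102040505050503020202020201050505040103020405050102010201030402040302030501030201040403020503040202030305020404050304030105010104030202040204040302010104050102020205020202020103050504040303040402020104010305030103020404030105010305020203010404050502050505050404040505030403010105020102040103050505050305040505050501010202020203010402010401010105010401010503050202050201030201050304010201010104020201020501040502010102030101050505010403030301040501020403020103030405010202020505010303010305020501030104020303040101050101040404010305050201020505020303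05010501020102050201010104050504010404010304020301020501050205010401040301020403050505040105010504050303020303050104030105040505050503020502020201030501040201030203020503030104010502050205010403040404020201030503020504020405050504040104050405020102040504050203020203030302050405040303040302050505040403030202020301020401050202020401030205010202020202030103020501020501030102030304030303050203050101040505050301020103050505050105020505030102040504050204050305040302020503010501020304040405020503010105020104040405050103040402050402030505020303040504010501050101010404030303020301050501030504010302050505010203050403050501030101020201040203010104050504010403050501020303010202050103040505030304050101010202010504020505030302020203030305040104050302030405050304030303050304040504050501020204020501030401040103030201050204040102020105010305040102040503010201050204040105020203020504020201020504030503050404020103040402010403010405040404040203010402030505030501020504030101020404040201050303010401010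403010404030304020302040204040102000503020101040203020105010504010102050201030502020405040405050502040203020303050205040502050104030205040401040502050105010000000000000000000000000000000000000000000000000000000000000000000000000000000000000000000000000000000000000000000000000000000000000000000000000000000000000000000000000000000000000000000000000000000000000000000000000000000000000000000000000000000000000000000000000000000000000000000000000000000000000000000000000000000000000000000000000000000000000000000000000000000000000000000000000000000000000000000000000000000000000000000000000000000000000000000000000000000000000000000000000000000000000000000000000000000000000000000000000000000000000000000000000000000000000000000000000000000000000000000000000000000000000000000000000000000000000000000000000000000000000000000000000000000000), (nat_lit 0x606070307070608060607050605070507070706070506060705060707060607040706060606060607060707060707060705050705050606060606040405060706070607040706060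70507050706060505060207070705060606070707060706070704060606070606070605060605050707050607050605070405070707070406060606070707050607060505070505050706070607060607050608050707070507070506060606060607040603040607070506060704050807050606070605070605060807060405070604060707070607070707060705060707060705050607050704050806070606070706060605070606070607070607060705050504060607070806060705050707050406070807070606030607070607060707060704060607070507050704040607070505070607060706060505040605050404060704050605060707060506060606060605060607070507070606070706070603070706070707020506050707060605070706050706070706080706030606050506060705070502080707050707060606060703060706070607050706070405060606060706070607070607070607070607040707050406070606070505060606070706050608070706060706070506060407070705060707060606070505070707070606070606060806060606060606070607060506060406050706050507060707060604060607060606050707060506070605070707040507070804050706060706050707060608070706070606070807070605060606050307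07080507080507060607060605040607050704060507060607050506060605060606060707060706060306050507070707060606070706070707070705070606060604070505080606070607070704060506070607030407050604050706070707070606060407050606070706030607070607070504060507060707060704070307060706070607050607060606070605050606060506040605070705070707070606060606050506050602060604070606050606070706050706060606070505060607070607080705060606060606070604050606050704060707070706060407040605060707070707060705050706070607070506070607060608050506060607060508070606050706060706050507070605070705060505070608060606070705050507060604030607070707070706050506050305060707070708060706070606060806070607040706050705060607050406060706070507070707050507070605070706060504080707070705050605060607070707060504060504030304060605060700070705050406060605070706060708060606060606060506070607060605060706080608060507070706060607070706060103060406050506060607000000000000000000000000000000000000000000000000000000000000000000000000000000000000000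0000000000000000000000000000000000000000000000000000000000000000000000000000000000000000000000000000000000000000000000000000000000000000000000000000000000000000000000000000000000000000000000000000000000000000000000000000000000000000000000000000000000000000000000000000000000000000000000000000000000000000000000000000000000000000000000000000000000000000000000000000000000000000000000000000000000000000000000000000000000000000000000000000000000000000000000000000000000000000000000000000000000000000000000000000000000000000000000000000000000000000000000000000000000000000000000000000000000000000000),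
 (.leaf 0),
 (.leaf 0)⟩
noncomputable def x13L2 : Lev := ⟨(nat_lit 642), (nat_lit 4), (nat_lit 0x400000000000000000000000300000000000000000004000000000400010000000000000000000000000000000000040000000000020000000300000000030200030000000000000000000000000001000000020000000000000000000000000003020000000000040000000000000000000000000000000002000000000000000002000000000302000000000200000000020000000300000000000001000000000000000003000300000000000002000000000000000000000000020000010000000000000000040400000000000000000000000100000000020000000000010000000000000000000000000004000000000000000000000001030400000000000000000000000000000000000002010200000000000000000000000000000000000000000000000000000000000003040304040201040403040400000000000000000000000000000300000000000000000000030000000000030000000000000304000100000000000100000000000000000000000000040000000000000000030000000100000000010000010300000000000000000000000300000000000000000000000001020000000200000000000000000002010000000000000000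00000200000000000300000000000000000000000002000000000000000000000000000000000000000000000000000000000000000000000000010000000001000000000000000000000100000000000000040400000001000000030200020000000000000000000000000000000000000002000100000000000000000400000000000000000200040003000200000000000101010100000004000000000003000304000000000000000000000000000000000004020002020002040000000000000000000000000003000302000000000000000000000000000001000000000000000100000000000003040001000000000000040000000000000000000400000000000000010000000000000000000000000000000000040000000000000000020000030000000000000004000000000000000000000003000000000000000000000002000000000200000000000000000000040000000000000300000000000000000300000000000000000000000000000000000300000001000002010000000000000004000000030000000202000000000000000000000000000000020400000000000000000400000000000000000000000000030002000000000000030400000000040200000000000000000004000000000000000004010000000000000000000000000200010200000000000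002020402010103010302040300000000030304030403000000000000000001000001010403010000000000000000000000000000000000000000000003000001040204030000000000000000000000000000000000000000000000000000000000000000000000000000000000000000000000000000000000000000000000000000000000000000000000000000000000000000000000000000000000000000000000000000000000000000000000000000000000000000000000000000000000000000000000000000000000000000000000000000000000000000000000000000000000000000000000000000000000000000000000000000000000000000000000000000000000000000000000000000000000000000000000000000000000000000000000000000000000000000000000000000000000000000000000000000000000000000000000000000000000000000000000000000000000000000000000000000000000000000000000000000000000000000000000000000000000000000000000000000000000000000000000000000000000000000000000), (nat_lit 0x500000000000000000000000500000000000000000002000000000400020000000000000000000000000000000000050000000000050000000600000000020400050000000000000000000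00000000600000006000000000000000000000000000405000000000004000000000000000000000000000000000300000000000000000300000000030600000000030000000004000000030000000000000300000000000000000500050000000000000500000000000000000000000002000005000000000000000005040000000000000000000000050000000003000000000004000000000000000000000000000200000000000000000000000505020000000000000000000000000000000000000305040000000000000000000000000000000000000000000000000000000000000203030405050503040404040000000000000000000000000000050000000000000000000001000000000003000000000000040500030000000000010000000000000000000000000005000000000000000005000000040000000004000005020000000000000000000000050000000000000000000000000501000000050000000000000000000405000000000000000000000400000000000400000000000000000000000003000000000000000000000000000000000000000000000000000000000000000000000000040000000004000000000000000000000600000000000000050500000004000000040400040000000000000000000000000000000000000004000500000000000000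00030000000000000000030004000500020000000000040503040000000400000000000400030500000000000000000000000000000000000504000504000506000000000000000000000000000400060500000000000000000000000000000300000000000000050000000000000404000400000000000006000000000000000000040000000000000004000000000000000000000000000000000006000000000000000004000005000000000000000500000000000000000000000400000000000000000000000600000000060000000000000000000003000000000000050000000000000000040000000000000000000000000000000000040000000500000502000000000000000500000005000000050500000000000000000000000000000005050000000000000000010000000000000000000000000004000200000000000003030000000004050000000000000000000400000000000000000503000000000000000000000000040004030000000000000405050406030504040505050000000004050604050500000000000000000400000503030402000000000000000000000000000000000000000000000500000505050503000000000000000000000000000000000000000000000000000000000000000000000000000000000000000000000000000000000000000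0000000000000000000000000000000000000000000000000000000000000000000000000000000000000000000000000000000000000000000000000000000000000000000000000000000000000000000000000000000000000000000000000000000000000000000000000000000000000000000000000000000000000000000000000000000000000000000000000000000000000000000000000000000000000000000000000000000000000000000000000000000000000000000000000000000000000000000000000000000000000000000000000000000000000000000000000000000000000000000000000000000000000000000000000000000000000000000000000000000000000000000000000000000000000000000000000000000),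
 (.leaf 0),
 (.leaf 0)⟩
noncomputable def x13L : List Lev := [x13L0, x13L1, x13L2]
theorem x13_0 : srchR 1365 (nat_lit 11) (nat_lit 2047) x13T (x13T.get 6) (leafC (nat_lit 11) (nat_lit 2047) B (x13T.get 6) 13) x13L (0 * 1365) 1365 = true := by decide +kernel
theorem x13 : Excl P 13 13 ∧ orderOf (x13lets.e 6) = 13 :=
  excl_of_srch x13lets (ofNat_inj 1365) base card (by norm_num) (by norm_num) (Ls := x13L) (by decide +kernel) 1365 (by norm_num) fun i hi => by
    have : i < 1 := by omega
    interval_cases i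
    exacts [x13_0]
theorem wit : ∀ x ∈ [13, 6, 10, 15, 21], x ∈ Spec P :=
  spec_wit lets (ofNat_inj 1365) base [(13, [nat_lit 12, nat_lit 8, nat_lit 3]), (6, [nat_lit 12, nat_lit 8]), (10, [nat_lit 12, nat_lit 10]), (15, [nat_lit 8, nat_lit 11]), (21, [nat_lit 2, nat_lit 12])] (by decide +kernel)
theorem gk : GK P [2, 3, 5, 7, 13, 6, 10, 15, 21] := GK.of_excl card (k := 12) (P := [2, 3, 5, 7, 13]) (Q := [(7, 21), (13, 13)]) (by
    intro x hx
    simp only [List.mem_cons, List.not_mem_nil, or_false] at hx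
    rcases hx with rfl | rfl
    exacts [x7.1, x13.1]) wit (by decide +kernel)

end H8.G24
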