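import Cfsg.Agent.H8.GL213
import Cfsg.Agent.H8.SpecC

/-! H8.EL213: `spec`: the element orders of the model `P` (generated certificate) -/

set_option autoImplicit false
set_option maxRecDepth 200000

open Matrix

namespace H8.L213

noncomputable def et0 : ℕ := (nat_lit 0x47ad369c258b10)
noncomputable def et1 : ℕ := (nat_lit 0xa62b73c84d9510)
noncomputable def et2 : ℕ := (nat_lit 0x318a2b6745d9c0)
noncomputable def et3 : ℕ := (nat_lit 0xdcba9876543210)
noncomputable def et4 : ℕ := (nat_lit 0xbadc4830197256)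
noncomputable def et5 : ℕ := (nat_lit 0x7c15a36d984b20)
noncomputable def et6 : ℕ := (nat_lit 0xc175d498ba2630)
noncomputable def et7 : ℕ := (nat_lit 0x17c582ba6d3940)
noncomputable def et8 : ℕ := (nat_lit 0xc614b98a73d250)
noncomputable def et9 : ℕ := (nat_lit 0x913b528cd4a760)
noncomputable def et10 : ℕ := (nat_lit 0x816dbac9524370)
noncomputable def et11 : ℕ := (nat_lit 0x71924536adbc80)
noncomputable def et12 : ℕ := (nat_lit 0x61c4ad732b5890)
noncomputable def et13 : ℕ := (nat_lit 0xc7b32549d861a0)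
noncomputable def et14 : ℕ := (nat_lit 0x6c2954d7a381b0)
noncomputable def et15 : ℕ := (nat_lit 0x1c64352b8a97d0)
noncomputable def et16 : ℕ := (nat_lit 0xb852c963da7410)
noncomputable def et17 : ℕ := (nat_lit 0x59d48c37b26a10)
noncomputable def et18 : ℕ := (nat_lit 0x23456789abcd10)
noncomputable def eT_0 : Tr ℕ := (.node (nat_lit 12) (.node (nat_lit 6) (.node (nat_lit 3) (.node (nat_lit 1) (.leaf et0) (.node (nat_lit 2) (.leaf et1) (.leaf et2))) (.node (nat_lit 4) (.leaf et3) (.node (nat_lit 5) (.leaf et4) (.leaf et3))))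
 (.node (nat_lit 9) (.node (nat_lit 7) (.leaf et5) (.node (nat_lit 8) (.leaf et6) (.leaf et7))) (.node (nat_lit 10) (.leaf et8) (.node (nat_lit 11) (.leaf et9) (.leaf et10)))))
 (.node (nat_lit 18) (.node (nat_lit 15) (.node (nat_lit 13) (.leaf et11) (.node (nat_lit 14) (.leaf et12) (.leaf et13))) (.node (nat_lit 16) (.leaf et14) (.node (nat_lit 17) (.leaf et2) (.leaf et15))))
 (.node (nat_lit 21) (.node (nat_lit 19) (.leaf et3) (.node (nat_lit 20) (.leaf et16) (.leaf et1))) (.node (nat_lit 22) (.leaf et17) (.node (nat_lit 23) (.leaf et0) (.leaf et18))))))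
noncomputable def eE_0 : Tr (List ℕ) := (.node (nat_lit 12) (.node (nat_lit 6) (.node (nat_lit 3) (.node (nat_lit 1) (.leaf [nat_lit 0]) (.node (nat_lit 2) (.leaf [nat_lit 1]) (.leaf [nat_lit 2]))) (.node (nat_lit 4) (.leaf []) (.node (nat_lit 5) (.leaf [nat_lit 3]) (.leaf []))))
 (.node (nat_lit 9) (.node (nat_lit 7) (.leaf [nat_lit 2, nat_lit 0, nat_lit 0, nat_lit 2]) (.node (nat_lit 8) (.leaf [nat_lit 0, nat_lit 0, nat_lit 0, nat_lit 2]) (.leaf [nat_lit 0, nat_lit 2, nat_lit 0, nat_lit 0, nat_lit 0, nat_lit 2]))) (.node (nat_lit 10) (.leaf [nat_lit 1, nat_lit 2, nat_lit 0, nat_lit 0, nat_lit 2]) (.node (nat_lit 11) (.leaf [nat_lit 1, nat_lit 2]) (.leaf [nat_lit 0, nat_lit 2])))))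
 (.node (nat_lit 18) (.node (nat_lit 15) (.node (nat_lit 13) (.leaf [nat_lit 1, nat_lit 1, nat_lit 2]) (.node (nat_lit 14) (.leaf [nat_lit 0, nat_lit 0, nat_lit 2]) (.leaf [nat_lit 0, nat_lit 2, nat_lit 1, nat_lit 1, nat_lit 2]))) (.node (nat_lit 16) (.leaf [nat_lit 2, nat_lit 1, nat_lit 1, nat_lit 2]) (.node (nat_lit 17) (.leaf [nat_lit 2]) (.leaf [nat_lit 2, nat_lit 0, nat_lit 0, nat_lit 0, nat_lit 2]))))
 (.node (nat_lit 21) (.node (nat_lit 19) (.leaf []) (.node (nat_lit 20) (.leaf [nat_lit 1, nat_lit 1]) (.leaf [nat_lit 1]))) (.node (nat_lit 22) (.leaf [nat_lit 0, nat_lit 0]) (.node (nat_lit 23) (.leaf [nat_lit 0]) (.leaf [nat_lit 0, nat_lit 0, nat_lit 0]))))))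
theorem ew_0 : eT_0.all2 (fun c w => isProd 14 (nat_lit 4) (nat_lit 15) T c w) eE_0 = true := by decide +kernel
noncomputable def eT : Tr ℕ := eT_0
noncomputable def eE : Tr (List ℕ) := eE_0
theorem elets : Lets P 14 (nat_lit 4) (nat_lit 15) (Fin.ofNat 14) eT := lets_words lets eE ew_0
def eL : List Lv := [((nat_lit 2), (nat_lit 18), (nat_lit 6))]
theorem echk : enChk 14 (nat_lit 4) (nat_lit 15) eT L0 (chainOrd 14 [L1, L2]) 3 2 (nat_lit 0x201020101000200000100000200) (nat_lit 0x301020302010100040402030200) ((1, 5, 13) :: eL) = true := by decide +kernel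
theorem er0 : enR (nat_lit 4) (nat_lit 15) eT (leafO B 13 [nat_lit 13, nat_lit 7, nat_lit 6, nat_lit 3, nat_lit 2, nat_lit 1]) eL (3 + 0) 5 13 = true := by decide +kernel
theorem er1 : enR (nat_lit 4) (nat_lit 15) eT (leafO B 13 [nat_lit 13, nat_lit 7, nat_lit 6, nat_lit 3, nat_lit 2, nat_lit 1]) eL (3 + 1) 5 13 = true := by decide +kernel
theorem eall : ∀ g : P, ∃ c f, RepF 14 (Fin.ofNat 14) f (c * g * c⁻¹) ∧ (leafO B 13 [nat_lit 13, nat_lit 7, nat_lit 6, nat_lit 3, nat_lit 2, nat_lit 1]) f = true :=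
  enum_all std elets echk fun j hj => by
    interval_cases j
    exacts [er0, er1]
theorem wit : ∀ x ∈ [6, 7, 13], x ∈ Spec P :=
  spec_wit lets (ofNat_inj 14) base [(6, [nat_lit 1]), (7, [nat_lit 3, nat_lit 2]), (13, [nat_lit 0, nat_lit 0, nat_lit 2, nat_lit 0])] (by decide +kernel)
theorem spec : SpecL P [1, 2, 3, 6, 7, 13] := SpecL.of (fun g => by
    have := specU (ofNat_inj 14) base (by decide) eall g
    revert this; generalize orderOf g = a; simp; omega) wit (by decide)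

end H8.L213
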