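import Cfsg.Agent.H8.GL27
import Cfsg.Agent.H8.SpecC

/-! H8.EL27: `spec`: the element orders of the model `P` (generated certificate) -/

set_option autoImplicit false
set_option maxRecDepth 200000

open Matrix

namespace H8.L27

noncomputable def et0 : ℕ := (nat_lit 0x366e98)
noncomputable def et1 : ℕ := (nat_lit 0x7352b8)
noncomputable def et2 : ℕ := (nat_lit 0x5bb360)
noncomputable def et3 : ℕ := (nat_lit 0xb919d8)
noncomputable def et4 : ℕ := (nat_lit 0xfac688)
noncomputable def et5 : ℕ := (nat_lit 0xa7b832)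
noncomputable def et6 : ℕ := (nat_lit 0x953c78)
noncomputable def et7 : ℕ := (nat_lit 0xd17ac8)
noncomputable def et8 : ℕ := (nat_lit 0x54f730)
noncomputable def et9 : ℕ := (nat_lit 0x519fa8)
noncomputable def eT_0 : Tr ℕ := (.node (nat_lit 8) (.node (nat_lit 4) (.node (nat_lit 2) (.node (nat_lit 1) (.leaf et0) (.leaf et1)) (.node (nat_lit 3) (.leaf et2) (.leaf et3)))
 (.node (nat_lit 6) (.node (nat_lit 5) (.leaf et4) (.leaf et5)) (.node (nat_lit 7) (.leaf et6) (.leaf et4))))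
 (.node (nat_lit 12) (.node (nat_lit 10) (.node (nat_lit 9) (.leaf et7) (.leaf et8)) (.node (nat_lit 11) (.leaf et2) (.leaf et9)))
 (.node (nat_lit 14) (.node (nat_lit 13) (.leaf et3) (.leaf et4)) (.node (nat_lit 15) (.leaf et0) (.leaf et1)))))
noncomputable def eE_0 : Tr (List ℕ) := (.node (nat_lit 8) (.node (nat_lit 4) (.node (nat_lit 2) (.node (nat_lit 1) (.leaf [nat_lit 0]) (.leaf [nat_lit 1])) (.node (nat_lit 3) (.leaf [nat_lit 2]) (.leaf [nat_lit 3])))
 (.node (nat_lit 6) (.node (nat_lit 5) (.leaf []) (.leaf [nat_lit 4])) (.node (nat_lit 7) (.leaf [nat_lit 0, nat_lit 3]) (.leaf []))))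
 (.node (nat_lit 12) (.node (nat_lit 10) (.node (nat_lit 9) (.leaf [nat_lit 1, nat_lit 3]) (.leaf [nat_lit 0, nat_lit 2])) (.node (nat_lit 11) (.leaf [nat_lit 2]) (.leaf [nat_lit 1, nat_lit 2])))
 (.node (nat_lit 14) (.node (nat_lit 13) (.leaf [nat_lit 3]) (.leaf [])) (.node (nat_lit 15) (.leaf [nat_lit 0]) (.leaf [nat_lit 1])))))
theorem ew_0 : eT_0.all2 (fun c w => isProd 8 (nat_lit 3) (nat_lit 7) T c w) eE_0 = true := by decide +kernel
noncomputable def eT : Tr ℕ := eT_0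
noncomputable def eE : Tr (List ℕ) := eE_0
theorem elets : Lets P 8 (nat_lit 3) (nat_lit 7) (Fin.ofNat 8) eT := lets_words lets eE ew_0
def eL : List Lv := [((nat_lit 1), (nat_lit 13), (nat_lit 3))]
theorem echk : enChk 8 (nat_lit 3) (nat_lit 7) eT L0 (chainOrd 8 [L1, L2]) 4 2 (nat_lit 0x200030100000100) (nat_lit 0x102010202000200) ((2, 6, 7) :: eL) = true := by decide +kernel
theorem er0 : enR (nat_lit 3) (nat_lit 7) eT (leafO B 7 [nat_lit 7, nat_lit 4, nat_lit 3, nat_lit 2, nat_lit 1]) eL (4 + 0) 6 7 = true := by decide +kernel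
theorem er1 : enR (nat_lit 3) (nat_lit 7) eT (leafO B 7 [nat_lit 7, nat_lit 4, nat_lit 3, nat_lit 2, nat_lit 1]) eL (4 + 1) 6 7 = true := by decide +kernel
theorem eall : ∀ g : P, ∃ c f, RepF 8 (Fin.ofNat 8) f (c * g * c⁻¹) ∧ (leafO B 7 [nat_lit 7, nat_lit 4, nat_lit 3, nat_lit 2, nat_lit 1]) f = true :=
  enum_all std elets echk fun j hj => by
    interval_cases j
    exacts [er0, er1]
theorem wit : ∀ x ∈ [3, 4, 7], x ∈ Spec P :=
  spec_wit lets (ofNat_inj 8) base [(3, [nat_lit 0, nat_lit 2]), (4, [nat_lit 0, nat_lit 4, nat_lit 3]), (7, [nat_lit 3, nat_lit 0])] (by decide +kernel)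
theorem spec : SpecL P [1, 2, 3, 4, 7] := SpecL.of (fun g => by
    have := specU (ofNat_inj 8) base (by decide) eall g
    revert this; generalize orderOf g = a; simp; omega) wit (by decide)

end H8.L27
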