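import Cfsg.Agent.H8.GL33
import Cfsg.Agent.H8.SpecC

/-! H8.EL33: `spec`: the element orders of the model `P` (generated certificate) -/

set_option autoImplicit false
set_option maxRecDepth 200000

open Matrix

namespace H8.L33

noncomputable def et0 : ℕ := (nat_lit 0x8765cba943210)
noncomputable def et1 : ℕ := (nat_lit 0xc95b467a83210)
noncomputable def et2 : ℕ := (nat_lit 0xa6c478b593210)
noncomputable def et3 : ℕ := (nat_lit 0xcb89a67452310)
noncomputable def et4 : ℕ := (nat_lit 0x6ba387c129450)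
noncomputable def et5 : ℕ := (nat_lit 0xcba9876543210)
noncomputable def et6 : ℕ := (nat_lit 0xbc3987250a614)
noncomputable def et7 : ℕ := (nat_lit 0x7b84ac6593120)
noncomputable def et8 : ℕ := (nat_lit 0xa7c96b8541230)
noncomputable def et9 : ℕ := (nat_lit 0x7b82a6c139540)
noncomputable def et10 : ℕ := (nat_lit 0xb5934a8127c60)
noncomputable def et11 : ℕ := (nat_lit 0x9ab3854126c70)
noncomputable def et12 : ℕ := (nat_lit 0x694257c13ba80)
noncomputable def et13 : ℕ := (nat_lit 0xa763cb8125490)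
noncomputable def et14 : ℕ := (nat_lit 0x795346c12b8a0)
noncomputable def et15 : ℕ := (nat_lit 0x5673c9412a8b0)
noncomputable def et16 : ℕ := (nat_lit 0x84539ba1267c0)
noncomputable def et17 : ℕ := (nat_lit 0x6a84bc7953210)
noncomputable def et18 : ℕ := (nat_lit 0x58a7b94c63210)
noncomputable def et19 : ℕ := (nat_lit 0xa4569b8c73210)
noncomputable def et20 : ℕ := (nat_lit 0x75489c6ba3210)
noncomputable def et21 : ℕ := (nat_lit 0x57c8649ab3210)
noncomputable def et22 : ℕ := (nat_lit 0x85974ab6c3210)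
noncomputable def eT_0 : Tr ℕ := (.node (nat_lit 16) (.node (nat_lit 8) (.node (nat_lit 4) (.node (nat_lit 2) (.node (nat_lit 1) (.leaf et0) (.leaf et1)) (.node (nat_lit 3) (.leaf et2) (.leaf et3)))
 (.node (nat_lit 6) (.node (nat_lit 5) (.leaf et4) (.leaf et5)) (.node (nat_lit 7) (.leaf et6) (.leaf et5))))
 (.node (nat_lit 12) (.node (nat_lit 10) (.node (nat_lit 9) (.leaf et7) (.leaf et8)) (.node (nat_lit 11) (.leaf et9) (.leaf et4)))
 (.node (nat_lit 14) (.node (nat_lit 13) (.leaf et10) (.leaf et11)) (.node (nat_lit 15) (.leaf et12) (.leaf et13)))))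
 (.node (nat_lit 24) (.node (nat_lit 20) (.node (nat_lit 18) (.node (nat_lit 17) (.leaf et14) (.leaf et15)) (.node (nat_lit 19) (.leaf et16) (.leaf et5)))
 (.node (nat_lit 22) (.node (nat_lit 21) (.leaf et3) (.leaf et5)) (.node (nat_lit 23) (.leaf et17) (.leaf et18))))
 (.node (nat_lit 28) (.node (nat_lit 26) (.node (nat_lit 25) (.leaf et19) (.leaf et1)) (.node (nat_lit 27) (.leaf et2) (.leaf et20)))
 (.node (nat_lit 30) (.node (nat_lit 29) (.leaf et21) (.leaf et22)) (.node (nat_lit 31) (.leaf et5) (.leaf et0))))))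
noncomputable def eE_0 : Tr (List ℕ) := (.node (nat_lit 16) (.node (nat_lit 8) (.node (nat_lit 4) (.node (nat_lit 2) (.node (nat_lit 1) (.leaf [nat_lit 0]) (.leaf [nat_lit 1])) (.node (nat_lit 3) (.leaf [nat_lit 2]) (.leaf [nat_lit 3])))
 (.node (nat_lit 6) (.node (nat_lit 5) (.leaf [nat_lit 4]) (.leaf [])) (.node (nat_lit 7) (.leaf [nat_lit 5]) (.leaf []))))
 (.node (nat_lit 12) (.node (nat_lit 10) (.node (nat_lit 9) (.leaf [nat_lit 4, nat_lit 3, nat_lit 4]) (.leaf [nat_lit 4, nat_lit 0, nat_lit 4])) (.node (nat_lit 11) (.leaf [nat_lit 3, nat_lit 4]) (.leaf [nat_lit 4])))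
 (.node (nat_lit 14) (.node (nat_lit 13) (.leaf [nat_lit 0, nat_lit 1, nat_lit 4]) (.leaf [nat_lit 0, nat_lit 1, nat_lit 0, nat_lit 4])) (.node (nat_lit 15) (.leaf [nat_lit 3, nat_lit 1, nat_lit 4]) (.leaf [nat_lit 0, nat_lit 4])))))
 (.node (nat_lit 24) (.node (nat_lit 20) (.node (nat_lit 18) (.node (nat_lit 17) (.leaf [nat_lit 1, nat_lit 4]) (.leaf [nat_lit 1, nat_lit 0, nat_lit 4])) (.node (nat_lit 19) (.leaf [nat_lit 2, nat_lit 1, nat_lit 4]) (.leaf [])))
 (.node (nat_lit 22) (.node (nat_lit 21) (.leaf [nat_lit 3]) (.leaf [])) (.node (nat_lit 23) (.leaf [nat_lit 0, nat_lit 2]) (.leaf [nat_lit 1, nat_lit 2, nat_lit 1]))))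
 (.node (nat_lit 28) (.node (nat_lit 26) (.node (nat_lit 25) (.leaf [nat_lit 2, nat_lit 1]) (.leaf [nat_lit 1])) (.node (nat_lit 27) (.leaf [nat_lit 2]) (.leaf [nat_lit 2, nat_lit 0, nat_lit 1])))
 (.node (nat_lit 30) (.node (nat_lit 29) (.leaf [nat_lit 1, nat_lit 2]) (.leaf [nat_lit 0, nat_lit 1])) (.node (nat_lit 31) (.leaf []) (.leaf [nat_lit 0]))))))
theorem ew_0 : eT_0.all2 (fun c w => isProd 13 (nat_lit 4) (nat_lit 15) T c w) eE_0 = true := by decide +kernel
noncomputable def eT : Tr ℕ := eT_0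
noncomputable def eE : Tr (List ℕ) := eE_0
theorem elets : Lets P 13 (nat_lit 4) (nat_lit 15) (Fin.ofNat 13) eT := lets_words lets eE ew_0
def eL : List Lv := [((nat_lit 2), (nat_lit 19), (nat_lit 2)), ((nat_lit 4), (nat_lit 21), (nat_lit 9)), ((nat_lit 5), (nat_lit 30), (nat_lit 2))]
theorem echk : enChk 13 (nat_lit 4) (nat_lit 15) eT L0 (chainOrd 13 [L1, L2, L3, L4]) 5 2 (nat_lit 0x10302010204030004040400) (nat_lit 0x2020201010203010002010200) ((1, 7, 12) :: eL) = true := by decide +kernel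
theorem er0 : enR (nat_lit 4) (nat_lit 15) eT (leafO B 13 [nat_lit 13, nat_lit 8, nat_lit 6, nat_lit 4, nat_lit 3, nat_lit 2, nat_lit 1]) eL (5 + 0) 7 12 = true := by decide +kernel
theorem er1 : enR (nat_lit 4) (nat_lit 15) eT (leafO B 13 [nat_lit 13, nat_lit 8, nat_lit 6, nat_lit 4, nat_lit 3, nat_lit 2, nat_lit 1]) eL (5 + 1) 7 12 = true := by decide +kernel
theorem eall : ∀ g : P, ∃ c f, RepF 13 (Fin.ofNat 13) f (c * g * c⁻¹) ∧ (leafO B 13 [nat_lit 13, nat_lit 8, nat_lit 6, nat_lit 4, nat_lit 3, nat_lit 2, nat_lit 1]) f = true :=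
  enum_all std elets echk fun j hj => by
    interval_cases j
    exacts [er0, er1]
theorem wit : ∀ x ∈ [6, 8, 13], x ∈ Spec P :=
  spec_wit lets (ofNat_inj 13) base [(6, [nat_lit 3, nat_lit 4]), (8, [nat_lit 0, nat_lit 1, nat_lit 4]), (13, [nat_lit 5, nat_lit 3, nat_lit 4])] (by decide +kernel)
theorem spec : SpecL P [1, 2, 3, 4, 6, 8, 13] := SpecL.of (fun g => by
    have := specU (ofNat_inj 13) base (by decide) eall g
    revert this; generalize orderOf g = a; simp; omega) wit (by decide)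

end H8.L33
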