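import Cfsg.Agent.H8.GU33
import Cfsg.Agent.H8.SpecC

/-! H8.EU33: `spec`: the element orders of the model `P` (generated certificate) -/

set_option autoImplicit false
set_option maxRecDepth 200000

open Matrix

namespace H8.U33

noncomputable def et0 : ℕ := (nat_lit 0xce230398a4dea725a928bdab47b9ac18820)
noncomputable def et1 : ℕ := (nat_lit 0x9cb7a5a9288c338398a47b9acbdab418820)
noncomputable def et2 : ℕ := (nat_lit 0x33dcb96c95b1d57c450d84e89d658510c20)
noncomputable def et3 : ℕ := (nat_lit 0xb1ccf84e8955dcbd6585c450d96c9510c20)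
noncomputable def et4 : ℕ := (nat_lit 0xdd91496a1835c75635cf5903914caa89d20)
noncomputable def et5 : ℕ := (nat_lit 0xdeb38bdab49ca307b9ac5a928398a418820)
noncomputable def et6 : ℕ := (nat_lit 0xdc5d6be0a33af5036522929a19bea0a3104)
noncomputable def et7 : ℕ := (nat_lit 0x84e5b416cfc4759225d765547a34cb18440)
noncomputable def et8 : ℕ := (nat_lit 0x4168d55e1b6548933f5172f13b1e5908860)
noncomputable def et9 : ℕ := (nat_lit 0x766a57acf78e84c4d2709342a1991bb6080)
noncomputable def et10 : ℕ := (nat_lit 0x8b88cc435253c6da56d73a03316526daca0)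
noncomputable def et11 : ℕ := (nat_lit 0xb50fb4ad0a93f2175622269b3b8f05640c0)
noncomputable def et12 : ℕ := (nat_lit 0xa9afbc974ca0ec8505b27c082c3a6b8a4e0)
noncomputable def et13 : ℕ := (nat_lit 0xb4da9b9d6fdc0542b33ac54261a89174900)
noncomputable def et14 : ℕ := (nat_lit 0x6a20562c521d8ef0e0d5bb9248cf3bd5140)
noncomputable def et15 : ℕ := (nat_lit 0x6a9f19a61460dc4306b8be90295b27d9560)
noncomputable def et16 : ℕ := (nat_lit 0x544ad5dde79e048a9372d24361ba9934180)
noncomputable def et17 : ℕ := (nat_lit 0x9a98884b1ab2c69214c77d03b146aecdda0)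
noncomputable def et18 : ℕ := (nat_lit 0x311f9ade96d2e21516626613b38e0d449c0)
noncomputable def et19 : ℕ := (nat_lit 0x20cae5c982350f982b77b053a8b7089d5e0)
noncomputable def et20 : ℕ := (nat_lit 0x44f0ab52f568a25c848b93d233edda33200)
noncomputable def et21 : ℕ := (nat_lit 0xc970e24abb7c1419b2c36ae86d0ae849e20)
noncomputable def et22 : ℕ := (nat_lit 0xa6e16310e548a6d88597d2ea37e55872240)
noncomputable def et23 : ℕ := (nat_lit 0x426ec6c06716f580af2494685559c67d660)
noncomputable def et24 : ℕ := (nat_lit 0x36d353beebcc8446a2388142e1d99356a80)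
noncomputable def et25 : ℕ := (nat_lit 0xc9a84d625071c654254bbb03116db69bea0)
noncomputable def et26 : ℕ := (nat_lit 0x4d24d45c5a199eb0c1c53aaac9ee39c12c0)
noncomputable def et27 : ℕ := (nat_lit 0x4d973dd64440d4c704b03e282d1a2fcb6e0)
noncomputable def et28 : ℕ := (nat_lit 0x9ec301324b45cea76474a952d8e9e625b00)
noncomputable def et29 : ℕ := (nat_lit 0xd19c19096cdd4f82bd16a4133891436df20)
noncomputable def et30 : ℕ := (nat_lit 0x8cc381120f62eee36c684d5a5cc8f6a2b40)
noncomputable def et31 : ℕ := (nat_lit 0x958c1809e49a6faa9d8a461b1cd1c32af60)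
noncomputable def et32 : ℕ := (nat_lit 0x8c2727b9acce37abdab4398a45a92818820)
noncomputable def eT_0 : Tr ℕ := (.node (nat_lit 20) (.node (nat_lit 10) (.node (nat_lit 5) (.node (nat_lit 2) (.node (nat_lit 1) (.leaf et0) (.leaf et1)) (.node (nat_lit 3) (.leaf et2) (.node (nat_lit 4) (.leaf et3) (.leaf et4))))
 (.node (nat_lit 7) (.node (nat_lit 6) (.leaf et5) (.leaf et6)) (.node (nat_lit 8) (.leaf et5) (.node (nat_lit 9) (.leaf et7) (.leaf et8)))))
 (.node (nat_lit 15) (.node (nat_lit 12) (.node (nat_lit 11) (.leaf et9) (.leaf et10)) (.node (nat_lit 13) (.leaf et11) (.node (nat_lit 14) (.leaf et12) (.leaf et13))))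
 (.node (nat_lit 17) (.node (nat_lit 16) (.leaf et4) (.leaf et14)) (.node (nat_lit 18) (.leaf et15) (.node (nat_lit 19) (.leaf et16) (.leaf et17))))))
 (.node (nat_lit 30) (.node (nat_lit 25) (.node (nat_lit 22) (.node (nat_lit 21) (.leaf et18) (.leaf et19)) (.node (nat_lit 23) (.leaf et20) (.node (nat_lit 24) (.leaf et21) (.leaf et22))))
 (.node (nat_lit 27) (.node (nat_lit 26) (.leaf et23) (.leaf et24)) (.node (nat_lit 28) (.leaf et25) (.node (nat_lit 29) (.leaf et26) (.leaf et27)))))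
 (.node (nat_lit 35) (.node (nat_lit 32) (.node (nat_lit 31) (.leaf et28) (.leaf et29)) (.node (nat_lit 33) (.leaf et30) (.node (nat_lit 34) (.leaf et31) (.leaf et5))))
 (.node (nat_lit 37) (.node (nat_lit 36) (.leaf et2) (.leaf et5)) (.node (nat_lit 38) (.leaf et32) (.node (nat_lit 39) (.leaf et0) (.leaf et1)))))))
noncomputable def eE_0 : Tr (List ℕ) := (.node (nat_lit 20) (.node (nat_lit 10) (.node (nat_lit 5) (.node (nat_lit 2) (.node (nat_lit 1) (.leaf [nat_lit 0]) (.leaf [nat_lit 1])) (.node (nat_lit 3) (.leaf [nat_lit 2]) (.node (nat_lit 4) (.leaf [nat_lit 3]) (.leaf [nat_lit 4]))))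
 (.node (nat_lit 7) (.node (nat_lit 6) (.leaf []) (.leaf [nat_lit 5])) (.node (nat_lit 8) (.leaf []) (.node (nat_lit 9) (.leaf [nat_lit 4, nat_lit 2, nat_lit 0, nat_lit 4, nat_lit 0, nat_lit 4]) (.leaf [nat_lit 4, nat_lit 2, nat_lit 4, nat_lit 1, nat_lit 4])))))
 (.node (nat_lit 15) (.node (nat_lit 12) (.node (nat_lit 11) (.leaf [nat_lit 2, nat_lit 0, nat_lit 4]) (.leaf [nat_lit 0, nat_lit 0, nat_lit 4])) (.node (nat_lit 13) (.leaf [nat_lit 1, nat_lit 4, nat_lit 1, nat_lit 4]) (.node (nat_lit 14) (.leaf [nat_lit 2, nat_lit 0, nat_lit 4, nat_lit 0, nat_lit 4]) (.leaf [nat_lit 3, nat_lit 4]))))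
 (.node (nat_lit 17) (.node (nat_lit 16) (.leaf [nat_lit 4]) (.leaf [nat_lit 4, nat_lit 2, nat_lit 0, nat_lit 4])) (.node (nat_lit 18) (.leaf [nat_lit 3, nat_lit 4, nat_lit 0, nat_lit 4]) (.node (nat_lit 19) (.leaf [nat_lit 3, nat_lit 1, nat_lit 4]) (.leaf [nat_lit 1, nat_lit 4]))))))
 (.node (nat_lit 30) (.node (nat_lit 25) (.node (nat_lit 22) (.node (nat_lit 21) (.leaf [nat_lit 4, nat_lit 1, nat_lit 4]) (.leaf [nat_lit 4, nat_lit 3, nat_lit 1, nat_lit 4])) (.node (nat_lit 23) (.leaf [nat_lit 4, nat_lit 0, nat_lit 4]) (.node (nat_lit 24) (.leaf [nat_lit 2, nat_lit 4, nat_lit 1, nat_lit 4]) (.leaf [nat_lit 0, nat_lit 4, nat_lit 0, nat_lit 4]))))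
 (.node (nat_lit 27) (.node (nat_lit 26) (.leaf [nat_lit 2, nat_lit 4, nat_lit 2, nat_lit 0, nat_lit 4]) (.leaf [nat_lit 2, nat_lit 4])) (.node (nat_lit 28) (.leaf [nat_lit 0, nat_lit 4]) (.node (nat_lit 29) (.leaf [nat_lit 0, nat_lit 4, nat_lit 2, nat_lit 0, nat_lit 4]) (.leaf [nat_lit 2, nat_lit 4, nat_lit 0, nat_lit 4])))))
 (.node (nat_lit 35) (.node (nat_lit 32) (.node (nat_lit 31) (.leaf [nat_lit 4, nat_lit 2, nat_lit 4]) (.leaf [nat_lit 4, nat_lit 3, nat_lit 4])) (.node (nat_lit 33) (.leaf [nat_lit 1, nat_lit 4, nat_lit 2, nat_lit 4]) (.node (nat_lit 34) (.leaf [nat_lit 1, nat_lit 4, nat_lit 3, nat_lit 4]) (.leaf []))))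
 (.node (nat_lit 37) (.node (nat_lit 36) (.leaf [nat_lit 2]) (.leaf [])) (.node (nat_lit 38) (.leaf [nat_lit 0, nat_lit 0]) (.node (nat_lit 39) (.leaf [nat_lit 0]) (.leaf [nat_lit 1])))))))
theorem ew_0 : eT_0.all2 (fun c w => isProd 28 (nat_lit 5) (nat_lit 31) T c w) eE_0 = true := by decide +kernel
noncomputable def eT : Tr ℕ := eT_0
noncomputable def eE : Tr (List ℕ) := eE_0
theorem elets : Lets P 28 (nat_lit 5) (nat_lit 31) (Fin.ofNat 28) eT := lets_words lets eE ew_0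
def eL : List Lv := [((nat_lit 2), (nat_lit 34), (nat_lit 2)), ((nat_lit 4), (nat_lit 36), (nat_lit 4))]
theorem echk : enChk 28 (nat_lit 5) (nat_lit 31) eT L0 (chainOrd 28 [L1, L2, L3]) 5 2 (nat_lit 0x3000404030102000301020404000301030402000000030004040400) (nat_lit 0x3030302030201010203020202020201030102020303010003040300) ((1, 7, 27) :: eL) = true := by decide +kernel
theorem er0 : enR (nat_lit 5) (nat_lit 31) eT (leafO B 12 [nat_lit 12, nat_lit 8, nat_lit 7, nat_lit 6, nat_lit 4, nat_lit 3, nat_lit 2, nat_lit 1]) eL (5 + 0) 7 27 = true := by decide +kernel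
theorem er1 : enR (nat_lit 5) (nat_lit 31) eT (leafO B 12 [nat_lit 12, nat_lit 8, nat_lit 7, nat_lit 6, nat_lit 4, nat_lit 3, nat_lit 2, nat_lit 1]) eL (5 + 1) 7 27 = true := by decide +kernel
theorem eall : ∀ g : P, ∃ c f, RepF 28 (Fin.ofNat 28) f (c * g * c⁻¹) ∧ (leafO B 12 [nat_lit 12, nat_lit 8, nat_lit 7, nat_lit 6, nat_lit 4, nat_lit 3, nat_lit 2, nat_lit 1]) f = true :=
  enum_all std elets echk fun j hj => by
    interval_cases j
    exacts [er0, er1]
theorem wit : ∀ x ∈ [7, 8, 12], x ∈ Spec P :=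
  spec_wit lets (ofNat_inj 28) base [(7, [nat_lit 5, nat_lit 4, nat_lit 3]), (8, [nat_lit 3]), (12, [nat_lit 4, nat_lit 0])] (by decide +kernel)
theorem spec : SpecL P [1, 2, 3, 4, 6, 7, 8, 12] := SpecL.of (fun g => by
    have := specU (ofNat_inj 28) base (by decide) eall g
    revert this; generalize orderOf g = a; simp; omega) wit (by decide)

end H8.U33
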