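import Cfsg.Agent.H8.GU34
import Cfsg.Agent.H8.SpecC

/-! H8.EU34: `spec`: the element orders of the model `P` (generated certificate) -/

set_option autoImplicit false
set_option maxRecDepth 200000

open Matrix

namespace H8.U34

noncomputable def et0 : ℕ := (nat_lit 0x2d5868c982e5922344850264a4078e1a31a337cf5e3b74182b262c17ae2a50992227cf1d386d5aa52a138b142440772e1bb66b01f840608080)
noncomputable def et1 : ℕ := (nat_lit 0x60aad529509c58a12203ad58911a2428203f2a5099222d19b970ddb353464c172cf9ebc76e8f9e3a70db262c17ae203c70d18992840608080)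
noncomputable def et2 : ℕ := (nat_lit 0x3a207600f5ef463e502429b72d4f9744b0b0b30198a1544520734edbbf52d1c083c4d68a1a65e2646d8a202a718335cac90e4a9d9030410080)
noncomputable def et3 : ℕ := (nat_lit 0x3d40e1d15450199d424991e181548d762ccae149cfb70c503a526bd410626df0e688cb2b60b4791342533f7820bb95861b1c48a9a82080c080)
noncomputable def et4 : ℕ := (nat_lit 0x3e54ccd9346b8b100289e30805d02f689db0c4224f25740821810b4a0f641873d3849c033e34eab6a2d3196255c8534ddfbb0ea56284844500)
noncomputable def et5 : ℕ := (nat_lit 0x331300e35109c69914b49af7c7c7b460e910528fc3045c4540376d95b12ea4a9b7a2c82464e472178681384074b2c24055230e786253099b80)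
noncomputable def et6 : ℕ := (nat_lit 0x407ef9ebc76e9cb86ed9ab466c98b05eb96ac56a94a84e992a446890a03e78e9c3668c982e58a9426488901e3868c16284880e182840608080)
noncomputable def et7 : ℕ := (nat_lit 0x1a1e35b953a0990e7a7031228e4fa60ea42983c5d70a02c0424408512362addb6070062c5411e3312d000b7ee1f1920a09a55ed569636e9391)
noncomputable def et8 : ℕ := (nat_lit 0x207ac8bb60a4c486566dc0c3c8969a4ec571948ec4253a1ca3780f88a316497ac7840e217ea5ca81accc30687dd0f1c98a9614d55010610100)
noncomputable def et9 : ℕ := (nat_lit 0x1074158126a69b2a14d0eb936bcca30ca45964a88e077c908a17ae13135825dae2afc728407d9b72e3158d3cc603c10507ad30c93810808180)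
noncomputable def et10 : ℕ := (nat_lit 0xd349d18c3afda2228e5db62a1873d647041f22e17180a855a660a92172c3daa966e988726b0d8a40f12c012648125adcf0b50bdf030208200)
noncomputable def et11 : ℕ := (nat_lit 0x2e3e4cd0c16d169646ad81e6c71a88809c0844cfc112625c83966a0c0d701d22f1cf5dba78f90b732b0d89520d014543cab24a288863a88280)
noncomputable def et12 : ℕ := (nat_lit 0x3270d1aa53210b887ee5e184cb8abb12b15a162cca243f0098a0668e2f1c3c68c20f94b004d8d964ee8881461d5123ca1bad1681e9d0a88300)
noncomputable def et13 : ℕ := (nat_lit 0x2d582d12e1ed9d92505ce19106df0e62d09b0065a02572288a63c802056640d2a7019e242ad5d0152c9b8c4efcea35e60f890435eab4250380)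
noncomputable def et14 : ℕ := (nat_lit 0x3270b1d13621d316145473f602c2bb5235a3c72b44aa38454352808d9034d80864a8d0244288f124e61f2b6eccb8c3abe03d1e0c21f32b8400)
noncomputable def et15 : ℕ := (nat_lit 0x2c1c18b871a457bd1f00ea156698ad449dba53c15304406c9035020aa3764cf965441939482d83652f810a6a61d3f3804a38186573378d0480)
noncomputable def et16 : ℕ := (nat_lit 0x2822103145cfc91f70341ab4265d2404315354c05f33109dd896039ba23c696237215b32265d025146de401ebcebd20d039530a56b13858580)
noncomputable def et17 : ℕ := (nat_lit 0x3270ac5100af550630c50ba2e89cbb28d0082321c1b03add2bf4038fa8782d6125e444a6343ce084ed600d7c11216364d1b35ca569e2ad8600)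
noncomputable def et18 : ℕ := (nat_lit 0x355e79b8b50b49112650a9c6228eaa6cd042e7430c8249018041ced19812adc0636959bf58150977c3c1a9727d3074404b3c209d92034f4680)
noncomputable def et19 : ℕ := (nat_lit 0x3f6099d8c5e6d0aa6218c362af91c06e444b33295a046a58e032434fb85074d3a28c920b724110826ac10f0ef13852e04f0a5cf502c52b4700)
noncomputable def et20 : ℕ := (nat_lit 0x2b28b0b1d7081d3202dd4a20cedaa15a4442e6c38cb34e0823c1b00f31489982a2e7050334bcc150e41a3d467c5a57c242a8184df92726c780)
noncomputable def et21 : ℕ := (nat_lit 0x12361131e4014e1a14bc1956cf53b904b8a0768055ac1a4540e44c04b732f9fb816944243aedab31e594866284c2a64b461f784e0232ee8800)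
noncomputable def et22 : ℕ := (nat_lit 0xf365cfa258d5fa942708050cb5b1274813b8308dd841c1d5817ccd308342da0c2665e945478b2573001af60c97312a08e8d6ef048a48a0880)
noncomputable def et23 : ℕ := (nat_lit 0xb389c6a560511402ae9c37304cf9676a942468c88837e79b024239e1a5e8d4990c81a8c0eb8b89627422b0a29e90100533e66b56391e6c900)
noncomputable def et24 : ℕ := (nat_lit 0x312cd431578913330221f363c25c9c54b5db22ebd3a0680c11a5051d1d586509b6e894841448fa31695e9130e02ae1e3460e20ac3b07f00980)
noncomputable def et25 : ℕ := (nat_lit 0x153c354bb16148316e210324e584b67afd53e14697833894c013ae488e26b8db346b60260cd0ca418e81222ed561f7811c30503c92b0e84a00)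
noncomputable def et26 : ℕ := (nat_lit 0x184c2ccb87cfdeb502a18bb4ebc2b72c5072c12716b9541018f60e9a1f0e44b861a21582268853c4a80dc034a57243a49921668c8361878a80)
noncomputable def et27 : ℕ := (nat_lit 0x2c1cdc1aa78b9d0942792be5ed202d4c185241a61439665038f32ed0013a313bf460912b104cabd525cd9f20442366049a8534c9c1c622cb00)
noncomputable def et28 : ℕ := (nat_lit 0x32766d0ac6e644a6344478e5261f272478e0b80e4b034af468210889ab6c28eaa681c6205cd543070f021f66c4a245e056957e1829046e8b80)
noncomputable def et29 : ℕ := (nat_lit 0x384e31a1a262d6bf02bca8d7ac083b3c1893950d8d87800c12b38648bc0aa843a1c24e84625df0a64b0a16523d9b54685022487d7374a98c00)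
noncomputable def et30 : ℕ := (nat_lit 0xb38a01061eb1e926ed121d446dd16229d587602908c72992955abdf8170cd5103411d981c8de406234f2940501892ed82b226d5f083eb8c80)
noncomputable def et31 : ℕ := (nat_lit 0x295ac950f2a94a0c0271c1236d998e4e6510560ec3103c101a36e4603e5c5943442bcf823025893581dd265675a8b785dc887e2920d40f4d00)
noncomputable def et32 : ℕ := (nat_lit 0x3312881bd3030b375e5029a1a996b40d01c321075da44aa9a8a3c5d701261dd2c620983e6ca55997870895169c2211ca103f3e411921ee4d80)
noncomputable def et33 : ℕ := (nat_lit 0x102e457b34479b863e9c5097874d3a50509395a90d830a644026cc14be42e09bd4cd43ae1881d8e46602154a3d5321a05a2b5901f8b6258e00)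
noncomputable def et34 : ℕ := (nat_lit 0x23741d31f52e5a2c02355883238597290142476848b55a0c13e24793987ef5b1612dc9841e70d3820cd51b78292a062bd73064546220a18e80)
noncomputable def et35 : ℕ := (nat_lit 0x3924ec14014ccca844999136044b1b4ee9f351ce178748182ab68356014695e8b3e10b9d12c4c2d1e20a3c5ca81b73885f905280d362a30f00)
noncomputable def et36 : ℕ := (nat_lit 0x3c6841e8a561550702491a82285289747983f1c5e00b28101b1449d69a186dda65e34a823adc7a966d4b067c4d039307123658e19085c64f80)
noncomputable def et37 : ℕ := (nat_lit 0x144215c9532c539f6e283363c209ab44091ba5a7483e5c992b52ccd48f0645a3f646c09816c120e0ee179c765c92880a860458f049a1af5000)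
noncomputable def et38 : ℕ := (nat_lit 0xc6cf47323818b963064d3b70c5e1e1b017b522815021699b844448529607c7b474b1fa50acc4282a8c19d20f96ae1205393486dc875651080)
noncomputable def et39 : ℕ := (nat_lit 0x256eb49206ce841e70d148d34545261c5983f54b2004189dd832e85f0f38f159132e45b220904af307c1235c4cdb35005eb16a503853a19100)
noncomputable def et40 : ℕ := (nat_lit 0x1f32153bc1e1c8b90238e8968486080c597b51a8953f36082134299eb816b5b9e50ed88356d949a5c9201414f992c2ac199c406129720e9180)
noncomputable def et41 : ℕ := (nat_lit 0x195cb178b78491096ec071638d1c085278d0d08b5e876661314364013518fd1a73aa8aa51eca0013e150b90c81f1376ad8b6065dd0a5045200)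
noncomputable def et42 : ℕ := (nat_lit 0x1616b9dac2a257b6423442d1c78e9c3e6d1970465d2418aca1168fc1b272809867c9c7877815e8162d54335441c1a442949208c20186e99280)
noncomputable def et43 : ℕ := (nat_lit 0x3c68c18af5cc901f5039fb55464909804031d564d10210905017030a1c46b0f393459d114e6d68766f423b1a145a91e0df174255b184add300)
noncomputable def et44 : ℕ := (nat_lit 0x357c6c2a45a0c68e203078a22b1e2f242cc373ee530752e91ab044c422385583340758970824f1954f4a01349433668854165cfe03864ed380)
noncomputable def et45 : ℕ := (nat_lit 0x3924e84051ca982d56591a23aa4a9b2ef5db24c4138358510825e24c1f1ac5e1e80b90076a30e371e4c23e7ee0c8b6c0431a4ad19a41445400)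
noncomputable def et46 : ℕ := (nat_lit 0xf368202b30c832502d8d2128dd2127ad0b903835d2e4c0c11f76a8b13667979144c1e0470a0ab17214ca73a8df8c142038916f9a8e58b5480)
noncomputable def et47 : ℕ := (nat_lit 0x53a799072c0981c40ccaab282c7a26cb852852308a562f4d18088c73b10f0bb97ee0f8d0649a2d0d01301269138936dd0995841d3e6abd500)
noncomputable def et48 : ℕ := (nat_lit 0x1d0ce4f2334b0ca002ec7977435fa236a84b36e49a247a1018a1c593156a9ce4010d9f0252c1c180ab88ad3ef063226a082f4ac45a10e51580)
noncomputable def et49 : ℕ := (nat_lit 0x756f0ab548193111e684aa5ea1721685808480cc13b1449cb20a5c9b662808086e78e1b3a7c6b028953a2300c63d32e1f0b7e8dd2d5239600)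
noncomputable def et50 : ℕ := (nat_lit 0x402d858f44b9d8620c0f392475b822a357aa1231f280ae91a43e519b17a4d0a67058d173261fb406c88884ed4e404a28da078ac3ac1ca5680)
noncomputable def et51 : ℕ := (nat_lit 0x2a5efd22b3c3dd1544e202128d94be6009896684c59a18182a03695e0a069d32c204409d72399096a8c6922e7143b5af43846661b9f1065700)
noncomputable def et52 : ℕ := (nat_lit 0x742644902500e1b3a78f97463cc1410b46a04eb9e82721910460a1c3c1c545262ccd6057e95b3b56c41931669a0c6e05d2964452357ca9780)
noncomputable def et53 : ℕ := (nat_lit 0x544d142e4259b144699e083eadc06126c72c7acd6840ee8b8338bcd0a2461f273c91c9016c9b8d3a5413118a48a57604c8f40a9abf2701800)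
noncomputable def et54 : ℕ := (nat_lit 0x153cfdd1814d53a402249b74ca03b6806c6a010c1eac22082295e18ca372d1114765c7837c85e1f18c96aa706883356392925c7429c1659880)
noncomputable def et55 : ℕ := (nat_lit 0x1c2c11a196a94bbe1e8419f10a888b0480f0c5a04abf5e6c9306e887097aac28a20cc6b930a03ac62e89a646d9e14490171a5274338769d900)
noncomputable def et56 : ℕ := (nat_lit 0x357c615a06500327147dbbd1aec62f4c6c0845a9411770a12107e714a11eb85b64450911265440e5415d303a0c3993c8cd3958c4b347825980)
noncomputable def et57 : ℕ := (nat_lit 0xc6cbc23a56e56a17645aa32e50c9e54f4e8538f91250e9d91836c0581349202e520c6b8247c5162a3930f581812810dc82062fc98978cda00)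
noncomputable def et58 : ℕ := (nat_lit 0x104e91402ae198c6eacbb07ed8f842044d92348dcac3c6130e6471e865084b2e68752257620a2006254a7783c28732b498a1a2d8aa7cbda80)
noncomputable def et59 : ℕ := (nat_lit 0x281488d315a9d1a932bc31616380913ae5a097e159a558b841864ae02036d4a02203491f700d530485d33b74f1ebe08dce0f268438c2a79b00)
noncomputable def et60 : ℕ := (nat_lit 0x1a7a948a96230d8b02c0c0e5a7170d4ce90875edca052c0821d6cd150a210049924a11832a209be40e431e1ead23f3e896176af19bb649dc00)
noncomputable def et61 : ℕ := (nat_lit 0x3d40fd0905271b8e128983a2eb450d2665f2f090150c58f1a1e2cc81075c15c113050fb362903013495b0b4cd559d505518806ed38f246dc80)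
noncomputable def et62 : ℕ := (nat_lit 0xf7209b951a758bd50d409e186991b08215a1120ca29409052d0d01a263ea89bb2c617110ae17bc242d622381d2be4e39b1966fd8174641d00)
noncomputable def et63 : ℕ := (nat_lit 0x245059b3f12f47347c6d8b026f15913864b900c2dd0366a97821adce95103cc145a31735401c92214a421a588cf39420601f0a992b2709dd80)
noncomputable def et64 : ℕ := (nat_lit 0xa22b96be3a420050284faf54899283298e0b2420b0c0c0c1152ef4da94a506a76038c0446ed58f48fcf3a26c560770d9ab7726900966d1e00)
noncomputable def et65 : ℕ := (nat_lit 0x102e4812662fd51c12b5c986e593ba3644a8c443db2e16d199f808428114b0a327c1143c60e148646bcc936a7818e76212a43a1d58d3481e80)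
noncomputable def et66 : ℕ := (nat_lit 0x138090a313eccf2e025c51c2c2163022f5ba544a133232101b8126c32b40e892d6c84d02783919d7e313b42a6039052ec58d0a3dcaf6aa9f00)
noncomputable def et67 : ℕ := (nat_lit 0xc2aa4f877299a1b62f871442490365ae80840cb01281e705a44aece8846d590d1264b9630697a23ccc8b7780d72a7a295900ae13c026c1f80)
noncomputable def et68 : ℕ := (nat_lit 0x3c660d08f2ef94ba6ec809b728c2b404705286c1089f2094c1954f4f14629cd225aac5a66a75d9512b172f1c903b80c2091618806b026fe000)
noncomputable def et69 : ℕ := (nat_lit 0x34667cf1d386d93160bd7060a2c509101d3253464c172d01f901e3868c56a94a84e54a132445f3d78edd3970ddb35488d12140b56040608080)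
noncomputable def et70 : ℕ := (nat_lit 0x264a54a13244480f1c346407ee5c376cd43053e78e9c36b560b14244077cf5e3b74ad529509cd19305cb2446890a064c582f5cd19840608080)
noncomputable def eT_0 : Tr ℕ := (.node (nat_lit 40) (.node (nat_lit 20) (.node (nat_lit 10) (.node (nat_lit 5) (.node (nat_lit 2) (.node (nat_lit 1) (.leaf et0) (.leaf et1)) (.node (nat_lit 3) (.leaf et2) (.node (nat_lit 4) (.leaf et3) (.leaf et4))))
 (.node (nat_lit 7) (.node (nat_lit 6) (.leaf et5) (.leaf et6)) (.node (nat_lit 8) (.leaf et7) (.node (nat_lit 9) (.leaf et6) (.leaf et8)))))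
 (.node (nat_lit 15) (.node (nat_lit 12) (.node (nat_lit 11) (.leaf et9) (.leaf et10)) (.node (nat_lit 13) (.leaf et11) (.node (nat_lit 14) (.leaf et12) (.leaf et13))))
 (.node (nat_lit 17) (.node (nat_lit 16) (.leaf et14) (.leaf et15)) (.node (nat_lit 18) (.leaf et4) (.node (nat_lit 19) (.leaf et16) (.leaf et17))))))
 (.node (nat_lit 30) (.node (nat_lit 25) (.node (nat_lit 22) (.node (nat_lit 21) (.leaf et18) (.leaf et19)) (.node (nat_lit 23) (.leaf et20) (.node (nat_lit 24) (.leaf et21) (.leaf et22))))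
 (.node (nat_lit 27) (.node (nat_lit 26) (.leaf et23) (.leaf et24)) (.node (nat_lit 28) (.leaf et25) (.node (nat_lit 29) (.leaf et26) (.leaf et27)))))
 (.node (nat_lit 35) (.node (nat_lit 32) (.node (nat_lit 31) (.leaf et28) (.leaf et29)) (.node (nat_lit 33) (.leaf et30) (.node (nat_lit 34) (.leaf et31) (.leaf et32))))
 (.node (nat_lit 37) (.node (nat_lit 36) (.leaf et33) (.leaf et34)) (.node (nat_lit 38) (.leaf et35) (.node (nat_lit 39) (.leaf et36) (.leaf et37)))))))
 (.node (nat_lit 60) (.node (nat_lit 50) (.node (nat_lit 45) (.node (nat_lit 42) (.node (nat_lit 41) (.leaf et38) (.leaf et39)) (.node (nat_lit 43) (.leaf et40) (.node (nat_lit 44) (.leaf et41) (.leaf et42))))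
 (.node (nat_lit 47) (.node (nat_lit 46) (.leaf et43) (.leaf et44)) (.node (nat_lit 48) (.leaf et45) (.node (nat_lit 49) (.leaf et46) (.leaf et47)))))
 (.node (nat_lit 55) (.node (nat_lit 52) (.node (nat_lit 51) (.leaf et48) (.leaf et49)) (.node (nat_lit 53) (.leaf et50) (.node (nat_lit 54) (.leaf et51) (.leaf et52))))
 (.node (nat_lit 57) (.node (nat_lit 56) (.leaf et53) (.leaf et54)) (.node (nat_lit 58) (.leaf et55) (.node (nat_lit 59) (.leaf et56) (.leaf et57))))))
 (.node (nat_lit 70) (.node (nat_lit 65) (.node (nat_lit 62) (.node (nat_lit 61) (.leaf et58) (.leaf et59)) (.node (nat_lit 63) (.leaf et5) (.node (nat_lit 64) (.leaf et60) (.leaf et61))))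
 (.node (nat_lit 67) (.node (nat_lit 66) (.leaf et62) (.leaf et63)) (.node (nat_lit 68) (.leaf et64) (.node (nat_lit 69) (.leaf et65) (.leaf et66)))))
 (.node (nat_lit 75) (.node (nat_lit 72) (.node (nat_lit 71) (.leaf et67) (.leaf et68)) (.node (nat_lit 73) (.leaf et6) (.node (nat_lit 74) (.leaf et3) (.leaf et2))))
 (.node (nat_lit 77) (.node (nat_lit 76) (.leaf et6) (.leaf et1)) (.node (nat_lit 78) (.leaf et69) (.node (nat_lit 79) (.leaf et70) (.leaf et0))))))))
noncomputable def eE_0 : Tr (List ℕ) := (.node (nat_lit 40) (.node (nat_lit 20) (.node (nat_lit 10) (.node (nat_lit 5) (.node (nat_lit 2) (.node (nat_lit 1) (.leaf [nat_lit 0]) (.leaf [nat_lit 1])) (.node (nat_lit 3) (.leaf [nat_lit 2]) (.node (nat_lit 4) (.leaf [nat_lit 3]) (.leaf [nat_lit 4]))))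
 (.node (nat_lit 7) (.node (nat_lit 6) (.leaf [nat_lit 5]) (.leaf [])) (.node (nat_lit 8) (.leaf [nat_lit 6]) (.node (nat_lit 9) (.leaf []) (.leaf [nat_lit 2, nat_lit 4, nat_lit 3, nat_lit 4])))))
 (.node (nat_lit 15) (.node (nat_lit 12) (.node (nat_lit 11) (.leaf [nat_lit 4, nat_lit 3, nat_lit 4]) (.leaf [nat_lit 5, nat_lit 2, nat_lit 5])) (.node (nat_lit 13) (.leaf [nat_lit 1, nat_lit 4, nat_lit 1, nat_lit 5]) (.node (nat_lit 14) (.leaf [nat_lit 2, nat_lit 5, nat_lit 1, nat_lit 5]) (.leaf [nat_lit 2, nat_lit 5, nat_lit 3, nat_lit 4]))))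
 (.node (nat_lit 17) (.node (nat_lit 16) (.leaf [nat_lit 4, nat_lit 0, nat_lit 0, nat_lit 4]) (.leaf [nat_lit 1, nat_lit 5])) (.node (nat_lit 18) (.leaf [nat_lit 4]) (.node (nat_lit 19) (.leaf [nat_lit 0, nat_lit 4, nat_lit 0, nat_lit 4]) (.leaf [nat_lit 3, nat_lit 4, nat_lit 2, nat_lit 0, nat_lit 4]))))))
 (.node (nat_lit 30) (.node (nat_lit 25) (.node (nat_lit 22) (.node (nat_lit 21) (.leaf [nat_lit 3, nat_lit 0, nat_lit 0, nat_lit 5]) (.leaf [nat_lit 1, nat_lit 1, nat_lit 5])) (.node (nat_lit 23) (.leaf [nat_lit 1, nat_lit 4]) (.node (nat_lit 24) (.leaf [nat_lit 4, nat_lit 0, nat_lit 4]) (.leaf [nat_lit 3, nat_lit 5, nat_lit 2, nat_lit 4]))))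
 (.node (nat_lit 27) (.node (nat_lit 26) (.leaf [nat_lit 2, nat_lit 1, nat_lit 5]) (.leaf [nat_lit 3, nat_lit 0, nat_lit 0, nat_lit 4])) (.node (nat_lit 28) (.leaf [nat_lit 5, nat_lit 2, nat_lit 4]) (.node (nat_lit 29) (.leaf [nat_lit 2, nat_lit 1, nat_lit 4]) (.leaf [nat_lit 3, nat_lit 5, nat_lit 0, nat_lit 4])))))
 (.node (nat_lit 35) (.node (nat_lit 32) (.node (nat_lit 31) (.leaf [nat_lit 2, nat_lit 0, nat_lit 0, nat_lit 5]) (.leaf [nat_lit 3, nat_lit 4])) (.node (nat_lit 33) (.leaf [nat_lit 5, nat_lit 0, nat_lit 4]) (.node (nat_lit 34) (.leaf [nat_lit 2, nat_lit 0, nat_lit 0, nat_lit 4]) (.leaf [nat_lit 3, nat_lit 0, nat_lit 5, nat_lit 0, nat_lit 4]))))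
 (.node (nat_lit 37) (.node (nat_lit 36) (.leaf [nat_lit 2, nat_lit 1, nat_lit 1, nat_lit 5]) (.leaf [nat_lit 3, nat_lit 0, nat_lit 4])) (.node (nat_lit 38) (.leaf [nat_lit 0, nat_lit 5, nat_lit 0, nat_lit 4]) (.node (nat_lit 39) (.leaf [nat_lit 2, nat_lit 1, nat_lit 1, nat_lit 4]) (.leaf [nat_lit 5, nat_lit 1, nat_lit 4])))))))
 (.node (nat_lit 60) (.node (nat_lit 50) (.node (nat_lit 45) (.node (nat_lit 42) (.node (nat_lit 41) (.leaf [nat_lit 3, nat_lit 5]) (.leaf [nat_lit 0, nat_lit 5])) (.node (nat_lit 43) (.leaf [nat_lit 0, nat_lit 0, nat_lit 4]) (.node (nat_lit 44) (.leaf [nat_lit 5, nat_lit 3, nat_lit 4]) (.leaf [nat_lit 4, nat_lit 2, nat_lit 5]))))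
 (.node (nat_lit 47) (.node (nat_lit 46) (.leaf [nat_lit 2, nat_lit 5, nat_lit 2, nat_lit 4]) (.leaf [nat_lit 3, nat_lit 5, nat_lit 1, nat_lit 5])) (.node (nat_lit 48) (.leaf [nat_lit 2, nat_lit 5]) (.node (nat_lit 49) (.leaf [nat_lit 3, nat_lit 1, nat_lit 1, nat_lit 4]) (.leaf [nat_lit 5, nat_lit 1, nat_lit 5])))))
 (.node (nat_lit 55) (.node (nat_lit 52) (.node (nat_lit 51) (.leaf [nat_lit 2, nat_lit 4]) (.leaf [nat_lit 0, nat_lit 4, nat_lit 1, nat_lit 5])) (.node (nat_lit 53) (.leaf [nat_lit 4, nat_lit 0, nat_lit 5]) (.node (nat_lit 54) (.leaf [nat_lit 0, nat_lit 5, nat_lit 1, nat_lit 4]) (.leaf [nat_lit 3, nat_lit 0, nat_lit 5]))))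
 (.node (nat_lit 57) (.node (nat_lit 56) (.leaf [nat_lit 0, nat_lit 0, nat_lit 5]) (.leaf [nat_lit 1, nat_lit 1, nat_lit 4])) (.node (nat_lit 58) (.leaf [nat_lit 1, nat_lit 4, nat_lit 0, nat_lit 4]) (.node (nat_lit 59) (.leaf [nat_lit 4, nat_lit 2, nat_lit 0, nat_lit 4]) (.leaf [nat_lit 5, nat_lit 0, nat_lit 0, nat_lit 5]))))))
 (.node (nat_lit 70) (.node (nat_lit 65) (.node (nat_lit 62) (.node (nat_lit 61) (.leaf [nat_lit 5, nat_lit 3, nat_lit 1, nat_lit 4]) (.leaf [nat_lit 5, nat_lit 0, nat_lit 5])) (.node (nat_lit 63) (.leaf [nat_lit 5]) (.node (nat_lit 64) (.leaf [nat_lit 0, nat_lit 4]) (.leaf [nat_lit 1, nat_lit 5, nat_lit 3, nat_lit 4]))))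
 (.node (nat_lit 67) (.node (nat_lit 66) (.leaf [nat_lit 2, nat_lit 5, nat_lit 2, nat_lit 0, nat_lit 4]) (.leaf [nat_lit 2, nat_lit 0, nat_lit 5])) (.node (nat_lit 68) (.leaf [nat_lit 3, nat_lit 1, nat_lit 4]) (.node (nat_lit 69) (.leaf [nat_lit 1, nat_lit 5, nat_lit 0, nat_lit 4]) (.leaf [nat_lit 2, nat_lit 0, nat_lit 4])))))
 (.node (nat_lit 75) (.node (nat_lit 72) (.node (nat_lit 71) (.leaf [nat_lit 4, nat_lit 1, nat_lit 5]) (.leaf [nat_lit 5, nat_lit 2, nat_lit 0, nat_lit 4])) (.node (nat_lit 73) (.leaf []) (.node (nat_lit 74) (.leaf [nat_lit 3]) (.leaf [nat_lit 2]))))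
 (.node (nat_lit 77) (.node (nat_lit 76) (.leaf []) (.leaf [nat_lit 1])) (.node (nat_lit 78) (.leaf [nat_lit 0, nat_lit 0]) (.node (nat_lit 79) (.leaf [nat_lit 1, nat_lit 1]) (.leaf [nat_lit 0]))))))))
theorem ew_0 : eT_0.all2 (fun c w => isProd 65 (nat_lit 7) (nat_lit 127) T c w) eE_0 = true := by decide +kernel
noncomputable def eT : Tr ℕ := eT_0
noncomputable def eE : Tr (List ℕ) := eE_0
theorem elets : Lets P 65 (nat_lit 7) (nat_lit 127) (Fin.ofNat 65) eT := lets_words lets eE ew_0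
def eL : List Lv := [((nat_lit 2), (nat_lit 72), (nat_lit 3)), ((nat_lit 5), (nat_lit 75), (nat_lit 5))]
theorem echk : enChk 65 (nat_lit 7) (nat_lit 127) eT L0 (chainOrd 65 [L1, L2, L3]) 6 2 (nat_lit 0x304010401020104050300000202040305040402030503040201020405040404000203040500040303000000030001000405020501020205030102000302040500) (nat_lit 0x303030204040203040303040204040403030203030202030301010303040402030402040201040303030203010403000404030303030303030402040202010400) ((1, 8, 64) :: eL) = true := by decide +kernel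
theorem er0 : enR (nat_lit 7) (nat_lit 127) eT (leafO B 15 [nat_lit 15, nat_lit 13, nat_lit 10, nat_lit 5, nat_lit 4, nat_lit 3, nat_lit 2, nat_lit 1]) eL (6 + 0) 8 64 = true := by decide +kernel
theorem er1 : enR (nat_lit 7) (nat_lit 127) eT (leafO B 15 [nat_lit 15, nat_lit 13, nat_lit 10, nat_lit 5, nat_lit 4, nat_lit 3, nat_lit 2, nat_lit 1]) eL (6 + 1) 8 64 = true := by decide +kernel
theorem eall : ∀ g : P, ∃ c f, RepF 65 (Fin.ofNat 65) f (c * g * c⁻¹) ∧ (leafO B 15 [nat_lit 15, nat_lit 13, nat_lit 10, nat_lit 5, nat_lit 4, nat_lit 3, nat_lit 2, nat_lit 1]) f = true :=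
  enum_all std elets echk fun j hj => by
    interval_cases j
    exacts [er0, er1]
theorem wit : ∀ x ∈ [4, 10, 13, 15], x ∈ Spec P :=
  spec_wit lets (ofNat_inj 65) base [(4, [nat_lit 3, nat_lit 4]), (10, [nat_lit 0, nat_lit 6]), (13, [nat_lit 5, nat_lit 6]), (15, [nat_lit 3, nat_lit 6])] (by decide +kernel)
theorem spec : SpecL P [1, 2, 3, 4, 5, 10, 13, 15] := SpecL.of (fun g => by
    have := specU (ofNat_inj 65) base (by decide) eall g
    revert this; generalize orderOf g = a; simp; omega) wit (by decide)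

end H8.U34
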