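import Cfsg.Agent.H8.GM
import Cfsg.Agent.H8.GA

/-! H8.G52: GL(5,2) has no element of order 9 (generated certificate) -/

set_option autoImplicit false
set_option maxRecDepth 200000

set_option linter.all false
open Subgroup 

namespace H8.G52

noncomputable def gt0 : ℕ := (nat_lit 0x1ba4d8b20bbaac9aa287d9b45c9303f8bc1e838)
noncomputable def gt1 : ℕ := (nat_lit 0x4bb0ddb34beab89fa3c789a0599243a8a81b82c)
noncomputable def gt2 : ℕ := (nat_lit 0x73bede33abd2b69c2327b1ae5a12a390a618022)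
noncomputable def gt3 : ℕ := (nat_lit 0x33aeda32ab92a6982227f1be5e13a3d0b61c032)
noncomputable def gt4 : ℕ := (nat_lit 0x6757c77dbe464f856d3a39ac5a928398a418820)
noncomputable def gt5 : ℕ := (nat_lit 0x354b425c765a347cab09e7d7e775bc08a019824)
noncomputable def gt6 : ℕ := (nat_lit 0x797c6d49331f49c02227bb6ce9683b5d5944032)
noncomputable def gt7 : ℕ := (nat_lit 0x7b9dddf38d5a959be3092dac7290938ca430801)
noncomputable def gT : Tr ℕ := (.node (nat_lit 4) (.node (nat_lit 2) (.node (nat_lit 1) (.leaf gt0) (.leaf gt1)) (.node (nat_lit 3) (.leaf gt2) (.leaf gt3)))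
 (.node (nat_lit 6) (.node (nat_lit 5) (.leaf gt4) (.leaf gt5)) (.node (nat_lit 7) (.leaf gt6) (.leaf gt7))))
noncomputable def gL0 : Lev := ⟨(nat_lit 1), (nat_lit 8), (nat_lit 0x4050105030701060405020704060408030702080407020606070608030008), (nat_lit 0x3040303030302030303030302040303030402040304030303040204020001),
 (.leaf 0),
 (.leaf 0)⟩
noncomputable def gL1 : Lev := ⟨(nat_lit 3), (nat_lit 7), (nat_lit 0x3060206040704050407040503050106040702060306070703070200040006), (nat_lit 0x4030302020303040303040303040204040304040203010403030200030003),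
 (.leaf 0),
 (.leaf 0)⟩
noncomputable def gL2 : Lev := ⟨(nat_lit 7), (nat_lit 6), (nat_lit 0x4050105030606060305020604050405030602060406040004000600030001), (nat_lit 0x4030402020501040304020403040403040503050203030003000300030002),
 (.leaf 0),
 (.leaf 0)⟩
noncomputable def gL3 : Lev := ⟨(nat_lit 15), (nat_lit 5), (nat_lit 0x4050405030502050305050504050400030001000400040004000400030002), (nat_lit 0x3040403030402050205010604030500030002000300040002000300040003),
 (.leaf 0),
 (.leaf 0)⟩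
noncomputable def gL4 : Lev := ⟨(nat_lit 0), (nat_lit 4), (nat_lit 0x4000400030001000300020004000400030002000400040004000400030000), (nat_lit 0x2000300020001000300020001000200020001000200030003000400010000),
 (.leaf 0),
 (.leaf 0)⟩
noncomputable def gL : List Lev := [gL0, gL1, gL2, gL3, gL4]
noncomputable def gs0 : ℕ := (nat_lit 0x4d8a8a65458b3b27061d3aaf440edb5c06e97d8)
noncomputable def gs1 : ℕ := (nat_lit 0x1e38168097ecacb3a9d1aebc3788d9dc2892a19)
noncomputable def gs2 : ℕ := (nat_lit 0x1b41ed95168383bc1933ba49af8592a28b7e09b)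
noncomputable def gs3 : ℕ := (nat_lit 0x472a3ea031db8f676a6391dbf34b490538da05)
noncomputable def gs4 : ℕ := (nat_lit 0x5984f680892a1811b9475c297cda5d8fb559e39)
noncomputable def gs5 : ℕ := (nat_lit 0x2a0cb681c34db138fa1bc91470b04f2ea97ecb9)
noncomputable def gs6 : ℕ := (nat_lit 0x2a88b3a0c935eb8a667af05e060da25cb91ec3d)
noncomputable def gs7 : ℕ := (nat_lit 0x300e1208a36dfd8de79aead8a7a5c824a71b42b)
noncomputable def gs8 : ℕ := (nat_lit 0x2ecda70be18322bbd51413a6dcdd561e498603a)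
noncomputable def gs9 : ℕ := (nat_lit 0x61ba582a29f51b5160392787f448f3332ebd036)
noncomputable def gs10 : ℕ := (nat_lit 0x216a6b0ee4cab09da347e37aef2fec88a019824)
noncomputable def gs11 : ℕ := (nat_lit 0x43d2e5356c3fb1dcf35ba0ca2304e01ca91ac2d)
noncomputable def gs12 : ℕ := (nat_lit 0x76bb9e6377e21a9729eb200a1308e334ab1a427)
noncomputable def gs13 : ℕ := (nat_lit 0x779bf6717d5693b460f931ae5a12a390a618022)
noncomputable def gs14 : ℕ := (nat_lit 0x6fdde5f59c4ed5a3e51831ae5a12a390a618022)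
noncomputable def gs15 : ℕ := (nat_lit 0x58d424850079dc66958475bb5e5373d4b31c42f)
noncomputable def gs16 : ℕ := (nat_lit 0x59d464950478dc26858055b35c52f3f4bb1e437)
noncomputable def gs17 : ℕ := (nat_lit 0x4372ed2f6ce27aaf1fe889a0599243a8a81b82c)
noncomputable def gs18 : ℕ := (nat_lit 0x4bb0ddb34beab89fa3c789a0599243a8a81b82c)
noncomputable def gs19 : ℕ := (nat_lit 0x6bb8dfb3cbcab09da347a9a85b92c388a019824)
noncomputable def gs20 : ℕ := (nat_lit 0x3a2d9326ba2aa9b22e7c1b25d1363e0ba1f03e)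
noncomputable def gs21 : ℕ := (nat_lit 0x43b2dd336be2ba9f23e781a2591263a0aa1b02e)
noncomputable def gs22 : ℕ := (nat_lit 0x1ba4d8b20bbaac9aa287d9b45c9303f8bc1e838)
noncomputable def gs23 : ℕ := (nat_lit 0x73bede33abd2b69c2327b1ae5a12a390a618022)
noncomputable def gs24 : ℕ := (nat_lit 0x33aeda32ab92a6982227f1be5e13a3d0b61c032)
noncomputable def gs25 : ℕ := (nat_lit 0x6757c77dbe464f856d3a39ac5a928398a418820)
noncomputable def gs26 : ℕ := (nat_lit 0x354b425c765a347cab09e7d7e775bc08a019824)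
noncomputable def gs27 : ℕ := (nat_lit 0x797c6d49331f49c02227bb6ce9683b5d5944032)
noncomputable def gs28 : ℕ := (nat_lit 0x7b9dddf38d5a959be3092dac7290938ca430801)
noncomputable def gS : Tr ℕ := (.node (nat_lit 14) (.node (nat_lit 7) (.node (nat_lit 3) (.node (nat_lit 1) (.leaf gs0) (.node (nat_lit 2) (.leaf gs1) (.leaf gs2)))
 (.node (nat_lit 5) (.node (nat_lit 4) (.leaf gs3) (.leaf gs4)) (.node (nat_lit 6) (.leaf gs5) (.leaf gs6))))
 (.node (nat_lit 10) (.node (nat_lit 8) (.leaf gs7) (.node (nat_lit 9) (.leaf gs8) (.leaf gs9)))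
 (.node (nat_lit 12) (.node (nat_lit 11) (.leaf gs10) (.leaf gs11)) (.node (nat_lit 13) (.leaf gs12) (.leaf gs13)))))
 (.node (nat_lit 21) (.node (nat_lit 17) (.node (nat_lit 15) (.leaf gs14) (.node (nat_lit 16) (.leaf gs15) (.leaf gs16)))
 (.node (nat_lit 19) (.node (nat_lit 18) (.leaf gs17) (.leaf gs18)) (.node (nat_lit 20) (.leaf gs19) (.leaf gs20))))
 (.node (nat_lit 25) (.node (nat_lit 23) (.node (nat_lit 22) (.leaf gs21) (.leaf gs22)) (.node (nat_lit 24) (.leaf gs23) (.leaf gs24)))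
 (.node (nat_lit 27) (.node (nat_lit 26) (.leaf gs25) (.leaf gs26)) (.node (nat_lit 28) (.leaf gs27) (.leaf gs28))))))
noncomputable def gD : Tr (List ℕ) := (.node (nat_lit 14) (.node (nat_lit 7) (.node (nat_lit 3) (.node (nat_lit 1) (.leaf []) (.node (nat_lit 2) (.leaf []) (.leaf [nat_lit 0, nat_lit 0, nat_lit 0])))
 (.node (nat_lit 5) (.node (nat_lit 4) (.leaf [nat_lit 2, nat_lit 2, nat_lit 2, nat_lit 2, nat_lit 0, nat_lit 0]) (.leaf [nat_lit 1, nat_lit 1, nat_lit 1])) (.node (nat_lit 6) (.leaf [nat_lit 4, nat_lit 4, nat_lit 4, nat_lit 4, nat_lit 1]) (.leaf [nat_lit 1, nat_lit 1, nat_lit 1, nat_lit 3, nat_lit 5, nat_lit 5]))))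
 (.node (nat_lit 10) (.node (nat_lit 8) (.leaf [nat_lit 1, nat_lit 1, nat_lit 0, nat_lit 5, nat_lit 5, nat_lit 5]) (.node (nat_lit 9) (.leaf [nat_lit 3, nat_lit 3, nat_lit 5, nat_lit 5, nat_lit 5, nat_lit 5, nat_lit 3, nat_lit 3]) (.leaf [nat_lit 0, nat_lit 0, nat_lit 1, nat_lit 1, nat_lit 1, nat_lit 1, nat_lit 0, nat_lit 0])))
 (.node (nat_lit 12) (.node (nat_lit 11) (.leaf [nat_lit 9, nat_lit 9, nat_lit 7, nat_lit 9, nat_lit 9, nat_lit 6]) (.leaf [nat_lit 9, nat_lit 7, nat_lit 8, nat_lit 6, nat_lit 6, nat_lit 6, nat_lit 9])) (.node (nat_lit 13) (.leaf [nat_lit 8, nat_lit 7, nat_lit 7, nat_lit 7, nat_lit 9, nat_lit 6, nat_lit 8]) (.leaf [nat_lit 6, nat_lit 10, nat_lit 6, nat_lit 6, nat_lit 11])))))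
 (.node (nat_lit 21) (.node (nat_lit 17) (.node (nat_lit 15) (.leaf [nat_lit 12, nat_lit 7, nat_lit 7, nat_lit 10, nat_lit 7]) (.node (nat_lit 16) (.leaf [nat_lit 11, nat_lit 7, nat_lit 12, nat_lit 7, nat_lit 10, nat_lit 11, nat_lit 10]) (.leaf [nat_lit 10, nat_lit 12, nat_lit 10, nat_lit 6, nat_lit 11, nat_lit 6, nat_lit 12])))
 (.node (nat_lit 19) (.node (nat_lit 18) (.leaf [nat_lit 11, nat_lit 7, nat_lit 12, nat_lit 6, nat_lit 6, nat_lit 12, nat_lit 7]) (.leaf [nat_lit 16, nat_lit 13, nat_lit 17, nat_lit 14, nat_lit 17, nat_lit 15])) (.node (nat_lit 20) (.leaf [nat_lit 13, nat_lit 15, nat_lit 17, nat_lit 13, nat_lit 13, nat_lit 15, nat_lit 17, nat_lit 13]) (.leaf [nat_lit 16, nat_lit 17, nat_lit 15, nat_lit 13, nat_lit 15, nat_lit 15, nat_lit 14, nat_lit 17, nat_lit 14, nat_lit 14, nat_lit 16, nat_lit 17, nat_lit 13, nat_lit 15, nat_lit 13, nat_lit 13]))))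
 (.node (nat_lit 25) (.node (nat_lit 23) (.node (nat_lit 22) (.leaf [nat_lit 15, nat_lit 15, nat_lit 13, nat_lit 17, nat_lit 15, nat_lit 15, nat_lit 15, nat_lit 17, nat_lit 15, nat_lit 14, nat_lit 15, nat_lit 15]) (.leaf [nat_lit 21, nat_lit 20, nat_lit 19, nat_lit 18])) (.node (nat_lit 24) (.leaf [nat_lit 21, nat_lit 18]) (.leaf [nat_lit 20, nat_lit 18])))
 (.node (nat_lit 27) (.node (nat_lit 26) (.leaf [nat_lit 19, nat_lit 14, nat_lit 21, nat_lit 19, nat_lit 18]) (.leaf [nat_lit 16, nat_lit 7, nat_lit 21, nat_lit 14, nat_lit 21, nat_lit 20])) (.node (nat_lit 28) (.leaf [nat_lit 16, nat_lit 9, nat_lit 12, nat_lit 6, nat_lit 16]) (.leaf [nat_lit 20, nat_lit 0, nat_lit 15, nat_lit 9, nat_lit 20, nat_lit 7, nat_lit 20, nat_lit 14, nat_lit 21, nat_lit 20, nat_lit 18]))))))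
theorem gslp : slpChk 31 (nat_lit 5) (nat_lit 31) gS gD 2 27 = true := by decide +kernel
noncomputable def gV : Tr ℕ := (.node (nat_lit 15) (.node (nat_lit 7) (.node (nat_lit 3) (.node (nat_lit 1) (.leaf (nat_lit 1)) (.node (nat_lit 2) (.leaf (nat_lit 2)) (.leaf (nat_lit 3))))
 (.node (nat_lit 5) (.node (nat_lit 4) (.leaf (nat_lit 4)) (.leaf (nat_lit 5))) (.node (nat_lit 6) (.leaf (nat_lit 6)) (.leaf (nat_lit 7)))))
 (.node (nat_lit 11) (.node (nat_lit 9) (.node (nat_lit 8) (.leaf (nat_lit 8)) (.leaf (nat_lit 9))) (.node (nat_lit 10) (.leaf (nat_lit 10)) (.leaf (nat_lit 11))))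
 (.node (nat_lit 13) (.node (nat_lit 12) (.leaf (nat_lit 12)) (.leaf (nat_lit 13))) (.node (nat_lit 14) (.leaf (nat_lit 14)) (.leaf (nat_lit 15))))))
 (.node (nat_lit 23) (.node (nat_lit 19) (.node (nat_lit 17) (.node (nat_lit 16) (.leaf (nat_lit 16)) (.leaf (nat_lit 17))) (.node (nat_lit 18) (.leaf (nat_lit 18)) (.leaf (nat_lit 19))))
 (.node (nat_lit 21) (.node (nat_lit 20) (.leaf (nat_lit 20)) (.leaf (nat_lit 21))) (.node (nat_lit 22) (.leaf (nat_lit 22)) (.leaf (nat_lit 23)))))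
 (.node (nat_lit 27) (.node (nat_lit 25) (.node (nat_lit 24) (.leaf (nat_lit 24)) (.leaf (nat_lit 25))) (.node (nat_lit 26) (.leaf (nat_lit 26)) (.leaf (nat_lit 27))))
 (.node (nat_lit 29) (.node (nat_lit 28) (.leaf (nat_lit 28)) (.leaf (nat_lit 29))) (.node (nat_lit 30) (.leaf (nat_lit 30)) (.leaf (nat_lit 31)))))))
theorem gpts : ptR C2 5 false gV 31 0 31 = true := by decide +kernel
noncomputable def gM0 : Sp := [[(nat_lit 0, nat_lit 1), (nat_lit 1, nat_lit 1), (nat_lit 3, nat_lit 1), (nat_lit 4, nat_lit 1)],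
  [(nat_lit 1, nat_lit 1), (nat_lit 2, nat_lit 1), (nat_lit 3, nat_lit 1), (nat_lit 4, nat_lit 1)],
  [(nat_lit 1, nat_lit 1), (nat_lit 2, nat_lit 1), (nat_lit 3, nat_lit 1)],
  [(nat_lit 0, nat_lit 1), (nat_lit 1, nat_lit 1), (nat_lit 2, nat_lit 1), (nat_lit 4, nat_lit 1)],
  [(nat_lit 0, nat_lit 1), (nat_lit 1, nat_lit 1), (nat_lit 2, nat_lit 1), (nat_lit 3, nat_lit 1), (nat_lit 4, nat_lit 1)]]
noncomputable def gM1 : Sp := [[(nat_lit 1, nat_lit 1), (nat_lit 2, nat_lit 1)],
  [(nat_lit 0, nat_lit 1), (nat_lit 2, nat_lit 1)],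
  [(nat_lit 3, nat_lit 1), (nat_lit 4, nat_lit 1)],
  [(nat_lit 0, nat_lit 1)],
  [(nat_lit 0, nat_lit 1), (nat_lit 1, nat_lit 1), (nat_lit 2, nat_lit 1), (nat_lit 3, nat_lit 1)]]
noncomputable def gMT : Tr Sp := (.node (nat_lit 1) (.leaf gM0) (.leaf gM1))
noncomputable def gSC : Tr ℕ := (.node (nat_lit 1) (.leaf (nat_lit 0x7fffffff)) (.leaf (nat_lit 0x7fffffff)))
theorem gact : ActAll C2 5 false gV 31 (nat_lit 5) (nat_lit 31) gMT gS gSC 2 := actAll_of (by decide +kernel)
noncomputable def gOT : Tr ℕ := (.node (nat_lit 1) (.leaf (nat_lit 15)) (.leaf (nat_lit 14)))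
theorem gpw : (allB 2 fun j => band (powChk C2 5 (gMT.get j) (gOT.get j)) (Nat.ble 1 (gOT.get j))) = true := by decide +kernel
theorem gh2 : band (selChk gT gS (2 + 27)) (band (tchainChk 31 (nat_lit 5) (nat_lit 31) gT gL) (Nat.ble (glo 2 5) (chainOrd 31 gL))) = true := by decide +kernel
theorem gch {F : Type*} [Field F] [Fintype F] {φ : ℕ → F} (h : FM C2 φ) (hF : Fintype.card F = 2) :
    Ch (GL (Fin 5) F) 31 (nat_lit 5) (nat_lit 31) (ptL (τG (Fin 5) F) C2 φ Fin.val false gV) gT gL :=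
  h.chGL (ix_fin 5) hF gpts gact gpw gslp gh2
noncomputable def yt0 : ℕ := (nat_lit 0x2558bd6c41ad9eebe0209d1acce862b5dcdc640)
noncomputable def yt1 : ℕ := (nat_lit 0x52641b17cde74950451914d5b77cd720f8bc1e0)
noncomputable def yt2 : ℕ := (nat_lit 0x526110c928f36952d9acb9b7c77c8398af856c0)
noncomputable def yt3 : ℕ := (nat_lit 0x2556ac1eb6045eee2e3239b194e88398b9d6f80)
noncomputable def yT : Tr ℕ := (.node (nat_lit 2) (.node (nat_lit 1) (.leaf yt0) (.leaf yt1)) (.node (nat_lit 3) (.leaf yt2) (.leaf yt3)))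
noncomputable def yR : Tr (List ℕ) := (.node (nat_lit 2) (.node (nat_lit 1) (.leaf [nat_lit 0, nat_lit 1]) (.leaf [nat_lit 0, nat_lit 0, nat_lit 0])) (.node (nat_lit 3) (.leaf [nat_lit 0, nat_lit 2, nat_lit 1, nat_lit 3]) (.node (nat_lit 4) (.leaf [nat_lit 2, nat_lit 3]) (.leaf [nat_lit 2, nat_lit 2, nat_lit 2]))))
noncomputable def yL0 : Lev := ⟨(nat_lit 1), (nat_lit 4), (nat_lit 0x300000403000400000002000001000000040000000000000300000000), (nat_lit 0x100000202000100000001000001000000020000000000000200000000),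
 (.node (nat_lit 2) (.node (nat_lit 1) (.leaf (nat_lit 0x50000000000070004000000020000000000000002000000000000000000000000000600000000000000000000000000030000000000010000))
 (.leaf (nat_lit 0x20000000000050006000000080000000000000000000000000003000000000000000300000000000000000000000000030000000000010000)))
 (.node (nat_lit 3) (.leaf (nat_lit 0x20000000000020000000000000001000000000001000000000000000200000000000000000000000000000000000000010000))
 (.leaf (nat_lit 0x30000000000000003000000000000000000000001000000000001000000000000000000000000000000000000000000030000000000010000)))),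
 (.node (nat_lit 2) (.node (nat_lit 1) (.leaf (nat_lit 0x101000000000000000101000000000000000200000000000000000000000101000000000000000000000000000000000000000000000000000000000000000000000000000000000000000000000000000000000000))
 (.leaf (nat_lit 0x202000000000000000202000001000000000001000000000000000000000000000000000000000001000000000000000000000001000000000000000000000000000000000000000202000000000000000001000000)))
 (.node (nat_lit 3) (.leaf (nat_lit 0x400000000000000000401000000000000000000000300000000000000000300000000000000000000000402000000000000000000000000000000000000000000000000000000000300000000))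
 (.leaf (nat_lit 0x301000000000000000000000301000000000000000000000000000000000301000000000000000301000000000000000000000000000000000000000000000000000000000000000301000000000000000301000000))))⟩
noncomputable def yL : List Lev := [yL0]
noncomputable def yE : Tr (List ℕ) := (.node (nat_lit 2) (.node (nat_lit 1) (.leaf [nat_lit 3, nat_lit 7, nat_lit 5, nat_lit 6, nat_lit 3, nat_lit 5, nat_lit 2, nat_lit 0, nat_lit 4, nat_lit 2, nat_lit 0]) (.leaf [nat_lit 7, nat_lit 3, nat_lit 7, nat_lit 5, nat_lit 3, nat_lit 6, nat_lit 5, nat_lit 0, nat_lit 5, nat_lit 4, nat_lit 2, nat_lit 1, nat_lit 4, nat_lit 3, nat_lit 0])) (.node (nat_lit 3) (.leaf [nat_lit 3, nat_lit 5, nat_lit 7, nat_lit 5, nat_lit 3, nat_lit 2, nat_lit 0, nat_lit 4, nat_lit 3, nat_lit 2]) (.leaf [nat_lit 0, nat_lit 5, nat_lit 7, nat_lit 5, nat_lit 4, nat_lit 3, nat_lit 0, nat_lit 4, nat_lit 0])))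
theorem yw_0 : yT.all2 (fun c w => isProd 31 (nat_lit 5) (nat_lit 31) gT c w) yE = true := by decide +kernel
theorem yw : yT.all2 (fun c w => isProd 31 (nat_lit 5) (nat_lit 31) gT c w) yE = true := yw_0
theorem ylev0 : levChk 31 (nat_lit 5) (nat_lit 31) yT yR yL0 0 = true := by decide +kernel
theorem ychain : Chain 31 (nat_lit 5) (nat_lit 31) yT yR yL := chain_one ylev0
theorem ysd : band (selChk yT yT (topN yL)) (yR.all fun w => eqB (gL.map Lev.b) (apL (nat_lit 5) (nat_lit 31) yT w) fun a => a) = true := by decide +kernel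
theorem ytc : tchainChk 31 (nat_lit 5) (nat_lit 31) yT yL = true := by decide +kernel
theorem ye : allR 0 31 (refu 31 (nat_lit 5) (nat_lit 31) yT ⟨fun _ _ => 0, fun _ _ _ => true, fun f => eqB (gL.map Lev.b) (itF f 3) fun a => a⟩ yL0 [] []) = true := by decide +kernel
theorem no9 (x : GL (Fin 5) (ZMod 2)) (h : x ^ 3 ^ 2 = 1) : x ^ 3 = 1 := by
  have C := gch fm2 (ZMod.card 2)
  obtain ⟨N, D, -⟩ := (C.gen (lets_words C.lets yE yw) ychain ysd ytc)
  obtain ⟨g, f, r, e⟩ := C.syl D Nat.prime_three (by decide +kernel) ye h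
  have := (eqB_iff C.base C.inj (itF_rep r 3) (RepF.id _ _)).1 e
  rwa [conj_pow, conj_eq_one_iff] at this
theorem card : Nat.card (GL (Fin 5) (ZMod 2)) = 9999360 := (gch fm2 (ZMod.card 2)).card.trans (by decide +kernel)

end H8.G52
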