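import Cfsg.Agent.H8.Glue
import Cfsg.Agent.H8.Cover

/-! H8.GA6: permutation model of order 360 on 6 points: `P`, `lets`, `std`, `card`, `base` (generated certificate) -/

set_option autoImplicit false
set_option maxRecDepth 200000

namespace H8.A6

noncomputable def t0 : ℕ := (nat_lit 0x2c611)
noncomputable def t1 : ℕ := (nat_lit 0xd8d0)
noncomputable def t2 : ℕ := (nat_lit 0x2c642)
noncomputable def t3 : ℕ := (nat_lit 0x23468)
noncomputable def t4 : ℕ := (nat_lit 0x14668)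
noncomputable def t5 : ℕ := (nat_lit 0xc750)
noncomputable def t6 : ℕ := (nat_lit 0x2b508)
noncomputable def t7 : ℕ := (nat_lit 0x2a8c8)
noncomputable def t8 : ℕ := (nat_lit 0x1c548)
noncomputable def t9 : ℕ := (nat_lit 0x14ac8)
noncomputable def t10 : ℕ := (nat_lit 0x1d888)
noncomputable def t11 : ℕ := (nat_lit 0x23a88)
noncomputable def t12 : ℕ := (nat_lit 0x1ab08)
noncomputable def t13 : ℕ := (nat_lit 0x294e0)
noncomputable def t14 : ℕ := (nat_lit 0x2829c)
noncomputable def G0 : Tr ℕ := (.node (nat_lit 1) (.leaf t0)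
 (.leaf t1))
noncomputable def T' : Tr ℕ := (.node (nat_lit 7) (.node (nat_lit 3) (.node (nat_lit 1) (.leaf t0)
 (.node (nat_lit 2) (.leaf t1)
 (.leaf t2)))
 (.node (nat_lit 5) (.node (nat_lit 4) (.leaf t3)
 (.leaf t4))
 (.node (nat_lit 6) (.leaf t5)
 (.leaf t6))))
 (.node (nat_lit 11) (.node (nat_lit 9) (.node (nat_lit 8) (.leaf t7)
 (.leaf t8))
 (.node (nat_lit 10) (.leaf t9)
 (.leaf t10)))
 (.node (nat_lit 13) (.node (nat_lit 12) (.leaf t11)
 (.leaf t12))
 (.node (nat_lit 14) (.leaf t13)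
 (.leaf t14)))))
noncomputable def D : Tr (List ℕ) := (.node (nat_lit 7) (.node (nat_lit 3) (.node (nat_lit 1) (.leaf [])
 (.node (nat_lit 2) (.leaf [])
 (.leaf [nat_lit 0, nat_lit 0])))
 (.node (nat_lit 5) (.node (nat_lit 4) (.leaf [nat_lit 1, nat_lit 1, nat_lit 1, nat_lit 1])
 (.leaf [nat_lit 2, nat_lit 3, nat_lit 2, nat_lit 1]))
 (.node (nat_lit 6) (.leaf [nat_lit 3, nat_lit 0, nat_lit 1, nat_lit 0])
 (.leaf [nat_lit 3, nat_lit 5]))))
 (.node (nat_lit 11) (.node (nat_lit 9) (.node (nat_lit 8) (.leaf [nat_lit 4, nat_lit 1])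
 (.leaf [nat_lit 1, nat_lit 5, nat_lit 5, nat_lit 3, nat_lit 5]))
 (.node (nat_lit 10) (.leaf [nat_lit 4, nat_lit 1, nat_lit 4, nat_lit 4, nat_lit 3])
 (.leaf [nat_lit 7, nat_lit 8, nat_lit 6, nat_lit 6, nat_lit 9])))
 (.node (nat_lit 13) (.node (nat_lit 12) (.leaf [nat_lit 8, nat_lit 7, nat_lit 7, nat_lit 9, nat_lit 6])
 (.leaf [nat_lit 6, nat_lit 11]))
 (.node (nat_lit 14) (.leaf [nat_lit 11, nat_lit 3, nat_lit 8, nat_lit 11])
 (.leaf [nat_lit 6, nat_lit 2, nat_lit 11, nat_lit 3, nat_lit 8, nat_lit 11])))))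
noncomputable def T : Tr ℕ := (.node (nat_lit 2) (.node (nat_lit 1) (.leaf t10)
 (.leaf t11))
 (.node (nat_lit 3) (.leaf t12)
 (.node (nat_lit 4) (.leaf t13)
 (.leaf t14))))
noncomputable def RL_0 : Tr (List ℕ) := (.node (nat_lit 2) (.node (nat_lit 1) (.leaf [nat_lit 0, nat_lit 3, nat_lit 2, nat_lit 3, nat_lit 1, nat_lit 3])
 (.leaf [nat_lit 2, nat_lit 0, nat_lit 2, nat_lit 0, nat_lit 2, nat_lit 0]))
 (.node (nat_lit 3) (.leaf [nat_lit 0, nat_lit 1])
 (.node (nat_lit 4) (.leaf [nat_lit 0, nat_lit 0, nat_lit 0])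
 (.leaf [nat_lit 2, nat_lit 2]))))
noncomputable def RL_1 : Tr (List ℕ) := (.node (nat_lit 8) (.node (nat_lit 6) (.leaf [nat_lit 0, nat_lit 3, nat_lit 2, nat_lit 4, nat_lit 0, nat_lit 2, nat_lit 0, nat_lit 4])
 (.node (nat_lit 7) (.leaf [nat_lit 3, nat_lit 3])
 (.leaf [nat_lit 4, nat_lit 1, nat_lit 3, nat_lit 0, nat_lit 4, nat_lit 1, nat_lit 3, nat_lit 0])))
 (.node (nat_lit 9) (.leaf [nat_lit 4, nat_lit 4])
 (.node (nat_lit 10) (.leaf [nat_lit 4, nat_lit 2, nat_lit 4, nat_lit 2, nat_lit 4, nat_lit 2])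
 (.leaf [nat_lit 3, nat_lit 0, nat_lit 3, nat_lit 0, nat_lit 3, nat_lit 0, nat_lit 3, nat_lit 0, nat_lit 3, nat_lit 0]))))
noncomputable def RL : Tr (List ℕ) := (.node (nat_lit 5) RL_0 RL_1)
noncomputable def L0 : Lev := ⟨(nat_lit 0), (nat_lit 5), (nat_lit 0x20501030400), (nat_lit 0x20102020200),
 (.node (nat_lit 2) (.node (nat_lit 1) (.leaf (nat_lit 0x200010000000300040000))
 (.leaf (nat_lit 0x10003000400050000)))
 (.node (nat_lit 3) (.leaf (nat_lit 0x200010003000000030000))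
 (.node (nat_lit 4) (.leaf (nat_lit 0x200010003000200000000))
 (.leaf (nat_lit 0x500000006000200050001))))),
 (.node (nat_lit 2) (.node (nat_lit 1) (.leaf (nat_lit 0x300000200000000000105000000000000))
 (.leaf (nat_lit 0x201000201000201000201000000)))
 (.node (nat_lit 3) (.leaf (nat_lit 0x505000400000401000000000002000000))
 (.node (nat_lit 4) (.leaf (nat_lit 0x702000600000600000501000000000000))
 (.leaf (nat_lit 0x704000000000800000902000507000801)))))⟩
noncomputable def L1 : Lev := ⟨(nat_lit 1), (nat_lit 4), (nat_lit 0x20401030000), (nat_lit 0x20102020000),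
 (.node (nat_lit 2) (.node (nat_lit 1) (.leaf (nat_lit 0x200010000000400000000))
 (.leaf (nat_lit 0x10003000500000000)))
 (.node (nat_lit 3) (.leaf (nat_lit 0x500010006000000000000))
 (.leaf (nat_lit 0x200000002000300010000)))),
 (.node (nat_lit 2) (.node (nat_lit 1) (.leaf (nat_lit 0x300000200000000000a03000000000000))
 (.leaf (nat_lit 0x201000201000201000000000000)))
 (.node (nat_lit 3) (.leaf (nat_lit 0x102000400000401000000000000000000))
 (.leaf (nat_lit 0x5000000000003000601000601000000))))⟩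
noncomputable def L2 : Lev := ⟨(nat_lit 2), (nat_lit 3), (nat_lit 0x20301000000), (nat_lit 0x20102000000),
 (.node (nat_lit 1) (.leaf (nat_lit 0x200010000000000000000))
 (.node (nat_lit 2) (.leaf (nat_lit 0x10003000000000000))
 (.leaf (nat_lit 0x200000003000100000000)))),
 (.node (nat_lit 1) (.leaf (nat_lit 0x300000200000000000000000000000000))
 (.node (nat_lit 2) (.leaf (nat_lit 0x201000201000000000000000000))
 (.leaf (nat_lit 0x102000000000401000401000000000000))))⟩
noncomputable def L3 : Lev := ⟨(nat_lit 3), (nat_lit 2), (nat_lit 0x10200000000), (nat_lit 0x10100000000),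
 (.node (nat_lit 1) (.leaf (nat_lit 0x20001000000000000))
 (.leaf (nat_lit 0x300000001000000000000))),
 (.node (nat_lit 1) (.leaf (nat_lit 0x301000200000000000000000000))
 (.leaf (nat_lit 0x201000000000201000000000000000000)))⟩
noncomputable def L : List Lev := [L0, L1, L2, L3]
noncomputable abbrev P := PG 6 (nat_lit 3) (nat_lit 7) G0 2
theorem gen : genChk 6 (nat_lit 3) (nat_lit 7) G0 2 = true := by decide +kernel
theorem slp : slpChk 6 (nat_lit 3) (nat_lit 7) T' D 2 13 = true := by decide +kernel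
theorem lets : Lets P 6 (nat_lit 3) (nat_lit 7) (Fin.ofNat 6) T := lets_PG (T' := T') D 13 gen (by decide +kernel) slp
theorem lev0 : levChk 6 (nat_lit 3) (nat_lit 7) T RL L0 L1.N = true := by decide +kernel
theorem lev1 : levChk 6 (nat_lit 3) (nat_lit 7) T RL L1 L2.N = true := by decide +kernel
theorem lev2 : levChk 6 (nat_lit 3) (nat_lit 7) T RL L2 L3.N = true := by decide +kernel
theorem lev3 : levChk 6 (nat_lit 3) (nat_lit 7) T RL L3 0 = true := by decide +kernel
theorem chain : Chain 6 (nat_lit 3) (nat_lit 7) T RL L := chain_cons lev0 <| chain_cons lev1 <| chain_cons lev2 <| chain_one lev3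
theorem rels : RL.all (fixAll 6 (nat_lit 3) (nat_lit 7) T) = true := by decide +kernel
noncomputable def E : Tr (List ℕ) := (.node (nat_lit 1) (.leaf [nat_lit 3, nat_lit 4, nat_lit 2, nat_lit 0])
 (.leaf [nat_lit 2, nat_lit 3, nat_lit 0, nat_lit 2]))
theorem std : Std P 6 (nat_lit 3) (nat_lit 7) (Fin.ofNat 6) T RL L := std_PG' gen lets chain rels E (allB_iff.1 (by decide +kernel))
theorem card : Nat.card P = 360 := std.card.trans (by decide +kernel)
def B : List ℕ := [nat_lit 0, nat_lit 1, nat_lit 2, nat_lit 3]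
theorem base : IsB P 6 (Fin.ofNat 6) B := std.base

end H8.A6
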