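import Cfsg.Agent.H8.Glue
import Cfsg.Agent.H8.Cover

/-! H8.GA7: permutation model of order 2520 on 7 points: `P`, `lets`, `std`, `card`, `base` (generated certificate) -/

set_option autoImplicit false
set_option maxRecDepth 200000

namespace H8.A7

noncomputable def t0 : ℕ := (nat_lit 0x1ac611)
noncomputable def t1 : ℕ := (nat_lit 0x358d1)
noncomputable def t2 : ℕ := (nat_lit 0x1ac642)
noncomputable def t3 : ℕ := (nat_lit 0x163446)
noncomputable def t4 : ℕ := (nat_lit 0xb58c8)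
noncomputable def t5 : ℕ := (nat_lit 0x163588)
noncomputable def t6 : ℕ := (nat_lit 0x1ac2d0)
noncomputable def t7 : ℕ := (nat_lit 0x1ac458)
noncomputable def t8 : ℕ := (nat_lit 0x1632b0)
noncomputable def t9 : ℕ := (nat_lit 0x75898)
noncomputable def t10 : ℕ := (nat_lit 0x1ab2a0)
noncomputable def t11 : ℕ := (nat_lit 0x1a9898)
noncomputable def t12 : ℕ := (nat_lit 0x19d888)
noncomputable def t13 : ℕ := (nat_lit 0x1a3a88)
noncomputable def t14 : ℕ := (nat_lit 0x166688)
noncomputable def t15 : ℕ := (nat_lit 0x135688)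
noncomputable def t16 : ℕ := (nat_lit 0x173888)
noncomputable def t17 : ℕ := (nat_lit 0x199aa0)
noncomputable def t18 : ℕ := (nat_lit 0xead08)
noncomputable def t19 : ℕ := (nat_lit 0x198a8c)
noncomputable def G0 : Tr ℕ := (.node (nat_lit 1) (.leaf t0)
 (.leaf t1))
noncomputable def T' : Tr ℕ := (.node (nat_lit 10) (.node (nat_lit 5) (.node (nat_lit 2) (.node (nat_lit 1) (.leaf t0)
 (.leaf t1))
 (.node (nat_lit 3) (.leaf t2)
 (.node (nat_lit 4) (.leaf t3)
 (.leaf t4))))
 (.node (nat_lit 7) (.node (nat_lit 6) (.leaf t5)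
 (.leaf t6))
 (.node (nat_lit 8) (.leaf t7)
 (.node (nat_lit 9) (.leaf t8)
 (.leaf t9)))))
 (.node (nat_lit 15) (.node (nat_lit 12) (.node (nat_lit 11) (.leaf t10)
 (.leaf t11))
 (.node (nat_lit 13) (.leaf t12)
 (.node (nat_lit 14) (.leaf t13)
 (.leaf t14))))
 (.node (nat_lit 17) (.node (nat_lit 16) (.leaf t15)
 (.leaf t16))
 (.node (nat_lit 18) (.leaf t17)
 (.node (nat_lit 19) (.leaf t18)
 (.leaf t19))))))
noncomputable def D : Tr (List ℕ) := (.node (nat_lit 10) (.node (nat_lit 5) (.node (nat_lit 2) (.node (nat_lit 1) (.leaf [])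
 (.leaf []))
 (.node (nat_lit 3) (.leaf [nat_lit 0, nat_lit 0])
 (.node (nat_lit 4) (.leaf [nat_lit 1, nat_lit 1, nat_lit 1, nat_lit 1, nat_lit 1, nat_lit 1])
 (.leaf [nat_lit 2, nat_lit 1]))))
 (.node (nat_lit 7) (.node (nat_lit 6) (.leaf [nat_lit 3, nat_lit 0])
 (.leaf [nat_lit 1, nat_lit 0, nat_lit 3]))
 (.node (nat_lit 8) (.leaf [nat_lit 1, nat_lit 2, nat_lit 3])
 (.node (nat_lit 9) (.leaf [nat_lit 5, nat_lit 6])
 (.leaf [nat_lit 7, nat_lit 4])))))
 (.node (nat_lit 15) (.node (nat_lit 12) (.node (nat_lit 11) (.leaf [nat_lit 4, nat_lit 7, nat_lit 5])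
 (.leaf [nat_lit 4, nat_lit 6, nat_lit 5]))
 (.node (nat_lit 13) (.leaf [nat_lit 9, nat_lit 11, nat_lit 8])
 (.node (nat_lit 14) (.leaf [nat_lit 9, nat_lit 10, nat_lit 8])
 (.leaf [nat_lit 8, nat_lit 11]))))
 (.node (nat_lit 17) (.node (nat_lit 16) (.leaf [nat_lit 10, nat_lit 9])
 (.leaf [nat_lit 12, nat_lit 15]))
 (.node (nat_lit 18) (.leaf [nat_lit 10, nat_lit 13])
 (.node (nat_lit 19) (.leaf [nat_lit 15, nat_lit 5, nat_lit 15, nat_lit 13])
 (.leaf [nat_lit 10, nat_lit 0, nat_lit 7, nat_lit 13]))))))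
noncomputable def T : Tr ℕ := (.node (nat_lit 3) (.node (nat_lit 1) (.leaf t15)
 (.node (nat_lit 2) (.leaf t14)
 (.leaf t16)))
 (.node (nat_lit 4) (.leaf t17)
 (.node (nat_lit 5) (.leaf t18)
 (.leaf t19))))
noncomputable def RL_0 : Tr (List ℕ) := (.node (nat_lit 4) (.node (nat_lit 2) (.node (nat_lit 1) (.leaf [nat_lit 0, nat_lit 2, nat_lit 3, nat_lit 2, nat_lit 5, nat_lit 0, nat_lit 3, nat_lit 1, nat_lit 5])
 (.leaf [nat_lit 0, nat_lit 1]))
 (.node (nat_lit 3) (.leaf [nat_lit 2, nat_lit 0, nat_lit 2, nat_lit 0, nat_lit 2, nat_lit 0])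
 (.leaf [nat_lit 0, nat_lit 0, nat_lit 0])))
 (.node (nat_lit 6) (.node (nat_lit 5) (.leaf [nat_lit 2, nat_lit 4, nat_lit 1, nat_lit 4, nat_lit 0, nat_lit 4])
 (.leaf [nat_lit 0, nat_lit 3, nat_lit 1, nat_lit 3, nat_lit 2, nat_lit 3]))
 (.node (nat_lit 7) (.leaf [nat_lit 2, nat_lit 2])
 (.node (nat_lit 8) (.leaf [nat_lit 5, nat_lit 0, nat_lit 2, nat_lit 0, nat_lit 5, nat_lit 0, nat_lit 2, nat_lit 0])
 (.leaf [nat_lit 4, nat_lit 0, nat_lit 4, nat_lit 3, nat_lit 4, nat_lit 0, nat_lit 4, nat_lit 3])))))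
noncomputable def RL_1 : Tr (List ℕ) := (.node (nat_lit 13) (.node (nat_lit 11) (.node (nat_lit 10) (.leaf [nat_lit 3, nat_lit 3])
 (.leaf [nat_lit 4, nat_lit 3, nat_lit 4, nat_lit 3, nat_lit 4, nat_lit 3]))
 (.node (nat_lit 12) (.leaf [nat_lit 5, nat_lit 0, nat_lit 5, nat_lit 4, nat_lit 5, nat_lit 0, nat_lit 5, nat_lit 4])
 (.leaf [nat_lit 4, nat_lit 4])))
 (.node (nat_lit 15) (.node (nat_lit 14) (.leaf [nat_lit 5, nat_lit 4, nat_lit 5, nat_lit 4, nat_lit 5, nat_lit 4])
 (.leaf [nat_lit 5, nat_lit 5]))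
 (.node (nat_lit 16) (.leaf [nat_lit 5, nat_lit 3, nat_lit 5, nat_lit 3, nat_lit 5, nat_lit 3])
 (.node (nat_lit 17) (.leaf [nat_lit 1, nat_lit 5, nat_lit 2, nat_lit 5, nat_lit 0, nat_lit 5])
 (.leaf [nat_lit 3, nat_lit 0, nat_lit 3, nat_lit 0, nat_lit 3, nat_lit 0, nat_lit 3, nat_lit 0, nat_lit 3, nat_lit 0])))))
noncomputable def RL : Tr (List ℕ) := (.node (nat_lit 9) RL_0 RL_1)
noncomputable def L0 : Lev := ⟨(nat_lit 0), (nat_lit 6), (nat_lit 0x1020603050400), (nat_lit 0x2020102020200),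
 (.node (nat_lit 3) (.node (nat_lit 1) (.leaf (nat_lit 0x200010003000500040000))
 (.node (nat_lit 2) (.leaf (nat_lit 0x3000000010004000400050000))
 (.leaf (nat_lit 0x3000200010000000600030000))))
 (.node (nat_lit 4) (.leaf (nat_lit 0x2000600010005000700000000))
 (.node (nat_lit 5) (.leaf (nat_lit 0x4000500010003000000080000))
 (.leaf (nat_lit 0x2000200000003000200020001))))),
 (.node (nat_lit 3) (.node (nat_lit 1) (.leaf (nat_lit 0x301000100000205000100000005000000))
 (.node (nat_lit 2) (.leaf (nat_lit 0x101000000000101000101000402000101000000))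
 (.leaf (nat_lit 0x600000702000600000000000400000504000000))))
 (.node (nat_lit 4) (.leaf (nat_lit 0x6000900000900000503000807000000000000))
 (.node (nat_lit 5) (.leaf (nat_lit 0xc00000d01000c00000b03000000000a00000000))
 (.leaf (nat_lit 0x1005001003000000000e01000d02000f02000e01)))))⟩
noncomputable def L1 : Lev := ⟨(nat_lit 2), (nat_lit 5), (nat_lit 0x1020503000400), (nat_lit 0x2020102000200),
 (.node (nat_lit 2) (.node (nat_lit 1) (.leaf (nat_lit 0x200010007000000030000))
 (.leaf (nat_lit 0x3000000010008000000040000)))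
 (.node (nat_lit 3) (.leaf (nat_lit 0x9000800010000000000070000))
 (.node (nat_lit 4) (.leaf (nat_lit 0x6000500010004000000000000))
 (.leaf (nat_lit 0x3000200000002000100020000))))),
 (.node (nat_lit 2) (.node (nat_lit 1) (.leaf (nat_lit 0x301000100001105000000000801000000))
 (.leaf (nat_lit 0x101000000000101000101000000000101000000)))
 (.node (nat_lit 3) (.leaf (nat_lit 0x600000202000600000000000000000504000000))
 (.node (nat_lit 4) (.leaf (nat_lit 0xa01000900000900000503000000000000000000))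
 (.leaf (nat_lit 0xc00000403000000000405000c01000a00000000)))))⟩
noncomputable def L2 : Lev := ⟨(nat_lit 1), (nat_lit 4), (nat_lit 0x1020403000000), (nat_lit 0x2020102000000),
 (.node (nat_lit 2) (.node (nat_lit 1) (.leaf (nat_lit 0x200010004000000000000))
 (.leaf (nat_lit 0x3000000010005000000000000)))
 (.node (nat_lit 3) (.leaf (nat_lit 0x6000500010000000000000000))
 (.leaf (nat_lit 0x2000300000002000000010000)))),
 (.node (nat_lit 2) (.node (nat_lit 1) (.leaf (nat_lit 0x301000100001105000000000000000000))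
 (.leaf (nat_lit 0x101000000000101000101000000000000000000)))
 (.node (nat_lit 3) (.leaf (nat_lit 0x600000202000600000000000000000000000000))
 (.leaf (nat_lit 0x501000900000000000503000000000901000000))))⟩
noncomputable def L3 : Lev := ⟨(nat_lit 3), (nat_lit 3), (nat_lit 0x1020300000000), (nat_lit 0x2020100000000),
 (.node (nat_lit 1) (.leaf (nat_lit 0x200010000000000000000))
 (.node (nat_lit 2) (.leaf (nat_lit 0x3000000010000000000000000))
 (.leaf (nat_lit 0x3000200000001000000000000)))),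
 (.node (nat_lit 1) (.leaf (nat_lit 0x301000100000000000000000000000000))
 (.node (nat_lit 2) (.leaf (nat_lit 0x101000000000101000000000000000000000000))
 (.leaf (nat_lit 0x600000202000000000601000000000000000000))))⟩
noncomputable def L4 : Lev := ⟨(nat_lit 4), (nat_lit 2), (nat_lit 0x1020000000000), (nat_lit 0x1010000000000),
 (.node (nat_lit 1) (.leaf (nat_lit 0x200010000000000000000))
 (.leaf (nat_lit 0x3000000010000000000000000))),
 (.node (nat_lit 1) (.leaf (nat_lit 0x301000100000000000000000000000000))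
 (.leaf (nat_lit 0x101000000000101000000000000000000000000)))⟩
noncomputable def L : List Lev := [L0, L1, L2, L3, L4]
noncomputable abbrev P := PG 7 (nat_lit 3) (nat_lit 7) G0 2
theorem gen : genChk 7 (nat_lit 3) (nat_lit 7) G0 2 = true := by decide +kernel
theorem slp : slpChk 7 (nat_lit 3) (nat_lit 7) T' D 2 18 = true := by decide +kernel
theorem lets : Lets P 7 (nat_lit 3) (nat_lit 7) (Fin.ofNat 7) T := lets_PG (T' := T') D 18 gen (by decide +kernel) slp
theorem lev0 : levChk 7 (nat_lit 3) (nat_lit 7) T RL L0 L1.N = true := by decide +kernel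
theorem lev1 : levChk 7 (nat_lit 3) (nat_lit 7) T RL L1 L2.N = true := by decide +kernel
theorem lev2 : levChk 7 (nat_lit 3) (nat_lit 7) T RL L2 L3.N = true := by decide +kernel
theorem lev3 : levChk 7 (nat_lit 3) (nat_lit 7) T RL L3 L4.N = true := by decide +kernel
theorem lev4 : levChk 7 (nat_lit 3) (nat_lit 7) T RL L4 0 = true := by decide +kernel
theorem chain : Chain 7 (nat_lit 3) (nat_lit 7) T RL L := chain_cons lev0 <| chain_cons lev1 <| chain_cons lev2 <| chain_cons lev3 <| chain_one lev4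
theorem rels : RL.all (fixAll 7 (nat_lit 3) (nat_lit 7) T) = true := by decide +kernel
noncomputable def E : Tr (List ℕ) := (.node (nat_lit 1) (.leaf [nat_lit 3, nat_lit 5, nat_lit 4, nat_lit 3, nat_lit 1, nat_lit 2, nat_lit 1])
 (.leaf [nat_lit 3, nat_lit 5, nat_lit 2, nat_lit 4, nat_lit 3, nat_lit 2, nat_lit 1]))
theorem std : Std P 7 (nat_lit 3) (nat_lit 7) (Fin.ofNat 7) T RL L := std_PG' gen lets chain rels E (allB_iff.1 (by decide +kernel))
theorem card : Nat.card P = 2520 := std.card.trans (by decide +kernel)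
def B : List ℕ := [nat_lit 0, nat_lit 2, nat_lit 1, nat_lit 3, nat_lit 4]
theorem base : IsB P 7 (Fin.ofNat 7) B := std.base

end H8.A7
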