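import Cfsg.Agent.H8.Glue
import Cfsg.Agent.H8.Cover

/-! H8.GD24v: permutation model of order 24 on 24 points: `P`, `lets`, `std`, `card`, `base` (generated certificate) -/

set_option autoImplicit false
set_option maxRecDepth 200000

namespace H8.D24v

noncomputable def t0 : ℕ := (nat_lit 0xb56f2a4e0f8b1cd525634144039881)
noncomputable def t1 : ℕ := (nat_lit 0x20417b56939460f7358b520e648ca2)
noncomputable def t2 : ℕ := (nat_lit 0xaded3951f18358e4ad47188c141404)
noncomputable def t3 : ℕ := (nat_lit 0xa4e5183dcd62d4941c6629037102d5)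
noncomputable def t4 : ℕ := (nat_lit 0x288c0206d5bca9383e2c729236ad07)
noncomputable def t5 : ℕ := (nat_lit 0x7c60d6392b51c68118a1056f325a54)
noncomputable def t6 : ℕ := (nat_lit 0x952707c58e6a92b1a0e510096306b7)
noncomputable def t7 : ℕ := (nat_lit 0x1036ade549c1f1639aa48d0559c46)
noncomputable def G0 : Tr ℕ := (.node (nat_lit 1) (.leaf t0)
 (.leaf t1))
noncomputable def T' : Tr ℕ := (.node (nat_lit 4) (.node (nat_lit 2) (.node (nat_lit 1) (.leaf t0)
 (.leaf t1))
 (.node (nat_lit 3) (.leaf t2)
 (.leaf t3)))
 (.node (nat_lit 6) (.node (nat_lit 5) (.leaf t4)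
 (.leaf t5))
 (.node (nat_lit 7) (.leaf t6)
 (.leaf t7))))
noncomputable def D : Tr (List ℕ) := (.node (nat_lit 4) (.node (nat_lit 2) (.node (nat_lit 1) (.leaf [])
 (.leaf []))
 (.node (nat_lit 3) (.leaf [nat_lit 0, nat_lit 0])
 (.leaf [nat_lit 1, nat_lit 1, nat_lit 1, nat_lit 1, nat_lit 1, nat_lit 1, nat_lit 1])))
 (.node (nat_lit 6) (.node (nat_lit 5) (.leaf [nat_lit 1, nat_lit 1, nat_lit 0])
 (.leaf [nat_lit 3, nat_lit 3, nat_lit 2]))
 (.node (nat_lit 7) (.leaf [nat_lit 3, nat_lit 2])
 (.leaf [nat_lit 6, nat_lit 6, nat_lit 6, nat_lit 6, nat_lit 6, nat_lit 6, nat_lit 6]))))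
noncomputable def T : Tr ℕ := (.node (nat_lit 2) (.node (nat_lit 1) (.leaf t4)
 (.leaf t5))
 (.node (nat_lit 3) (.leaf t6)
 (.leaf t7)))
noncomputable def RL_0 : Tr (List ℕ) := (.node (nat_lit 2) (.node (nat_lit 1) (.leaf [nat_lit 0, nat_lit 1])
 (.leaf [nat_lit 0, nat_lit 3, nat_lit 3, nat_lit 0, nat_lit 0]))
 (.node (nat_lit 3) (.leaf [nat_lit 1, nat_lit 3, nat_lit 0, nat_lit 3, nat_lit 1])
 (.leaf [nat_lit 2, nat_lit 3])))
noncomputable def RL : Tr (List ℕ) := RL_0
noncomputable def L0 : Lev := ⟨(nat_lit 0), (nat_lit 4), (nat_lit 0x40301010404010401020104010203040203020303040400), (nat_lit 0x10202010302030202020204030202030101020302020300),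
 (.node (nat_lit 2) (.node (nat_lit 1) (.leaf (nat_lit 0x10002000000000006000300000008000000020000000a000000020003000b00010001000d00030002000300060001))
 (.leaf (nat_lit 0x1000100090001000b000300040001000300000003000c00040000000e000500000001000000050004000300040001)))
 (.node (nat_lit 3) (.leaf (nat_lit 0x10000000100010004000d000100030008000800030005000a00010000000400010000000f000000000001000a0001))
 (.leaf (nat_lit 0x10009000100000000000c000000030002000700000004000700020000000100010003000e0009000000000001)))),
 (.node (nat_lit 2) (.node (nat_lit 1) (.leaf (nat_lit 0x202000000000000000000000103000000000100000000000103000000000100000000000104000100000104000000000000000104000100000100000104000000000000))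
 (.leaf (nat_lit 0x1000001000001000001000001000001000001000001000001000000000001000001000001000000000001000200000000000001000000000204000001000001000001000001)))
 (.node (nat_lit 3) (.leaf (nat_lit 0x300000000000300000300000300000300000300000300000300000300000300000300000300000300000000000300000300000000000300000000000000000300000300000300))
 (.leaf (nat_lit 0x301000102000301000000000000000101000000000102000102000102000000000102000101000101000000000301000301000102000101000101000000000000000301))))⟩
noncomputable def L : List Lev := [L0]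
noncomputable abbrev P := PG 24 (nat_lit 5) (nat_lit 31) G0 2
theorem gen : genChk 24 (nat_lit 5) (nat_lit 31) G0 2 = true := by decide +kernel
theorem slp : slpChk 24 (nat_lit 5) (nat_lit 31) T' D 2 6 = true := by decide +kernel
theorem lets : Lets P 24 (nat_lit 5) (nat_lit 31) (Fin.ofNat 24) T := lets_PG (T' := T') D 6 gen (by decide +kernel) slp
theorem lev0 : levChk 24 (nat_lit 5) (nat_lit 31) T RL L0 0 = true := by decide +kernel
theorem chain : Chain 24 (nat_lit 5) (nat_lit 31) T RL L := chain_one lev0
theorem rels : RL.all (fixAll 24 (nat_lit 5) (nat_lit 31) T) = true := by decide +kernel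
noncomputable def E : Tr (List ℕ) := (.node (nat_lit 1) (.leaf [nat_lit 2, nat_lit 2, nat_lit 0])
 (.leaf [nat_lit 2, nat_lit 0]))
theorem std : Std P 24 (nat_lit 5) (nat_lit 31) (Fin.ofNat 24) T RL L := std_PG' gen lets chain rels E (allB_iff.1 (by decide +kernel))
theorem card : Nat.card P = 24 := std.card.trans (by decide +kernel)
def B : List ℕ := [nat_lit 0]
theorem base : IsB P 24 (Fin.ofNat 24) B := std.base

end H8.D24v
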