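import Cfsg.Agent.H8.Glue
import Cfsg.Agent.H8.Cover

/-! H8.GL34: permutation model of order 20160 on 21 points: `P`, `lets`, `std`, `card`, `base` (generated certificate) -/

set_option autoImplicit false
set_option maxRecDepth 200000

namespace H8.L34

noncomputable def t0 : ℕ := (nat_lit 0x60a4e868272650855bc7113950)
noncomputable def t1 : ℕ := (nat_lit 0x24acb4029a7990ce8c82343d90)
noncomputable def t2 : ℕ := (nat_lit 0xa6b080309eb386508d10928e6e)
noncomputable def t3 : ℕ := (nat_lit 0x10598e0121a193a636262a250af)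
noncomputable def t4 : ℕ := (nat_lit 0x8245337b82268e47a299031560)
noncomputable def t5 : ℕ := (nat_lit 0x7826447b96509a3440c53531a0)
noncomputable def t6 : ℕ := (nat_lit 0x108882a21a4f624655cda7a21c0)
noncomputable def t7 : ℕ := (nat_lit 0x333674604ab3c1422390f4ca20)
noncomputable def t8 : ℕ := (nat_lit 0x6520e9a426c935cb2be2311020)
noncomputable def t9 : ℕ := (nat_lit 0xf6acae3254c44e128d0e220c20)
noncomputable def t10 : ℕ := (nat_lit 0x13951103b2292bdcd52cc220c20)
noncomputable def t11 : ℕ := (nat_lit 0x12a4db05250e31d917956311020)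
noncomputable def t12 : ℕ := (nat_lit 0xa4a286735f25c4ec9960220c20)
noncomputable def t13 : ℕ := (nat_lit 0x113b1456bdc85d2724c0c311020)
noncomputable def t14 : ℕ := (nat_lit 0x1094d946adf1725462a0e418820)
noncomputable def t15 : ℕ := (nat_lit 0x1129e8c424d052dcf9366418820)
noncomputable def t16 : ℕ := (nat_lit 0x13a40b25b5c77a0ca6262418820)
noncomputable def t17 : ℕ := (nat_lit 0xa419692b0ee8d2136c9e418820)
noncomputable def t18 : ℕ := (nat_lit 0xd72ccf84e8891cac5452418820)
noncomputable def t19 : ℕ := (nat_lit 0x64a9a86162f3ca705d1c418820)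
noncomputable def t20 : ℕ := (nat_lit 0x9321ca3c4ab642927cda418820)
noncomputable def t21 : ℕ := (nat_lit 0xb7b54e9c249a458531d0418820)
noncomputable def t22 : ℕ := (nat_lit 0x1113a903c86458509798ac6cd40)
noncomputable def t23 : ℕ := (nat_lit 0x1438128785636aa30988a4619d2)
noncomputable def G0 : Tr ℕ := (.node (nat_lit 1) (.leaf t0)
 (.leaf t1))
noncomputable def T' : Tr ℕ := (.node (nat_lit 12) (.node (nat_lit 6) (.node (nat_lit 3) (.node (nat_lit 1) (.leaf t0)
 (.node (nat_lit 2) (.leaf t1)
 (.leaf t2)))
 (.node (nat_lit 4) (.leaf t3)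
 (.node (nat_lit 5) (.leaf t4)
 (.leaf t5))))
 (.node (nat_lit 9) (.node (nat_lit 7) (.leaf t6)
 (.node (nat_lit 8) (.leaf t7)
 (.leaf t8)))
 (.node (nat_lit 10) (.leaf t9)
 (.node (nat_lit 11) (.leaf t10)
 (.leaf t11)))))
 (.node (nat_lit 18) (.node (nat_lit 15) (.node (nat_lit 13) (.leaf t12)
 (.node (nat_lit 14) (.leaf t13)
 (.leaf t14)))
 (.node (nat_lit 16) (.leaf t15)
 (.node (nat_lit 17) (.leaf t16)
 (.leaf t17))))
 (.node (nat_lit 21) (.node (nat_lit 19) (.leaf t18)
 (.node (nat_lit 20) (.leaf t19)
 (.leaf t20)))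
 (.node (nat_lit 22) (.leaf t21)
 (.node (nat_lit 23) (.leaf t22)
 (.leaf t23))))))
noncomputable def D : Tr (List ℕ) := (.node (nat_lit 12) (.node (nat_lit 6) (.node (nat_lit 3) (.node (nat_lit 1) (.leaf [])
 (.node (nat_lit 2) (.leaf [])
 (.leaf [nat_lit 0, nat_lit 0, nat_lit 0, nat_lit 0, nat_lit 0, nat_lit 0])))
 (.node (nat_lit 4) (.leaf [nat_lit 1, nat_lit 1, nat_lit 1, nat_lit 1])
 (.node (nat_lit 5) (.leaf [nat_lit 0, nat_lit 0, nat_lit 3, nat_lit 3])
 (.leaf [nat_lit 1, nat_lit 1, nat_lit 2, nat_lit 2]))))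
 (.node (nat_lit 9) (.node (nat_lit 7) (.leaf [nat_lit 0, nat_lit 1, nat_lit 0, nat_lit 0])
 (.node (nat_lit 8) (.leaf [nat_lit 2, nat_lit 2, nat_lit 3, nat_lit 2])
 (.leaf [nat_lit 7, nat_lit 4, nat_lit 6])))
 (.node (nat_lit 10) (.leaf [nat_lit 7, nat_lit 5, nat_lit 6])
 (.node (nat_lit 11) (.leaf [nat_lit 4, nat_lit 6, nat_lit 6, nat_lit 6, nat_lit 6, nat_lit 5, nat_lit 7])
 (.leaf [nat_lit 6, nat_lit 4, nat_lit 7, nat_lit 7, nat_lit 7, nat_lit 7, nat_lit 5])))))
 (.node (nat_lit 18) (.node (nat_lit 15) (.node (nat_lit 13) (.leaf [nat_lit 5, nat_lit 6, nat_lit 5, nat_lit 5, nat_lit 6, nat_lit 5, nat_lit 7, nat_lit 5])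
 (.node (nat_lit 14) (.leaf [nat_lit 4, nat_lit 6, nat_lit 4, nat_lit 7, nat_lit 4, nat_lit 4, nat_lit 7, nat_lit 4])
 (.leaf [nat_lit 9, nat_lit 11, nat_lit 8, nat_lit 13, nat_lit 13, nat_lit 10, nat_lit 13, nat_lit 11, nat_lit 9])))
 (.node (nat_lit 16) (.leaf [nat_lit 10, nat_lit 12, nat_lit 9, nat_lit 10, nat_lit 8, nat_lit 10, nat_lit 8, nat_lit 12, nat_lit 11, nat_lit 9, nat_lit 10, nat_lit 12])
 (.node (nat_lit 17) (.leaf [nat_lit 10, nat_lit 10, nat_lit 8, nat_lit 8, nat_lit 11, nat_lit 11, nat_lit 13])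
 (.leaf [nat_lit 9, nat_lit 12, nat_lit 10, nat_lit 8, nat_lit 12, nat_lit 12, nat_lit 12, nat_lit 12, nat_lit 9, nat_lit 13]))))
 (.node (nat_lit 21) (.node (nat_lit 19) (.leaf [nat_lit 17, nat_lit 16, nat_lit 15, nat_lit 14])
 (.node (nat_lit 20) (.leaf [nat_lit 17, nat_lit 16, nat_lit 14])
 (.leaf [nat_lit 17, nat_lit 14])))
 (.node (nat_lit 22) (.leaf [nat_lit 17, nat_lit 15])
 (.node (nat_lit 23) (.leaf [nat_lit 9, nat_lit 5, nat_lit 9, nat_lit 17, nat_lit 16, nat_lit 14])
 (.leaf [nat_lit 16, nat_lit 0, nat_lit 14, nat_lit 5, nat_lit 8, nat_lit 17, nat_lit 16, nat_lit 14]))))))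
noncomputable def T : Tr ℕ := (.node (nat_lit 4) (.node (nat_lit 2) (.node (nat_lit 1) (.leaf t18)
 (.leaf t19))
 (.node (nat_lit 3) (.leaf t20)
 (.leaf t21)))
 (.node (nat_lit 6) (.node (nat_lit 5) (.leaf t12)
 (.leaf t13))
 (.node (nat_lit 7) (.leaf t22)
 (.leaf t23))))
noncomputable def RL_0 : Tr (List ℕ) := (.node (nat_lit 3) (.node (nat_lit 1) (.leaf [nat_lit 0, nat_lit 1, nat_lit 4, nat_lit 3, nat_lit 5])
 (.node (nat_lit 2) (.leaf [nat_lit 4, nat_lit 2, nat_lit 5, nat_lit 0])
 (.leaf [nat_lit 0, nat_lit 0])))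
 (.node (nat_lit 4) (.leaf [nat_lit 0, nat_lit 1, nat_lit 0, nat_lit 1])
 (.node (nat_lit 5) (.leaf [nat_lit 0, nat_lit 3, nat_lit 0, nat_lit 3])
 (.leaf [nat_lit 1, nat_lit 6, nat_lit 2, nat_lit 4, nat_lit 6, nat_lit 5, nat_lit 2, nat_lit 6]))))
noncomputable def RL_1 : Tr (List ℕ) := (.node (nat_lit 9) (.node (nat_lit 7) (.leaf [nat_lit 4, nat_lit 1, nat_lit 4, nat_lit 1, nat_lit 4, nat_lit 1])
 (.node (nat_lit 8) (.leaf [nat_lit 1, nat_lit 1])
 (.leaf [nat_lit 1, nat_lit 2, nat_lit 1, nat_lit 2])))
 (.node (nat_lit 11) (.node (nat_lit 10) (.leaf [nat_lit 1, nat_lit 3, nat_lit 1, nat_lit 3])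
 (.leaf [nat_lit 0, nat_lit 2, nat_lit 4, nat_lit 0, nat_lit 5]))
 (.node (nat_lit 12) (.leaf [nat_lit 6, nat_lit 2, nat_lit 6, nat_lit 2, nat_lit 6, nat_lit 2])
 (.leaf [nat_lit 2, nat_lit 2]))))
noncomputable def RL_2 : Tr (List ℕ) := (.node (nat_lit 16) (.node (nat_lit 14) (.leaf [nat_lit 0, nat_lit 2, nat_lit 0, nat_lit 2])
 (.node (nat_lit 15) (.leaf [nat_lit 1, nat_lit 2, nat_lit 3, nat_lit 6, nat_lit 7, nat_lit 5, nat_lit 2, nat_lit 7])
 (.leaf [nat_lit 2, nat_lit 3, nat_lit 2, nat_lit 3])))
 (.node (nat_lit 18) (.node (nat_lit 17) (.leaf [nat_lit 6, nat_lit 3, nat_lit 4, nat_lit 6, nat_lit 3, nat_lit 4])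
 (.leaf [nat_lit 3, nat_lit 3]))
 (.node (nat_lit 19) (.leaf [nat_lit 6, nat_lit 4, nat_lit 6, nat_lit 4, nat_lit 6, nat_lit 4])
 (.leaf [nat_lit 4, nat_lit 4, nat_lit 4]))))
noncomputable def RL_3 : Tr (List ℕ) := (.node (nat_lit 23) (.node (nat_lit 21) (.leaf [nat_lit 4, nat_lit 5])
 (.node (nat_lit 22) (.leaf [nat_lit 6, nat_lit 6])
 (.leaf [nat_lit 7, nat_lit 7])))
 (.node (nat_lit 25) (.node (nat_lit 24) (.leaf [nat_lit 7, nat_lit 2, nat_lit 3, nat_lit 7, nat_lit 2, nat_lit 3, nat_lit 7, nat_lit 2, nat_lit 3])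
 (.leaf [nat_lit 7, nat_lit 1, nat_lit 7, nat_lit 1, nat_lit 7, nat_lit 1]))
 (.node (nat_lit 26) (.leaf [nat_lit 7, nat_lit 2, nat_lit 6, nat_lit 7, nat_lit 2, nat_lit 6, nat_lit 7, nat_lit 2, nat_lit 6])
 (.leaf [nat_lit 7, nat_lit 0, nat_lit 3, nat_lit 7, nat_lit 0, nat_lit 3, nat_lit 7, nat_lit 0, nat_lit 3]))))
noncomputable def RL : Tr (List ℕ) := (.node (nat_lit 13) (.node (nat_lit 6) RL_0 RL_1) (.node (nat_lit 20) RL_2 RL_3))
noncomputable def L0 : Lev := ⟨(nat_lit 0), (nat_lit 8), (nat_lit 0x40108040306070405010207030204040707050700), (nat_lit 0x30301030303020202020203020304030303040300),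
 (.node (nat_lit 4) (.node (nat_lit 2) (.node (nat_lit 1) (.leaf (nat_lit 0x50000000100040009000a00010006000700000002001500060003000500160016001b001900180000))
 (.leaf (nat_lit 0x2001400010002000200080010000300090001000000150003000000030011001f0020001a000d0000)))
 (.node (nat_lit 3) (.leaf (nat_lit 0x1400120001000f0000000b0010000200090008000100130000000a001100030018000d001a00190000))
 (.leaf (nat_lit 0x1400010000000d0013000e0000001600010001001500010001000000000015001e002100170000))))
 (.node (nat_lit 6) (.node (nat_lit 5) (.leaf (nat_lit 0xd001800030011000e0014001300010000000a0010001900040016000f000c00150014000000160000))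
 (.leaf (nat_lit 0x1200150001000f000b0000001500140005000b000c00170002001a000f001000150001001600170000)))
 (.node (nat_lit 7) (.leaf (nat_lit 0x16001d00010015001a001c0000000100010017000100000001001b001a000c00000000001e00000000))
 (.leaf (nat_lit 0x7001a00000011001800230015001c0022001b00020012001700190023000300220021002200160001))))),
 (.node (nat_lit 4) (.node (nat_lit 2) (.node (nat_lit 1) (.leaf (nat_lit 0x302000000000200000400000302000201000201000201000200000000000300000300000103000201000201000201000103000103000103000000000000))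
 (.leaf (nat_lit 0x900000802000700000902000800000001000800000701000701000700000000000701000701000000000701000701000001000603000001000500000000)))
 (.node (nat_lit 3) (.leaf (nat_lit 0xc00000c00000c00000f02000000000c00000c01000f00000c00000d01000c01000e06000000000803000d03000c01000b05000b05000a01000101000000))
 (.leaf (nat_lit 0x1100001100000000001004000f01001101000000001100001101001101000f03001100001100000000000000001004001004000003001004000000))))
 (.node (nat_lit 6) (.node (nat_lit 5) (.leaf (nat_lit 0x1400001400001400001301000600001301000100001400000000000100001400001300001302001400001300001400001300001205000000001205000000))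
 (.leaf (nat_lit 0x1401000102001401000102000102000000001401001401001401001401000a04000102000e05001401001401001401001401001401001401001401000000)))
 (.node (nat_lit 7) (.leaf (nat_lit 0x1500001200001500000b02000b02001500000000001500001500001000001500000000001501001000001000000e03000000000000001501000000000000))
 (.leaf (nat_lit 0x1a03001600000000001903001600001802000e04001600001600001804001802001601000e07000e07001600001703000e07000e07000e07001601001601)))))⟩
noncomputable def L1 : Lev := ⟨(nat_lit 1), (nat_lit 7), (nat_lit 0x50602040303070405020705030104050707070000), (nat_lit 0x20302020203030303030103030203030404040000),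
 (.node (nat_lit 3) (.node (nat_lit 1) (.leaf (nat_lit 0xa001600030002000300020015000b000c000200010002000d00000003000300160019001a00000000))
 (.node (nat_lit 2) (.leaf (nat_lit 0x80007000000020002000b00130003000c00000001000800030001000900140019001c001b00000000))
 (.leaf (nat_lit 0x2000600010012000000000013000d000a000b00010003000000010007000c000d000e001700000000))))
 (.node (nat_lit 5) (.node (nat_lit 4) (.leaf (nat_lit 0xa00080001000000100007001100000003000900010002000f00010000000e00150018001d00000000))
 (.leaf (nat_lit 0x2000e0003000400140013000d0000000b00020000000f00010005000000180014001700000000)))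
 (.node (nat_lit 6) (.leaf (nat_lit 0x40000000100030001000e001500140010000c00010003000d00010005000600150018001900000000))
 (.leaf (nat_lit 0x400010001000300020016000000010001000c00000014001500150016000200000000000000010000))))),
 (.node (nat_lit 3) (.node (nat_lit 1) (.leaf (nat_lit 0x302000200000200000400000200000d02000302000201000300000302000200000a03000201000000000201000201000103000103000a03000000000000))
 (.node (nat_lit 2) (.leaf (nat_lit 0x800000001000000000902000800000802000800000701000701000000000701000701000701000701000701000701000001000603000001000000000000))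
 (.leaf (nat_lit 0x101000101000c00000f02000000000000000c01000c00000f02000c01000c01000c01000000000c01000c01000d03000b05000b05000b05000000000000))))
 (.node (nat_lit 5) (.node (nat_lit 4) (.leaf (nat_lit 0x1100001100001100000000001004000f01001101000000001100000901001101000003001100001100000000000f03001004001004000003000000000000))
 (.leaf (nat_lit 0x1301001400001301000100001301000100000100000000000100001002000000001302001400001300000000001300001205001205000000000000)))
 (.node (nat_lit 6) (.leaf (nat_lit 0x1401000000001401001401001401001401001401001401001401001401001401001401000a04001401001401001401001401001401001401000000000000))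
 (.leaf (nat_lit 0x1500001500001500001202000b02001500000000001500001500001000000000000b00001501001000001000000504000000000000000000001501000000)))))⟩
noncomputable def L2 : Lev := ⟨(nat_lit 2), (nat_lit 6), (nat_lit 0x506000000), (nat_lit 0x101000000),
 (.node (nat_lit 3) (.node (nat_lit 1) (.leaf (nat_lit 0x20002000000000000))
 (.node (nat_lit 2) (.leaf (nat_lit 0x40003000000000000))
 (.leaf (nat_lit 0x20004000000000000))))
 (.node (nat_lit 4) (.leaf (nat_lit 0x20005000000000000))
 (.node (nat_lit 5) (.leaf (nat_lit 0x2000100000000))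
 (.leaf (nat_lit 0x30000000100000000))))),
 (.node (nat_lit 3) (.node (nat_lit 1) (.leaf (nat_lit 0xa03000103000000000000000000))
 (.node (nat_lit 2) (.leaf (nat_lit 0x601000001000000000000000000))
 (.leaf (nat_lit 0x101000101000000000000000000))))
 (.node (nat_lit 4) (.leaf (nat_lit 0x3000003000000000000000000))
 (.node (nat_lit 5) (.leaf (nat_lit 0x1301001400000000000000))
 (.leaf (nat_lit 0x1401000000001401000000000000)))))⟩
noncomputable def L3 : Lev := ⟨(nat_lit 5), (nat_lit 4), (nat_lit 0x30204030404020304040401040403000000000000), (nat_lit 0x20202020203010102030301010403000000000000),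
 (.node (nat_lit 2) (.node (nat_lit 1) (.leaf (nat_lit 0x30003000a000400060007000200020003000900080000000200090005000100000000000000000000))
 (.leaf (nat_lit 0x200000004000300030005000000020006000400050001000200030003000100000000000000000000)))
 (.node (nat_lit 3) (.leaf (nat_lit 0x10003000000020003000100000002000300030001000200020000000100000000000000000000))
 (.leaf (nat_lit 0x100010000000100000000000100010000000000000001000000000001000100000000000000000000)))),
 (.node (nat_lit 2) (.node (nat_lit 1) (.leaf (nat_lit 0x200000200000200000300000302000201000302000d02000200000302000d00000000000402000201000201000201000000000000000000000000000000))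
 (.leaf (nat_lit 0x800000000000802000700000700000802000000000802000701000700000701000701000902000902000701000701000000000000000000000000000000)))
 (.node (nat_lit 3) (.leaf (nat_lit 0xc00000c00000000000f00000c00000c01000000000f02000c01000c01000c01000f02000f02000000000c01000000000000000000000000000000))
 (.leaf (nat_lit 0x1100001100000000001100000000000000001101001101000000000000000000001101000000000000001101001101000000000000000000000000000000))))⟩
noncomputable def L : List Lev := [L0, L1, L2, L3]
noncomputable abbrev P := PG 21 (nat_lit 5) (nat_lit 31) G0 2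
theorem gen : genChk 21 (nat_lit 5) (nat_lit 31) G0 2 = true := by decide +kernel
theorem slp : slpChk 21 (nat_lit 5) (nat_lit 31) T' D 2 22 = true := by decide +kernel
theorem lets : Lets P 21 (nat_lit 5) (nat_lit 31) (Fin.ofNat 21) T := lets_PG (T' := T') D 22 gen (by decide +kernel) slp
theorem lev0 : levChk 21 (nat_lit 5) (nat_lit 31) T RL L0 L1.N = true := by decide +kernel
theorem lev1 : levChk 21 (nat_lit 5) (nat_lit 31) T RL L1 L2.N = true := by decide +kernel
theorem lev2 : levChk 21 (nat_lit 5) (nat_lit 31) T RL L2 L3.N = true := by decide +kernel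
theorem lev3 : levChk 21 (nat_lit 5) (nat_lit 31) T RL L3 0 = true := by decide +kernel
theorem chain : Chain 21 (nat_lit 5) (nat_lit 31) T RL L := chain_cons lev0 <| chain_cons lev1 <| chain_cons lev2 <| chain_one lev3
theorem rels : RL.all (fixAll 21 (nat_lit 5) (nat_lit 31) T) = true := by decide +kernel
noncomputable def E : Tr (List ℕ) := (.node (nat_lit 1) (.leaf [nat_lit 2, nat_lit 1, nat_lit 7, nat_lit 2, nat_lit 6, nat_lit 5, nat_lit 3, nat_lit 2, nat_lit 0])
 (.leaf [nat_lit 2, nat_lit 1, nat_lit 7, nat_lit 4, nat_lit 0, nat_lit 6, nat_lit 3, nat_lit 1]))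
theorem std : Std P 21 (nat_lit 5) (nat_lit 31) (Fin.ofNat 21) T RL L := std_PG' gen lets chain rels E (allB_iff.1 (by decide +kernel))
theorem card : Nat.card P = 20160 := std.card.trans (by decide +kernel)
def B : List ℕ := [nat_lit 0, nat_lit 1, nat_lit 2, nat_lit 5]
theorem base : IsB P 21 (Fin.ofNat 21) B := std.base

end H8.L34
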