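import Cfsg.Agent.H8.GK
import Cfsg.Agent.H8.GL34
import Cfsg.Agent.H8.Alt

/-! H8.GE: stabilisers in M24: octads, hexads, triads, duads (generated certificate) -/

set_option autoImplicit false
set_option maxRecDepth 200000

set_option linter.all false
open Subgroup Cfsg

namespace H8.GE

noncomputable def m0t0 : ℕ := (nat_lit 0x33a70abd349590c2aa2d3dd6418820)
noncomputable def m0t1 : ℕ := (nat_lit 0x9c8cbbd90573d2ca29b13d60418820)
noncomputable def m0t2 : ℕ := (nat_lit 0xb5de894d6da9a0c8a8b43b92418820)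
noncomputable def m0t3 : ℕ := (nat_lit 0x451368ae6e2c0cc92ab73b5e418820)
noncomputable def m0t4 : ℕ := (nat_lit 0x6da6f722572d6074b0d152e8418820)
noncomputable def m0t5 : ℕ := (nat_lit 0x859c5ac50da4eea31d72625e418820)
noncomputable def m0t6 : ℕ := (nat_lit 0xbb1f3a4232ab916218ed4a8ab18820)
noncomputable def m0t7 : ℕ := (nat_lit 0x2429570d367cdac52e27418b790820)
noncomputable def m0t8 : ℕ := (nat_lit 0x358946144e7c1b358ce84de5554420)
noncomputable def m0t9 : ℕ := (nat_lit 0x14ea6b49b029e2c0a888751e91dd60)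
noncomputable def m0t10 : ℕ := (nat_lit 0x33e2a102a9b20811d20e2dced5cd92)
noncomputable def m0T : Tr ℕ := (.node (nat_lit 5) (.node (nat_lit 2) (.node (nat_lit 1) (.leaf m0t0) (.leaf m0t1)) (.node (nat_lit 3) (.leaf m0t2) (.node (nat_lit 4) (.leaf m0t3) (.leaf m0t4))))
 (.node (nat_lit 8) (.node (nat_lit 6) (.leaf m0t5) (.node (nat_lit 7) (.leaf m0t6) (.leaf m0t7))) (.node (nat_lit 9) (.leaf m0t8) (.node (nat_lit 10) (.leaf m0t9) (.leaf m0t10)))))
noncomputable def m0L0 : Lev := ⟨(nat_lit 0), (nat_lit 11), (nat_lit 0x3020305030b050701020a070408060608050907080b0a00), (nat_lit 0x30203030201020202030303020303020303020302030300),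
 (.leaf 0),
 (.leaf 0)⟩
noncomputable def m0L1 : Lev := ⟨(nat_lit 1), (nat_lit 10), (nat_lit 0x10408020704030204030a060a0806030705010708090000), (nat_lit 0x30303020302020303030303010202030302020203030000),
 (.leaf 0),
 (.leaf 0)⟩
noncomputable def m0L2 : Lev := ⟨(nat_lit 2), (nat_lit 9), (nat_lit 0x40204030406090701060209030801020706030708000000), (nat_lit 0x30303030202010303030303020302020303030303000000),
 (.leaf 0),
 (.leaf 0)⟩
noncomputable def m0L3 : Lev := ⟨(nat_lit 3), (nat_lit 8), (nat_lit 0x30203050308050701020107040806060805040700000000), (nat_lit 0x30203030201020202030303020303020303030300000000),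
 (.leaf 0),
 (.leaf 0)⟩
noncomputable def m0L4 : Lev := ⟨(nat_lit 4), (nat_lit 7), (nat_lit 0x10402020704030204030407070706030705010000000000), (nat_lit 0x30303020302020303030304010302030302020000000000),
 (.leaf 0),
 (.leaf 0)⟩
noncomputable def m0L5 : Lev := ⟨(nat_lit 7), (nat_lit 6), (nat_lit 0x5000600000000000000000000), (nat_lit 0x1000100000000000000000000),
 (.leaf 0),
 (.leaf 0)⟩
noncomputable def m0L6 : Lev := ⟨(nat_lit 5), (nat_lit 4), (nat_lit 0x40404020404030204040300010003030004000000000000), (nat_lit 0x40302020302020101020200010001030003000000000000),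
 (.leaf 0),
 (.leaf 0)⟩
noncomputable def m0L : List Lev := [m0L0, m0L1, m0L2, m0L3, m0L4, m0L5, m0L6]
theorem m0c : band (m0T.all fun c => m24Chk (ap 5 31 c)) (band (tchainChk 24 5 31 m0T m0L) (Nat.ble 244823040 (chainOrd 24 m0L))) = true := by decide +kernel
noncomputable def a3t0 : ℕ := (nat_lit 0xa20b75c6464b5cc9a9f63c2a418820)
noncomputable def a3t1 : ℕ := (nat_lit 0x451368ae6e2c0cc92ab73b5e418820)
noncomputable def a3t2 : ℕ := (nat_lit 0x6c22e496b65d2ec7aa663a24418820)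
noncomputable def a3t3 : ℕ := (nat_lit 0x4950f6c0d2a2e6c72af53c6c418820)
noncomputable def a3t4 : ℕ := (nat_lit 0xbc12ba18ad946c79b11553dc418820)
noncomputable def a3t5 : ℕ := (nat_lit 0xbb5135bdd63160aa1ea964a2418820)
noncomputable def a3t6 : ℕ := (nat_lit 0x7b2b48ca65ba1b63a54e5920618820)
noncomputable def a3t7 : ℕ := (nat_lit 0x65aa482db319a37928e84b8b478820)
noncomputable def a3T : Tr ℕ := (.node (nat_lit 4) (.node (nat_lit 2) (.node (nat_lit 1) (.leaf a3t0) (.leaf a3t1)) (.node (nat_lit 3) (.leaf a3t2) (.leaf a3t3)))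
 (.node (nat_lit 6) (.node (nat_lit 5) (.leaf a3t4) (.leaf a3t5)) (.node (nat_lit 7) (.leaf a3t6) (.leaf a3t7))))
noncomputable def a3L0 : Lev := ⟨(nat_lit 0), (nat_lit 8), (nat_lit 0x0), (nat_lit 0x0),
 (.leaf 0),
 (.leaf 0)⟩
noncomputable def a3L1 : Lev := ⟨(nat_lit 1), (nat_lit 8), (nat_lit 0x0), (nat_lit 0x0),
 (.leaf 0),
 (.leaf 0)⟩
noncomputable def a3L2 : Lev := ⟨(nat_lit 2), (nat_lit 8), (nat_lit 0x0), (nat_lit 0x0),
 (.leaf 0),
 (.leaf 0)⟩
noncomputable def a3L3 : Lev := ⟨(nat_lit 3), (nat_lit 8), (nat_lit 0x70402040306050708060208030701060805020800000000), (nat_lit 0x20303020302030301030303020302030302020300000000),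
 (.leaf 0),
 (.leaf 0)⟩
noncomputable def a3L4 : Lev := ⟨(nat_lit 4), (nat_lit 7), (nat_lit 0x30304040405040106020207020705030707070000000000), (nat_lit 0x30303030302020202030204030403020401030000000000),
 (.leaf 0),
 (.leaf 0)⟩
noncomputable def a3L5 : Lev := ⟨(nat_lit 7), (nat_lit 6), (nat_lit 0x5000600000000000000000000), (nat_lit 0x1000100000000000000000000),
 (.leaf 0),
 (.leaf 0)⟩
noncomputable def a3L6 : Lev := ⟨(nat_lit 5), (nat_lit 4), (nat_lit 0x40401040303030402040400030002040004000000000000), (nat_lit 0x30101020301020201030400020002020003000000000000),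
 (.leaf 0),
 (.leaf 0)⟩
noncomputable def a3L : List Lev := [a3L0, a3L1, a3L2, a3L3, a3L4, a3L5, a3L6]
theorem a3e : smC [0, 1, 2] [] [] a3T = true := by decide +kernel
noncomputable def a3J : List Pr := [prSM 24 (allM [0, 1, 2] []) []]
noncomputable def a3F0 : ℕ × ℕ := ((nat_lit 0xffffffffffffffffffffffffffffffffffffffffffffff00), (nat_lit 0))
theorem a3b0 : allR 0 24 (ptB 24 (nat_lit 5) (nat_lit 31) m0T a3T a3J m0L0 [m0L1, m0L2, m0L3, m0L4, m0L5, m0L6] a3L0 (dg []) a3F0.1 a3F0.2) = true := by decide +kernel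
noncomputable def a3F1 : ℕ × ℕ := ((nat_lit 0xffffffffffffffffffffffffffffffffffffffffffff0000), (nat_lit 0))
theorem a3b1 : allR 0 24 (ptB 24 (nat_lit 5) (nat_lit 31) m0T a3T a3J m0L1 [m0L2, m0L3, m0L4, m0L5, m0L6] a3L1 (dg [m0L0.b]) a3F1.1 a3F1.2) = true := by decide +kernel
noncomputable def a3F2 : ℕ × ℕ := ((nat_lit 0xffffffffffffffffffffffffffffffffffffffffff000000), (nat_lit 0))
theorem a3b2 : allR 0 24 (ptB 24 (nat_lit 5) (nat_lit 31) m0T a3T a3J m0L2 [m0L3, m0L4, m0L5, m0L6] a3L2 (dg [m0L1.b, m0L0.b]) a3F2.1 a3F2.2) = true := by decide +kernel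
noncomputable def a3F3 : ℕ × ℕ := ((nat_lit 0), (nat_lit 0))
theorem a3b3 : allR 0 24 (ptB 24 (nat_lit 5) (nat_lit 31) m0T a3T a3J m0L3 [m0L4, m0L5, m0L6] a3L3 (dg [m0L2.b, m0L1.b, m0L0.b]) a3F3.1 a3F3.2) = true := by decide +kernel
noncomputable def a3F4 : ℕ × ℕ := ((nat_lit 0), (nat_lit 0))
theorem a3b4 : allR 0 24 (ptB 24 (nat_lit 5) (nat_lit 31) m0T a3T a3J m0L4 [m0L5, m0L6] a3L4 (dg [m0L3.b, m0L2.b, m0L1.b, m0L0.b]) a3F4.1 a3F4.2) = true := by decide +kernel
noncomputable def a3F5 : ℕ × ℕ := ((nat_lit 0), (nat_lit 0))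
theorem a3b5 : allR 0 24 (ptB 24 (nat_lit 5) (nat_lit 31) m0T a3T a3J m0L5 [m0L6] a3L5 (dg [m0L4.b, m0L3.b, m0L2.b, m0L1.b, m0L0.b]) a3F5.1 a3F5.2) = true := by decide +kernel
noncomputable def a3F6 : ℕ × ℕ := ((nat_lit 0), (nat_lit 0))
theorem a3b6 : allR 0 24 (ptB 24 (nat_lit 5) (nat_lit 31) m0T a3T a3J m0L6 [] a3L6 (dg [m0L5.b, m0L4.b, m0L3.b, m0L2.b, m0L1.b, m0L0.b]) a3F6.1 a3F6.2) = true := by decide +kernel
theorem a3bk : Bk 24 (nat_lit 5) (nat_lit 31) m0T a3T a3J m0L a3L [a3F0, a3F1, a3F2, a3F3, a3F4, a3F5, a3F6] [] :=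
  ⟨rfl, a3b0, rfl, a3b1, rfl, a3b2, rfl, a3b3, rfl, a3b4, rfl, a3b5, rfl, a3b6, trivial⟩
theorem a3tc : tchainChk 24 (nat_lit 5) (nat_lit 31) a3T a3L = true := by decide +kernel
theorem a3ch {C : H7.Coding GolayPt} (hC : GC C) : Ch (SM M24 C [0, 1, 2] [] []) 24 5 31 C.dec a3T a3L :=
  (hC.chSM (hC.ch m0c) a3e a3tc a3bk)
theorem a3card {C : H7.Coding GolayPt} (hC : GC C) : Nat.card (SM M24 C [0, 1, 2] [] []) = 20160 := (a3ch hC).card.trans (by decide +kernel)
noncomputable def a3iI : Tr (List ℕ) := (.node (nat_lit 4) (.node (nat_lit 2) (.node (nat_lit 1) (.leaf [nat_lit 5, nat_lit 1, nat_lit 7, nat_lit 3, nat_lit 4, nat_lit 6]) (.leaf [nat_lit 6, nat_lit 7, nat_lit 1, nat_lit 0, nat_lit 6, nat_lit 4, nat_lit 1])) (.node (nat_lit 3) (.leaf [nat_lit 7, nat_lit 0, nat_lit 7, nat_lit 6, nat_lit 2, nat_lit 0, nat_lit 6, nat_lit 4, nat_lit 1]) (.leaf [nat_lit 7, nat_lit 6, nat_lit 7, nat_lit 2, nat_lit 1, nat_lit 0])))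
 (.node (nat_lit 6) (.node (nat_lit 5) (.leaf [nat_lit 5, nat_lit 7, nat_lit 6, nat_lit 5, nat_lit 2, nat_lit 0]) (.leaf [nat_lit 4, nat_lit 1, nat_lit 7, nat_lit 6, nat_lit 1, nat_lit 5, nat_lit 6, nat_lit 5, nat_lit 3, nat_lit 2, nat_lit 1])) (.node (nat_lit 7) (.leaf [nat_lit 4, nat_lit 1, nat_lit 7, nat_lit 5, nat_lit 3, nat_lit 1]) (.leaf [nat_lit 2, nat_lit 1, nat_lit 6, nat_lit 5, nat_lit 3, nat_lit 0]))))
theorem a3ih : L34.RL.all (fun w => eqB (a3L.map Lev.b) (apF (fun y => apL (nat_lit 5) (nat_lit 31) a3T (a3iI.get y)) w) fun a => a) = true := by decide +kernel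
noncomputable def a3iD : Tr (List ℕ) := (.node (nat_lit 4) (.node (nat_lit 2) (.node (nat_lit 1) (.leaf [nat_lit 3, nat_lit 7, nat_lit 2, nat_lit 6, nat_lit 2, nat_lit 0]) (.leaf [nat_lit 3, nat_lit 2, nat_lit 7, nat_lit 2, nat_lit 6, nat_lit 0])) (.node (nat_lit 3) (.leaf [nat_lit 6, nat_lit 3, nat_lit 7, nat_lit 3, nat_lit 6]) (.leaf [nat_lit 0, nat_lit 6, nat_lit 7, nat_lit 6, nat_lit 1, nat_lit 6, nat_lit 5, nat_lit 3, nat_lit 0])))
 (.node (nat_lit 6) (.node (nat_lit 5) (.leaf [nat_lit 1, nat_lit 7, nat_lit 5, nat_lit 2, nat_lit 6, nat_lit 4, nat_lit 2, nat_lit 1, nat_lit 0]) (.leaf [nat_lit 7, nat_lit 5, nat_lit 2, nat_lit 6, nat_lit 4, nat_lit 2, nat_lit 0])) (.node (nat_lit 7) (.leaf [nat_lit 3, nat_lit 1, nat_lit 6, nat_lit 4, nat_lit 0]) (.leaf [nat_lit 3, nat_lit 2, nat_lit 7, nat_lit 4, nat_lit 0, nat_lit 6, nat_lit 4, nat_lit 1, nat_lit 0]))))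
theorem a3is : band (surChk (nat_lit 5) (nat_lit 31) (a3L.map Lev.b) a3T a3iI (topN L34.L) a3iD (topN a3L)) (Nat.ble (chainOrd 21 L34.L) (chainOrd 24 a3L)) = true := by decide +kernel
theorem a3i {C : H7.Coding GolayPt} (hC : GC C)  : Nonempty (L34.P ≃* (SM M24 C [0, 1, 2] [] [])) :=
  (L34.std.isoW (a3ch hC) a3ih a3is)
noncomputable def m1t0 : ℕ := (nat_lit 0x8adb2452ef816acb28d33a5c418820)
noncomputable def m1t1 : ℕ := (nat_lit 0x71a4d7d4a89de8c4a9703da2418820)
noncomputable def m1t2 : ℕ := (nat_lit 0xb5de894d6da9a0c8a8b43b92418820)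
noncomputable def m1t3 : ℕ := (nat_lit 0x835662a5f78a2ccaaa4e3d26418820)
noncomputable def m1t4 : ℕ := (nat_lit 0xbc12ba18ad946c79b11553dc418820)
noncomputable def m1t5 : ℕ := (nat_lit 0xbb5135bdd63160aa1ea964a2418820)
noncomputable def m1t6 : ℕ := (nat_lit 0x316b43c96c225b08a1ca9decf18820)
noncomputable def m1t7 : ℕ := (nat_lit 0xa3ab719e287d8c55a5509358498820)
noncomputable def m1t8 : ℕ := (nat_lit 0xb9cb3a09507b9285c5acb1aa324820)
noncomputable def m1t9 : ℕ := (nat_lit 0xbb1c8985e38d5b6329343ac4481640)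
noncomputable def m1t10 : ℕ := (nat_lit 0x8b2b4782ee9c0365a54539904189b2)
noncomputable def m1T : Tr ℕ := (.node (nat_lit 5) (.node (nat_lit 2) (.node (nat_lit 1) (.leaf m1t0) (.leaf m1t1)) (.node (nat_lit 3) (.leaf m1t2) (.node (nat_lit 4) (.leaf m1t3) (.leaf m1t4))))
 (.node (nat_lit 8) (.node (nat_lit 6) (.leaf m1t5) (.node (nat_lit 7) (.leaf m1t6) (.leaf m1t7))) (.node (nat_lit 9) (.leaf m1t8) (.node (nat_lit 10) (.leaf m1t9) (.leaf m1t10)))))
noncomputable def m1L0 : Lev := ⟨(nat_lit 0), (nat_lit 11), (nat_lit 0x8020201030b0401050a0205060804030806090708090a00), (nat_lit 0x30302020201030302030303030302030202030303020200),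
 (.leaf 0),
 (.leaf 0)⟩
noncomputable def m1L1 : Lev := ⟨(nat_lit 1), (nat_lit 10), (nat_lit 0x8020201030a0401050a0205060804030806090708090000), (nat_lit 0x30302020201030302030303030302030202030303020000),
 (.leaf 0),
 (.leaf 0)⟩
noncomputable def m1L2 : Lev := ⟨(nat_lit 2), (nat_lit 9), (nat_lit 0x80202010309040105070205060804030806090708000000), (nat_lit 0x30302020201030302030303030302030202030303000000),
 (.leaf 0),
 (.leaf 0)⟩
noncomputable def m1L3 : Lev := ⟨(nat_lit 3), (nat_lit 8), (nat_lit 0x80706060803040202040208050705010705040700000000), (nat_lit 0x30303020102030302030303020303020203020300000000),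
 (.leaf 0),
 (.leaf 0)⟩
noncomputable def m1L4 : Lev := ⟨(nat_lit 4), (nat_lit 7), (nat_lit 0x40503060206040107050307050706020705040000000000), (nat_lit 0x30302030202020201030303030403030302030000000000),
 (.leaf 0),
 (.leaf 0)⟩
noncomputable def m1L5 : Lev := ⟨(nat_lit 7), (nat_lit 6), (nat_lit 0x5000600000000000000000000), (nat_lit 0x1000100000000000000000000),
 (.leaf 0),
 (.leaf 0)⟩
noncomputable def m1L6 : Lev := ⟨(nat_lit 10), (nat_lit 4), (nat_lit 0x0), (nat_lit 0x0),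
 (.leaf 0),
 (.leaf 0)⟩
noncomputable def m1L7 : Lev := ⟨(nat_lit 12), (nat_lit 4), (nat_lit 0x0), (nat_lit 0x0),
 (.leaf 0),
 (.leaf 0)⟩
noncomputable def m1L8 : Lev := ⟨(nat_lit 5), (nat_lit 4), (nat_lit 0x20304040404020404010400030003040003000000000000), (nat_lit 0x20303030102010302010400020001020002000000000000),
 (.leaf 0),
 (.leaf 0)⟩
noncomputable def m1L : List Lev := [m1L0, m1L1, m1L2, m1L3, m1L4, m1L5, m1L6, m1L7, m1L8]
theorem m1c : band (m1T.all fun c => m24Chk (ap 5 31 c)) (band (tchainChk 24 5 31 m1T m1L) (Nat.ble 244823040 (chainOrd 24 m1L))) = true := by decide +kernel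
noncomputable def fo0t0 : ℕ := (nat_lit 0x94dd1b5e89354ac42a0b3bda418820)
noncomputable def fo0t1 : ℕ := (nat_lit 0xb5de894d6da9a0c8a8b43b92418820)
noncomputable def fo0t2 : ℕ := (nat_lit 0x7d6c971a11bcd6c6aa853c90418820)
noncomputable def fo0t3 : ℕ := (nat_lit 0x8adb2452ef816acb28d33a5c418820)
noncomputable def fo0T : Tr ℕ := (.node (nat_lit 2) (.node (nat_lit 1) (.leaf fo0t0) (.leaf fo0t1)) (.node (nat_lit 3) (.leaf fo0t2) (.leaf fo0t3)))
noncomputable def fo0L0 : Lev := ⟨(nat_lit 0), (nat_lit 4), (nat_lit 0x0), (nat_lit 0x0),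
 (.leaf 0),
 (.leaf 0)⟩
noncomputable def fo0L1 : Lev := ⟨(nat_lit 1), (nat_lit 4), (nat_lit 0x0), (nat_lit 0x0),
 (.leaf 0),
 (.leaf 0)⟩
noncomputable def fo0L2 : Lev := ⟨(nat_lit 2), (nat_lit 4), (nat_lit 0x0), (nat_lit 0x0),
 (.leaf 0),
 (.leaf 0)⟩
noncomputable def fo0L3 : Lev := ⟨(nat_lit 3), (nat_lit 4), (nat_lit 0x0), (nat_lit 0x0),
 (.leaf 0),
 (.leaf 0)⟩
noncomputable def fo0L4 : Lev := ⟨(nat_lit 4), (nat_lit 4), (nat_lit 0x0), (nat_lit 0x0),
 (.leaf 0),
 (.leaf 0)⟩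
noncomputable def fo0L5 : Lev := ⟨(nat_lit 7), (nat_lit 4), (nat_lit 0x0), (nat_lit 0x0),
 (.leaf 0),
 (.leaf 0)⟩
noncomputable def fo0L6 : Lev := ⟨(nat_lit 10), (nat_lit 4), (nat_lit 0x0), (nat_lit 0x0),
 (.leaf 0),
 (.leaf 0)⟩
noncomputable def fo0L7 : Lev := ⟨(nat_lit 12), (nat_lit 4), (nat_lit 0x0), (nat_lit 0x0),
 (.leaf 0),
 (.leaf 0)⟩
noncomputable def fo0L8 : Lev := ⟨(nat_lit 5), (nat_lit 4), (nat_lit 0x40404030404030204040100030002030004000000000000), (nat_lit 0x40302020203030203010100020001010002000000000000),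
 (.leaf 0),
 (.leaf 0)⟩
noncomputable def fo0L : List Lev := [fo0L0, fo0L1, fo0L2, fo0L3, fo0L4, fo0L5, fo0L6, fo0L7, fo0L8]
theorem fo0e : smC [0, 1, 2, 3, 4, 7, 10, 12] [] [] fo0T = true := by decide +kernel
noncomputable def fo0J : List Pr := [prSM 24 (allM [0, 1, 2, 3, 4, 7, 10, 12] []) []]
noncomputable def fo0F0 : ℕ × ℕ := ((nat_lit 0xffffffffffffffffffffffffffffffffffffffffffffff00), (nat_lit 0))
theorem fo0b0 : allR 0 24 (ptB 24 (nat_lit 5) (nat_lit 31) m1T fo0T fo0J m1L0 [m1L1, m1L2, m1L3, m1L4, m1L5, m1L6, m1L7, m1L8] fo0L0 (dg []) fo0F0.1 fo0F0.2) = true := by decide +kernel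
noncomputable def fo0F1 : ℕ × ℕ := ((nat_lit 0xffffffffffffffffffffffffffffffffffffffffffff0000), (nat_lit 0))
theorem fo0b1 : allR 0 24 (ptB 24 (nat_lit 5) (nat_lit 31) m1T fo0T fo0J m1L1 [m1L2, m1L3, m1L4, m1L5, m1L6, m1L7, m1L8] fo0L1 (dg [m1L0.b]) fo0F1.1 fo0F1.2) = true := by decide +kernel
noncomputable def fo0F2 : ℕ × ℕ := ((nat_lit 0xffffffffffffffffffffffffffffffffffffffffff000000), (nat_lit 0))
theorem fo0b2 : allR 0 24 (ptB 24 (nat_lit 5) (nat_lit 31) m1T fo0T fo0J m1L2 [m1L3, m1L4, m1L5, m1L6, m1L7, m1L8] fo0L2 (dg [m1L1.b, m1L0.b]) fo0F2.1 fo0F2.2) = true := by decide +kernel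
noncomputable def fo0F3 : ℕ × ℕ := ((nat_lit 0xffffffffffffffffffffffffffffffffffffffff00000000), (nat_lit 0))
theorem fo0b3 : allR 0 24 (ptB 24 (nat_lit 5) (nat_lit 31) m1T fo0T fo0J m1L3 [m1L4, m1L5, m1L6, m1L7, m1L8] fo0L3 (dg [m1L2.b, m1L1.b, m1L0.b]) fo0F3.1 fo0F3.2) = true := by decide +kernel
noncomputable def fo0F4 : ℕ × ℕ := ((nat_lit 0xffffffffffffffffffffffffffffffffffffff0000000000), (nat_lit 0))
theorem fo0b4 : allR 0 24 (ptB 24 (nat_lit 5) (nat_lit 31) m1T fo0T fo0J m1L4 [m1L5, m1L6, m1L7, m1L8] fo0L4 (dg [m1L3.b, m1L2.b, m1L1.b, m1L0.b]) fo0F4.1 fo0F4.2) = true := by decide +kernel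
noncomputable def fo0F5 : ℕ × ℕ := ((nat_lit 0xff00ff00000000000000000000), (nat_lit 0))
theorem fo0b5 : allR 0 24 (ptB 24 (nat_lit 5) (nat_lit 31) m1T fo0T fo0J m1L5 [m1L6, m1L7, m1L8] fo0L5 (dg [m1L4.b, m1L3.b, m1L2.b, m1L1.b, m1L0.b]) fo0F5.1 fo0F5.2) = true := by decide +kernel
noncomputable def fo0F6 : ℕ × ℕ := ((nat_lit 0), (nat_lit 0))
theorem fo0b6 : allR 0 24 (ptB 24 (nat_lit 5) (nat_lit 31) m1T fo0T fo0J m1L6 [m1L7, m1L8] fo0L6 (dg [m1L5.b, m1L4.b, m1L3.b, m1L2.b, m1L1.b, m1L0.b]) fo0F6.1 fo0F6.2) = true := by decide +kernel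
noncomputable def fo0F7 : ℕ × ℕ := ((nat_lit 0), (nat_lit 0))
theorem fo0b7 : allR 0 24 (ptB 24 (nat_lit 5) (nat_lit 31) m1T fo0T fo0J m1L7 [m1L8] fo0L7 (dg [m1L6.b, m1L5.b, m1L4.b, m1L3.b, m1L2.b, m1L1.b, m1L0.b]) fo0F7.1 fo0F7.2) = true := by decide +kernel
noncomputable def fo0F8 : ℕ × ℕ := ((nat_lit 0), (nat_lit 0))
theorem fo0b8 : allR 0 24 (ptB 24 (nat_lit 5) (nat_lit 31) m1T fo0T fo0J m1L8 [] fo0L8 (dg [m1L7.b, m1L6.b, m1L5.b, m1L4.b, m1L3.b, m1L2.b, m1L1.b, m1L0.b]) fo0F8.1 fo0F8.2) = true := by decide +kernel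
theorem fo0bk : Bk 24 (nat_lit 5) (nat_lit 31) m1T fo0T fo0J m1L fo0L [fo0F0, fo0F1, fo0F2, fo0F3, fo0F4, fo0F5, fo0F6, fo0F7, fo0F8] [] :=
  ⟨rfl, fo0b0, rfl, fo0b1, rfl, fo0b2, rfl, fo0b3, rfl, fo0b4, rfl, fo0b5, rfl, fo0b6, rfl, fo0b7, rfl, fo0b8, trivial⟩
theorem fo0tc : tchainChk 24 (nat_lit 5) (nat_lit 31) fo0T fo0L = true := by decide +kernel
noncomputable def fot0 : ℕ := (nat_lit 0x8adb2452ef816acb28d33a5c418820)
noncomputable def fot1 : ℕ := (nat_lit 0x2a695835d34464c32acf3aee418820)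
noncomputable def fot2 : ℕ := (nat_lit 0xa20b75c6464b5cc9a9f63c2a418820)
noncomputable def fot3 : ℕ := (nat_lit 0x7d6c971a11bcd6c6aa853c90418820)
noncomputable def foT : Tr ℕ := (.node (nat_lit 2) (.node (nat_lit 1) (.leaf fot0) (.leaf fot1)) (.node (nat_lit 3) (.leaf fot2) (.leaf fot3)))
noncomputable def foL0 : Lev := ⟨(nat_lit 5), (nat_lit 4), (nat_lit 0x20403030403020404010300040004040004000000000000), (nat_lit 0x10201020203020302010200030003010004000000000000),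
 (.leaf 0),
 (.leaf 0)⟩
noncomputable def foL : List Lev := [foL0]
theorem foe : smC [0, 1, 2, 3, 4, 7, 10, 12] [] [] foT = true := by decide +kernel
theorem fotc : tchainChk 24 (nat_lit 5) (nat_lit 31) foT foL = true := by decide +kernel
theorem foc : band (tchainChk 24 (nat_lit 5) (nat_lit 31) foT foL) (Nat.ble (chainOrd 24 fo0L) (chainOrd 24 foL)) = true := by decide +kernel
theorem foch {C : H7.Coding GolayPt} (hC : GC C) : Ch (SM M24 C [0, 1, 2, 3, 4, 7, 10, 12] [] []) 24 5 31 C.dec foT foL :=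
  ((hC.chSM (hC.ch m1c) fo0e fo0tc fo0bk).ch (hC.sm foe) foc)
theorem focard {C : H7.Coding GolayPt} (hC : GC C) : Nat.card (SM M24 C [0, 1, 2, 3, 4, 7, 10, 12] [] []) = 16 := (foch hC).card.trans (by decide +kernel)
theorem foe2 : allR 0 24 (refu 24 (nat_lit 5) (nat_lit 31) foT ⟨fun _ _ => 0, fun _ _ _ => true, fun f => eqB (foL.map Lev.b) (itF f 2) fun a => a⟩ foL0 [] []) = true := by decide +kernel
noncomputable def sot0 : ℕ := (nat_lit 0x33a70abd349590c2aa2d3dd6418820)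
noncomputable def sot1 : ℕ := (nat_lit 0x2a695835d34464c32acf3aee418820)
noncomputable def sot2 : ℕ := (nat_lit 0xb5de894d6da9a0c8a8b43b92418820)
noncomputable def sot3 : ℕ := (nat_lit 0x451368ae6e2c0cc92ab73b5e418820)
noncomputable def sot4 : ℕ := (nat_lit 0x85e55352764bda72b1cb5450418820)
noncomputable def sot5 : ℕ := (nat_lit 0xb42928d4d7725aa41de564d6418820)
noncomputable def sot6 : ℕ := (nat_lit 0x29ab4449cf845a449d7355aec18820)
noncomputable def sot7 : ℕ := (nat_lit 0x835ee9c977ad2ca8b1261a0a438820)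
noncomputable def sot8 : ℕ := (nat_lit 0xadaed9b8a97ca8342a0b11a2461c20)
noncomputable def sot9 : ℕ := (nat_lit 0x71a74abd7095da1888a83d9241a980)
noncomputable def sot10 : ℕ := (nat_lit 0x5c64d7d6c89a680b8dd0114c151c8c)
noncomputable def soT : Tr ℕ := (.node (nat_lit 5) (.node (nat_lit 2) (.node (nat_lit 1) (.leaf sot0) (.leaf sot1)) (.node (nat_lit 3) (.leaf sot2) (.node (nat_lit 4) (.leaf sot3) (.leaf sot4))))
 (.node (nat_lit 8) (.node (nat_lit 6) (.leaf sot5) (.node (nat_lit 7) (.leaf sot6) (.leaf sot7))) (.node (nat_lit 9) (.leaf sot8) (.node (nat_lit 10) (.leaf sot9) (.leaf sot10)))))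
noncomputable def soL0 : Lev := ⟨(nat_lit 0), (nat_lit 11), (nat_lit 0xb0005000006000007090a0a00), (nat_lit 0x1000200000200000202030200),
 (.leaf 0),
 (.leaf 0)⟩
noncomputable def soL1 : Lev := ⟨(nat_lit 1), (nat_lit 10), (nat_lit 0xa0005000006000007090a0000), (nat_lit 0x1000200000200000202030000),
 (.leaf 0),
 (.leaf 0)⟩
noncomputable def soL2 : Lev := ⟨(nat_lit 2), (nat_lit 9), (nat_lit 0x5000600000900000708000000), (nat_lit 0x2000200000100000302000000),
 (.leaf 0),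
 (.leaf 0)⟩
noncomputable def soL3 : Lev := ⟨(nat_lit 3), (nat_lit 8), (nat_lit 0x5000600000800000700000000), (nat_lit 0x2000200000100000300000000),
 (.leaf 0),
 (.leaf 0)⟩
noncomputable def soL4 : Lev := ⟨(nat_lit 4), (nat_lit 7), (nat_lit 0x7000500000600000000000000), (nat_lit 0x1000200000200000000000000),
 (.leaf 0),
 (.leaf 0)⟩
noncomputable def soL5 : Lev := ⟨(nat_lit 7), (nat_lit 6), (nat_lit 0x5000600000000000000000000), (nat_lit 0x1000100000000000000000000),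
 (.leaf 0),
 (.leaf 0)⟩
noncomputable def soL6 : Lev := ⟨(nat_lit 5), (nat_lit 4), (nat_lit 0x20304040404030404030400010003040002000000000000), (nat_lit 0x10202030302020401030300010001020002000000000000),
 (.leaf 0),
 (.leaf 0)⟩
noncomputable def soL : List Lev := [soL0, soL1, soL2, soL3, soL4, soL5, soL6]
theorem soe : smC [] [5279] [] soT = true := by decide +kernel
noncomputable def soJ : List Pr := [prSM 24 (allM [] [5279]) []]
noncomputable def soF0 : ℕ × ℕ := ((nat_lit 0xffffffffffffffffffffff00ff00ffff00ffff0000000000), (nat_lit 0))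
theorem sob0 : allR 0 24 (ptB 24 (nat_lit 5) (nat_lit 31) m0T soT soJ m0L0 [m0L1, m0L2, m0L3, m0L4, m0L5, m0L6] soL0 (dg []) soF0.1 soF0.2) = true := by decide +kernel
noncomputable def soF1 : ℕ × ℕ := ((nat_lit 0xffffffffffffffffffffff00ff00ffff00ffff0000000000), (nat_lit 0))
theorem sob1 : allR 0 24 (ptB 24 (nat_lit 5) (nat_lit 31) m0T soT soJ m0L1 [m0L2, m0L3, m0L4, m0L5, m0L6] soL1 (dg [m0L0.b]) soF1.1 soF1.2) = true := by decide +kernel
noncomputable def soF2 : ℕ × ℕ := ((nat_lit 0xffffffffffffffffffffff00ff00ffff00ffff0000000000), (nat_lit 0))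
theorem sob2 : allR 0 24 (ptB 24 (nat_lit 5) (nat_lit 31) m0T soT soJ m0L2 [m0L3, m0L4, m0L5, m0L6] soL2 (dg [m0L1.b, m0L0.b]) soF2.1 soF2.2) = true := by decide +kernel
noncomputable def soF3 : ℕ × ℕ := ((nat_lit 0xffffffffffffffffffffff00ff00ffff00ffff0000000000), (nat_lit 0))
theorem sob3 : allR 0 24 (ptB 24 (nat_lit 5) (nat_lit 31) m0T soT soJ m0L3 [m0L4, m0L5, m0L6] soL3 (dg [m0L2.b, m0L1.b, m0L0.b]) soF3.1 soF3.2) = true := by decide +kernel
noncomputable def soF4 : ℕ × ℕ := ((nat_lit 0xffffffffffffffffffffff00ff00ffff00ffff0000000000), (nat_lit 0))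
theorem sob4 : allR 0 24 (ptB 24 (nat_lit 5) (nat_lit 31) m0T soT soJ m0L4 [m0L5, m0L6] soL4 (dg [m0L3.b, m0L2.b, m0L1.b, m0L0.b]) soF4.1 soF4.2) = true := by decide +kernel
noncomputable def soF5 : ℕ × ℕ := ((nat_lit 0), (nat_lit 0))
theorem sob5 : allR 0 24 (ptB 24 (nat_lit 5) (nat_lit 31) m0T soT soJ m0L5 [m0L6] soL5 (dg [m0L4.b, m0L3.b, m0L2.b, m0L1.b, m0L0.b]) soF5.1 soF5.2) = true := by decide +kernel
noncomputable def soF6 : ℕ × ℕ := ((nat_lit 0), (nat_lit 0))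
theorem sob6 : allR 0 24 (ptB 24 (nat_lit 5) (nat_lit 31) m0T soT soJ m0L6 [] soL6 (dg [m0L5.b, m0L4.b, m0L3.b, m0L2.b, m0L1.b, m0L0.b]) soF6.1 soF6.2) = true := by decide +kernel
theorem sobk : Bk 24 (nat_lit 5) (nat_lit 31) m0T soT soJ m0L soL [soF0, soF1, soF2, soF3, soF4, soF5, soF6] [] :=
  ⟨rfl, sob0, rfl, sob1, rfl, sob2, rfl, sob3, rfl, sob4, rfl, sob5, rfl, sob6, trivial⟩
theorem sotc : tchainChk 24 (nat_lit 5) (nat_lit 31) soT soL = true := by decide +kernel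
theorem soch {C : H7.Coding GolayPt} (hC : GC C) : Ch (SM M24 C [] [5279] []) 24 5 31 C.dec soT soL :=
  (hC.chSM (hC.ch m0c) soe sotc sobk)
theorem socard {C : H7.Coding GolayPt} (hC : GC C) : Nat.card (SM M24 C [] [5279] []) = 322560 := (soch hC).card.trans (by decide +kernel)
noncomputable def m2t0 : ℕ := (nat_lit 0xb99b28523343aaa4b16f258a718820)
noncomputable def m2t1 : ℕ := (nat_lit 0xba91094e346b9e63d8955b0a918820)
noncomputable def m2t2 : ℕ := (nat_lit 0xbd6cb22627638cfa224a834b318820)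
noncomputable def m2t3 : ℕ := (nat_lit 0xbc92655a2c3b9706cea47d0a818820)
noncomputable def m2t4 : ℕ := (nat_lit 0x7113682ee87c4cd548f3ab0b418820)
noncomputable def m2t5 : ℕ := (nat_lit 0x8d0e4429d37dd8692eb04b4b618820)
noncomputable def m2t6 : ℕ := (nat_lit 0x7ae0a9c9b5bb22eb512740ca430820)
noncomputable def m2t7 : ℕ := (nat_lit 0xbd9f474942acc833c509598ad64020)
noncomputable def m2t8 : ℕ := (nat_lit 0x13ab46c8ef85a61598688a8a44dd80)
noncomputable def m2t9 : ℕ := (nat_lit 0xbac3494e20524e2b3dc8698a41b2b0)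
noncomputable def m2t10 : ℕ := (nat_lit 0xbbaa87c8109d9ac18894298e95a831)
noncomputable def m2T : Tr ℕ := (.node (nat_lit 5) (.node (nat_lit 2) (.node (nat_lit 1) (.leaf m2t0) (.leaf m2t1)) (.node (nat_lit 3) (.leaf m2t2) (.node (nat_lit 4) (.leaf m2t3) (.leaf m2t4))))
 (.node (nat_lit 8) (.node (nat_lit 6) (.leaf m2t5) (.node (nat_lit 7) (.leaf m2t6) (.leaf m2t7))) (.node (nat_lit 9) (.leaf m2t8) (.node (nat_lit 10) (.leaf m2t9) (.leaf m2t10)))))
noncomputable def m2L0 : Lev := ⟨(nat_lit 5), (nat_lit 11), (nat_lit 0x705060603050903040a0a04020605070b0300010b080a0a), (nat_lit 0x30302030303020202030203020302020103000203030303),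
 (.leaf 0),
 (.leaf 0)⟩
noncomputable def m2L1 : Lev := ⟨(nat_lit 0), (nat_lit 10), (nat_lit 0x90607020102090a09080904030405060304000308080900), (nat_lit 0x30302020203030102030302030303020203000303020300),
 (.leaf 0),
 (.leaf 0)⟩
noncomputable def m2L2 : Lev := ⟨(nat_lit 1), (nat_lit 9), (nat_lit 0x70208070406080403070609050109030402000808080000), (nat_lit 0x30303030303030202020201030203030302000302030000),
 (.leaf 0),
 (.leaf 0)⟩
noncomputable def m2L3 : Lev := ⟨(nat_lit 2), (nat_lit 8), (nat_lit 0x50607020102080804080604030405060304000308000000), (nat_lit 0x40302020203040103030302030303020203000303000000),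
 (.leaf 0),
 (.leaf 0)⟩
noncomputable def m2L4 : Lev := ⟨(nat_lit 3), (nat_lit 7), (nat_lit 0x70103040404070403070302070204030507000600000000), (nat_lit 0x40203020403030303030202030304040401000300000000),
 (.leaf 0),
 (.leaf 0)⟩
noncomputable def m2L5 : Lev := ⟨(nat_lit 14), (nat_lit 6), (nat_lit 0x50000000000060000000000000000000000000000000000), (nat_lit 0x10000000000010000000000000000000000000000000000),
 (.leaf 0),
 (.leaf 0)⟩
noncomputable def m2L6 : Lev := ⟨(nat_lit 4), (nat_lit 4), (nat_lit 0x404030303000304000404020402040104000000000000), (nat_lit 0x302030102000202000303020201010104000000000000),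
 (.leaf 0),
 (.leaf 0)⟩
noncomputable def m2L : List Lev := [m2L0, m2L1, m2L2, m2L3, m2L4, m2L5, m2L6]
theorem m2c : band (m2T.all fun c => m24Chk (ap 5 31 c)) (band (tchainChk 24 5 31 m2T m2L) (Nat.ble 244823040 (chainOrd 24 m2L))) = true := by decide +kernel
noncomputable def opt0 : ℕ := (nat_lit 0xb99b28523343aaa4b16f258a718820)
noncomputable def opt1 : ℕ := (nat_lit 0xbae957b6289ba44b1cd0524ac18820)
noncomputable def opt2 : ℕ := (nat_lit 0x7520f4cee6b450a69e4b654a418820)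
noncomputable def opt3 : ℕ := (nat_lit 0x8bcd6925d5a5d674326d540a418820)
noncomputable def opt4 : ℕ := (nat_lit 0x34a74ad9b073e23591093dcaa60820)
noncomputable def opt5 : ℕ := (nat_lit 0xba69572e117ccc290ec83b4a453020)
noncomputable def opt6 : ℕ := (nat_lit 0x33a487d62d9da01589343dca41a980)
noncomputable def opt7 : ℕ := (nat_lit 0xbc8cb9da307b920a05a81d4a23914c)
noncomputable def opT : Tr ℕ := (.node (nat_lit 4) (.node (nat_lit 2) (.node (nat_lit 1) (.leaf opt0) (.leaf opt1)) (.node (nat_lit 3) (.leaf opt2) (.leaf opt3)))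
 (.node (nat_lit 6) (.node (nat_lit 5) (.leaf opt4) (.leaf opt5)) (.node (nat_lit 7) (.leaf opt6) (.leaf opt7))))
noncomputable def opL0 : Lev := ⟨(nat_lit 5), (nat_lit 8), (nat_lit 0x0), (nat_lit 0x0),
 (.leaf 0),
 (.leaf 0)⟩
noncomputable def opL1 : Lev := ⟨(nat_lit 0), (nat_lit 8), (nat_lit 0x8000100000300000205060700), (nat_lit 0x1000200000200000202020200),
 (.leaf 0),
 (.leaf 0)⟩
noncomputable def opL2 : Lev := ⟨(nat_lit 1), (nat_lit 7), (nat_lit 0x7000100000300000205060000), (nat_lit 0x1000200000200000202020000),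
 (.leaf 0),
 (.leaf 0)⟩
noncomputable def opL3 : Lev := ⟨(nat_lit 2), (nat_lit 6), (nat_lit 0x6000100000300000205000000), (nat_lit 0x1000200000200000202000000),
 (.leaf 0),
 (.leaf 0)⟩
noncomputable def opL4 : Lev := ⟨(nat_lit 3), (nat_lit 5), (nat_lit 0x5000100000300000200000000), (nat_lit 0x1000200000200000200000000),
 (.leaf 0),
 (.leaf 0)⟩
noncomputable def opL5 : Lev := ⟨(nat_lit 14), (nat_lit 4), (nat_lit 0x30000000000040000000000000000000000000000000000), (nat_lit 0x10000000000010000000000000000000000000000000000),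
 (.leaf 0),
 (.leaf 0)⟩
noncomputable def opL6 : Lev := ⟨(nat_lit 4), (nat_lit 2), (nat_lit 0x2000200000100000000000000), (nat_lit 0x1000200000100000000000000),
 (.leaf 0),
 (.leaf 0)⟩
noncomputable def opL : List Lev := [opL0, opL1, opL2, opL3, opL4, opL5, opL6]
theorem ope : smC [5] [5279] [] opT = true := by decide +kernel
noncomputable def opJ : List Pr := [prSM 24 (allM [5] [5279]) []]
noncomputable def opF0 : ℕ × ℕ := ((nat_lit 0xffffffffffffffffffffffffffffffffffff00ffffffffff), (nat_lit 0))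
theorem opb0 : allR 0 24 (ptB 24 (nat_lit 5) (nat_lit 31) m2T opT opJ m2L0 [m2L1, m2L2, m2L3, m2L4, m2L5, m2L6] opL0 (dg []) opF0.1 opF0.2) = true := by decide +kernel
noncomputable def opF1 : ℕ × ℕ := ((nat_lit 0xffffffffffffffffffffff00ff00ffff00ff000000000000), (nat_lit 0))
theorem opb1 : allR 0 24 (ptB 24 (nat_lit 5) (nat_lit 31) m2T opT opJ m2L1 [m2L2, m2L3, m2L4, m2L5, m2L6] opL1 (dg [m2L0.b]) opF1.1 opF1.2) = true := by decide +kernel
noncomputable def opF2 : ℕ × ℕ := ((nat_lit 0xffffffffffffffffffffff00ff00ffff00ff000000000000), (nat_lit 0))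
theorem opb2 : allR 0 24 (ptB 24 (nat_lit 5) (nat_lit 31) m2T opT opJ m2L2 [m2L3, m2L4, m2L5, m2L6] opL2 (dg [m2L1.b, m2L0.b]) opF2.1 opF2.2) = true := by decide +kernel
noncomputable def opF3 : ℕ × ℕ := ((nat_lit 0xffffffffffffffffffffff00ff00ffff00ff000000000000), (nat_lit 0))
theorem opb3 : allR 0 24 (ptB 24 (nat_lit 5) (nat_lit 31) m2T opT opJ m2L3 [m2L4, m2L5, m2L6] opL3 (dg [m2L2.b, m2L1.b, m2L0.b]) opF3.1 opF3.2) = true := by decide +kernel
noncomputable def opF4 : ℕ × ℕ := ((nat_lit 0xffffffffffffffffffffff00ff00ffff00ff000000000000), (nat_lit 0))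
theorem opb4 : allR 0 24 (ptB 24 (nat_lit 5) (nat_lit 31) m2T opT opJ m2L4 [m2L5, m2L6] opL4 (dg [m2L3.b, m2L2.b, m2L1.b, m2L0.b]) opF4.1 opF4.2) = true := by decide +kernel
noncomputable def opF5 : ℕ × ℕ := ((nat_lit 0), (nat_lit 0))
theorem opb5 : allR 0 24 (ptB 24 (nat_lit 5) (nat_lit 31) m2T opT opJ m2L5 [m2L6] opL5 (dg [m2L4.b, m2L3.b, m2L2.b, m2L1.b, m2L0.b]) opF5.1 opF5.2) = true := by decide +kernel
noncomputable def opF6 : ℕ × ℕ := ((nat_lit 0xffffffffff00ffff00ff00ff00ffff00ff000000000000), (nat_lit 0))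
theorem opb6 : allR 0 24 (ptB 24 (nat_lit 5) (nat_lit 31) m2T opT opJ m2L6 [] opL6 (dg [m2L5.b, m2L4.b, m2L3.b, m2L2.b, m2L1.b, m2L0.b]) opF6.1 opF6.2) = true := by decide +kernel
theorem opbk : Bk 24 (nat_lit 5) (nat_lit 31) m2T opT opJ m2L opL [opF0, opF1, opF2, opF3, opF4, opF5, opF6] [] :=
  ⟨rfl, opb0, rfl, opb1, rfl, opb2, rfl, opb3, rfl, opb4, rfl, opb5, rfl, opb6, trivial⟩
theorem optc : tchainChk 24 (nat_lit 5) (nat_lit 31) opT opL = true := by decide +kernel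
theorem opch {C : H7.Coding GolayPt} (hC : GC C) : Ch (SM M24 C [5] [5279] []) 24 5 31 C.dec opT opL :=
  (hC.chSM (hC.ch m2c) ope optc opbk)
theorem opcard {C : H7.Coding GolayPt} (hC : GC C) : Nat.card (SM M24 C [5] [5279] []) = 20160 := (opch hC).card.trans (by decide +kernel)
noncomputable def opiI : Tr (List ℕ) := (.node (nat_lit 6) (.node (nat_lit 3) (.node (nat_lit 1) (.leaf [nat_lit 3]) (.node (nat_lit 2) (.leaf [nat_lit 2]) (.leaf [nat_lit 2, nat_lit 1, nat_lit 0]))) (.node (nat_lit 4) (.leaf [nat_lit 3, nat_lit 0]) (.node (nat_lit 5) (.leaf [nat_lit 1, nat_lit 4, nat_lit 2]) (.leaf [nat_lit 3, nat_lit 4, nat_lit 1]))))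
 (.node (nat_lit 9) (.node (nat_lit 7) (.leaf [nat_lit 4, nat_lit 5, nat_lit 3, nat_lit 1, nat_lit 0]) (.node (nat_lit 8) (.leaf [nat_lit 1, nat_lit 5, nat_lit 4, nat_lit 2]) (.leaf [nat_lit 5, nat_lit 6, nat_lit 4, nat_lit 2, nat_lit 1]))) (.node (nat_lit 10) (.leaf [nat_lit 4, nat_lit 6, nat_lit 5, nat_lit 3, nat_lit 1, nat_lit 0]) (.node (nat_lit 11) (.leaf [nat_lit 6, nat_lit 7, nat_lit 5, nat_lit 3, nat_lit 4]) (.leaf [nat_lit 5, nat_lit 7, nat_lit 6, nat_lit 4, nat_lit 2])))))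
theorem opih : Alt.a8R.all (fun w => eqB (opL.map Lev.b) (apF (fun y => apL (nat_lit 5) (nat_lit 31) opT (opiI.get y)) w) fun a => a) = true := by decide +kernel
noncomputable def opiD : Tr (List ℕ) := (.node (nat_lit 4) (.node (nat_lit 2) (.node (nat_lit 1) (.leaf [nat_lit 2, nat_lit 0]) (.leaf [nat_lit 0, nat_lit 3, nat_lit 0])) (.node (nat_lit 3) (.leaf [nat_lit 1]) (.leaf [nat_lit 0])))
 (.node (nat_lit 6) (.node (nat_lit 5) (.leaf [nat_lit 1, nat_lit 5, nat_lit 0, nat_lit 3, nat_lit 0]) (.leaf [nat_lit 0, nat_lit 3, nat_lit 7, nat_lit 0, nat_lit 5, nat_lit 0, nat_lit 3, nat_lit 0])) (.node (nat_lit 7) (.leaf [nat_lit 1, nat_lit 5, nat_lit 9, nat_lit 0, nat_lit 3, nat_lit 7, nat_lit 5, nat_lit 0, nat_lit 3, nat_lit 0]) (.leaf [nat_lit 0, nat_lit 3, nat_lit 7, nat_lit 11, nat_lit 0, nat_lit 5, nat_lit 9, nat_lit 0, nat_lit 3, nat_lit 7, nat_lit 0, nat_lit 5, nat_lit 0, nat_lit 3, nat_lit 0]))))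
theorem opis : band (surChk (nat_lit 5) (nat_lit 31) (opL.map Lev.b) opT opiI (topN Alt.a8L) opiD (topN opL)) (Nat.ble (chainOrd 8 Alt.a8L) (chainOrd 24 opL)) = true := by decide +kernel
theorem opi {C : H7.Coding GolayPt} (hC : GC C)  : Nonempty (alternatingGroup (Fin 8) ≃* (SM M24 C [5] [5279] [])) :=
  (Alt.a8std.isoW (opch hC) opih opis)
noncomputable def owt0 : ℕ := (nat_lit 0x8bcd6925d5a5d674326d540a418820)
noncomputable def owt1 : ℕ := (nat_lit 0x7520f4cee6b450a69e4b654a418820)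
noncomputable def owt2 : ℕ := (nat_lit 0xbae957b6289ba44b1cd0524ac18820)
noncomputable def owt3 : ℕ := (nat_lit 0x4426eac9367d0c25aa37234a71b020)
noncomputable def owt4 : ℕ := (nat_lit 0x5c5a894ecf83aa3ba934398a261020)
noncomputable def owt5 : ℕ := (nat_lit 0x5c22974ab66cde1b9288398aa18980)
noncomputable def owt6 : ℕ := (nat_lit 0x83aa69c6574d9005a9ed3d0a410c2c)
noncomputable def owt7 : ℕ := (nat_lit 0x835662a5f78a2ccaaa4e3d26418820)
noncomputable def owT : Tr ℕ := (.node (nat_lit 4) (.node (nat_lit 2) (.node (nat_lit 1) (.leaf owt0) (.leaf owt1)) (.node (nat_lit 3) (.leaf owt2) (.leaf owt3)))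
 (.node (nat_lit 6) (.node (nat_lit 5) (.leaf owt4) (.leaf owt5)) (.node (nat_lit 7) (.leaf owt6) (.leaf owt7))))
noncomputable def owL0 : Lev := ⟨(nat_lit 5), (nat_lit 8), (nat_lit 0x20104060802040503060300080001080003000000000000), (nat_lit 0x30302030102030302020300030002030003000000000000),
 (.leaf 0),
 (.leaf 0)⟩
noncomputable def owL1 : Lev := ⟨(nat_lit 0), (nat_lit 7), (nat_lit 0x7000100000200000305040600), (nat_lit 0x1000200000200000202020200),
 (.leaf 0),
 (.leaf 0)⟩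
noncomputable def owL2 : Lev := ⟨(nat_lit 1), (nat_lit 6), (nat_lit 0x6000100000200000305040000), (nat_lit 0x1000200000200000202020000),
 (.leaf 0),
 (.leaf 0)⟩
noncomputable def owL3 : Lev := ⟨(nat_lit 3), (nat_lit 5), (nat_lit 0x5000100000200000300040000), (nat_lit 0x1000200000200000200020000),
 (.leaf 0),
 (.leaf 0)⟩
noncomputable def owL4 : Lev := ⟨(nat_lit 2), (nat_lit 4), (nat_lit 0x4000100000200000300000000), (nat_lit 0x1000200000200000200000000),
 (.leaf 0),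
 (.leaf 0)⟩
noncomputable def owL5 : Lev := ⟨(nat_lit 4), (nat_lit 3), (nat_lit 0x3000100000200000000000000), (nat_lit 0x1000200000200000000000000),
 (.leaf 0),
 (.leaf 0)⟩
noncomputable def owL6 : Lev := ⟨(nat_lit 6), (nat_lit 2), (nat_lit 0x1000000000200000000000000000000000000000000), (nat_lit 0x1000000000100000000000000000000000000000000),
 (.leaf 0),
 (.leaf 0)⟩
noncomputable def owL : List Lev := [owL0, owL1, owL2, owL3, owL4, owL5, owL6]
theorem owe : smC [] [5279, 16771936] [] owT = true := by decide +kernel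
theorem owp : band (tchainChk 24 5 31 owT owL) (band (allL [(16771936, 5)] fun D => memL [5279, 16771936] D.1) (mvChk 24 [(16771936, 5)] owL [])) = true := by decide +kernel
noncomputable def m3t0 : ℕ := (nat_lit 0xbd8039b4895b24e7aa08398b1a0455)
noncomputable def m3t1 : ℕ := (nat_lit 0xbda429d61173c0b62888398a90d06d)
noncomputable def m3t2 : ℕ := (nat_lit 0xbd9e99b823ac98d02a88398a28122b)
noncomputable def m3t3 : ℕ := (nat_lit 0xbda2c9c2b208d34129a8398a072de4)
noncomputable def m3t4 : ℕ := (nat_lit 0xbda4432c291422caa9c899ca078db4)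
noncomputable def m3t5 : ℕ := (nat_lit 0xbd9603d5ae1a42c92a0834cb413e24)
noncomputable def m3t6 : ℕ := (nat_lit 0xbdab471a117cd6368928248a762801)
noncomputable def m3t7 : ℕ := (nat_lit 0x85a74a9d57235cc5c428918af00923)
noncomputable def m3t8 : ℕ := (nat_lit 0xbc2540d636635cf008e8498a41aa6b)
noncomputable def m3t9 : ℕ := (nat_lit 0xa9af47ba299c9ac4020b3d8a11888a)
noncomputable def m3t10 : ℕ := (nat_lit 0x5a9272206e0418dbdab2a0453894cf)
noncomputable def m3T : Tr ℕ := (.node (nat_lit 5) (.node (nat_lit 2) (.node (nat_lit 1) (.leaf m3t0) (.leaf m3t1)) (.node (nat_lit 3) (.leaf m3t2) (.node (nat_lit 4) (.leaf m3t3) (.leaf m3t4))))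
 (.node (nat_lit 8) (.node (nat_lit 6) (.leaf m3t5) (.node (nat_lit 7) (.leaf m3t6) (.leaf m3t7))) (.node (nat_lit 9) (.leaf m3t8) (.node (nat_lit 10) (.leaf m3t9) (.leaf m3t10)))))
noncomputable def m3L0 : Lev := ⟨(nat_lit 5), (nat_lit 11), (nat_lit 0xb0b060209050303050206040407080a0b0b0003060b0107), (nat_lit 0x30303020303030302030303020203030303000202010203),
 (.leaf 0),
 (.leaf 0)⟩
noncomputable def m3L1 : Lev := ⟨(nat_lit 8), (nat_lit 10), (nat_lit 0xa0906040a050404010207020a0a04000807000805040403), (nat_lit 0x30402030302030302030202010303000303000303020302),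
 (.leaf 0),
 (.leaf 0)⟩
noncomputable def m3L2 : Lev := ⟨(nat_lit 22), (nat_lit 9), (nat_lit 0x80004030704020906050407060801000907000203050808), (nat_lit 0x20003030302020103020303030302000303000302030303),
 (.leaf 0),
 (.leaf 0)⟩
noncomputable def m3L3 : Lev := ⟨(nat_lit 23), (nat_lit 8), (nat_lit 0x4030704020806050407060801000807000203050808), (nat_lit 0x3030302020103020303030302000303000302030303),
 (.leaf 0),
 (.leaf 0)⟩
noncomputable def m3L4 : Lev := ⟨(nat_lit 10), (nat_lit 7), (nat_lit 0x6020605030305020604040003000705000306070107), (nat_lit 0x3020403030302030303020003000304000202010203),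
 (.leaf 0),
 (.leaf 0)⟩
noncomputable def m3L5 : Lev := ⟨(nat_lit 6), (nat_lit 6), (nat_lit 0x500000000000000000000000600000000000000), (nat_lit 0x100000000000000000000000100000000000000),
 (.leaf 0),
 (.leaf 0)⟩
noncomputable def m3L6 : Lev := ⟨(nat_lit 0), (nat_lit 4), (nat_lit 0x1040002040403030203030004000000000404040400), (nat_lit 0x1030002020302030102010002000000000104020300),
 (.leaf 0),
 (.leaf 0)⟩
noncomputable def m3L : List Lev := [m3L0, m3L1, m3L2, m3L3, m3L4, m3L5, m3L6]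
theorem m3c : band (m3T.all fun c => m24Chk (ap 5 31 c)) (band (tchainChk 24 5 31 m3T m3L) (Nat.ble 244823040 (chainOrd 24 m3L))) = true := by decide +kernel
noncomputable def oo0t0 : ℕ := (nat_lit 0xbdab46c0d27ae6770528644a320142)
noncomputable def oo0t1 : ℕ := (nat_lit 0xbdab4835d37c64230d2802ca153087)
noncomputable def oo0t2 : ℕ := (nat_lit 0xbdab45c6467b5c4981281c0ac3844a)
noncomputable def oo0t3 : ℕ := (nat_lit 0x4daaf74646a4d676aae8640a320820)
noncomputable def oo0t4 : ℕ := (nat_lit 0xa5ab769a114ae64729e81c8ac38820)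
noncomputable def oo0t5 : ℕ := (nat_lit 0xb5df49c96daba0389d28518a261001)
noncomputable def oo0t6 : ℕ := (nat_lit 0xbd9e894e2daba0258534018a323147)
noncomputable def oo0t7 : ℕ := (nat_lit 0x451368ae6e2c0cc92ab73b5e418820)
noncomputable def oo0T : Tr ℕ := (.node (nat_lit 4) (.node (nat_lit 2) (.node (nat_lit 1) (.leaf oo0t0) (.leaf oo0t1)) (.node (nat_lit 3) (.leaf oo0t2) (.leaf oo0t3)))
 (.node (nat_lit 6) (.node (nat_lit 5) (.leaf oo0t4) (.leaf oo0t5)) (.node (nat_lit 7) (.leaf oo0t6) (.leaf oo0t7))))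
noncomputable def oo0L0 : Lev := ⟨(nat_lit 5), (nat_lit 8), (nat_lit 0x50806040000000008000000000005070000000000000000), (nat_lit 0x30302020000000001000000000002030000000000000000),
 (.leaf 0),
 (.leaf 0)⟩
noncomputable def oo0L1 : Lev := ⟨(nat_lit 8), (nat_lit 7), (nat_lit 0x50606070000000004000000000005000000000000000000), (nat_lit 0x20303010000000002000000000003000000000000000000),
 (.leaf 0),
 (.leaf 0)⟩
noncomputable def oo0L2 : Lev := ⟨(nat_lit 22), (nat_lit 6), (nat_lit 0x60006050000000005000000000004000000000000000000), (nat_lit 0x10004020000000003000000000002000000000000000000),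
 (.leaf 0),
 (.leaf 0)⟩
noncomputable def oo0L3 : Lev := ⟨(nat_lit 23), (nat_lit 5), (nat_lit 0x50000000005000000000004000000000000000000), (nat_lit 0x10000000002000000000001000000000000000000),
 (.leaf 0),
 (.leaf 0)⟩
noncomputable def oo0L4 : Lev := ⟨(nat_lit 10), (nat_lit 3), (nat_lit 0x3000000000300000202030103), (nat_lit 0x3000000000200000201020101),
 (.leaf 0),
 (.leaf 0)⟩
noncomputable def oo0L5 : Lev := ⟨(nat_lit 6), (nat_lit 0), (nat_lit 0x0), (nat_lit 0x0),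
 (.leaf 0),
 (.leaf 0)⟩
noncomputable def oo0L6 : Lev := ⟨(nat_lit 0), (nat_lit 0), (nat_lit 0x0), (nat_lit 0x0),
 (.leaf 0),
 (.leaf 0)⟩
noncomputable def oo0L : List Lev := [oo0L0, oo0L1, oo0L2, oo0L3, oo0L4, oo0L5, oo0L6]
theorem oo0e : smC [] [5279, 1009728] [] oo0T = true := by decide +kernel
noncomputable def oo0J : List Pr := [prSM 24 (allM [] [5279, 1009728]) []]
noncomputable def oo0F0 : ℕ × ℕ := ((nat_lit 0xffffffff00ffffffffff0000ffff00ffffffffff), (nat_lit 0))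
theorem oo0b0 : allR 0 24 (ptB 24 (nat_lit 5) (nat_lit 31) m3T oo0T oo0J m3L0 [m3L1, m3L2, m3L3, m3L4, m3L5, m3L6] oo0L0 (dg []) oo0F0.1 oo0F0.2) = true := by decide +kernel
noncomputable def oo0F1 : ℕ × ℕ := ((nat_lit 0xffffffff00ffffffffff0000ffff00ffffffffff), (nat_lit 0))
theorem oo0b1 : allR 0 24 (ptB 24 (nat_lit 5) (nat_lit 31) m3T oo0T oo0J m3L1 [m3L2, m3L3, m3L4, m3L5, m3L6] oo0L1 (dg [m3L0.b]) oo0F1.1 oo0F1.2) = true := by decide +kernel
noncomputable def oo0F2 : ℕ × ℕ := ((nat_lit 0xffffffff00ffffffffff0000ffff00ffffffffff), (nat_lit 0))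
theorem oo0b2 : allR 0 24 (ptB 24 (nat_lit 5) (nat_lit 31) m3T oo0T oo0J m3L2 [m3L3, m3L4, m3L5, m3L6] oo0L2 (dg [m3L1.b, m3L0.b]) oo0F2.1 oo0F2.2) = true := by decide +kernel
noncomputable def oo0F3 : ℕ × ℕ := ((nat_lit 0xff00ffffffff00ffffffffff0000ffff00ffffffffff), (nat_lit 0))
theorem oo0b3 : allR 0 24 (ptB 24 (nat_lit 5) (nat_lit 31) m3T oo0T oo0J m3L3 [m3L4, m3L5, m3L6] oo0L3 (dg [m3L2.b, m3L1.b, m3L0.b]) oo0F3.1 oo0F3.2) = true := by decide +kernel
noncomputable def oo0F4 : ℕ × ℕ := ((nat_lit 0xffffffffffffffffff00ff00ff0000ff000000000000), (nat_lit 0))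
theorem oo0b4 : allR 0 24 (ptB 24 (nat_lit 5) (nat_lit 31) m3T oo0T oo0J m3L4 [m3L5, m3L6] oo0L4 (dg [m3L3.b, m3L2.b, m3L1.b, m3L0.b]) oo0F4.1 oo0F4.2) = true := by decide +kernel
noncomputable def oo0F5 : ℕ × ℕ := ((nat_lit 0xff0000000000000000000000ff00000000000000), (nat_lit 0))
theorem oo0b5 : allR 0 24 (ptB 24 (nat_lit 5) (nat_lit 31) m3T oo0T oo0J m3L5 [m3L6] oo0L5 (dg [m3L4.b, m3L3.b, m3L2.b, m3L1.b, m3L0.b]) oo0F5.1 oo0F5.2) = true := by decide +kernel
noncomputable def oo0F6 : ℕ × ℕ := ((nat_lit 0xffff00ffffffffffffffff00ff00000000ffffffff00), (nat_lit 0))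
theorem oo0b6 : allR 0 24 (ptB 24 (nat_lit 5) (nat_lit 31) m3T oo0T oo0J m3L6 [] oo0L6 (dg [m3L5.b, m3L4.b, m3L3.b, m3L2.b, m3L1.b, m3L0.b]) oo0F6.1 oo0F6.2) = true := by decide +kernel
theorem oo0bk : Bk 24 (nat_lit 5) (nat_lit 31) m3T oo0T oo0J m3L oo0L [oo0F0, oo0F1, oo0F2, oo0F3, oo0F4, oo0F5, oo0F6] [] :=
  ⟨rfl, oo0b0, rfl, oo0b1, rfl, oo0b2, rfl, oo0b3, rfl, oo0b4, rfl, oo0b5, rfl, oo0b6, trivial⟩
theorem oo0tc : tchainChk 24 (nat_lit 5) (nat_lit 31) oo0T oo0L = true := by decide +kernel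
theorem oo0ch {C : H7.Coding GolayPt} (hC : GC C) : Ch (SM M24 C [] [5279, 1009728] []) 24 5 31 C.dec oo0T oo0L :=
  (hC.chSM (hC.ch m3c) oo0e oo0tc oo0bk)
theorem oo0card {C : H7.Coding GolayPt} (hC : GC C) : Nat.card (SM M24 C [] [5279, 1009728] []) = 10752 := (oo0ch hC).card.trans (by decide +kernel)
noncomputable def m4t0 : ℕ := (nat_lit 0x835662a5f78a2ccaaa4e3d26418820)
noncomputable def m4t1 : ℕ := (nat_lit 0x8adb2452ef816acb28d33a5c418820)
noncomputable def m4t2 : ℕ := (nat_lit 0x451368ae6e2c0cc92ab73b5e418820)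
noncomputable def m4t3 : ℕ := (nat_lit 0x6c22e496b65d2ec7aa663a24418820)
noncomputable def m4t4 : ℕ := (nat_lit 0xb46864baf29c10c5a9e53d5a311020)
noncomputable def m4t5 : ℕ := (nat_lit 0x8dcd57c2ce4c8ac5aa6d3d10220c20)
noncomputable def m4t6 : ℕ := (nat_lit 0x488262464f80dac5aae83d0b375aa0)
noncomputable def m4t7 : ℕ := (nat_lit 0x159f11ca90aa0293298e3aca49dda0)
noncomputable def m4t8 : ℕ := (nat_lit 0x92cb145e907b5cab313339aa408860)
noncomputable def m4t9 : ℕ := (nat_lit 0xbb854249902d9b15a8e64a1f30d460)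
noncomputable def m4t10 : ℕ := (nat_lit 0xbb10e98570351568b4153bca418a49)
noncomputable def m4T : Tr ℕ := (.node (nat_lit 5) (.node (nat_lit 2) (.node (nat_lit 1) (.leaf m4t0) (.leaf m4t1)) (.node (nat_lit 3) (.leaf m4t2) (.node (nat_lit 4) (.leaf m4t3) (.leaf m4t4))))
 (.node (nat_lit 8) (.node (nat_lit 6) (.leaf m4t5) (.node (nat_lit 7) (.leaf m4t6) (.leaf m4t7))) (.node (nat_lit 9) (.leaf m4t8) (.node (nat_lit 10) (.leaf m4t9) (.leaf m4t10)))))
noncomputable def m4L0 : Lev := ⟨(nat_lit 0), (nat_lit 11), (nat_lit 0x7060302040107050606030803090b040a020407080a0b00), (nat_lit 0x20302030202030302030302030301030202030303030300),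
 (.leaf 0),
 (.leaf 0)⟩
noncomputable def m4L1 : Lev := ⟨(nat_lit 7), (nat_lit 10), (nat_lit 0x7060302040107050606030803090a0400020407080a0700), (nat_lit 0x20302030202030302030302030301030002030303030300),
 (.leaf 0),
 (.leaf 0)⟩
noncomputable def m4L2 : Lev := ⟨(nat_lit 10), (nat_lit 9), (nat_lit 0x70603020401070506060309030008040002040708080700), (nat_lit 0x30403040303040403040401040002040003040404040400),
 (.leaf 0),
 (.leaf 0)⟩
noncomputable def m4L3 : Lev := ⟨(nat_lit 12), (nat_lit 8), (nat_lit 0x70603020401070506060300030008040002040708080700), (nat_lit 0x20302030202030302030300030001030002030303030300),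
 (.leaf 0),
 (.leaf 0)⟩
noncomputable def m4L4 : Lev := ⟨(nat_lit 1), (nat_lit 7), (nat_lit 0x40207060403040404040200010003060005050707070000), (nat_lit 0x30301020303020403030200020002030002030404040000),
 (.leaf 0),
 (.leaf 0)⟩
noncomputable def m4L5 : Lev := ⟨(nat_lit 2), (nat_lit 6), (nat_lit 0x605000000), (nat_lit 0x101000000),
 (.leaf 0),
 (.leaf 0)⟩
noncomputable def m4L6 : Lev := ⟨(nat_lit 5), (nat_lit 4), (nat_lit 0x30404040104030303020400040004020004000000000000), (nat_lit 0x30303020101020201010400020002020003000000000000),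
 (.leaf 0),
 (.leaf 0)⟩
noncomputable def m4L : List Lev := [m4L0, m4L1, m4L2, m4L3, m4L4, m4L5, m4L6]
theorem m4c : band (m4T.all fun c => m24Chk (ap 5 31 c)) (band (tchainChk 24 5 31 m4T m4L) (Nat.ble 244823040 (chainOrd 24 m4L))) = true := by decide +kernel
noncomputable def oo4t0 : ℕ := (nat_lit 0x94dd1b5e89354ac42a0b3bda418820)
noncomputable def oo4t1 : ℕ := (nat_lit 0x7d6c971a11bcd6c6aa853c90418820)
noncomputable def oo4t2 : ℕ := (nat_lit 0x8dcd57c2ce4c8ac5aa6d3d10220c20)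
noncomputable def oo4t3 : ℕ := (nat_lit 0xb46864baf29c10c5a9e53d5a311020)
noncomputable def oo4t4 : ℕ := (nat_lit 0x356d473e3094cac4292b3dda110c80)
noncomputable def oo4t5 : ℕ := (nat_lit 0xbd136819d37c56a6b2a83c8a410c20)
noncomputable def oo4t6 : ℕ := (nat_lit 0x748c97da309dd6c69e88554a408860)
noncomputable def oo4t7 : ℕ := (nat_lit 0xbdab19ca897b8a74020b619a110c8a)
noncomputable def oo4T : Tr ℕ := (.node (nat_lit 4) (.node (nat_lit 2) (.node (nat_lit 1) (.leaf oo4t0) (.leaf oo4t1)) (.node (nat_lit 3) (.leaf oo4t2) (.leaf oo4t3)))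
 (.node (nat_lit 6) (.node (nat_lit 5) (.leaf oo4t4) (.leaf oo4t5)) (.node (nat_lit 7) (.leaf oo4t6) (.leaf oo4t7))))
noncomputable def oo4L0 : Lev := ⟨(nat_lit 0), (nat_lit 8), (nat_lit 0x6000800000700000000000000), (nat_lit 0x2000100000200000000000000),
 (.leaf 0),
 (.leaf 0)⟩
noncomputable def oo4L1 : Lev := ⟨(nat_lit 7), (nat_lit 7), (nat_lit 0x6000700000000000000000000), (nat_lit 0x2000100000000000000000000),
 (.leaf 0),
 (.leaf 0)⟩
noncomputable def oo4L2 : Lev := ⟨(nat_lit 10), (nat_lit 6), (nat_lit 0x6000000000000000000000000), (nat_lit 0x1000000000000000000000000),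
 (.leaf 0),
 (.leaf 0)⟩
noncomputable def oo4L3 : Lev := ⟨(nat_lit 12), (nat_lit 5), (nat_lit 0x0), (nat_lit 0x0),
 (.leaf 0),
 (.leaf 0)⟩
noncomputable def oo4L4 : Lev := ⟨(nat_lit 1), (nat_lit 5), (nat_lit 0x503040000), (nat_lit 0x102020000),
 (.leaf 0),
 (.leaf 0)⟩
noncomputable def oo4L5 : Lev := ⟨(nat_lit 2), (nat_lit 4), (nat_lit 0x304000000), (nat_lit 0x101000000),
 (.leaf 0),
 (.leaf 0)⟩
noncomputable def oo4L6 : Lev := ⟨(nat_lit 5), (nat_lit 2), (nat_lit 0x100020000020000000000000000), (nat_lit 0x100020000010000000000000000),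
 (.leaf 0),
 (.leaf 0)⟩
noncomputable def oo4L : List Lev := [oo4L0, oo4L1, oo4L2, oo4L3, oo4L4, oo4L5, oo4L6]
theorem oo4e : smC [] [5279, 10558] [] oo4T = true := by decide +kernel
noncomputable def oo4J : List Pr := [prSM 24 (allM [] [5279, 10558]) []]
noncomputable def oo4F0 : ℕ × ℕ := ((nat_lit 0xffffffffffffffffffffff00ff00ffff00ffffffffffff00), (nat_lit 0))
theorem oo4b0 : allR 0 24 (ptB 24 (nat_lit 5) (nat_lit 31) m4T oo4T oo4J m4L0 [m4L1, m4L2, m4L3, m4L4, m4L5, m4L6] oo4L0 (dg []) oo4F0.1 oo4F0.2) = true := by decide +kernel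
noncomputable def oo4F1 : ℕ × ℕ := ((nat_lit 0xffffffffffffffffffffff00ff00ffff00ffffffffffff00), (nat_lit 0))
theorem oo4b1 : allR 0 24 (ptB 24 (nat_lit 5) (nat_lit 31) m4T oo4T oo4J m4L1 [m4L2, m4L3, m4L4, m4L5, m4L6] oo4L1 (dg [m4L0.b]) oo4F1.1 oo4F1.2) = true := by decide +kernel
noncomputable def oo4F2 : ℕ × ℕ := ((nat_lit 0xffffffffffffffffffffff00ff00ffff00ffffffffffff00), (nat_lit 0))
theorem oo4b2 : allR 0 24 (ptB 24 (nat_lit 5) (nat_lit 31) m4T oo4T oo4J m4L2 [m4L3, m4L4, m4L5, m4L6] oo4L2 (dg [m4L1.b, m4L0.b]) oo4F2.1 oo4F2.2) = true := by decide +kernel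
noncomputable def oo4F3 : ℕ × ℕ := ((nat_lit 0xffffffffffffffffffffff00ff00ffff00ffffffffffff00), (nat_lit 0))
theorem oo4b3 : allR 0 24 (ptB 24 (nat_lit 5) (nat_lit 31) m4T oo4T oo4J m4L3 [m4L4, m4L5, m4L6] oo4L3 (dg [m4L2.b, m4L1.b, m4L0.b]) oo4F3.1 oo4F3.2) = true := by decide +kernel
noncomputable def oo4F4 : ℕ × ℕ := ((nat_lit 0xffffffffffffffffffffff00ff00ffff00ffff0000000000), (nat_lit 0))
theorem oo4b4 : allR 0 24 (ptB 24 (nat_lit 5) (nat_lit 31) m4T oo4T oo4J m4L4 [m4L5, m4L6] oo4L4 (dg [m4L3.b, m4L2.b, m4L1.b, m4L0.b]) oo4F4.1 oo4F4.2) = true := by decide +kernel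
noncomputable def oo4F5 : ℕ × ℕ := ((nat_lit 0), (nat_lit 0))
theorem oo4b5 : allR 0 24 (ptB 24 (nat_lit 5) (nat_lit 31) m4T oo4T oo4J m4L5 [m4L6] oo4L5 (dg [m4L4.b, m4L3.b, m4L2.b, m4L1.b, m4L0.b]) oo4F5.1 oo4F5.2) = true := by decide +kernel
noncomputable def oo4F6 : ℕ × ℕ := ((nat_lit 0xffffffffffffffffffff00000000ff0000ff000000000000), (nat_lit 0))
theorem oo4b6 : allR 0 24 (ptB 24 (nat_lit 5) (nat_lit 31) m4T oo4T oo4J m4L6 [] oo4L6 (dg [m4L5.b, m4L4.b, m4L3.b, m4L2.b, m4L1.b, m4L0.b]) oo4F6.1 oo4F6.2) = true := by decide +kernel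
theorem oo4bk : Bk 24 (nat_lit 5) (nat_lit 31) m4T oo4T oo4J m4L oo4L [oo4F0, oo4F1, oo4F2, oo4F3, oo4F4, oo4F5, oo4F6] [] :=
  ⟨rfl, oo4b0, rfl, oo4b1, rfl, oo4b2, rfl, oo4b3, rfl, oo4b4, rfl, oo4b5, rfl, oo4b6, trivial⟩
theorem oo4tc : tchainChk 24 (nat_lit 5) (nat_lit 31) oo4T oo4L = true := by decide +kernel
theorem oo4ch {C : H7.Coding GolayPt} (hC : GC C) : Ch (SM M24 C [] [5279, 10558] []) 24 5 31 C.dec oo4T oo4L :=
  (hC.chSM (hC.ch m4c) oo4e oo4tc oo4bk)
theorem oo4card {C : H7.Coding GolayPt} (hC : GC C) : Nat.card (SM M24 C [] [5279, 10558] []) = 1152 := (oo4ch hC).card.trans (by decide +kernel)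
noncomputable def m5t0 : ℕ := (nat_lit 0xad9f38c285bb50c49cce22e4a18820)
noncomputable def m5t1 : ℕ := (nat_lit 0x7daf1a1672aa1cc3116d5260718820)
noncomputable def m5t2 : ℕ := (nat_lit 0xabee5339abb4a2c829093ce8418820)
noncomputable def m5t3 : ℕ := (nat_lit 0x4950f6c0d2a2e6c72af53c6c418820)
noncomputable def m5t4 : ℕ := (nat_lit 0xb98856c9e78aa6c5b86885a9548820)
noncomputable def m5t5 : ℕ := (nat_lit 0x2c6a298eca399ac4c1687bae495020)
noncomputable def m5t6 : ℕ := (nat_lit 0x24cd9ac6a23a8c942c83d4af88837)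
noncomputable def m5t7 : ℕ := (nat_lit 0x6dab4531707a2f28ccee4986028824)
noncomputable def m5t8 : ℕ := (nat_lit 0xaa2e4838135c9427b4d61a4343b0b1)
noncomputable def m5T : Tr ℕ := (.node (nat_lit 4) (.node (nat_lit 2) (.node (nat_lit 1) (.leaf m5t0) (.leaf m5t1)) (.node (nat_lit 3) (.leaf m5t2) (.leaf m5t3)))
 (.node (nat_lit 6) (.node (nat_lit 5) (.leaf m5t4) (.leaf m5t5)) (.node (nat_lit 7) (.leaf m5t6) (.node (nat_lit 8) (.leaf m5t7) (.leaf m5t8)))))
noncomputable def m5L0 : Lev := ⟨(nat_lit 1), (nat_lit 9), (nat_lit 0x60402030902010104030708030607090505090908060007), (nat_lit 0x20203020302030203030303030303030303010302030003),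
 (.leaf 0),
 (.leaf 0)⟩
noncomputable def m5L1 : Lev := ⟨(nat_lit 12), (nat_lit 8), (nat_lit 0x60402030208070204030200070605010506010206060007), (nat_lit 0x30304030401030204020300020303030303020402040004),
 (.leaf 0),
 (.leaf 0)⟩
noncomputable def m5L2 : Lev := ⟨(nat_lit 0), (nat_lit 7), (nat_lit 0x70302040202050101020700010104040607060705060000), (nat_lit 0x10302030403030302040400030402030303020303040000),
 (.leaf 0),
 (.leaf 0)⟩
noncomputable def m5L3 : Lev := ⟨(nat_lit 2), (nat_lit 6), (nat_lit 0x60601060202010104010300020601020604030506000000), (nat_lit 0x30303010203020302040300040404040303020404000000),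
 (.leaf 0),
 (.leaf 0)⟩
noncomputable def m5L4 : Lev := ⟨(nat_lit 3), (nat_lit 5), (nat_lit 0x40504010301040301040100010505030502020500000000), (nat_lit 0x20303040304030303030300020401020402040400000000),
 (.leaf 0),
 (.leaf 0)⟩
noncomputable def m5L5 : Lev := ⟨(nat_lit 22), (nat_lit 4), (nat_lit 0x20001040202010103030100030004040002040000000000), (nat_lit 0x20002020302030201030400030003030004010000000000),
 (.leaf 0),
 (.leaf 0)⟩
noncomputable def m5L6 : Lev := ⟨(nat_lit 4), (nat_lit 2), (nat_lit 0x200000100000000000000), (nat_lit 0x100000100000000000000),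
 (.leaf 0),
 (.leaf 0)⟩
noncomputable def m5L : List Lev := [m5L0, m5L1, m5L2, m5L3, m5L4, m5L5, m5L6]
theorem m5c : band (m5T.all fun c => m24Chk (ap 5 31 c)) (band (tchainChk 24 5 31 m5T m5L) (Nat.ble 244823040 (chainOrd 24 m5L))) = true := by decide +kernel
noncomputable def oo2t0 : ℕ := (nat_lit 0x7daf1a1672aa1cc3116d5260718820)
noncomputable def oo2t1 : ℕ := (nat_lit 0xad9f38c285bb50c49cce22e4a18820)
noncomputable def oo2t2 : ℕ := (nat_lit 0xbce11b4a952a4cc58dc8235e750820)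
noncomputable def oo2t3 : ℕ := (nat_lit 0x896b09bef492dac708c81a6c43a820)
noncomputable def oo2t4 : ℕ := (nat_lit 0xbd2562d5f08b8cc481681366419c2a)
noncomputable def oo2t5 : ℕ := (nat_lit 0x2c6b49bed092501329cd1aee438980)
noncomputable def oo2T : Tr ℕ := (.node (nat_lit 3) (.node (nat_lit 1) (.leaf oo2t0) (.node (nat_lit 2) (.leaf oo2t1) (.leaf oo2t2))) (.node (nat_lit 4) (.leaf oo2t3) (.node (nat_lit 5) (.leaf oo2t4) (.leaf oo2t5))))
noncomputable def oo2L0 : Lev := ⟨(nat_lit 1), (nat_lit 6), (nat_lit 0x6000000000000000000000000), (nat_lit 0x1000000000000000000000000),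
 (.leaf 0),
 (.leaf 0)⟩
noncomputable def oo2L1 : Lev := ⟨(nat_lit 12), (nat_lit 5), (nat_lit 0x0), (nat_lit 0x0),
 (.leaf 0),
 (.leaf 0)⟩
noncomputable def oo2L2 : Lev := ⟨(nat_lit 0), (nat_lit 5), (nat_lit 0x500000100000203040000), (nat_lit 0x100000200000202020000),
 (.leaf 0),
 (.leaf 0)⟩
noncomputable def oo2L3 : Lev := ⟨(nat_lit 2), (nat_lit 4), (nat_lit 0x400000100000203000000), (nat_lit 0x100000200000202000000),
 (.leaf 0),
 (.leaf 0)⟩
noncomputable def oo2L4 : Lev := ⟨(nat_lit 3), (nat_lit 3), (nat_lit 0x300000100000200000000), (nat_lit 0x100000200000200000000),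
 (.leaf 0),
 (.leaf 0)⟩
noncomputable def oo2L5 : Lev := ⟨(nat_lit 22), (nat_lit 2), (nat_lit 0x0), (nat_lit 0x0),
 (.leaf 0),
 (.leaf 0)⟩
noncomputable def oo2L6 : Lev := ⟨(nat_lit 4), (nat_lit 2), (nat_lit 0x100000200000000000000), (nat_lit 0x100000100000000000000),
 (.leaf 0),
 (.leaf 0)⟩
noncomputable def oo2L : List Lev := [oo2L0, oo2L1, oo2L2, oo2L3, oo2L4, oo2L5, oo2L6]
theorem oo2e : smC [] [5279, 31554] [] oo2T = true := by decide +kernel
noncomputable def oo2J : List Pr := [prSM 24 (allM [] [5279, 31554]) []]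
noncomputable def oo2F0 : ℕ × ℕ := ((nat_lit 0xffffffffffffffffffffff00ffffffffffffffffffff00ff), (nat_lit 0))
theorem oo2b0 : allR 0 24 (ptB 24 (nat_lit 5) (nat_lit 31) m5T oo2T oo2J m5L0 [m5L1, m5L2, m5L3, m5L4, m5L5, m5L6] oo2L0 (dg []) oo2F0.1 oo2F0.2) = true := by decide +kernel
noncomputable def oo2F1 : ℕ × ℕ := ((nat_lit 0xffffffffffffffffffffff00ffffffffffffffffffff00ff), (nat_lit 0))
theorem oo2b1 : allR 0 24 (ptB 24 (nat_lit 5) (nat_lit 31) m5T oo2T oo2J m5L1 [m5L2, m5L3, m5L4, m5L5, m5L6] oo2L1 (dg [m5L0.b]) oo2F1.1 oo2F1.2) = true := by decide +kernel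
noncomputable def oo2F2 : ℕ × ℕ := ((nat_lit 0xffffffffffffffffffffff00ff00ffff00ffff0000000000), (nat_lit 0))
theorem oo2b2 : allR 0 24 (ptB 24 (nat_lit 5) (nat_lit 31) m5T oo2T oo2J m5L2 [m5L3, m5L4, m5L5, m5L6] oo2L2 (dg [m5L1.b, m5L0.b]) oo2F2.1 oo2F2.2) = true := by decide +kernel
noncomputable def oo2F3 : ℕ × ℕ := ((nat_lit 0xffffffffffffffffffffff00ff00ffff00ffff0000000000), (nat_lit 0))
theorem oo2b3 : allR 0 24 (ptB 24 (nat_lit 5) (nat_lit 31) m5T oo2T oo2J m5L3 [m5L4, m5L5, m5L6] oo2L3 (dg [m5L2.b, m5L1.b, m5L0.b]) oo2F3.1 oo2F3.2) = true := by decide +kernel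
noncomputable def oo2F4 : ℕ × ℕ := ((nat_lit 0xffffffffffffffffffffff00ff00ffff00ffff0000000000), (nat_lit 0))
theorem oo2b4 : allR 0 24 (ptB 24 (nat_lit 5) (nat_lit 31) m5T oo2T oo2J m5L4 [m5L5, m5L6] oo2L4 (dg [m5L3.b, m5L2.b, m5L1.b, m5L0.b]) oo2F4.1 oo2F4.2) = true := by decide +kernel
noncomputable def oo2F5 : ℕ × ℕ := ((nat_lit 0xff00ffffffffffffffffff00ff00ffff00ffff0000000000), (nat_lit 0))
theorem oo2b5 : allR 0 24 (ptB 24 (nat_lit 5) (nat_lit 31) m5T oo2T oo2J m5L5 [m5L6] oo2L5 (dg [m5L4.b, m5L3.b, m5L2.b, m5L1.b, m5L0.b]) oo2F5.1 oo2F5.2) = true := by decide +kernel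
noncomputable def oo2F6 : ℕ × ℕ := ((nat_lit 0), (nat_lit 0))
theorem oo2b6 : allR 0 24 (ptB 24 (nat_lit 5) (nat_lit 31) m5T oo2T oo2J m5L6 [] oo2L6 (dg [m5L5.b, m5L4.b, m5L3.b, m5L2.b, m5L1.b, m5L0.b]) oo2F6.1 oo2F6.2) = true := by decide +kernel
theorem oo2bk : Bk 24 (nat_lit 5) (nat_lit 31) m5T oo2T oo2J m5L oo2L [oo2F0, oo2F1, oo2F2, oo2F3, oo2F4, oo2F5, oo2F6] [] :=
  ⟨rfl, oo2b0, rfl, oo2b1, rfl, oo2b2, rfl, oo2b3, rfl, oo2b4, rfl, oo2b5, rfl, oo2b6, trivial⟩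
theorem oo2tc : tchainChk 24 (nat_lit 5) (nat_lit 31) oo2T oo2L = true := by decide +kernel
theorem oo2ch {C : H7.Coding GolayPt} (hC : GC C) : Ch (SM M24 C [] [5279, 31554] []) 24 5 31 C.dec oo2T oo2L :=
  (hC.chSM (hC.ch m5c) oo2e oo2tc oo2bk)
theorem oo2card {C : H7.Coding GolayPt} (hC : GC C) : Nat.card (SM M24 C [] [5279, 31554] []) = 720 := (oo2ch hC).card.trans (by decide +kernel)
noncomputable def oo2iI : Tr (List ℕ) := (.node (nat_lit 2) (.node (nat_lit 1) (.leaf [nat_lit 5, nat_lit 1, nat_lit 2]) (.leaf [nat_lit 5, nat_lit 1, nat_lit 2, nat_lit 1])) (.node (nat_lit 3) (.leaf [nat_lit 5, nat_lit 0, nat_lit 2, nat_lit 0]) (.node (nat_lit 4) (.leaf [nat_lit 5, nat_lit 1, nat_lit 3, nat_lit 2, nat_lit 1]) (.leaf [nat_lit 5, nat_lit 3, nat_lit 4, nat_lit 3, nat_lit 1, nat_lit 2]))))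
theorem oo2ih : Alt.s6R.all (fun w => eqB (oo2L.map Lev.b) (apF (fun y => apL (nat_lit 5) (nat_lit 31) oo2T (oo2iI.get y)) w) fun a => a) = true := by decide +kernel
noncomputable def oo2iD : Tr (List ℕ) := (.node (nat_lit 3) (.node (nat_lit 1) (.leaf [nat_lit 1, nat_lit 0]) (.node (nat_lit 2) (.leaf [nat_lit 0, nat_lit 1]) (.leaf [nat_lit 0, nat_lit 1, nat_lit 2, nat_lit 0, nat_lit 1, nat_lit 0]))) (.node (nat_lit 4) (.leaf [nat_lit 0, nat_lit 1, nat_lit 2, nat_lit 3, nat_lit 0, nat_lit 1, nat_lit 2, nat_lit 0, nat_lit 1, nat_lit 0]) (.node (nat_lit 5) (.leaf [nat_lit 0, nat_lit 1, nat_lit 2, nat_lit 3, nat_lit 4, nat_lit 0, nat_lit 1, nat_lit 2, nat_lit 3, nat_lit 1, nat_lit 2, nat_lit 0, nat_lit 1, nat_lit 0]) (.leaf [nat_lit 1, nat_lit 2, nat_lit 1]))))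
theorem oo2is : band (surChk (nat_lit 5) (nat_lit 31) (oo2L.map Lev.b) oo2T oo2iI (topN Alt.s6L) oo2iD (topN oo2L)) (Nat.ble (chainOrd 6 Alt.s6L) (chainOrd 24 oo2L)) = true := by decide +kernel
theorem oo2i {C : H7.Coding GolayPt} (hC : GC C)  : Nonempty (Equiv.Perm (Fin 6) ≃* (SM M24 C [] [5279, 31554] [])) :=
  (Alt.s6std.isoW (oo2ch hC) oo2ih oo2is)
noncomputable def t1t0 : ℕ := (nat_lit 0x8bcd6925d5a5d674326d540a418820)
noncomputable def t1t1 : ℕ := (nat_lit 0x7520f4cee6b450a69e4b654a418820)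
noncomputable def t1t2 : ℕ := (nat_lit 0xbae957b6289ba44b1cd0524ac18820)
noncomputable def t1t3 : ℕ := (nat_lit 0x34a74ad9b073e23591093dcaa60820)
noncomputable def t1t4 : ℕ := (nat_lit 0x94dd1b5e89354ac42a0b3bda418820)
noncomputable def t1t5 : ℕ := (nat_lit 0xba0d49c6456a5ea5b1d61560419c20)
noncomputable def t1t6 : ℕ := (nat_lit 0x71a74abd7095da1888a83d9241a980)
noncomputable def t1t7 : ℕ := (nat_lit 0xa21f75c64da9a00990b61b92a3844c)
noncomputable def t1T : Tr ℕ := (.node (nat_lit 4) (.node (nat_lit 2) (.node (nat_lit 1) (.leaf t1t0) (.leaf t1t1)) (.node (nat_lit 3) (.leaf t1t2) (.leaf t1t3)))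
 (.node (nat_lit 6) (.node (nat_lit 5) (.leaf t1t4) (.leaf t1t5)) (.node (nat_lit 7) (.leaf t1t6) (.leaf t1t7))))
noncomputable def t1L0 : Lev := ⟨(nat_lit 0), (nat_lit 8), (nat_lit 0x8000100000200000304070700), (nat_lit 0x1000200000200000202030200),
 (.leaf 0),
 (.leaf 0)⟩
noncomputable def t1L1 : Lev := ⟨(nat_lit 1), (nat_lit 7), (nat_lit 0x7000100000200000304070000), (nat_lit 0x1000200000200000202030000),
 (.leaf 0),
 (.leaf 0)⟩
noncomputable def t1L2 : Lev := ⟨(nat_lit 2), (nat_lit 6), (nat_lit 0x1000200000600000304000000), (nat_lit 0x2000200000100000303000000),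
 (.leaf 0),
 (.leaf 0)⟩
noncomputable def t1L3 : Lev := ⟨(nat_lit 5), (nat_lit 5), (nat_lit 0x50302050103040302020500020004010001000000000000), (nat_lit 0x30304030302020304030100020003020004000000000000),
 (.leaf 0),
 (.leaf 0)⟩
noncomputable def t1L4 : Lev := ⟨(nat_lit 3), (nat_lit 4), (nat_lit 0x4000100000200000300000000), (nat_lit 0x1000200000200000200000000),
 (.leaf 0),
 (.leaf 0)⟩
noncomputable def t1L5 : Lev := ⟨(nat_lit 4), (nat_lit 3), (nat_lit 0x3000100000200000000000000), (nat_lit 0x1000200000200000000000000),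
 (.leaf 0),
 (.leaf 0)⟩
noncomputable def t1L6 : Lev := ⟨(nat_lit 6), (nat_lit 2), (nat_lit 0x1000000000200000000000000000000000000000000), (nat_lit 0x1000000000100000000000000000000000000000000),
 (.leaf 0),
 (.leaf 0)⟩
noncomputable def t1L : List Lev := [t1L0, t1L1, t1L2, t1L3, t1L4, t1L5, t1L6]
theorem t1e : smC [] [5279] [] t1T = true := by decide +kernel
noncomputable def t1W : Tr (List ℕ) := (.node (nat_lit 0xb9086046e30000149f) (.node (nat_lit 0x98ea0067016000149f) (.node (nat_lit 0x8bc120742a4000149f) (.leaf [nat_lit 6, nat_lit 2]) (.node (nat_lit 0x97824068692000149f) (.leaf [nat_lit 6, nat_lit 0]) (.leaf [nat_lit 2, nat_lit 1])))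
 (.node (nat_lit 0xaa234055c82000149f) (.node (nat_lit 0xa54b005aa06000149f) (.leaf [nat_lit 0, nat_lit 2]) (.leaf [nat_lit 0])) (.node (nat_lit 0xb66020498b4000149f) (.leaf [nat_lit 1]) (.leaf [nat_lit 3, nat_lit 0]))))
 (.node (nat_lit 0xde090021e26000149f) (.node (nat_lit 0xcd222032c94000149f) (.node (nat_lit 0xc24a603da10000149f) (.leaf [nat_lit 2]) (.leaf [nat_lit 5, nat_lit 0])) (.node (nat_lit 0xd161402e8a2000149f) (.leaf [nat_lit 0, nat_lit 3]) (.leaf [nat_lit 5])))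
 (.node (nat_lit 0xecc040132b2000149f) (.node (nat_lit 0xe3a8001c436000149f) (.leaf [nat_lit 1, nat_lit 2]) (.leaf [nat_lit 3])) (.node (nat_lit 0xf083200f684000149f) (.leaf [nat_lit 5, nat_lit 1]) (.leaf [])))))
theorem t1c : (allL GB.trP fun x => bor (bnot (memL (unp 3 x) 5279)) (mvF 24 [5279, 1009728, 15762208] (unp 3 x) (apL 5 31 t1T (t1W.get x)))) = true := by decide +kernel
noncomputable def t2t0 : ℕ := (nat_lit 0xa20b75c6464b5cc9a9f63c2a418820)
noncomputable def t2t1 : ℕ := (nat_lit 0x835662a5f78a2ccaaa4e3d26418820)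
noncomputable def t2t2 : ℕ := (nat_lit 0x2a695835d34464c32acf3aee418820)
noncomputable def t2t3 : ℕ := (nat_lit 0x4950f6c0d2a2e6c72af53c6c418820)
noncomputable def t2t4 : ℕ := (nat_lit 0xbd6d46c6467ae63729252410760820)
noncomputable def t2t5 : ℕ := (nat_lit 0xba0b4740d27cd646a9361c6ac38820)
noncomputable def t2t6 : ℕ := (nat_lit 0xbd9e86c1d2ac66c311343acaa08860)
noncomputable def t2t7 : ℕ := (nat_lit 0x450b694d704b9ac8a9f711aa409c60)
noncomputable def t2t8 : ℕ := (nat_lit 0xbdab4835d37c64230d2802ca153087)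
noncomputable def t2T : Tr ℕ := (.node (nat_lit 4) (.node (nat_lit 2) (.node (nat_lit 1) (.leaf t2t0) (.leaf t2t1)) (.node (nat_lit 3) (.leaf t2t2) (.leaf t2t3)))
 (.node (nat_lit 6) (.node (nat_lit 5) (.leaf t2t4) (.leaf t2t5)) (.node (nat_lit 7) (.leaf t2t6) (.node (nat_lit 8) (.leaf t2t7) (.leaf t2t8)))))
noncomputable def t2L0 : Lev := ⟨(nat_lit 0), (nat_lit 9), (nat_lit 0x6000700000900000506080900), (nat_lit 0x3000300000100000202020300),
 (.leaf 0),
 (.leaf 0)⟩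
noncomputable def t2L1 : Lev := ⟨(nat_lit 2), (nat_lit 8), (nat_lit 0x6000700000800000506000700), (nat_lit 0x3000300000100000202000300),
 (.leaf 0),
 (.leaf 0)⟩
noncomputable def t2L2 : Lev := ⟨(nat_lit 1), (nat_lit 7), (nat_lit 0x5000700000600000607000000), (nat_lit 0x2000400000200000301000000),
 (.leaf 0),
 (.leaf 0)⟩
noncomputable def t2L3 : Lev := ⟨(nat_lit 3), (nat_lit 6), (nat_lit 0x5000000000600000600000000), (nat_lit 0x1000000000100000200000000),
 (.leaf 0),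
 (.leaf 0)⟩
noncomputable def t2L4 : Lev := ⟨(nat_lit 5), (nat_lit 4), (nat_lit 0x30401030204040304040400020004040003000000000000), (nat_lit 0x10101020103040203030200020002020003000000000000),
 (.leaf 0),
 (.leaf 0)⟩
noncomputable def t2L : List Lev := [t2L0, t2L1, t2L2, t2L3, t2L4]
theorem t2e : smC [] [5279] [[5279, 1009728, 15762208]] t2T = true := by decide +kernel
noncomputable def t2W : Tr (List ℕ) := (.node (nat_lit 0xb9086046e30000149f) (.node (nat_lit 0x98ea0067016000149f) (.node (nat_lit 0x8bc120742a4000149f) (.leaf [nat_lit 5, nat_lit 4]) (.node (nat_lit 0x97824068692000149f) (.leaf [nat_lit 5]) (.leaf [nat_lit 7, nat_lit 6, nat_lit 5])))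
 (.node (nat_lit 0xaa234055c82000149f) (.node (nat_lit 0xa54b005aa06000149f) (.leaf [nat_lit 7, nat_lit 6, nat_lit 5, nat_lit 4]) (.leaf [nat_lit 7, nat_lit 5])) (.node (nat_lit 0xb66020498b4000149f) (.leaf [nat_lit 7, nat_lit 5, nat_lit 4]) (.leaf [nat_lit 6, nat_lit 5]))))
 (.node (nat_lit 0xd161402e8a2000149f) (.node (nat_lit 0xc24a603da10000149f) (.leaf [nat_lit 6, nat_lit 5, nat_lit 4]) (.node (nat_lit 0xcd222032c94000149f) (.leaf [nat_lit 4, nat_lit 7, nat_lit 5]) (.leaf [nat_lit 5, nat_lit 7, nat_lit 5])))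
 (.node (nat_lit 0xe3a8001c436000149f) (.node (nat_lit 0xde090021e26000149f) (.leaf [nat_lit 4, nat_lit 6, nat_lit 5, nat_lit 4]) (.leaf [nat_lit 4, nat_lit 6, nat_lit 5])) (.node (nat_lit 0xecc040132b2000149f) (.leaf [nat_lit 4]) (.leaf [])))))
theorem t2c : (allL GB.trP fun x => bor (bor (bnot (memL (unp 3 x) 5279)) (Nat.beq x 4436667146648940450975)) (mvF 24 [5279, 1256224, 15515712] (unp 3 x) (apL 5 31 t2T (t2W.get x)))) = true := by decide +kernel
theorem t3c : (allL GB.trP fun x => bor (bnot (memL (unp 3 x) 5279)) (foT.all fun c => fxF 24 (unp 3 x) (ap 5 31 c))) = true := by decide +kernel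
noncomputable def m6t0 : ℕ := (nat_lit 0x802b3a39973c8915a928798ad18456)
noncomputable def m6t1 : ℕ := (nat_lit 0xb5eaf3b1c0a44525a928998a11b490)
noncomputable def m6t2 : ℕ := (nat_lit 0x64aad25a11102975a928098b31bcee)
noncomputable def m6t3 : ℕ := (nat_lit 0x68aac8be6491ef45a928718b01d801)
noncomputable def m6t4 : ℕ := (nat_lit 0xb395008a2d65e8758d28798b2a9013)
noncomputable def m6t5 : ℕ := (nat_lit 0x75c6d012343da0f5d528618a254a61)
noncomputable def m6t6 : ℕ := (nat_lit 0x55a0c3c65573db415d28998a40ac60)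
noncomputable def m6t7 : ℕ := (nat_lit 0x14a2f1dab0a398d58028398a49dd2a)
noncomputable def m6t8 : ℕ := (nat_lit 0xb92229aeac79d109052d718b61d140)
noncomputable def m6t9 : ℕ := (nat_lit 0x942959de360b9ac3a12a588a3219e0)
noncomputable def m6t10 : ℕ := (nat_lit 0xbd9d49ca29354a158e0823da750182)
noncomputable def m6T : Tr ℕ := (.node (nat_lit 5) (.node (nat_lit 2) (.node (nat_lit 1) (.leaf m6t0) (.leaf m6t1)) (.node (nat_lit 3) (.leaf m6t2) (.node (nat_lit 4) (.leaf m6t3) (.leaf m6t4))))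
 (.node (nat_lit 8) (.node (nat_lit 6) (.leaf m6t5) (.node (nat_lit 7) (.leaf m6t6) (.leaf m6t7))) (.node (nat_lit 9) (.leaf m6t8) (.node (nat_lit 10) (.leaf m6t9) (.leaf m6t10)))))
noncomputable def m6L0 : Lev := ⟨(nat_lit 5), (nat_lit 11), (nat_lit 0x4090a030306030503050b0807070b090b0a00010a02020b), (nat_lit 0x20303020303030203030102030303020303000203020303),
 (.leaf 0),
 (.leaf 0)⟩
noncomputable def m6L1 : Lev := ⟨(nat_lit 6), (nat_lit 10), (nat_lit 0x8040a0905050705030702080709080903000006070a0104), (nat_lit 0x20203020302030302030203020303030300000203010203),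
 (.leaf 0),
 (.leaf 0)⟩
noncomputable def m6L2 : Lev := ⟨(nat_lit 8), (nat_lit 9), (nat_lit 0x40907030306030503050908070708000600000107020202), (nat_lit 0x20303020303030203030102030304000300000204020303),
 (.leaf 0),
 (.leaf 0)⟩
noncomputable def m6L3 : Lev := ⟨(nat_lit 9), (nat_lit 8), (nat_lit 0x80406010505040403040205070800000300000207010804), (nat_lit 0x30303030203030303030303030300000200000202020102),
 (.leaf 0),
 (.leaf 0)⟩
noncomputable def m6L4 : Lev := ⟨(nat_lit 11), (nat_lit 7), (nat_lit 0x40406030505070503070206000500000300000607070104), (nat_lit 0x30204030302030302030203000400000300000203010203),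
 (.leaf 0),
 (.leaf 0)⟩
noncomputable def m6L5 : Lev := ⟨(nat_lit 3), (nat_lit 6), (nat_lit 0x6000000000000000000000500000000000000000000), (nat_lit 0x1000000000000000000000100000000000000000000),
 (.leaf 0),
 (.leaf 0)⟩
noncomputable def m6L6 : Lev := ⟨(nat_lit 0), (nat_lit 4), (nat_lit 0x20100040403030204030403000000000400000400040400), (nat_lit 0x20100040302020103010303000000000200000200020100),
 (.leaf 0),
 (.leaf 0)⟩
noncomputable def m6L : List Lev := [m6L0, m6L1, m6L2, m6L3, m6L4, m6L5, m6L6]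
theorem m6c : band (m6T.all fun c => m24Chk (ap 5 31 c)) (band (tchainChk 24 5 31 m6T m6L) (Nat.ble 244823040 (chainOrd 24 m6L))) = true := by decide +kernel
noncomputable def t40t0 : ℕ := (nat_lit 0x9c8cbbd90573d2ca29b13d60418820)
noncomputable def t40t1 : ℕ := (nat_lit 0xa20b75c6464b5cc9a9f63c2a418820)
noncomputable def t40t2 : ℕ := (nat_lit 0x2a695835d34464c32acf3aee418820)
noncomputable def t40t3 : ℕ := (nat_lit 0x71a4d7d4a89de8c4a9703da2418820)
noncomputable def t40T : Tr ℕ := (.node (nat_lit 2) (.node (nat_lit 1) (.leaf t40t0) (.leaf t40t1)) (.node (nat_lit 3) (.leaf t40t2) (.leaf t40t3)))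
noncomputable def t40L0 : Lev := ⟨(nat_lit 5), (nat_lit 4), (nat_lit 0x30402030304040104040400030004040002000000000000), (nat_lit 0x10301020202010103020300030004020002000000000000),
 (.leaf 0),
 (.leaf 0)⟩
noncomputable def t40L1 : Lev := ⟨(nat_lit 6), (nat_lit 0), (nat_lit 0x0), (nat_lit 0x0),
 (.leaf 0),
 (.leaf 0)⟩
noncomputable def t40L2 : Lev := ⟨(nat_lit 8), (nat_lit 0), (nat_lit 0x0), (nat_lit 0x0),
 (.leaf 0),
 (.leaf 0)⟩
noncomputable def t40L3 : Lev := ⟨(nat_lit 9), (nat_lit 0), (nat_lit 0x0), (nat_lit 0x0),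
 (.leaf 0),
 (.leaf 0)⟩
noncomputable def t40L4 : Lev := ⟨(nat_lit 11), (nat_lit 0), (nat_lit 0x0), (nat_lit 0x0),
 (.leaf 0),
 (.leaf 0)⟩
noncomputable def t40L5 : Lev := ⟨(nat_lit 3), (nat_lit 0), (nat_lit 0x0), (nat_lit 0x0),
 (.leaf 0),
 (.leaf 0)⟩
noncomputable def t40L6 : Lev := ⟨(nat_lit 0), (nat_lit 0), (nat_lit 0x0), (nat_lit 0x0),
 (.leaf 0),
 (.leaf 0)⟩
noncomputable def t40L : List Lev := [t40L0, t40L1, t40L2, t40L3, t40L4, t40L5, t40L6]
theorem t40e : smC [] [5279] [[5279, 7612992, 9158944], [5279, 8077824, 8694112], [5279, 4038912, 12733024], [5279, 6750560, 10021376]] t40T = true := by decide +kernel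
noncomputable def t40J : List Pr := [prSM 24 (allM [] [5279]) [[5279, 7612992, 9158944], [5279, 8077824, 8694112], [5279, 4038912, 12733024], [5279, 6750560, 10021376]]]
noncomputable def t40F0 : ℕ × ℕ := ((nat_lit 0xff00ff0000ff0000ffffffffff), (nat_lit 0))
theorem t40b0 : allR 0 24 (ptB 24 (nat_lit 5) (nat_lit 31) m6T t40T t40J m6L0 [m6L1, m6L2, m6L3, m6L4, m6L5, m6L6] t40L0 (dg []) t40F0.1 t40F0.2) = true := by decide +kernel
noncomputable def t40F1 : ℕ × ℕ := ((nat_lit 0xffffffffffffffffffffffffffffffffff0000ffffffffff), (nat_lit 0))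
theorem t40b1 : allR 0 24 (ptB 24 (nat_lit 5) (nat_lit 31) m6T t40T t40J m6L1 [m6L2, m6L3, m6L4, m6L5, m6L6] t40L1 (dg [m6L0.b]) t40F1.1 t40F1.2) = true := by decide +kernel
noncomputable def t40F2 : ℕ × ℕ := ((nat_lit 0xffffffffffffffffffffffffffffff00ff0000ffffffffff), (nat_lit 0))
theorem t40b2 : allR 0 24 (ptB 24 (nat_lit 5) (nat_lit 31) m6T t40T t40J m6L2 [m6L3, m6L4, m6L5, m6L6] t40L2 (dg [m6L1.b, m6L0.b]) t40F2.1 t40F2.2) = true := by decide +kernel
noncomputable def t40F3 : ℕ × ℕ := ((nat_lit 0xffffffffffffffffffffffffffff0000ff0000ffffffffff), (nat_lit 0))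
theorem t40b3 : allR 0 24 (ptB 24 (nat_lit 5) (nat_lit 31) m6T t40T t40J m6L3 [m6L4, m6L5, m6L6] t40L3 (dg [m6L2.b, m6L1.b, m6L0.b]) t40F3.1 t40F3.2) = true := by decide +kernel
noncomputable def t40F4 : ℕ × ℕ := ((nat_lit 0xffffffffffffffffffffffff00ff0000ff0000ffffffffff), (nat_lit 0))
theorem t40b4 : allR 0 24 (ptB 24 (nat_lit 5) (nat_lit 31) m6T t40T t40J m6L4 [m6L5, m6L6] t40L4 (dg [m6L3.b, m6L2.b, m6L1.b, m6L0.b]) t40F4.1 t40F4.2) = true := by decide +kernel
noncomputable def t40F5 : ℕ × ℕ := ((nat_lit 0xff00000000000000000000ff00000000000000000000), (nat_lit 0))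
theorem t40b5 : allR 0 24 (ptB 24 (nat_lit 5) (nat_lit 31) m6T t40T t40J m6L5 [m6L6] t40L5 (dg [m6L4.b, m6L3.b, m6L2.b, m6L1.b, m6L0.b]) t40F5.1 t40F5.2) = true := by decide +kernel
noncomputable def t40F6 : ℕ × ℕ := ((nat_lit 0xffff00ffffffffffffffffff00000000ff0000ff00ffff00), (nat_lit 0))
theorem t40b6 : allR 0 24 (ptB 24 (nat_lit 5) (nat_lit 31) m6T t40T t40J m6L6 [] t40L6 (dg [m6L5.b, m6L4.b, m6L3.b, m6L2.b, m6L1.b, m6L0.b]) t40F6.1 t40F6.2) = true := by decide +kernel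
theorem t40bk : Bk 24 (nat_lit 5) (nat_lit 31) m6T t40T t40J m6L t40L [t40F0, t40F1, t40F2, t40F3, t40F4, t40F5, t40F6] [] :=
  ⟨rfl, t40b0, rfl, t40b1, rfl, t40b2, rfl, t40b3, rfl, t40b4, rfl, t40b5, rfl, t40b6, trivial⟩
theorem t40tc : tchainChk 24 (nat_lit 5) (nat_lit 31) t40T t40L = true := by decide +kernel
noncomputable def t4t0 : ℕ := (nat_lit 0xa20b75c6464b5cc9a9f63c2a418820)
noncomputable def t4t1 : ℕ := (nat_lit 0xabee5339abb4a2c829093ce8418820)
noncomputable def t4t2 : ℕ := (nat_lit 0x6c22e496b65d2ec7aa663a24418820)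
noncomputable def t4t3 : ℕ := (nat_lit 0x5c613a22d56a5ecba9d2394c418820)
noncomputable def t4T : Tr ℕ := (.node (nat_lit 2) (.node (nat_lit 1) (.leaf t4t0) (.leaf t4t1)) (.node (nat_lit 3) (.leaf t4t2) (.leaf t4t3)))
noncomputable def t4L0 : Lev := ⟨(nat_lit 5), (nat_lit 4), (nat_lit 0x20401020403030404030300040004040004000000000000), (nat_lit 0x20301010201020204020300030003020001000000000000),
 (.leaf 0),
 (.leaf 0)⟩
noncomputable def t4L : List Lev := [t4L0]
theorem t4e : smC [] [5279] [[5279, 7612992, 9158944], [5279, 8077824, 8694112], [5279, 4038912, 12733024], [5279, 6750560, 10021376]] t4T = true := by decide +kernel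
theorem t4tc : tchainChk 24 (nat_lit 5) (nat_lit 31) t4T t4L = true := by decide +kernel
theorem t4c : band (tchainChk 24 (nat_lit 5) (nat_lit 31) t4T t4L) (Nat.ble (chainOrd 24 t40L) (chainOrd 24 t4L)) = true := by decide +kernel
theorem t4ch {C : H7.Coding GolayPt} (hC : GC C) : Ch (SM M24 C [] [5279] [[5279, 7612992, 9158944], [5279, 8077824, 8694112], [5279, 4038912, 12733024], [5279, 6750560, 10021376]]) 24 5 31 C.dec t4T t4L :=
  ((hC.chSM (hC.ch m6c) t40e t40tc t40bk).ch (hC.sm t4e) t4c)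
theorem t4card {C : H7.Coding GolayPt} (hC : GC C) : Nat.card (SM M24 C [] [5279] [[5279, 7612992, 9158944], [5279, 8077824, 8694112], [5279, 4038912, 12733024], [5279, 6750560, 10021376]]) = 16 := (t4ch hC).card.trans (by decide +kernel)
theorem t4q : t4T.all (fun c => sfx 24 [0, 1, 2, 3, 4, 7, 10, 12] [] [] (ap 5 31 c)) = true := by decide +kernel
noncomputable def t4l : List (List ℕ) := [[5279, 7612992, 9158944], [5279, 8077824, 8694112], [5279, 4038912, 12733024], [5279, 6750560, 10021376]]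
noncomputable def m7t0 : ℕ := (nat_lit 0xa0e1729235531ae33d283ae72b0820)
noncomputable def m7t1 : ℕ := (nat_lit 0x5a8a683233191b2bd9283d2ae78820)
noncomputable def m7t2 : ℕ := (nat_lit 0x2b173a2a2620db6ac9283c2ef70820)
noncomputable def m7t3 : ℕ := (nat_lit 0x52d8f2162ea41b5b5d2838e5330820)
noncomputable def m7t4 : ℕ := (nat_lit 0x53c66659b793925ac2283927458820)
noncomputable def m7t5 : ℕ := (nat_lit 0x849642bd2ab3a331dda83d186a8820)
noncomputable def m7t6 : ℕ := (nat_lit 0x835662a5f78a2ccaaa4e3d26418820)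
noncomputable def m7t7 : ℕ := (nat_lit 0x83db498577b3aa68a12a3b08518a40)
noncomputable def m7t8 : ℕ := (nat_lit 0xa5977985503b903ac48d798a960a40)
noncomputable def m7t9 : ℕ := (nat_lit 0xb92b3a00657b5cc59d2151a1688912)
noncomputable def m7t10 : ℕ := (nat_lit 0x502b41897073cac8dd28099a49c8f6)
noncomputable def m7T : Tr ℕ := (.node (nat_lit 5) (.node (nat_lit 2) (.node (nat_lit 1) (.leaf m7t0) (.leaf m7t1)) (.node (nat_lit 3) (.leaf m7t2) (.node (nat_lit 4) (.leaf m7t3) (.leaf m7t4))))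
 (.node (nat_lit 8) (.node (nat_lit 6) (.leaf m7t5) (.node (nat_lit 7) (.leaf m7t6) (.leaf m7t7))) (.node (nat_lit 9) (.leaf m7t8) (.node (nat_lit 10) (.leaf m7t9) (.leaf m7t10)))))
noncomputable def m7L0 : Lev := ⟨(nat_lit 2), (nat_lit 11), (nat_lit 0x4060406040b090605020b02040307080a0504010900080a), (nat_lit 0x30203030301030302030302030202030303020203000202),
 (.leaf 0),
 (.leaf 0)⟩
noncomputable def m7L1 : Lev := ⟨(nat_lit 0), (nat_lit 10), (nat_lit 0x4060406040a090605020702040307080a05040109000800), (nat_lit 0x30203030301030302030302030202030303020203000200),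
 (.leaf 0),
 (.leaf 0)⟩
noncomputable def m7L2 : Lev := ⟨(nat_lit 7), (nat_lit 9), (nat_lit 0x40505040406070609030709060109080004080302000800), (nat_lit 0x30203020302020301030303030203030003030202000300),
 (.leaf 0),
 (.leaf 0)⟩
noncomputable def m7L3 : Lev := ⟨(nat_lit 1), (nat_lit 8), (nat_lit 0x40604060408070605020702040307080005040102000000), (nat_lit 0x30203030301030302030302030202030003020203000000),
 (.leaf 0),
 (.leaf 0)⟩
noncomputable def m7L4 : Lev := ⟨(nat_lit 8), (nat_lit 7), (nat_lit 0x60304060502070403070701060507000005060203000000), (nat_lit 0x30303030303040203010402030304000003030202000000),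
 (.leaf 0),
 (.leaf 0)⟩
noncomputable def m7L5 : Lev := ⟨(nat_lit 9), (nat_lit 6), (nat_lit 0x60000000500000000000000000000000000), (nat_lit 0x10000000100000000000000000000000000),
 (.leaf 0),
 (.leaf 0)⟩
noncomputable def m7L6 : Lev := ⟨(nat_lit 3), (nat_lit 4), (nat_lit 0x40104040403000402030003040200000004040300000000), (nat_lit 0x30103020303000201010002020200000001040200000000),
 (.leaf 0),
 (.leaf 0)⟩
noncomputable def m7L : List Lev := [m7L0, m7L1, m7L2, m7L3, m7L4, m7L5, m7L6]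
theorem m7c : band (m7T.all fun c => m24Chk (ap 5 31 c)) (band (tchainChk 24 5 31 m7T m7L) (Nat.ble 244823040 (chainOrd 24 m7L))) = true := by decide +kernel
noncomputable def e1st0 : ℕ := (nat_lit 0xacaf035a3473daa2b1283cd6320820)
noncomputable def e1st1 : ℕ := (nat_lit 0x2a695835d34464c32acf3aee418820)
noncomputable def e1st2 : ℕ := (nat_lit 0x94dd1b5e89354ac42a0b3bda418820)
noncomputable def e1st3 : ℕ := (nat_lit 0xbc233a1ab67a5aa5b1c53c90118880)
noncomputable def e1st4 : ℕ := (nat_lit 0x6ae259baaf84aecb292821a8708860)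
noncomputable def e1st5 : ℕ := (nat_lit 0xa21f79ca2eac0ca5b0b63b52018824)
noncomputable def e1st6 : ℕ := (nat_lit 0xbd9ee2a570ad1ac8aa463a26219001)
noncomputable def e1sT : Tr ℕ := (.node (nat_lit 3) (.node (nat_lit 1) (.leaf e1st0) (.node (nat_lit 2) (.leaf e1st1) (.leaf e1st2)))
 (.node (nat_lit 5) (.node (nat_lit 4) (.leaf e1st3) (.leaf e1st4)) (.node (nat_lit 6) (.leaf e1st5) (.leaf e1st6))))
noncomputable def e1sL0 : Lev := ⟨(nat_lit 2), (nat_lit 7), (nat_lit 0x500000701000406), (nat_lit 0x200000102000202),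
 (.leaf 0),
 (.leaf 0)⟩
noncomputable def e1sL1 : Lev := ⟨(nat_lit 0), (nat_lit 6), (nat_lit 0x500000601000400), (nat_lit 0x200000102000200),
 (.leaf 0),
 (.leaf 0)⟩
noncomputable def e1sL2 : Lev := ⟨(nat_lit 7), (nat_lit 5), (nat_lit 0x501000400), (nat_lit 0x102000200),
 (.leaf 0),
 (.leaf 0)⟩
noncomputable def e1sL3 : Lev := ⟨(nat_lit 1), (nat_lit 4), (nat_lit 0x401000000), (nat_lit 0x102000000),
 (.leaf 0),
 (.leaf 0)⟩
noncomputable def e1sL4 : Lev := ⟨(nat_lit 8), (nat_lit 3), (nat_lit 0x20303030103020202010300030003000003010000000000), (nat_lit 0x30403040304030401020300010005000002020000000000),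
 (.leaf 0),
 (.leaf 0)⟩
noncomputable def e1sL5 : Lev := ⟨(nat_lit 9), (nat_lit 1), (nat_lit 0x0), (nat_lit 0x0),
 (.leaf 0),
 (.leaf 0)⟩
noncomputable def e1sL6 : Lev := ⟨(nat_lit 3), (nat_lit 1), (nat_lit 0x100000000), (nat_lit 0x100000000),
 (.leaf 0),
 (.leaf 0)⟩
noncomputable def e1sL : List Lev := [e1sL0, e1sL1, e1sL2, e1sL3, e1sL4, e1sL5, e1sL6]
theorem e1se : smC [] [159] [] e1sT = true := by decide +kernel
noncomputable def e1sJ : List Pr := [prSM 24 (allM [] [159]) []]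
noncomputable def e1sF0 : ℕ × ℕ := ((nat_lit 0xffffffffffffffffffffffffffffffff00ffff0000000000), (nat_lit 0))
theorem e1sb0 : allR 0 24 (ptB 24 (nat_lit 5) (nat_lit 31) m7T e1sT e1sJ m7L0 [m7L1, m7L2, m7L3, m7L4, m7L5, m7L6] e1sL0 (dg []) e1sF0.1 e1sF0.2) = true := by decide +kernel
noncomputable def e1sF1 : ℕ × ℕ := ((nat_lit 0xffffffffffffffffffffffffffffffff00ffff0000000000), (nat_lit 0))
theorem e1sb1 : allR 0 24 (ptB 24 (nat_lit 5) (nat_lit 31) m7T e1sT e1sJ m7L1 [m7L2, m7L3, m7L4, m7L5, m7L6] e1sL1 (dg [m7L0.b]) e1sF1.1 e1sF1.2) = true := by decide +kernel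
noncomputable def e1sF2 : ℕ × ℕ := ((nat_lit 0xffffffffffffffffffffffffffffffff00ffff0000000000), (nat_lit 0))
theorem e1sb2 : allR 0 24 (ptB 24 (nat_lit 5) (nat_lit 31) m7T e1sT e1sJ m7L2 [m7L3, m7L4, m7L5, m7L6] e1sL2 (dg [m7L1.b, m7L0.b]) e1sF2.1 e1sF2.2) = true := by decide +kernel
noncomputable def e1sF3 : ℕ × ℕ := ((nat_lit 0xffffffffffffffffffffffffffffffff00ffff0000000000), (nat_lit 0))
theorem e1sb3 : allR 0 24 (ptB 24 (nat_lit 5) (nat_lit 31) m7T e1sT e1sJ m7L3 [m7L4, m7L5, m7L6] e1sL3 (dg [m7L2.b, m7L1.b, m7L0.b]) e1sF3.1 e1sF3.2) = true := by decide +kernel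
noncomputable def e1sF4 : ℕ × ℕ := ((nat_lit 0xff00ff0000000000ffff000000), (nat_lit 0))
theorem e1sb4 : allR 0 24 (ptB 24 (nat_lit 5) (nat_lit 31) m7T e1sT e1sJ m7L4 [m7L5, m7L6] e1sL4 (dg [m7L3.b, m7L2.b, m7L1.b, m7L0.b]) e1sF4.1 e1sF4.2) = true := by decide +kernel
noncomputable def e1sF5 : ℕ × ℕ := ((nat_lit 0xff000000ff00000000000000000000000000), (nat_lit 0))
theorem e1sb5 : allR 0 24 (ptB 24 (nat_lit 5) (nat_lit 31) m7T e1sT e1sJ m7L5 [m7L6] e1sL5 (dg [m7L4.b, m7L3.b, m7L2.b, m7L1.b, m7L0.b]) e1sF5.1 e1sF5.2) = true := by decide +kernel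
noncomputable def e1sF6 : ℕ × ℕ := ((nat_lit 0xffffffffffff00ffffff00ffffff000000ffff0000000000), (nat_lit 0))
theorem e1sb6 : allR 0 24 (ptB 24 (nat_lit 5) (nat_lit 31) m7T e1sT e1sJ m7L6 [] e1sL6 (dg [m7L5.b, m7L4.b, m7L3.b, m7L2.b, m7L1.b, m7L0.b]) e1sF6.1 e1sF6.2) = true := by decide +kernel
theorem e1sbk : Bk 24 (nat_lit 5) (nat_lit 31) m7T e1sT e1sJ m7L e1sL [e1sF0, e1sF1, e1sF2, e1sF3, e1sF4, e1sF5, e1sF6] [] :=
  ⟨rfl, e1sb0, rfl, e1sb1, rfl, e1sb2, rfl, e1sb3, rfl, e1sb4, rfl, e1sb5, rfl, e1sb6, trivial⟩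
theorem e1stc : tchainChk 24 (nat_lit 5) (nat_lit 31) e1sT e1sL = true := by decide +kernel
theorem e1sch {C : H7.Coding GolayPt} (hC : GC C) : Ch (SM M24 C [] [159] []) 24 5 31 C.dec e1sT e1sL :=
  (hC.chSM (hC.ch m7c) e1se e1stc e1sbk)
theorem e1scard {C : H7.Coding GolayPt} (hC : GC C) : Nat.card (SM M24 C [] [159] []) = 11520 := (e1sch hC).card.trans (by decide +kernel)
noncomputable def e1f0t0 : ℕ := (nat_lit 0x4950f6c0d2a2e6c72af53c6c418820)
noncomputable def e1f0t1 : ℕ := (nat_lit 0x7d6c971a11bcd6c6aa853c90418820)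
noncomputable def e1f0t2 : ℕ := (nat_lit 0xb5de894d6da9a0c8a8b43b92418820)
noncomputable def e1f0t3 : ℕ := (nat_lit 0x33a70abd349590c2aa2d3dd6418820)
noncomputable def e1f0T : Tr ℕ := (.node (nat_lit 2) (.node (nat_lit 1) (.leaf e1f0t0) (.leaf e1f0t1)) (.node (nat_lit 3) (.leaf e1f0t2) (.leaf e1f0t3)))
noncomputable def e1f0L0 : Lev := ⟨(nat_lit 0), (nat_lit 4), (nat_lit 0x0), (nat_lit 0x0),
 (.leaf 0),
 (.leaf 0)⟩
noncomputable def e1f0L1 : Lev := ⟨(nat_lit 1), (nat_lit 4), (nat_lit 0x0), (nat_lit 0x0),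
 (.leaf 0),
 (.leaf 0)⟩
noncomputable def e1f0L2 : Lev := ⟨(nat_lit 2), (nat_lit 4), (nat_lit 0x0), (nat_lit 0x0),
 (.leaf 0),
 (.leaf 0)⟩
noncomputable def e1f0L3 : Lev := ⟨(nat_lit 3), (nat_lit 4), (nat_lit 0x0), (nat_lit 0x0),
 (.leaf 0),
 (.leaf 0)⟩
noncomputable def e1f0L4 : Lev := ⟨(nat_lit 4), (nat_lit 4), (nat_lit 0x0), (nat_lit 0x0),
 (.leaf 0),
 (.leaf 0)⟩
noncomputable def e1f0L5 : Lev := ⟨(nat_lit 7), (nat_lit 4), (nat_lit 0x0), (nat_lit 0x0),
 (.leaf 0),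
 (.leaf 0)⟩
noncomputable def e1f0L6 : Lev := ⟨(nat_lit 5), (nat_lit 4), (nat_lit 0x30102030404040403040400040003020004000000000000), (nat_lit 0x20102020304020303020200010001010003000000000000),
 (.leaf 0),
 (.leaf 0)⟩
noncomputable def e1f0L : List Lev := [e1f0L0, e1f0L1, e1f0L2, e1f0L3, e1f0L4, e1f0L5, e1f0L6]
theorem e1f0e : smC [0, 1, 2, 3, 4, 7] [] [] e1f0T = true := by decide +kernel
noncomputable def e1f0J : List Pr := [prSM 24 (allM [0, 1, 2, 3, 4, 7] []) []]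
noncomputable def e1f0F0 : ℕ × ℕ := ((nat_lit 0xffffffffffffffffffffffffffffffffffffffffffffff00), (nat_lit 0))
theorem e1f0b0 : allR 0 24 (ptB 24 (nat_lit 5) (nat_lit 31) m0T e1f0T e1f0J m0L0 [m0L1, m0L2, m0L3, m0L4, m0L5, m0L6] e1f0L0 (dg []) e1f0F0.1 e1f0F0.2) = true := by decide +kernel
noncomputable def e1f0F1 : ℕ × ℕ := ((nat_lit 0xffffffffffffffffffffffffffffffffffffffffffff0000), (nat_lit 0))
theorem e1f0b1 : allR 0 24 (ptB 24 (nat_lit 5) (nat_lit 31) m0T e1f0T e1f0J m0L1 [m0L2, m0L3, m0L4, m0L5, m0L6] e1f0L1 (dg [m0L0.b]) e1f0F1.1 e1f0F1.2) = true := by decide +kernel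
noncomputable def e1f0F2 : ℕ × ℕ := ((nat_lit 0xffffffffffffffffffffffffffffffffffffffffff000000), (nat_lit 0))
theorem e1f0b2 : allR 0 24 (ptB 24 (nat_lit 5) (nat_lit 31) m0T e1f0T e1f0J m0L2 [m0L3, m0L4, m0L5, m0L6] e1f0L2 (dg [m0L1.b, m0L0.b]) e1f0F2.1 e1f0F2.2) = true := by decide +kernel
noncomputable def e1f0F3 : ℕ × ℕ := ((nat_lit 0xffffffffffffffffffffffffffffffffffffffff00000000), (nat_lit 0))
theorem e1f0b3 : allR 0 24 (ptB 24 (nat_lit 5) (nat_lit 31) m0T e1f0T e1f0J m0L3 [m0L4, m0L5, m0L6] e1f0L3 (dg [m0L2.b, m0L1.b, m0L0.b]) e1f0F3.1 e1f0F3.2) = true := by decide +kernel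
noncomputable def e1f0F4 : ℕ × ℕ := ((nat_lit 0xffffffffffffffffffffffffffffffffffffff0000000000), (nat_lit 0))
theorem e1f0b4 : allR 0 24 (ptB 24 (nat_lit 5) (nat_lit 31) m0T e1f0T e1f0J m0L4 [m0L5, m0L6] e1f0L4 (dg [m0L3.b, m0L2.b, m0L1.b, m0L0.b]) e1f0F4.1 e1f0F4.2) = true := by decide +kernel
noncomputable def e1f0F5 : ℕ × ℕ := ((nat_lit 0xff00ff00000000000000000000), (nat_lit 0))
theorem e1f0b5 : allR 0 24 (ptB 24 (nat_lit 5) (nat_lit 31) m0T e1f0T e1f0J m0L5 [m0L6] e1f0L5 (dg [m0L4.b, m0L3.b, m0L2.b, m0L1.b, m0L0.b]) e1f0F5.1 e1f0F5.2) = true := by decide +kernel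
noncomputable def e1f0F6 : ℕ × ℕ := ((nat_lit 0), (nat_lit 0))
theorem e1f0b6 : allR 0 24 (ptB 24 (nat_lit 5) (nat_lit 31) m0T e1f0T e1f0J m0L6 [] e1f0L6 (dg [m0L5.b, m0L4.b, m0L3.b, m0L2.b, m0L1.b, m0L0.b]) e1f0F6.1 e1f0F6.2) = true := by decide +kernel
theorem e1f0bk : Bk 24 (nat_lit 5) (nat_lit 31) m0T e1f0T e1f0J m0L e1f0L [e1f0F0, e1f0F1, e1f0F2, e1f0F3, e1f0F4, e1f0F5, e1f0F6] [] :=
  ⟨rfl, e1f0b0, rfl, e1f0b1, rfl, e1f0b2, rfl, e1f0b3, rfl, e1f0b4, rfl, e1f0b5, rfl, e1f0b6, trivial⟩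
theorem e1f0tc : tchainChk 24 (nat_lit 5) (nat_lit 31) e1f0T e1f0L = true := by decide +kernel
noncomputable def e1ft0 : ℕ := (nat_lit 0x7d6c971a11bcd6c6aa853c90418820)
noncomputable def e1ft1 : ℕ := (nat_lit 0xb5de894d6da9a0c8a8b43b92418820)
noncomputable def e1ft2 : ℕ := (nat_lit 0x4950f6c0d2a2e6c72af53c6c418820)
noncomputable def e1ft3 : ℕ := (nat_lit 0x94dd1b5e89354ac42a0b3bda418820)
noncomputable def e1fT : Tr ℕ := (.node (nat_lit 2) (.node (nat_lit 1) (.leaf e1ft0) (.leaf e1ft1)) (.node (nat_lit 3) (.leaf e1ft2) (.leaf e1ft3)))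
noncomputable def e1fL0 : Lev := ⟨(nat_lit 5), (nat_lit 4), (nat_lit 0x30303020404040403040400040002010004000000000000), (nat_lit 0x20102020203030203030100020001010004000000000000),
 (.leaf 0),
 (.leaf 0)⟩
noncomputable def e1fL : List Lev := [e1fL0]
theorem e1fe : smC [0, 1, 2, 3, 4, 7] [] [] e1fT = true := by decide +kernel
theorem e1ftc : tchainChk 24 (nat_lit 5) (nat_lit 31) e1fT e1fL = true := by decide +kernel
theorem e1fc : band (tchainChk 24 (nat_lit 5) (nat_lit 31) e1fT e1fL) (Nat.ble (chainOrd 24 e1f0L) (chainOrd 24 e1fL)) = true := by decide +kernel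
theorem e1fch {C : H7.Coding GolayPt} (hC : GC C) : Ch (SM M24 C [0, 1, 2, 3, 4, 7] [] []) 24 5 31 C.dec e1fT e1fL :=
  ((hC.chSM (hC.ch m0c) e1f0e e1f0tc e1f0bk).ch (hC.sm e1fe) e1fc)
theorem e1fcard {C : H7.Coding GolayPt} (hC : GC C) : Nat.card (SM M24 C [0, 1, 2, 3, 4, 7] [] []) = 16 := (e1fch hC).card.trans (by decide +kernel)
noncomputable def m8t0 : ℕ := (nat_lit 0x4d9719c292321a2a92ee3bcaa1b020)
noncomputable def m8t1 : ℕ := (nat_lit 0x55a959896c73db08dc863a0a91c820)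
noncomputable def m8t2 : ℕ := (nat_lit 0x75a0c9ac5555db493d09390a61c420)
noncomputable def m8t3 : ℕ := (nat_lit 0x959069dde98ada470a153d0ac1a820)
noncomputable def m8t4 : ℕ := (nat_lit 0x936ae9a144a3ce262637b40a61ac20)
noncomputable def m8t5 : ℕ := (nat_lit 0x41eaf9dd26752cb14552690b01b020)
noncomputable def m8t6 : ℕ := (nat_lit 0xb5df4719abace2c81128148aa19c20)
noncomputable def m8t7 : ℕ := (nat_lit 0x6d6d499d6f812e98a980918ae18828)
noncomputable def m8t8 : ℕ := (nat_lit 0xba2a93c23278d8d22a96998ab70022)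
noncomputable def m8t9 : ℕ := (nat_lit 0xb5d74495ed8ba0aab26819a4438820)
noncomputable def m8t10 : ℕ := (nat_lit 0xbb61430a357aacc5b86124ca74c900)
noncomputable def m8T : Tr ℕ := (.node (nat_lit 5) (.node (nat_lit 2) (.node (nat_lit 1) (.leaf m8t0) (.leaf m8t1)) (.node (nat_lit 3) (.leaf m8t2) (.node (nat_lit 4) (.leaf m8t3) (.leaf m8t4))))
 (.node (nat_lit 8) (.node (nat_lit 6) (.leaf m8t5) (.node (nat_lit 7) (.leaf m8t6) (.leaf m8t7))) (.node (nat_lit 9) (.leaf m8t8) (.node (nat_lit 10) (.leaf m8t9) (.leaf m8t10)))))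
noncomputable def m8L0 : Lev := ⟨(nat_lit 1), (nat_lit 11), (nat_lit 0x60904050705060602010808040b030b08020a0809020008), (nat_lit 0x20202030302030303020303030302010302030303030002),
 (.leaf 0),
 (.leaf 0)⟩
noncomputable def m8L1 : Lev := ⟨(nat_lit 5), (nat_lit 10), (nat_lit 0x4070304090a030108040a0203040406080700060a020009), (nat_lit 0x20303030301030203030303020303020202000303020003),
 (.leaf 0),
 (.leaf 0)⟩
noncomputable def m8L2 : Lev := ⟨(nat_lit 3), (nat_lit 9), (nat_lit 0x30904050705040802090806040303010902000800050008), (nat_lit 0x20303020203030302010303020303020303000200030003),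
 (.leaf 0),
 (.leaf 0)⟩
noncomputable def m8L3 : Lev := ⟨(nat_lit 0), (nat_lit 8), (nat_lit 0x60804050705060602010808040503080802000800020000), (nat_lit 0x20302030302030303020303030302010302000300030000),
 (.leaf 0),
 (.leaf 0)⟩
noncomputable def m8L4 : Lev := ⟨(nat_lit 19), (nat_lit 7), (nat_lit 0x30704050005040702070706040303010502000300050000), (nat_lit 0x20303020003030302010403020303020403000400030000),
 (.leaf 0),
 (.leaf 0)⟩
noncomputable def m8L5 : Lev := ⟨(nat_lit 7), (nat_lit 6), (nat_lit 0x600000000000000000500000000000000000000000000), (nat_lit 0x100000000000000000100000000000000000000000000),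
 (.leaf 0),
 (.leaf 0)⟩
noncomputable def m8L6 : Lev := ⟨(nat_lit 2), (nat_lit 4), (nat_lit 0x40003030002030204040001030404040004000400000000), (nat_lit 0x20003020001010202030001020103040003000200000000),
 (.leaf 0),
 (.leaf 0)⟩
noncomputable def m8L : List Lev := [m8L0, m8L1, m8L2, m8L3, m8L4, m8L5, m8L6]
theorem m8c : band (m8T.all fun c => m24Chk (ap 5 31 c)) (band (tchainChk 24 5 31 m8T m8L) (Nat.ble 244823040 (chainOrd 24 m8L))) = true := by decide +kernel
noncomputable def e2st0 : ℕ := (nat_lit 0x859cf9a4d7a55aa4324b3c4a219020)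
noncomputable def e2st1 : ℕ := (nat_lit 0xabef494e11b196c69d28538a219020)
noncomputable def e2st2 : ℕ := (nat_lit 0x6d8cf4c910a2eec71e71554a018824)
noncomputable def e2st3 : ℕ := (nat_lit 0x4d9148ba6b7c8cc82af53b4a320022)
noncomputable def e2st4 : ℕ := (nat_lit 0x3da54855537b1ae5c4c8ba48510c20)
noncomputable def e2st5 : ℕ := (nat_lit 0xa3977629e88d8d3ac8f04b46128082)
noncomputable def e2sT : Tr ℕ := (.node (nat_lit 3) (.node (nat_lit 1) (.leaf e2st0) (.node (nat_lit 2) (.leaf e2st1) (.leaf e2st2))) (.node (nat_lit 4) (.leaf e2st3) (.node (nat_lit 5) (.leaf e2st4) (.leaf e2st5))))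
noncomputable def e2sL0 : Lev := ⟨(nat_lit 1), (nat_lit 6), (nat_lit 0x50604010003), (nat_lit 0x20102020002),
 (.leaf 0),
 (.leaf 0)⟩
noncomputable def e2sL1 : Lev := ⟨(nat_lit 5), (nat_lit 5), (nat_lit 0x504010003), (nat_lit 0x102020002),
 (.leaf 0),
 (.leaf 0)⟩
noncomputable def e2sL2 : Lev := ⟨(nat_lit 3), (nat_lit 4), (nat_lit 0x400010003), (nat_lit 0x100020002),
 (.leaf 0),
 (.leaf 0)⟩
noncomputable def e2sL3 : Lev := ⟨(nat_lit 0), (nat_lit 3), (nat_lit 0x300010000), (nat_lit 0x100020000),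
 (.leaf 0),
 (.leaf 0)⟩
noncomputable def e2sL4 : Lev := ⟨(nat_lit 19), (nat_lit 2), (nat_lit 0x2000000000000000001000000000000000000), (nat_lit 0x1000000000000000002000000000000000000),
 (.leaf 0),
 (.leaf 0)⟩
noncomputable def e2sL5 : Lev := ⟨(nat_lit 7), (nat_lit 1), (nat_lit 0x0), (nat_lit 0x0),
 (.leaf 0),
 (.leaf 0)⟩
noncomputable def e2sL6 : Lev := ⟨(nat_lit 2), (nat_lit 1), (nat_lit 0x100000000), (nat_lit 0x100000000),
 (.leaf 0),
 (.leaf 0)⟩
noncomputable def e2sL : List Lev := [e2sL0, e2sL1, e2sL2, e2sL3, e2sL4, e2sL5, e2sL6]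
theorem e2se : smC [] [63] [] e2sT = true := by decide +kernel
noncomputable def e2sJ : List Pr := [prSM 24 (allM [] [63]) []]
noncomputable def e2sF0 : ℕ × ℕ := ((nat_lit 0xffffffffffffffffffffffffffffffffffff000000000000), (nat_lit 0))
theorem e2sb0 : allR 0 24 (ptB 24 (nat_lit 5) (nat_lit 31) m8T e2sT e2sJ m8L0 [m8L1, m8L2, m8L3, m8L4, m8L5, m8L6] e2sL0 (dg []) e2sF0.1 e2sF0.2) = true := by decide +kernel
noncomputable def e2sF1 : ℕ × ℕ := ((nat_lit 0xffffffffffffffffffffffffffffffffffff000000000000), (nat_lit 0))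
theorem e2sb1 : allR 0 24 (ptB 24 (nat_lit 5) (nat_lit 31) m8T e2sT e2sJ m8L1 [m8L2, m8L3, m8L4, m8L5, m8L6] e2sL1 (dg [m8L0.b]) e2sF1.1 e2sF1.2) = true := by decide +kernel
noncomputable def e2sF2 : ℕ × ℕ := ((nat_lit 0xffffffffffffffffffffffffffffffffffff000000000000), (nat_lit 0))
theorem e2sb2 : allR 0 24 (ptB 24 (nat_lit 5) (nat_lit 31) m8T e2sT e2sJ m8L2 [m8L3, m8L4, m8L5, m8L6] e2sL2 (dg [m8L1.b, m8L0.b]) e2sF2.1 e2sF2.2) = true := by decide +kernel
noncomputable def e2sF3 : ℕ × ℕ := ((nat_lit 0xffffffffffffffffffffffffffffffffffff000000000000), (nat_lit 0))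
theorem e2sb3 : allR 0 24 (ptB 24 (nat_lit 5) (nat_lit 31) m8T e2sT e2sJ m8L3 [m8L4, m8L5, m8L6] e2sL3 (dg [m8L2.b, m8L1.b, m8L0.b]) e2sF3.1 e2sF3.2) = true := by decide +kernel
noncomputable def e2sF4 : ℕ × ℕ := ((nat_lit 0x101000000000000ffff01ff000000ff010100ff00ff0000), (nat_lit 0x20101010000020300000200010100000201000000000000))
theorem e2sb4 : allR 0 24 (ptB 24 (nat_lit 5) (nat_lit 31) m8T e2sT e2sJ m8L4 [m8L5, m8L6] e2sL4 (dg [m8L3.b, m8L2.b, m8L1.b, m8L0.b]) e2sF4.1 e2sF4.2) = true := by decide +kernel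
noncomputable def e2sF5 : ℕ × ℕ := ((nat_lit 0xff0000000000000000ff00000000000000000000000000), (nat_lit 0))
theorem e2sb5 : allR 0 24 (ptB 24 (nat_lit 5) (nat_lit 31) m8T e2sT e2sJ m8L5 [m8L6] e2sL5 (dg [m8L4.b, m8L3.b, m8L2.b, m8L1.b, m8L0.b]) e2sF5.1 e2sF5.2) = true := by decide +kernel
noncomputable def e2sF6 : ℕ × ℕ := ((nat_lit 0xff00ffff00ffffffffff00ffffffffff00ff000000000000), (nat_lit 0))
theorem e2sb6 : allR 0 24 (ptB 24 (nat_lit 5) (nat_lit 31) m8T e2sT e2sJ m8L6 [] e2sL6 (dg [m8L5.b, m8L4.b, m8L3.b, m8L2.b, m8L1.b, m8L0.b]) e2sF6.1 e2sF6.2) = true := by decide +kernel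
theorem e2sbk : Bk 24 (nat_lit 5) (nat_lit 31) m8T e2sT e2sJ m8L e2sL [e2sF0, e2sF1, e2sF2, e2sF3, e2sF4, e2sF5, e2sF6] [] :=
  ⟨rfl, e2sb0, rfl, e2sb1, rfl, e2sb2, rfl, e2sb3, rfl, e2sb4, rfl, e2sb5, rfl, e2sb6, trivial⟩
theorem e2stc : tchainChk 24 (nat_lit 5) (nat_lit 31) e2sT e2sL = true := by decide +kernel
theorem e2sch {C : H7.Coding GolayPt} (hC : GC C) : Ch (SM M24 C [] [63] []) 24 5 31 C.dec e2sT e2sL :=
  (hC.chSM (hC.ch m8c) e2se e2stc e2sbk)
theorem e2scard {C : H7.Coding GolayPt} (hC : GC C) : Nat.card (SM M24 C [] [63] []) = 2160 := (e2sch hC).card.trans (by decide +kernel)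
noncomputable def m9t0 : ℕ := (nat_lit 0x8bcd6925d5a5d674326d540a418820)
noncomputable def m9t1 : ℕ := (nat_lit 0x7520f4cee6b450a69e4b654a418820)
noncomputable def m9t2 : ℕ := (nat_lit 0x33a70abd349590c2aa2d3dd6418820)
noncomputable def m9t3 : ℕ := (nat_lit 0xa20b75c6464b5cc9a9f63c2a418820)
noncomputable def m9t4 : ℕ := (nat_lit 0xb5d879a8d07a4952c9c8a456d18820)
noncomputable def m9t5 : ℕ := (nat_lit 0xbd6d46c6467ae63729252410760820)
noncomputable def m9t6 : ℕ := (nat_lit 0xbda119ae9523862919282a8ef6b020)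
noncomputable def m9t7 : ℕ := (nat_lit 0x62ea99c8413a1b7b2a8e798a324600)
noncomputable def m9t8 : ℕ := (nat_lit 0x758696ca205de6c7aa8838485a88d0)
noncomputable def m9T : Tr ℕ := (.node (nat_lit 4) (.node (nat_lit 2) (.node (nat_lit 1) (.leaf m9t0) (.leaf m9t1)) (.node (nat_lit 3) (.leaf m9t2) (.leaf m9t3)))
 (.node (nat_lit 6) (.node (nat_lit 5) (.leaf m9t4) (.leaf m9t5)) (.node (nat_lit 7) (.leaf m9t6) (.node (nat_lit 8) (.leaf m9t7) (.leaf m9t8)))))
noncomputable def m9L0 : Lev := ⟨(nat_lit 0), (nat_lit 9), (nat_lit 0x30602030304050901010605040708060501040909080800), (nat_lit 0x30302020304030103040403040303040302030403040200),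
 (.leaf 0),
 (.leaf 0)⟩
noncomputable def m9L1 : Lev := ⟨(nat_lit 1), (nat_lit 8), (nat_lit 0x30602030304050801010605040708060501040706080000), (nat_lit 0x30302020304030103040403040303040302030404040000),
 (.leaf 0),
 (.leaf 0)⟩
noncomputable def m9L2 : Lev := ⟨(nat_lit 2), (nat_lit 7), (nat_lit 0x30605050305040103030707070102060207070606000000), (nat_lit 0x40302030303040304040301040204040203030302000000),
 (.leaf 0),
 (.leaf 0)⟩
noncomputable def m9L3 : Lev := ⟨(nat_lit 3), (nat_lit 6), (nat_lit 0x40605050305040103030506040102060202040600000000), (nat_lit 0x40302030303040304040401040204040203030300000000),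
 (.leaf 0),
 (.leaf 0)⟩
noncomputable def m9L4 : Lev := ⟨(nat_lit 4), (nat_lit 5), (nat_lit 0x20404010402010302040505020505010505030000000000), (nat_lit 0x30304040304030504020105020503020504030000000000),
 (.leaf 0),
 (.leaf 0)⟩
noncomputable def m9L5 : Lev := ⟨(nat_lit 5), (nat_lit 4), (nat_lit 0x30404030402010102040100030001020002000000000000), (nat_lit 0x30301030203040204030200010003020002000000000000),
 (.leaf 0),
 (.leaf 0)⟩
noncomputable def m9L6 : Lev := ⟨(nat_lit 6), (nat_lit 2), (nat_lit 0x1000000000200000000000000000000000000000000), (nat_lit 0x1000000000100000000000000000000000000000000),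
 (.leaf 0),
 (.leaf 0)⟩
noncomputable def m9L : List Lev := [m9L0, m9L1, m9L2, m9L3, m9L4, m9L5, m9L6]
theorem m9c : band (m9T.all fun c => m24Chk (ap 5 31 c)) (band (tchainChk 24 5 31 m9T m9L) (Nat.ble 244823040 (chainOrd 24 m9L))) = true := by decide +kernel
noncomputable def e2f0t0 : ℕ := (nat_lit 0x7520f4cee6b450a69e4b654a418820)
noncomputable def e2f0t1 : ℕ := (nat_lit 0x8bcd6925d5a5d674326d540a418820)
noncomputable def e2f0T : Tr ℕ := (.node (nat_lit 1) (.leaf e2f0t0) (.leaf e2f0t1))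
noncomputable def e2f0L0 : Lev := ⟨(nat_lit 0), (nat_lit 2), (nat_lit 0x0), (nat_lit 0x0),
 (.leaf 0),
 (.leaf 0)⟩
noncomputable def e2f0L1 : Lev := ⟨(nat_lit 1), (nat_lit 2), (nat_lit 0x0), (nat_lit 0x0),
 (.leaf 0),
 (.leaf 0)⟩
noncomputable def e2f0L2 : Lev := ⟨(nat_lit 2), (nat_lit 2), (nat_lit 0x0), (nat_lit 0x0),
 (.leaf 0),
 (.leaf 0)⟩
noncomputable def e2f0L3 : Lev := ⟨(nat_lit 3), (nat_lit 2), (nat_lit 0x0), (nat_lit 0x0),
 (.leaf 0),
 (.leaf 0)⟩
noncomputable def e2f0L4 : Lev := ⟨(nat_lit 4), (nat_lit 2), (nat_lit 0x0), (nat_lit 0x0),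
 (.leaf 0),
 (.leaf 0)⟩
noncomputable def e2f0L5 : Lev := ⟨(nat_lit 5), (nat_lit 2), (nat_lit 0x0), (nat_lit 0x0),
 (.leaf 0),
 (.leaf 0)⟩
noncomputable def e2f0L6 : Lev := ⟨(nat_lit 6), (nat_lit 2), (nat_lit 0x2000000000100000000000000000000000000000000), (nat_lit 0x1000000000100000000000000000000000000000000),
 (.leaf 0),
 (.leaf 0)⟩
noncomputable def e2f0L : List Lev := [e2f0L0, e2f0L1, e2f0L2, e2f0L3, e2f0L4, e2f0L5, e2f0L6]
theorem e2f0e : smC [0, 1, 2, 3, 4, 5] [] [] e2f0T = true := by decide +kernel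
noncomputable def e2f0J : List Pr := [prSM 24 (allM [0, 1, 2, 3, 4, 5] []) []]
noncomputable def e2f0F0 : ℕ × ℕ := ((nat_lit 0xffffffffffffffffffffffffffffffffffffffffffffff00), (nat_lit 0))
theorem e2f0b0 : allR 0 24 (ptB 24 (nat_lit 5) (nat_lit 31) m9T e2f0T e2f0J m9L0 [m9L1, m9L2, m9L3, m9L4, m9L5, m9L6] e2f0L0 (dg []) e2f0F0.1 e2f0F0.2) = true := by decide +kernel
noncomputable def e2f0F1 : ℕ × ℕ := ((nat_lit 0xffffffffffffffffffffffffffffffffffffffffffff0000), (nat_lit 0))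
theorem e2f0b1 : allR 0 24 (ptB 24 (nat_lit 5) (nat_lit 31) m9T e2f0T e2f0J m9L1 [m9L2, m9L3, m9L4, m9L5, m9L6] e2f0L1 (dg [m9L0.b]) e2f0F1.1 e2f0F1.2) = true := by decide +kernel
noncomputable def e2f0F2 : ℕ × ℕ := ((nat_lit 0xffffffffffffffffffffffffffffffffffffffffff000000), (nat_lit 0))
theorem e2f0b2 : allR 0 24 (ptB 24 (nat_lit 5) (nat_lit 31) m9T e2f0T e2f0J m9L2 [m9L3, m9L4, m9L5, m9L6] e2f0L2 (dg [m9L1.b, m9L0.b]) e2f0F2.1 e2f0F2.2) = true := by decide +kernel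
noncomputable def e2f0F3 : ℕ × ℕ := ((nat_lit 0xffffffffffffffffffffffffffffffffffffffff00000000), (nat_lit 0))
theorem e2f0b3 : allR 0 24 (ptB 24 (nat_lit 5) (nat_lit 31) m9T e2f0T e2f0J m9L3 [m9L4, m9L5, m9L6] e2f0L3 (dg [m9L2.b, m9L1.b, m9L0.b]) e2f0F3.1 e2f0F3.2) = true := by decide +kernel
noncomputable def e2f0F4 : ℕ × ℕ := ((nat_lit 0xffffffffffffffffffffffffffffffffffffff0000000000), (nat_lit 0))
theorem e2f0b4 : allR 0 24 (ptB 24 (nat_lit 5) (nat_lit 31) m9T e2f0T e2f0J m9L4 [m9L5, m9L6] e2f0L4 (dg [m9L3.b, m9L2.b, m9L1.b, m9L0.b]) e2f0F4.1 e2f0F4.2) = true := by decide +kernel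
noncomputable def e2f0F5 : ℕ × ℕ := ((nat_lit 0xffffffffffffffffffffff00ff00ffff00ff000000000000), (nat_lit 0))
theorem e2f0b5 : allR 0 24 (ptB 24 (nat_lit 5) (nat_lit 31) m9T e2f0T e2f0J m9L5 [m9L6] e2f0L5 (dg [m9L4.b, m9L3.b, m9L2.b, m9L1.b, m9L0.b]) e2f0F5.1 e2f0F5.2) = true := by decide +kernel
noncomputable def e2f0F6 : ℕ × ℕ := ((nat_lit 0), (nat_lit 0))
theorem e2f0b6 : allR 0 24 (ptB 24 (nat_lit 5) (nat_lit 31) m9T e2f0T e2f0J m9L6 [] e2f0L6 (dg [m9L5.b, m9L4.b, m9L3.b, m9L2.b, m9L1.b, m9L0.b]) e2f0F6.1 e2f0F6.2) = true := by decide +kernel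
theorem e2f0bk : Bk 24 (nat_lit 5) (nat_lit 31) m9T e2f0T e2f0J m9L e2f0L [e2f0F0, e2f0F1, e2f0F2, e2f0F3, e2f0F4, e2f0F5, e2f0F6] [] :=
  ⟨rfl, e2f0b0, rfl, e2f0b1, rfl, e2f0b2, rfl, e2f0b3, rfl, e2f0b4, rfl, e2f0b5, rfl, e2f0b6, trivial⟩
theorem e2f0tc : tchainChk 24 (nat_lit 5) (nat_lit 31) e2f0T e2f0L = true := by decide +kernel
noncomputable def e2ft0 : ℕ := (nat_lit 0x8bcd6925d5a5d674326d540a418820)
noncomputable def e2ft1 : ℕ := (nat_lit 0x7520f4cee6b450a69e4b654a418820)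
noncomputable def e2fT : Tr ℕ := (.node (nat_lit 1) (.leaf e2ft0) (.leaf e2ft1))
noncomputable def e2fL0 : Lev := ⟨(nat_lit 6), (nat_lit 2), (nat_lit 0x1000000000200000000000000000000000000000000), (nat_lit 0x1000000000100000000000000000000000000000000),
 (.leaf 0),
 (.leaf 0)⟩
noncomputable def e2fL : List Lev := [e2fL0]
theorem e2fe : smC [0, 1, 2, 3, 4, 5] [] [] e2fT = true := by decide +kernel
theorem e2ftc : tchainChk 24 (nat_lit 5) (nat_lit 31) e2fT e2fL = true := by decide +kernel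
theorem e2fc : band (tchainChk 24 (nat_lit 5) (nat_lit 31) e2fT e2fL) (Nat.ble (chainOrd 24 e2f0L) (chainOrd 24 e2fL)) = true := by decide +kernel
theorem e2fch {C : H7.Coding GolayPt} (hC : GC C) : Ch (SM M24 C [0, 1, 2, 3, 4, 5] [] []) 24 5 31 C.dec e2fT e2fL :=
  ((hC.chSM (hC.ch m9c) e2f0e e2f0tc e2f0bk).ch (hC.sm e2fe) e2fc)
theorem e2fcard {C : H7.Coding GolayPt} (hC : GC C) : Nat.card (SM M24 C [0, 1, 2, 3, 4, 5] [] []) = 3 := (e2fch hC).card.trans (by decide +kernel)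
noncomputable def e3t0 : ℕ := (nat_lit 0xabee5339abb4a2c829093ce8418820)
noncomputable def e3t1 : ℕ := (nat_lit 0x7d6c971a11bcd6c6aa853c90418820)
noncomputable def e3t2 : ℕ := (nat_lit 0x9c8cbbd90573d2ca29b13d60418820)
noncomputable def e3t3 : ℕ := (nat_lit 0x2a695835d34464c32acf3aee418820)
noncomputable def e3t4 : ℕ := (nat_lit 0xacaf035a3473daa2b1283cd6320820)
noncomputable def e3t5 : ℕ := (nat_lit 0x7a6958ca6ebc1aa5b2c53990410c20)
noncomputable def e3t6 : ℕ := (nat_lit 0x93a74ade303596c6a9253bd0209060)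
noncomputable def e3t7 : ℕ := (nat_lit 0xb9a954362f83a4c4a9733d8a400443)
noncomputable def e3t8 : ℕ := (nat_lit 0x751769a6287dccca9e50534a418022)
noncomputable def e3T : Tr ℕ := (.node (nat_lit 4) (.node (nat_lit 2) (.node (nat_lit 1) (.leaf e3t0) (.leaf e3t1)) (.node (nat_lit 3) (.leaf e3t2) (.leaf e3t3)))
 (.node (nat_lit 6) (.node (nat_lit 5) (.leaf e3t4) (.leaf e3t5)) (.node (nat_lit 7) (.leaf e3t6) (.node (nat_lit 8) (.leaf e3t7) (.leaf e3t8)))))
noncomputable def e3L0 : Lev := ⟨(nat_lit 7), (nat_lit 9), (nat_lit 0x5000900000000000000000000), (nat_lit 0x2000100000000000000000000),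
 (.leaf 0),
 (.leaf 0)⟩
noncomputable def e3L1 : Lev := ⟨(nat_lit 0), (nat_lit 8), (nat_lit 0x508060700), (nat_lit 0x201020200),
 (.leaf 0),
 (.leaf 0)⟩
noncomputable def e3L2 : Lev := ⟨(nat_lit 1), (nat_lit 7), (nat_lit 0x507060000), (nat_lit 0x201020000),
 (.leaf 0),
 (.leaf 0)⟩
noncomputable def e3L3 : Lev := ⟨(nat_lit 2), (nat_lit 6), (nat_lit 0x506000000), (nat_lit 0x201000000),
 (.leaf 0),
 (.leaf 0)⟩
noncomputable def e3L4 : Lev := ⟨(nat_lit 3), (nat_lit 5), (nat_lit 0x500000000), (nat_lit 0x100000000),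
 (.leaf 0),
 (.leaf 0)⟩
noncomputable def e3L5 : Lev := ⟨(nat_lit 5), (nat_lit 4), (nat_lit 0x40404010404030304040300030002020004000000000000), (nat_lit 0x10302010204020102030300020002010003000000000000),
 (.leaf 0),
 (.leaf 0)⟩
noncomputable def e3L : List Lev := [e3L0, e3L1, e3L2, e3L3, e3L4, e3L5]
theorem e3e : smC [] [31, 5248, 16771936] [] e3T = true := by decide +kernel
theorem e3p : band (tchainChk 24 5 31 e3T e3L) (band (allL [(5248, 7)] fun D => memL [31, 5248, 16771936] D.1) (mvChk 24 [(5248, 7)] e3L [])) = true := by decide +kernel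
noncomputable def e4t0 : ℕ := (nat_lit 0x952168de757a5ac41dcb518a320820)
noncomputable def e4t1 : ℕ := (nat_lit 0x9bcd4bb930b490a5b22d3d4a320820)
noncomputable def e4t2 : ℕ := (nat_lit 0x859cf9a4d7a55aa4324b3c4a219020)
noncomputable def e4t3 : ℕ := (nat_lit 0x7ba71a9a89bd9ac5aa083c8a110c80)
noncomputable def e4t4 : ℕ := (nat_lit 0x5be149a5b5b2227baa4e618a018824)
noncomputable def e4t5 : ℕ := (nat_lit 0x6c22e496b65d2ec7aa663a24418820)
noncomputable def e4T : Tr ℕ := (.node (nat_lit 3) (.node (nat_lit 1) (.leaf e4t0) (.node (nat_lit 2) (.leaf e4t1) (.leaf e4t2))) (.node (nat_lit 4) (.leaf e4t3) (.node (nat_lit 5) (.leaf e4t4) (.leaf e4t5))))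
noncomputable def e4L0 : Lev := ⟨(nat_lit 5), (nat_lit 6), (nat_lit 0x10403060206020304020600050003050004000000000000), (nat_lit 0x20303030301030303020300030002030002000000000000),
 (.leaf 0),
 (.leaf 0)⟩
noncomputable def e4L1 : Lev := ⟨(nat_lit 0), (nat_lit 5), (nat_lit 0x501030400), (nat_lit 0x102020200),
 (.leaf 0),
 (.leaf 0)⟩
noncomputable def e4L2 : Lev := ⟨(nat_lit 1), (nat_lit 4), (nat_lit 0x401030000), (nat_lit 0x102020000),
 (.leaf 0),
 (.leaf 0)⟩
noncomputable def e4L3 : Lev := ⟨(nat_lit 6), (nat_lit 3), (nat_lit 0x30002000102030100030000000002000000000000000000), (nat_lit 0x30001000203010200020000000002000000000000000000),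
 (.leaf 0),
 (.leaf 0)⟩
noncomputable def e4L4 : Lev := ⟨(nat_lit 3), (nat_lit 1), (nat_lit 0x100000000), (nat_lit 0x100000000),
 (.leaf 0),
 (.leaf 0)⟩
noncomputable def e4L : List Lev := [e4L0, e4L1, e4L2, e4L3, e4L4]
theorem e4e : smC [] [31, 5248, 16771936] [] e4T = true := by decide +kernel
theorem e4p : band (tchainChk 24 5 31 e4T e4L) (band (allL [(16771936, 5)] fun D => memL [31, 5248, 16771936] D.1) (mvChk 24 [(16771936, 5)] e4L [])) = true := by decide +kernel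
noncomputable def y3t0 : ℕ := (nat_lit 0x8bcd6925d5a5d674326d540a418820)
noncomputable def y3t1 : ℕ := (nat_lit 0x7520f4cee6b450a69e4b654a418820)
noncomputable def y3t2 : ℕ := (nat_lit 0xbc2954c9d6345ac41e6b53ca418440)
noncomputable def y3t3 : ℕ := (nat_lit 0xabee5339abb4a2c829093ce8418820)
noncomputable def y3t4 : ℕ := (nat_lit 0x5bab4248ca3d9a8bc0ac7c53318820)
noncomputable def y3t5 : ℕ := (nat_lit 0xbb4ee9c9501d2cb644a8a992478440)
noncomputable def y3t6 : ℕ := (nat_lit 0x43d256c8d0b3a6c5aab73c68320022)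
noncomputable def y3T : Tr ℕ := (.node (nat_lit 3) (.node (nat_lit 1) (.leaf y3t0) (.node (nat_lit 2) (.leaf y3t1) (.leaf y3t2)))
 (.node (nat_lit 5) (.node (nat_lit 4) (.leaf y3t3) (.leaf y3t4)) (.node (nat_lit 6) (.leaf y3t5) (.leaf y3t6))))
noncomputable def y3L0 : Lev := ⟨(nat_lit 0), (nat_lit 7), (nat_lit 0x70300), (nat_lit 0x10200),
 (.leaf 0),
 (.leaf 0)⟩
noncomputable def y3L1 : Lev := ⟨(nat_lit 3), (nat_lit 6), (nat_lit 0x20103020404050306050601040205010503040500000000), (nat_lit 0x40203020304030301030303040304040202030400000000),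
 (.leaf 0),
 (.leaf 0)⟩
noncomputable def y3L2 : Lev := ⟨(nat_lit 4), (nat_lit 5), (nat_lit 0x20501040502050203040205010501040504050000000000), (nat_lit 0x40403040102030303030404040402030402030000000000),
 (.leaf 0),
 (.leaf 0)⟩
noncomputable def y3L3 : Lev := ⟨(nat_lit 5), (nat_lit 4), (nat_lit 0x40203040402020301010100040001020003000000000000), (nat_lit 0x30202010405040302040500040005050003000000000000),
 (.leaf 0),
 (.leaf 0)⟩
noncomputable def y3L4 : Lev := ⟨(nat_lit 1), (nat_lit 3), (nat_lit 0x30000), (nat_lit 0x10000),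
 (.leaf 0),
 (.leaf 0)⟩
noncomputable def y3L5 : Lev := ⟨(nat_lit 6), (nat_lit 2), (nat_lit 0x1000000000200000000000000000000000000000000), (nat_lit 0x1000000000100000000000000000000000000000000),
 (.leaf 0),
 (.leaf 0)⟩
noncomputable def y3L : List Lev := [y3L0, y3L1, y3L2, y3L3, y3L4, y3L5]
theorem y3e : smC [] [7] [] y3T = true := by decide +kernel
noncomputable def y3W : Tr (List ℕ) := (.node (nat_lit 786440) (.node (nat_lit 73744) (.node (nat_lit 16424) (.node (nat_lit 3584) (.node (nat_lit 1160) (.node (nat_lit 536) (.node (nat_lit 280) (.node (nat_lit 168) (.node (nat_lit 104) (.node (nat_lit 88) (.leaf []) (.leaf [nat_lit 2, nat_lit 1, nat_lit 3])) (.node (nat_lit 112) (.leaf [nat_lit 3, nat_lit 4, nat_lit 3]) (.node (nat_lit 152) (.leaf [nat_lit 3, nat_lit 0, nat_lit 5]) (.leaf []))))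
 (.node (nat_lit 200) (.node (nat_lit 176) (.leaf [nat_lit 4, nat_lit 1, nat_lit 4, nat_lit 3]) (.leaf [nat_lit 5, nat_lit 2, nat_lit 0, nat_lit 5])) (.node (nat_lit 208) (.leaf [nat_lit 3, nat_lit 4, nat_lit 1, nat_lit 3]) (.node (nat_lit 224) (.leaf [nat_lit 2, nat_lit 0, nat_lit 5, nat_lit 6, nat_lit 4]) (.leaf [nat_lit 2, nat_lit 5, nat_lit 1, nat_lit 4, nat_lit 0, nat_lit 3])))))
 (.node (nat_lit 352) (.node (nat_lit 304) (.node (nat_lit 296) (.leaf [nat_lit 6, nat_lit 3, nat_lit 2, nat_lit 3]) (.leaf [nat_lit 6, nat_lit 0, nat_lit 5, nat_lit 3])) (.node (nat_lit 328) (.leaf [nat_lit 1, nat_lit 6, nat_lit 4, nat_lit 3]) (.node (nat_lit 336) (.leaf [nat_lit 3, nat_lit 4]) (.leaf [nat_lit 2, nat_lit 5, nat_lit 1]))))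
 (.node (nat_lit 400) (.node (nat_lit 392) (.leaf [nat_lit 4, nat_lit 2, nat_lit 4, nat_lit 3, nat_lit 5]) (.leaf [nat_lit 1, nat_lit 4, nat_lit 0, nat_lit 3, nat_lit 4])) (.node (nat_lit 416) (.leaf [nat_lit 3, nat_lit 4, nat_lit 5, nat_lit 4]) (.node (nat_lit 448) (.leaf [nat_lit 1, nat_lit 5, nat_lit 1, nat_lit 5, nat_lit 4, nat_lit 3]) (.leaf [nat_lit 2, nat_lit 5, nat_lit 4, nat_lit 3, nat_lit 4]))))))
 (.node (nat_lit 776) (.node (nat_lit 608) (.node (nat_lit 560) (.node (nat_lit 552) (.leaf [nat_lit 6, nat_lit 2, nat_lit 3]) (.leaf [nat_lit 0, nat_lit 4, nat_lit 1, nat_lit 4])) (.node (nat_lit 584) (.leaf [nat_lit 3, nat_lit 0, nat_lit 5, nat_lit 1]) (.node (nat_lit 592) (.leaf [nat_lit 2, nat_lit 4]) (.leaf [nat_lit 0, nat_lit 6, nat_lit 1, nat_lit 4]))))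
 (.node (nat_lit 656) (.node (nat_lit 648) (.leaf [nat_lit 2, nat_lit 5, nat_lit 4]) (.leaf [nat_lit 1, nat_lit 4, nat_lit 2, nat_lit 0, nat_lit 3])) (.node (nat_lit 672) (.leaf [nat_lit 4, nat_lit 5, nat_lit 4]) (.node (nat_lit 704) (.leaf [nat_lit 4, nat_lit 5, nat_lit 0, nat_lit 4, nat_lit 1, nat_lit 4]) (.leaf [nat_lit 4, nat_lit 6, nat_lit 3, nat_lit 5, nat_lit 4])))))
 (.node (nat_lit 1048) (.node (nat_lit 800) (.node (nat_lit 784) (.leaf [nat_lit 2, nat_lit 4, nat_lit 3, nat_lit 2, nat_lit 3]) (.leaf [nat_lit 5, nat_lit 1, nat_lit 6, nat_lit 4, nat_lit 3])) (.node (nat_lit 832) (.leaf [nat_lit 4, nat_lit 1, nat_lit 4, nat_lit 5]) (.node (nat_lit 896) (.leaf [nat_lit 1, nat_lit 4, nat_lit 5, nat_lit 1, nat_lit 5, nat_lit 3]) (.leaf [nat_lit 1, nat_lit 4, nat_lit 6, nat_lit 4, nat_lit 0]))))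
 (.node (nat_lit 1096) (.node (nat_lit 1064) (.leaf [nat_lit 0]) (.node (nat_lit 1072) (.leaf [nat_lit 4, nat_lit 1, nat_lit 4, nat_lit 2, nat_lit 3]) (.leaf [nat_lit 3, nat_lit 0, nat_lit 5, nat_lit 2, nat_lit 3]))) (.node (nat_lit 1104) (.leaf [nat_lit 3, nat_lit 4, nat_lit 2, nat_lit 0, nat_lit 3]) (.node (nat_lit 1120) (.leaf [nat_lit 2, nat_lit 5, nat_lit 2, nat_lit 3]) (.leaf [nat_lit 2, nat_lit 5, nat_lit 2, nat_lit 4, nat_lit 3])))))))
 (.node (nat_lit 2184) (.node (nat_lit 1552) (.node (nat_lit 1296) (.node (nat_lit 1184) (.node (nat_lit 1168) (.leaf [nat_lit 4, nat_lit 0, nat_lit 3, nat_lit 4]) (.leaf [nat_lit 4, nat_lit 5, nat_lit 4, nat_lit 0])) (.node (nat_lit 1216) (.leaf [nat_lit 4, nat_lit 5, nat_lit 0, nat_lit 3, nat_lit 4, nat_lit 3]) (.node (nat_lit 1288) (.leaf [nat_lit 3, nat_lit 4, nat_lit 5, nat_lit 2, nat_lit 0, nat_lit 3]) (.leaf [nat_lit 3, nat_lit 2, nat_lit 4, nat_lit 1, nat_lit 3]))))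
 (.node (nat_lit 1344) (.node (nat_lit 1312) (.leaf [nat_lit 6, nat_lit 1, nat_lit 4, nat_lit 3, nat_lit 4]) (.leaf [nat_lit 4, nat_lit 1, nat_lit 4, nat_lit 5])) (.node (nat_lit 1408) (.leaf [nat_lit 5, nat_lit 3, nat_lit 4, nat_lit 6, nat_lit 4, nat_lit 3]) (.node (nat_lit 1544) (.leaf [nat_lit 5, nat_lit 1, nat_lit 5, nat_lit 3, nat_lit 5, nat_lit 4]) (.leaf [nat_lit 2, nat_lit 4, nat_lit 1, nat_lit 3])))))
 (.node (nat_lit 2072) (.node (nat_lit 1600) (.node (nat_lit 1568) (.leaf [nat_lit 0, nat_lit 4, nat_lit 5, nat_lit 0, nat_lit 4]) (.leaf [nat_lit 2, nat_lit 4, nat_lit 5])) (.node (nat_lit 1664) (.leaf [nat_lit 2, nat_lit 5, nat_lit 4, nat_lit 2, nat_lit 3]) (.node (nat_lit 1792) (.leaf [nat_lit 1, nat_lit 4, nat_lit 1, nat_lit 6, nat_lit 4]) (.leaf [nat_lit 1, nat_lit 4, nat_lit 5, nat_lit 3, nat_lit 5]))))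
 (.node (nat_lit 2120) (.node (nat_lit 2088) (.leaf [nat_lit 3, nat_lit 2, nat_lit 0, nat_lit 3]) (.node (nat_lit 2096) (.leaf [nat_lit 0, nat_lit 6, nat_lit 0, nat_lit 5]) (.leaf [nat_lit 0, nat_lit 6, nat_lit 4, nat_lit 3]))) (.node (nat_lit 2128) (.leaf [nat_lit 3, nat_lit 4, nat_lit 0]) (.node (nat_lit 2144) (.leaf [nat_lit 0, nat_lit 6, nat_lit 4]) (.leaf [nat_lit 3, nat_lit 4, nat_lit 0, nat_lit 5, nat_lit 2, nat_lit 3]))))))
 (.node (nat_lit 2576) (.node (nat_lit 2320) (.node (nat_lit 2208) (.node (nat_lit 2192) (.leaf [nat_lit 4, nat_lit 6, nat_lit 3, nat_lit 5]) (.leaf [nat_lit 6, nat_lit 4, nat_lit 6, nat_lit 3, nat_lit 5])) (.node (nat_lit 2240) (.leaf [nat_lit 5, nat_lit 1, nat_lit 4, nat_lit 5, nat_lit 0]) (.node (nat_lit 2312) (.leaf [nat_lit 4, nat_lit 5, nat_lit 1, nat_lit 4, nat_lit 3, nat_lit 4]) (.leaf [nat_lit 3, nat_lit 1, nat_lit 4, nat_lit 2, nat_lit 3]))))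
 (.node (nat_lit 2368) (.node (nat_lit 2336) (.leaf [nat_lit 1, nat_lit 5, nat_lit 3, nat_lit 5]) (.leaf [nat_lit 5, nat_lit 1, nat_lit 4, nat_lit 5, nat_lit 0, nat_lit 3])) (.node (nat_lit 2432) (.leaf [nat_lit 3, nat_lit 2, nat_lit 1, nat_lit 5, nat_lit 0, nat_lit 4]) (.node (nat_lit 2568) (.leaf [nat_lit 2, nat_lit 3, nat_lit 2, nat_lit 4, nat_lit 5, nat_lit 3]) (.leaf [nat_lit 1, nat_lit 4, nat_lit 1])))))
 (.node (nat_lit 3080) (.node (nat_lit 2624) (.node (nat_lit 2592) (.leaf [nat_lit 0, nat_lit 6, nat_lit 0, nat_lit 4]) (.leaf [nat_lit 5, nat_lit 1, nat_lit 4, nat_lit 5])) (.node (nat_lit 2688) (.leaf [nat_lit 2, nat_lit 5, nat_lit 4, nat_lit 1]) (.node (nat_lit 2816) (.leaf [nat_lit 5, nat_lit 6, nat_lit 1, nat_lit 4, nat_lit 5, nat_lit 3]) (.leaf [nat_lit 3, nat_lit 1, nat_lit 4, nat_lit 6, nat_lit 4]))))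
 (.node (nat_lit 3136) (.node (nat_lit 3088) (.leaf [nat_lit 4, nat_lit 0, nat_lit 3, nat_lit 0, nat_lit 4]) (.node (nat_lit 3104) (.leaf [nat_lit 0, nat_lit 6, nat_lit 4, nat_lit 1, nat_lit 3]) (.leaf [nat_lit 5, nat_lit 2, nat_lit 4, nat_lit 3, nat_lit 5]))) (.node (nat_lit 3200) (.leaf [nat_lit 2, nat_lit 4, nat_lit 5, nat_lit 1, nat_lit 3, nat_lit 4]) (.node (nat_lit 3328) (.leaf [nat_lit 4, nat_lit 5, nat_lit 0, nat_lit 3, nat_lit 0, nat_lit 4]) (.leaf [nat_lit 3, nat_lit 2, nat_lit 4, nat_lit 5, nat_lit 3]))))))))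
 (.node (nat_lit 8272) (.node (nat_lit 4736) (.node (nat_lit 4288) (.node (nat_lit 4176) (.node (nat_lit 4136) (.node (nat_lit 4120) (.leaf [nat_lit 0, nat_lit 4, nat_lit 5, nat_lit 0, nat_lit 4, nat_lit 3]) (.leaf [nat_lit 1])) (.node (nat_lit 4144) (.leaf [nat_lit 1, nat_lit 4, nat_lit 1, nat_lit 4, nat_lit 3]) (.node (nat_lit 4168) (.leaf [nat_lit 5, nat_lit 0, nat_lit 6, nat_lit 0, nat_lit 4]) (.leaf [nat_lit 2, nat_lit 5, nat_lit 2, nat_lit 3, nat_lit 4]))))
 (.node (nat_lit 4232) (.node (nat_lit 4192) (.leaf [nat_lit 6, nat_lit 4, nat_lit 3, nat_lit 4]) (.leaf [nat_lit 2, nat_lit 5, nat_lit 1, nat_lit 4, nat_lit 1])) (.node (nat_lit 4240) (.leaf [nat_lit 4, nat_lit 3, nat_lit 1, nat_lit 4]) (.node (nat_lit 4256) (.leaf [nat_lit 4, nat_lit 5, nat_lit 4, nat_lit 1]) (.leaf [nat_lit 4, nat_lit 5, nat_lit 6, nat_lit 0, nat_lit 5, nat_lit 3])))))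
 (.node (nat_lit 4480) (.node (nat_lit 4368) (.node (nat_lit 4360) (.leaf [nat_lit 6, nat_lit 4, nat_lit 5, nat_lit 3, nat_lit 4]) (.leaf [nat_lit 3, nat_lit 1, nat_lit 4, nat_lit 1, nat_lit 3])) (.node (nat_lit 4384) (.leaf [nat_lit 1, nat_lit 6, nat_lit 4, nat_lit 1, nat_lit 3]) (.node (nat_lit 4416) (.leaf [nat_lit 3, nat_lit 1, nat_lit 4, nat_lit 5, nat_lit 3]) (.leaf [nat_lit 3, nat_lit 4, nat_lit 1, nat_lit 6, nat_lit 4, nat_lit 3]))))
 (.node (nat_lit 4624) (.node (nat_lit 4616) (.leaf [nat_lit 4, nat_lit 1, nat_lit 6, nat_lit 4, nat_lit 5]) (.leaf [nat_lit 1, nat_lit 4, nat_lit 1, nat_lit 3])) (.node (nat_lit 4640) (.leaf [nat_lit 5, nat_lit 0, nat_lit 6, nat_lit 4, nat_lit 3]) (.node (nat_lit 4672) (.leaf [nat_lit 1, nat_lit 4, nat_lit 5]) (.leaf [nat_lit 2, nat_lit 5, nat_lit 4, nat_lit 3, nat_lit 2, nat_lit 3]))))))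
 (.node (nat_lit 6160) (.node (nat_lit 5184) (.node (nat_lit 5128) (.node (nat_lit 4864) (.leaf [nat_lit 2, nat_lit 4, nat_lit 1, nat_lit 6, nat_lit 4]) (.leaf [nat_lit 1, nat_lit 4, nat_lit 5, nat_lit 0, nat_lit 3])) (.node (nat_lit 5136) (.leaf [nat_lit 4, nat_lit 0, nat_lit 3, nat_lit 4, nat_lit 0]) (.node (nat_lit 5152) (.leaf [nat_lit 5, nat_lit 6, nat_lit 3, nat_lit 4, nat_lit 0]) (.leaf [nat_lit 4, nat_lit 1, nat_lit 4, nat_lit 6, nat_lit 4]))))
 (.node (nat_lit 5376) (.node (nat_lit 5248) (.leaf [nat_lit 2, nat_lit 5, nat_lit 1, nat_lit 3, nat_lit 4]) (.leaf [nat_lit 4, nat_lit 5, nat_lit 0, nat_lit 3, nat_lit 4, nat_lit 0])) (.node (nat_lit 5632) (.leaf [nat_lit 1, nat_lit 5, nat_lit 1, nat_lit 5, nat_lit 3, nat_lit 4]) (.node (nat_lit 6152) (.leaf [nat_lit 5, nat_lit 3, nat_lit 0, nat_lit 5, nat_lit 3, nat_lit 4]) (.leaf [nat_lit 4, nat_lit 3, nat_lit 2, nat_lit 4, nat_lit 3])))))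
 (.node (nat_lit 6656) (.node (nat_lit 6208) (.node (nat_lit 6176) (.leaf [nat_lit 0, nat_lit 5, nat_lit 1, nat_lit 5, nat_lit 3]) (.leaf [nat_lit 0, nat_lit 5, nat_lit 1, nat_lit 5, nat_lit 4, nat_lit 3])) (.node (nat_lit 6272) (.leaf [nat_lit 2, nat_lit 1, nat_lit 6, nat_lit 4, nat_lit 5]) (.node (nat_lit 6400) (.leaf [nat_lit 4, nat_lit 5, nat_lit 3, nat_lit 2, nat_lit 4, nat_lit 3]) (.leaf [nat_lit 3, nat_lit 1, nat_lit 4, nat_lit 5]))))
 (.node (nat_lit 8232) (.node (nat_lit 7168) (.leaf [nat_lit 0, nat_lit 6, nat_lit 4, nat_lit 2, nat_lit 1, nat_lit 5]) (.node (nat_lit 8216) (.leaf [nat_lit 5, nat_lit 4, nat_lit 3, nat_lit 5, nat_lit 4, nat_lit 5]) (.leaf [nat_lit 1, nat_lit 3, nat_lit 2, nat_lit 0, nat_lit 3]))) (.node (nat_lit 8240) (.leaf [nat_lit 6, nat_lit 0, nat_lit 5]) (.node (nat_lit 8264) (.leaf [nat_lit 6, nat_lit 4, nat_lit 3]) (.leaf [nat_lit 6, nat_lit 4, nat_lit 2, nat_lit 5])))))))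
 (.node (nat_lit 9344) (.node (nat_lit 8576) (.node (nat_lit 8384) (.node (nat_lit 8328) (.node (nat_lit 8288) (.leaf [nat_lit 2, nat_lit 5, nat_lit 0, nat_lit 3]) (.leaf [nat_lit 2, nat_lit 5, nat_lit 1, nat_lit 4])) (.node (nat_lit 8336) (.leaf [nat_lit 2, nat_lit 4, nat_lit 0, nat_lit 3, nat_lit 4]) (.node (nat_lit 8352) (.leaf [nat_lit 6, nat_lit 4, nat_lit 1, nat_lit 3]) (.leaf [nat_lit 2, nat_lit 5, nat_lit 1, nat_lit 5, nat_lit 4, nat_lit 3]))))
 (.node (nat_lit 8464) (.node (nat_lit 8456) (.leaf [nat_lit 3, nat_lit 4, nat_lit 5, nat_lit 2, nat_lit 1, nat_lit 3]) (.leaf [nat_lit 3, nat_lit 1, nat_lit 4, nat_lit 0, nat_lit 3])) (.node (nat_lit 8480) (.leaf [nat_lit 5, nat_lit 3, nat_lit 5]) (.node (nat_lit 8512) (.leaf [nat_lit 6, nat_lit 4, nat_lit 1, nat_lit 3, nat_lit 5]) (.leaf [nat_lit 6, nat_lit 4, nat_lit 0, nat_lit 6, nat_lit 4])))))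
 (.node (nat_lit 8832) (.node (nat_lit 8720) (.node (nat_lit 8712) (.leaf [nat_lit 6, nat_lit 4, nat_lit 5, nat_lit 1]) (.leaf [nat_lit 4, nat_lit 6, nat_lit 0, nat_lit 5])) (.node (nat_lit 8736) (.leaf [nat_lit 6, nat_lit 4, nat_lit 2, nat_lit 3]) (.node (nat_lit 8768) (.leaf [nat_lit 5, nat_lit 1, nat_lit 5, nat_lit 4]) (.leaf [nat_lit 5, nat_lit 3, nat_lit 5, nat_lit 4, nat_lit 0, nat_lit 3]))))
 (.node (nat_lit 9232) (.node (nat_lit 8960) (.leaf [nat_lit 6, nat_lit 4, nat_lit 5]) (.node (nat_lit 9224) (.leaf [nat_lit 1, nat_lit 4, nat_lit 6, nat_lit 4, nat_lit 1]) (.leaf [nat_lit 4, nat_lit 0, nat_lit 3, nat_lit 4]))) (.node (nat_lit 9248) (.leaf [nat_lit 5, nat_lit 1, nat_lit 5, nat_lit 3]) (.node (nat_lit 9280) (.leaf [nat_lit 5, nat_lit 1, nat_lit 5, nat_lit 4, nat_lit 3]) (.leaf [nat_lit 2, nat_lit 5, nat_lit 6, nat_lit 5]))))))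
 (.node (nat_lit 11264) (.node (nat_lit 10272) (.node (nat_lit 9728) (.node (nat_lit 9472) (.leaf [nat_lit 6, nat_lit 4, nat_lit 5, nat_lit 2, nat_lit 0, nat_lit 3]) (.leaf [nat_lit 6, nat_lit 4, nat_lit 2, nat_lit 3, nat_lit 5])) (.node (nat_lit 10248) (.leaf [nat_lit 2, nat_lit 4, nat_lit 5, nat_lit 0, nat_lit 3]) (.node (nat_lit 10256) (.leaf [nat_lit 3, nat_lit 2, nat_lit 6, nat_lit 5, nat_lit 3]) (.leaf [nat_lit 0, nat_lit 5, nat_lit 3, nat_lit 5]))))
 (.node (nat_lit 10368) (.node (nat_lit 10304) (.leaf [nat_lit 6, nat_lit 4, nat_lit 0, nat_lit 5, nat_lit 3]) (.leaf [nat_lit 3, nat_lit 4, nat_lit 2, nat_lit 5, nat_lit 2, nat_lit 3])) (.node (nat_lit 10496) (.leaf [nat_lit 6, nat_lit 4, nat_lit 5, nat_lit 3, nat_lit 2, nat_lit 3]) (.node (nat_lit 10752) (.leaf [nat_lit 5, nat_lit 1, nat_lit 5, nat_lit 6, nat_lit 5]) (.leaf [nat_lit 5, nat_lit 1, nat_lit 5, nat_lit 2, nat_lit 4, nat_lit 3])))))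
 (.node (nat_lit 12416) (.node (nat_lit 12304) (.node (nat_lit 12296) (.leaf [nat_lit 0, nat_lit 6, nat_lit 4, nat_lit 5, nat_lit 1]) (.leaf [nat_lit 3, nat_lit 4, nat_lit 3, nat_lit 4])) (.node (nat_lit 12320) (.leaf [nat_lit 5, nat_lit 6, nat_lit 2, nat_lit 3, nat_lit 4]) (.node (nat_lit 12352) (.leaf [nat_lit 5, nat_lit 1, nat_lit 5, nat_lit 4, nat_lit 1]) (.leaf [nat_lit 5, nat_lit 3, nat_lit 5, nat_lit 4, nat_lit 0]))))
 (.node (nat_lit 13312) (.node (nat_lit 12544) (.leaf [nat_lit 5, nat_lit 1, nat_lit 5, nat_lit 3, nat_lit 4]) (.node (nat_lit 12800) (.leaf [nat_lit 3, nat_lit 2, nat_lit 4, nat_lit 3, nat_lit 5]) (.leaf [nat_lit 2, nat_lit 4, nat_lit 5, nat_lit 3, nat_lit 5]))) (.node (nat_lit 14336) (.leaf [nat_lit 6, nat_lit 4, nat_lit 1, nat_lit 6, nat_lit 4]) (.node (nat_lit 16408) (.leaf [nat_lit 6, nat_lit 4, nat_lit 3, nat_lit 2, nat_lit 0, nat_lit 5]) (.leaf [nat_lit 1, nat_lit 3, nat_lit 2, nat_lit 3])))))))))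
 (.node (nat_lit 34832) (.node (nat_lit 20992) (.node (nat_lit 17416) (.node (nat_lit 16656) (.node (nat_lit 16520) (.node (nat_lit 16456) (.node (nat_lit 16432) (.leaf [nat_lit 3, nat_lit 0, nat_lit 4]) (.leaf [nat_lit 4, nat_lit 1, nat_lit 5, nat_lit 0, nat_lit 4])) (.node (nat_lit 16464) (.leaf [nat_lit 3, nat_lit 0, nat_lit 4]) (.node (nat_lit 16480) (.leaf [nat_lit 2, nat_lit 5, nat_lit 0]) (.leaf [nat_lit 4, nat_lit 1, nat_lit 5, nat_lit 4, nat_lit 3]))))
 (.node (nat_lit 16544) (.node (nat_lit 16528) (.leaf [nat_lit 0, nat_lit 4, nat_lit 3, nat_lit 4]) (.leaf [nat_lit 3, nat_lit 4, nat_lit 5, nat_lit 0, nat_lit 4])) (.node (nat_lit 16576) (.leaf [nat_lit 4, nat_lit 5, nat_lit 6, nat_lit 0, nat_lit 5]) (.node (nat_lit 16648) (.leaf [nat_lit 3, nat_lit 4, nat_lit 6, nat_lit 0, nat_lit 4, nat_lit 3]) (.leaf [nat_lit 3, nat_lit 1, nat_lit 4])))))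
 (.node (nat_lit 16912) (.node (nat_lit 16704) (.node (nat_lit 16672) (.leaf [nat_lit 1, nat_lit 6, nat_lit 4, nat_lit 1]) (.leaf [nat_lit 3, nat_lit 0, nat_lit 5, nat_lit 0, nat_lit 4])) (.node (nat_lit 16768) (.leaf [nat_lit 3, nat_lit 4, nat_lit 6, nat_lit 0, nat_lit 4]) (.node (nat_lit 16904) (.leaf [nat_lit 3, nat_lit 4, nat_lit 5, nat_lit 1, nat_lit 4]) (.leaf [nat_lit 2, nat_lit 4, nat_lit 2, nat_lit 1, nat_lit 3]))))
 (.node (nat_lit 16960) (.node (nat_lit 16928) (.leaf [nat_lit 2, nat_lit 4, nat_lit 2, nat_lit 5]) (.leaf [nat_lit 4, nat_lit 1, nat_lit 5, nat_lit 4])) (.node (nat_lit 17024) (.leaf [nat_lit 2, nat_lit 5, nat_lit 4, nat_lit 2, nat_lit 0, nat_lit 3]) (.node (nat_lit 17152) (.leaf [nat_lit 1, nat_lit 4, nat_lit 2, nat_lit 3, nat_lit 5]) (.leaf [nat_lit 4, nat_lit 1, nat_lit 5, nat_lit 2, nat_lit 4, nat_lit 3]))))))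
 (.node (nat_lit 18496) (.node (nat_lit 17664) (.node (nat_lit 17440) (.node (nat_lit 17424) (.leaf [nat_lit 3, nat_lit 0, nat_lit 4, nat_lit 1, nat_lit 3]) (.leaf [nat_lit 5, nat_lit 6, nat_lit 3, nat_lit 4, nat_lit 3])) (.node (nat_lit 17472) (.leaf [nat_lit 6, nat_lit 3, nat_lit 0, nat_lit 4, nat_lit 5]) (.node (nat_lit 17536) (.leaf [nat_lit 3, nat_lit 4, nat_lit 2, nat_lit 1, nat_lit 5]) (.leaf [nat_lit 4, nat_lit 5, nat_lit 0, nat_lit 3, nat_lit 4]))))
 (.node (nat_lit 18440) (.node (nat_lit 17920) (.leaf [nat_lit 5, nat_lit 1, nat_lit 6, nat_lit 5, nat_lit 4, nat_lit 3]) (.leaf [nat_lit 2, nat_lit 4, nat_lit 5, nat_lit 2, nat_lit 1, nat_lit 3])) (.node (nat_lit 18448) (.leaf [nat_lit 0, nat_lit 6, nat_lit 2, nat_lit 5]) (.node (nat_lit 18464) (.leaf [nat_lit 3, nat_lit 2, nat_lit 1, nat_lit 5]) (.leaf [nat_lit 5, nat_lit 1, nat_lit 4, nat_lit 5, nat_lit 3])))))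
 (.node (nat_lit 20488) (.node (nat_lit 18688) (.node (nat_lit 18560) (.leaf [nat_lit 4, nat_lit 6, nat_lit 5, nat_lit 3, nat_lit 4]) (.leaf [nat_lit 5, nat_lit 6, nat_lit 1, nat_lit 4, nat_lit 5])) (.node (nat_lit 18944) (.leaf [nat_lit 3, nat_lit 4, nat_lit 0, nat_lit 4, nat_lit 5]) (.node (nat_lit 19456) (.leaf [nat_lit 4, nat_lit 6, nat_lit 5, nat_lit 3, nat_lit 1, nat_lit 4]) (.leaf [nat_lit 3, nat_lit 0, nat_lit 4, nat_lit 5, nat_lit 0]))))
 (.node (nat_lit 20544) (.node (nat_lit 20496) (.leaf [nat_lit 2, nat_lit 4, nat_lit 3, nat_lit 4]) (.node (nat_lit 20512) (.leaf [nat_lit 5, nat_lit 1, nat_lit 3, nat_lit 5]) (.leaf [nat_lit 5, nat_lit 0, nat_lit 5, nat_lit 0, nat_lit 4, nat_lit 3]))) (.node (nat_lit 20608) (.leaf [nat_lit 3, nat_lit 1, nat_lit 4, nat_lit 5, nat_lit 1, nat_lit 4]) (.node (nat_lit 20736) (.leaf [nat_lit 4, nat_lit 1, nat_lit 5, nat_lit 6, nat_lit 5, nat_lit 3]) (.leaf [nat_lit 4, nat_lit 1, nat_lit 5,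 nat_lit 6, nat_lit 5])))))))
 (.node (nat_lit 32928) (.node (nat_lit 25600) (.node (nat_lit 24608) (.node (nat_lit 22528) (.node (nat_lit 21504) (.leaf [nat_lit 1, nat_lit 4, nat_lit 5, nat_lit 1]) (.leaf [nat_lit 2, nat_lit 4, nat_lit 5, nat_lit 3, nat_lit 4])) (.node (nat_lit 24584) (.leaf [nat_lit 4, nat_lit 3, nat_lit 5, nat_lit 4, nat_lit 1, nat_lit 4, nat_lit 3]) (.node (nat_lit 24592) (.leaf [nat_lit 6, nat_lit 5, nat_lit 0, nat_lit 5]) (.leaf [nat_lit 6, nat_lit 4, nat_lit 0, nat_lit 3]))))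
 (.node (nat_lit 24704) (.node (nat_lit 24640) (.leaf [nat_lit 4, nat_lit 6, nat_lit 5, nat_lit 4, nat_lit 1, nat_lit 3]) (.leaf [nat_lit 5, nat_lit 3, nat_lit 5, nat_lit 4])) (.node (nat_lit 24832) (.leaf [nat_lit 4, nat_lit 5, nat_lit 2, nat_lit 0, nat_lit 3, nat_lit 4]) (.node (nat_lit 25088) (.leaf [nat_lit 3, nat_lit 2, nat_lit 4, nat_lit 1, nat_lit 5]) (.leaf [nat_lit 4, nat_lit 6, nat_lit 5, nat_lit 4, nat_lit 0, nat_lit 3])))))
 (.node (nat_lit 32816) (.node (nat_lit 28672) (.node (nat_lit 26624) (.leaf [nat_lit 6, nat_lit 4, nat_lit 1, nat_lit 5]) (.leaf [nat_lit 6, nat_lit 4, nat_lit 3, nat_lit 5])) (.node (nat_lit 32792) (.leaf [nat_lit 6, nat_lit 4, nat_lit 3, nat_lit 5]) (.node (nat_lit 32808) (.leaf [nat_lit 1, nat_lit 3]) (.leaf [nat_lit 5, nat_lit 1, nat_lit 4, nat_lit 3]))))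
 (.node (nat_lit 32864) (.node (nat_lit 32840) (.leaf [nat_lit 5, nat_lit 6, nat_lit 2, nat_lit 3]) (.node (nat_lit 32848) (.leaf [nat_lit 0, nat_lit 6, nat_lit 5]) (.leaf [nat_lit 5, nat_lit 2, nat_lit 1, nat_lit 3]))) (.node (nat_lit 32904) (.leaf [nat_lit 5, nat_lit 2, nat_lit 4]) (.node (nat_lit 32912) (.leaf [nat_lit 6, nat_lit 5, nat_lit 6, nat_lit 4]) (.leaf [nat_lit 5, nat_lit 2, nat_lit 3]))))))
 (.node (nat_lit 33344) (.node (nat_lit 33088) (.node (nat_lit 33032) (.node (nat_lit 32960) (.leaf [nat_lit 5, nat_lit 2, nat_lit 4, nat_lit 3]) (.leaf [nat_lit 3, nat_lit 4, nat_lit 5, nat_lit 3])) (.node (nat_lit 33040) (.leaf [nat_lit 3, nat_lit 1, nat_lit 4]) (.node (nat_lit 33056) (.leaf [nat_lit 2, nat_lit 0, nat_lit 6, nat_lit 4]) (.leaf [nat_lit 5, nat_lit 2, nat_lit 4, nat_lit 3, nat_lit 2, nat_lit 3]))))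
 (.node (nat_lit 33288) (.node (nat_lit 33152) (.leaf [nat_lit 5, nat_lit 3, nat_lit 4]) (.leaf [nat_lit 4, nat_lit 5, nat_lit 1, nat_lit 3, nat_lit 4])) (.node (nat_lit 33296) (.leaf [nat_lit 1, nat_lit 4, nat_lit 3]) (.node (nat_lit 33312) (.leaf [nat_lit 5]) (.leaf [nat_lit 5, nat_lit 0, nat_lit 4, nat_lit 1, nat_lit 4])))))
 (.node (nat_lit 33824) (.node (nat_lit 33536) (.node (nat_lit 33408) (.leaf [nat_lit 5, nat_lit 3, nat_lit 4, nat_lit 3]) (.leaf [nat_lit 5, nat_lit 4, nat_lit 2, nat_lit 4, nat_lit 3])) (.node (nat_lit 33800) (.leaf [nat_lit 5, nat_lit 6, nat_lit 0, nat_lit 5, nat_lit 3]) (.node (nat_lit 33808) (.leaf [nat_lit 2, nat_lit 3, nat_lit 4, nat_lit 1, nat_lit 3]) (.leaf [nat_lit 0, nat_lit 5, nat_lit 6, nat_lit 4]))))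
 (.node (nat_lit 34048) (.node (nat_lit 33856) (.leaf [nat_lit 5, nat_lit 1, nat_lit 4, nat_lit 0, nat_lit 3]) (.node (nat_lit 33920) (.leaf [nat_lit 5, nat_lit 6, nat_lit 2, nat_lit 5, nat_lit 3]) (.leaf [nat_lit 5, nat_lit 1, nat_lit 3, nat_lit 0, nat_lit 4]))) (.node (nat_lit 34304) (.leaf [nat_lit 5, nat_lit 1, nat_lit 6, nat_lit 5, nat_lit 0, nat_lit 5]) (.node (nat_lit 34824) (.leaf [nat_lit 2, nat_lit 4, nat_lit 5, nat_lit 0]) (.leaf [nat_lit 2, nat_lit 3, nat_lit 4]))))))))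
 (.node (nat_lit 65616) (.node (nat_lit 41088) (.node (nat_lit 36928) (.node (nat_lit 35328) (.node (nat_lit 34880) (.node (nat_lit 34848) (.leaf [nat_lit 5, nat_lit 1]) (.leaf [nat_lit 5, nat_lit 1, nat_lit 4, nat_lit 1, nat_lit 3])) (.node (nat_lit 34944) (.leaf [nat_lit 2, nat_lit 5, nat_lit 3, nat_lit 4]) (.node (nat_lit 35072) (.leaf [nat_lit 1, nat_lit 3, nat_lit 2, nat_lit 4, nat_lit 5]) (.leaf [nat_lit 5, nat_lit 3, nat_lit 1, nat_lit 4, nat_lit 1, nat_lit 3]))))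
 (.node (nat_lit 36872) (.node (nat_lit 35840) (.leaf [nat_lit 0, nat_lit 6, nat_lit 5, nat_lit 0, nat_lit 4]) (.leaf [nat_lit 5, nat_lit 4, nat_lit 3, nat_lit 4])) (.node (nat_lit 36880) (.leaf [nat_lit 5, nat_lit 2, nat_lit 3, nat_lit 4]) (.node (nat_lit 36896) (.leaf [nat_lit 5, nat_lit 3, nat_lit 2, nat_lit 0, nat_lit 3]) (.leaf [nat_lit 5, nat_lit 1, nat_lit 4, nat_lit 1])))))
 (.node (nat_lit 38912) (.node (nat_lit 37120) (.node (nat_lit 36992) (.leaf [nat_lit 5, nat_lit 3, nat_lit 4, nat_lit 0]) (.leaf [nat_lit 5, nat_lit 1, nat_lit 3, nat_lit 4])) (.node (nat_lit 37376) (.leaf [nat_lit 1, nat_lit 6, nat_lit 4, nat_lit 5]) (.node (nat_lit 37888) (.leaf [nat_lit 5, nat_lit 0, nat_lit 6, nat_lit 0, nat_lit 5]) (.leaf [nat_lit 5, nat_lit 1, nat_lit 3, nat_lit 1, nat_lit 4]))))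
 (.node (nat_lit 40976) (.node (nat_lit 40968) (.leaf [nat_lit 5, nat_lit 4, nat_lit 3, nat_lit 2, nat_lit 4, nat_lit 3]) (.leaf [nat_lit 0, nat_lit 3, nat_lit 1, nat_lit 4, nat_lit 3])) (.node (nat_lit 40992) (.leaf [nat_lit 5, nat_lit 0, nat_lit 3]) (.node (nat_lit 41024) (.leaf [nat_lit 5, nat_lit 1, nat_lit 4]) (.leaf [nat_lit 5, nat_lit 3, nat_lit 4]))))))
 (.node (nat_lit 49280) (.node (nat_lit 45056) (.node (nat_lit 41472) (.node (nat_lit 41216) (.leaf [nat_lit 5, nat_lit 6, nat_lit 5]) (.leaf [nat_lit 5, nat_lit 3, nat_lit 1, nat_lit 4, nat_lit 3])) (.node (nat_lit 41984) (.leaf [nat_lit 1, nat_lit 4, nat_lit 0, nat_lit 5, nat_lit 3]) (.node (nat_lit 43008) (.leaf [nat_lit 5, nat_lit 4, nat_lit 3, nat_lit 0, nat_lit 4]) (.leaf [nat_lit 5, nat_lit 4, nat_lit 3, nat_lit 1, nat_lit 4]))))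
 (.node (nat_lit 49168) (.node (nat_lit 49160) (.leaf [nat_lit 5, nat_lit 6, nat_lit 5, nat_lit 1]) (.leaf [nat_lit 3, nat_lit 0, nat_lit 4, nat_lit 3])) (.node (nat_lit 49184) (.leaf [nat_lit 5, nat_lit 3]) (.node (nat_lit 49216) (.leaf [nat_lit 5, nat_lit 2, nat_lit 4, nat_lit 2, nat_lit 3]) (.leaf [nat_lit 4, nat_lit 3, nat_lit 5, nat_lit 6, nat_lit 5])))))
 (.node (nat_lit 53248) (.node (nat_lit 49664) (.node (nat_lit 49408) (.leaf [nat_lit 5, nat_lit 1, nat_lit 3, nat_lit 4]) (.leaf [nat_lit 5, nat_lit 2, nat_lit 1, nat_lit 3, nat_lit 4])) (.node (nat_lit 50176) (.leaf [nat_lit 2, nat_lit 4, nat_lit 2, nat_lit 5, nat_lit 3]) (.node (nat_lit 51200) (.leaf [nat_lit 5, nat_lit 1, nat_lit 6, nat_lit 5, nat_lit 3]) (.leaf [nat_lit 5, nat_lit 1, nat_lit 6, nat_lit 5, nat_lit 2, nat_lit 3]))))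
 (.node (nat_lit 65576) (.node (nat_lit 57344) (.leaf [nat_lit 5, nat_lit 1, nat_lit 3, nat_lit 1, nat_lit 4, nat_lit 3]) (.node (nat_lit 65560) (.leaf [nat_lit 4, nat_lit 6, nat_lit 5, nat_lit 4, nat_lit 2, nat_lit 3]) (.leaf [nat_lit 2, nat_lit 0, nat_lit 3]))) (.node (nat_lit 65584) (.leaf [nat_lit 0, nat_lit 3, nat_lit 4, nat_lit 3]) (.node (nat_lit 65608) (.leaf [nat_lit 0, nat_lit 3, nat_lit 0, nat_lit 5]) (.leaf [nat_lit 3, nat_lit 4, nat_lit 3, nat_lit 2, nat_lit 3])))))))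
 (.node (nat_lit 66688) (.node (nat_lit 65920) (.node (nat_lit 65728) (.node (nat_lit 65672) (.node (nat_lit 65632) (.leaf [nat_lit 6, nat_lit 2, nat_lit 6, nat_lit 5, nat_lit 3]) (.leaf [nat_lit 3, nat_lit 4, nat_lit 0, nat_lit 5, nat_lit 3])) (.node (nat_lit 65680) (.leaf [nat_lit 5, nat_lit 2, nat_lit 3, nat_lit 5, nat_lit 4]) (.node (nat_lit 65696) (.leaf [nat_lit 0, nat_lit 6, nat_lit 4, nat_lit 3, nat_lit 4]) (.leaf [nat_lit 4, nat_lit 2, nat_lit 4, nat_lit 5, nat_lit 0]))))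
 (.node (nat_lit 65808) (.node (nat_lit 65800) (.leaf [nat_lit 2, nat_lit 5, nat_lit 6, nat_lit 2, nat_lit 5]) (.leaf [nat_lit 0, nat_lit 3, nat_lit 4, nat_lit 0])) (.node (nat_lit 65824) (.leaf [nat_lit 1, nat_lit 6, nat_lit 4]) (.node (nat_lit 65856) (.leaf [nat_lit 5, nat_lit 1, nat_lit 4, nat_lit 6, nat_lit 4]) (.leaf [nat_lit 2, nat_lit 0, nat_lit 6, nat_lit 5, nat_lit 4])))))
 (.node (nat_lit 66176) (.node (nat_lit 66064) (.node (nat_lit 66056) (.leaf [nat_lit 2, nat_lit 0, nat_lit 6, nat_lit 4, nat_lit 5]) (.leaf [nat_lit 1, nat_lit 4, nat_lit 2, nat_lit 3])) (.node (nat_lit 66080) (.leaf [nat_lit 5, nat_lit 0, nat_lit 3, nat_lit 0, nat_lit 5]) (.node (nat_lit 66112) (.leaf [nat_lit 4, nat_lit 2, nat_lit 4, nat_lit 5]) (.leaf [nat_lit 5, nat_lit 3, nat_lit 4, nat_lit 0, nat_lit 5, nat_lit 3]))))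
 (.node (nat_lit 66576) (.node (nat_lit 66304) (.leaf [nat_lit 0, nat_lit 3, nat_lit 4, nat_lit 3, nat_lit 5]) (.node (nat_lit 66568) (.leaf [nat_lit 1, nat_lit 4, nat_lit 6, nat_lit 4]) (.leaf [nat_lit 0, nat_lit 3, nat_lit 4, nat_lit 1, nat_lit 3]))) (.node (nat_lit 66592) (.leaf [nat_lit 2, nat_lit 5, nat_lit 6, nat_lit 4]) (.node (nat_lit 66624) (.leaf [nat_lit 4, nat_lit 2, nat_lit 4, nat_lit 5, nat_lit 3]) (.leaf [nat_lit 0, nat_lit 3, nat_lit 4, nat_lit 5, nat_lit 1]))))))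
 (.node (nat_lit 68608) (.node (nat_lit 67616) (.node (nat_lit 67072) (.node (nat_lit 66816) (.leaf [nat_lit 4, nat_lit 5, nat_lit 2, nat_lit 6, nat_lit 5, nat_lit 3]) (.leaf [nat_lit 3, nat_lit 0, nat_lit 4, nat_lit 5, nat_lit 0, nat_lit 4, nat_lit 3])) (.node (nat_lit 67592) (.leaf [nat_lit 2, nat_lit 4, nat_lit 5, nat_lit 3]) (.node (nat_lit 67600) (.leaf [nat_lit 6, nat_lit 2, nat_lit 3, nat_lit 5]) (.leaf [nat_lit 2, nat_lit 3, nat_lit 5]))))
 (.node (nat_lit 67712) (.node (nat_lit 67648) (.leaf [nat_lit 5, nat_lit 1, nat_lit 4, nat_lit 5]) (.leaf [nat_lit 2, nat_lit 1, nat_lit 5, nat_lit 6, nat_lit 5, nat_lit 3])) (.node (nat_lit 67840) (.leaf [nat_lit 5, nat_lit 6, nat_lit 1, nat_lit 4, nat_lit 5]) (.node (nat_lit 68096) (.leaf [nat_lit 4, nat_lit 1, nat_lit 4, nat_lit 5, nat_lit 3, nat_lit 4]) (.leaf [nat_lit 2, nat_lit 1, nat_lit 5, nat_lit 0, nat_lit 4, nat_lit 3])))))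
 (.node (nat_lit 69760) (.node (nat_lit 69648) (.node (nat_lit 69640) (.leaf [nat_lit 0, nat_lit 3, nat_lit 4, nat_lit 5, nat_lit 2, nat_lit 1, nat_lit 3]) (.leaf [nat_lit 2, nat_lit 4, nat_lit 3, nat_lit 1, nat_lit 4])) (.node (nat_lit 69664) (.leaf [nat_lit 5, nat_lit 2, nat_lit 3, nat_lit 5]) (.node (nat_lit 69696) (.leaf [nat_lit 2, nat_lit 1, nat_lit 5, nat_lit 2, nat_lit 4, nat_lit 3]) (.leaf [nat_lit 3, nat_lit 4, nat_lit 3, nat_lit 2, nat_lit 0, nat_lit 5]))))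
 (.node (nat_lit 70656) (.node (nat_lit 69888) (.leaf [nat_lit 2, nat_lit 1, nat_lit 5, nat_lit 1, nat_lit 3, nat_lit 4]) (.node (nat_lit 70144) (.leaf [nat_lit 1, nat_lit 4, nat_lit 5, nat_lit 6, nat_lit 5, nat_lit 2, nat_lit 3]) (.leaf [nat_lit 1, nat_lit 4, nat_lit 5]))) (.node (nat_lit 71680) (.leaf [nat_lit 2, nat_lit 3, nat_lit 5, nat_lit 1, nat_lit 3, nat_lit 4]) (.node (nat_lit 73736) (.leaf [nat_lit 2, nat_lit 1, nat_lit 5, nat_lit 6, nat_lit 5]) (.leaf [nat_lit 0, nat_lit 3, nat_lit 4]))))))))))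
 (.node (nat_lit 267264) (.node (nat_lit 139776) (.node (nat_lit 131264) (.node (nat_lit 98312) (.node (nat_lit 81936) (.node (nat_lit 74240) (.node (nat_lit 73792) (.node (nat_lit 73760) (.leaf [nat_lit 6, nat_lit 4, nat_lit 0]) (.leaf [nat_lit 2, nat_lit 6, nat_lit 5, nat_lit 4, nat_lit 0, nat_lit 3])) (.node (nat_lit 73856) (.leaf [nat_lit 6, nat_lit 4, nat_lit 2, nat_lit 5, nat_lit 2, nat_lit 3]) (.node (nat_lit 73984) (.leaf [nat_lit 4, nat_lit 5, nat_lit 4, nat_lit 3, nat_lit 0, nat_lit 4]) (.leaf [nat_lit 4, nat_lit 6, nat_lit 4, nat_lit 1, nat_lit 6, nat_lit 4]))))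
 (.node (nat_lit 75776) (.node (nat_lit 74752) (.leaf [nat_lit 2, nat_lit 4, nat_lit 6, nat_lit 4, nat_lit 0, nat_lit 3]) (.leaf [nat_lit 2, nat_lit 6, nat_lit 5, nat_lit 4, nat_lit 2, nat_lit 3])) (.node (nat_lit 77824) (.leaf [nat_lit 4, nat_lit 5, nat_lit 6, nat_lit 5, nat_lit 3, nat_lit 4]) (.node (nat_lit 81928) (.leaf [nat_lit 4, nat_lit 6, nat_lit 4, nat_lit 2, nat_lit 3, nat_lit 5]) (.leaf [nat_lit 6, nat_lit 2, nat_lit 1, nat_lit 5, nat_lit 3])))))
 (.node (nat_lit 82432) (.node (nat_lit 81984) (.node (nat_lit 81952) (.leaf [nat_lit 2, nat_lit 1, nat_lit 5, nat_lit 3]) (.leaf [nat_lit 3, nat_lit 4, nat_lit 0, nat_lit 5, nat_lit 4, nat_lit 3])) (.node (nat_lit 82048) (.leaf [nat_lit 0, nat_lit 6, nat_lit 2, nat_lit 5, nat_lit 4, nat_lit 3]) (.node (nat_lit 82176) (.leaf [nat_lit 4, nat_lit 5, nat_lit 6, nat_lit 2, nat_lit 5]) (.leaf [nat_lit 3, nat_lit 0, nat_lit 4, nat_lit 6, nat_lit 0, nat_lit 4]))))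
 (.node (nat_lit 83968) (.node (nat_lit 82944) (.leaf [nat_lit 2, nat_lit 4, nat_lit 2, nat_lit 5, nat_lit 0]) (.leaf [nat_lit 4, nat_lit 0, nat_lit 3, nat_lit 4, nat_lit 5])) (.node (nat_lit 86016) (.leaf [nat_lit 0, nat_lit 6, nat_lit 4, nat_lit 2, nat_lit 5, nat_lit 3]) (.node (nat_lit 90112) (.leaf [nat_lit 5, nat_lit 0, nat_lit 5, nat_lit 3, nat_lit 4]) (.leaf [nat_lit 6, nat_lit 2, nat_lit 1, nat_lit 5, nat_lit 4, nat_lit 3]))))))
 (.node (nat_lit 106496) (.node (nat_lit 98560) (.node (nat_lit 98336) (.node (nat_lit 98320) (.leaf [nat_lit 0, nat_lit 3, nat_lit 4]) (.leaf [nat_lit 5, nat_lit 2, nat_lit 0, nat_lit 3])) (.node (nat_lit 98368) (.leaf [nat_lit 5, nat_lit 1, nat_lit 4, nat_lit 2, nat_lit 3]) (.node (nat_lit 98432) (.leaf [nat_lit 5, nat_lit 3, nat_lit 4, nat_lit 3, nat_lit 2, nat_lit 3]) (.leaf [nat_lit 1, nat_lit 6, nat_lit 2, nat_lit 4, nat_lit 5]))))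
 (.node (nat_lit 99328) (.node (nat_lit 98816) (.leaf [nat_lit 5, nat_lit 0, nat_lit 3, nat_lit 4, nat_lit 0]) (.leaf [nat_lit 5, nat_lit 0, nat_lit 3, nat_lit 4, nat_lit 3])) (.node (nat_lit 100352) (.leaf [nat_lit 5, nat_lit 2, nat_lit 6, nat_lit 5, nat_lit 3]) (.node (nat_lit 102400) (.leaf [nat_lit 5, nat_lit 2, nat_lit 4, nat_lit 3, nat_lit 1, nat_lit 4]) (.leaf [nat_lit 5, nat_lit 6, nat_lit 2, nat_lit 3, nat_lit 5])))))
 (.node (nat_lit 131144) (.node (nat_lit 131096) (.node (nat_lit 114688) (.leaf [nat_lit 5, nat_lit 3, nat_lit 2, nat_lit 3, nat_lit 4]) (.leaf [nat_lit 5, nat_lit 1, nat_lit 6, nat_lit 5])) (.node (nat_lit 131112) (.leaf [nat_lit 6, nat_lit 2, nat_lit 1, nat_lit 3]) (.node (nat_lit 131120) (.leaf [nat_lit 4, nat_lit 2, nat_lit 4]) (.leaf [nat_lit 3, nat_lit 2, nat_lit 6, nat_lit 4]))))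
 (.node (nat_lit 131208) (.node (nat_lit 131152) (.leaf [nat_lit 6, nat_lit 2, nat_lit 5, nat_lit 3]) (.node (nat_lit 131168) (.leaf [nat_lit 2, nat_lit 5, nat_lit 3]) (.leaf [nat_lit 4, nat_lit 2, nat_lit 5, nat_lit 4, nat_lit 3]))) (.node (nat_lit 131216) (.leaf [nat_lit 4, nat_lit 0, nat_lit 6, nat_lit 5]) (.node (nat_lit 131232) (.leaf [nat_lit 6, nat_lit 3, nat_lit 4, nat_lit 1, nat_lit 3]) (.leaf [nat_lit 6, nat_lit 3, nat_lit 4, nat_lit 5])))))))
 (.node (nat_lit 133152) (.node (nat_lit 131712) (.node (nat_lit 131456) (.node (nat_lit 131344) (.node (nat_lit 131336) (.leaf [nat_lit 3, nat_lit 4, nat_lit 5, nat_lit 0, nat_lit 3]) (.leaf [nat_lit 1, nat_lit 6, nat_lit 5, nat_lit 0, nat_lit 5])) (.node (nat_lit 131360) (.leaf [nat_lit 1, nat_lit 6, nat_lit 4, nat_lit 0, nat_lit 3]) (.node (nat_lit 131392) (.leaf [nat_lit 3, nat_lit 2, nat_lit 4, nat_lit 6, nat_lit 4]) (.leaf [nat_lit 3, nat_lit 4, nat_lit 6, nat_lit 4, nat_lit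 3]))))
 (.node (nat_lit 131600) (.node (nat_lit 131592) (.leaf [nat_lit 6, nat_lit 3, nat_lit 4, nat_lit 5]) (.leaf [nat_lit 1, nat_lit 4, nat_lit 0, nat_lit 3])) (.node (nat_lit 131616) (.leaf [nat_lit 1, nat_lit 5, nat_lit 0, nat_lit 5]) (.node (nat_lit 131648) (.leaf [nat_lit 4, nat_lit 2, nat_lit 5, nat_lit 4]) (.leaf [nat_lit 2, nat_lit 5, nat_lit 4, nat_lit 3])))))
 (.node (nat_lit 132160) (.node (nat_lit 132104) (.node (nat_lit 131840) (.leaf [nat_lit 4, nat_lit 5, nat_lit 2, nat_lit 4]) (.leaf [nat_lit 1, nat_lit 4, nat_lit 6, nat_lit 4])) (.node (nat_lit 132112) (.leaf [nat_lit 6, nat_lit 2, nat_lit 5, nat_lit 2, nat_lit 3]) (.node (nat_lit 132128) (.leaf [nat_lit 3, nat_lit 5, nat_lit 1, nat_lit 5, nat_lit 3]) (.leaf [nat_lit 5, nat_lit 1, nat_lit 4, nat_lit 3, nat_lit 5]))))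
 (.node (nat_lit 132608) (.node (nat_lit 132224) (.leaf [nat_lit 3, nat_lit 4, nat_lit 6, nat_lit 4, nat_lit 0]) (.node (nat_lit 132352) (.leaf [nat_lit 2, nat_lit 4, nat_lit 5, nat_lit 0, nat_lit 3, nat_lit 4]) (.leaf [nat_lit 1, nat_lit 6, nat_lit 4, nat_lit 3, nat_lit 5]))) (.node (nat_lit 133128) (.leaf [nat_lit 1, nat_lit 4, nat_lit 3, nat_lit 5]) (.node (nat_lit 133136) (.leaf [nat_lit 1, nat_lit 3, nat_lit 1, nat_lit 4]) (.leaf [nat_lit 6, nat_lit 3, nat_lit 4, nat_lit 0]))))))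
 (.node (nat_lit 135296) (.node (nat_lit 134144) (.node (nat_lit 133248) (.node (nat_lit 133184) (.leaf [nat_lit 3, nat_lit 0, nat_lit 5, nat_lit 3, nat_lit 4]) (.leaf [nat_lit 4, nat_lit 3, nat_lit 4, nat_lit 6, nat_lit 4])) (.node (nat_lit 133376) (.leaf [nat_lit 4, nat_lit 5, nat_lit 3, nat_lit 4, nat_lit 2, nat_lit 3]) (.node (nat_lit 133632) (.leaf [nat_lit 1, nat_lit 3, nat_lit 2, nat_lit 4, nat_lit 1, nat_lit 5]) (.leaf [nat_lit 1, nat_lit 4, nat_lit 1, nat_lit 5, nat_lit 2, nat_lit 3]))))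
 (.node (nat_lit 135184) (.node (nat_lit 135176) (.leaf [nat_lit 2, nat_lit 3, nat_lit 4, nat_lit 5, nat_lit 1, nat_lit 4]) (.leaf [nat_lit 4, nat_lit 3, nat_lit 4])) (.node (nat_lit 135200) (.leaf [nat_lit 0, nat_lit 5, nat_lit 6, nat_lit 3, nat_lit 4]) (.node (nat_lit 135232) (.leaf [nat_lit 1, nat_lit 4, nat_lit 5, nat_lit 6, nat_lit 0, nat_lit 5]) (.leaf [nat_lit 3, nat_lit 4, nat_lit 5, nat_lit 3, nat_lit 5])))))
 (.node (nat_lit 139272) (.node (nat_lit 135680) (.node (nat_lit 135424) (.leaf [nat_lit 4, nat_lit 5, nat_lit 3, nat_lit 4]) (.leaf [nat_lit 5, nat_lit 3, nat_lit 2, nat_lit 4, nat_lit 5, nat_lit 3])) (.node (nat_lit 136192) (.leaf [nat_lit 2, nat_lit 4, nat_lit 3, nat_lit 5]) (.node (nat_lit 137216) (.leaf [nat_lit 6, nat_lit 2, nat_lit 5, nat_lit 1, nat_lit 3, nat_lit 4]) (.leaf [nat_lit 4, nat_lit 3, nat_lit 5, nat_lit 4, nat_lit 5]))))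
 (.node (nat_lit 139328) (.node (nat_lit 139280) (.leaf [nat_lit 6, nat_lit 2, nat_lit 5]) (.node (nat_lit 139296) (.leaf [nat_lit 2, nat_lit 6, nat_lit 4, nat_lit 0, nat_lit 3]) (.leaf [nat_lit 6, nat_lit 4, nat_lit 6, nat_lit 3, nat_lit 4, nat_lit 3]))) (.node (nat_lit 139392) (.leaf [nat_lit 6, nat_lit 4, nat_lit 2, nat_lit 5, nat_lit 3]) (.node (nat_lit 139520) (.leaf [nat_lit 6, nat_lit 4, nat_lit 5, nat_lit 0]) (.leaf [nat_lit 3, nat_lit 2, nat_lit 4, nat_lit 6, nat_lit 4]))))))))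
 (.node (nat_lit 262184) (.node (nat_lit 164096) (.node (nat_lit 147968) (.node (nat_lit 147472) (.node (nat_lit 141312) (.node (nat_lit 140288) (.leaf [nat_lit 2, nat_lit 4, nat_lit 6, nat_lit 4]) (.leaf [nat_lit 6, nat_lit 5, nat_lit 4, nat_lit 2, nat_lit 5, nat_lit 3])) (.node (nat_lit 143360) (.leaf [nat_lit 6, nat_lit 4, nat_lit 6, nat_lit 3, nat_lit 4]) (.node (nat_lit 147464) (.leaf [nat_lit 2, nat_lit 6, nat_lit 4, nat_lit 3, nat_lit 5]) (.leaf [nat_lit 4, nat_lit 3, nat_lit 4]))))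
 (.node (nat_lit 147520) (.node (nat_lit 147488) (.leaf [nat_lit 6, nat_lit 3, nat_lit 0, nat_lit 4]) (.leaf [nat_lit 5, nat_lit 2, nat_lit 4, nat_lit 5])) (.node (nat_lit 147584) (.leaf [nat_lit 3, nat_lit 4, nat_lit 6, nat_lit 0, nat_lit 4]) (.node (nat_lit 147712) (.leaf [nat_lit 5, nat_lit 6, nat_lit 2, nat_lit 4, nat_lit 5]) (.leaf [nat_lit 5, nat_lit 3, nat_lit 2, nat_lit 4, nat_lit 5])))))
 (.node (nat_lit 163848) (.node (nat_lit 149504) (.node (nat_lit 148480) (.leaf [nat_lit 6, nat_lit 5, nat_lit 3, nat_lit 4, nat_lit 5]) (.leaf [nat_lit 4, nat_lit 2, nat_lit 5, nat_lit 0, nat_lit 3, nat_lit 4])) (.node (nat_lit 151552) (.leaf [nat_lit 4, nat_lit 3, nat_lit 5, nat_lit 4, nat_lit 1, nat_lit 3]) (.node (nat_lit 155648) (.leaf [nat_lit 5, nat_lit 0, nat_lit 5, nat_lit 6, nat_lit 5]) (.leaf [nat_lit 6, nat_lit 4, nat_lit 1, nat_lit 5, nat_lit 3]))))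
 (.node (nat_lit 163872) (.node (nat_lit 163856) (.leaf [nat_lit 2, nat_lit 3, nat_lit 0, nat_lit 4]) (.leaf [nat_lit 5, nat_lit 0])) (.node (nat_lit 163904) (.leaf [nat_lit 6, nat_lit 3, nat_lit 5, nat_lit 4]) (.node (nat_lit 163968) (.leaf [nat_lit 5, nat_lit 3, nat_lit 4, nat_lit 2, nat_lit 0, nat_lit 3]) (.leaf [nat_lit 4, nat_lit 3, nat_lit 4, nat_lit 5, nat_lit 3]))))))
 (.node (nat_lit 196672) (.node (nat_lit 172032) (.node (nat_lit 164864) (.node (nat_lit 164352) (.leaf [nat_lit 1, nat_lit 4, nat_lit 6, nat_lit 5, nat_lit 4]) (.leaf [nat_lit 2, nat_lit 4, nat_lit 1, nat_lit 5, nat_lit 3])) (.node (nat_lit 165888) (.leaf [nat_lit 5, nat_lit 6, nat_lit 2, nat_lit 5, nat_lit 2, nat_lit 3]) (.node (nat_lit 167936) (.leaf [nat_lit 4, nat_lit 3, nat_lit 4, nat_lit 5]) (.leaf [nat_lit 5, nat_lit 4, nat_lit 0, nat_lit 3, nat_lit 0, nat_lit 4]))))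
 (.node (nat_lit 196616) (.node (nat_lit 180224) (.leaf [nat_lit 2, nat_lit 5, nat_lit 3, nat_lit 5, nat_lit 4]) (.leaf [nat_lit 6, nat_lit 3, nat_lit 5, nat_lit 0, nat_lit 4])) (.node (nat_lit 196624) (.leaf [nat_lit 2, nat_lit 6, nat_lit 5, nat_lit 3]) (.node (nat_lit 196640) (.leaf [nat_lit 2, nat_lit 5, nat_lit 2, nat_lit 6, nat_lit 4]) (.leaf [nat_lit 5, nat_lit 2, nat_lit 4, nat_lit 5, nat_lit 3])))))
 (.node (nat_lit 198656) (.node (nat_lit 196864) (.node (nat_lit 196736) (.leaf [nat_lit 3, nat_lit 4, nat_lit 6, nat_lit 4, nat_lit 1]) (.leaf [nat_lit 4, nat_lit 5, nat_lit 6, nat_lit 2, nat_lit 5, nat_lit 3])) (.node (nat_lit 197120) (.leaf [nat_lit 4, nat_lit 2, nat_lit 5, nat_lit 1, nat_lit 3, nat_lit 4]) (.node (nat_lit 197632) (.leaf [nat_lit 1, nat_lit 4, nat_lit 6, nat_lit 1, nat_lit 4, nat_lit 3]) (.leaf [nat_lit 0, nat_lit 3, nat_lit 4, nat_lit 5]))))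
 (.node (nat_lit 212992) (.node (nat_lit 200704) (.leaf [nat_lit 2, nat_lit 3, nat_lit 5, nat_lit 4, nat_lit 1, nat_lit 4]) (.node (nat_lit 204800) (.leaf [nat_lit 0, nat_lit 5, nat_lit 3, nat_lit 4, nat_lit 6, nat_lit 4]) (.leaf [nat_lit 2, nat_lit 6, nat_lit 5, nat_lit 4, nat_lit 3]))) (.node (nat_lit 229376) (.leaf [nat_lit 0, nat_lit 3, nat_lit 4, nat_lit 6, nat_lit 4]) (.node (nat_lit 262168) (.leaf [nat_lit 2, nat_lit 3, nat_lit 5, nat_lit 0, nat_lit 4]) (.leaf [nat_lit 4, nat_lit 0, nat_lit 4])))))))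
 (.node (nat_lit 263184) (.node (nat_lit 262416) (.node (nat_lit 262280) (.node (nat_lit 262216) (.node (nat_lit 262192) (.leaf [nat_lit 4, nat_lit 1, nat_lit 4]) (.leaf [nat_lit 6, nat_lit 0, nat_lit 4])) (.node (nat_lit 262224) (.leaf [nat_lit 3, nat_lit 4, nat_lit 0, nat_lit 3]) (.node (nat_lit 262240) (.leaf [nat_lit 3, nat_lit 5, nat_lit 0, nat_lit 5]) (.leaf [nat_lit 2, nat_lit 5, nat_lit 1, nat_lit 4]))))
 (.node (nat_lit 262304) (.node (nat_lit 262288) (.leaf [nat_lit 4, nat_lit 6, nat_lit 1, nat_lit 5]) (.leaf [nat_lit 4, nat_lit 5, nat_lit 0, nat_lit 4])) (.node (nat_lit 262336) (.leaf [nat_lit 2, nat_lit 0, nat_lit 4, nat_lit 5]) (.node (nat_lit 262408) (.leaf [nat_lit 2, nat_lit 0, nat_lit 4, nat_lit 5, nat_lit 3]) (.leaf [nat_lit 0, nat_lit 4, nat_lit 3, nat_lit 2, nat_lit 3])))))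
 (.node (nat_lit 262672) (.node (nat_lit 262464) (.node (nat_lit 262432) (.leaf [nat_lit 6, nat_lit 0, nat_lit 4, nat_lit 0, nat_lit 3]) (.leaf [nat_lit 6, nat_lit 0, nat_lit 5, nat_lit 4, nat_lit 3])) (.node (nat_lit 262528) (.leaf [nat_lit 0, nat_lit 4, nat_lit 2, nat_lit 0, nat_lit 5, nat_lit 3]) (.node (nat_lit 262664) (.leaf [nat_lit 6, nat_lit 0, nat_lit 4, nat_lit 3, nat_lit 5]) (.leaf [nat_lit 1, nat_lit 4]))))
 (.node (nat_lit 262784) (.node (nat_lit 262688) (.leaf [nat_lit 6, nat_lit 0, nat_lit 4, nat_lit 0]) (.node (nat_lit 262720) (.leaf [nat_lit 6, nat_lit 0, nat_lit 5, nat_lit 4, nat_lit 0]) (.leaf [nat_lit 2, nat_lit 5, nat_lit 0, nat_lit 4]))) (.node (nat_lit 262912) (.leaf [nat_lit 4, nat_lit 5, nat_lit 1, nat_lit 4]) (.node (nat_lit 263176) (.leaf [nat_lit 1, nat_lit 4, nat_lit 6, nat_lit 4, nat_lit 3]) (.leaf [nat_lit 0, nat_lit 4, nat_lit 1, nat_lit 3]))))))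
 (.node (nat_lit 264320) (.node (nat_lit 263680) (.node (nat_lit 263232) (.node (nat_lit 263200) (.leaf [nat_lit 6, nat_lit 0, nat_lit 4, nat_lit 1, nat_lit 3]) (.leaf [nat_lit 0, nat_lit 4, nat_lit 5])) (.node (nat_lit 263296) (.leaf [nat_lit 0, nat_lit 4, nat_lit 5]) (.node (nat_lit 263424) (.leaf [nat_lit 4, nat_lit 5, nat_lit 2, nat_lit 0, nat_lit 4, nat_lit 3]) (.leaf [nat_lit 0, nat_lit 4, nat_lit 5, nat_lit 3, nat_lit 2, nat_lit 3]))))
 (.node (nat_lit 264208) (.node (nat_lit 264200) (.leaf [nat_lit 0, nat_lit 4, nat_lit 6, nat_lit 0, nat_lit 4, nat_lit 3]) (.leaf [nat_lit 4, nat_lit 0, nat_lit 4, nat_lit 0, nat_lit 3])) (.node (nat_lit 264224) (.leaf [nat_lit 3, nat_lit 2, nat_lit 1, nat_lit 5, nat_lit 3]) (.node (nat_lit 264256) (.leaf [nat_lit 4, nat_lit 0, nat_lit 4, nat_lit 1, nat_lit 5]) (.leaf [nat_lit 0, nat_lit 4, nat_lit 6, nat_lit 4])))))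
 (.node (nat_lit 266256) (.node (nat_lit 264704) (.node (nat_lit 264448) (.leaf [nat_lit 0, nat_lit 4, nat_lit 5, nat_lit 3, nat_lit 5]) (.leaf [nat_lit 0, nat_lit 4, nat_lit 6, nat_lit 4, nat_lit 1])) (.node (nat_lit 265216) (.leaf [nat_lit 0, nat_lit 4, nat_lit 6, nat_lit 0, nat_lit 4]) (.node (nat_lit 266248) (.leaf [nat_lit 0, nat_lit 4, nat_lit 5, nat_lit 0, nat_lit 3]) (.leaf [nat_lit 0, nat_lit 4, nat_lit 2, nat_lit 0, nat_lit 3]))))
 (.node (nat_lit 266368) (.node (nat_lit 266272) (.leaf [nat_lit 1, nat_lit 4, nat_lit 5, nat_lit 4]) (.node (nat_lit 266304) (.leaf [nat_lit 4, nat_lit 1, nat_lit 4, nat_lit 6, nat_lit 4, nat_lit 3]) (.leaf [nat_lit 3, nat_lit 4, nat_lit 3, nat_lit 5]))) (.node (nat_lit 266496) (.leaf [nat_lit 0, nat_lit 4, nat_lit 1, nat_lit 6, nat_lit 4]) (.node (nat_lit 266752) (.leaf [nat_lit 1, nat_lit 6, nat_lit 4, nat_lit 5]) (.leaf [nat_lit 0, nat_lit 4, nat_lit 2, nat_lit 1, nat_lit 5])))))))))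
 (.node (nat_lit 525320) (.node (nat_lit 328192) (.node (nat_lit 280576) (.node (nat_lit 272384) (.node (nat_lit 270400) (.node (nat_lit 270344) (.node (nat_lit 268288) (.leaf [nat_lit 0, nat_lit 4, nat_lit 5, nat_lit 2, nat_lit 0, nat_lit 3]) (.leaf [nat_lit 0, nat_lit 4, nat_lit 6, nat_lit 4, nat_lit 0])) (.node (nat_lit 270352) (.leaf [nat_lit 0, nat_lit 4, nat_lit 1]) (.node (nat_lit 270368) (.leaf [nat_lit 6, nat_lit 0, nat_lit 4]) (.leaf [nat_lit 3, nat_lit 4, nat_lit 3, nat_lit 5, nat_lit 4]))))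
 (.node (nat_lit 270592) (.node (nat_lit 270464) (.leaf [nat_lit 2, nat_lit 5, nat_lit 0, nat_lit 4, nat_lit 3]) (.leaf [nat_lit 4, nat_lit 5, nat_lit 0, nat_lit 4, nat_lit 3])) (.node (nat_lit 270848) (.leaf [nat_lit 5, nat_lit 0, nat_lit 4, nat_lit 0, nat_lit 5, nat_lit 3]) (.node (nat_lit 271360) (.leaf [nat_lit 2, nat_lit 4, nat_lit 6, nat_lit 0, nat_lit 4]) (.leaf [nat_lit 6, nat_lit 4, nat_lit 2, nat_lit 1, nat_lit 5])))))
 (.node (nat_lit 278592) (.node (nat_lit 278536) (.node (nat_lit 274432) (.leaf [nat_lit 0, nat_lit 3, nat_lit 2, nat_lit 5, nat_lit 4, nat_lit 3]) (.leaf [nat_lit 6, nat_lit 1, nat_lit 4, nat_lit 5, nat_lit 1, nat_lit 4])) (.node (nat_lit 278544) (.leaf [nat_lit 4, nat_lit 0, nat_lit 4, nat_lit 3]) (.node (nat_lit 278560) (.leaf [nat_lit 0, nat_lit 4, nat_lit 2, nat_lit 5]) (.leaf [nat_lit 5, nat_lit 0, nat_lit 5, nat_lit 0, nat_lit 4]))))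
 (.node (nat_lit 278784) (.node (nat_lit 278656) (.leaf [nat_lit 3, nat_lit 4, nat_lit 1, nat_lit 5]) (.leaf [nat_lit 5, nat_lit 0, nat_lit 5, nat_lit 4, nat_lit 0])) (.node (nat_lit 279040) (.leaf [nat_lit 3, nat_lit 5, nat_lit 0, nat_lit 5, nat_lit 4]) (.node (nat_lit 279552) (.leaf [nat_lit 5, nat_lit 0, nat_lit 5, nat_lit 4]) (.leaf [nat_lit 0, nat_lit 4, nat_lit 5, nat_lit 2, nat_lit 1, nat_lit 3]))))))
 (.node (nat_lit 295936) (.node (nat_lit 294944) (.node (nat_lit 286720) (.node (nat_lit 282624) (.leaf [nat_lit 0, nat_lit 4, nat_lit 2, nat_lit 5, nat_lit 0, nat_lit 3]) (.leaf [nat_lit 5, nat_lit 4, nat_lit 0, nat_lit 5, nat_lit 4, nat_lit 3])) (.node (nat_lit 294920) (.leaf [nat_lit 6, nat_lit 4, nat_lit 1, nat_lit 5]) (.node (nat_lit 294928) (.leaf [nat_lit 6, nat_lit 1, nat_lit 5]) (.leaf [nat_lit 6, nat_lit 0, nat_lit 4, nat_lit 3]))))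
 (.node (nat_lit 295040) (.node (nat_lit 294976) (.leaf [nat_lit 5, nat_lit 1, nat_lit 4]) (.leaf [nat_lit 5, nat_lit 3, nat_lit 4, nat_lit 0, nat_lit 3])) (.node (nat_lit 295168) (.leaf [nat_lit 5, nat_lit 0, nat_lit 4, nat_lit 0]) (.node (nat_lit 295424) (.leaf [nat_lit 2, nat_lit 0, nat_lit 4, nat_lit 6, nat_lit 4]) (.leaf [nat_lit 5, nat_lit 4, nat_lit 1, nat_lit 4])))))
 (.node (nat_lit 327688) (.node (nat_lit 299008) (.node (nat_lit 296960) (.leaf [nat_lit 0, nat_lit 4, nat_lit 5, nat_lit 3]) (.leaf [nat_lit 4, nat_lit 0, nat_lit 4, nat_lit 3, nat_lit 5])) (.node (nat_lit 303104) (.leaf [nat_lit 2, nat_lit 3, nat_lit 4, nat_lit 3, nat_lit 5]) (.node (nat_lit 311296) (.leaf [nat_lit 5, nat_lit 0, nat_lit 4, nat_lit 3]) (.leaf [nat_lit 5, nat_lit 0, nat_lit 4]))))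
 (.node (nat_lit 327744) (.node (nat_lit 327696) (.leaf [nat_lit 2, nat_lit 0, nat_lit 4, nat_lit 3]) (.node (nat_lit 327712) (.leaf [nat_lit 2, nat_lit 1, nat_lit 5]) (.leaf [nat_lit 5, nat_lit 4, nat_lit 0, nat_lit 4, nat_lit 5]))) (.node (nat_lit 327808) (.leaf [nat_lit 3, nat_lit 4, nat_lit 3, nat_lit 5]) (.node (nat_lit 327936) (.leaf [nat_lit 4, nat_lit 0, nat_lit 4, nat_lit 5, nat_lit 3]) (.leaf [nat_lit 0, nat_lit 4, nat_lit 6, nat_lit 3, nat_lit 4])))))))
 (.node (nat_lit 524312) (.node (nat_lit 393280) (.node (nat_lit 344064) (.node (nat_lit 329728) (.node (nat_lit 328704) (.leaf [nat_lit 4, nat_lit 0, nat_lit 4, nat_lit 5]) (.leaf [nat_lit 0, nat_lit 4, nat_lit 5, nat_lit 0])) (.node (nat_lit 331776) (.leaf [nat_lit 2, nat_lit 0, nat_lit 4, nat_lit 0, nat_lit 5, nat_lit 3]) (.node (nat_lit 335872) (.leaf [nat_lit 0, nat_lit 5, nat_lit 4, nat_lit 2, nat_lit 5, nat_lit 3]) (.leaf [nat_lit 2, nat_lit 6, nat_lit 5, nat_lit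 0, nat_lit 4]))))
 (.node (nat_lit 393224) (.node (nat_lit 360448) (.leaf [nat_lit 0, nat_lit 4, nat_lit 2, nat_lit 5, nat_lit 3]) (.leaf [nat_lit 5, nat_lit 2, nat_lit 0, nat_lit 4, nat_lit 3])) (.node (nat_lit 393232) (.leaf [nat_lit 4, nat_lit 3, nat_lit 4, nat_lit 0, nat_lit 3]) (.node (nat_lit 393248) (.leaf [nat_lit 6, nat_lit 3, nat_lit 4, nat_lit 0, nat_lit 3]) (.leaf [nat_lit 4, nat_lit 2, nat_lit 5, nat_lit 0, nat_lit 4])))))
 (.node (nat_lit 395264) (.node (nat_lit 393472) (.node (nat_lit 393344) (.leaf [nat_lit 2, nat_lit 5, nat_lit 0, nat_lit 4]) (.leaf [nat_lit 4, nat_lit 5, nat_lit 3, nat_lit 4, nat_lit 0, nat_lit 3])) (.node (nat_lit 393728) (.leaf [nat_lit 4, nat_lit 3, nat_lit 4, nat_lit 3, nat_lit 5]) (.node (nat_lit 394240) (.leaf [nat_lit 2, nat_lit 4, nat_lit 1, nat_lit 5]) (.leaf [nat_lit 0, nat_lit 4, nat_lit 5, nat_lit 1]))))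
 (.node (nat_lit 409600) (.node (nat_lit 397312) (.leaf [nat_lit 6, nat_lit 0, nat_lit 4, nat_lit 6, nat_lit 4]) (.node (nat_lit 401408) (.leaf [nat_lit 0, nat_lit 4, nat_lit 2, nat_lit 3, nat_lit 5]) (.leaf [nat_lit 2, nat_lit 6, nat_lit 4, nat_lit 1, nat_lit 5]))) (.node (nat_lit 425984) (.leaf [nat_lit 4, nat_lit 3, nat_lit 5, nat_lit 4, nat_lit 3]) (.node (nat_lit 458752) (.leaf [nat_lit 5, nat_lit 0, nat_lit 4, nat_lit 1, nat_lit 3]) (.leaf [nat_lit 4, nat_lit 0, nat_lit 4, nat_lit 5]))))))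
 (.node (nat_lit 524552) (.node (nat_lit 524384) (.node (nat_lit 524336) (.node (nat_lit 524328) (.leaf [nat_lit 3, nat_lit 2, nat_lit 1, nat_lit 3]) (.leaf [nat_lit 4, nat_lit 6, nat_lit 2, nat_lit 3])) (.node (nat_lit 524360) (.leaf [nat_lit 3, nat_lit 0, nat_lit 5]) (.node (nat_lit 524368) (.leaf [nat_lit 2, nat_lit 1, nat_lit 4, nat_lit 3]) (.leaf [nat_lit 2, nat_lit 5]))))
 (.node (nat_lit 524432) (.node (nat_lit 524424) (.leaf [nat_lit 4, nat_lit 1, nat_lit 5, nat_lit 0, nat_lit 5]) (.leaf [nat_lit 4, nat_lit 1, nat_lit 3])) (.node (nat_lit 524448) (.leaf [nat_lit 4, nat_lit 5, nat_lit 3, nat_lit 2, nat_lit 1, nat_lit 3]) (.node (nat_lit 524480) (.leaf [nat_lit 4, nat_lit 5]) (.leaf [nat_lit 4, nat_lit 5, nat_lit 0])))))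
 (.node (nat_lit 524808) (.node (nat_lit 524576) (.node (nat_lit 524560) (.leaf [nat_lit 4, nat_lit 1]) (.leaf [nat_lit 1, nat_lit 6, nat_lit 0, nat_lit 4])) (.node (nat_lit 524608) (.leaf [nat_lit 0, nat_lit 5, nat_lit 1, nat_lit 4, nat_lit 5]) (.node (nat_lit 524672) (.leaf [nat_lit 2, nat_lit 0, nat_lit 6, nat_lit 5, nat_lit 0, nat_lit 4]) (.leaf [nat_lit 4, nat_lit 5, nat_lit 3, nat_lit 2, nat_lit 0, nat_lit 3]))))
 (.node (nat_lit 524864) (.node (nat_lit 524816) (.leaf [nat_lit 4]) (.node (nat_lit 524832) (.leaf [nat_lit 3, nat_lit 2, nat_lit 5, nat_lit 1]) (.leaf [nat_lit 4, nat_lit 3, nat_lit 0, nat_lit 5, nat_lit 1]))) (.node (nat_lit 524928) (.leaf [nat_lit 4, nat_lit 3, nat_lit 2, nat_lit 6, nat_lit 4]) (.node (nat_lit 525056) (.leaf [nat_lit 4, nat_lit 5, nat_lit 6, nat_lit 2, nat_lit 3]) (.leaf [nat_lit 1, nat_lit 4, nat_lit 6, nat_lit 0, nat_lit 4]))))))))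
 (.node (nat_lit 542720) (.node (nat_lit 528896) (.node (nat_lit 526400) (.node (nat_lit 525568) (.node (nat_lit 525344) (.node (nat_lit 525328) (.leaf [nat_lit 4, nat_lit 2, nat_lit 0, nat_lit 3]) (.leaf [nat_lit 0, nat_lit 4, nat_lit 5, nat_lit 4])) (.node (nat_lit 525376) (.leaf [nat_lit 5, nat_lit 4, nat_lit 3, nat_lit 0, nat_lit 5]) (.node (nat_lit 525440) (.leaf [nat_lit 5, nat_lit 4, nat_lit 2, nat_lit 5, nat_lit 3]) (.leaf [nat_lit 4, nat_lit 5, nat_lit 2, nat_lit 0, nat_lit 3]))))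
 (.node (nat_lit 526344) (.node (nat_lit 525824) (.leaf [nat_lit 4, nat_lit 5, nat_lit 2, nat_lit 3, nat_lit 5]) (.leaf [nat_lit 0, nat_lit 4, nat_lit 5, nat_lit 1, nat_lit 4])) (.node (nat_lit 526352) (.leaf [nat_lit 4, nat_lit 3, nat_lit 2, nat_lit 3]) (.node (nat_lit 526368) (.leaf [nat_lit 0, nat_lit 6, nat_lit 4, nat_lit 2, nat_lit 3]) (.leaf [nat_lit 0, nat_lit 5, nat_lit 1, nat_lit 5, nat_lit 4])))))
 (.node (nat_lit 528392) (.node (nat_lit 526592) (.node (nat_lit 526464) (.leaf [nat_lit 4, nat_lit 6, nat_lit 3, nat_lit 4]) (.leaf [nat_lit 4, nat_lit 5, nat_lit 3, nat_lit 2, nat_lit 3])) (.node (nat_lit 526848) (.leaf [nat_lit 2, nat_lit 3, nat_lit 1, nat_lit 4, nat_lit 6, nat_lit 4]) (.node (nat_lit 527360) (.leaf [nat_lit 5, nat_lit 2, nat_lit 1, nat_lit 4, nat_lit 5]) (.leaf [nat_lit 4, nat_lit 2, nat_lit 3, nat_lit 5]))))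
 (.node (nat_lit 528448) (.node (nat_lit 528400) (.leaf [nat_lit 2, nat_lit 1, nat_lit 4, nat_lit 1, nat_lit 3]) (.node (nat_lit 528416) (.leaf [nat_lit 1, nat_lit 4, nat_lit 5, nat_lit 0, nat_lit 4]) (.leaf [nat_lit 2, nat_lit 1, nat_lit 4, nat_lit 5]))) (.node (nat_lit 528512) (.leaf [nat_lit 5, nat_lit 4, nat_lit 6, nat_lit 3, nat_lit 4]) (.node (nat_lit 528640) (.leaf [nat_lit 4, nat_lit 2, nat_lit 0, nat_lit 6, nat_lit 4]) (.leaf [nat_lit 4, nat_lit 1, nat_lit 6, nat_lit 4, nat_lit 1, nat_lit 3]))))))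
 (.node (nat_lit 533504) (.node (nat_lit 532512) (.node (nat_lit 530432) (.node (nat_lit 529408) (.leaf [nat_lit 4, nat_lit 1, nat_lit 6, nat_lit 4, nat_lit 3]) (.leaf [nat_lit 4, nat_lit 1, nat_lit 6, nat_lit 4])) (.node (nat_lit 532488) (.leaf [nat_lit 4, nat_lit 3, nat_lit 2, nat_lit 0, nat_lit 5]) (.node (nat_lit 532496) (.leaf [nat_lit 6, nat_lit 3, nat_lit 2, nat_lit 5, nat_lit 3]) (.leaf [nat_lit 3, nat_lit 2, nat_lit 5, nat_lit 3]))))
 (.node (nat_lit 532608) (.node (nat_lit 532544) (.leaf [nat_lit 4, nat_lit 6, nat_lit 4, nat_lit 2, nat_lit 3]) (.leaf [nat_lit 3, nat_lit 4, nat_lit 2, nat_lit 5, nat_lit 3])) (.node (nat_lit 532736) (.leaf [nat_lit 4, nat_lit 5, nat_lit 0, nat_lit 3]) (.node (nat_lit 532992) (.leaf [nat_lit 3, nat_lit 2, nat_lit 5, nat_lit 4, nat_lit 3]) (.leaf [nat_lit 4, nat_lit 6, nat_lit 4, nat_lit 3])))))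
 (.node (nat_lit 540704) (.node (nat_lit 536576) (.node (nat_lit 534528) (.leaf [nat_lit 4, nat_lit 6, nat_lit 4, nat_lit 0]) (.leaf [nat_lit 4, nat_lit 6, nat_lit 4, nat_lit 1])) (.node (nat_lit 540680) (.leaf [nat_lit 4, nat_lit 5, nat_lit 3, nat_lit 5]) (.node (nat_lit 540688) (.leaf [nat_lit 4, nat_lit 0, nat_lit 3]) (.leaf [nat_lit 5, nat_lit 0, nat_lit 5]))))
 (.node (nat_lit 540928) (.node (nat_lit 540736) (.leaf [nat_lit 4, nat_lit 5, nat_lit 6, nat_lit 4, nat_lit 3]) (.node (nat_lit 540800) (.leaf [nat_lit 4, nat_lit 1, nat_lit 5, nat_lit 3]) (.leaf [nat_lit 2, nat_lit 1, nat_lit 4, nat_lit 3, nat_lit 5]))) (.node (nat_lit 541184) (.leaf [nat_lit 4, nat_lit 1, nat_lit 5, nat_lit 2, nat_lit 3]) (.node (nat_lit 541696) (.leaf [nat_lit 2, nat_lit 4, nat_lit 3, nat_lit 0, nat_lit 5]) (.leaf [nat_lit 4, nat_lit 1, nat_lit 5])))))))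
 (.node (nat_lit 590336) (.node (nat_lit 558080) (.node (nat_lit 557088) (.node (nat_lit 548864) (.node (nat_lit 544768) (.leaf [nat_lit 4, nat_lit 3, nat_lit 5]) (.leaf [nat_lit 4, nat_lit 3, nat_lit 5])) (.node (nat_lit 557064) (.leaf [nat_lit 4, nat_lit 6, nat_lit 4]) (.node (nat_lit 557072) (.leaf [nat_lit 4]) (.leaf [nat_lit 5, nat_lit 3, nat_lit 2, nat_lit 1, nat_lit 3]))))
 (.node (nat_lit 557184) (.node (nat_lit 557120) (.leaf [nat_lit 5, nat_lit 4]) (.leaf [nat_lit 5, nat_lit 2, nat_lit 1, nat_lit 4, nat_lit 3])) (.node (nat_lit 557312) (.leaf [nat_lit 5, nat_lit 4, nat_lit 2, nat_lit 3]) (.node (nat_lit 557568) (.leaf [nat_lit 5, nat_lit 4, nat_lit 1]) (.leaf [nat_lit 5, nat_lit 4, nat_lit 6, nat_lit 2, nat_lit 3])))))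
 (.node (nat_lit 589832) (.node (nat_lit 561152) (.node (nat_lit 559104) (.leaf [nat_lit 5, nat_lit 4, nat_lit 2, nat_lit 1, nat_lit 3]) (.leaf [nat_lit 5, nat_lit 2, nat_lit 1, nat_lit 4, nat_lit 1, nat_lit 3])) (.node (nat_lit 565248) (.leaf [nat_lit 5, nat_lit 4, nat_lit 3, nat_lit 2, nat_lit 3]) (.node (nat_lit 573440) (.leaf [nat_lit 5, nat_lit 6, nat_lit 5, nat_lit 0, nat_lit 3]) (.leaf [nat_lit 5, nat_lit 4, nat_lit 3]))))
 (.node (nat_lit 589888) (.node (nat_lit 589840) (.leaf [nat_lit 4, nat_lit 0]) (.node (nat_lit 589856) (.leaf [nat_lit 1, nat_lit 6, nat_lit 1, nat_lit 4]) (.leaf [nat_lit 2, nat_lit 1, nat_lit 5, nat_lit 4]))) (.node (nat_lit 589952) (.leaf [nat_lit 3, nat_lit 4, nat_lit 6, nat_lit 3, nat_lit 4]) (.node (nat_lit 590080) (.leaf [nat_lit 4, nat_lit 0, nat_lit 5, nat_lit 6, nat_lit 4]) (.leaf [nat_lit 2, nat_lit 1, nat_lit 5, nat_lit 4, nat_lit 1]))))))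
 (.node (nat_lit 655424) (.node (nat_lit 606208) (.node (nat_lit 591872) (.node (nat_lit 590848) (.leaf [nat_lit 2, nat_lit 1, nat_lit 5, nat_lit 0, nat_lit 4]) (.leaf [nat_lit 4, nat_lit 2, nat_lit 5, nat_lit 6, nat_lit 4])) (.node (nat_lit 593920) (.leaf [nat_lit 4, nat_lit 5, nat_lit 6, nat_lit 3, nat_lit 4]) (.node (nat_lit 598016) (.leaf [nat_lit 2, nat_lit 1, nat_lit 5, nat_lit 4, nat_lit 2, nat_lit 3]) (.leaf [nat_lit 4, nat_lit 5, nat_lit 1, nat_lit 5, nat_lit 3]))))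
 (.node (nat_lit 655368) (.node (nat_lit 622592) (.leaf [nat_lit 2, nat_lit 1, nat_lit 5, nat_lit 4, nat_lit 3]) (.leaf [nat_lit 5, nat_lit 4, nat_lit 0])) (.node (nat_lit 655376) (.leaf [nat_lit 4, nat_lit 2, nat_lit 1, nat_lit 3]) (.node (nat_lit 655392) (.leaf [nat_lit 4, nat_lit 2, nat_lit 5]) (.leaf [nat_lit 4, nat_lit 0, nat_lit 6, nat_lit 1, nat_lit 4])))))
 (.node (nat_lit 657408) (.node (nat_lit 655616) (.node (nat_lit 655488) (.leaf [nat_lit 4, nat_lit 2, nat_lit 5, nat_lit 3]) (.leaf [nat_lit 4, nat_lit 5, nat_lit 2, nat_lit 1, nat_lit 3])) (.node (nat_lit 655872) (.leaf [nat_lit 4, nat_lit 6, nat_lit 4, nat_lit 3, nat_lit 4]) (.node (nat_lit 656384) (.leaf [nat_lit 4, nat_lit 3, nat_lit 0, nat_lit 5]) (.leaf [nat_lit 3, nat_lit 2, nat_lit 5, nat_lit 6, nat_lit 5]))))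
 (.node (nat_lit 671744) (.node (nat_lit 659456) (.leaf [nat_lit 5, nat_lit 4, nat_lit 1, nat_lit 6, nat_lit 4]) (.node (nat_lit 663552) (.leaf [nat_lit 4, nat_lit 2, nat_lit 5, nat_lit 1]) (.leaf [nat_lit 4, nat_lit 2, nat_lit 5, nat_lit 0, nat_lit 3]))) (.node (nat_lit 688128) (.leaf [nat_lit 6, nat_lit 5, nat_lit 3, nat_lit 5, nat_lit 4]) (.node (nat_lit 720896) (.leaf [nat_lit 5, nat_lit 4, nat_lit 2, nat_lit 0, nat_lit 3]) (.leaf [nat_lit 4, nat_lit 2, nat_lit 5, nat_lit 2, nat_lit 3])))))))))))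
 (.node (nat_lit 4196360) (.node (nat_lit 2097672) (.node (nat_lit 1081376) (.node (nat_lit 1049856) (.node (nat_lit 1048672) (.node (nat_lit 794624) (.node (nat_lit 786688) (.node (nat_lit 786464) (.node (nat_lit 786448) (.leaf [nat_lit 0, nat_lit 4]) (.leaf [nat_lit 3, nat_lit 2, nat_lit 5, nat_lit 0])) (.node (nat_lit 786496) (.leaf [nat_lit 4, nat_lit 6, nat_lit 0, nat_lit 4, nat_lit 0]) (.node (nat_lit 786560) (.leaf [nat_lit 0, nat_lit 5, nat_lit 4, nat_lit 5]) (.leaf [nat_lit 4, nat_lit 6, nat_lit 0, nat_lit 4, nat_lit 3]))))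
 (.node (nat_lit 787456) (.node (nat_lit 786944) (.leaf [nat_lit 4, nat_lit 1, nat_lit 4, nat_lit 5, nat_lit 4]) (.leaf [nat_lit 4, nat_lit 6, nat_lit 0, nat_lit 4])) (.node (nat_lit 788480) (.leaf [nat_lit 4, nat_lit 2, nat_lit 1, nat_lit 5]) (.node (nat_lit 790528) (.leaf [nat_lit 0, nat_lit 4, nat_lit 6, nat_lit 4, nat_lit 3]) (.leaf [nat_lit 1, nat_lit 4, nat_lit 5, nat_lit 1, nat_lit 4])))))
 (.node (nat_lit 1048600) (.node (nat_lit 819200) (.node (nat_lit 802816) (.leaf [nat_lit 4, nat_lit 6, nat_lit 0, nat_lit 4]) (.leaf [nat_lit 4, nat_lit 1, nat_lit 5])) (.node (nat_lit 851968) (.leaf [nat_lit 5, nat_lit 0, nat_lit 4]) (.node (nat_lit 917504) (.leaf [nat_lit 4, nat_lit 6, nat_lit 0, nat_lit 4, nat_lit 1, nat_lit 3]) (.leaf [nat_lit 1, nat_lit 5, nat_lit 0, nat_lit 5, nat_lit 4]))))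
 (.node (nat_lit 1048624) (.node (nat_lit 1048616) (.leaf [nat_lit 3]) (.leaf [nat_lit 4, nat_lit 2, nat_lit 4, nat_lit 2, nat_lit 3])) (.node (nat_lit 1048648) (.leaf [nat_lit 0, nat_lit 5, nat_lit 6, nat_lit 2, nat_lit 3]) (.node (nat_lit 1048656) (.leaf [nat_lit 3, nat_lit 4, nat_lit 6, nat_lit 2, nat_lit 3]) (.leaf [nat_lit 0, nat_lit 5]))))))
 (.node (nat_lit 1049096) (.node (nat_lit 1048840) (.node (nat_lit 1048720) (.node (nat_lit 1048712) (.leaf [nat_lit 0, nat_lit 5, nat_lit 1, nat_lit 4, nat_lit 2, nat_lit 0, nat_lit 3]) (.leaf [nat_lit 3, nat_lit 4, nat_lit 1, nat_lit 4, nat_lit 3])) (.node (nat_lit 1048736) (.leaf [nat_lit 4, nat_lit 5, nat_lit 4, nat_lit 0, nat_lit 3]) (.node (nat_lit 1048768) (.leaf [nat_lit 0, nat_lit 5, nat_lit 1, nat_lit 4, nat_lit 1]) (.leaf [nat_lit 3, nat_lit 4, nat_lit 5]))))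
 (.node (nat_lit 1048864) (.node (nat_lit 1048848) (.leaf [nat_lit 2, nat_lit 1, nat_lit 3, nat_lit 4]) (.leaf [nat_lit 0, nat_lit 5, nat_lit 1])) (.node (nat_lit 1048896) (.leaf [nat_lit 4, nat_lit 1, nat_lit 4, nat_lit 5, nat_lit 3]) (.node (nat_lit 1048960) (.leaf [nat_lit 1, nat_lit 6, nat_lit 5, nat_lit 4, nat_lit 0]) (.leaf [nat_lit 2, nat_lit 5, nat_lit 4, nat_lit 5, nat_lit 3, nat_lit 4])))))
 (.node (nat_lit 1049344) (.node (nat_lit 1049120) (.node (nat_lit 1049104) (.leaf [nat_lit 2, nat_lit 4, nat_lit 2, nat_lit 3]) (.leaf [nat_lit 0, nat_lit 6, nat_lit 0, nat_lit 4, nat_lit 3])) (.node (nat_lit 1049152) (.leaf [nat_lit 0, nat_lit 5, nat_lit 1, nat_lit 4]) (.node (nat_lit 1049216) (.leaf [nat_lit 2, nat_lit 5, nat_lit 4, nat_lit 1, nat_lit 3]) (.leaf [nat_lit 5, nat_lit 3, nat_lit 0, nat_lit 5, nat_lit 4, nat_lit 3]))))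
 (.node (nat_lit 1049632) (.node (nat_lit 1049608) (.leaf [nat_lit 3, nat_lit 4, nat_lit 1, nat_lit 4, nat_lit 5]) (.node (nat_lit 1049616) (.leaf [nat_lit 4, nat_lit 1, nat_lit 6, nat_lit 5]) (.leaf [nat_lit 0, nat_lit 5, nat_lit 2, nat_lit 3]))) (.node (nat_lit 1049664) (.leaf [nat_lit 0, nat_lit 5, nat_lit 2, nat_lit 4, nat_lit 3]) (.node (nat_lit 1049728) (.leaf [nat_lit 5, nat_lit 3, nat_lit 4, nat_lit 6, nat_lit 0, nat_lit 4]) (.leaf [nat_lit 0, nat_lit 5, nat_lit 1, nat_lit 3, nat_lit 4])))))))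
 (.node (nat_lit 1056800) (.node (nat_lit 1052680) (.node (nat_lit 1050688) (.node (nat_lit 1050632) (.node (nat_lit 1050112) (.leaf [nat_lit 3, nat_lit 2, nat_lit 4, nat_lit 5]) (.leaf [nat_lit 2, nat_lit 4, nat_lit 5])) (.node (nat_lit 1050640) (.leaf [nat_lit 1, nat_lit 3, nat_lit 1, nat_lit 4, nat_lit 3]) (.node (nat_lit 1050656) (.leaf [nat_lit 1, nat_lit 3, nat_lit 5]) (.leaf [nat_lit 0, nat_lit 5, nat_lit 1, nat_lit 4]))))
 (.node (nat_lit 1050880) (.node (nat_lit 1050752) (.leaf [nat_lit 3, nat_lit 2, nat_lit 1, nat_lit 5, nat_lit 4]) (.leaf [nat_lit 0, nat_lit 5, nat_lit 6, nat_lit 5, nat_lit 1])) (.node (nat_lit 1051136) (.leaf [nat_lit 3, nat_lit 4, nat_lit 2, nat_lit 4, nat_lit 5]) (.node (nat_lit 1051648) (.leaf [nat_lit 0, nat_lit 5, nat_lit 0, nat_lit 4, nat_lit 3]) (.leaf [nat_lit 0, nat_lit 5, nat_lit 6, nat_lit 5])))))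
 (.node (nat_lit 1052928) (.node (nat_lit 1052704) (.node (nat_lit 1052688) (.leaf [nat_lit 1, nat_lit 6, nat_lit 5, nat_lit 2, nat_lit 3]) (.leaf [nat_lit 1, nat_lit 5, nat_lit 6, nat_lit 4])) (.node (nat_lit 1052736) (.leaf [nat_lit 0, nat_lit 5, nat_lit 1, nat_lit 4, nat_lit 0, nat_lit 3]) (.node (nat_lit 1052800) (.leaf [nat_lit 3, nat_lit 2, nat_lit 1, nat_lit 4, nat_lit 5]) (.leaf [nat_lit 4, nat_lit 5, nat_lit 3, nat_lit 1, nat_lit 4]))))
 (.node (nat_lit 1054720) (.node (nat_lit 1053184) (.leaf [nat_lit 3, nat_lit 1, nat_lit 4, nat_lit 5]) (.node (nat_lit 1053696) (.leaf [nat_lit 1, nat_lit 4, nat_lit 5, nat_lit 3]) (.leaf [nat_lit 0, nat_lit 5, nat_lit 1, nat_lit 3, nat_lit 0, nat_lit 4]))) (.node (nat_lit 1056776) (.leaf [nat_lit 0, nat_lit 5, nat_lit 4, nat_lit 3, nat_lit 0, nat_lit 4]) (.node (nat_lit 1056784) (.leaf [nat_lit 1, nat_lit 6, nat_lit 5, nat_lit 1]) (.leaf [nat_lit 2, nat_lit 6, nat_lit 4]))))))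
 (.node (nat_lit 1064992) (.node (nat_lit 1057792) (.node (nat_lit 1056896) (.node (nat_lit 1056832) (.leaf [nat_lit 4, nat_lit 2, nat_lit 4, nat_lit 6, nat_lit 4]) (.leaf [nat_lit 5, nat_lit 3, nat_lit 5, nat_lit 0, nat_lit 4])) (.node (nat_lit 1057024) (.leaf [nat_lit 6, nat_lit 4, nat_lit 5]) (.node (nat_lit 1057280) (.leaf [nat_lit 3, nat_lit 4, nat_lit 2, nat_lit 5, nat_lit 4]) (.leaf [nat_lit 2, nat_lit 4, nat_lit 6, nat_lit 4]))))
 (.node (nat_lit 1060864) (.node (nat_lit 1058816) (.leaf [nat_lit 4, nat_lit 0, nat_lit 5, nat_lit 3, nat_lit 4]) (.leaf [nat_lit 0, nat_lit 5, nat_lit 3, nat_lit 1, nat_lit 4, nat_lit 3])) (.node (nat_lit 1064968) (.leaf [nat_lit 6, nat_lit 2, nat_lit 1, nat_lit 4, nat_lit 5]) (.node (nat_lit 1064976) (.leaf [nat_lit 3, nat_lit 4, nat_lit 1, nat_lit 4]) (.leaf [nat_lit 0, nat_lit 5, nat_lit 0])))))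
 (.node (nat_lit 1065984) (.node (nat_lit 1065088) (.node (nat_lit 1065024) (.leaf [nat_lit 3, nat_lit 0, nat_lit 5, nat_lit 4]) (.leaf [nat_lit 4, nat_lit 3, nat_lit 5, nat_lit 1, nat_lit 4])) (.node (nat_lit 1065216) (.leaf [nat_lit 3, nat_lit 2, nat_lit 0, nat_lit 4, nat_lit 5]) (.node (nat_lit 1065472) (.leaf [nat_lit 1, nat_lit 6, nat_lit 5, nat_lit 4, nat_lit 1]) (.leaf [nat_lit 5, nat_lit 3, nat_lit 0, nat_lit 5, nat_lit 4]))))
 (.node (nat_lit 1073152) (.node (nat_lit 1067008) (.leaf [nat_lit 3, nat_lit 0, nat_lit 4, nat_lit 5]) (.node (nat_lit 1069056) (.leaf [nat_lit 6, nat_lit 5, nat_lit 1, nat_lit 4, nat_lit 5, nat_lit 3]) (.leaf [nat_lit 0, nat_lit 5, nat_lit 6, nat_lit 2, nat_lit 5, nat_lit 2, nat_lit 3]))) (.node (nat_lit 1081352) (.leaf [nat_lit 4, nat_lit 6, nat_lit 5, nat_lit 4]) (.node (nat_lit 1081360) (.leaf [nat_lit 5, nat_lit 3, nat_lit 0, nat_lit 4, nat_lit 3]) (.leaf [nat_lit 5, nat_lit 1, nat_lit 3, nat_lit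 2, nat_lit 3]))))))))
 (.node (nat_lit 1310848) (.node (nat_lit 1122304) (.node (nat_lit 1114120) (.node (nat_lit 1082368) (.node (nat_lit 1081472) (.node (nat_lit 1081408) (.leaf [nat_lit 5, nat_lit 2, nat_lit 4, nat_lit 2, nat_lit 1, nat_lit 3]) (.leaf [nat_lit 5, nat_lit 3, nat_lit 0, nat_lit 4])) (.node (nat_lit 1081600) (.leaf [nat_lit 5, nat_lit 4, nat_lit 6, nat_lit 5]) (.node (nat_lit 1081856) (.leaf [nat_lit 5, nat_lit 3, nat_lit 1, nat_lit 4]) (.leaf [nat_lit 5, nat_lit 3, nat_lit 0, nat_lit 4]))))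
 (.node (nat_lit 1085440) (.node (nat_lit 1083392) (.leaf [nat_lit 5, nat_lit 4, nat_lit 3, nat_lit 4]) (.leaf [nat_lit 5, nat_lit 2, nat_lit 4, nat_lit 3, nat_lit 4])) (.node (nat_lit 1089536) (.leaf [nat_lit 5, nat_lit 0, nat_lit 6, nat_lit 2, nat_lit 5]) (.node (nat_lit 1097728) (.leaf [nat_lit 5, nat_lit 6, nat_lit 5, nat_lit 3]) (.leaf [nat_lit 5, nat_lit 3, nat_lit 4, nat_lit 1, nat_lit 4])))))
 (.node (nat_lit 1114368) (.node (nat_lit 1114144) (.node (nat_lit 1114128) (.leaf [nat_lit 1, nat_lit 6, nat_lit 5]) (.leaf [nat_lit 0, nat_lit 5, nat_lit 2, nat_lit 1, nat_lit 3])) (.node (nat_lit 1114176) (.leaf [nat_lit 0, nat_lit 5, nat_lit 2, nat_lit 4]) (.node (nat_lit 1114240) (.leaf [nat_lit 0, nat_lit 5, nat_lit 3, nat_lit 4, nat_lit 1, nat_lit 3]) (.leaf [nat_lit 0, nat_lit 5, nat_lit 3, nat_lit 4, nat_lit 0]))))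
 (.node (nat_lit 1115136) (.node (nat_lit 1114624) (.leaf [nat_lit 2, nat_lit 1, nat_lit 5, nat_lit 3, nat_lit 4]) (.leaf [nat_lit 0, nat_lit 5, nat_lit 3, nat_lit 4, nat_lit 0, nat_lit 3])) (.node (nat_lit 1116160) (.leaf [nat_lit 0, nat_lit 3, nat_lit 4, nat_lit 5, nat_lit 3]) (.node (nat_lit 1118208) (.leaf [nat_lit 0, nat_lit 5, nat_lit 3, nat_lit 4]) (.leaf [nat_lit 4, nat_lit 3, nat_lit 2, nat_lit 4, nat_lit 5]))))))
 (.node (nat_lit 1180672) (.node (nat_lit 1179680) (.node (nat_lit 1146880) (.node (nat_lit 1130496) (.leaf [nat_lit 0, nat_lit 5, nat_lit 3, nat_lit 4]) (.leaf [nat_lit 2, nat_lit 6, nat_lit 5, nat_lit 3, nat_lit 4, nat_lit 3])) (.node (nat_lit 1179656) (.leaf [nat_lit 5, nat_lit 6, nat_lit 2, nat_lit 1, nat_lit 5, nat_lit 3]) (.node (nat_lit 1179664) (.leaf [nat_lit 1, nat_lit 6, nat_lit 5, nat_lit 3]) (.leaf [nat_lit 6, nat_lit 3, nat_lit 4, nat_lit 3]))))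
 (.node (nat_lit 1179776) (.node (nat_lit 1179712) (.leaf [nat_lit 4, nat_lit 2, nat_lit 5, nat_lit 4, nat_lit 1, nat_lit 3]) (.leaf [nat_lit 3, nat_lit 4, nat_lit 6, nat_lit 4, nat_lit 2, nat_lit 3])) (.node (nat_lit 1179904) (.leaf [nat_lit 4, nat_lit 5, nat_lit 3, nat_lit 0, nat_lit 4]) (.node (nat_lit 1180160) (.leaf [nat_lit 1, nat_lit 6, nat_lit 5, nat_lit 4, nat_lit 3]) (.leaf [nat_lit 0, nat_lit 5, nat_lit 0, nat_lit 4, nat_lit 0, nat_lit 3])))))
 (.node (nat_lit 1212416) (.node (nat_lit 1183744) (.node (nat_lit 1181696) (.leaf [nat_lit 6, nat_lit 2, nat_lit 5, nat_lit 2, nat_lit 4, nat_lit 3]) (.leaf [nat_lit 1, nat_lit 3, nat_lit 5, nat_lit 4, nat_lit 1, nat_lit 4])) (.node (nat_lit 1187840) (.leaf [nat_lit 2, nat_lit 1, nat_lit 3, nat_lit 4, nat_lit 5]) (.node (nat_lit 1196032) (.leaf [nat_lit 0, nat_lit 5, nat_lit 3, nat_lit 2, nat_lit 4, nat_lit 3]) (.leaf [nat_lit 4, nat_lit 3, nat_lit 5, nat_lit 4]))))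
 (.node (nat_lit 1310736) (.node (nat_lit 1245184) (.leaf [nat_lit 4, nat_lit 3, nat_lit 4, nat_lit 5]) (.node (nat_lit 1310728) (.leaf [nat_lit 1, nat_lit 5, nat_lit 6, nat_lit 4, nat_lit 5]) (.leaf [nat_lit 0, nat_lit 4]))) (.node (nat_lit 1310752) (.leaf [nat_lit 6, nat_lit 4, nat_lit 1, nat_lit 4]) (.node (nat_lit 1310784) (.leaf [nat_lit 0, nat_lit 5, nat_lit 4]) (.leaf [nat_lit 0, nat_lit 5, nat_lit 4, nat_lit 1, nat_lit 3])))))))
 (.node (nat_lit 1581056) (.node (nat_lit 1441792) (.node (nat_lit 1314816) (.node (nat_lit 1311232) (.node (nat_lit 1310976) (.leaf [nat_lit 6, nat_lit 2, nat_lit 0, nat_lit 4, nat_lit 5]) (.leaf [nat_lit 3, nat_lit 4, nat_lit 1, nat_lit 5, nat_lit 4])) (.node (nat_lit 1311744) (.leaf [nat_lit 0, nat_lit 5, nat_lit 0, nat_lit 4]) (.node (nat_lit 1312768) (.leaf [nat_lit 6, nat_lit 0, nat_lit 4, nat_lit 5]) (.leaf [nat_lit 4, nat_lit 0, nat_lit 5, nat_lit 4, nat_lit 3]))))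
 (.node (nat_lit 1327104) (.node (nat_lit 1318912) (.leaf [nat_lit 0, nat_lit 5, nat_lit 4, nat_lit 2, nat_lit 1, nat_lit 3]) (.leaf [nat_lit 0, nat_lit 5, nat_lit 4, nat_lit 1])) (.node (nat_lit 1343488) (.leaf [nat_lit 4, nat_lit 6, nat_lit 5, nat_lit 1, nat_lit 4]) (.node (nat_lit 1376256) (.leaf [nat_lit 5, nat_lit 4, nat_lit 0, nat_lit 4, nat_lit 3]) (.leaf [nat_lit 4, nat_lit 6, nat_lit 0, nat_lit 4, nat_lit 5])))))
 (.node (nat_lit 1572992) (.node (nat_lit 1572880) (.node (nat_lit 1572872) (.leaf [nat_lit 6, nat_lit 2, nat_lit 5, nat_lit 1, nat_lit 4]) (.leaf [nat_lit 4, nat_lit 3])) (.node (nat_lit 1572896) (.leaf [nat_lit 0, nat_lit 5]) (.node (nat_lit 1572928) (.leaf [nat_lit 4, nat_lit 0, nat_lit 6, nat_lit 0, nat_lit 4, nat_lit 3]) (.leaf [nat_lit 4, nat_lit 6, nat_lit 3, nat_lit 4, nat_lit 3]))))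
 (.node (nat_lit 1573888) (.node (nat_lit 1573120) (.leaf [nat_lit 4, nat_lit 5, nat_lit 1, nat_lit 3, nat_lit 2, nat_lit 3]) (.node (nat_lit 1573376) (.leaf [nat_lit 3, nat_lit 2, nat_lit 5, nat_lit 4]) (.leaf [nat_lit 2, nat_lit 5, nat_lit 4, nat_lit 5]))) (.node (nat_lit 1574912) (.leaf [nat_lit 4, nat_lit 0, nat_lit 5, nat_lit 2, nat_lit 1, nat_lit 3]) (.node (nat_lit 1576960) (.leaf [nat_lit 4, nat_lit 0, nat_lit 5, nat_lit 3]) (.leaf [nat_lit 4, nat_lit 0, nat_lit 5, nat_lit 1]))))))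
 (.node (nat_lit 2097232) (.node (nat_lit 1835008) (.node (nat_lit 1605632) (.node (nat_lit 1589248) (.leaf [nat_lit 4, nat_lit 2, nat_lit 6, nat_lit 4]) (.leaf [nat_lit 3, nat_lit 2, nat_lit 5, nat_lit 1, nat_lit 4])) (.node (nat_lit 1638400) (.leaf [nat_lit 5, nat_lit 4, nat_lit 0, nat_lit 3]) (.node (nat_lit 1703936) (.leaf [nat_lit 4, nat_lit 0, nat_lit 5, nat_lit 2, nat_lit 3]) (.leaf [nat_lit 4, nat_lit 0, nat_lit 5]))))
 (.node (nat_lit 2097192) (.node (nat_lit 2097176) (.leaf [nat_lit 5, nat_lit 4, nat_lit 1, nat_lit 5]) (.leaf [nat_lit 2, nat_lit 3])) (.node (nat_lit 2097200) (.leaf [nat_lit 4, nat_lit 2, nat_lit 4, nat_lit 3]) (.node (nat_lit 2097224) (.leaf [nat_lit 3, nat_lit 0, nat_lit 5, nat_lit 3]) (.leaf [nat_lit 5, nat_lit 3, nat_lit 4, nat_lit 5, nat_lit 3])))))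
 (.node (nat_lit 2097344) (.node (nat_lit 2097288) (.node (nat_lit 2097248) (.leaf [nat_lit 6, nat_lit 1, nat_lit 4, nat_lit 0, nat_lit 3]) (.leaf [nat_lit 3, nat_lit 4, nat_lit 1, nat_lit 3, nat_lit 5])) (.node (nat_lit 2097296) (.leaf [nat_lit 6, nat_lit 4, nat_lit 5, nat_lit 4]) (.node (nat_lit 2097312) (.leaf [nat_lit 4, nat_lit 5, nat_lit 4, nat_lit 1, nat_lit 3]) (.leaf [nat_lit 4, nat_lit 5, nat_lit 4, nat_lit 1, nat_lit 4, nat_lit 3]))))
 (.node (nat_lit 2097440) (.node (nat_lit 2097416) (.leaf [nat_lit 3, nat_lit 4, nat_lit 5, nat_lit 1]) (.node (nat_lit 2097424) (.leaf [nat_lit 6, nat_lit 1, nat_lit 4, nat_lit 2, nat_lit 5]) (.leaf [nat_lit 2, nat_lit 1, nat_lit 3, nat_lit 5]))) (.node (nat_lit 2097472) (.leaf [nat_lit 4, nat_lit 1, nat_lit 4, nat_lit 5, nat_lit 0]) (.node (nat_lit 2097536) (.leaf [nat_lit 3, nat_lit 4, nat_lit 0, nat_lit 6, nat_lit 4, nat_lit 3]) (.leaf [nat_lit 4, nat_lit 1, nat_lit 3, nat_lit 4, nat_lit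 5])))))))))
 (.node (nat_lit 2229248) (.node (nat_lit 2113552) (.node (nat_lit 2100224) (.node (nat_lit 2098304) (.node (nat_lit 2097920) (.node (nat_lit 2097696) (.node (nat_lit 2097680) (.leaf [nat_lit 2, nat_lit 4, nat_lit 3]) (.leaf [nat_lit 2, nat_lit 0, nat_lit 5])) (.node (nat_lit 2097728) (.leaf [nat_lit 1, nat_lit 4, nat_lit 1, nat_lit 5, nat_lit 0, nat_lit 5]) (.node (nat_lit 2097792) (.leaf [nat_lit 2, nat_lit 5, nat_lit 4, nat_lit 0, nat_lit 3]) (.leaf [nat_lit 1, nat_lit 5, nat_lit 4, nat_lit 2, nat_lit 5, nat_lit 3]))))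
 (.node (nat_lit 2098192) (.node (nat_lit 2098184) (.leaf [nat_lit 2, nat_lit 4, nat_lit 0, nat_lit 5, nat_lit 3]) (.leaf [nat_lit 3, nat_lit 1, nat_lit 4, nat_lit 3, nat_lit 4])) (.node (nat_lit 2098208) (.leaf [nat_lit 6, nat_lit 2, nat_lit 4, nat_lit 1, nat_lit 3]) (.node (nat_lit 2098240) (.leaf [nat_lit 6, nat_lit 2, nat_lit 4, nat_lit 5]) (.leaf [nat_lit 3, nat_lit 4, nat_lit 2, nat_lit 3, nat_lit 5])))))
 (.node (nat_lit 2099232) (.node (nat_lit 2098688) (.node (nat_lit 2098432) (.leaf [nat_lit 4, nat_lit 2, nat_lit 3, nat_lit 5, nat_lit 4]) (.leaf [nat_lit 3, nat_lit 2, nat_lit 4, nat_lit 5, nat_lit 1])) (.node (nat_lit 2099208) (.leaf [nat_lit 5, nat_lit 6, nat_lit 3, nat_lit 4, nat_lit 5]) (.node (nat_lit 2099216) (.leaf [nat_lit 1, nat_lit 3, nat_lit 4]) (.leaf [nat_lit 0, nat_lit 6, nat_lit 4, nat_lit 0]))))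
 (.node (nat_lit 2099328) (.node (nat_lit 2099264) (.leaf [nat_lit 6, nat_lit 0, nat_lit 5, nat_lit 0, nat_lit 4, nat_lit 3]) (.leaf [nat_lit 2, nat_lit 5, nat_lit 3, nat_lit 1, nat_lit 4])) (.node (nat_lit 2099456) (.leaf [nat_lit 2, nat_lit 3, nat_lit 2, nat_lit 4, nat_lit 5]) (.node (nat_lit 2099712) (.leaf [nat_lit 1, nat_lit 6, nat_lit 4, nat_lit 0, nat_lit 6, nat_lit 4]) (.leaf [nat_lit 2, nat_lit 3, nat_lit 2, nat_lit 5, nat_lit 4]))))))
 (.node (nat_lit 2105352) (.node (nat_lit 2101376) (.node (nat_lit 2101264) (.node (nat_lit 2101256) (.leaf [nat_lit 5, nat_lit 4, nat_lit 5, nat_lit 3, nat_lit 4]) (.leaf [nat_lit 1, nat_lit 3, nat_lit 4, nat_lit 1, nat_lit 3])) (.node (nat_lit 2101280) (.leaf [nat_lit 6, nat_lit 1, nat_lit 4, nat_lit 1, nat_lit 3]) (.node (nat_lit 2101312) (.leaf [nat_lit 6, nat_lit 1, nat_lit 4, nat_lit 5, nat_lit 3]) (.leaf [nat_lit 6, nat_lit 2, nat_lit 4, nat_lit 3, nat_lit 5]))))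
 (.node (nat_lit 2101760) (.node (nat_lit 2101504) (.leaf [nat_lit 6, nat_lit 2, nat_lit 4, nat_lit 1, nat_lit 6, nat_lit 4]) (.leaf [nat_lit 3, nat_lit 1, nat_lit 4, nat_lit 5, nat_lit 2, nat_lit 1, nat_lit 3])) (.node (nat_lit 2102272) (.leaf [nat_lit 1, nat_lit 4, nat_lit 5, nat_lit 0]) (.node (nat_lit 2103296) (.leaf [nat_lit 2, nat_lit 4, nat_lit 5, nat_lit 3, nat_lit 1, nat_lit 4]) (.leaf [nat_lit 2, nat_lit 3, nat_lit 1, nat_lit 4, nat_lit 5])))))
 (.node (nat_lit 2105600) (.node (nat_lit 2105376) (.node (nat_lit 2105360) (.leaf [nat_lit 1, nat_lit 3, nat_lit 4, nat_lit 0]) (.leaf [nat_lit 6, nat_lit 4])) (.node (nat_lit 2105408) (.leaf [nat_lit 6, nat_lit 2, nat_lit 5, nat_lit 4, nat_lit 5]) (.node (nat_lit 2105472) (.leaf [nat_lit 2, nat_lit 5, nat_lit 6, nat_lit 5, nat_lit 3]) (.leaf [nat_lit 4, nat_lit 5, nat_lit 6, nat_lit 5, nat_lit 2, nat_lit 3]))))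
 (.node (nat_lit 2107392) (.node (nat_lit 2105856) (.leaf [nat_lit 6, nat_lit 4, nat_lit 0, nat_lit 6, nat_lit 4, nat_lit 3]) (.node (nat_lit 2106368) (.leaf [nat_lit 6, nat_lit 5, nat_lit 4, nat_lit 5]) (.leaf [nat_lit 2, nat_lit 6, nat_lit 4, nat_lit 5]))) (.node (nat_lit 2109440) (.leaf [nat_lit 5, nat_lit 3, nat_lit 5, nat_lit 1, nat_lit 3, nat_lit 4]) (.node (nat_lit 2113544) (.leaf [nat_lit 6, nat_lit 4, nat_lit 1, nat_lit 6, nat_lit 4, nat_lit 3]) (.leaf [nat_lit 4, nat_lit 6, nat_lit 5])))))))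
 (.node (nat_lit 2146304) (.node (nat_lit 2129928) (.node (nat_lit 2114048) (.node (nat_lit 2113600) (.node (nat_lit 2113568) (.leaf [nat_lit 2, nat_lit 6, nat_lit 3, nat_lit 4, nat_lit 3]) (.leaf [nat_lit 3, nat_lit 0, nat_lit 5, nat_lit 4, nat_lit 3])) (.node (nat_lit 2113664) (.leaf [nat_lit 5, nat_lit 3, nat_lit 4, nat_lit 5]) (.node (nat_lit 2113792) (.leaf [nat_lit 3, nat_lit 0, nat_lit 4, nat_lit 3, nat_lit 5]) (.leaf [nat_lit 3, nat_lit 0, nat_lit 4, nat_lit 1, nat_lit 5]))))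
 (.node (nat_lit 2115584) (.node (nat_lit 2114560) (.leaf [nat_lit 2, nat_lit 4, nat_lit 0, nat_lit 5]) (.leaf [nat_lit 2, nat_lit 4, nat_lit 5, nat_lit 3, nat_lit 0, nat_lit 4])) (.node (nat_lit 2117632) (.leaf [nat_lit 1, nat_lit 3, nat_lit 5, nat_lit 4, nat_lit 5]) (.node (nat_lit 2121728) (.leaf [nat_lit 1, nat_lit 3, nat_lit 4, nat_lit 5]) (.leaf [nat_lit 5, nat_lit 3, nat_lit 5, nat_lit 2, nat_lit 4, nat_lit 3])))))
 (.node (nat_lit 2130176) (.node (nat_lit 2129952) (.node (nat_lit 2129936) (.leaf [nat_lit 6, nat_lit 5, nat_lit 6, nat_lit 4, nat_lit 3]) (.leaf [nat_lit 5])) (.node (nat_lit 2129984) (.leaf [nat_lit 5, nat_lit 1, nat_lit 4, nat_lit 2, nat_lit 0, nat_lit 3]) (.node (nat_lit 2130048) (.leaf [nat_lit 5, nat_lit 3, nat_lit 4, nat_lit 1, nat_lit 3]) (.leaf [nat_lit 5, nat_lit 6, nat_lit 4, nat_lit 5, nat_lit 4]))))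
 (.node (nat_lit 2131968) (.node (nat_lit 2130432) (.leaf [nat_lit 1, nat_lit 5, nat_lit 3, nat_lit 5, nat_lit 0, nat_lit 4]) (.node (nat_lit 2130944) (.leaf [nat_lit 5, nat_lit 4, nat_lit 1, nat_lit 4, nat_lit 3]) (.leaf [nat_lit 2, nat_lit 3, nat_lit 4, nat_lit 5]))) (.node (nat_lit 2134016) (.leaf [nat_lit 0, nat_lit 6, nat_lit 5, nat_lit 4, nat_lit 0]) (.node (nat_lit 2138112) (.leaf [nat_lit 1, nat_lit 3, nat_lit 4, nat_lit 5]) (.leaf [nat_lit 5, nat_lit 6, nat_lit 5, nat_lit 2, nat_lit 3]))))))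
 (.node (nat_lit 2166784) (.node (nat_lit 2162816) (.node (nat_lit 2162704) (.node (nat_lit 2162696) (.leaf [nat_lit 5, nat_lit 3, nat_lit 4, nat_lit 1, nat_lit 4, nat_lit 3]) (.leaf [nat_lit 0, nat_lit 3, nat_lit 4, nat_lit 3, nat_lit 2, nat_lit 3])) (.node (nat_lit 2162720) (.leaf [nat_lit 6, nat_lit 1, nat_lit 4, nat_lit 2, nat_lit 3]) (.node (nat_lit 2162752) (.leaf [nat_lit 0, nat_lit 3, nat_lit 4, nat_lit 0, nat_lit 5, nat_lit 3]) (.leaf [nat_lit 2, nat_lit 5, nat_lit 6, nat_lit 5, nat_lit 0, nat_lit 5]))))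
 (.node (nat_lit 2163200) (.node (nat_lit 2162944) (.leaf [nat_lit 4, nat_lit 2, nat_lit 3, nat_lit 4, nat_lit 5]) (.leaf [nat_lit 2, nat_lit 0, nat_lit 5, nat_lit 6, nat_lit 5, nat_lit 3])) (.node (nat_lit 2163712) (.leaf [nat_lit 2, nat_lit 4, nat_lit 0, nat_lit 5, nat_lit 0]) (.node (nat_lit 2164736) (.leaf [nat_lit 6, nat_lit 2, nat_lit 4, nat_lit 5, nat_lit 3]) (.leaf [nat_lit 3, nat_lit 0, nat_lit 5, nat_lit 3, nat_lit 5, nat_lit 4])))))
 (.node (nat_lit 2228240) (.node (nat_lit 2179072) (.node (nat_lit 2170880) (.leaf [nat_lit 6, nat_lit 1, nat_lit 4, nat_lit 5]) (.leaf [nat_lit 2, nat_lit 6, nat_lit 5, nat_lit 4])) (.node (nat_lit 2195456) (.leaf [nat_lit 2, nat_lit 3, nat_lit 5, nat_lit 1, nat_lit 4]) (.node (nat_lit 2228232) (.leaf [nat_lit 2, nat_lit 3, nat_lit 5, nat_lit 4]) (.leaf [nat_lit 1, nat_lit 3, nat_lit 0, nat_lit 4]))))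
 (.node (nat_lit 2228352) (.node (nat_lit 2228256) (.leaf [nat_lit 6, nat_lit 2, nat_lit 4]) (.node (nat_lit 2228288) (.leaf [nat_lit 2, nat_lit 3, nat_lit 0, nat_lit 5, nat_lit 4]) (.leaf [nat_lit 6, nat_lit 2, nat_lit 5, nat_lit 4, nat_lit 3]))) (.node (nat_lit 2228480) (.leaf [nat_lit 2, nat_lit 3, nat_lit 0, nat_lit 4, nat_lit 5]) (.node (nat_lit 2228736) (.leaf [nat_lit 1, nat_lit 5, nat_lit 3, nat_lit 5, nat_lit 4]) (.leaf [nat_lit 1, nat_lit 4, nat_lit 1, nat_lit 5, nat_lit 3]))))))))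
 (.node (nat_lit 3145792) (.node (nat_lit 2424832) (.node (nat_lit 2359360) (.node (nat_lit 2260992) (.node (nat_lit 2232320) (.node (nat_lit 2230272) (.leaf [nat_lit 6, nat_lit 2, nat_lit 5, nat_lit 4, nat_lit 2, nat_lit 3]) (.leaf [nat_lit 6, nat_lit 2, nat_lit 5, nat_lit 4, nat_lit 1])) (.node (nat_lit 2236416) (.leaf [nat_lit 6, nat_lit 2, nat_lit 5, nat_lit 4, nat_lit 3, nat_lit 2, nat_lit 3]) (.node (nat_lit 2244608) (.leaf [nat_lit 2, nat_lit 4, nat_lit 6, nat_lit 5, nat_lit 4]) (.leaf [nat_lit 2, nat_lit 4, nat_lit 3, nat_lit 5, nat_lit 4]))))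
 (.node (nat_lit 2359304) (.node (nat_lit 2293760) (.leaf [nat_lit 6, nat_lit 1, nat_lit 5, nat_lit 4, nat_lit 0]) (.leaf [nat_lit 2, nat_lit 3, nat_lit 5, nat_lit 1, nat_lit 4])) (.node (nat_lit 2359312) (.leaf [nat_lit 0, nat_lit 4, nat_lit 0]) (.node (nat_lit 2359328) (.leaf [nat_lit 6, nat_lit 1, nat_lit 4]) (.leaf [nat_lit 2, nat_lit 0, nat_lit 5, nat_lit 4])))))
 (.node (nat_lit 2361344) (.node (nat_lit 2359552) (.node (nat_lit 2359424) (.leaf [nat_lit 6, nat_lit 2, nat_lit 4, nat_lit 1, nat_lit 5]) (.leaf [nat_lit 6, nat_lit 4, nat_lit 5, nat_lit 1, nat_lit 4])) (.node (nat_lit 2359808) (.leaf [nat_lit 6, nat_lit 0, nat_lit 4, nat_lit 1, nat_lit 5]) (.node (nat_lit 2360320) (.leaf [nat_lit 4, nat_lit 2, nat_lit 0, nat_lit 5, nat_lit 4]) (.leaf [nat_lit 4, nat_lit 2, nat_lit 6, nat_lit 5, nat_lit 1, nat_lit 4]))))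
 (.node (nat_lit 2367488) (.node (nat_lit 2363392) (.leaf [nat_lit 4, nat_lit 2, nat_lit 0, nat_lit 5, nat_lit 4, nat_lit 3]) (.leaf [nat_lit 1, nat_lit 4, nat_lit 6, nat_lit 3, nat_lit 5, nat_lit 4])) (.node (nat_lit 2375680) (.leaf [nat_lit 2, nat_lit 0, nat_lit 5, nat_lit 4, nat_lit 1]) (.node (nat_lit 2392064) (.leaf [nat_lit 6, nat_lit 5, nat_lit 0, nat_lit 5, nat_lit 4]) (.leaf [nat_lit 5, nat_lit 4, nat_lit 6, nat_lit 1, nat_lit 5]))))))
 (.node (nat_lit 2623488) (.node (nat_lit 2621504) (.node (nat_lit 2621448) (.node (nat_lit 2490368) (.leaf [nat_lit 2, nat_lit 6, nat_lit 5, nat_lit 1, nat_lit 4]) (.leaf [nat_lit 6, nat_lit 2, nat_lit 5, nat_lit 0, nat_lit 4])) (.node (nat_lit 2621456) (.leaf [nat_lit 4, nat_lit 2, nat_lit 3]) (.node (nat_lit 2621472) (.leaf [nat_lit 1, nat_lit 3, nat_lit 5, nat_lit 0, nat_lit 5]) (.leaf [nat_lit 4, nat_lit 2, nat_lit 0, nat_lit 5]))))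
 (.node (nat_lit 2621696) (.node (nat_lit 2621568) (.leaf [nat_lit 5, nat_lit 4, nat_lit 5, nat_lit 0]) (.leaf [nat_lit 4, nat_lit 5])) (.node (nat_lit 2621952) (.leaf [nat_lit 4, nat_lit 6, nat_lit 1, nat_lit 4, nat_lit 1, nat_lit 3]) (.node (nat_lit 2622464) (.leaf [nat_lit 5, nat_lit 4, nat_lit 5]) (.leaf [nat_lit 1, nat_lit 3, nat_lit 4, nat_lit 3, nat_lit 5])))))
 (.node (nat_lit 2686976) (.node (nat_lit 2629632) (.node (nat_lit 2625536) (.leaf [nat_lit 4, nat_lit 2, nat_lit 0, nat_lit 5, nat_lit 3]) (.leaf [nat_lit 2, nat_lit 1, nat_lit 4, nat_lit 5, nat_lit 3])) (.node (nat_lit 2637824) (.leaf [nat_lit 4, nat_lit 6, nat_lit 4]) (.node (nat_lit 2654208) (.leaf [nat_lit 4, nat_lit 6, nat_lit 1, nat_lit 4, nat_lit 3]) (.leaf [nat_lit 5, nat_lit 4, nat_lit 1, nat_lit 3]))))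
 (.node (nat_lit 3145736) (.node (nat_lit 2752512) (.leaf [nat_lit 4, nat_lit 6, nat_lit 2, nat_lit 4, nat_lit 1, nat_lit 3]) (.node (nat_lit 2883584) (.leaf [nat_lit 1, nat_lit 3, nat_lit 4, nat_lit 1, nat_lit 5]) (.leaf [nat_lit 4, nat_lit 6, nat_lit 1, nat_lit 4]))) (.node (nat_lit 3145744) (.leaf [nat_lit 1, nat_lit 3, nat_lit 4]) (.node (nat_lit 3145760) (.leaf [nat_lit 0, nat_lit 5, nat_lit 2, nat_lit 0, nat_lit 3]) (.leaf [nat_lit 6, nat_lit 0, nat_lit 5, nat_lit 1, nat_lit 4])))))))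
 (.node (nat_lit 4194448) (.node (nat_lit 3211264) (.node (nat_lit 3147776) (.node (nat_lit 3145984) (.node (nat_lit 3145856) (.leaf [nat_lit 2, nat_lit 6, nat_lit 1, nat_lit 5, nat_lit 4]) (.leaf [nat_lit 4, nat_lit 6, nat_lit 1, nat_lit 5, nat_lit 4])) (.node (nat_lit 3146240) (.leaf [nat_lit 4, nat_lit 6, nat_lit 1, nat_lit 4, nat_lit 5]) (.node (nat_lit 3146752) (.leaf [nat_lit 0, nat_lit 5, nat_lit 2, nat_lit 0, nat_lit 4, nat_lit 3]) (.leaf [nat_lit 6, nat_lit 2, nat_lit 4, nat_lit 5]))))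
 (.node (nat_lit 3153920) (.node (nat_lit 3149824) (.leaf [nat_lit 6, nat_lit 5, nat_lit 1, nat_lit 4, nat_lit 5]) (.leaf [nat_lit 6, nat_lit 1, nat_lit 4, nat_lit 5])) (.node (nat_lit 3162112) (.leaf [nat_lit 1, nat_lit 3, nat_lit 5, nat_lit 4, nat_lit 0]) (.node (nat_lit 3178496) (.leaf [nat_lit 6, nat_lit 4, nat_lit 1, nat_lit 5, nat_lit 4]) (.leaf [nat_lit 6, nat_lit 1, nat_lit 5, nat_lit 4])))))
 (.node (nat_lit 4194344) (.node (nat_lit 3407872) (.node (nat_lit 3276800) (.leaf [nat_lit 6, nat_lit 4, nat_lit 2, nat_lit 4, nat_lit 5]) (.leaf [nat_lit 6, nat_lit 2, nat_lit 5, nat_lit 4])) (.node (nat_lit 3670016) (.leaf [nat_lit 0, nat_lit 5, nat_lit 4, nat_lit 0]) (.node (nat_lit 4194328) (.leaf [nat_lit 1, nat_lit 3, nat_lit 5, nat_lit 4, nat_lit 3]) (.leaf [nat_lit 0, nat_lit 3]))))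
 (.node (nat_lit 4194384) (.node (nat_lit 4194352) (.leaf [nat_lit 1, nat_lit 5, nat_lit 1, nat_lit 4, nat_lit 3]) (.node (nat_lit 4194376) (.leaf [nat_lit 5, nat_lit 6, nat_lit 4, nat_lit 2, nat_lit 3]) (.leaf [nat_lit 3, nat_lit 4]))) (.node (nat_lit 4194400) (.leaf [nat_lit 1, nat_lit 5, nat_lit 2, nat_lit 0, nat_lit 3]) (.node (nat_lit 4194440) (.leaf [nat_lit 3, nat_lit 5, nat_lit 4, nat_lit 0, nat_lit 3]) (.leaf [nat_lit 6, nat_lit 5, nat_lit 2, nat_lit 3]))))))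
 (.node (nat_lit 4194848) (.node (nat_lit 4194592) (.node (nat_lit 4194496) (.node (nat_lit 4194464) (.leaf [nat_lit 5, nat_lit 6, nat_lit 4]) (.leaf [nat_lit 5, nat_lit 6, nat_lit 5, nat_lit 4, nat_lit 5])) (.node (nat_lit 4194568) (.leaf [nat_lit 3, nat_lit 5, nat_lit 4, nat_lit 2, nat_lit 3]) (.node (nat_lit 4194576) (.leaf [nat_lit 3, nat_lit 1, nat_lit 4, nat_lit 3]) (.leaf [nat_lit 3, nat_lit 5]))))
 (.node (nat_lit 4194688) (.node (nat_lit 4194624) (.leaf [nat_lit 1, nat_lit 5, nat_lit 1, nat_lit 4]) (.leaf [nat_lit 3, nat_lit 5, nat_lit 4, nat_lit 6, nat_lit 2, nat_lit 3])) (.node (nat_lit 4194824) (.leaf [nat_lit 3, nat_lit 5, nat_lit 4, nat_lit 2, nat_lit 4, nat_lit 3]) (.node (nat_lit 4194832) (.leaf [nat_lit 1, nat_lit 4]) (.leaf [nat_lit 5, nat_lit 6, nat_lit 4, nat_lit 3])))))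
 (.node (nat_lit 4195344) (.node (nat_lit 4194944) (.node (nat_lit 4194880) (.leaf [nat_lit 1, nat_lit 5, nat_lit 4]) (.leaf [nat_lit 1, nat_lit 5, nat_lit 4, nat_lit 0])) (.node (nat_lit 4195072) (.leaf [nat_lit 1, nat_lit 5, nat_lit 4, nat_lit 2, nat_lit 1, nat_lit 3]) (.node (nat_lit 4195336) (.leaf [nat_lit 1, nat_lit 5, nat_lit 6, nat_lit 5, nat_lit 0, nat_lit 3]) (.leaf [nat_lit 1, nat_lit 5, nat_lit 2, nat_lit 3, nat_lit 4]))))
 (.node (nat_lit 4195456) (.node (nat_lit 4195360) (.leaf [nat_lit 3, nat_lit 0, nat_lit 5, nat_lit 6, nat_lit 4]) (.node (nat_lit 4195392) (.leaf [nat_lit 1, nat_lit 5, nat_lit 1, nat_lit 4, nat_lit 1]) (.leaf [nat_lit 3, nat_lit 5, nat_lit 4, nat_lit 2, nat_lit 1, nat_lit 3]))) (.node (nat_lit 4195584) (.leaf [nat_lit 4, nat_lit 5, nat_lit 1, nat_lit 6, nat_lit 5]) (.node (nat_lit 4195840) (.leaf [nat_lit 3, nat_lit 2, nat_lit 4, nat_lit 5, nat_lit 0]) (.leaf [nat_lit 6, nat_lit 2, nat_lit 3, nat_lit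 4, nat_lit 5]))))))))))
 (.node (nat_lit 8389664) (.node (nat_lit 4456960) (.node (nat_lit 4227136) (.node (nat_lit 4202560) (.node (nat_lit 4198432) (.node (nat_lit 4196608) (.node (nat_lit 4196384) (.node (nat_lit 4196368) (.leaf [nat_lit 6, nat_lit 5, nat_lit 1]) (.leaf [nat_lit 6, nat_lit 2, nat_lit 3, nat_lit 4])) (.node (nat_lit 4196416) (.leaf [nat_lit 6, nat_lit 5, nat_lit 2, nat_lit 4, nat_lit 3, nat_lit 4]) (.node (nat_lit 4196480) (.leaf [nat_lit 3, nat_lit 5, nat_lit 4, nat_lit 0]) (.leaf [nat_lit 4, nat_lit 2, nat_lit 3, nat_lit 4, nat_lit 6, nat_lit 4]))))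
 (.node (nat_lit 4197376) (.node (nat_lit 4196864) (.leaf [nat_lit 1, nat_lit 5, nat_lit 3, nat_lit 1, nat_lit 4, nat_lit 3]) (.leaf [nat_lit 1, nat_lit 5, nat_lit 4, nat_lit 1])) (.node (nat_lit 4198408) (.leaf [nat_lit 0, nat_lit 6, nat_lit 4, nat_lit 5]) (.node (nat_lit 4198416) (.leaf [nat_lit 4, nat_lit 3, nat_lit 1, nat_lit 4]) (.leaf [nat_lit 1, nat_lit 5, nat_lit 2, nat_lit 3])))))
 (.node (nat_lit 4199424) (.node (nat_lit 4198528) (.node (nat_lit 4198464) (.leaf [nat_lit 1, nat_lit 5, nat_lit 2, nat_lit 4, nat_lit 3]) (.leaf [nat_lit 0, nat_lit 6, nat_lit 2, nat_lit 4, nat_lit 5])) (.node (nat_lit 4198656) (.leaf [nat_lit 3, nat_lit 5, nat_lit 1, nat_lit 3, nat_lit 4]) (.node (nat_lit 4198912) (.leaf [nat_lit 1, nat_lit 5, nat_lit 6, nat_lit 5]) (.leaf [nat_lit 1, nat_lit 5, nat_lit 4, nat_lit 2, nat_lit 3]))))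
 (.node (nat_lit 4202504) (.node (nat_lit 4200448) (.leaf [nat_lit 1, nat_lit 5, nat_lit 1, nat_lit 3, nat_lit 4]) (.leaf [nat_lit 1, nat_lit 4, nat_lit 5, nat_lit 1, nat_lit 3, nat_lit 4])) (.node (nat_lit 4202512) (.leaf [nat_lit 2, nat_lit 0, nat_lit 3, nat_lit 4]) (.node (nat_lit 4202528) (.leaf [nat_lit 6, nat_lit 4]) (.leaf [nat_lit 6, nat_lit 5, nat_lit 4, nat_lit 0, nat_lit 3]))))))
 (.node (nat_lit 4210752) (.node (nat_lit 4204544) (.node (nat_lit 4202752) (.node (nat_lit 4202624) (.leaf [nat_lit 3, nat_lit 5, nat_lit 4, nat_lit 2, nat_lit 0, nat_lit 3]) (.leaf [nat_lit 6, nat_lit 5, nat_lit 4, nat_lit 2, nat_lit 3])) (.node (nat_lit 4203008) (.leaf [nat_lit 4, nat_lit 6, nat_lit 4, nat_lit 3, nat_lit 5]) (.node (nat_lit 4203520) (.leaf [nat_lit 6, nat_lit 5, nat_lit 4, nat_lit 1, nat_lit 3]) (.leaf [nat_lit 6, nat_lit 5, nat_lit 4, nat_lit 2, nat_lit 1, nat_lit 3]))))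
 (.node (nat_lit 4210696) (.node (nat_lit 4206592) (.leaf [nat_lit 3, nat_lit 2, nat_lit 3, nat_lit 5, nat_lit 0, nat_lit 4]) (.leaf [nat_lit 0, nat_lit 3, nat_lit 2, nat_lit 4, nat_lit 5])) (.node (nat_lit 4210704) (.leaf [nat_lit 6, nat_lit 5, nat_lit 3]) (.node (nat_lit 4210720) (.leaf [nat_lit 5, nat_lit 2, nat_lit 6, nat_lit 4]) (.leaf [nat_lit 5, nat_lit 2, nat_lit 4, nat_lit 6, nat_lit 4])))))
 (.node (nat_lit 4212736) (.node (nat_lit 4210944) (.node (nat_lit 4210816) (.leaf [nat_lit 3, nat_lit 5, nat_lit 0, nat_lit 4]) (.leaf [nat_lit 3, nat_lit 5, nat_lit 0, nat_lit 4, nat_lit 0])) (.node (nat_lit 4211200) (.leaf [nat_lit 3, nat_lit 5, nat_lit 4, nat_lit 1, nat_lit 4]) (.node (nat_lit 4211712) (.leaf [nat_lit 2, nat_lit 4, nat_lit 2, nat_lit 5, nat_lit 2, nat_lit 3]) (.leaf [nat_lit 3, nat_lit 0, nat_lit 4, nat_lit 5, nat_lit 3]))))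
 (.node (nat_lit 4227080) (.node (nat_lit 4214784) (.leaf [nat_lit 3, nat_lit 5, nat_lit 2, nat_lit 0, nat_lit 4, nat_lit 3]) (.node (nat_lit 4218880) (.leaf [nat_lit 4, nat_lit 3, nat_lit 5, nat_lit 4, nat_lit 1, nat_lit 4]) (.leaf [nat_lit 6, nat_lit 5, nat_lit 4, nat_lit 3]))) (.node (nat_lit 4227088) (.leaf [nat_lit 4, nat_lit 0, nat_lit 4, nat_lit 3, nat_lit 4]) (.node (nat_lit 4227104) (.leaf [nat_lit 5, nat_lit 1, nat_lit 3, nat_lit 2, nat_lit 0, nat_lit 3]) (.leaf [nat_lit 5, nat_lit 4, nat_lit 6, nat_lit 0, nat_lit 5])))))))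
 (.node (nat_lit 4292608) (.node (nat_lit 4259856) (.node (nat_lit 4229120) (.node (nat_lit 4227328) (.node (nat_lit 4227200) (.leaf [nat_lit 5, nat_lit 6, nat_lit 4, nat_lit 2, nat_lit 5]) (.leaf [nat_lit 5, nat_lit 1, nat_lit 3, nat_lit 4, nat_lit 0])) (.node (nat_lit 4227584) (.leaf [nat_lit 1, nat_lit 5, nat_lit 6, nat_lit 5, nat_lit 3]) (.node (nat_lit 4228096) (.leaf [nat_lit 5, nat_lit 6, nat_lit 0, nat_lit 5]) (.leaf [nat_lit 5, nat_lit 6, nat_lit 2, nat_lit 5]))))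
 (.node (nat_lit 4235264) (.node (nat_lit 4231168) (.leaf [nat_lit 0, nat_lit 6, nat_lit 5, nat_lit 4]) (.leaf [nat_lit 1, nat_lit 5, nat_lit 4, nat_lit 6, nat_lit 5])) (.node (nat_lit 4243456) (.leaf [nat_lit 5, nat_lit 2, nat_lit 0, nat_lit 3, nat_lit 4]) (.node (nat_lit 4259848) (.leaf [nat_lit 3, nat_lit 5, nat_lit 0, nat_lit 4, nat_lit 1]) (.leaf [nat_lit 3, nat_lit 2, nat_lit 3, nat_lit 4])))))
 (.node (nat_lit 4260352) (.node (nat_lit 4259904) (.node (nat_lit 4259872) (.leaf [nat_lit 1, nat_lit 5]) (.leaf [nat_lit 3, nat_lit 5, nat_lit 2, nat_lit 4, nat_lit 3, nat_lit 4])) (.node (nat_lit 4259968) (.leaf [nat_lit 2, nat_lit 5, nat_lit 0, nat_lit 3, nat_lit 4]) (.node (nat_lit 4260096) (.leaf [nat_lit 5, nat_lit 2, nat_lit 6, nat_lit 5, nat_lit 4]) (.leaf [nat_lit 1, nat_lit 5, nat_lit 6, nat_lit 5, nat_lit 2, nat_lit 3]))))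
 (.node (nat_lit 4263936) (.node (nat_lit 4260864) (.leaf [nat_lit 1, nat_lit 5, nat_lit 4, nat_lit 1, nat_lit 3]) (.node (nat_lit 4261888) (.leaf [nat_lit 0, nat_lit 3, nat_lit 4, nat_lit 5]) (.leaf [nat_lit 0, nat_lit 5, nat_lit 3, nat_lit 5, nat_lit 0, nat_lit 4]))) (.node (nat_lit 4268032) (.leaf [nat_lit 1, nat_lit 5, nat_lit 6, nat_lit 4, nat_lit 5, nat_lit 4]) (.node (nat_lit 4276224) (.leaf [nat_lit 6, nat_lit 5, nat_lit 4, nat_lit 0]) (.leaf [nat_lit 5, nat_lit 0, nat_lit 5, nat_lit 3, nat_lit 4]))))))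
 (.node (nat_lit 4329472) (.node (nat_lit 4325504) (.node (nat_lit 4325392) (.node (nat_lit 4325384) (.leaf [nat_lit 5, nat_lit 0, nat_lit 3, nat_lit 4]) (.leaf [nat_lit 4, nat_lit 3, nat_lit 0, nat_lit 4])) (.node (nat_lit 4325408) (.leaf [nat_lit 1, nat_lit 5, nat_lit 3]) (.node (nat_lit 4325440) (.leaf [nat_lit 3, nat_lit 5, nat_lit 6, nat_lit 5, nat_lit 3]) (.leaf [nat_lit 1, nat_lit 5, nat_lit 1, nat_lit 6, nat_lit 5]))))
 (.node (nat_lit 4325888) (.node (nat_lit 4325632) (.leaf [nat_lit 3, nat_lit 5, nat_lit 6, nat_lit 5]) (.leaf [nat_lit 6, nat_lit 5, nat_lit 3, nat_lit 4, nat_lit 2, nat_lit 3])) (.node (nat_lit 4326400) (.leaf [nat_lit 1, nat_lit 5, nat_lit 4, nat_lit 3]) (.node (nat_lit 4327424) (.leaf [nat_lit 6, nat_lit 5, nat_lit 6, nat_lit 2, nat_lit 5, nat_lit 3]) (.leaf [nat_lit 6, nat_lit 2, nat_lit 5, nat_lit 3, nat_lit 4])))))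
 (.node (nat_lit 4456456) (.node (nat_lit 4341760) (.node (nat_lit 4333568) (.leaf [nat_lit 6, nat_lit 5, nat_lit 3, nat_lit 4, nat_lit 0]) (.leaf [nat_lit 4, nat_lit 5, nat_lit 3, nat_lit 5, nat_lit 4])) (.node (nat_lit 4358144) (.leaf [nat_lit 3, nat_lit 5, nat_lit 0, nat_lit 4, nat_lit 3]) (.node (nat_lit 4390912) (.leaf [nat_lit 5, nat_lit 4, nat_lit 0, nat_lit 3, nat_lit 4]) (.leaf [nat_lit 3, nat_lit 5, nat_lit 4, nat_lit 3, nat_lit 1, nat_lit 4]))))
 (.node (nat_lit 4456512) (.node (nat_lit 4456464) (.leaf [nat_lit 0, nat_lit 4, nat_lit 3]) (.node (nat_lit 4456480) (.leaf [nat_lit 1, nat_lit 5]) (.leaf [nat_lit 4, nat_lit 5, nat_lit 0, nat_lit 5, nat_lit 4]))) (.node (nat_lit 4456576) (.leaf [nat_lit 3, nat_lit 5, nat_lit 4, nat_lit 3]) (.node (nat_lit 4456704) (.leaf [nat_lit 4, nat_lit 5, nat_lit 0, nat_lit 4]) (.leaf [nat_lit 0, nat_lit 4, nat_lit 0, nat_lit 5, nat_lit 3]))))))))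
 (.node (nat_lit 5767168) (.node (nat_lit 4734976) (.node (nat_lit 4718608) (.node (nat_lit 4472832) (.node (nat_lit 4458496) (.node (nat_lit 4457472) (.leaf [nat_lit 0, nat_lit 5, nat_lit 4, nat_lit 1, nat_lit 5]) (.leaf [nat_lit 6, nat_lit 0, nat_lit 4, nat_lit 5, nat_lit 3])) (.node (nat_lit 4460544) (.leaf [nat_lit 0, nat_lit 4, nat_lit 2, nat_lit 6, nat_lit 4]) (.node (nat_lit 4464640) (.leaf [nat_lit 1, nat_lit 5, nat_lit 4, nat_lit 2, nat_lit 4, nat_lit 3]) (.leaf [nat_lit 6, nat_lit 5, nat_lit 0, nat_lit 4]))))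
 (.node (nat_lit 4521984) (.node (nat_lit 4489216) (.leaf [nat_lit 3, nat_lit 5, nat_lit 0, nat_lit 4]) (.leaf [nat_lit 5, nat_lit 0, nat_lit 4, nat_lit 1])) (.node (nat_lit 4587520) (.leaf [nat_lit 6, nat_lit 5, nat_lit 2, nat_lit 0, nat_lit 4, nat_lit 3]) (.node (nat_lit 4718600) (.leaf [nat_lit 4, nat_lit 3, nat_lit 4, nat_lit 1, nat_lit 5]) (.leaf [nat_lit 6, nat_lit 5, nat_lit 0, nat_lit 3])))))
 (.node (nat_lit 4719104) (.node (nat_lit 4718656) (.node (nat_lit 4718624) (.leaf [nat_lit 4, nat_lit 5, nat_lit 0, nat_lit 5]) (.leaf [nat_lit 1, nat_lit 5, nat_lit 1, nat_lit 4])) (.node (nat_lit 4718720) (.leaf [nat_lit 4, nat_lit 6, nat_lit 3, nat_lit 0, nat_lit 4]) (.node (nat_lit 4718848) (.leaf [nat_lit 4, nat_lit 5, nat_lit 3]) (.leaf [nat_lit 1, nat_lit 5, nat_lit 0, nat_lit 4, nat_lit 3]))))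
 (.node (nat_lit 4720640) (.node (nat_lit 4719616) (.leaf [nat_lit 1, nat_lit 5, nat_lit 0, nat_lit 4]) (.leaf [nat_lit 4, nat_lit 2, nat_lit 1, nat_lit 5, nat_lit 3])) (.node (nat_lit 4722688) (.leaf [nat_lit 4, nat_lit 5, nat_lit 0, nat_lit 5, nat_lit 3]) (.node (nat_lit 4726784) (.leaf [nat_lit 2, nat_lit 1, nat_lit 4, nat_lit 5]) (.leaf [nat_lit 4, nat_lit 6, nat_lit 4, nat_lit 0, nat_lit 3]))))))
 (.node (nat_lit 5243136) (.node (nat_lit 5242888) (.node (nat_lit 4784128) (.node (nat_lit 4751360) (.leaf [nat_lit 5, nat_lit 4, nat_lit 2, nat_lit 6, nat_lit 4]) (.leaf [nat_lit 1, nat_lit 5, nat_lit 4, nat_lit 0, nat_lit 4, nat_lit 3])) (.node (nat_lit 4849664) (.leaf [nat_lit 3, nat_lit 2, nat_lit 5, nat_lit 3, nat_lit 4]) (.node (nat_lit 4980736) (.leaf [nat_lit 4, nat_lit 2, nat_lit 5, nat_lit 0]) (.leaf [nat_lit 6, nat_lit 5, nat_lit 0, nat_lit 4, nat_lit 3]))))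
 (.node (nat_lit 5242912) (.node (nat_lit 5242896) (.leaf [nat_lit 6, nat_lit 5, nat_lit 6, nat_lit 2, nat_lit 3]) (.leaf [nat_lit 5, nat_lit 6, nat_lit 4, nat_lit 0, nat_lit 3])) (.node (nat_lit 5242944) (.leaf [nat_lit 4, nat_lit 5, nat_lit 3, nat_lit 0, nat_lit 5, nat_lit 4]) (.node (nat_lit 5243008) (.leaf [nat_lit 3, nat_lit 5, nat_lit 4]) (.leaf [nat_lit 3, nat_lit 5, nat_lit 2, nat_lit 4, nat_lit 3])))))
 (.node (nat_lit 5251072) (.node (nat_lit 5243904) (.node (nat_lit 5243392) (.leaf [nat_lit 3, nat_lit 5, nat_lit 0, nat_lit 4, nat_lit 1, nat_lit 4]) (.leaf [nat_lit 4, nat_lit 3, nat_lit 0, nat_lit 5, nat_lit 4])) (.node (nat_lit 5244928) (.leaf [nat_lit 0, nat_lit 5, nat_lit 4, nat_lit 6, nat_lit 5]) (.node (nat_lit 5246976) (.leaf [nat_lit 0, nat_lit 5, nat_lit 6, nat_lit 5, nat_lit 3]) (.leaf [nat_lit 3, nat_lit 5, nat_lit 1, nat_lit 4, nat_lit 1]))))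
 (.node (nat_lit 5308416) (.node (nat_lit 5259264) (.leaf [nat_lit 6, nat_lit 5, nat_lit 4]) (.node (nat_lit 5275648) (.leaf [nat_lit 3, nat_lit 5, nat_lit 1, nat_lit 4]) (.leaf [nat_lit 5, nat_lit 6, nat_lit 5, nat_lit 0, nat_lit 5]))) (.node (nat_lit 5373952) (.leaf [nat_lit 0, nat_lit 5, nat_lit 3, nat_lit 0, nat_lit 4]) (.node (nat_lit 5505024) (.leaf [nat_lit 3, nat_lit 5, nat_lit 1, nat_lit 4]) (.leaf [nat_lit 6, nat_lit 5, nat_lit 1, nat_lit 4])))))))
 (.node (nat_lit 8388656) (.node (nat_lit 6295552) (.node (nat_lit 6291584) (.node (nat_lit 6291472) (.node (nat_lit 6291464) (.leaf [nat_lit 4, nat_lit 0, nat_lit 5, nat_lit 0]) (.leaf [nat_lit 6, nat_lit 5])) (.node (nat_lit 6291488) (.leaf [nat_lit 6, nat_lit 1, nat_lit 4, nat_lit 3]) (.node (nat_lit 6291520) (.leaf [nat_lit 1, nat_lit 5, nat_lit 2, nat_lit 4]) (.leaf [nat_lit 6, nat_lit 2, nat_lit 4, nat_lit 1, nat_lit 5, nat_lit 3]))))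
 (.node (nat_lit 6291968) (.node (nat_lit 6291712) (.leaf [nat_lit 6, nat_lit 5, nat_lit 4, nat_lit 2, nat_lit 4, nat_lit 3]) (.leaf [nat_lit 1, nat_lit 5, nat_lit 3, nat_lit 4])) (.node (nat_lit 6292480) (.leaf [nat_lit 2, nat_lit 4, nat_lit 0, nat_lit 5, nat_lit 2, nat_lit 3]) (.node (nat_lit 6293504) (.leaf [nat_lit 1, nat_lit 5, nat_lit 3, nat_lit 4, nat_lit 0]) (.leaf [nat_lit 1, nat_lit 5, nat_lit 3, nat_lit 4])))))
 (.node (nat_lit 6422528) (.node (nat_lit 6307840) (.node (nat_lit 6299648) (.leaf [nat_lit 1, nat_lit 3, nat_lit 4, nat_lit 5, nat_lit 3]) (.leaf [nat_lit 2, nat_lit 0, nat_lit 5, nat_lit 3, nat_lit 4])) (.node (nat_lit 6324224) (.leaf [nat_lit 5, nat_lit 6, nat_lit 4, nat_lit 5]) (.node (nat_lit 6356992) (.leaf [nat_lit 1, nat_lit 5, nat_lit 3, nat_lit 0, nat_lit 4]) (.leaf [nat_lit 1, nat_lit 5, nat_lit 3, nat_lit 4, nat_lit 1, nat_lit 3]))))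
 (.node (nat_lit 7340032) (.node (nat_lit 6553600) (.leaf [nat_lit 6, nat_lit 5, nat_lit 3, nat_lit 4, nat_lit 3]) (.node (nat_lit 6815744) (.leaf [nat_lit 1, nat_lit 5, nat_lit 3, nat_lit 4, nat_lit 3]) (.leaf [nat_lit 5, nat_lit 4, nat_lit 5, nat_lit 0, nat_lit 3]))) (.node (nat_lit 8388632) (.leaf [nat_lit 6, nat_lit 5, nat_lit 0, nat_lit 4, nat_lit 1, nat_lit 4]) (.node (nat_lit 8388648) (.leaf [nat_lit 3, nat_lit 2, nat_lit 3]) (.leaf [nat_lit 4, nat_lit 1, nat_lit 4, nat_lit 1]))))))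
 (.node (nat_lit 8388896) (.node (nat_lit 8388752) (.node (nat_lit 8388688) (.node (nat_lit 8388680) (.leaf [nat_lit 6, nat_lit 2, nat_lit 1, nat_lit 3, nat_lit 4]) (.leaf [nat_lit 3, nat_lit 4, nat_lit 2, nat_lit 3])) (.node (nat_lit 8388704) (.leaf [nat_lit 2, nat_lit 5, nat_lit 3, nat_lit 2, nat_lit 3]) (.node (nat_lit 8388744) (.leaf [nat_lit 0, nat_lit 3, nat_lit 0, nat_lit 5, nat_lit 4, nat_lit 3]) (.leaf [nat_lit 4, nat_lit 2, nat_lit 3, nat_lit 4]))))
 (.node (nat_lit 8388800) (.node (nat_lit 8388768) (.leaf [nat_lit 5, nat_lit 2, nat_lit 0, nat_lit 5, nat_lit 3]) (.leaf [nat_lit 5, nat_lit 1, nat_lit 4, nat_lit 2, nat_lit 5, nat_lit 3])) (.node (nat_lit 8388872) (.leaf [nat_lit 3, nat_lit 4, nat_lit 5]) (.node (nat_lit 8388880) (.leaf [nat_lit 3, nat_lit 2, nat_lit 4, nat_lit 3]) (.leaf [nat_lit 3, nat_lit 2, nat_lit 0, nat_lit 5])))))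
 (.node (nat_lit 8389152) (.node (nat_lit 8388992) (.node (nat_lit 8388928) (.leaf [nat_lit 0, nat_lit 5, nat_lit 1, nat_lit 4, nat_lit 5, nat_lit 3]) (.leaf [nat_lit 3, nat_lit 5, nat_lit 4, nat_lit 5])) (.node (nat_lit 8389128) (.leaf [nat_lit 4, nat_lit 5, nat_lit 4, nat_lit 3, nat_lit 2, nat_lit 4, nat_lit 3]) (.node (nat_lit 8389136) (.leaf [nat_lit 1, nat_lit 4, nat_lit 2, nat_lit 1, nat_lit 3]) (.leaf [nat_lit 1, nat_lit 4, nat_lit 2, nat_lit 5]))))
 (.node (nat_lit 8389376) (.node (nat_lit 8389184) (.leaf [nat_lit 4, nat_lit 5, nat_lit 1, nat_lit 4, nat_lit 5]) (.node (nat_lit 8389248) (.leaf [nat_lit 1, nat_lit 4, nat_lit 2, nat_lit 5, nat_lit 2, nat_lit 3]) (.leaf [nat_lit 2, nat_lit 4, nat_lit 2, nat_lit 3, nat_lit 5]))) (.node (nat_lit 8389640) (.leaf [nat_lit 1, nat_lit 4, nat_lit 2, nat_lit 5, nat_lit 0, nat_lit 3]) (.node (nat_lit 8389648) (.leaf [nat_lit 1, nat_lit 4, nat_lit 3, nat_lit 4]) (.leaf [nat_lit 5, nat_lit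 6, nat_lit 3, nat_lit 4])))))))))
 (.node (nat_lit 8650768) (.node (nat_lit 8409088) (.node (nat_lit 8393728) (.node (nat_lit 8390912) (.node (nat_lit 8390664) (.node (nat_lit 8389760) (.node (nat_lit 8389696) (.leaf [nat_lit 6, nat_lit 3, nat_lit 2, nat_lit 4, nat_lit 5]) (.leaf [nat_lit 5, nat_lit 3, nat_lit 4, nat_lit 6, nat_lit 4])) (.node (nat_lit 8389888) (.leaf [nat_lit 3, nat_lit 4, nat_lit 2, nat_lit 3, nat_lit 5, nat_lit 4]) (.node (nat_lit 8390144) (.leaf [nat_lit 2, nat_lit 0, nat_lit 6, nat_lit 4, nat_lit 3, nat_lit 5]) (.leaf [nat_lit 2, nat_lit 4, nat_lit 5, nat_lit 1]))))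
 (.node (nat_lit 8390688) (.node (nat_lit 8390672) (.leaf [nat_lit 2, nat_lit 3, nat_lit 2, nat_lit 4, nat_lit 3]) (.leaf [nat_lit 0, nat_lit 6, nat_lit 4, nat_lit 0, nat_lit 3])) (.node (nat_lit 8390720) (.leaf [nat_lit 1, nat_lit 3, nat_lit 2, nat_lit 4, nat_lit 6, nat_lit 4]) (.node (nat_lit 8390784) (.leaf [nat_lit 2, nat_lit 5, nat_lit 3, nat_lit 2, nat_lit 4, nat_lit 3]) (.leaf [nat_lit 0, nat_lit 6, nat_lit 4, nat_lit 3, nat_lit 5])))))
 (.node (nat_lit 8392736) (.node (nat_lit 8391680) (.node (nat_lit 8391168) (.leaf [nat_lit 0, nat_lit 6, nat_lit 4, nat_lit 3, nat_lit 5]) (.leaf [nat_lit 0, nat_lit 6, nat_lit 4, nat_lit 1, nat_lit 5])) (.node (nat_lit 8392712) (.leaf [nat_lit 6, nat_lit 3, nat_lit 2, nat_lit 4, nat_lit 5, nat_lit 3]) (.node (nat_lit 8392720) (.leaf [nat_lit 1, nat_lit 4, nat_lit 0, nat_lit 6, nat_lit 5]) (.leaf [nat_lit 5, nat_lit 0, nat_lit 6, nat_lit 4, nat_lit 0, nat_lit 3]))))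
 (.node (nat_lit 8392832) (.node (nat_lit 8392768) (.leaf [nat_lit 6, nat_lit 3, nat_lit 1, nat_lit 4, nat_lit 5]) (.leaf [nat_lit 3, nat_lit 2, nat_lit 1, nat_lit 4, nat_lit 5, nat_lit 3])) (.node (nat_lit 8392960) (.leaf [nat_lit 2, nat_lit 1, nat_lit 4, nat_lit 5, nat_lit 3, nat_lit 4]) (.node (nat_lit 8393216) (.leaf [nat_lit 3, nat_lit 1, nat_lit 4, nat_lit 5, nat_lit 0]) (.leaf [nat_lit 1, nat_lit 4, nat_lit 5, nat_lit 2, nat_lit 1, nat_lit 3]))))))
 (.node (nat_lit 8398848) (.node (nat_lit 8396864) (.node (nat_lit 8396808) (.node (nat_lit 8394752) (.leaf [nat_lit 1, nat_lit 4, nat_lit 5, nat_lit 3, nat_lit 4]) (.leaf [nat_lit 0, nat_lit 6, nat_lit 4, nat_lit 1, nat_lit 5])) (.node (nat_lit 8396816) (.leaf [nat_lit 0, nat_lit 3, nat_lit 1, nat_lit 4]) (.node (nat_lit 8396832) (.leaf [nat_lit 6, nat_lit 4, nat_lit 1]) (.leaf [nat_lit 6, nat_lit 3, nat_lit 2, nat_lit 5, nat_lit 4]))))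
 (.node (nat_lit 8397056) (.node (nat_lit 8396928) (.leaf [nat_lit 5, nat_lit 3, nat_lit 5, nat_lit 4, nat_lit 1, nat_lit 3]) (.leaf [nat_lit 4, nat_lit 5, nat_lit 4, nat_lit 3, nat_lit 1, nat_lit 4])) (.node (nat_lit 8397312) (.leaf [nat_lit 3, nat_lit 1, nat_lit 4, nat_lit 1, nat_lit 5, nat_lit 3]) (.node (nat_lit 8397824) (.leaf [nat_lit 4, nat_lit 6, nat_lit 4, nat_lit 0, nat_lit 5, nat_lit 3]) (.leaf [nat_lit 5, nat_lit 6, nat_lit 5, nat_lit 3, nat_lit 4])))))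
 (.node (nat_lit 8405056) (.node (nat_lit 8405000) (.node (nat_lit 8400896) (.leaf [nat_lit 3, nat_lit 2, nat_lit 3, nat_lit 5, nat_lit 1, nat_lit 4]) (.leaf [nat_lit 5, nat_lit 3, nat_lit 2, nat_lit 3, nat_lit 5, nat_lit 4])) (.node (nat_lit 8405008) (.leaf [nat_lit 3, nat_lit 0, nat_lit 4, nat_lit 0]) (.node (nat_lit 8405024) (.leaf [nat_lit 5, nat_lit 0, nat_lit 5, nat_lit 3]) (.leaf [nat_lit 3, nat_lit 0, nat_lit 5, nat_lit 4, nat_lit 0]))))
 (.node (nat_lit 8405504) (.node (nat_lit 8405120) (.leaf [nat_lit 3, nat_lit 4, nat_lit 6, nat_lit 1, nat_lit 4]) (.node (nat_lit 8405248) (.leaf [nat_lit 4, nat_lit 0, nat_lit 6, nat_lit 5, nat_lit 4]) (.leaf [nat_lit 3, nat_lit 4, nat_lit 2, nat_lit 0, nat_lit 5, nat_lit 4]))) (.node (nat_lit 8406016) (.leaf [nat_lit 1, nat_lit 4, nat_lit 0, nat_lit 6, nat_lit 4]) (.node (nat_lit 8407040) (.leaf [nat_lit 2, nat_lit 4, nat_lit 2, nat_lit 5, nat_lit 3, nat_lit 4]) (.leaf [nat_lit 0, nat_lit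 6, nat_lit 4, nat_lit 1, nat_lit 5, nat_lit 3])))))))
 (.node (nat_lit 8455168) (.node (nat_lit 8423424) (.node (nat_lit 8421440) (.node (nat_lit 8421384) (.node (nat_lit 8413184) (.leaf [nat_lit 1, nat_lit 4, nat_lit 2, nat_lit 5, nat_lit 3, nat_lit 4]) (.leaf [nat_lit 6, nat_lit 4, nat_lit 1, nat_lit 5, nat_lit 2, nat_lit 3])) (.node (nat_lit 8421392) (.leaf [nat_lit 6, nat_lit 3, nat_lit 5]) (.node (nat_lit 8421408) (.leaf [nat_lit 5, nat_lit 3, nat_lit 2, nat_lit 3]) (.leaf [nat_lit 5, nat_lit 1, nat_lit 4, nat_lit 2, nat_lit 1, nat_lit 3]))))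
 (.node (nat_lit 8421632) (.node (nat_lit 8421504) (.leaf [nat_lit 5, nat_lit 3, nat_lit 4, nat_lit 2, nat_lit 3]) (.leaf [nat_lit 5, nat_lit 4, nat_lit 1, nat_lit 3, nat_lit 4])) (.node (nat_lit 8421888) (.leaf [nat_lit 5, nat_lit 3, nat_lit 2, nat_lit 4, nat_lit 3]) (.node (nat_lit 8422400) (.leaf [nat_lit 1, nat_lit 4, nat_lit 0, nat_lit 5]) (.leaf [nat_lit 2, nat_lit 3, nat_lit 4, nat_lit 5])))))
 (.node (nat_lit 8454160) (.node (nat_lit 8429568) (.node (nat_lit 8425472) (.leaf [nat_lit 0, nat_lit 6, nat_lit 5, nat_lit 4, nat_lit 3]) (.leaf [nat_lit 6, nat_lit 1, nat_lit 5, nat_lit 6, nat_lit 5])) (.node (nat_lit 8437760) (.leaf [nat_lit 6, nat_lit 1, nat_lit 5, nat_lit 0, nat_lit 4, nat_lit 3]) (.node (nat_lit 8454152) (.leaf [nat_lit 2, nat_lit 3, nat_lit 4, nat_lit 6, nat_lit 4]) (.leaf [nat_lit 0, nat_lit 3, nat_lit 0, nat_lit 4]))))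
 (.node (nat_lit 8454272) (.node (nat_lit 8454176) (.leaf [nat_lit 2, nat_lit 3, nat_lit 5]) (.node (nat_lit 8454208) (.leaf [nat_lit 0, nat_lit 4, nat_lit 1, nat_lit 5, nat_lit 4, nat_lit 3]) (.leaf [nat_lit 0, nat_lit 5, nat_lit 3, nat_lit 4, nat_lit 5]))) (.node (nat_lit 8454400) (.leaf [nat_lit 4, nat_lit 5, nat_lit 4, nat_lit 3, nat_lit 4]) (.node (nat_lit 8454656) (.leaf [nat_lit 0, nat_lit 4, nat_lit 6, nat_lit 5, nat_lit 3, nat_lit 4]) (.leaf [nat_lit 0, nat_lit 3, nat_lit 4, nat_lit 1, nat_lit 5]))))))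
 (.node (nat_lit 8519808) (.node (nat_lit 8486912) (.node (nat_lit 8458240) (.node (nat_lit 8456192) (.leaf [nat_lit 3, nat_lit 5, nat_lit 4, nat_lit 5, nat_lit 3, nat_lit 4]) (.leaf [nat_lit 0, nat_lit 5, nat_lit 3, nat_lit 5, nat_lit 4])) (.node (nat_lit 8462336) (.leaf [nat_lit 4, nat_lit 3, nat_lit 2, nat_lit 4, nat_lit 5, nat_lit 3]) (.node (nat_lit 8470528) (.leaf [nat_lit 2, nat_lit 6, nat_lit 5, nat_lit 4, nat_lit 1]) (.leaf [nat_lit 2, nat_lit 6, nat_lit 5, nat_lit 3, nat_lit 4]))))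
 (.node (nat_lit 8519696) (.node (nat_lit 8519688) (.leaf [nat_lit 5, nat_lit 0, nat_lit 3, nat_lit 0, nat_lit 4]) (.leaf [nat_lit 4, nat_lit 3, nat_lit 4, nat_lit 0])) (.node (nat_lit 8519712) (.leaf [nat_lit 6, nat_lit 3, nat_lit 4]) (.node (nat_lit 8519744) (.leaf [nat_lit 4, nat_lit 2, nat_lit 5, nat_lit 4, nat_lit 1]) (.leaf [nat_lit 3, nat_lit 4, nat_lit 6, nat_lit 4])))))
 (.node (nat_lit 8523776) (.node (nat_lit 8520192) (.node (nat_lit 8519936) (.leaf [nat_lit 4, nat_lit 2, nat_lit 5, nat_lit 3, nat_lit 4]) (.leaf [nat_lit 6, nat_lit 3, nat_lit 5, nat_lit 4, nat_lit 5])) (.node (nat_lit 8520704) (.leaf [nat_lit 0, nat_lit 5, nat_lit 0, nat_lit 5, nat_lit 4, nat_lit 3]) (.node (nat_lit 8521728) (.leaf [nat_lit 3, nat_lit 2, nat_lit 6, nat_lit 4, nat_lit 5]) (.leaf [nat_lit 3, nat_lit 2, nat_lit 6, nat_lit 5, nat_lit 4]))))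
 (.node (nat_lit 8552448) (.node (nat_lit 8527872) (.leaf [nat_lit 1, nat_lit 5, nat_lit 6, nat_lit 2, nat_lit 4, nat_lit 5]) (.node (nat_lit 8536064) (.leaf [nat_lit 3, nat_lit 2, nat_lit 4, nat_lit 6, nat_lit 5, nat_lit 4]) (.leaf [nat_lit 4, nat_lit 3, nat_lit 5, nat_lit 4, nat_lit 0]))) (.node (nat_lit 8585216) (.leaf [nat_lit 5, nat_lit 1, nat_lit 4, nat_lit 3, nat_lit 4]) (.node (nat_lit 8650760) (.leaf [nat_lit 0, nat_lit 3, nat_lit 4, nat_lit 6, nat_lit 1, nat_lit 4]) (.leaf [nat_lit 0, nat_lit 4, nat_lit 0, nat_lit 3]))))))))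
 (.node (nat_lit 9469952) (.node (nat_lit 8913920) (.node (nat_lit 8667136) (.node (nat_lit 8651264) (.node (nat_lit 8650816) (.node (nat_lit 8650784) (.leaf [nat_lit 0, nat_lit 5, nat_lit 0, nat_lit 5]) (.leaf [nat_lit 1, nat_lit 4, nat_lit 2, nat_lit 5, nat_lit 4])) (.node (nat_lit 8650880) (.leaf [nat_lit 2, nat_lit 5, nat_lit 0, nat_lit 4, nat_lit 0, nat_lit 3]) (.node (nat_lit 8651008) (.leaf [nat_lit 0, nat_lit 4, nat_lit 3, nat_lit 5]) (.leaf [nat_lit 0, nat_lit 4, nat_lit 3, nat_lit 5]))))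
 (.node (nat_lit 8652800) (.node (nat_lit 8651776) (.leaf [nat_lit 0, nat_lit 4, nat_lit 1, nat_lit 5]) (.leaf [nat_lit 2, nat_lit 0, nat_lit 4, nat_lit 3, nat_lit 5])) (.node (nat_lit 8654848) (.leaf [nat_lit 0, nat_lit 4, nat_lit 6, nat_lit 4]) (.node (nat_lit 8658944) (.leaf [nat_lit 0, nat_lit 4, nat_lit 1, nat_lit 5]) (.leaf [nat_lit 0, nat_lit 4, nat_lit 1, nat_lit 5, nat_lit 2, nat_lit 3])))))
 (.node (nat_lit 8912912) (.node (nat_lit 8716288) (.node (nat_lit 8683520) (.leaf [nat_lit 5, nat_lit 0, nat_lit 5, nat_lit 4, nat_lit 3]) (.leaf [nat_lit 5, nat_lit 0, nat_lit 4, nat_lit 0, nat_lit 3])) (.node (nat_lit 8781824) (.leaf [nat_lit 0, nat_lit 4, nat_lit 1, nat_lit 5, nat_lit 3]) (.node (nat_lit 8912904) (.leaf [nat_lit 4, nat_lit 0, nat_lit 4, nat_lit 6, nat_lit 4]) (.leaf [nat_lit 6, nat_lit 5, nat_lit 3, nat_lit 5]))))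
 (.node (nat_lit 8913024) (.node (nat_lit 8912928) (.leaf [nat_lit 2, nat_lit 1, nat_lit 4, nat_lit 2, nat_lit 5]) (.node (nat_lit 8912960) (.leaf [nat_lit 4, nat_lit 0, nat_lit 6, nat_lit 0, nat_lit 4]) (.leaf [nat_lit 4, nat_lit 6, nat_lit 3, nat_lit 4, nat_lit 0]))) (.node (nat_lit 8913152) (.leaf [nat_lit 4, nat_lit 5, nat_lit 1]) (.node (nat_lit 8913408) (.leaf [nat_lit 3, nat_lit 2, nat_lit 5, nat_lit 4, nat_lit 0, nat_lit 3]) (.leaf [nat_lit 4, nat_lit 0, nat_lit 6, nat_lit 4, nat_lit 3]))))))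
 (.node (nat_lit 9437200) (.node (nat_lit 8945664) (.node (nat_lit 8916992) (.node (nat_lit 8914944) (.leaf [nat_lit 4, nat_lit 2, nat_lit 3, nat_lit 5]) (.leaf [nat_lit 4, nat_lit 0, nat_lit 6, nat_lit 4, nat_lit 0, nat_lit 3])) (.node (nat_lit 8921088) (.leaf [nat_lit 4, nat_lit 1, nat_lit 5, nat_lit 3, nat_lit 5]) (.node (nat_lit 8929280) (.leaf [nat_lit 4, nat_lit 0, nat_lit 5, nat_lit 3, nat_lit 5]) (.leaf [nat_lit 4, nat_lit 6, nat_lit 2, nat_lit 3, nat_lit 4]))))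
 (.node (nat_lit 9043968) (.node (nat_lit 8978432) (.leaf [nat_lit 5, nat_lit 6, nat_lit 5, nat_lit 3, nat_lit 5]) (.leaf [nat_lit 4, nat_lit 0, nat_lit 6, nat_lit 4, nat_lit 1, nat_lit 3])) (.node (nat_lit 9175040) (.leaf [nat_lit 4, nat_lit 0, nat_lit 6, nat_lit 4]) (.node (nat_lit 9437192) (.leaf [nat_lit 2, nat_lit 0, nat_lit 4, nat_lit 1, nat_lit 5]) (.leaf [nat_lit 0, nat_lit 3, nat_lit 0, nat_lit 4, nat_lit 3])))))
 (.node (nat_lit 9437696) (.node (nat_lit 9437248) (.node (nat_lit 9437216) (.leaf [nat_lit 0, nat_lit 5, nat_lit 3]) (.leaf [nat_lit 0, nat_lit 5, nat_lit 2, nat_lit 4, nat_lit 2, nat_lit 3])) (.node (nat_lit 9437312) (.leaf [nat_lit 3, nat_lit 4, nat_lit 2, nat_lit 0, nat_lit 5]) (.node (nat_lit 9437440) (.leaf [nat_lit 4, nat_lit 5, nat_lit 2, nat_lit 4, nat_lit 3, nat_lit 4]) (.leaf [nat_lit 1, nat_lit 4, nat_lit 5, nat_lit 3, nat_lit 5, nat_lit 4]))))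
 (.node (nat_lit 9441280) (.node (nat_lit 9438208) (.leaf [nat_lit 0, nat_lit 5, nat_lit 0, nat_lit 4]) (.node (nat_lit 9439232) (.leaf [nat_lit 0, nat_lit 5, nat_lit 1, nat_lit 3, nat_lit 4]) (.leaf [nat_lit 6, nat_lit 5, nat_lit 1, nat_lit 4, nat_lit 5, nat_lit 0, nat_lit 3]))) (.node (nat_lit 9445376) (.leaf [nat_lit 1, nat_lit 3, nat_lit 5, nat_lit 6, nat_lit 5]) (.node (nat_lit 9453568) (.leaf [nat_lit 0, nat_lit 5, nat_lit 2, nat_lit 1, nat_lit 3, nat_lit 4]) (.leaf [nat_lit 1, nat_lit 6, nat_lit 5, nat_lit 3, nat_lit 4])))))))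
 (.node (nat_lit 11010048) (.node (nat_lit 10486016) (.node (nat_lit 10485768) (.node (nat_lit 9568256) (.node (nat_lit 9502720) (.leaf [nat_lit 5, nat_lit 3, nat_lit 0, nat_lit 4, nat_lit 0]) (.leaf [nat_lit 4, nat_lit 0, nat_lit 5, nat_lit 6, nat_lit 5])) (.node (nat_lit 9699328) (.leaf [nat_lit 1, nat_lit 3, nat_lit 5, nat_lit 0, nat_lit 4, nat_lit 3]) (.node (nat_lit 9961472) (.leaf [nat_lit 0, nat_lit 5, nat_lit 4, nat_lit 3]) (.leaf [nat_lit 4, nat_lit 1, nat_lit 3, nat_lit 5]))))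
 (.node (nat_lit 10485792) (.node (nat_lit 10485776) (.leaf [nat_lit 4, nat_lit 1, nat_lit 3, nat_lit 4]) (.leaf [nat_lit 2, nat_lit 0, nat_lit 5, nat_lit 3])) (.node (nat_lit 10485824) (.leaf [nat_lit 1, nat_lit 4, nat_lit 2, nat_lit 5, nat_lit 4, nat_lit 3]) (.node (nat_lit 10485888) (.leaf [nat_lit 5, nat_lit 3, nat_lit 4, nat_lit 5]) (.leaf [nat_lit 4, nat_lit 0, nat_lit 6, nat_lit 5, nat_lit 4, nat_lit 0])))))
 (.node (nat_lit 10493952) (.node (nat_lit 10486784) (.node (nat_lit 10486272) (.leaf [nat_lit 3, nat_lit 1, nat_lit 4, nat_lit 2, nat_lit 5, nat_lit 3]) (.leaf [nat_lit 1, nat_lit 4, nat_lit 2, nat_lit 5, nat_lit 3])) (.node (nat_lit 10487808) (.leaf [nat_lit 5, nat_lit 4, nat_lit 2, nat_lit 5, nat_lit 3, nat_lit 4]) (.node (nat_lit 10489856) (.leaf [nat_lit 1, nat_lit 3, nat_lit 4, nat_lit 6, nat_lit 4, nat_lit 3]) (.leaf [nat_lit 6, nat_lit 1, nat_lit 4, nat_lit 5, nat_lit 0, nat_lit 3]))))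
 (.node (nat_lit 10551296) (.node (nat_lit 10502144) (.leaf [nat_lit 6, nat_lit 1, nat_lit 4, nat_lit 6, nat_lit 0, nat_lit 4]) (.node (nat_lit 10518528) (.leaf [nat_lit 4, nat_lit 1, nat_lit 5, nat_lit 3, nat_lit 4]) (.leaf [nat_lit 5, nat_lit 4, nat_lit 2, nat_lit 3, nat_lit 4]))) (.node (nat_lit 10616832) (.leaf [nat_lit 6, nat_lit 1, nat_lit 4, nat_lit 6, nat_lit 4]) (.node (nat_lit 10747904) (.leaf [nat_lit 1, nat_lit 3, nat_lit 4, nat_lit 6, nat_lit 0, nat_lit 4]) (.leaf [nat_lit 2, nat_lit 0, nat_lit 5, nat_lit 4, nat_lit 3]))))))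
 (.node (nat_lit 12584960) (.node (nat_lit 12582976) (.node (nat_lit 12582920) (.node (nat_lit 11534336) (.leaf [nat_lit 5, nat_lit 4, nat_lit 5, nat_lit 1]) (.leaf [nat_lit 6, nat_lit 4, nat_lit 1, nat_lit 4, nat_lit 5])) (.node (nat_lit 12582928) (.leaf [nat_lit 2, nat_lit 0, nat_lit 3, nat_lit 0, nat_lit 4]) (.node (nat_lit 12582944) (.leaf [nat_lit 3, nat_lit 5]) (.leaf [nat_lit 6, nat_lit 5, nat_lit 3, nat_lit 1, nat_lit 4]))))
 (.node (nat_lit 12583168) (.node (nat_lit 12583040) (.leaf [nat_lit 3, nat_lit 5, nat_lit 4, nat_lit 1, nat_lit 3]) (.leaf [nat_lit 6, nat_lit 4, nat_lit 5, nat_lit 1, nat_lit 3, nat_lit 4])) (.node (nat_lit 12583424) (.leaf [nat_lit 3, nat_lit 5, nat_lit 4, nat_lit 1, nat_lit 4, nat_lit 3]) (.node (nat_lit 12583936) (.leaf [nat_lit 1, nat_lit 5, nat_lit 4, nat_lit 2, nat_lit 0, nat_lit 3]) (.leaf [nat_lit 3, nat_lit 2, nat_lit 3, nat_lit 4, nat_lit 5])))))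
 (.node (nat_lit 12648448) (.node (nat_lit 12591104) (.node (nat_lit 12587008) (.leaf [nat_lit 3, nat_lit 2, nat_lit 3, nat_lit 5, nat_lit 4]) (.leaf [nat_lit 0, nat_lit 3, nat_lit 0, nat_lit 4, nat_lit 5])) (.node (nat_lit 12599296) (.leaf [nat_lit 6, nat_lit 5, nat_lit 4, nat_lit 1]) (.node (nat_lit 12615680) (.leaf [nat_lit 0, nat_lit 4, nat_lit 3, nat_lit 5, nat_lit 4]) (.leaf [nat_lit 5, nat_lit 0, nat_lit 3, nat_lit 1, nat_lit 4]))))
 (.node (nat_lit 13107200) (.node (nat_lit 12713984) (.leaf [nat_lit 6, nat_lit 5, nat_lit 0, nat_lit 3, nat_lit 4, nat_lit 0]) (.node (nat_lit 12845056) (.leaf [nat_lit 6, nat_lit 5, nat_lit 3, nat_lit 4]) (.leaf [nat_lit 2, nat_lit 0, nat_lit 4, nat_lit 1, nat_lit 5, nat_lit 3]))) (.node (nat_lit 13631488) (.leaf [nat_lit 4, nat_lit 3, nat_lit 2, nat_lit 1, nat_lit 5]) (.node (nat_lit 14680064) (.leaf [nat_lit 0, nat_lit 5, nat_lit 3, nat_lit 4, nat_lit 1, nat_lit 4]) (.leaf [nat_lit 6, nat_lit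 5, nat_lit 6, nat_lit 0, nat_lit 5, nat_lit 3]))))))))))))
theorem y3c : enS 16777208 (fun Y => frc (Nat.lor 7 Y) fun Z => Nat.beq (imOn 24 (apL 5 31 y3T (y3W.get Y)) (ite' (anyL StB.oL fun b => Nat.beq (Nat.land b Z) Z) 152 56)) Y) 24 3 0 = true := by decide +kernel
noncomputable def y6W : Tr (List ℕ) := (.node (nat_lit 0x841008400340204084120402098800002031) (.node (nat_lit 0x806001408420290008101082040244020910) (.node (nat_lit 0x8010054002a022240011004808c010040902) (.node (nat_lit 0x8002a04010052400501a0002018c00006108) (.node (nat_lit 0x8000e048050024021010c00403200100180a) (.node (nat_lit 0x80005260090011048008602004800c021201) (.node (nat_lit 0x800029410900300480088240043010024006) (.node (nat_lit 0x8000164120013010200a0500048048004a80) (.node (nat_lit 0x80000e500180210c00083200048050024021) (.node (nat_lit 0x80000b609000180810050280024024002540) (.leaf [nat_lit 3, nat_lit 2, nat_lit 0, nat_lit 5]) (.node (nat_lit 0x80000d4c040020031011104002402200a880)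 (.leaf [nat_lit 0, nat_lit 3, nat_lit 0, nat_lit 4]) (.leaf [nat_lit 0, nat_lit 4, nat_lit 6, nat_lit 5]))) (.node (nat_lit 0x8000134120042444001808080212400081a0) (.leaf [nat_lit 1, nat_lit 6, nat_lit 2, nat_lit 5]) (.node (nat_lit 0x80001541200220030816008008d000000c60) (.leaf [nat_lit 3, nat_lit 2, nat_lit 0, nat_lit 5]) (.leaf [nat_lit 6, nat_lit 3, nat_lit 2, nat_lit 4]))))
 (.node (nat_lit 0x80001c4218002003011064000900a0048042) (.node (nat_lit 0x8000194040c0200304180802043020038400) (.leaf [nat_lit 6, nat_lit 3, nat_lit 1, nat_lit 4]) (.node (nat_lit 0x80001a400620222080180801048044015100) (.leaf [nat_lit 3, nat_lit 2, nat_lit 3]) (.leaf [nat_lit 3, nat_lit 2, nat_lit 6])))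
 (.node (nat_lit 0x80002540128025800018210002400a000c50) (.node (nat_lit 0x800023540040202a0009140002400c008190) (.leaf [nat_lit 2, nat_lit 3, nat_lit 2, nat_lit 6]) (.leaf [nat_lit 1, nat_lit 4, nat_lit 2, nat_lit 5, nat_lit 4])) (.node (nat_lit 0x800026488800301010042480024009010340) (.leaf [nat_lit 0, nat_lit 3, nat_lit 0, nat_lit 5, nat_lit 4]) (.leaf [nat_lit 6, nat_lit 1, nat_lit 5, nat_lit 6, nat_lit 5, nat_lit 4])))))
 (.node (nat_lit 0x80004354002028008402121001c800002508) (.node (nat_lit 0x8000316a0000114200043008008182000c44) (.node (nat_lit 0x80002a4006102c010011a0000240050018c0) (.leaf [nat_lit 4, nat_lit 3, nat_lit 5, nat_lit 4, nat_lit 6]) (.node (nat_lit 0x80002c602040140a00090090024003009500) (.leaf [nat_lit 4, nat_lit 3, nat_lit 5, nat_lit 4]) (.leaf [nat_lit 4, nat_lit 3, nat_lit 5, nat_lit 4, nat_lit 2])))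
 (.node (nat_lit 0x80003444410030100209008802a200000c41) (.node (nat_lit 0x800032400608301004086040070800008181) (.leaf [nat_lit 5, nat_lit 1, nat_lit 4, nat_lit 2, nat_lit 5]) (.leaf [nat_lit 6, nat_lit 1, nat_lit 4, nat_lit 5])) (.node (nat_lit 0x80003840060220c800120140090084043001) (.leaf [nat_lit 6, nat_lit 2, nat_lit 1, nat_lit 3, nat_lit 4]) (.leaf [nat_lit 0, nat_lit 4, nat_lit 5, nat_lit 2, nat_lit 3, nat_lit 5]))))
 (.node (nat_lit 0x800049404090260800111004088220002502) (.node (nat_lit 0x800045428100280082111008046200000c30) (.leaf [nat_lit 3, nat_lit 5, nat_lit 4, nat_lit 5]) (.node (nat_lit 0x800046405400280081122800048018010320) (.leaf [nat_lit 3, nat_lit 5, nat_lit 4, nat_lit 5, nat_lit 2]) (.leaf [nat_lit 3, nat_lit 4, nat_lit 6, nat_lit 1, nat_lit 4])))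
 (.node (nat_lit 0x80004c602020111001084900048012020680) (.node (nat_lit 0x80004a4b00003042000480140025010018a0) (.leaf [nat_lit 3, nat_lit 4, nat_lit 2, nat_lit 3]) (.leaf [nat_lit 6, nat_lit 0, nat_lit 4, nat_lit 3])) (.node (nat_lit 0x80005140408830a0000d0100021202000c24) (.leaf [nat_lit 0, nat_lit 4, nat_lit 6, nat_lit 5]) (.leaf [nat_lit 2, nat_lit 5, nat_lit 3, nat_lit 2, nat_lit 3]))))))
 (.node (nat_lit 0x800091404048211800160004082600008122) (.node (nat_lit 0x800070419000240280120108086002000c05) (.node (nat_lit 0x800061540002205100088208032080000c14) (.node (nat_lit 0x80005458020023400004800a003180000c21) (.leaf [nat_lit 6, nat_lit 1, nat_lit 5]) (.node (nat_lit 0x800058404081281400120120048006012a00) (.leaf [nat_lit 5, nat_lit 6, nat_lit 1, nat_lit 5]) (.leaf [nat_lit 5, nat_lit 0, nat_lit 4, nat_lit 6])))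
 (.node (nat_lit 0x80006460200810c0800e1000010302000c11) (.node (nat_lit 0x800062540001228400086010010304001888) (.leaf [nat_lit 0, nat_lit 6, nat_lit 4, nat_lit 1, nat_lit 3]) (.leaf [nat_lit 1, nat_lit 4, nat_lit 6, nat_lit 4])) (.node (nat_lit 0x800068602004120110088201054400001882) (.leaf [nat_lit 2, nat_lit 3, nat_lit 4, nat_lit 5, nat_lit 4]) (.leaf [nat_lit 5, nat_lit 1, nat_lit 4, nat_lit 1, nat_lit 4]))))
 (.node (nat_lit 0x800086500108280041042420039000004a10) (.node (nat_lit 0x800083420c00280044107000050208008130) (.leaf [nat_lit 0, nat_lit 6, nat_lit 4, nat_lit 5]) (.node (nat_lit 0x80008540122028004216001001450000a808) (.leaf [nat_lit 4, nat_lit 5, nat_lit 4, nat_lit 3, nat_lit 2, nat_lit 4]) (.leaf [nat_lit 4, nat_lit 0, nat_lit 6, nat_lit 5, nat_lit 4])))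
 (.node (nat_lit 0x80008a50010422201008c400050201001860) (.node (nat_lit 0x8000894040503004200a110005020200a804) (.leaf [nat_lit 4, nat_lit 0, nat_lit 6, nat_lit 5, nat_lit 4, nat_lit 2]) (.leaf [nat_lit 4, nat_lit 2, nat_lit 3, nat_lit 4])) (.node (nat_lit 0x80008c50010224500009003002064000a801) (.leaf [nat_lit 4, nat_lit 0, nat_lit 4, nat_lit 5]) (.leaf [nat_lit 5, nat_lit 4, nat_lit 3, nat_lit 1, nat_lit 4])))))
 (.node (nat_lit 0x8000a8468000300401090014006300001842) (.node (nat_lit 0x800098404041222002109200090024040d00) (.node (nat_lit 0x8000924c1000222008110440008121004a04) (.leaf [nat_lit 5, nat_lit 2, nat_lit 0, nat_lit 5, nat_lit 3]) (.node (nat_lit 0x800094608400160001090028004a02003140) (.leaf [nat_lit 5, nat_lit 2, nat_lit 0, nat_lit 5, nat_lit 6]) (.leaf [nat_lit 2, nat_lit 5, nat_lit 6, nat_lit 3, nat_lit 4])))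
 (.node (nat_lit 0x8000a26140001a0200042404008111001848) (.node (nat_lit 0x8000a14012043004080c4800032040008112) (.leaf [nat_lit 3, nat_lit 5, nat_lit 0, nat_lit 4]) (.leaf [nat_lit 2, nat_lit 0, nat_lit 6, nat_lit 4])) (.node (nat_lit 0x8000a440120122090010c040090018042402) (.leaf [nat_lit 6, nat_lit 4, nat_lit 2, nat_lit 1, nat_lit 5]) (.leaf [nat_lit 1, nat_lit 5, nat_lit 4, nat_lit 2, nat_lit 3]))))
 (.node (nat_lit 0x8000c240a200280005110410064100001828) (.node (nat_lit 0x8000b050280024024009000c025400008103) (.leaf [nat_lit 1, nat_lit 6, nat_lit 1, nat_lit 4]) (.node (nat_lit 0x8000c1404018280006100b00049400032020) (.leaf [nat_lit 5, nat_lit 3, nat_lit 2, nat_lit 4]) (.leaf [nat_lit 4, nat_lit 6, nat_lit 1, nat_lit 4])))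
 (.node (nat_lit 0x8000c84040112181001c2000020604001822) (.node (nat_lit 0x8000c445080028000310c020020608003110) (.leaf [nat_lit 5, nat_lit 4, nat_lit 5, nat_lit 2]) (.leaf [nat_lit 5, nat_lit 4, nat_lit 5])) (.node (nat_lit 0x8000d04040092402201104020a8800003104) (.leaf [nat_lit 1, nat_lit 5, nat_lit 3, nat_lit 2, nat_lit 3]) (.leaf [nat_lit 0, nat_lit 3, nat_lit 4, nat_lit 5, nat_lit 6])))))))
 (.node (nat_lit 0x8001a0480440220804151000008013006208) (.node (nat_lit 0x800124444010220880182001010242009408) (.node (nat_lit 0x80010c500082200211084840072000009420) (.node (nat_lit 0x80010650008820e0000a0410041801010260) (.node (nat_lit 0x8001034842003300000418040080b0002448) (.leaf [nat_lit 5, nat_lit 0, nat_lit 3, nat_lit 4, nat_lit 5]) (.node (nat_lit 0x800105428040200218182020041802014480) (.leaf [nat_lit 3, nat_lit 2, nat_lit 4, nat_lit 0, nat_lit 5]) (.leaf [nat_lit 3, nat_lit 2, nat_lit 4, nat_lit 0, nat_lit 5, nat_lit 2])))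 (.node (nat_lit 0x80010941082020021414c0000a1080002442) (.leaf [nat_lit 3, nat_lit 1, nat_lit 4, nat_lit 6, nat_lit 3, nat_lit 4]) (.node (nat_lit 0x80010a5000842c0020028a00015010002441) (.leaf [nat_lit 3, nat_lit 2, nat_lit 4, nat_lit 3]) (.leaf [nat_lit 3, nat_lit 2, nat_lit 4, nat_lit 6]))))
 (.node (nat_lit 0x8001144440202002091188000a04020030c0) (.node (nat_lit 0x80011150140020020c0d00400268000080a2) (.leaf [nat_lit 2, nat_lit 0, nat_lit 5]) (.node (nat_lit 0x8001126008401422000a04040150080080a1) (.leaf [nat_lit 3, nat_lit 2, nat_lit 0, nat_lit 5]) (.leaf [nat_lit 5, nat_lit 2, nat_lit 4, nat_lit 3])))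
 (.node (nat_lit 0x800121410808205040182004060600008092) (.node (nat_lit 0x80011848a000200205120060040c80015002) (.leaf [nat_lit 2, nat_lit 4, nat_lit 3]) (.leaf [nat_lit 2, nat_lit 4, nat_lit 0, nat_lit 5, nat_lit 2])) (.node (nat_lit 0x8001224230002c0008104c00010244008091) (.leaf [nat_lit 3, nat_lit 5, nat_lit 6, nat_lit 4]) (.leaf [nat_lit 5, nat_lit 2, nat_lit 3])))))
 (.node (nat_lit 0x8001506008021200280d000100c600003084) (.node (nat_lit 0x800141428004205020100a800d001000240a) (.node (nat_lit 0x8001284108012c0002120050009404006280) (.leaf [nat_lit 6, nat_lit 4, nat_lit 6, nat_lit 4, nat_lit 2, nat_lit 3]) (.node (nat_lit 0x800130444004212400120048081a00008083) (.leaf [nat_lit 5, nat_lit 4, nat_lit 6, nat_lit 0, nat_lit 4, nat_lit 3]) (.leaf [nat_lit 5, nat_lit 1, nat_lit 3, nat_lit 4, nat_lit 2])))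
 (.node (nat_lit 0x800144428001340400084808010222003090) (.node (nat_lit 0x800142600810189000064080010224002409) (.leaf [nat_lit 3, nat_lit 5, nat_lit 4, nat_lit 5]) (.leaf [nat_lit 4, nat_lit 0, nat_lit 3, nat_lit 4])) (.node (nat_lit 0x800148441200218080120030084804002403) (.leaf [nat_lit 5, nat_lit 4, nat_lit 0, nat_lit 3, nat_lit 4]) (.leaf [nat_lit 2, nat_lit 6, nat_lit 4, nat_lit 5]))))
 (.node (nat_lit 0x80018250000c201600092800064040008031) (.node (nat_lit 0x80016048048020500112001804a800010206) (.leaf [nat_lit 1, nat_lit 5, nat_lit 3, nat_lit 4, nat_lit 6, nat_lit 3]) (.node (nat_lit 0x800181642000100a400a1008014404008032) (.leaf [nat_lit 1, nat_lit 4, nat_lit 6, nat_lit 1, nat_lit 4]) (.leaf [nat_lit 5, nat_lit 6, nat_lit 2, nat_lit 3])))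
 (.node (nat_lit 0x8001885000062180400a1001040c10006220) (.node (nat_lit 0x80018450000a2208200c8200014401003050) (.leaf [nat_lit 2, nat_lit 3, nat_lit 0, nat_lit 5]) (.leaf [nat_lit 6, nat_lit 5, nat_lit 6, nat_lit 2, nat_lit 3])) (.node (nat_lit 0x800190430200384000040c08008023003044) (.leaf [nat_lit 6, nat_lit 5, nat_lit 2, nat_lit 4]) (.leaf [nat_lit 5, nat_lit 2, nat_lit 4]))))))
 (.node (nat_lit 0x80022440108128440014080802a010010142) (.node (nat_lit 0x80020c41c0002001111408200830020204c0) (.node (nat_lit 0x8002054010a02001181084020b0800046040) (.node (nat_lit 0x8001c0480420218008100a01064002003014) (.leaf [nat_lit 5, nat_lit 2]) (.node (nat_lit 0x800203484100202820108404050088021050) (.leaf [nat_lit 0, nat_lit 5, nat_lit 0, nat_lit 4, nat_lit 3]) (.leaf [nat_lit 1, nat_lit 4, nat_lit 2, nat_lit 5])))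
 (.node (nat_lit 0x800209522000200114088060050082005c00) (.node (nat_lit 0x800206660000108401083008010160004890) (.leaf [nat_lit 1, nat_lit 4, nat_lit 2, nat_lit 5, nat_lit 2]) (.leaf [nat_lit 2, nat_lit 4, nat_lit 0, nat_lit 6, nat_lit 4])) (.node (nat_lit 0x80020a400430304040083004050081028900) (.leaf [nat_lit 1, nat_lit 4, nat_lit 2, nat_lit 1, nat_lit 3]) (.leaf [nat_lit 4, nat_lit 0, nat_lit 4, nat_lit 5, nat_lit 3]))))
 (.node (nat_lit 0x80021458004020010905140002a020004882) (.node (nat_lit 0x80021144880020010c114020082480021042) (.leaf [nat_lit 2, nat_lit 1, nat_lit 3, nat_lit 5]) (.node (nat_lit 0x800212400428298000142100021041004884) (.leaf [nat_lit 1, nat_lit 4, nat_lit 2, nat_lit 5]) (.leaf [nat_lit 3, nat_lit 4, nat_lit 5, nat_lit 3, nat_lit 5])))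
 (.node (nat_lit 0x800221401084202802114010088048060500) (.node (nat_lit 0x8002184004222001051090800e4000012840) (.leaf [nat_lit 5, nat_lit 6, nat_lit 1, nat_lit 4, nat_lit 5]) (.leaf [nat_lit 4, nat_lit 6, nat_lit 1, nat_lit 4, nat_lit 5])) (.node (nat_lit 0x8002224004182028011a008004d000010144) (.leaf [nat_lit 6, nat_lit 5, nat_lit 1, nat_lit 3, nat_lit 4]) (.leaf [nat_lit 2, nat_lit 4, nat_lit 0, nat_lit 6, nat_lit 0, nat_lit 4])))))
 (.node (nat_lit 0x8002505800042400a002100301280800c500) (.node (nat_lit 0x800241610400100980088028046004021012) (.node (nat_lit 0x800228400412231000140804088041006180) (.leaf [nat_lit 3, nat_lit 5, nat_lit 1, nat_lit 3, nat_lit 4]) (.node (nat_lit 0x80023040040a2400c011400108190002a004) (.leaf [nat_lit 5, nat_lit 2, nat_lit 1, nat_lit 4, nat_lit 3]) (.leaf [nat_lit 6, nat_lit 0, nat_lit 5, nat_lit 6, nat_lit 4])))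
 (.node (nat_lit 0x800244580010209800046001020488010122) (.node (nat_lit 0x80024240a0803040080c0c00021011010124) (.leaf [nat_lit 6, nat_lit 4, nat_lit 1, nat_lit 5]) (.leaf [nat_lit 2, nat_lit 5, nat_lit 1, nat_lit 3, nat_lit 5])) (.node (nat_lit 0x800248441100304002088021020484012810) (.leaf [nat_lit 5, nat_lit 1, nat_lit 4, nat_lit 6, nat_lit 4]) (.leaf [nat_lit 5, nat_lit 4]))))
 (.node (nat_lit 0x80028240a0402015001a0020050009004814) (.node (nat_lit 0x800260424800240090103400088009010106) (.leaf [nat_lit 5, nat_lit 0, nat_lit 6, nat_lit 4, nat_lit 5]) (.node (nat_lit 0x80028140102422c00010094008241005000a) (.leaf [nat_lit 1, nat_lit 6, nat_lit 4, nat_lit 3, nat_lit 0, nat_lit 5, nat_lit 2]) (.leaf [nat_lit 2, nat_lit 0, nat_lit 4, nat_lit 6])))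
 (.node (nat_lit 0x800288680800109010050003020444006120) (.node (nat_lit 0x8002844010213120000c8100020448004812) (.leaf [nat_lit 2, nat_lit 0, nat_lit 4, nat_lit 3]) (.leaf [nat_lit 1, nat_lit 5, nat_lit 2, nat_lit 4, nat_lit 3])) (.node (nat_lit 0x800290430100240060109008082401004806) (.leaf [nat_lit 4, nat_lit 0, nat_lit 4, nat_lit 5, nat_lit 2]) (.leaf [nat_lit 4, nat_lit 6, nat_lit 5, nat_lit 3, nat_lit 2, nat_lit 4]))))))))
 (.node (nat_lit 0x80080342048020222018001804110401c040) (.node (nat_lit 0x80044440500234010009a000020288000831) (.node (nat_lit 0x8004094c00043000a0038010005a00002142) (.node (nat_lit 0x80031043008020000d14200208182000c440) (.node (nat_lit 0x800302484001201480142010028808010064) (.node (nat_lit 0x8002c040a00224003010090109500002040c) (.leaf [nat_lit 1, nat_lit 5, nat_lit 1, nat_lit 3, nat_lit 4]) (.node (nat_lit 0x80030148400220001c1008c006042001b000) (.leaf [nat_lit 6, nat_lit 2, nat_lit 5, nat_lit 2,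 nat_lit 3]) (.leaf [nat_lit 0, nat_lit 6, nat_lit 2, nat_lit 0, nat_lit 3]))) (.node (nat_lit 0x800304402c002000191250000c8080010062) (.leaf [nat_lit 1, nat_lit 5, nat_lit 0, nat_lit 4, nat_lit 0, nat_lit 3]) (.node (nat_lit 0x8003084410402000151904000288020060a0) (.leaf [nat_lit 2, nat_lit 3]) (.leaf [nat_lit 6, nat_lit 2, nat_lit 4]))))
 (.node (nat_lit 0x8003804300102014021008410c8004006028) (.node (nat_lit 0x800320708000081810060401010046006088) (.leaf [nat_lit 1, nat_lit 3, nat_lit 4, nat_lit 2]) (.node (nat_lit 0x8003404410082a200010088101002600c410) (.leaf [nat_lit 6, nat_lit 2, nat_lit 3, nat_lit 5, nat_lit 0, nat_lit 4]) (.leaf [nat_lit 4, nat_lit 2, nat_lit 4, nat_lit 5, nat_lit 6])))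
 (.node (nat_lit 0x8004054c0008223000108202014180000870) (.node (nat_lit 0x800403420880244010108204091020002148) (.leaf [nat_lit 3, nat_lit 2, nat_lit 1, nat_lit 5, nat_lit 4]) (.leaf [nat_lit 3, nat_lit 5, nat_lit 4, nat_lit 5, nat_lit 3, nat_lit 4])) (.node (nat_lit 0x8004064050402108081082010a01100420a0) (.leaf [nat_lit 6, nat_lit 3, nat_lit 2, nat_lit 4, nat_lit 5, nat_lit 2]) (.leaf [nat_lit 6, nat_lit 3, nat_lit 2, nat_lit 4, nat_lit 5])))))
 (.node (nat_lit 0x80042140e000300088091002060300000854) (.node (nat_lit 0x800411501100244002082280038008000864) (.node (nat_lit 0x80040a40023021080416100008c080002141) (.leaf [nat_lit 1, nat_lit 4, nat_lit 3, nat_lit 4]) (.node (nat_lit 0x80040c4c00012108021060100202c0009120) (.leaf [nat_lit 6, nat_lit 4, nat_lit 0, nat_lit 6, nat_lit 4]) (.leaf [nat_lit 1, nat_lit 5, nat_lit 4, nat_lit 1, nat_lit 4])))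
 (.node (nat_lit 0x8004146080801060080a0102051200000861) (.node (nat_lit 0x8004124002282440011100c00a010400b800) (.leaf [nat_lit 2, nat_lit 5, nat_lit 2, nat_lit 0, nat_lit 5, nat_lit 3]) (.leaf [nat_lit 5, nat_lit 6, nat_lit 3, nat_lit 4])) (.node (nat_lit 0x800418400222281040106004040980038001) (.leaf [nat_lit 4, nat_lit 5, nat_lit 0, nat_lit 6, nat_lit 4]) (.leaf [nat_lit 4, nat_lit 6, nat_lit 5, nat_lit 4]))))
 (.node (nat_lit 0x8004284002123000810a2800054040009104) (.node (nat_lit 0x800422400218228040104900091001042084) (.leaf [nat_lit 0, nat_lit 6, nat_lit 4]) (.node (nat_lit 0x800424530000284200042082009108000851) (.leaf [nat_lit 2, nat_lit 1, nat_lit 5, nat_lit 4, nat_lit 2, nat_lit 3]) (.leaf [nat_lit 0, nat_lit 6, nat_lit 4, nat_lit 6, nat_lit 3])))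
 (.node (nat_lit 0x8004416102001a400004908000210a000834) (.node (nat_lit 0x80043040020a2121001c8000025080000845) (.leaf [nat_lit 5, nat_lit 6, nat_lit 4, nat_lit 3]) (.leaf [nat_lit 2, nat_lit 5, nat_lit 3, nat_lit 2, nat_lit 4])) (.node (nat_lit 0x8004424050042280201100900c0a00002109) (.leaf [nat_lit 0, nat_lit 6, nat_lit 4, nat_lit 3]) (.leaf [nat_lit 3, nat_lit 1, nat_lit 4, nat_lit 0, nat_lit 3]))))))
 (.node (nat_lit 0x800508624000190200040890009024002043) (.node (nat_lit 0x80048841300030002108c002040910020244) (.node (nat_lit 0x800460480180228002103200054008000815) (.node (nat_lit 0x800448508800281010054020020284002103) (.leaf [nat_lit 0, nat_lit 6, nat_lit 4, nat_lit 6]) (.node (nat_lit 0x80045046200028100811008200c300000825) (.leaf [nat_lit 6, nat_lit 4, nat_lit 0, nat_lit 6, nat_lit 4]) (.leaf [nat_lit 5, nat_lit 1, nat_lit 4, nat_lit 5, nat_lit 2])))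
 (.node (nat_lit 0x80048242080120130011005008c008042024) (.node (nat_lit 0x800481420802300028082210049040014104) (.leaf [nat_lit 0, nat_lit 6, nat_lit 4, nat_lit 2]) (.leaf [nat_lit 3, nat_lit 0, nat_lit 4, nat_lit 6, nat_lit 0, nat_lit 4])) (.node (nat_lit 0x800484608010181800042022020248014101) (.leaf [nat_lit 6, nat_lit 5, nat_lit 4, nat_lit 1, nat_lit 5]) (.leaf [nat_lit 4, nat_lit 2, nat_lit 4, nat_lit 6, nat_lit 0, nat_lit 4]))))
 (.node (nat_lit 0x8004c048012020680011001204900102020c) (.node (nat_lit 0x800490608004110042082201040908025020) (.leaf [nat_lit 5, nat_lit 4, nat_lit 6]) (.node (nat_lit 0x8004a0480140300009042006025010018a00) (.leaf [nat_lit 6, nat_lit 4, nat_lit 6, nat_lit 4]) (.leaf [nat_lit 5, nat_lit 6, nat_lit 5, nat_lit 0, nat_lit 4, nat_lit 2])))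
 (.node (nat_lit 0x8005024580002012801048200a0014002049) (.node (nat_lit 0x80050150101028880006022001408400204a) (.leaf [nat_lit 1, nat_lit 4, nat_lit 0, nat_lit 6]) (.leaf [nat_lit 3, nat_lit 4, nat_lit 2, nat_lit 1, nat_lit 6])) (.node (nat_lit 0x800504402a003400400a0012014081009028) (.leaf [nat_lit 3, nat_lit 4, nat_lit 2, nat_lit 1, nat_lit 3]) (.leaf [nat_lit 4, nat_lit 2, nat_lit 5, nat_lit 2, nat_lit 6, nat_lit 3])))))
 (.node (nat_lit 0x8006044029002840201080030510100200c8) (.node (nat_lit 0x8005404800a034000403180000c21000200b) (.node (nat_lit 0x8005105010012120200a000604088800c240) (.leaf [nat_lit 5, nat_lit 3, nat_lit 5, nat_lit 4]) (.node (nat_lit 0x8005204800c021201010480206020100900c) (.leaf [nat_lit 4, nat_lit 2, nat_lit 5, nat_lit 6]) (.leaf [nat_lit 2, nat_lit 4, nat_lit 1, nat_lit 5])))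
 (.node (nat_lit 0x800601610040108006082090060120005808) (.node (nat_lit 0x80058048006020120212a000040818014005) (.leaf [nat_lit 0, nat_lit 3, nat_lit 1, nat_lit 4]) (.leaf [nat_lit 2, nat_lit 3, nat_lit 5, nat_lit 6, nat_lit 5])) (.node (nat_lit 0x8006024000382011801080050c0840036000) (.leaf [nat_lit 5, nat_lit 4, nat_lit 6, nat_lit 5, nat_lit 2]) (.leaf [nat_lit 5, nat_lit 3, nat_lit 0, nat_lit 4]))))
 (.node (nat_lit 0x80062040001a284004103040060101018880) (.node (nat_lit 0x80060840003224a0001901000200c4005801) (.leaf [nat_lit 5, nat_lit 4, nat_lit 6, nat_lit 5]) (.node (nat_lit 0x80061040002a32080008208105100400c140) (.leaf [nat_lit 5, nat_lit 6, nat_lit 4, nat_lit 2, nat_lit 3]) (.leaf [nat_lit 4, nat_lit 5, nat_lit 0, nat_lit 3])))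
 (.node (nat_lit 0x80068054400020110208201102004c018820) (.node (nat_lit 0x8006406100011030200c080202008c00c110) (.leaf [nat_lit 1, nat_lit 5, nat_lit 1, nat_lit 6]) (.leaf [nat_lit 4, nat_lit 0, nat_lit 6, nat_lit 5])) (.node (nat_lit 0x80070040280420108219000806002100c050) (.leaf [nat_lit 3, nat_lit 2, nat_lit 5, nat_lit 3]) (.leaf [nat_lit 4, nat_lit 2, nat_lit 5, nat_lit 0, nat_lit 4])))))))
 (.node (nat_lit 0x8009014100282884001002c0041006026010) (.node (nat_lit 0x80083050208020c008081300070002000445) (.node (nat_lit 0x80081260014018000907002000b400004284) (.node (nat_lit 0x80080941012026004018001200a084005600) (.node (nat_lit 0x8008057040000b020004110200a088000470) (.leaf [nat_lit 3, nat_lit 2, nat_lit 3, nat_lit 5, nat_lit 1, nat_lit 4]) (.node (nat_lit 0x800806488020210408122040041101004290) (.leaf [nat_lit 0, nat_lit 4, nat_lit 6, nat_lit 5, nat_lit 4]) (.leaf [nat_lit 0, nat_lit 4, nat_lit 6, nat_lit 5, nat_lit 4, nat_lit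 2])))
 (.node (nat_lit 0x80080c42101021040214022008414000a081) (.node (nat_lit 0x80080a4460002104041800110283000010e0) (.leaf [nat_lit 6, nat_lit 4, nat_lit 5, nat_lit 3]) (.leaf [nat_lit 0, nat_lit 5])) (.node (nat_lit 0x80081144820021108018000a026100000464) (.leaf [nat_lit 0, nat_lit 6, nat_lit 5, nat_lit 0, nat_lit 5]) (.leaf [nat_lit 6, nat_lit 2, nat_lit 6, nat_lit 4, nat_lit 3]))))
 (.node (nat_lit 0x8008214101082022021290000c4080000454) (.node (nat_lit 0x8008144210082c2000118100004282000461) (.leaf [nat_lit 4, nat_lit 3]) (.node (nat_lit 0x80081842100420c020180003040580012240) (.leaf [nat_lit 0, nat_lit 6, nat_lit 4, nat_lit 0, nat_lit 3]) (.leaf [nat_lit 4, nat_lit 0, nat_lit 5, nat_lit 2])))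
 (.node (nat_lit 0x800824488002220180140208017000000451) (.node (nat_lit 0x8008224880042022011045000700100010c8) (.leaf [nat_lit 2, nat_lit 3, nat_lit 5, nat_lit 6, nat_lit 4]) (.leaf [nat_lit 6, nat_lit 5, nat_lit 4, nat_lit 5, nat_lit 6, nat_lit 3])) (.node (nat_lit 0x80082841010120c0101402040a24000010c2) (.leaf [nat_lit 2, nat_lit 5, nat_lit 2, nat_lit 3]) (.leaf [nat_lit 6, nat_lit 2, nat_lit 0, nat_lit 5, nat_lit 4])))))
 (.node (nat_lit 0x8008814204022110101003400c402000a00c) (.node (nat_lit 0x800844450080209200122002084108000431) (.node (nat_lit 0x80084148300026000810038001c002000434) (.leaf [nat_lit 3, nat_lit 5, nat_lit 4, nat_lit 2, nat_lit 5]) (.node (nat_lit 0x8008426001101220040c060001c0010010a8) (.leaf [nat_lit 5, nat_lit 1, nat_lit 6, nat_lit 5]) (.leaf [nat_lit 4, nat_lit 3, nat_lit 2, nat_lit 6, nat_lit 5, nat_lit 4])))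
 (.node (nat_lit 0x8008506001021450000a8080012208000425) (.node (nat_lit 0x8008485084002600010841040122100010a2) (.leaf [nat_lit 3, nat_lit 0, nat_lit 5, nat_lit 2, nat_lit 3]) (.leaf [nat_lit 4, nat_lit 1, nat_lit 5, nat_lit 2, nat_lit 6])) (.node (nat_lit 0x80086042420039000004a10000108a000415) (.leaf [nat_lit 5, nat_lit 2, nat_lit 4, nat_lit 1, nat_lit 5]) (.leaf [nat_lit 0, nat_lit 4, nat_lit 5, nat_lit 4]))))
 (.node (nat_lit 0x80088868020013400004051000a005001062) (.node (nat_lit 0x800882420401348000092100004214001068) (.leaf [nat_lit 6, nat_lit 4, nat_lit 5, nat_lit 0, nat_lit 5]) (.node (nat_lit 0x80088445004022012018140000a009004212) (.leaf [nat_lit 6, nat_lit 3, nat_lit 0, nat_lit 4, nat_lit 0, nat_lit 3]) (.leaf [nat_lit 0, nat_lit 3, nat_lit 1, nat_lit 4, nat_lit 3])))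
 (.node (nat_lit 0x8008a05020102201040c400101860000104a) (.node (nat_lit 0x8008905020202110010a8040040508004206) (.leaf [nat_lit 4, nat_lit 6, nat_lit 4, nat_lit 5]) (.leaf [nat_lit 1, nat_lit 4, nat_lit 0, nat_lit 6, nat_lit 4])) (.node (nat_lit 0x8008c04500042064001003010a801000102a) (.leaf [nat_lit 4, nat_lit 1, nat_lit 5]) (.leaf [nat_lit 6, nat_lit 1, nat_lit 5, nat_lit 6, nat_lit 4]))))))
 (.node (nat_lit 0x800a404240202090041001810c0402012018) (.node (nat_lit 0x80098040d000220024100241092002040418) (.node (nat_lit 0x800908410021303000084044040490028202) (.node (nat_lit 0x800902600050104420092080041005028208) (.leaf [nat_lit 5, nat_lit 0, nat_lit 4, nat_lit 6, nat_lit 4]) (.node (nat_lit 0x8009044026002200a0118010084048041003) (.leaf [nat_lit 1, nat_lit 4, nat_lit 5, nat_lit 1, nat_lit 4]) (.leaf [nat_lit 1, nat_lit 4, nat_lit 5, nat_lit 2, nat_lit 4])))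
 (.node (nat_lit 0x80092041000922008410440208121004a040) (.node (nat_lit 0x800910600042118004081220040488026001) (.leaf [nat_lit 5, nat_lit 6, nat_lit 0, nat_lit 5, nat_lit 2, nat_lit 3]) (.leaf [nat_lit 3, nat_lit 5, nat_lit 6, nat_lit 5, nat_lit 3, nat_lit 5])) (.node (nat_lit 0x80094060001210028108400c04a020031400) (.leaf [nat_lit 3, nat_lit 2, nat_lit 3, nat_lit 4]) (.leaf [nat_lit 4, nat_lit 0, nat_lit 6]))))
 (.node (nat_lit 0x800a044025002090401400280b0001004092) (.node (nat_lit 0x800a014480102020221001c00b0004005408) (.leaf [nat_lit 2, nat_lit 5, nat_lit 4, nat_lit 1, nat_lit 3]) (.node (nat_lit 0x800a025110002020210c0440028108004094) (.leaf [nat_lit 1, nat_lit 6, nat_lit 5, nat_lit 0, nat_lit 5, nat_lit 4]) (.leaf [nat_lit 6, nat_lit 0, nat_lit 4, nat_lit 3, nat_lit 4])))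
 (.node (nat_lit 0x800a10448001320400081120012048004086) (.node (nat_lit 0x800a08680080140024028102012050005401) (.leaf [nat_lit 4, nat_lit 2, nat_lit 5, nat_lit 2, nat_lit 3]) (.leaf [nat_lit 6, nat_lit 0, nat_lit 5, nat_lit 4])) (.node (nat_lit 0x800a2042404020200314000c081110018480) (.leaf [nat_lit 4, nat_lit 0, nat_lit 6, nat_lit 5, nat_lit 2, nat_lit 4]) (.leaf [nat_lit 6, nat_lit 1, nat_lit 4, nat_lit 6, nat_lit 0, nat_lit 4])))))
 (.node (nat_lit 0x800c1049400032020004018800b002000065) (.node (nat_lit 0x800c01420082288100152000005208000074) (.node (nat_lit 0x800a80680008100141063000018420004016) (.leaf [nat_lit 6, nat_lit 1, nat_lit 5, nat_lit 4, nat_lit 2, nat_lit 3]) (.node (nat_lit 0x800b004024042540001000c108103002800a) (.leaf [nat_lit 6, nat_lit 3, nat_lit 0, nat_lit 4]) (.leaf [nat_lit 3, nat_lit 4, nat_lit 5])))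
 (.node (nat_lit 0x800c0440230021000a18108006c000000071) (.node (nat_lit 0x800c0242008121000c1041200c024000b010) (.leaf [nat_lit 3, nat_lit 5, nat_lit 6, nat_lit 5]) (.leaf [nat_lit 2, nat_lit 6, nat_lit 5, nat_lit 6, nat_lit 2, nat_lit 3])) (.node (nat_lit 0x800c085080402100060a2020040190005201) (.leaf [nat_lit 3, nat_lit 0, nat_lit 5]) (.leaf [nat_lit 2, nat_lit 6, nat_lit 5, nat_lit 2, nat_lit 4]))))
 (.node (nat_lit 0x800c80420003206040181004040118018220) (.node (nat_lit 0x800c206410001041020a2008018280000055) (.leaf [nat_lit 2, nat_lit 5, nat_lit 2, nat_lit 4]) (.node (nat_lit 0x800c405080082060800c0202031100000035) (.leaf [nat_lit 2, nat_lit 5, nat_lit 2]) (.leaf [nat_lit 3, nat_lit 0, nat_lit 5])))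
 (.node (nat_lit 0x800e004021043200100c00420180a0005009) (.node (nat_lit 0x800d00402204288001104022040098031040) (.leaf [nat_lit 3, nat_lit 5, nat_lit 6, nat_lit 5]) (.leaf [nat_lit 5, nat_lit 4, nat_lit 1, nat_lit 3])) (.node (nat_lit 0x801003608008106080090420040904020250) (.leaf [nat_lit 2, nat_lit 4, nat_lit 3, nat_lit 4]) (.leaf [nat_lit 1, nat_lit 4, nat_lit 5, nat_lit 3, nat_lit 4, nat_lit 2])))))))))
 (.node (nat_lit 0x80240140c02022100415080008029000014a) (.node (nat_lit 0x8018025102002a400004010500a4100000e8) (.node (nat_lit 0x8011015004102040600a008804080601a200) (.node (nat_lit 0x801030418040300006080b00042009024480) (.node (nat_lit 0x8010124c008030002402024101410800ac00) (.node (nat_lit 0x80100a6080011604000822040141100008e0) (.node (nat_lit 0x801006404440300030082208040901038080) (.leaf [nat_lit 1, nat_lit 4, nat_lit 5, nat_lit 3, nat_lit 4]) (.node (nat_lit 0x8010096080021100440a0180042030004e00) (.leaf [nat_lit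 6, nat_lit 3, nat_lit 1, nat_lit 4, nat_lit 5, nat_lit 2]) (.leaf [nat_lit 6, nat_lit 5, nat_lit 6, nat_lit 0, nat_lit 5]))) (.node (nat_lit 0x80100c420810244080110041082202008520) (.leaf [nat_lit 4, nat_lit 6, nat_lit 4, nat_lit 3]) (.node (nat_lit 0x80101150050021088008c004042028020242) (.leaf [nat_lit 4, nat_lit 2, nat_lit 6, nat_lit 4, nat_lit 3]) (.leaf [nat_lit 4, nat_lit 3, nat_lit 5, nat_lit 2, nat_lit 6]))))
 (.node (nat_lit 0x801021400284204140128800090402042018) (.node (nat_lit 0x80101442080830002208c0010506000021c0) (.leaf [nat_lit 2, nat_lit 5, nat_lit 4, nat_lit 3]) (.node (nat_lit 0x801018420804280440108280042021014102) (.leaf [nat_lit 5, nat_lit 4, nat_lit 3]) (.leaf [nat_lit 6, nat_lit 2, nat_lit 5, nat_lit 3, nat_lit 4])))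
 (.node (nat_lit 0x8010244002813000120e0040016800008508) (.node (nat_lit 0x80102242210030001409040104c2000008c8) (.leaf [nat_lit 1, nat_lit 4, nat_lit 5, nat_lit 3, nat_lit 4, nat_lit 3]) (.leaf [nat_lit 6, nat_lit 0, nat_lit 4, nat_lit 1, nat_lit 4])) (.node (nat_lit 0x8010285840002302000420110085040008c2) (.leaf [nat_lit 6, nat_lit 3, nat_lit 1, nat_lit 4, nat_lit 5]) (.leaf [nat_lit 5, nat_lit 1, nat_lit 5])))))
 (.node (nat_lit 0x8010814002242108101060020a0108048440) (.node (nat_lit 0x801044404402208a001100090e0020002190) (.node (nat_lit 0x80104148280020412011000c048480020212) (.leaf [nat_lit 1, nat_lit 3, nat_lit 5, nat_lit 4, nat_lit 6]) (.node (nat_lit 0x8010424044042520001881000202110008a8) (.leaf [nat_lit 1, nat_lit 6, nat_lit 5]) (.leaf [nat_lit 1, nat_lit 5, nat_lit 0, nat_lit 5])))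
 (.node (nat_lit 0x801050418020280408144800020203002184) (.node (nat_lit 0x80104844030028041011000502e0000008a2) (.leaf [nat_lit 3, nat_lit 0, nat_lit 4, nat_lit 5, nat_lit 6]) (.leaf [nat_lit 0, nat_lit 5, nat_lit 3, nat_lit 4])) (.node (nat_lit 0x8010604180102041011026000e000400088a) (.leaf [nat_lit 2, nat_lit 4, nat_lit 1, nat_lit 5]) (.leaf [nat_lit 3, nat_lit 0, nat_lit 4, nat_lit 1, nat_lit 5]))))
 (.node (nat_lit 0x8010884124002440041082100a0101000862) (.node (nat_lit 0x8010824c0010200700106001038004000868) (.leaf [nat_lit 0, nat_lit 6, nat_lit 0, nat_lit 5, nat_lit 4]) (.node (nat_lit 0x801084400221244008180c00038002002150) (.leaf [nat_lit 5, nat_lit 3, nat_lit 5, nat_lit 1, nat_lit 4]) (.leaf [nat_lit 1, nat_lit 5, nat_lit 4])))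
 (.node (nat_lit 0x8010a040020528a00015010002441000084a) (.node (nat_lit 0x8010904c0002210801108208024420002144) (.leaf [nat_lit 6, nat_lit 5, nat_lit 0, nat_lit 5, nat_lit 4]) (.leaf [nat_lit 5, nat_lit 4, nat_lit 6, nat_lit 0, nat_lit 4])) (.node (nat_lit 0x8010c072000009420004840100211400082a) (.leaf [nat_lit 1, nat_lit 5, nat_lit 4]) (.leaf [nat_lit 0, nat_lit 4, nat_lit 5, nat_lit 3]))))))
 (.node (nat_lit 0x801240440108208804102420094080020013) (.node (nat_lit 0x80118040c8002006021500200a0009002054) (.node (nat_lit 0x8011084402403028000a0081014012008424) (.node (nat_lit 0x801102422020200680188040040805014018) (.leaf [nat_lit 0, nat_lit 4, nat_lit 6, nat_lit 4]) (.node (nat_lit 0x8011046900001242000408030084280020d0) (.leaf [nat_lit 0, nat_lit 4, nat_lit 6, nat_lit 4, nat_lit 2]) (.leaf [nat_lit 6, nat_lit 0, nat_lit 4, nat_lit 6, nat_lit 4])))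
 (.node (nat_lit 0x801120422002204041150080080a1000840c) (.node (nat_lit 0x801110500401268000080a2001400a0020c4) (.leaf [nat_lit 4, nat_lit 5, nat_lit 2, nat_lit 1, nat_lit 3]) (.leaf [nat_lit 3, nat_lit 5, nat_lit 1, nat_lit 4, nat_lit 0, nat_lit 3])) (.node (nat_lit 0x801140440208204021188002030c00002094) (.leaf [nat_lit 5, nat_lit 3, nat_lit 4, nat_lit 5]) (.leaf [nat_lit 6, nat_lit 4, nat_lit 1, nat_lit 3]))))
 (.node (nat_lit 0x8012044000a120884012410008200a050410) (.node (nat_lit 0x8012014000a43c000002005201a100004c08) (.leaf [nat_lit 4, nat_lit 2, nat_lit 1, nat_lit 3]) (.node (nat_lit 0x80120251080020058008200c04c020020051) (.leaf [nat_lit 1, nat_lit 4, nat_lit 5, nat_lit 2, nat_lit 1, nat_lit 3]) (.leaf [nat_lit 2, nat_lit 5, nat_lit 3])))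
 (.node (nat_lit 0x801210606000108088080920050404020043) (.node (nat_lit 0x801208440140230020108090082006004c01) (.leaf [nat_lit 2, nat_lit 4, nat_lit 6, nat_lit 0, nat_lit 5]) (.leaf [nat_lit 4, nat_lit 6, nat_lit 4])) (.node (nat_lit 0x80122040008523000810244008091004c002) (.leaf [nat_lit 6, nat_lit 3, nat_lit 4, nat_lit 6, nat_lit 4]) (.leaf [nat_lit 3, nat_lit 5, nat_lit 1, nat_lit 3, nat_lit 4])))))
 (.node (nat_lit 0x8014105001012800480502040240a000a802) (.node (nat_lit 0x8014015001102220040900220480c0004a08) (.node (nat_lit 0x801280400025200502108018094040062800) (.leaf [nat_lit 1, nat_lit 5, nat_lit 0, nat_lit 5]) (.node (nat_lit 0x80130044004820048212400408083001a001) (.leaf [nat_lit 1, nat_lit 5, nat_lit 1, nat_lit 4]) (.leaf [nat_lit 5, nat_lit 3, nat_lit 2, nat_lit 3, nat_lit 4])))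
 (.node (nat_lit 0x801404404042222001180880050210008128) (.node (nat_lit 0x80140240404420038016000809002100a810) (.leaf [nat_lit 1, nat_lit 4, nat_lit 5, nat_lit 3, nat_lit 4]) (.leaf [nat_lit 2, nat_lit 1, nat_lit 5, nat_lit 4])) (.node (nat_lit 0x801408412080280050160002008124004a01) (.leaf [nat_lit 3, nat_lit 5, nat_lit 0, nat_lit 4, nat_lit 6, nat_lit 3]) (.leaf [nat_lit 4, nat_lit 0, nat_lit 3, nat_lit 0, nat_lit 5, nat_lit 4]))))
 (.node (nat_lit 0x801480412008200302180804048041024030) (.node (nat_lit 0x80142064080010224009000302409000810c) (.leaf [nat_lit 1, nat_lit 5, nat_lit 4, nat_lit 5, nat_lit 6, nat_lit 3]) (.node (nat_lit 0x801440404006280018102220048081030900) (.leaf [nat_lit 2, nat_lit 1, nat_lit 5, nat_lit 4]) (.leaf [nat_lit 6, nat_lit 5, nat_lit 1, nat_lit 6, nat_lit 5])))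
 (.node (nat_lit 0x8016004a8000200182102060050014004809) (.node (nat_lit 0x8015005000112002820c600003084000802c) (.leaf [nat_lit 5, nat_lit 3, nat_lit 4, nat_lit 0, nat_lit 3]) (.leaf [nat_lit 3, nat_lit 2, nat_lit 3, nat_lit 0, nat_lit 5])) (.node (nat_lit 0x801801482040210090128020040106004608) (.leaf [nat_lit 2, nat_lit 3, nat_lit 5, nat_lit 6]) (.leaf [nat_lit 2, nat_lit 0, nat_lit 4, nat_lit 6, nat_lit 4])))))))
 (.node (nat_lit 0x802044600028120802098400044201001190) (.node (nat_lit 0x802009520200294000041030008884000542) (.node (nat_lit 0x80188040c10021001118040406220000006a) (.node (nat_lit 0x80181042000c21008114404008032000a402) (.node (nat_lit 0x801804420018208240180480040103016020) (.leaf [nat_lit 6, nat_lit 0, nat_lit 4, nat_lit 1, nat_lit 5]) (.node (nat_lit 0x8018084200143021000d80000046010000e2) (.leaf [nat_lit 2, nat_lit 0, nat_lit 4, nat_lit 6, nat_lit 4, nat_lit 2]) (.leaf [nat_lit 2, nat_lit 4, nat_lit 5, nat_lit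 2, nat_lit 1, nat_lit 3]))) (.node (nat_lit 0x8018206404001280010803100160040000ca) (.leaf [nat_lit 6, nat_lit 5, nat_lit 2, nat_lit 1, nat_lit 3]) (.node (nat_lit 0x8018404820012082041440100305000000aa) (.leaf [nat_lit 4, nat_lit 3, nat_lit 4, nat_lit 5]) (.leaf [nat_lit 4, nat_lit 6, nat_lit 4, nat_lit 0, nat_lit 6]))))
 (.node (nat_lit 0x801c0064002018008403014000a012004209) (.node (nat_lit 0x80190040c080302008080230040007030440) (.leaf [nat_lit 4, nat_lit 2, nat_lit 4, nat_lit 0, nat_lit 6]) (.node (nat_lit 0x801a00510002208044080130062080004409) (.leaf [nat_lit 0, nat_lit 4, nat_lit 6]) (.leaf [nat_lit 3, nat_lit 0, nat_lit 4, nat_lit 1, nat_lit 3])))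
 (.node (nat_lit 0x802005410012221400180120044240008888) (.node (nat_lit 0x802003410014200a201050800e8000000548) (.leaf [nat_lit 5, nat_lit 0, nat_lit 6]) (.leaf [nat_lit 5, nat_lit 6, nat_lit 5, nat_lit 3, nat_lit 1, nat_lit 4])) (.node (nat_lit 0x80200641001120c1001208400812080404a0) (.leaf [nat_lit 6, nat_lit 3, nat_lit 2, nat_lit 5, nat_lit 4, nat_lit 2]) (.leaf [nat_lit 6, nat_lit 3, nat_lit 2, nat_lit 5, nat_lit 4])))))
 (.node (nat_lit 0x80202140c400200a021801040410180300c0) (.node (nat_lit 0x802011410006308040080680041028024900) (.node (nat_lit 0x80200a444800220090118020081204000541) (.leaf [nat_lit 0, nat_lit 3, nat_lit 1, nat_lit 4]) (.node (nat_lit 0x80200c600060104410081202070100008881) (.leaf [nat_lit 4, nat_lit 1, nat_lit 6, nat_lit 4, nat_lit 3]) (.leaf [nat_lit 6, nat_lit 1, nat_lit 5, nat_lit 1, nat_lit 5])))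
 (.node (nat_lit 0x8020144100032c08001044080282200011c0) (.node (nat_lit 0x802012410005220088140300084060009c00) (.leaf [nat_lit 6, nat_lit 2, nat_lit 3, nat_lit 5, nat_lit 4]) (.leaf [nat_lit 6, nat_lit 5, nat_lit 0, nat_lit 3, nat_lit 4])) (.node (nat_lit 0x802018488100220082104404041021010a40) (.leaf [nat_lit 4, nat_lit 3, nat_lit 0, nat_lit 4, nat_lit 5, nat_lit 2]) (.leaf [nat_lit 4, nat_lit 1, nat_lit 6, nat_lit 4, nat_lit 6, nat_lit 4]))))
 (.node (nat_lit 0x8020286000441180020a0c00041011004380) (.node (nat_lit 0x802022421100200a01118008084050040484) (.leaf [nat_lit 1, nat_lit 6, nat_lit 5, nat_lit 0, nat_lit 4]) (.node (nat_lit 0x802024600048180101040482028210015800) (.leaf [nat_lit 2, nat_lit 3, nat_lit 2, nat_lit 5, nat_lit 4]) (.leaf [nat_lit 3, nat_lit 2, nat_lit 5, nat_lit 4])))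
 (.node (nat_lit 0x8020414818003080100442040300a000050a) (.node (nat_lit 0x802030500880210500084042041009028204) (.leaf [nat_lit 1, nat_lit 4, nat_lit 5, nat_lit 4]) (.leaf [nat_lit 4, nat_lit 1, nat_lit 5, nat_lit 6])) (.node (nat_lit 0x802042408280251000120804084030000509) (.leaf [nat_lit 6, nat_lit 5, nat_lit 6, nat_lit 3, nat_lit 4]) (.leaf [nat_lit 3, nat_lit 2, nat_lit 4, nat_lit 1, nat_lit 3]))))))
 (.node (nat_lit 0x8021084880103018000700040042a0000443) (.node (nat_lit 0x8020884114002200121c0040008805004320) (.node (nat_lit 0x80206060000c101600084012048900030081) (.node (nat_lit 0x8020486000241c008002d000010a10000503) (.leaf [nat_lit 5, nat_lit 0, nat_lit 5, nat_lit 4]) (.node (nat_lit 0x802050460400308001084022010a08001184) (.leaf [nat_lit 3, nat_lit 2, nat_lit 4, nat_lit 5]) (.leaf [nat_lit 1, nat_lit 3, nat_lit 5, nat_lit 4])))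
 (.node (nat_lit 0x802082408240220018105001090900040424) (.node (nat_lit 0x80208164010010500208061003006000880c) (.leaf [nat_lit 6, nat_lit 5]) (.leaf [nat_lit 6, nat_lit 3, nat_lit 5, nat_lit 2, nat_lit 0, nat_lit 3])) (.node (nat_lit 0x8020844a4000310200040422008809001150) (.leaf [nat_lit 6, nat_lit 0, nat_lit 5, nat_lit 4, nat_lit 2, nat_lit 3]) (.leaf [nat_lit 2, nat_lit 3, nat_lit 4]))))
 (.node (nat_lit 0x8020c0408202204c001c0008030021001114) (.node (nat_lit 0x80209050082022000a08060105c000001144) (.leaf [nat_lit 0, nat_lit 6, nat_lit 5, nat_lit 4]) (.node (nat_lit 0x8020a0500810289000040406030041004308) (.leaf [nat_lit 0, nat_lit 4, nat_lit 5, nat_lit 1, nat_lit 4]) (.leaf [nat_lit 0, nat_lit 4, nat_lit 5, nat_lit 6])))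
 (.node (nat_lit 0x80210242102020c004140210090880000449) (.node (nat_lit 0x80210164008018002402481001920000044a) (.leaf [nat_lit 5, nat_lit 6, nat_lit 0, nat_lit 5]) (.leaf [nat_lit 4, nat_lit 2, nat_lit 6, nat_lit 5, nat_lit 3])) (.node (nat_lit 0x802104400e0020c0021800210700080010d0) (.leaf [nat_lit 3, nat_lit 4, nat_lit 2, nat_lit 0, nat_lit 3]) (.leaf [nat_lit 4, nat_lit 0, nat_lit 5, nat_lit 4, nat_lit 0, nat_lit 4])))))
 (.node (nat_lit 0x802204400d0031008008100a044041028030) (.node (nat_lit 0x8021405140002a020004882000109400040b) (.node (nat_lit 0x8021104880082104201402020248010010c4) (.leaf [nat_lit 2, nat_lit 5, nat_lit 1, nat_lit 3, nat_lit 4]) (.node (nat_lit 0x802120421002210410180005048840004288) (.leaf [nat_lit 2, nat_lit 4, nat_lit 6, nat_lit 1, nat_lit 4]) (.leaf [nat_lit 4, nat_lit 0, nat_lit 5])))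
 (.node (nat_lit 0x802201520008200822080490044044019100) (.node (nat_lit 0x802180640001128400090802004228001054) (.leaf [nat_lit 4, nat_lit 0, nat_lit 3, nat_lit 4]) (.leaf [nat_lit 6, nat_lit 4, nat_lit 3, nat_lit 4])) (.node (nat_lit 0x8022024080c020082114011008100c034400) (.leaf [nat_lit 6, nat_lit 4, nat_lit 3, nat_lit 5, nat_lit 4, nat_lit 3]) (.leaf [nat_lit 4, nat_lit 6, nat_lit 3, nat_lit 2, nat_lit 3]))))
 (.node (nat_lit 0x8022204d0000200803101440028014004188) (.node (nat_lit 0x8022085200012484000810060108500041a0) (.leaf [nat_lit 3, nat_lit 4, nat_lit 1, nat_lit 5]) (.node (nat_lit 0x802210605000140102080481028024010848) (.leaf [nat_lit 4, nat_lit 1, nat_lit 6, nat_lit 4]) (.leaf [nat_lit 6, nat_lit 3, nat_lit 5, nat_lit 4])))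
 (.node (nat_lit 0x802280408042310004080411061800004128) (.node (nat_lit 0x8022404080822a0100101420044005010818) (.leaf [nat_lit 2, nat_lit 1, nat_lit 6, nat_lit 5, nat_lit 4]) (.leaf [nat_lit 5, nat_lit 0, nat_lit 5, nat_lit 4, nat_lit 2])) (.node (nat_lit 0x802300400c042a00401400120190010040a8) (.leaf [nat_lit 0, nat_lit 4, nat_lit 5, nat_lit 4]) (.leaf [nat_lit 2, nat_lit 6, nat_lit 1, nat_lit 4]))))))))
 (.node (nat_lit 0x804082610020103001088408060140000a14) (.node (nat_lit 0x80304048080125000210062002c008000194) (.node (nat_lit 0x8028084440023011000a0420010250008085) (.node (nat_lit 0x80244046001020488010122009800400010b) (.node (nat_lit 0x8024084110802482001040140a0820000143) (.node (nat_lit 0x8024027800000400a4034200009810000149) (.leaf [nat_lit 3, nat_lit 4, nat_lit 2, nat_lit 6, nat_lit 3]) (.node (nat_lit 0x802404400b002210011040180980400400a2) (.leaf [nat_lit 3, nat_lit 4]) (.leaf [nat_lit 6, nat_lit 4, nat_lit 5,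 nat_lit 2, nat_lit 3, nat_lit 5]))) (.node (nat_lit 0x80241046004021012010400c080281009802) (.leaf [nat_lit 2, nat_lit 0, nat_lit 6, nat_lit 5, nat_lit 4]) (.node (nat_lit 0x80242040c0012101101012400a0808040086) (.leaf [nat_lit 5, nat_lit 4, nat_lit 2, nat_lit 0, nat_lit 5]) (.leaf [nat_lit 0, nat_lit 4, nat_lit 1, nat_lit 6, nat_lit 4]))))
 (.node (nat_lit 0x802600400904248008101060080091034002) (.node (nat_lit 0x802480411008204840128100080211040026) (.leaf [nat_lit 3, nat_lit 1, nat_lit 4]) (.node (nat_lit 0x802500400a042100301280800c500000004b) (.leaf [nat_lit 6, nat_lit 0, nat_lit 5, nat_lit 4, nat_lit 2]) (.leaf [nat_lit 3, nat_lit 4])))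
 (.node (nat_lit 0x802802444008200221120044090180009410) (.node (nat_lit 0x80280148104020022215040002411000808c) (.leaf [nat_lit 4, nat_lit 5, nat_lit 3, nat_lit 2, nat_lit 1, nat_lit 3]) (.leaf [nat_lit 6, nat_lit 3, nat_lit 5, nat_lit 2, nat_lit 3])) (.node (nat_lit 0x8028044007002c0010120042015020008089) (.leaf [nat_lit 3, nat_lit 4, nat_lit 6, nat_lit 4, nat_lit 2, nat_lit 3]) (.leaf [nat_lit 0, nat_lit 4, nat_lit 3, nat_lit 1, nat_lit 4])))))
 (.node (nat_lit 0x802c004003042040c01500010a0028009012) (.node (nat_lit 0x802840481001204480120006048120010218) (.node (nat_lit 0x8028105000a02c0004024101010248009402) (.leaf [nat_lit 5, nat_lit 1, nat_lit 3, nat_lit 4]) (.node (nat_lit 0x8028205000902002030a0408048140015004) (.leaf [nat_lit 4, nat_lit 6, nat_lit 1, nat_lit 4]) (.leaf [nat_lit 2, nat_lit 4, nat_lit 0, nat_lit 5])))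
 (.node (nat_lit 0x802900400604301008090082048060024011) (.node (nat_lit 0x80288050003020444009010206120000800d) (.leaf [nat_lit 6, nat_lit 2, nat_lit 5, nat_lit 1, nat_lit 4]) (.leaf [nat_lit 2, nat_lit 3, nat_lit 4])) (.node (nat_lit 0x802a0040050420002318c000061080010058) (.leaf [nat_lit 3, nat_lit 5, nat_lit 1, nat_lit 5]) (.leaf [nat_lit 2, nat_lit 0, nat_lit 5, nat_lit 1, nat_lit 4]))))
 (.node (nat_lit 0x80300454800022040108020a0148200001d0) (.node (nat_lit 0x803001480840220404104082040038018300) (.leaf [nat_lit 2, nat_lit 6, nat_lit 4, nat_lit 3, nat_lit 4]) (.node (nat_lit 0x80300242012025004010408108020c008c10) (.leaf [nat_lit 6, nat_lit 2, nat_lit 5, nat_lit 4, nat_lit 2, nat_lit 3]) (.leaf [nat_lit 4, nat_lit 6, nat_lit 3])))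
 (.node (nat_lit 0x8030106042001b0000040029008c020001c4) (.node (nat_lit 0x80300841048030090008020604003102c040) (.leaf [nat_lit 4, nat_lit 2, nat_lit 6, nat_lit 3]) (.leaf [nat_lit 1, nat_lit 4, nat_lit 6, nat_lit 0, nat_lit 4])) (.node (nat_lit 0x803020420102288080100640040019014804) (.leaf [nat_lit 4, nat_lit 1, nat_lit 4]) (.leaf [nat_lit 4, nat_lit 0, nat_lit 4]))))))
 (.node (nat_lit 0x804014440120230040102408089001000a82) (.node (nat_lit 0x80400570080008901004224002002a010580) (.node (nat_lit 0x80320060401010046008000e060880018101) (.node (nat_lit 0x803080410408288020104003060a00000154) (.leaf [nat_lit 4, nat_lit 5, nat_lit 0, nat_lit 5, nat_lit 3]) (.node (nat_lit 0x8031004200223008080c44000182010000d4) (.leaf [nat_lit 4, nat_lit 3, nat_lit 5, nat_lit 2, nat_lit 4]) (.leaf [nat_lit 5, nat_lit 0, nat_lit 3, nat_lit 4, nat_lit 3])))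
 (.node (nat_lit 0x803800480041300108060280014024008412) (.node (nat_lit 0x8034004100882200051002600c4100008812) (.leaf [nat_lit 4, nat_lit 6]) (.leaf [nat_lit 6, nat_lit 2, nat_lit 5, nat_lit 4, nat_lit 2])) (.node (nat_lit 0x80400348030024041010308002002c018840) (.leaf [nat_lit 0, nat_lit 5, nat_lit 6, nat_lit 4]) (.leaf [nat_lit 3, nat_lit 2, nat_lit 0, nat_lit 5, nat_lit 4]))))
 (.node (nat_lit 0x80400a442800300240088480020025011110) (.node (nat_lit 0x80400640144020a1001d0000020029000a90) (.leaf [nat_lit 0, nat_lit 4, nat_lit 3, nat_lit 5, nat_lit 4]) (.node (nat_lit 0x8040094000d0292000148100020026001e00) (.leaf [nat_lit 6, nat_lit 5, nat_lit 1, nat_lit 6, nat_lit 5, nat_lit 4]) (.leaf [nat_lit 4, nat_lit 2, nat_lit 5, nat_lit 4, nat_lit 6])))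
 (.node (nat_lit 0x8040114000c8240402110220089004022900) (.node (nat_lit 0x80400c418200241080102410080940020023) (.leaf [nat_lit 5, nat_lit 2, nat_lit 4, nat_lit 5]) (.leaf [nat_lit 4, nat_lit 2, nat_lit 5, nat_lit 4])) (.node (nat_lit 0x804012528000240401082060011108000a84) (.leaf [nat_lit 5, nat_lit 0, nat_lit 5, nat_lit 3]) (.leaf [nat_lit 2, nat_lit 6, nat_lit 3, nat_lit 4])))))
 (.node (nat_lit 0x8040414000982011201a0400042204018802) (.node (nat_lit 0x804022610080100d0008205004920002000d) (.node (nat_lit 0x8040184000c12088201024040e0200011102) (.leaf [nat_lit 6, nat_lit 3, nat_lit 1, nat_lit 4]) (.node (nat_lit 0x80402140a4002011401102100c088002000e) (.leaf [nat_lit 3, nat_lit 5, nat_lit 4, nat_lit 2, nat_lit 3]) (.leaf [nat_lit 6, nat_lit 2, nat_lit 5])))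
 (.node (nat_lit 0x804028581000208810050440020007002380) (.node (nat_lit 0x8040244401102806001080c002000b013800) (.leaf [nat_lit 4, nat_lit 3, nat_lit 4, nat_lit 2]) (.leaf [nat_lit 4, nat_lit 3, nat_lit 4])) (.node (nat_lit 0x804030440104208808110201082042021480) (.leaf [nat_lit 4, nat_lit 2, nat_lit 5]) (.leaf [nat_lit 6, nat_lit 5, nat_lit 0, nat_lit 4, nat_lit 0, nat_lit 3]))))
 (.node (nat_lit 0x80404840009130020208090405042002b000) (.node (nat_lit 0x804042401404300208082030060180018801) (.leaf [nat_lit 3, nat_lit 2, nat_lit 0, nat_lit 5, nat_lit 0, nat_lit 4]) (.node (nat_lit 0x8040444014022300101080a0080908042201) (.leaf [nat_lit 6, nat_lit 5, nat_lit 1, nat_lit 3, nat_lit 1, nat_lit 4]) (.leaf [nat_lit 3, nat_lit 4, nat_lit 6, nat_lit 1, nat_lit 4])))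
 (.node (nat_lit 0x804060420a00201101108084082012050408) (.node (nat_lit 0x804050400089230004141800082022008700) (.leaf [nat_lit 3, nat_lit 5, nat_lit 2, nat_lit 3]) (.leaf [nat_lit 6, nat_lit 5, nat_lit 2, nat_lit 6])) (.node (nat_lit 0x8040814000582282001030020c0820010504) (.leaf [nat_lit 2, nat_lit 6, nat_lit 4, nat_lit 2, nat_lit 3]) (.leaf [nat_lit 4, nat_lit 1, nat_lit 5, nat_lit 3, nat_lit 1, nat_lit 4])))))))
 (.node (nat_lit 0x80442040a001280204100902050048021090) (.node (nat_lit 0x804201480102228080110030042044001c08) (.node (nat_lit 0x80410248020120a004100c200600c0011018) (.node (nat_lit 0x80409040004938010005a000021420000a06) (.node (nat_lit 0x8040844a2000241008108060010501000a12) (.leaf [nat_lit 0, nat_lit 6, nat_lit 0, nat_lit 4]) (.node (nat_lit 0x804088400051241004130800088402002320) (.leaf [nat_lit 2, nat_lit 1, nat_lit 6, nat_lit 0, nat_lit 4]) (.leaf [nat_lit 1, nat_lit 5, nat_lit 2, nat_lit 0, nat_lit 3])))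
 (.node (nat_lit 0x8040c0400019202c00108024091200060102) (.node (nat_lit 0x8040a06100021080440c0801021410002308) (.leaf [nat_lit 6, nat_lit 2, nat_lit 1, nat_lit 6, nat_lit 5, nat_lit 4]) (.leaf [nat_lit 0, nat_lit 6, nat_lit 4, nat_lit 6, nat_lit 4])) (.node (nat_lit 0x804101480202201060148008022810010484) (.leaf [nat_lit 0, nat_lit 3]) (.leaf [nat_lit 5, nat_lit 4, nat_lit 6, nat_lit 4, nat_lit 2, nat_lit 3]))))
 (.node (nat_lit 0x80411044002438008002280101100a008640) (.node (nat_lit 0x80410444003020a002121200080848010481) (.leaf [nat_lit 1, nat_lit 5, nat_lit 0, nat_lit 4]) (.node (nat_lit 0x8041086204001480010808440110120022a0) (.leaf [nat_lit 5, nat_lit 6, nat_lit 5, nat_lit 2, nat_lit 3]) (.leaf [nat_lit 4, nat_lit 6, nat_lit 3, nat_lit 4])))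
 (.node (nat_lit 0x80414051200020102108080c060082008610) (.node (nat_lit 0x804120440014201041100c020b8000002288) (.leaf [nat_lit 6, nat_lit 4, nat_lit 6, nat_lit 3, nat_lit 4]) (.leaf [nat_lit 0, nat_lit 5, nat_lit 6, nat_lit 5])) (.node (nat_lit 0x804180409800380010060042010405002228) (.leaf [nat_lit 0, nat_lit 4, nat_lit 6, nat_lit 0, nat_lit 5]) (.leaf [nat_lit 0, nat_lit 3, nat_lit 4, nat_lit 5])))))
 (.node (nat_lit 0x804280540400228001091040002128000816) (.node (nat_lit 0x8042084180043000420e00100021a0001c01) (.node (nat_lit 0x804202480101300048049020032400000894) (.leaf [nat_lit 1, nat_lit 5, nat_lit 0, nat_lit 4, nat_lit 6]) (.node (nat_lit 0x804204418008280420121100042041000892) (.leaf [nat_lit 1, nat_lit 5, nat_lit 0, nat_lit 4, nat_lit 3]) (.leaf [nat_lit 2, nat_lit 5, nat_lit 0, nat_lit 4, nat_lit 3])))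
 (.node (nat_lit 0x804220420840280404110011049002002188) (.node (nat_lit 0x8042106030001100210e0008008540000886) (.leaf [nat_lit 6, nat_lit 5, nat_lit 0, nat_lit 3, nat_lit 4]) (.leaf [nat_lit 5, nat_lit 6, nat_lit 1, nat_lit 4, nat_lit 5, nat_lit 2])) (.node (nat_lit 0x80424042082030000a091080042005008510) (.leaf [nat_lit 0, nat_lit 5, nat_lit 2, nat_lit 1, nat_lit 3]) (.leaf [nat_lit 3, nat_lit 4, nat_lit 3, nat_lit 5, nat_lit 4]))))
 (.node (nat_lit 0x804402401044240011100920088088032200) (.node (nat_lit 0x8043004800032508001210040084500020a8) (.leaf [nat_lit 0, nat_lit 6, nat_lit 4]) (.node (nat_lit 0x80440140a0202400121a0040010184001a08) (.leaf [nat_lit 4, nat_lit 5, nat_lit 0, nat_lit 5]) (.leaf [nat_lit 2, nat_lit 6, nat_lit 4, nat_lit 1, nat_lit 4])))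
 (.node (nat_lit 0x804408620100102014088082050060001a01) (.node (nat_lit 0x804404401042280220102018068800010181) (.leaf [nat_lit 3, nat_lit 5, nat_lit 0, nat_lit 5, nat_lit 3]) (.leaf [nat_lit 4, nat_lit 5, nat_lit 1, nat_lit 3, nat_lit 1, nat_lit 4])) (.node (nat_lit 0x80441049080024000310200c0210a0008340) (.leaf [nat_lit 6, nat_lit 1, nat_lit 4, nat_lit 1, nat_lit 4]) (.leaf [nat_lit 2, nat_lit 0, nat_lit 5, nat_lit 4]))))))
 (.node (nat_lit 0x804a0042006025010018a000001409000096) (.node (nat_lit 0x804804700001080148068400013020000292) (.node (nat_lit 0x8045006200081008220c3000010085008250) (.node (nat_lit 0x8044404010062028801a0001050028008310) (.leaf [nat_lit 5, nat_lit 4, nat_lit 5, nat_lit 6, nat_lit 3]) (.node (nat_lit 0x80448054020020284008800a021030010105) (.leaf [nat_lit 6, nat_lit 5, nat_lit 2, nat_lit 3, nat_lit 1, nat_lit 4]) (.leaf [nat_lit 2, nat_lit 1, nat_lit 5, nat_lit 3, nat_lit 2, nat_lit 4])))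
 (.node (nat_lit 0x8048017000040c00a0022110018042001608) (.node (nat_lit 0x804600540080280024032002008150001809) (.leaf [nat_lit 4, nat_lit 5, nat_lit 4, nat_lit 3, nat_lit 4]) (.leaf [nat_lit 4, nat_lit 3, nat_lit 2, nat_lit 4, nat_lit 3])) (.node (nat_lit 0x8048024420082a1000100520018041000294) (.leaf [nat_lit 6, nat_lit 5, nat_lit 0, nat_lit 4, nat_lit 1, nat_lit 4]) (.leaf [nat_lit 5, nat_lit 3, nat_lit 0, nat_lit 5, nat_lit 6]))))
 (.node (nat_lit 0x8048204202402080181005020c0081013004) (.node (nat_lit 0x804808442002208030130080080144001601) (.leaf [nat_lit 4, nat_lit 5, nat_lit 4, nat_lit 6, nat_lit 3]) (.node (nat_lit 0x804810490400208028141040022101000286) (.leaf [nat_lit 5, nat_lit 6, nat_lit 5, nat_lit 0, nat_lit 4]) (.leaf [nat_lit 4, nat_lit 5, nat_lit 1, nat_lit 4, nat_lit 6])))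
 (.node (nat_lit 0x8048804091002024401300080c0021000216) (.node (nat_lit 0x80484042022020248014101008010c018003) (.leaf [nat_lit 4, nat_lit 5, nat_lit 4, nat_lit 0, nat_lit 4]) (.leaf [nat_lit 2, nat_lit 3, nat_lit 5, nat_lit 4])) (.node (nat_lit 0x80490040908025020010042208004c022011) (.leaf [nat_lit 0, nat_lit 6, nat_lit 0, nat_lit 4]) (.leaf [nat_lit 4, nat_lit 6, nat_lit 2, nat_lit 1, nat_lit 3])))))
 (.node (nat_lit 0x805020580008200141048202020490012804) (.node (nat_lit 0x8050024004442a0800102081048220010118) (.node (nat_lit 0x804c004900102020c0100122068004001209) (.leaf [nat_lit 5, nat_lit 6, nat_lit 1, nat_lit 4]) (.node (nat_lit 0x805001470000200160102082088014000e08) (.leaf [nat_lit 1, nat_lit 4, nat_lit 1, nat_lit 3]) (.leaf [nat_lit 5, nat_lit 2, nat_lit 6, nat_lit 2, nat_lit 3])))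
 (.node (nat_lit 0x80500858002024008402a040010112000e01) (.node (nat_lit 0x805004400442240088120300088011012820) (.leaf [nat_lit 3, nat_lit 4, nat_lit 5, nat_lit 3, nat_lit 4, nat_lit 3]) (.leaf [nat_lit 5, nat_lit 3, nat_lit 2, nat_lit 1, nat_lit 3])) (.node (nat_lit 0x8050106022001408400880050204a001010a) (.leaf [nat_lit 5, nat_lit 1, nat_lit 6, nat_lit 4]) (.leaf [nat_lit 5, nat_lit 4]))))
 (.node (nat_lit 0x8051004088802000611202040c240001001a) (.node (nat_lit 0x80504040040620012114081009028002a008) (.leaf [nat_lit 5, nat_lit 0, nat_lit 4, nat_lit 6, nat_lit 2, nat_lit 3]) (.node (nat_lit 0x80508040890024000c102003090240020430) (.leaf [nat_lit 3, nat_lit 5, nat_lit 6, nat_lit 2, nat_lit 5]) (.leaf [nat_lit 5, nat_lit 3, nat_lit 5, nat_lit 0, nat_lit 4])))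
 (.node (nat_lit 0x8054004000463180000c21000200b0000a09) (.node (nat_lit 0x8052006020101201040900c0048022000c09) (.leaf [nat_lit 2, nat_lit 0, nat_lit 6]) (.leaf [nat_lit 1, nat_lit 6, nat_lit 5, nat_lit 4, nat_lit 3])) (.node (nat_lit 0x8058004081802a0002140050012024000609) (.leaf [nat_lit 3, nat_lit 5, nat_lit 4, nat_lit 6]) (.leaf [nat_lit 2, nat_lit 4, nat_lit 1, nat_lit 3]))))))))))
 (.node (nat_lit 0x8150004600013084000802c000282400011a) (.node (nat_lit 0x80c0406c00001000a4023008010803000710) (.node (nat_lit 0x808240402082201804170000080029004510) (.node (nat_lit 0x8080304110402048081c0400022204000183) (.node (nat_lit 0x8080036010081006040e20000148400001b0) (.node (nat_lit 0x806040510100200c80080032040205029008) (.node (nat_lit 0x8060084408022900011004140290400003a0) (.node (nat_lit 0x806002440808208104101081080070030600) (.leaf [nat_lit 0, nat_lit 4, nat_lit 6, nat_lit 1, nat_lit 4]) (.node (nat_lit 0x8060044a0080208102100418040241011820)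 (.leaf [nat_lit 4, nat_lit 5, nat_lit 3, nat_lit 1, nat_lit 4]) (.leaf [nat_lit 2, nat_lit 5, nat_lit 0, nat_lit 4]))) (.node (nat_lit 0x80601060120010040c080062058080020901) (.leaf [nat_lit 0, nat_lit 5, nat_lit 2, nat_lit 6]) (.node (nat_lit 0x806020408401360000080052011804000388) (.leaf [nat_lit 4, nat_lit 1, nat_lit 6, nat_lit 5]) (.leaf [nat_lit 2, nat_lit 5, nat_lit 2, nat_lit 6, nat_lit 3]))))
 (.node (nat_lit 0x8062006010101888000400450304020001a8) (.node (nat_lit 0x8060804a0004200c40101003058010000328) (.leaf [nat_lit 4, nat_lit 6, nat_lit 0, nat_lit 5, nat_lit 4]) (.node (nat_lit 0x8061005100402080060c14000208110002a8) (.leaf [nat_lit 2, nat_lit 6, nat_lit 1, nat_lit 4, nat_lit 5]) (.leaf [nat_lit 6, nat_lit 1, nat_lit 5, nat_lit 4, nat_lit 2])))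
 (.node (nat_lit 0x80680044000a2004c0188200020111011024) (.node (nat_lit 0x8064004080212008c010001c0c1100030202) (.leaf [nat_lit 3, nat_lit 4, nat_lit 1, nat_lit 5]) (.leaf [nat_lit 6])) (.node (nat_lit 0x8070006002101000830c0500028048010824) (.leaf [nat_lit 2, nat_lit 3, nat_lit 2, nat_lit 1, nat_lit 5]) (.leaf [nat_lit 4, nat_lit 5, nat_lit 4, nat_lit 6, nat_lit 5])))))
 (.node (nat_lit 0x80801252400029020004004c003c000001a1) (.node (nat_lit 0x808009601002144100080260030410002884) (.node (nat_lit 0x808005420140250020100602085010002888) (.leaf [nat_lit 3, nat_lit 5, nat_lit 6, nat_lit 4, nat_lit 5]) (.node (nat_lit 0x808006480820206100100601040058031080) (.leaf [nat_lit 5, nat_lit 0, nat_lit 3, nat_lit 0, nat_lit 4]) (.leaf [nat_lit 5, nat_lit 1, nat_lit 6, nat_lit 2, nat_lit 5])))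
 (.node (nat_lit 0x80800c4142003a0000040052002881001520) (.node (nat_lit 0x80800a601001112020084480040054020b00) (.leaf [nat_lit 2, nat_lit 3, nat_lit 4, nat_lit 2, nat_lit 3]) (.leaf [nat_lit 5, nat_lit 6, nat_lit 3, nat_lit 5])) (.node (nat_lit 0x808011440a003020400850040304080001a2) (.leaf [nat_lit 6, nat_lit 3, nat_lit 5]) (.leaf [nat_lit 5, nat_lit 3, nat_lit 2, nat_lit 3]))))
 (.node (nat_lit 0x808021406400250004121800080248000192) (.node (nat_lit 0x80801460048011090008500104004a022220) (.leaf [nat_lit 3, nat_lit 4, nat_lit 0, nat_lit 6]) (.node (nat_lit 0x808018482100204820101280040046030401) (.leaf [nat_lit 4, nat_lit 3, nat_lit 5]) (.leaf [nat_lit 0, nat_lit 4, nat_lit 6, nat_lit 1, nat_lit 4])))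
 (.node (nat_lit 0x8080244808022500011040c0022210001508) (.node (nat_lit 0x808022480804220440112008045200000191) (.leaf [nat_lit 6, nat_lit 4, nat_lit 0, nat_lit 4, nat_lit 5]) (.leaf [nat_lit 3, nat_lit 4, nat_lit 5, nat_lit 4])) (.node (nat_lit 0x808028460080204810112002080241001504) (.leaf [nat_lit 4, nat_lit 2, nat_lit 6, nat_lit 3, nat_lit 4]) (.leaf [nat_lit 0, nat_lit 5, nat_lit 3, nat_lit 4, nat_lit 6, nat_lit 3]))))))
 (.node (nat_lit 0x808101420044280c001440080132000000b2) (.node (nat_lit 0x80808159000022420004144000280c000132) (.node (nat_lit 0x808044420101201a001040a009240004001a) (.node (nat_lit 0x808041420104302010080228041480014802) (.leaf [nat_lit 3, nat_lit 4, nat_lit 5, nat_lit 2, nat_lit 4]) (.node (nat_lit 0x80804240228022042018110004001c014801) (.leaf [nat_lit 5, nat_lit 3, nat_lit 4, nat_lit 2, nat_lit 3]) (.leaf [nat_lit 1, nat_lit 6, nat_lit 2, nat_lit 3])))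
 (.node (nat_lit 0x8080504110203020010a088004000e004700) (.node (nat_lit 0x808048500c00210180080221040016027000) (.leaf [nat_lit 1, nat_lit 6, nat_lit 2, nat_lit 6]) (.leaf [nat_lit 6, nat_lit 0, nat_lit 4])) (.node (nat_lit 0x808060411010220402104084080209042900) (.leaf [nat_lit 0, nat_lit 4, nat_lit 6]) (.leaf [nat_lit 4]))))
 (.node (nat_lit 0x808088460020210140101210084402002805) (.node (nat_lit 0x808082402240340800084408031004000131) (.leaf [nat_lit 2, nat_lit 0, nat_lit 6, nat_lit 4, nat_lit 3]) (.node (nat_lit 0x8080846004101040600c0300031002002809) (.leaf [nat_lit 1, nat_lit 6, nat_lit 4, nat_lit 6]) (.leaf [nat_lit 4, nat_lit 0, nat_lit 3, nat_lit 1, nat_lit 4])))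
 (.node (nat_lit 0x8080a0460008283000104044010e00000113) (.node (nat_lit 0x8080906004041012080a0840056000000123) (.leaf [nat_lit 6, nat_lit 4, nat_lit 6, nat_lit 3, nat_lit 2, nat_lit 4]) (.leaf [nat_lit 4, nat_lit 1, nat_lit 4, nat_lit 5, nat_lit 2])) (.node (nat_lit 0x8080c04022022101081040240a0810041401) (.leaf [nat_lit 1, nat_lit 5, nat_lit 1, nat_lit 5]) (.leaf [nat_lit 6, nat_lit 3, nat_lit 0, nat_lit 5, nat_lit 4])))))
 (.node (nat_lit 0x8081804058002100481224000c0204000033) (.node (nat_lit 0x8081084820102100c0144001020a02001424) (.node (nat_lit 0x808102450400206004181040020a080000b1) (.leaf [nat_lit 5, nat_lit 3, nat_lit 2, nat_lit 4, nat_lit 3]) (.node (nat_lit 0x8081044200412060021108100c0280001428) (.leaf [nat_lit 5, nat_lit 2, nat_lit 0, nat_lit 5]) (.leaf [nat_lit 5, nat_lit 3, nat_lit 2, nat_lit 4, nat_lit 6])))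
 (.node (nat_lit 0x8081207002000b400004284000140c000093) (.node (nat_lit 0x8081104820082610001108040046400000a3) (.leaf [nat_lit 4, nat_lit 1, nat_lit 4, nat_lit 6, nat_lit 4]) (.leaf [nat_lit 4, nat_lit 5, nat_lit 4, nat_lit 2, nat_lit 4])) (.node (nat_lit 0x808140420005210088181002042820004610) (.leaf [nat_lit 4, nat_lit 5, nat_lit 4, nat_lit 2]) (.leaf [nat_lit 6, nat_lit 5, nat_lit 3, nat_lit 4]))))
 (.node (nat_lit 0x8082044140082018401004030c0180022030) (.node (nat_lit 0x808201440810224080100406080068013100) (.leaf [nat_lit 3, nat_lit 0, nat_lit 5, nat_lit 2]) (.node (nat_lit 0x8082024020c0290010100405045020020908) (.leaf [nat_lit 2, nat_lit 6, nat_lit 4, nat_lit 5, nat_lit 2, nat_lit 4]) (.leaf [nat_lit 0, nat_lit 5, nat_lit 1, nat_lit 3, nat_lit 4])))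
 (.node (nat_lit 0x808210440801290002101088022024004540) (.node (nat_lit 0x808208414004242400101090080061020902) (.leaf [nat_lit 5, nat_lit 4, nat_lit 3, nat_lit 5, nat_lit 4]) (.leaf [nat_lit 4, nat_lit 1, nat_lit 5, nat_lit 0, nat_lit 5])) (.node (nat_lit 0x808220700100080049045002022014010c80) (.leaf [nat_lit 4, nat_lit 5, nat_lit 0, nat_lit 5, nat_lit 4, nat_lit 3]) (.leaf [nat_lit 2, nat_lit 1, nat_lit 4, nat_lit 3])))))))
 (.node (nat_lit 0x8090086000031002900d0800026040000524) (.node (nat_lit 0x80880144021028050012102001404200208c) (.node (nat_lit 0x808408500840242200084082030011001124) (.node (nat_lit 0x8084014060202809001002060410c0030018) (.node (nat_lit 0x8082804020422240011010180c0104010c20) (.leaf [nat_lit 1, nat_lit 4, nat_lit 1, nat_lit 4]) (.node (nat_lit 0x8083007000200c008402080a013001004450) (.leaf [nat_lit 2, nat_lit 4, nat_lit 3, nat_lit 5, nat_lit 4]) (.leaf [nat_lit 4, nat_lit 6, nat_lit 0, nat_lit 4, nat_lit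 3]))) (.node (nat_lit 0x808402450100220060100205084088003810) (.leaf [nat_lit 2, nat_lit 4, nat_lit 6, nat_lit 1, nat_lit 4]) (.node (nat_lit 0x808404600090100203092040064800001128) (.leaf [nat_lit 0, nat_lit 5, nat_lit 0, nat_lit 4]) (.leaf [nat_lit 0, nat_lit 5, nat_lit 0, nat_lit 4, nat_lit 2]))))
 (.node (nat_lit 0x808440500808220022092004041081004310) (.node (nat_lit 0x8084106000841c0020030009004340003802) (.leaf [nat_lit 3, nat_lit 0, nat_lit 5, nat_lit 3, nat_lit 5]) (.node (nat_lit 0x8084204060012200421c0010010a8000110c) (.leaf [nat_lit 0, nat_lit 3, nat_lit 4, nat_lit 2, nat_lit 3]) (.leaf [nat_lit 3, nat_lit 1, nat_lit 4, nat_lit 1, nat_lit 6])))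
 (.node (nat_lit 0x80850045000228080112208000425000102c) (.node (nat_lit 0x80848060001412210008400a041041010a20) (.leaf [nat_lit 4, nat_lit 5, nat_lit 1, nat_lit 5, nat_lit 6]) (.leaf [nat_lit 6, nat_lit 1, nat_lit 4, nat_lit 3])) (.node (nat_lit 0x8086004a10002420081000070108a0004150) (.leaf [nat_lit 4, nat_lit 2, nat_lit 0, nat_lit 5, nat_lit 3]) (.leaf [nat_lit 0, nat_lit 5])))))
 (.node (nat_lit 0x8088804051003400020a005001062000200d) (.node (nat_lit 0x8088085004402040300d1000020302002085) (.node (nat_lit 0x808802480024340080020308014041003410) (.leaf [nat_lit 2, nat_lit 3, nat_lit 5, nat_lit 4, nat_lit 5]) (.node (nat_lit 0x808804480022201240110110064400002089) (.leaf [nat_lit 0, nat_lit 5, nat_lit 6, nat_lit 5, nat_lit 4]) (.leaf [nat_lit 0, nat_lit 6, nat_lit 5, nat_lit 4, nat_lit 3])))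
 (.node (nat_lit 0x808820480006204018121001042140010680) (.node (nat_lit 0x8088104402012040281101040a00c0003402) (.leaf [nat_lit 6, nat_lit 4, nat_lit 5]) (.leaf [nat_lit 0, nat_lit 5, nat_lit 4, nat_lit 1, nat_lit 5])) (.node (nat_lit 0x8088405004082012040a0090042120014003) (.leaf [nat_lit 5, nat_lit 4, nat_lit 6, nat_lit 4]) (.leaf [nat_lit 5, nat_lit 0, nat_lit 5, nat_lit 3, nat_lit 4]))))
 (.node (nat_lit 0x808c005000482801010640040102a0003012) (.node (nat_lit 0x80890040508028040111001404206002020a) (.leaf [nat_lit 0, nat_lit 3, nat_lit 2, nat_lit 4]) (.node (nat_lit 0x808a0044001120104418600002010a0104a0) (.leaf [nat_lit 2, nat_lit 4, nat_lit 0, nat_lit 6]) (.leaf [nat_lit 1, nat_lit 5])))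
 (.node (nat_lit 0x809002600009180140044220030084002c10) (.node (nat_lit 0x80900160000a1208200840140404c0012300) (.leaf [nat_lit 5, nat_lit 6, nat_lit 2, nat_lit 3, nat_lit 4]) (.leaf [nat_lit 6, nat_lit 5, nat_lit 6, nat_lit 3])) (.node (nat_lit 0x809004542000200a40084011030082000528) (.leaf [nat_lit 6, nat_lit 5, nat_lit 2, nat_lit 6, nat_lit 3]) (.leaf [nat_lit 5, nat_lit 0, nat_lit 5]))))))
 (.node (nat_lit 0x80a02040440128108011000a040940020214) (.node (nat_lit 0x8094004a02003140000400c100281200012c) (.node (nat_lit 0x809040410030200a04180102040481026008) (.node (nat_lit 0x809010410060260100100288084005002c02) (.leaf [nat_lit 5, nat_lit 6, nat_lit 4, nat_lit 5]) (.node (nat_lit 0x80902041005028208012080104420200050c) (.leaf [nat_lit 4, nat_lit 1, nat_lit 5]) (.leaf [nat_lit 5, nat_lit 6, nat_lit 0, nat_lit 5, nat_lit 4])))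
 (.node (nat_lit 0x80910040488026001018004201220100042c) (.node (nat_lit 0x809080404900282020100218040441030006) (.leaf [nat_lit 4, nat_lit 1, nat_lit 5, nat_lit 6, nat_lit 4]) (.leaf [nat_lit 0, nat_lit 3, nat_lit 4, nat_lit 6, nat_lit 1, nat_lit 4])) (.node (nat_lit 0x8092004a0400200844100098044022012101) (.leaf [nat_lit 6, nat_lit 0, nat_lit 5, nat_lit 2, nat_lit 3]) (.leaf [nat_lit 5, nat_lit 6, nat_lit 2, nat_lit 0, nat_lit 5, nat_lit 4]))))
 (.node (nat_lit 0x80a0024002c02041041100280e0001001c10) (.node (nat_lit 0x8098004041802002441200210d0008002412) (.leaf [nat_lit 6, nat_lit 0, nat_lit 5, nat_lit 3]) (.node (nat_lit 0x80a0014044203000500e000201130000088c) (.leaf [nat_lit 2, nat_lit 6, nat_lit 4, nat_lit 1, nat_lit 3]) (.leaf [nat_lit 4, nat_lit 6, nat_lit 3, nat_lit 5])))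
 (.node (nat_lit 0x80a008480110240600110022025040000885) (.node (nat_lit 0x80a004541000204102090440020230000889) (.leaf [nat_lit 1, nat_lit 5, nat_lit 0, nat_lit 5, nat_lit 4]) (.leaf [nat_lit 0, nat_lit 3, nat_lit 4, nat_lit 3, nat_lit 4])) (.node (nat_lit 0x80a010480108300041054080020224001c02) (.leaf [nat_lit 2, nat_lit 3, nat_lit 2, nat_lit 4, nat_lit 5]) (.leaf [nat_lit 2, nat_lit 1, nat_lit 3, nat_lit 5, nat_lit 4])))))
 (.node (nat_lit 0x80b0005400042800a0024048010301000c12) (.node (nat_lit 0x80a100480018204006120480040860011201) (.node (nat_lit 0x80a040400282300011090404040920025008) (.leaf [nat_lit 2, nat_lit 6, nat_lit 5]) (.node (nat_lit 0x80a08040024228102012050005401000080d) (.leaf [nat_lit 0, nat_lit 5, nat_lit 2, nat_lit 0, nat_lit 3]) (.leaf [nat_lit 2, nat_lit 3, nat_lit 1, nat_lit 4])))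
 (.node (nat_lit 0x80a400404021240208120180090044001812) (.node (nat_lit 0x80a2004000c2240408184800020034011101) (.leaf [nat_lit 6, nat_lit 2, nat_lit 4, nat_lit 2, nat_lit 5, nat_lit 2]) (.leaf [nat_lit 2, nat_lit 5, nat_lit 2, nat_lit 6, nat_lit 5, nat_lit 3])) (.node (nat_lit 0x80a80063000018420004016000141200008d) (.leaf [nat_lit 3, nat_lit 4, nat_lit 6, nat_lit 3, nat_lit 4]) (.leaf [nat_lit 4, nat_lit 2, nat_lit 3, nat_lit 4]))))
 (.node (nat_lit 0x80c0044102082021021000e0081011060c00) (.node (nat_lit 0x80c001402420220280140108081014010842) (.leaf [nat_lit 6, nat_lit 5, nat_lit 1, nat_lit 4]) (.node (nat_lit 0x80c002520010202104080488041220010841) (.leaf [nat_lit 4, nat_lit 1, nat_lit 6, nat_lit 0, nat_lit 4]) (.leaf [nat_lit 2, nat_lit 3, nat_lit 4, nat_lit 6, nat_lit 4])))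
 (.node (nat_lit 0x80c010520002200828081005052080000740) (.node (nat_lit 0x80c008410204200830140101080482023040) (.leaf [nat_lit 1, nat_lit 4, nat_lit 5, nat_lit 0, nat_lit 4]) (.leaf [nat_lit 3, nat_lit 4, nat_lit 1, nat_lit 5, nat_lit 4])) (.node (nat_lit 0x80c0204024012008181000c40b0100041202) (.leaf [nat_lit 4, nat_lit 1, nat_lit 6, nat_lit 4, nat_lit 2]) (.leaf [nat_lit 1, nat_lit 4, nat_lit 5, nat_lit 6, nat_lit 2, nat_lit 3]))))))))
 (.node (nat_lit 0x81040452002020080a08a040041210004181) (.node (nat_lit 0x8100504090202240041004820c0101002a08) (.node (nat_lit 0x81000c40c200200c021010410800b0062100) (.node (nat_lit 0x80d000400980310400080015040222022048) (.node (nat_lit 0x80c20041000c220081182800041022000550) (.node (nat_lit 0x80c08040190022020110006408040a052010) (.leaf [nat_lit 0, nat_lit 5, nat_lit 3, nat_lit 5, nat_lit 4]) (.node (nat_lit 0x80c1004018802020061400090b0020000650) (.leaf [nat_lit 4, nat_lit 2, nat_lit 0,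 nat_lit 6]) (.leaf [nat_lit 6, nat_lit 4, nat_lit 3, nat_lit 0, nat_lit 5, nat_lit 2]))) (.node (nat_lit 0x80c40040202131100008008a060804000350) (.leaf [nat_lit 6, nat_lit 5, nat_lit 2, nat_lit 0, nat_lit 3]) (.node (nat_lit 0x80c800401180200038182200060404010043) (.leaf [nat_lit 4, nat_lit 5, nat_lit 1, nat_lit 6]) (.leaf [nat_lit 0, nat_lit 5, nat_lit 3, nat_lit 4, nat_lit 5]))))
 (.node (nat_lit 0x8100054020122480201010480a0a00004580) (.node (nat_lit 0x80e000400421200106180a00050090021048) (.leaf [nat_lit 3, nat_lit 2, nat_lit 5, nat_lit 2]) (.node (nat_lit 0x81000340201432010008142004028800c840) (.leaf [nat_lit 6, nat_lit 1, nat_lit 4, nat_lit 2, nat_lit 5]) (.leaf [nat_lit 2, nat_lit 6, nat_lit 5, nat_lit 3, nat_lit 1, nat_lit 4])))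
 (.node (nat_lit 0x810009400920286000101044040282028410) (.node (nat_lit 0x810006402011200c081c4000029080000360) (.leaf [nat_lit 4, nat_lit 0, nat_lit 6, nat_lit 4, nat_lit 5]) (.leaf [nat_lit 1, nat_lit 6, nat_lit 2, nat_lit 5, nat_lit 4])) (.node (nat_lit 0x81000a4a0040200c0410a020040281005110) (.leaf [nat_lit 0, nat_lit 3, nat_lit 0, nat_lit 4]) (.leaf [nat_lit 4, nat_lit 5, nat_lit 1, nat_lit 4])))))
 (.node (nat_lit 0x810024520400248001080098007800000342) (.node (nat_lit 0x8100144020032240401089000800a8041600) (.node (nat_lit 0x8100114020062018801042200c0140028408) (.leaf [nat_lit 3, nat_lit 2, nat_lit 1, nat_lit 4, nat_lit 5]) (.node (nat_lit 0x8100124020052882001004c0060820005108) (.leaf [nat_lit 6, nat_lit 5, nat_lit 4, nat_lit 2]) (.leaf [nat_lit 6, nat_lit 5, nat_lit 4])))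
 (.node (nat_lit 0x8100214009082480041042100814020220c0) (.node (nat_lit 0x8100187400000800a4028401005102002a40) (.leaf [nat_lit 5, nat_lit 6, nat_lit 5, nat_lit 4]) (.leaf [nat_lit 4, nat_lit 5, nat_lit 2, nat_lit 6, nat_lit 3])) (.node (nat_lit 0x81002260408010a008081401060810000344) (.leaf [nat_lit 4, nat_lit 5, nat_lit 1, nat_lit 6, nat_lit 4]) (.leaf [nat_lit 4, nat_lit 1, nat_lit 6, nat_lit 4, nat_lit 6, nat_lit 3]))))
 (.node (nat_lit 0x81004160060010100c0c01100220a000c802) (.node (nat_lit 0x81002840090122120010a002080094044440) (.leaf [nat_lit 5, nat_lit 2, nat_lit 0, nat_lit 4, nat_lit 1, nat_lit 3]) (.node (nat_lit 0x81003040904020250010420108008c060802) (.leaf [nat_lit 5, nat_lit 6, nat_lit 5, nat_lit 3]) (.leaf [nat_lit 4, nat_lit 1, nat_lit 6])))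
 (.node (nat_lit 0x81004444088022401010100908a400000322) (.node (nat_lit 0x8100424a000824300010049000c801000324) (.leaf [nat_lit 1, nat_lit 6, nat_lit 5, nat_lit 2, nat_lit 3]) (.leaf [nat_lit 1, nat_lit 4, nat_lit 6, nat_lit 4, nat_lit 2, nat_lit 3])) (.node (nat_lit 0x8100484a0002208180101005044420002a10) (.leaf [nat_lit 4, nat_lit 2, nat_lit 1, nat_lit 3, nat_lit 4]) (.leaf [nat_lit 0, nat_lit 5, nat_lit 4, nat_lit 3, nat_lit 4]))))))
 (.node (nat_lit 0x8101204008092024101410800ac000000246) (.node (nat_lit 0x8100a060400214110008001c022041008e00) (.node (nat_lit 0x810082604020100450082900040209029004) (.node (nat_lit 0x810060409010380800044408022081000306) (.leaf [nat_lit 4, nat_lit 1, nat_lit 4, nat_lit 5, nat_lit 4]) (.node (nat_lit 0x81008158800020181004020a022060004504) (.leaf [nat_lit 1, nat_lit 4, nat_lit 6, nat_lit 4]) (.leaf [nat_lit 1, nat_lit 4, nat_lit 2, nat_lit 6, nat_lit 3])))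
 (.node (nat_lit 0x810088403400208140124800080034040203) (.node (nat_lit 0x810084440840302200080038029002004501) (.leaf [nat_lit 1, nat_lit 4]) (.leaf [nat_lit 5, nat_lit 3, nat_lit 5, nat_lit 1, nat_lit 5, nat_lit 4])) (.node (nat_lit 0x81009042030020180110044208002c04e000) (.leaf [nat_lit 5, nat_lit 6, nat_lit 0, nat_lit 5, nat_lit 4]) (.leaf [nat_lit 4, nat_lit 6, nat_lit 2, nat_lit 3]))))
 (.node (nat_lit 0x810102448400320001082880005018000264) (.node (nat_lit 0x8100c0440804208108100412085200022021) (.leaf [nat_lit 0, nat_lit 6, nat_lit 2, nat_lit 3]) (.node (nat_lit 0x8101014008283200020c005000b200004484) (.leaf [nat_lit 5, nat_lit 6, nat_lit 3, nat_lit 0, nat_lit 4]) (.leaf [nat_lit 6, nat_lit 4, nat_lit 5, nat_lit 0, nat_lit 3, nat_lit 4])))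
 (.node (nat_lit 0x8101084008212080c0180600062004005012) (.node (nat_lit 0x810104681000108810062008004481000262) (.leaf [nat_lit 2, nat_lit 5, nat_lit 4, nat_lit 6, nat_lit 3]) (.leaf [nat_lit 4, nat_lit 5, nat_lit 0, nat_lit 3, nat_lit 4])) (.node (nat_lit 0x8101104202802024201088040c004100500a) (.leaf [nat_lit 6, nat_lit 0, nat_lit 5, nat_lit 4, nat_lit 5]) (.leaf [nat_lit 0, nat_lit 5, nat_lit 4, nat_lit 5])))))
 (.node (nat_lit 0x810210420180288002104021041404002848) (.node (nat_lit 0x8102016004401040300a080404008a00b100) (.node (nat_lit 0x8101405060002080880c0011021c00000226) (.leaf [nat_lit 2, nat_lit 5, nat_lit 4, nat_lit 6]) (.node (nat_lit 0x810180420210208048141020082802004405) (.leaf [nat_lit 0, nat_lit 6, nat_lit 0, nat_lit 5, nat_lit 4, nat_lit 2]) (.leaf [nat_lit 3, nat_lit 0, nat_lit 4, nat_lit 5])))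
 (.node (nat_lit 0x81020440c0083020800a0801041410000162) (.node (nat_lit 0x810202501800288010040089026400000164) (.leaf [nat_lit 6, nat_lit 5, nat_lit 6, nat_lit 1, nat_lit 4]) (.leaf [nat_lit 2, nat_lit 0, nat_lit 4, nat_lit 1, nat_lit 3])) (.node (nat_lit 0x81020840c004221020180500040083002850) (.leaf [nat_lit 4, nat_lit 2, nat_lit 5, nat_lit 3, nat_lit 2, nat_lit 3]) (.leaf [nat_lit 2, nat_lit 0, nat_lit 4, nat_lit 5]))))
 (.node (nat_lit 0x81028042011030200408504004000b008c20) (.node (nat_lit 0x8102204c2000221008104011008c80000146) (.leaf [nat_lit 3, nat_lit 0, nat_lit 5, nat_lit 4]) (.node (nat_lit 0x810240600401168000085080002818000126) (.leaf [nat_lit 2, nat_lit 0, nat_lit 6, nat_lit 5, nat_lit 4, nat_lit 2]) (.leaf [nat_lit 5, nat_lit 1, nat_lit 4, nat_lit 6, nat_lit 4])))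
 (.node (nat_lit 0x810401600240142800081022028018004184) (.node (nat_lit 0x81030042009024480018040800b001000066) (.leaf [nat_lit 0, nat_lit 4]) (.leaf [nat_lit 2, nat_lit 5, nat_lit 1, nat_lit 4, nat_lit 6])) (.node (nat_lit 0x81040244810020080c1000d0081021026200) (.leaf [nat_lit 4, nat_lit 5, nat_lit 1, nat_lit 6, nat_lit 4, nat_lit 3]) (.leaf [nat_lit 2, nat_lit 1, nat_lit 4, nat_lit 5])))))))
 (.node (nat_lit 0x8112005008022200280840c004041400a101) (.node (nat_lit 0x81084044008438002002150000c003002218) (.node (nat_lit 0x8106006000411801080410140260020088a0) (.node (nat_lit 0x810420520004202110081003044048008a80) (.node (nat_lit 0x810408403080200806180300044060028011) (.leaf [nat_lit 3, nat_lit 4, nat_lit 5, nat_lit 1, nat_lit 4]) (.node (nat_lit 0x8104104848002021201000c2041204028009) (.leaf [nat_lit 2, nat_lit 1, nat_lit 6, nat_lit 5, nat_lit 4, nat_lit 2]) (.leaf [nat_lit 2, nat_lit 3, nat_lit 0, nat_lit 4])))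
 (.node (nat_lit 0x8104804030082e0000100052008a20004105) (.node (nat_lit 0x81044060020110009208a004044028021900) (.leaf [nat_lit 2, nat_lit 1, nat_lit 4, nat_lit 5]) (.leaf [nat_lit 4, nat_lit 6, nat_lit 4, nat_lit 1, nat_lit 3])) (.node (nat_lit 0x810500448002202030180208021840004085) (.leaf [nat_lit 4, nat_lit 1, nat_lit 5, nat_lit 1, nat_lit 3, nat_lit 4]) (.leaf [nat_lit 3, nat_lit 4, nat_lit 5, nat_lit 0, nat_lit 4]))))
 (.node (nat_lit 0x8108044400c020040a1081100a0201007020) (.node (nat_lit 0x8108014001282010901424000a020400c042) (.leaf [nat_lit 6, nat_lit 4, nat_lit 1, nat_lit 5, nat_lit 6]) (.node (nat_lit 0x81080250120020040c08218006003000c041) (.leaf [nat_lit 0, nat_lit 5, nat_lit 3, nat_lit 5, nat_lit 4]) (.leaf [nat_lit 6, nat_lit 0, nat_lit 4, nat_lit 5, nat_lit 0, nat_lit 4])))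
 (.node (nat_lit 0x810810484400201081108104060022002248) (.node (nat_lit 0x8108084001212004061240800c9000002250) (.leaf [nat_lit 4, nat_lit 3, nat_lit 0, nat_lit 5]) (.leaf [nat_lit 6, nat_lit 2, nat_lit 4, nat_lit 5])) (.node (nat_lit 0x810820400109380040060012008680007004) (.leaf [nat_lit 1, nat_lit 6, nat_lit 5, nat_lit 4]) (.leaf [nat_lit 3, nat_lit 1, nat_lit 4, nat_lit 3])))))
 (.node (nat_lit 0x811004680100100049040610028082006820) (.node (nat_lit 0x810a005010022441000a00050084a0002058) (.node (nat_lit 0x810880440044201011124008082102008620) (.leaf [nat_lit 5, nat_lit 1, nat_lit 6, nat_lit 5]) (.node (nat_lit 0x810900400029244200108014082082021440) (.leaf [nat_lit 6, nat_lit 1, nat_lit 4, nat_lit 1, nat_lit 6]) (.leaf [nat_lit 4, nat_lit 5, nat_lit 0, nat_lit 6])))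
 (.node (nat_lit 0x81100146400020089010004c08042200a300) (.node (nat_lit 0x810c0048401020000e1420010211400082a0) (.leaf [nat_lit 4, nat_lit 2, nat_lit 5, nat_lit 2]) (.leaf [nat_lit 1, nat_lit 3, nat_lit 4, nat_lit 6])) (.node (nat_lit 0x811002500a00242040080421028084004118) (.leaf [nat_lit 3, nat_lit 4, nat_lit 6, nat_lit 2, nat_lit 3]) (.leaf [nat_lit 5, nat_lit 4, nat_lit 3, nat_lit 0, nat_lit 5]))))
 (.node (nat_lit 0x811020408050220208140180080403006804) (.node (nat_lit 0x8110084024802202201000450c8800004112) (.leaf [nat_lit 3, nat_lit 1, nat_lit 4, nat_lit 1, nat_lit 4]) (.node (nat_lit 0x8110104080602008811a200004060400410a) (.leaf [nat_lit 0, nat_lit 6, nat_lit 1, nat_lit 5, nat_lit 4]) (.leaf [nat_lit 6, nat_lit 2, nat_lit 6, nat_lit 3, nat_lit 4])))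
 (.node (nat_lit 0x811080402408200811140120084240028006) (.node (nat_lit 0x81104040803024200210000d084280020d00) (.leaf [nat_lit 4, nat_lit 2, nat_lit 1, nat_lit 5]) (.leaf [nat_lit 1, nat_lit 6, nat_lit 5])) (.node (nat_lit 0x8111006800041400a0020c4000a20100401a) (.leaf [nat_lit 6, nat_lit 3, nat_lit 5, nat_lit 4, nat_lit 2]) (.leaf [nat_lit 1, nat_lit 3, nat_lit 2, nat_lit 6]))))))
 (.node (nat_lit 0x812800628000140401080182005024000258) (.node (nat_lit 0x8120104000072005201a100004c080000a48) (.node (nat_lit 0x812001400016284008140c000200e0009300) (.node (nat_lit 0x81140040208830c000080023040214020940) (.leaf [nat_lit 6, nat_lit 0, nat_lit 4, nat_lit 1, nat_lit 3]) (.node (nat_lit 0x8118005002022000910c8008020540006024) (.leaf [nat_lit 5, nat_lit 4, nat_lit 3, nat_lit 0, nat_lit 5]) (.leaf [nat_lit 4, nat_lit 5, nat_lit 4, nat_lit 1, nat_lit 3])))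
 (.node (nat_lit 0x812004400013300280088440060108005820) (.node (nat_lit 0x812002400015241040108028080980024600) (.leaf [nat_lit 5, nat_lit 6, nat_lit 4]) (.leaf [nat_lit 1, nat_lit 5])) (.node (nat_lit 0x812008401480284001108022060104000a50) (.leaf [nat_lit 1, nat_lit 5, nat_lit 2]) (.leaf [nat_lit 4, nat_lit 6, nat_lit 1, nat_lit 4, nat_lit 6]))))
 (.node (nat_lit 0x81208040140830020408090204c010020061) (.node (nat_lit 0x8120204c020020051010800a0200c1005804) (.leaf [nat_lit 1, nat_lit 5]) (.node (nat_lit 0x8120405041002410020884040200a1000a18) (.leaf [nat_lit 3, nat_lit 4, nat_lit 5, nat_lit 0, nat_lit 3]) (.leaf [nat_lit 4, nat_lit 5, nat_lit 3, nat_lit 4, nat_lit 3])))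
 (.node (nat_lit 0x8122004c0020300084024402009101000858) (.node (nat_lit 0x81210050404020043008088206000c009201) (.leaf [nat_lit 4, nat_lit 2, nat_lit 5, nat_lit 4, nat_lit 3]) (.leaf [nat_lit 6, nat_lit 3, nat_lit 5, nat_lit 0, nat_lit 5])) (.node (nat_lit 0x812400401088200130140801088044024202) (.leaf [nat_lit 4, nat_lit 6, nat_lit 1, nat_lit 5, nat_lit 4]) (.leaf [nat_lit 4, nat_lit 0, nat_lit 5, nat_lit 4, nat_lit 3])))))
 (.node (nat_lit 0x8140206000821002110a8100040448003804) (.node (nat_lit 0x8140026000a01c0004022600008841001118) (.node (nat_lit 0x8130004004882400421a0010008301004824) (.leaf [nat_lit 0, nat_lit 5, nat_lit 4, nat_lit 2, nat_lit 3]) (.node (nat_lit 0x814001461000282008100230008842000584) (.leaf [nat_lit 5, nat_lit 1, nat_lit 4, nat_lit 5, nat_lit 6]) (.leaf [nat_lit 3, nat_lit 1, nat_lit 4, nat_lit 1, nat_lit 6, nat_lit 4])))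
 (.node (nat_lit 0x814008408204282001120880040460001112) (.node (nat_lit 0x8140044082082200501c0002003820000581) (.leaf [nat_lit 2, nat_lit 5, nat_lit 3, nat_lit 4]) (.leaf [nat_lit 4, nat_lit 2, nat_lit 6, nat_lit 1, nat_lit 4])) (.node (nat_lit 0x814010480c0022004410022104a08000110a) (.leaf [nat_lit 5, nat_lit 4, nat_lit 5, nat_lit 3]) (.leaf [nat_lit 0, nat_lit 5, nat_lit 1, nat_lit 4]))))
 (.node (nat_lit 0x814100502040240a000a802000101a000485) (.node (nat_lit 0x814040502100220014081280040428008803) (.leaf [nat_lit 0, nat_lit 5, nat_lit 4, nat_lit 0, nat_lit 4]) (.node (nat_lit 0x81408060002212080808124004a010000505) (.leaf [nat_lit 5, nat_lit 4, nat_lit 3, nat_lit 2, nat_lit 4]) (.leaf [nat_lit 3, nat_lit 2, nat_lit 4, nat_lit 5, nat_lit 2])))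
 (.node (nat_lit 0x814400480810309000040068022202000185) (.node (nat_lit 0x81420040800c2409001000310810c0022402) (.leaf [nat_lit 4, nat_lit 5, nat_lit 0, nat_lit 3, nat_lit 4]) (.leaf [nat_lit 2, nat_lit 3, nat_lit 0, nat_lit 5, nat_lit 3])) (.node (nat_lit 0x814800480410240300120088008043003024) (.leaf [nat_lit 3, nat_lit 4, nat_lit 5, nat_lit 1, nat_lit 4]) (.leaf [nat_lit 5, nat_lit 3, nat_lit 4, nat_lit 2])))))))))
 (.node (nat_lit 0x8240086005001108800c021000b040000027) (.node (nat_lit 0x82020464000210510009080100a0300004c8) (.node (nat_lit 0x8200216800101098000407000120c000400e) (.node (nat_lit 0x8188006220001001140c10080040430006a0) (.node (nat_lit 0x818010401060280202100904046080020409) (.node (nat_lit 0x818002440500280210102028021084004841) (.node (nat_lit 0x816000500140280009048090020602001824) (.leaf [nat_lit 6, nat_lit 3, nat_lit 2, nat_lit 6]) (.node (nat_lit 0x818001580080240024020418004842003300) (.leaf [nat_lit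 4, nat_lit 2, nat_lit 3]) (.leaf [nat_lit 5, nat_lit 0, nat_lit 3, nat_lit 0, nat_lit 4]))) (.node (nat_lit 0x818004404208240021100910082440021082) (.leaf [nat_lit 5, nat_lit 3, nat_lit 2, nat_lit 1, nat_lit 4, nat_lit 5]) (.node (nat_lit 0x8180084042042001c01020220c1800020411) (.leaf [nat_lit 2, nat_lit 0, nat_lit 5, nat_lit 4]) (.leaf [nat_lit 3, nat_lit 5, nat_lit 1, nat_lit 5, nat_lit 3]))))
 (.node (nat_lit 0x818080580001200148046010021006000e20) (.node (nat_lit 0x81802040105024000510200a0a4100000e80) (.leaf [nat_lit 3, nat_lit 4, nat_lit 0, nat_lit 3, nat_lit 4]) (.node (nat_lit 0x818040401030200188160200082404004803) (.leaf [nat_lit 2, nat_lit 0, nat_lit 5, nat_lit 4, nat_lit 2]) (.leaf [nat_lit 3, nat_lit 4, nat_lit 0, nat_lit 4, nat_lit 5, nat_lit 2])))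
 (.node (nat_lit 0x81820040400c280012160040003101000ca0) (.node (nat_lit 0x8181004404022000c81008140a4020003201) (.leaf [nat_lit 5, nat_lit 0, nat_lit 6, nat_lit 4, nat_lit 5, nat_lit 2]) (.leaf [nat_lit 2, nat_lit 4, nat_lit 5, nat_lit 3, nat_lit 5])) (.node (nat_lit 0x818400440102305000082044020019000aa0) (.leaf [nat_lit 6, nat_lit 5, nat_lit 3]) (.leaf [nat_lit 0, nat_lit 3, nat_lit 2, nat_lit 3])))))
 (.node (nat_lit 0x820009502200240840081180018410004026) (.node (nat_lit 0x81c00040020c3014000a0120042090000843) (.node (nat_lit 0x8190004000703044000c0808020086002301) (.leaf [nat_lit 2, nat_lit 6, nat_lit 3, nat_lit 5, nat_lit 4]) (.node (nat_lit 0x81a00062080010002a080444044090001301) (.leaf [nat_lit 6, nat_lit 3, nat_lit 4, nat_lit 5, nat_lit 2]) (.leaf [nat_lit 1, nat_lit 4, nat_lit 5, nat_lit 0, nat_lit 3])))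
 (.node (nat_lit 0x820005408140203400140090090a0000402a) (.node (nat_lit 0x820003400c803101000ca00000402c001250) (.leaf [nat_lit 2, nat_lit 5, nat_lit 3, nat_lit 1, nat_lit 4]) (.leaf [nat_lit 1, nat_lit 4, nat_lit 3, nat_lit 5, nat_lit 4, nat_lit 2])) (.node (nat_lit 0x820006640200102840080510019080004029) (.leaf [nat_lit 1, nat_lit 4, nat_lit 3, nat_lit 5, nat_lit 4]) (.leaf [nat_lit 6, nat_lit 2, nat_lit 0, nat_lit 6, nat_lit 5, nat_lit 4]))))
 (.node (nat_lit 0x820011680020140084018408006900001242) (.node (nat_lit 0x82000a490040202090141400008b00004025) (.leaf [nat_lit 3, nat_lit 0, nat_lit 5, nat_lit 4, nat_lit 6]) (.node (nat_lit 0x82000c4018103880000521000040230006c0) (.leaf [nat_lit 3, nat_lit 0, nat_lit 5, nat_lit 4]) (.leaf [nat_lit 3, nat_lit 0, nat_lit 5, nat_lit 4, nat_lit 2])))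
 (.node (nat_lit 0x82001440180821404014008108050200a220) (.node (nat_lit 0x82001250c000202088080504050820001241) (.leaf [nat_lit 0, nat_lit 5, nat_lit 0, nat_lit 5, nat_lit 3]) (.leaf [nat_lit 2, nat_lit 6, nat_lit 3, nat_lit 1, nat_lit 4])) (.node (nat_lit 0x8200184018042020821001600c4200018401) (.leaf [nat_lit 6, nat_lit 3, nat_lit 4]) (.leaf [nat_lit 5, nat_lit 0, nat_lit 3, nat_lit 4, nat_lit 2, nat_lit 3]))))))
 (.node (nat_lit 0x820088448020202012114800081101000644) (.node (nat_lit 0x8200444081012140101028020c1020000688) (.node (nat_lit 0x820028448080211200100150082c00004007) (.node (nat_lit 0x82002240310020844018028005081000400d) (.leaf [nat_lit 4, nat_lit 6, nat_lit 5, nat_lit 2]) (.node (nat_lit 0x8200245104002009800c104000a21000400b) (.leaf [nat_lit 4, nat_lit 6, nat_lit 5]) (.leaf [nat_lit 3, nat_lit 0, nat_lit 4])))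
 (.node (nat_lit 0x8200414081042408081844000120a0001212) (.node (nat_lit 0x82003068000110014805080200a204005480) (.leaf [nat_lit 5, nat_lit 0, nat_lit 5]) (.leaf [nat_lit 5, nat_lit 4, nat_lit 5, nat_lit 0, nat_lit 3])) (.node (nat_lit 0x820042490008208420102804044180001211) (.leaf [nat_lit 5, nat_lit 0, nat_lit 6, nat_lit 4, nat_lit 3]) (.leaf [nat_lit 5, nat_lit 0, nat_lit 6, nat_lit 4, nat_lit 6]))))
 (.node (nat_lit 0x820060404a002084021001180c1004012081) (.node (nat_lit 0x82004849000224080110013000f000000684) (.leaf [nat_lit 3, nat_lit 4, nat_lit 6, nat_lit 4]) (.node (nat_lit 0x820050442400214004100128088880001203) (.leaf [nat_lit 1, nat_lit 4, nat_lit 1, nat_lit 6, nat_lit 4]) (.leaf [nat_lit 1, nat_lit 4, nat_lit 5, nat_lit 2])))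
 (.node (nat_lit 0x820082400c01202018180220044140019004) (.node (nat_lit 0x820081400c0220c200140014081108012060) (.leaf [nat_lit 5, nat_lit 4, nat_lit 0, nat_lit 6, nat_lit 5]) (.leaf [nat_lit 6, nat_lit 4, nat_lit 1, nat_lit 4])) (.node (nat_lit 0x820084486000200920140011019002000648) (.leaf [nat_lit 1, nat_lit 4, nat_lit 6, nat_lit 1, nat_lit 5, nat_lit 4]) (.leaf [nat_lit 4, nat_lit 5, nat_lit 4, nat_lit 1, nat_lit 5])))))
 (.node (nat_lit 0x820108604400100070081081052004008a02) (.node (nat_lit 0x8200c070100008881004410201202100060c) (.node (nat_lit 0x82009041030020200a140005088840005420) (.leaf [nat_lit 6, nat_lit 4, nat_lit 2, nat_lit 6, nat_lit 3]) (.node (nat_lit 0x8200a0448008200904180202012041005410) (.leaf [nat_lit 0, nat_lit 5, nat_lit 4]) (.leaf [nat_lit 4, nat_lit 0, nat_lit 5, nat_lit 6, nat_lit 2, nat_lit 3])))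
 (.node (nat_lit 0x8201024030203100010804140440c0008a08) (.node (nat_lit 0x820101408044310002081088040620006810) (.leaf [nat_lit 0, nat_lit 4, nat_lit 6, nat_lit 1, nat_lit 5]) (.leaf [nat_lit 6, nat_lit 5, nat_lit 4, nat_lit 0, nat_lit 3, nat_lit 4])) (.node (nat_lit 0x8201044080412008a0105200080412052008) (.leaf [nat_lit 4, nat_lit 1, nat_lit 6, nat_lit 1, nat_lit 4]) (.leaf [nat_lit 6, nat_lit 3, nat_lit 5, nat_lit 4, nat_lit 5]))))
 (.node (nat_lit 0x820140408005282200100038044082011c00) (.node (nat_lit 0x820110410280249000100068080406006801) (.leaf [nat_lit 5, nat_lit 4, nat_lit 2, nat_lit 0, nat_lit 5, nat_lit 3]) (.node (nat_lit 0x82012040300220088410005809c000040601) (.leaf [nat_lit 4, nat_lit 1, nat_lit 6, nat_lit 1, nat_lit 4]) (.leaf [nat_lit 0, nat_lit 4, nat_lit 5, nat_lit 4, nat_lit 0, nat_lit 4])))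
 (.node (nat_lit 0x82020150200820c080090804040520001052) (.node (nat_lit 0x82018041021020082410a400081009044042) (.leaf [nat_lit 1, nat_lit 5, nat_lit 3, nat_lit 0, nat_lit 4]) (.leaf [nat_lit 2, nat_lit 1, nat_lit 4, nat_lit 1, nat_lit 3])) (.node (nat_lit 0x8202026400041800a0016400008908001051) (.leaf [nat_lit 5, nat_lit 0, nat_lit 6, nat_lit 4]) (.leaf [nat_lit 6, nat_lit 5, nat_lit 4, nat_lit 1, nat_lit 4])))))))
 (.node (nat_lit 0x821001454000202404108820080188000252) (.node (nat_lit 0x8204804008032d000010a10000503000024c) (.node (nat_lit 0x820401400882203004184040040320018018) (.node (nat_lit 0x82022040484021100818008204050100a014) (.node (nat_lit 0x8202085020012110200c40100089020004c4) (.leaf [nat_lit 1, nat_lit 5, nat_lit 3, nat_lit 4, nat_lit 6]) (.node (nat_lit 0x820210410180300c000c400800a024001043) (.leaf [nat_lit 0, nat_lit 5, nat_lit 3, nat_lit 1, nat_lit 4]) (.leaf [nat_lit 3, nat_lit 2, nat_lit 1, nat_lit 4, nat_lit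 5])))
 (.node (nat_lit 0x82028041011020c00118002204380000044c) (.node (nat_lit 0x82024040482028210015800000101300048c) (.leaf [nat_lit 5, nat_lit 1, nat_lit 5, nat_lit 1, nat_lit 6]) (.leaf [nat_lit 1, nat_lit 4, nat_lit 5, nat_lit 4, nat_lit 2])) (.node (nat_lit 0x82030041009028204010500404042100880a) (.leaf [nat_lit 0, nat_lit 6, nat_lit 4, nat_lit 5, nat_lit 4]) (.leaf [nat_lit 0, nat_lit 4, nat_lit 5]))))
 (.node (nat_lit 0x8204086041001410020828200180110002c4) (.node (nat_lit 0x820402400881208060141008080114016200) (.leaf [nat_lit 4, nat_lit 2, nat_lit 3, nat_lit 4, nat_lit 6, nat_lit 4]) (.node (nat_lit 0x82040451002020300108011204c8000002c8) (.leaf [nat_lit 1, nat_lit 6, nat_lit 0, nat_lit 4]) (.leaf [nat_lit 2, nat_lit 0, nat_lit 6, nat_lit 0, nat_lit 4])))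
 (.node (nat_lit 0x820420510004208042082808040301005090) (.node (nat_lit 0x820410442040300a000801060180090050a0) (.leaf [nat_lit 5, nat_lit 2, nat_lit 0, nat_lit 3]) (.leaf [nat_lit 4, nat_lit 5, nat_lit 0, nat_lit 6, nat_lit 4])) (.node (nat_lit 0x82044044201020802218400101190000028c) (.leaf [nat_lit 1, nat_lit 6, nat_lit 4, nat_lit 6, nat_lit 4]) (.leaf [nat_lit 3, nat_lit 2, nat_lit 5, nat_lit 1, nat_lit 4])))))
 (.node (nat_lit 0x82081040100c3006000880c0050022006101) (.node (nat_lit 0x820801400482240048109020090204006110) (.node (nat_lit 0x82050060400810a080080016040221011840) (.leaf [nat_lit 1, nat_lit 5, nat_lit 3, nat_lit 2, nat_lit 4]) (.node (nat_lit 0x8206004890003008100401210160020000cc) (.leaf [nat_lit 1, nat_lit 6, nat_lit 0, nat_lit 4]) (.leaf [nat_lit 3, nat_lit 4, nat_lit 1, nat_lit 6])))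
 (.node (nat_lit 0x8208044010182001a010204209020104c400) (.node (nat_lit 0x820802400481285000102044050030008308) (.leaf [nat_lit 1, nat_lit 4, nat_lit 6, nat_lit 1, nat_lit 4]) (.leaf [nat_lit 3, nat_lit 2, nat_lit 6, nat_lit 5, nat_lit 4])) (.node (nat_lit 0x820808401014240041114080082420008302) (.leaf [nat_lit 2, nat_lit 1, nat_lit 5, nat_lit 0, nat_lit 4]) (.leaf [nat_lit 1, nat_lit 5, nat_lit 2, nat_lit 6]))))
 (.node (nat_lit 0x820880400403200124114008088050043200) (.node (nat_lit 0x820820404240200184109001082408050012) (.leaf [nat_lit 3, nat_lit 2, nat_lit 4, nat_lit 1, nat_lit 5]) (.node (nat_lit 0x820840404220240009102006088090011500) (.leaf [nat_lit 2, nat_lit 0, nat_lit 5, nat_lit 6, nat_lit 5]) (.leaf [nat_lit 6, nat_lit 5, nat_lit 4, nat_lit 3, nat_lit 0, nat_lit 5])))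
 (.node (nat_lit 0x820a0040406030041009000504308000810a) (.node (nat_lit 0x8209005c00002000a401144000820a006011) (.leaf [nat_lit 6, nat_lit 5, nat_lit 6, nat_lit 2, nat_lit 5]) (.leaf [nat_lit 6, nat_lit 4, nat_lit 0, nat_lit 6])) (.node (nat_lit 0x820c0040008330021008202804c004011140) (.leaf [nat_lit 2, nat_lit 1, nat_lit 5, nat_lit 4, nat_lit 2]) (.leaf [nat_lit 2, nat_lit 0, nat_lit 3, nat_lit 4, nat_lit 5]))))))
 (.node (nat_lit 0x822004484080201401100842050108008230) (.node (nat_lit 0x821080700040080109042a00018006004430) (.node (nat_lit 0x82100840081421022014040208018100e040) (.node (nat_lit 0x821002402120284800140408018084000251) (.leaf [nat_lit 5, nat_lit 3, nat_lit 5, nat_lit 6, nat_lit 5]) (.node (nat_lit 0x8210044008182024011043000c0060018082) (.leaf [nat_lit 5, nat_lit 3, nat_lit 0, nat_lit 5]) (.leaf [nat_lit 6, nat_lit 2, nat_lit 4, nat_lit 5, nat_lit 6, nat_lit 2, nat_lit 3])))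
 (.node (nat_lit 0x8210204021022102081088010c0044004490) (.node (nat_lit 0x82101040080c2481001920000044a0000243) (.leaf [nat_lit 6, nat_lit 2, nat_lit 3, nat_lit 4]) (.leaf [nat_lit 2, nat_lit 5, nat_lit 4])) (.node (nat_lit 0x8210407000800c0024010d0000e008000213) (.leaf [nat_lit 5, nat_lit 2, nat_lit 4, nat_lit 3, nat_lit 4]) (.leaf [nat_lit 5, nat_lit 3, nat_lit 0, nat_lit 5]))))
 (.node (nat_lit 0x82140048820020200514000a0109400040b0) (.node (nat_lit 0x821100402022248010104204080089010c40) (.leaf [nat_lit 5, nat_lit 2, nat_lit 6, nat_lit 5, nat_lit 2]) (.node (nat_lit 0x821200488400210028104104042880000053) (.leaf [nat_lit 4, nat_lit 1, nat_lit 3]) (.leaf [nat_lit 2, nat_lit 5])))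
 (.node (nat_lit 0x8220015002082014040c80020100e0004910) (.node (nat_lit 0x82180040001c284002108021042280010540) (.leaf [nat_lit 6, nat_lit 4, nat_lit 3, nat_lit 0, nat_lit 5]) (.leaf [nat_lit 0, nat_lit 6])) (.node (nat_lit 0x8220024011202000981008440c8001014600) (.leaf [nat_lit 5, nat_lit 0, nat_lit 4, nat_lit 6, nat_lit 3]) (.leaf [nat_lit 5, nat_lit 0, nat_lit 4])))))
 (.node (nat_lit 0x822200500009280140041880014402008034) (.node (nat_lit 0x822020401102344000080c080100c1008214) (.node (nat_lit 0x822008500201200092080c2005010400d040) (.leaf [nat_lit 0, nat_lit 5, nat_lit 6, nat_lit 5, nat_lit 2, nat_lit 3]) (.node (nat_lit 0x82201044044020008a191000008224004901) (.leaf [nat_lit 0, nat_lit 4, nat_lit 6, nat_lit 3, nat_lit 4]) (.leaf [nat_lit 3, nat_lit 4, nat_lit 0, nat_lit 4, nat_lit 5])))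
 (.node (nat_lit 0x82208048400420001a108500041a00010061) (.node (nat_lit 0x8220404404102803001008060100a100d008) (.leaf [nat_lit 5, nat_lit 2, nat_lit 6, nat_lit 3]) (.leaf [nat_lit 0, nat_lit 5, nat_lit 6, nat_lit 5, nat_lit 2])) (.node (nat_lit 0x82210040102228024010848005000c004811) (.leaf [nat_lit 2, nat_lit 6]) (.leaf [nat_lit 3, nat_lit 2, nat_lit 1, nat_lit 5]))))
 (.node (nat_lit 0x823000400122200405190010040a8000c048) (.node (nat_lit 0x822400440050201005108180080828014202) (.leaf [nat_lit 5, nat_lit 6, nat_lit 2, nat_lit 6]) (.node (nat_lit 0x822800618000100046080428041280004111) (.leaf [nat_lit 6, nat_lit 1, nat_lit 4, nat_lit 5]) (.leaf [nat_lit 6, nat_lit 4, nat_lit 2, nat_lit 5, nat_lit 4])))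
 (.node (nat_lit 0x8240025080102818000401c001260000002d) (.node (nat_lit 0x82400145100020828018044000291000002e) (.leaf [nat_lit 6, nat_lit 2, nat_lit 4, nat_lit 5, nat_lit 2]) (.leaf [nat_lit 6, nat_lit 0, nat_lit 5, nat_lit 2])) (.node (nat_lit 0x824004482080210050101300048c0000002b) (.leaf [nat_lit 4, nat_lit 2, nat_lit 4]) (.leaf [nat_lit 4, nat_lit 1, nat_lit 4]))))))))
 (.node (nat_lit 0x840028428080280102100a04014440003011) (.node (nat_lit 0x830002480048300101040830009084006600) (.node (nat_lit 0x828004400141380008044c00011082002230) (.node (nat_lit 0x8242004008602080811011040c0018012402) (.node (nat_lit 0x824040400a2021001418040104018200b008) (.node (nat_lit 0x8240105080022100440c02080029010014a0) (.leaf [nat_lit 3, nat_lit 0, nat_lit 5]) (.node (nat_lit 0x824020400a4034200009810000149000000f) (.leaf [nat_lit 5, nat_lit 6, nat_lit 5, nat_lit 0, nat_lit 5]) (.leaf []))) (.node (nat_lit 0x824080482004208201110808040142001430)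 (.leaf [nat_lit 6, nat_lit 1, nat_lit 4, nat_lit 2, nat_lit 3]) (.node (nat_lit 0x8241006004081012040980200400c2002811) (.leaf [nat_lit 4, nat_lit 6, nat_lit 4, nat_lit 0, nat_lit 3]) (.leaf [nat_lit 0, nat_lit 5, nat_lit 3, nat_lit 5]))))
 (.node (nat_lit 0x82500045000128080210030400a0480004b0) (.node (nat_lit 0x8244006001081800410488040122020010b0) (.leaf [nat_lit 1, nat_lit 6, nat_lit 5, nat_lit 4, nat_lit 2, nat_lit 3]) (.node (nat_lit 0x824800400260281002110088048404002111) (.leaf [nat_lit 5, nat_lit 4, nat_lit 1, nat_lit 5, nat_lit 3]) (.leaf [nat_lit 5, nat_lit 3, nat_lit 5])))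
 (.node (nat_lit 0x8280014001442042801018200c2002010418) (.node (nat_lit 0x826000480084340020010602009048000911) (.leaf [nat_lit 1, nat_lit 4, nat_lit 6, nat_lit 4, nat_lit 0, nat_lit 3]) (.leaf [nat_lit 1, nat_lit 5, nat_lit 3, nat_lit 5])) (.node (nat_lit 0x8280025040102004600c2001011084000b08) (.leaf [nat_lit 4, nat_lit 2, nat_lit 6, nat_lit 0, nat_lit 4]) (.leaf [nat_lit 4, nat_lit 5, nat_lit 1, nat_lit 5])))))
 (.node (nat_lit 0x82820048140020408115004000203400090a) (.node (nat_lit 0x828020440088200442101801094100002214) (.node (nat_lit 0x8280084400a0380004010411007040000b02) (.leaf [nat_lit 3, nat_lit 5, nat_lit 1, nat_lit 4, nat_lit 1, nat_lit 4]) (.node (nat_lit 0x8280105040022411000808c0010409002224) (.leaf [nat_lit 2, nat_lit 3, nat_lit 5, nat_lit 2, nat_lit 3]) (.leaf [nat_lit 0, nat_lit 3, nat_lit 4, nat_lit 1, nat_lit 3])))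
 (.node (nat_lit 0x828080440028204201102500080850011006) (.node (nat_lit 0x828040400105200422150200080890007008) (.leaf [nat_lit 6, nat_lit 4, nat_lit 2, nat_lit 3]) (.leaf [nat_lit 3, nat_lit 5, nat_lit 4, nat_lit 1, nat_lit 4])) (.node (nat_lit 0x828100400045241010102480094020000a0a) (.leaf [nat_lit 1, nat_lit 6, nat_lit 4, nat_lit 5, nat_lit 2, nat_lit 4]) (.leaf [nat_lit 3, nat_lit 5, nat_lit 4]))))
 (.node (nat_lit 0x829000480600240110100821010086006048) (.node (nat_lit 0x828400481200200062102180044804010019) (.leaf [nat_lit 6, nat_lit 4, nat_lit 3]) (.node (nat_lit 0x8288006120001010210800d004440400030a) (.leaf [nat_lit 2, nat_lit 0, nat_lit 3]) (.leaf [nat_lit 0, nat_lit 5, nat_lit 1, nat_lit 4, nat_lit 0, nat_lit 3])))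
 (.node (nat_lit 0x82c000500012200281090120040c04003048) (.node (nat_lit 0x82a0006108001005800c0003005048000234) (.leaf [nat_lit 4, nat_lit 5, nat_lit 6, nat_lit 2, nat_lit 5]) (.leaf [nat_lit 4, nat_lit 3, nat_lit 5, nat_lit 0, nat_lit 5])) (.node (nat_lit 0x830001445000300102080a040084180020e0) (.leaf [nat_lit 5, nat_lit 6, nat_lit 4, nat_lit 0, nat_lit 3]) (.leaf [nat_lit 4, nat_lit 6, nat_lit 2, nat_lit 1, nat_lit 3, nat_lit 4]))))))
 (.node (nat_lit 0x838000602800140240084120001086000419) (.node (nat_lit 0x83010040029030000308c02004200c001c40) (.node (nat_lit 0x830010400380204044183000040822008409) (.node (nat_lit 0x830004500420204050080a01042108009082) (.leaf [nat_lit 5, nat_lit 3, nat_lit 4, nat_lit 5, nat_lit 1, nat_lit 4]) (.node (nat_lit 0x830008480042201220104880042104008411) (.leaf [nat_lit 5, nat_lit 2, nat_lit 1, nat_lit 4, nat_lit 5]) (.leaf [nat_lit 5, nat_lit 0, nat_lit 3, nat_lit 2, nat_lit 3])))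
 (.node (nat_lit 0x83004048000a2040141482000020a1001d00) (.node (nat_lit 0x83002050040420120808c1000408120020c1) (.leaf [nat_lit 2, nat_lit 3, nat_lit 4, nat_lit 1, nat_lit 3]) (.leaf [nat_lit 2, nat_lit 6, nat_lit 0, nat_lit 4, nat_lit 0, nat_lit 3])) (.node (nat_lit 0x8300804003102c0400104808009006002061) (.leaf [nat_lit 6, nat_lit 5, nat_lit 0, nat_lit 6]) (.leaf [nat_lit 5, nat_lit 3, nat_lit 2, nat_lit 6, nat_lit 5, nat_lit 2]))))
 (.node (nat_lit 0x83080060a000104088080205040032001540) (.node (nat_lit 0x830200400190201028148040080805006402) (.leaf [nat_lit 1, nat_lit 3, nat_lit 5, nat_lit 4, nat_lit 2]) (.node (nat_lit 0x8304005000242c0080008019006202001940) (.leaf [nat_lit 4, nat_lit 6, nat_lit 3, nat_lit 2, nat_lit 4]) (.leaf [nat_lit 1, nat_lit 3])))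
 (.node (nat_lit 0x83200060880018101004010c0046020000e1) (.node (nat_lit 0x831000444001200228182010008086000d40) (.leaf [nat_lit 4, nat_lit 3, nat_lit 0, nat_lit 5]) (.leaf [nat_lit 5, nat_lit 1, nat_lit 3, nat_lit 4, nat_lit 6])) (.node (nat_lit 0x834000441001200054100888088120002602) (.leaf [nat_lit 6, nat_lit 0, nat_lit 5, nat_lit 0, nat_lit 5]) (.leaf [nat_lit 6, nat_lit 1, nat_lit 4, nat_lit 0, nat_lit 3])))))
 (.node (nat_lit 0x840011408a00204402120084090140003028) (.node (nat_lit 0x8400066202001940000080580024a0001901) (.node (nat_lit 0x8400035000602044100aa000010288001904) (.leaf [nat_lit 6, nat_lit 4, nat_lit 5, nat_lit 3, nat_lit 2, nat_lit 4]) (.node (nat_lit 0x840005480408218020120090006240001902) (.leaf [nat_lit 0, nat_lit 4, nat_lit 1, nat_lit 5, nat_lit 2]) (.leaf [nat_lit 0, nat_lit 4, nat_lit 1, nat_lit 5])))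
 (.node (nat_lit 0x84000a406800280120121400010281008054) (.node (nat_lit 0x84000948040422084010c100010282003030) (.leaf [nat_lit 4, nat_lit 0, nat_lit 4, nat_lit 6, nat_lit 4]) (.leaf [nat_lit 0, nat_lit 4, nat_lit 0, nat_lit 3])) (.node (nat_lit 0x84000c480401205080100a20032100008052) (.leaf [nat_lit 5, nat_lit 2, nat_lit 1, nat_lit 6]) (.leaf [nat_lit 3, nat_lit 4, nat_lit 6, nat_lit 5]))))
 (.node (nat_lit 0x8400187100000a4200008046003021000d80) (.node (nat_lit 0x84001248108020440110230003082000804c) (.leaf [nat_lit 0, nat_lit 5, nat_lit 0, nat_lit 5]) (.node (nat_lit 0x84001440412028280012008101160000804a) (.leaf [nat_lit 0, nat_lit 6, nat_lit 5]) (.leaf [nat_lit 2, nat_lit 0, nat_lit 6, nat_lit 5])))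
 (.node (nat_lit 0x84002250004128010803081000d200002484) (.node (nat_lit 0x840021500042218004084880020700003018) (.leaf [nat_lit 5, nat_lit 3, nat_lit 4, nat_lit 6]) (.leaf [nat_lit 3, nat_lit 5, nat_lit 4, nat_lit 6, nat_lit 3])) (.node (nat_lit 0x840024404110218001100a080a1040002482) (.leaf [nat_lit 3, nat_lit 5, nat_lit 4]) (.leaf [nat_lit 2, nat_lit 3, nat_lit 5, nat_lit 4])))))))
 (.node (nat_lit 0x8402204920002000d010080c02050100d002) (.node (nat_lit 0x8400c0410804200230182008024102009401) (.node (nat_lit 0x8400605000032002900a100401440800a900) (.node (nat_lit 0x840042500021213000080e0002418000801c) (.node (nat_lit 0x8400304041042002c0188400030802003009) (.leaf [nat_lit 5, nat_lit 3, nat_lit 5, nat_lit 2, nat_lit 0, nat_lit 3]) (.node (nat_lit 0x840041500022220808090110009480006204) (.leaf [nat_lit 3, nat_lit 4, nat_lit 3, nat_lit 4]) (.leaf [nat_lit 2, nat_lit 5, nat_lit 0, nat_lit 4, nat_lit 0, nat_lit 3])))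
 (.node (nat_lit 0x840048401300220801182080014420008016) (.node (nat_lit 0x8400444108803005000a102000801a006201) (.leaf [nat_lit 1, nat_lit 6]) (.leaf [nat_lit 5, nat_lit 1, nat_lit 6])) (.node (nat_lit 0x8400504224002002a010580009010100800e) (.leaf [nat_lit 5, nat_lit 6]) (.leaf [nat_lit 6, nat_lit 1, nat_lit 5, nat_lit 2]))))
 (.node (nat_lit 0x840084410840205008120011088300002422) (.node (nat_lit 0x84008160210012001408482001020a009440) (.leaf [nat_lit 3, nat_lit 5, nat_lit 2, nat_lit 4]) (.node (nat_lit 0x840082481010308800024140010209002424) (.leaf [nat_lit 6, nat_lit 3, nat_lit 4, nat_lit 3]) (.leaf [nat_lit 1, nat_lit 4, nat_lit 2, nat_lit 3])))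
 (.node (nat_lit 0x84009048100220026012000501e000000d08) (.node (nat_lit 0x840088428020205004182040010203000d10) (.leaf [nat_lit 6, nat_lit 3, nat_lit 4, nat_lit 6]) (.leaf [nat_lit 1, nat_lit 5, nat_lit 4, nat_lit 5])) (.node (nat_lit 0x8400a0428008200250111100084801002406) (.leaf [nat_lit 1, nat_lit 3, nat_lit 5, nat_lit 0, nat_lit 4]) (.leaf [nat_lit 2, nat_lit 6, nat_lit 4, nat_lit 5, nat_lit 2])))))
 (.node (nat_lit 0x84014040120830040409001102408200a820) (.node (nat_lit 0x840104404030300440088280032008001803) (.node (nat_lit 0x84010160208010c008090050020620001806) (.leaf [nat_lit 5, nat_lit 1, nat_lit 3, nat_lit 1, nat_lit 4]) (.node (nat_lit 0x8401024184002800281022100240c0001805) (.leaf [nat_lit 2, nat_lit 1, nat_lit 6, nat_lit 4, nat_lit 5, nat_lit 2]) (.leaf [nat_lit 2, nat_lit 3, nat_lit 1, nat_lit 4, nat_lit 5, nat_lit 2])))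
 (.node (nat_lit 0x840110404024229000102202090041000c88) (.node (nat_lit 0x84010840124028002210c001032004000c90) (.leaf [nat_lit 2, nat_lit 3, nat_lit 1, nat_lit 4, nat_lit 5]) (.leaf [nat_lit 5, nat_lit 3, nat_lit 4, nat_lit 1, nat_lit 4])) (.node (nat_lit 0x84012040401428000a11108002060100a840) (.leaf [nat_lit 2, nat_lit 4, nat_lit 6, nat_lit 4]) (.leaf [nat_lit 4, nat_lit 2, nat_lit 6]))))
 (.node (nat_lit 0x840202620004102110080c4001008900d020) (.node (nat_lit 0x840180602001111020088204024042000c18) (.leaf [nat_lit 6, nat_lit 2, nat_lit 4, nat_lit 5]) (.node (nat_lit 0x84020140881038100002052001008a006044) (.leaf [nat_lit 2, nat_lit 0, nat_lit 5, nat_lit 3, nat_lit 4]) (.leaf [nat_lit 0, nat_lit 4, nat_lit 1, nat_lit 5])))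
 (.node (nat_lit 0x84020840114020a4001008240a4010010083) (.node (nat_lit 0x840204620002100828088180011410006041) (.leaf [nat_lit 6, nat_lit 5, nat_lit 3, nat_lit 4, nat_lit 3]) (.leaf [nat_lit 5, nat_lit 3, nat_lit 5, nat_lit 4])) (.node (nat_lit 0x8402104088012000e01021020a4008011404) (.leaf [nat_lit 4, nat_lit 2, nat_lit 3, nat_lit 4, nat_lit 5]) (.leaf [nat_lit 1, nat_lit 5, nat_lit 3, nat_lit 1, nat_lit 4]))))))
 (.node (nat_lit 0x8408014082102200481124000840a0001106) (.node (nat_lit 0x84040848000520a200121002014060000990) (.node (nat_lit 0x840300401048214800102012088084020421) (.node (nat_lit 0x8402404011082000b0138000080c02006005) (.leaf [nat_lit 1, nat_lit 3, nat_lit 1, nat_lit 4, nat_lit 6]) (.node (nat_lit 0x84028050440020007008810402380001000b) (.leaf [nat_lit 4, nat_lit 6, nat_lit 5, nat_lit 4]) (.leaf [nat_lit 0, nat_lit 3, nat_lit 4])))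
 (.node (nat_lit 0x840402418100204011121008080a400020a4) (.node (nat_lit 0x84040148000c2040121128000203200090c0) (.leaf [nat_lit 2, nat_lit 6, nat_lit 4]) (.leaf [nat_lit 6, nat_lit 5, nat_lit 0, nat_lit 3])) (.node (nat_lit 0x84040448000930014002c8000112100020a2) (.leaf [nat_lit 3, nat_lit 0, nat_lit 5, nat_lit 0, nat_lit 5]) (.leaf [nat_lit 4, nat_lit 1, nat_lit 3, nat_lit 2, nat_lit 3]))))
 (.node (nat_lit 0x840440422010300104080a02014028009081) (.node (nat_lit 0x840410422040204003188020011204000988) (.leaf [nat_lit 1, nat_lit 5, nat_lit 0, nat_lit 4]) (.node (nat_lit 0x840420601800188010020301014048002086) (.leaf [nat_lit 1, nat_lit 3, nat_lit 5, nat_lit 4, nat_lit 5]) (.leaf [nat_lit 6, nat_lit 4, nat_lit 5, nat_lit 2])))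
 (.node (nat_lit 0x840500418002300044087000020221000898) (.node (nat_lit 0x8404805042002b0000009041002026000918) (.leaf [nat_lit 5, nat_lit 1, nat_lit 3, nat_lit 4]) (.leaf [nat_lit 6, nat_lit 4, nat_lit 0, nat_lit 5, nat_lit 2])) (.node (nat_lit 0x84060050408020a008080842020121011014) (.leaf [nat_lit 4, nat_lit 2, nat_lit 5, nat_lit 4]) (.leaf [nat_lit 2, nat_lit 5, nat_lit 1, nat_lit 4, nat_lit 5, nat_lit 3])))))
 (.node (nat_lit 0x840880410044308002084021023200000518) (.node (nat_lit 0x840808406002220041100224099000000590) (.node (nat_lit 0x840802406008308080080640030030001105) (.leaf [nat_lit 1, nat_lit 6, nat_lit 4, nat_lit 5, nat_lit 2]) (.node (nat_lit 0x8408044100c028201010022802c400001103) (.leaf [nat_lit 3, nat_lit 1, nat_lit 4, nat_lit 5]) (.leaf [nat_lit 3, nat_lit 1, nat_lit 4, nat_lit 5, nat_lit 2])))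
 (.node (nat_lit 0x84082060140010020c08408103001200a140) (.node (nat_lit 0x840810408201282004105040030022000588) (.leaf [nat_lit 5, nat_lit 6, nat_lit 5, nat_lit 4]) (.leaf [nat_lit 4, nat_lit 6, nat_lit 4])) (.node (nat_lit 0x84084041008422000910501008060200a120) (.leaf [nat_lit 0, nat_lit 6, nat_lit 1, nat_lit 5]) (.leaf [nat_lit 1, nat_lit 3, nat_lit 0, nat_lit 4]))))
 (.node (nat_lit 0x840c0060102011200108024202c004000198) (.node (nat_lit 0x8409005a000021420000a060001007000498) (.leaf [nat_lit 0, nat_lit 4, nat_lit 2, nat_lit 5, nat_lit 4]) (.node (nat_lit 0x840a0040801121410010002c080442023080) (.leaf [nat_lit 1, nat_lit 4, nat_lit 5]) (.leaf [nat_lit 4, nat_lit 0, nat_lit 6, nat_lit 1, nat_lit 5])))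
 (.node (nat_lit 0x84100248009021204012040800c220000905) (.node (nat_lit 0x8410014340003802000084c0002038000906) (.leaf [nat_lit 0, nat_lit 5, nat_lit 3, nat_lit 4]) (.leaf [nat_lit 5, nat_lit 1, nat_lit 6, nat_lit 4, nat_lit 5, nat_lit 2])) (.node (nat_lit 0x84100450a0002040880a0060010610000903) (.leaf [nat_lit 5, nat_lit 3, nat_lit 1, nat_lit 4, nat_lit 5, nat_lit 2]) (.leaf [nat_lit 5, nat_lit 3, nat_lit 1, nat_lit 4, nat_lit 5])))))))))))
 (.node (nat_lit 0x9a000044090020800c0130100044410002a2) (.node (nat_lit 0x8a00024100482058001002a004a001000514) (.node (nat_lit 0x8800a040054020b00012020204480101001c) (.node (nat_lit 0x85001070000808014102082200e080001604) (.node (nat_lit 0x844020400114322000080881010448009202) (.node (nat_lit 0x84201042044028080410030201c080001029) (.node (nat_lit 0x84120040014838000102288001041400c022) (.node (nat_lit 0x8410404003082120021048100a0024008481) (.node (nat_lit 0x841010480082228100104840010604002029)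 (.leaf [nat_lit 6, nat_lit 4, nat_lit 6]) (.node (nat_lit 0x841020600c001101800a004400c202002019) (.leaf [nat_lit 4, nat_lit 5, nat_lit 6]) (.leaf [nat_lit 4, nat_lit 2, nat_lit 5, nat_lit 6]))) (.node (nat_lit 0x84108048001220400c110120022a00008441) (.leaf [nat_lit 2, nat_lit 6, nat_lit 5, nat_lit 4]) (.node (nat_lit 0x8411004002482280101100a0086400000807) (.leaf [nat_lit 4, nat_lit 6, nat_lit 5]) (.leaf [nat_lit 3, nat_lit 2, nat_lit 1, nat_lit 5]))))
 (.node (nat_lit 0x842001600180110c000a8002004244001038) (.node (nat_lit 0x84140060082012000a0861000102140080c1) (.leaf [nat_lit 2, nat_lit 5, nat_lit 6, nat_lit 4]) (.node (nat_lit 0x841800600420104050098008022280000107) (.leaf [nat_lit 3, nat_lit 4, nat_lit 5, nat_lit 3]) (.leaf [nat_lit 1, nat_lit 5, nat_lit 1, nat_lit 5])))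
 (.node (nat_lit 0x8420045090002808100301080042410004a2) (.node (nat_lit 0x8420024048082110401003100a80010004a4) (.leaf [nat_lit 5, nat_lit 4, nat_lit 6, nat_lit 2, nat_lit 0, nat_lit 3]) (.leaf [nat_lit 5, nat_lit 4, nat_lit 2, nat_lit 0, nat_lit 3])) (.node (nat_lit 0x8420084048022086001800c0030104001031) (.leaf [nat_lit 2, nat_lit 5, nat_lit 4, nat_lit 2, nat_lit 0, nat_lit 3]) (.leaf [nat_lit 1, nat_lit 5, nat_lit 2, nat_lit 0, nat_lit 5])))))
 (.node (nat_lit 0x84280040400a280014110401021280008160) (.node (nat_lit 0x842080600101180048021a0001c010000426) (.node (nat_lit 0x842020490200324000008940001019000486) (.leaf [nat_lit 1, nat_lit 4, nat_lit 1, nat_lit 4, nat_lit 3]) (.node (nat_lit 0x842040420410211002180088008920004205) (.leaf [nat_lit 5, nat_lit 6, nat_lit 2, nat_lit 5, nat_lit 4]) (.leaf [nat_lit 2, nat_lit 4, nat_lit 2, nat_lit 5])))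
 (.node (nat_lit 0x842200490020208408100112021880004045) (.node (nat_lit 0x84210060008110021208540003000c008860) (.leaf [nat_lit 4, nat_lit 1, nat_lit 4, nat_lit 6, nat_lit 1, nat_lit 4]) (.leaf [nat_lit 1, nat_lit 4, nat_lit 6, nat_lit 5])) (.node (nat_lit 0x8424004200502082081108010851000000a6) (.leaf [nat_lit 4, nat_lit 6, nat_lit 5, nat_lit 3, nat_lit 4]) (.leaf [nat_lit 4, nat_lit 5, nat_lit 6, nat_lit 0, nat_lit 5, nat_lit 2]))))
 (.node (nat_lit 0x8440024028082004111900040201c0009220) (.node (nat_lit 0x843000508004210042084500020a80000039) (.leaf [nat_lit 6, nat_lit 5, nat_lit 6]) (.node (nat_lit 0x8440014310002004121081080808a0002244) (.leaf []) (.leaf [nat_lit 5, nat_lit 0, nat_lit 5, nat_lit 4, nat_lit 3])))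
 (.node (nat_lit 0x8440084028022010841081010a0210010460) (.node (nat_lit 0x844004400130201088190002028c00002241) (.leaf [nat_lit 4, nat_lit 0, nat_lit 5, nat_lit 2, nat_lit 6]) (.leaf [nat_lit 0, nat_lit 5, nat_lit 3, nat_lit 4, nat_lit 6])) (.node (nat_lit 0x8440104001242004031018400a020801a080) (.leaf [nat_lit 5, nat_lit 3, nat_lit 1, nat_lit 4]) (.leaf [nat_lit 5, nat_lit 4, nat_lit 5, nat_lit 3, nat_lit 4]))))))
 (.node (nat_lit 0x848020420088210005180410005202002940) (.node (nat_lit 0x84500043000120008c100850082500008222) (.node (nat_lit 0x844100400034210a001080090834000200c2) (.node (nat_lit 0x844040688000101810020182010428002205) (.leaf [nat_lit 4, nat_lit 5, nat_lit 3, nat_lit 2, nat_lit 3]) (.node (nat_lit 0x84408050060020100c08082102014201a010) (.leaf [nat_lit 6, nat_lit 5, nat_lit 4, nat_lit 5, nat_lit 2]) (.leaf [nat_lit 0, nat_lit 5, nat_lit 1, nat_lit 5, nat_lit 4])))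
 (.node (nat_lit 0x844400500280200013083100028804010068) (.node (nat_lit 0x8442005004802109000a0018009022002045) (.leaf [nat_lit 5, nat_lit 3, nat_lit 0, nat_lit 4, nat_lit 3]) (.leaf [nat_lit 2, nat_lit 5, nat_lit 6, nat_lit 5])) (.node (nat_lit 0x84480040200a2103001010500800a1028404) (.leaf [nat_lit 2, nat_lit 0, nat_lit 5]) (.leaf [nat_lit 4, nat_lit 5]))))
 (.node (nat_lit 0x8480024105003008800a200100522000005c) (.node (nat_lit 0x84600040080a320020081500018090000245) (.leaf [nat_lit 6, nat_lit 4, nat_lit 5, nat_lit 4]) (.node (nat_lit 0x848001400a102100241041080a20020014c0) (.leaf [nat_lit 2, nat_lit 5, nat_lit 4, nat_lit 2]) (.leaf [nat_lit 5, nat_lit 0, nat_lit 4, nat_lit 0, nat_lit 3])))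
 (.node (nat_lit 0x8480084200a0202600104101091800000056) (.node (nat_lit 0x848004503000210021080380024c0000005a) (.leaf [nat_lit 2, nat_lit 5, nat_lit 1, nat_lit 6]) (.leaf [nat_lit 2, nat_lit 1, nat_lit 6])) (.node (nat_lit 0x848010400a0122110018042001608000004e) (.leaf [nat_lit 2, nat_lit 5, nat_lit 6]) (.leaf [nat_lit 3, nat_lit 4, nat_lit 6])))))
 (.node (nat_lit 0x8490005020042201100908080042220004c1) (.node (nat_lit 0x848100410402221010104009080284002860) (.node (nat_lit 0x84804068400013020000292000148100001e) (.leaf [nat_lit 2, nat_lit 3, nat_lit 5, nat_lit 2, nat_lit 4]) (.node (nat_lit 0x848080420028300802080304016010001441) (.leaf [nat_lit 6]) (.leaf [nat_lit 1, nat_lit 4, nat_lit 6, nat_lit 0, nat_lit 4])))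
 (.node (nat_lit 0x8484004101022022081800300248040010c1) (.node (nat_lit 0x848200400811202408130040080184005022) (.leaf [nat_lit 3, nat_lit 4, nat_lit 1, nat_lit 4]) (.leaf [nat_lit 3, nat_lit 5, nat_lit 2, nat_lit 0, nat_lit 3])) (.node (nat_lit 0x848800400211300082091008024404002160) (.leaf [nat_lit 1, nat_lit 5, nat_lit 6, nat_lit 5, nat_lit 2, nat_lit 3]) (.leaf [nat_lit 5, nat_lit 6, nat_lit 4, nat_lit 6]))))
 (.node (nat_lit 0x850001425000208024102c0008015000028a) (.node (nat_lit 0x84a0005010042006080a0003014090000960) (.leaf [nat_lit 6, nat_lit 5, nat_lit 4]) (.node (nat_lit 0x84c000680040100109020c04012090001222) (.leaf [nat_lit 4, nat_lit 2, nat_lit 5]) (.leaf [nat_lit 2, nat_lit 1, nat_lit 3, nat_lit 4])))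
 (.node (nat_lit 0x8500044008c0208021184002022108001610) (.node (nat_lit 0x850002408500203040184004020830000289) (.leaf [nat_lit 0, nat_lit 4, nat_lit 1, nat_lit 5, nat_lit 3]) (.leaf [nat_lit 1, nat_lit 4, nat_lit 2, nat_lit 0, nat_lit 3])) (.node (nat_lit 0x850008700010089800022104004460000283) (.leaf [nat_lit 5, nat_lit 1, nat_lit 4, nat_lit 2, nat_lit 0, nat_lit 3]) (.leaf [nat_lit 4, nat_lit 5, nat_lit 2, nat_lit 4])))))))
 (.node (nat_lit 0x8680004000a8201110110240082003004c04) (.node (nat_lit 0x86000260020410140808a0010108300041c0) (.node (nat_lit 0x8504004081022a0080102801004068001214) (.node (nat_lit 0x8500804008442a040010112000e01000020b) (.node (nat_lit 0x850020482200208005101180020812004448) (.leaf [nat_lit 2, nat_lit 1, nat_lit 3, nat_lit 2, nat_lit 5, nat_lit 4]) (.node (nat_lit 0x850040400884203002128200080111004428) (.leaf [nat_lit 6, nat_lit 1, nat_lit 5, nat_lit 4]) (.leaf [nat_lit 1, nat_lit 5, nat_lit 1, nat_lit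 5]))) (.node (nat_lit 0x850100408402204a001010a008005102200c) (.leaf [nat_lit 1, nat_lit 4]) (.node (nat_lit 0x85020048202020490012804000141400008b) (.leaf [nat_lit 2, nat_lit 5]) (.leaf [nat_lit 4, nat_lit 2, nat_lit 3, nat_lit 4, nat_lit 2]))))
 (.node (nat_lit 0x852000480220201042100c0102010c00c090) (.node (nat_lit 0x8508004000c4204300102401089008020032) (.leaf [nat_lit 1, nat_lit 5, nat_lit 6, nat_lit 5, nat_lit 3]) (.node (nat_lit 0x8510004240012020421001a0088808000614) (.leaf [nat_lit 3, nat_lit 2, nat_lit 6, nat_lit 4]) (.leaf [nat_lit 3, nat_lit 5, nat_lit 0, nat_lit 4, nat_lit 3])))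
 (.node (nat_lit 0x858000400502200025120240081808006090) (.node (nat_lit 0x854000421001200b0018000600a090000468) (.leaf [nat_lit 1, nat_lit 6, nat_lit 5, nat_lit 0, nat_lit 5]) (.leaf [nat_lit 4, nat_lit 0, nat_lit 5, nat_lit 6])) (.node (nat_lit 0x86000141500020084810009408a002000720) (.leaf [nat_lit 6, nat_lit 0, nat_lit 5, nat_lit 0, nat_lit 4]) (.leaf [nat_lit 5, nat_lit 6, nat_lit 5, nat_lit 0, nat_lit 3])))))
 (.node (nat_lit 0x86010058080020901001200c0040c2000621) (.node (nat_lit 0x860010402440209100100085084208010822) (.node (nat_lit 0x86000460020210009108106001210800cc00) (.leaf [nat_lit 4, nat_lit 6, nat_lit 4, nat_lit 1, nat_lit 6]) (.node (nat_lit 0x8600084080a0200841101402084210012104) (.leaf [nat_lit 4, nat_lit 5, nat_lit 4, nat_lit 0, nat_lit 3]) (.leaf [nat_lit 2, nat_lit 5, nat_lit 3, nat_lit 1, nat_lit 4])))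
 (.node (nat_lit 0x860040402410200809118200081024004182) (.node (nat_lit 0x860020408088306000081044010812000701) (.leaf [nat_lit 4, nat_lit 5, nat_lit 3, nat_lit 0, nat_lit 4]) (.leaf [nat_lit 1, nat_lit 4, nat_lit 5, nat_lit 3, nat_lit 5])) (.node (nat_lit 0x860080408028290400100015004142003a00) (.leaf [nat_lit 1, nat_lit 3, nat_lit 4]) (.leaf [nat_lit 0, nat_lit 5]))))
 (.node (nat_lit 0x86080058010020004901003200c404003280) (.node (nat_lit 0x860200600006118040084018003880000521) (.leaf [nat_lit 2, nat_lit 4, nat_lit 5]) (.node (nat_lit 0x86040040205029008010100a00c804000321) (.leaf [nat_lit 5, nat_lit 6, nat_lit 4, nat_lit 5, nat_lit 2]) (.leaf [nat_lit 4, nat_lit 1, nat_lit 4, nat_lit 5])))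
 (.node (nat_lit 0x86200040045030402008800301010c001a80) (.node (nat_lit 0x86100041400120811010040a080064002a80) (.leaf [nat_lit 6, nat_lit 2, nat_lit 6, nat_lit 5]) (.leaf [nat_lit 4, nat_lit 2, nat_lit 6, nat_lit 5])) (.node (nat_lit 0x864000411001302020080218008c040001c2) (.leaf [nat_lit 5, nat_lit 4, nat_lit 2]) (.leaf [nat_lit 0, nat_lit 6, nat_lit 5, nat_lit 4, nat_lit 2, nat_lit 3]))))))
 (.node (nat_lit 0x880024408802204600102101061040010098) (.node (nat_lit 0x88000c4404013280000100b0004940003202) (.node (nat_lit 0x8800054404082000c2102120030a0000d010) (.node (nat_lit 0x87000040500128048010824000210c000832) (.leaf [nat_lit 6, nat_lit 4, nat_lit 6, nat_lit 4]) (.node (nat_lit 0x8800034043002000c410081806a000011420) (.leaf [nat_lit 2, nat_lit 1, nat_lit 6, nat_lit 4, nat_lit 3]) (.leaf [nat_lit 4, nat_lit 3, nat_lit 2, nat_lit 1, nat_lit 5])))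
 (.node (nat_lit 0x880009440404216000100812021180008260) (.node (nat_lit 0x8800064088202000c1154000020510003208) (.leaf [nat_lit 4, nat_lit 0, nat_lit 6, nat_lit 4, nat_lit 2]) (.leaf [nat_lit 4, nat_lit 0, nat_lit 6, nat_lit 4])) (.node (nat_lit 0x88000a43004024012010081100c480003204) (.leaf [nat_lit 0, nat_lit 5, nat_lit 0, nat_lit 6]) (.leaf [nat_lit 1, nat_lit 3, nat_lit 5]))))
 (.node (nat_lit 0x8800145002402428000205020100a800d001) (.node (nat_lit 0x88001162002010080a05014000d004002680) (.leaf [nat_lit 6, nat_lit 5, nat_lit 3, nat_lit 5]) (.node (nat_lit 0x880012441080218200100809020504006060) (.leaf [nat_lit 2, nat_lit 1, nat_lit 4, nat_lit 2, nat_lit 5]) (.leaf [nat_lit 1, nat_lit 3, nat_lit 1, nat_lit 4, nat_lit 3])))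
 (.node (nat_lit 0x880021620010102104044880011402008248) (.node (nat_lit 0x88001840a1002014401008030642000100a4) (.leaf [nat_lit 6, nat_lit 3, nat_lit 1, nat_lit 4, nat_lit 0, nat_lit 3]) (.leaf [nat_lit 0, nat_lit 5, nat_lit 6, nat_lit 5])) (.node (nat_lit 0x880022408804240108120280011401006050) (.leaf [nat_lit 0, nat_lit 4, nat_lit 1, nat_lit 5, nat_lit 4]) (.leaf [nat_lit 0, nat_lit 6, nat_lit 5, nat_lit 4])))))
 (.node (nat_lit 0x880050500204201408050101028880006022) (.node (nat_lit 0x880041403800200086124400050110008228) (.node (nat_lit 0x880028505000240102022c00010094008241) (.leaf [nat_lit 4, nat_lit 0, nat_lit 6, nat_lit 0, nat_lit 4]) (.node (nat_lit 0x88003062000114840001008c006042001b00) (.leaf [nat_lit 5, nat_lit 3, nat_lit 4, nat_lit 3]) (.leaf [nat_lit 3, nat_lit 4, nat_lit 6, nat_lit 3, nat_lit 5])))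
 (.node (nat_lit 0x88004450021020008306102001a400004908) (.node (nat_lit 0x880042430008200085109100040e00006030) (.leaf [nat_lit 6, nat_lit 4, nat_lit 5, nat_lit 2, nat_lit 4]) (.leaf [nat_lit 6, nat_lit 4, nat_lit 5, nat_lit 1, nat_lit 4])) (.node (nat_lit 0x880048430002201410142080008221004904) (.leaf [nat_lit 5, nat_lit 6, nat_lit 4, nat_lit 5, nat_lit 1, nat_lit 4]) (.leaf [nat_lit 5, nat_lit 0, nat_lit 4, nat_lit 1, nat_lit 4]))))
 (.node (nat_lit 0x88008244101020004512022001290000c408) (.node (nat_lit 0x880060400580310800061004008209006012) (.leaf [nat_lit 4, nat_lit 6, nat_lit 3, nat_lit 0, nat_lit 5, nat_lit 4]) (.node (nat_lit 0x880081518000200046044820021108002610) (.leaf [nat_lit 1, nat_lit 4, nat_lit 3]) (.leaf [nat_lit 4, nat_lit 6, nat_lit 2, nat_lit 5, nat_lit 4])))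
 (.node (nat_lit 0x880088600a0014204002110101003400c402) (.node (nat_lit 0x880084426000200043101c00048300010038) (.leaf [nat_lit 5, nat_lit 3, nat_lit 4, nat_lit 5, nat_lit 2]) (.leaf [nat_lit 5, nat_lit 3, nat_lit 4, nat_lit 5])) (.node (nat_lit 0x88009044100230410002884001002c002601) (.leaf [nat_lit 5, nat_lit 1, nat_lit 6, nat_lit 5, nat_lit 3]) (.leaf [nat_lit 0, nat_lit 3, nat_lit 4, nat_lit 6]))))))))
 (.node (nat_lit 0x8820084081102140011400c0020c20001206) (.node (nat_lit 0x8805004000e0208801110208047000020016) (.node (nat_lit 0x880208600880110500064010008061003006) (.node (nat_lit 0x88011040a008304080050041020406001a20) (.node (nat_lit 0x880102404201240028109040020414012880) (.node (nat_lit 0x8800c0400520200007142008028810015200) (.leaf [nat_lit 6, nat_lit 2, nat_lit 0, nat_lit 3]) (.node (nat_lit 0x880101404202208c00102024050050021088) (.leaf [nat_lit 2, nat_lit 0, nat_lit 5]) (.leaf [nat_lit 3, nat_lit 2, nat_lit 5,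 nat_lit 4, nat_lit 0, nat_lit 3]))) (.node (nat_lit 0x880104611000102021048280020412004848) (.leaf [nat_lit 3, nat_lit 5, nat_lit 1, nat_lit 5, nat_lit 6]) (.node (nat_lit 0x88010840a010240022110600021081004844) (.leaf [nat_lit 3, nat_lit 2, nat_lit 6, nat_lit 4, nat_lit 1, nat_lit 3]) (.leaf [nat_lit 4, nat_lit 5, nat_lit 3, nat_lit 4]))))
 (.node (nat_lit 0x880180400460304010048204021009012802) (.node (nat_lit 0x8801204004c024000a10200503c000001a10) (.leaf [nat_lit 3, nat_lit 2, nat_lit 6, nat_lit 4, nat_lit 5, nat_lit 2]) (.node (nat_lit 0x8801404004a022220010900205001100480c) (.leaf [nat_lit 0, nat_lit 5, nat_lit 3, nat_lit 1, nat_lit 4]) (.leaf [nat_lit 2, nat_lit 1, nat_lit 5])))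
 (.node (nat_lit 0x8802024041012180101200a0040c4000300c) (.node (nat_lit 0x880201404102341000030804008068002490) (.leaf [nat_lit 4, nat_lit 3, nat_lit 4]) (.leaf [nat_lit 0, nat_lit 5, nat_lit 0, nat_lit 5, nat_lit 4])) (.node (nat_lit 0x88020450005020442004818003080100300a) (.leaf [nat_lit 3, nat_lit 5, nat_lit 4, nat_lit 1, nat_lit 4]) (.leaf [nat_lit 4, nat_lit 0, nat_lit 6, nat_lit 4, nat_lit 3])))))
 (.node (nat_lit 0x880402702000040a4002011401102100c088) (.node (nat_lit 0x880240500014222100040c02015080008029) (.node (nat_lit 0x880210500044218002064008002481001920) (.leaf [nat_lit 6, nat_lit 2, nat_lit 1, nat_lit 4, nat_lit 5]) (.node (nat_lit 0x880220452000204404120082008049001910) (.leaf [nat_lit 0, nat_lit 6, nat_lit 1, nat_lit 5, nat_lit 4]) (.leaf [nat_lit 3, nat_lit 4, nat_lit 1, nat_lit 3, nat_lit 2, nat_lit 3])))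
 (.node (nat_lit 0x880300404003222040110408048084001830) (.node (nat_lit 0x880280600808120022048104015040002411) (.leaf [nat_lit 5, nat_lit 1, nat_lit 4, nat_lit 3]) (.leaf [nat_lit 5, nat_lit 1, nat_lit 5, nat_lit 3])) (.node (nat_lit 0x88040144000c208900124040011022002290) (.leaf [nat_lit 3, nat_lit 5, nat_lit 0, nat_lit 4, nat_lit 2]) (.leaf [nat_lit 0, nat_lit 4, nat_lit 6]))))
 (.node (nat_lit 0x880410414800201048148020020106002281) (.node (nat_lit 0x88040444000920422010188002011201a040) (.leaf [nat_lit 1, nat_lit 6, nat_lit 4, nat_lit 0, nat_lit 3]) (.node (nat_lit 0x88040844000520105011030002282000c082) (.leaf [nat_lit 0, nat_lit 4, nat_lit 3]) (.leaf [nat_lit 6, nat_lit 5, nat_lit 0, nat_lit 4])))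
 (.node (nat_lit 0x8804404001a0201018124001040a0201a004) (.node (nat_lit 0x8804204001c0204204148010022808011003) (.leaf [nat_lit 3, nat_lit 2, nat_lit 4, nat_lit 6, nat_lit 4]) (.leaf [nat_lit 4, nat_lit 3, nat_lit 2, nat_lit 4, nat_lit 5])) (.node (nat_lit 0x88048040016027000010180400c00a002211) (.leaf [nat_lit 4, nat_lit 3, nat_lit 5, nat_lit 4]) (.leaf [nat_lit 2, nat_lit 3, nat_lit 2, nat_lit 5, nat_lit 3]))))))
 (.node (nat_lit 0x88100244009022480010814001042100220c) (.node (nat_lit 0x880820408006310040044081022408001310) (.node (nat_lit 0x880802408024225000100019040640012180) (.node (nat_lit 0x880600429000204024110108040842002091) (.leaf [nat_lit 6, nat_lit 3, nat_lit 4]) (.node (nat_lit 0x88080140304020850010001a0440a0030204) (.leaf [nat_lit 6, nat_lit 4, nat_lit 1, nat_lit 6]) (.leaf [nat_lit 3, nat_lit 2, nat_lit 6, nat_lit 3])))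
 (.node (nat_lit 0x880808600280100013059000022420004144) (.node (nat_lit 0x880804408022242010101480030201004148) (.leaf [nat_lit 3]) (.leaf [nat_lit 5, nat_lit 4, nat_lit 6, nat_lit 0, nat_lit 5])) (.node (nat_lit 0x88081041440024200410000b0280c0001320) (.leaf [nat_lit 0, nat_lit 5, nat_lit 2]) (.leaf [nat_lit 3, nat_lit 4, nat_lit 1, nat_lit 4]))))
 (.node (nat_lit 0x88090056000020840101208200404c001230) (.node (nat_lit 0x88084040300131002004060202809000410c) (.leaf [nat_lit 0, nat_lit 6, nat_lit 5, nat_lit 2, nat_lit 4]) (.node (nat_lit 0x880880600208101404044021028050012102) (.leaf [nat_lit 6, nat_lit 5, nat_lit 0, nat_lit 5, nat_lit 3]) (.leaf [nat_lit 5, nat_lit 0, nat_lit 5, nat_lit 0, nat_lit 4])))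
 (.node (nat_lit 0x880c00414010208101101084040242022028) (.node (nat_lit 0x880a0060008810e000040442030005001130) (.leaf [nat_lit 2, nat_lit 3, nat_lit 4, nat_lit 5]) (.leaf [nat_lit 2, nat_lit 3, nat_lit 5, nat_lit 0, nat_lit 4, nat_lit 2])) (.node (nat_lit 0x88100140284034020002018801042200c014) (.leaf [nat_lit 4, nat_lit 1, nat_lit 6, nat_lit 5, nat_lit 4]) (.leaf [nat_lit 5, nat_lit 3, nat_lit 2, nat_lit 6, nat_lit 3])))))
 (.node (nat_lit 0x881100610004108042046400020089000a30) (.node (nat_lit 0x88101044008220044813200000c005000b20) (.node (nat_lit 0x881004610100100c8006006000c01100220a) (.leaf [nat_lit 4, nat_lit 6, nat_lit 0, nat_lit 5]) (.node (nat_lit 0x881008504020200450058800020181002206) (.leaf [nat_lit 5, nat_lit 3]) (.leaf [nat_lit 2, nat_lit 4, nat_lit 6, nat_lit 4])))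
 (.node (nat_lit 0x881040402801200418108102060024014280) (.node (nat_lit 0x88102050400820a080060044010403000b10) (.leaf [nat_lit 6, nat_lit 3, nat_lit 5, nat_lit 0, nat_lit 4]) (.leaf [nat_lit 0, nat_lit 3, nat_lit 4, nat_lit 5, nat_lit 2])) (.node (nat_lit 0x88108044001220a020100c04020109014240) (.leaf [nat_lit 3, nat_lit 4, nat_lit 6, nat_lit 5, nat_lit 4]) (.leaf [nat_lit 3, nat_lit 5, nat_lit 6]))))
 (.node (nat_lit 0x881800402041224002100484058008000330) (.node (nat_lit 0x8812004284003400010140c000200e000930) (.leaf [nat_lit 5, nat_lit 2, nat_lit 3, nat_lit 4, nat_lit 5]) (.node (nat_lit 0x881400428200200058100884046100010023) (.leaf [nat_lit 6, nat_lit 3, nat_lit 2, nat_lit 5]) (.leaf [nat_lit 4, nat_lit 2, nat_lit 4, nat_lit 5])))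
 (.node (nat_lit 0x88200270040006800101098000407000120c) (.node (nat_lit 0x882001401840214008100124068002000690) (.leaf [nat_lit 3, nat_lit 5, nat_lit 4, nat_lit 2, nat_lit 0, nat_lit 3]) (.leaf [nat_lit 3, nat_lit 5, nat_lit 6, nat_lit 5, nat_lit 4])) (.node (nat_lit 0x88200442408024081010012101844000120a) (.leaf [nat_lit 1, nat_lit 4, nat_lit 1, nat_lit 6]) (.leaf [nat_lit 4, nat_lit 1, nat_lit 4, nat_lit 5, nat_lit 3])))))))
 (.node (nat_lit 0x8880104021082102021404200208c0005005) (.node (nat_lit 0x884010410c00300180060208009005002062) (.node (nat_lit 0x882400700002045100020828018044000291) (.node (nat_lit 0x882040401801220300140088018404004032) (.node (nat_lit 0x882010408108240804131000004062000681) (.leaf [nat_lit 1, nat_lit 4, nat_lit 5, nat_lit 6]) (.node (nat_lit 0x882020450200209080100105020c08004052) (.leaf [nat_lit 2, nat_lit 6, nat_lit 3, nat_lit 5, nat_lit 4]) (.leaf [nat_lit 1, nat_lit 6, nat_lit 5, nat_lit 4])))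
 (.node (nat_lit 0x882100408018220240100025045400010882) (.node (nat_lit 0x882080424004209020140048010902000611) (.leaf [nat_lit 5, nat_lit 2, nat_lit 6, nat_lit 5, nat_lit 3]) (.leaf [nat_lit 0, nat_lit 4, nat_lit 5, nat_lit 0, nat_lit 4])) (.node (nat_lit 0x88220045002022014010c80000100e000491) (.leaf [nat_lit 0, nat_lit 5, nat_lit 1, nat_lit 4]) (.leaf [nat_lit 4, nat_lit 3, nat_lit 1, nat_lit 4, nat_lit 6]))))
 (.node (nat_lit 0x8840014003022120081204400408a0009014) (.node (nat_lit 0x88280040104124001410c200020428010182) (.leaf [nat_lit 4, nat_lit 5, nat_lit 4]) (.node (nat_lit 0x8830004008412080a013001004450000020e) (.leaf [nat_lit 6, nat_lit 1, nat_lit 4]) (.leaf [nat_lit 1, nat_lit 4, nat_lit 6])))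
 (.node (nat_lit 0x884004422080200620150002009011000948) (.node (nat_lit 0x884002400301221800150004008488002070) (.leaf [nat_lit 6, nat_lit 4, nat_lit 3, nat_lit 1, nat_lit 4]) (.leaf [nat_lit 4, nat_lit 2, nat_lit 1, nat_lit 6, nat_lit 4])) (.node (nat_lit 0x884008501020212001060210008482000944) (.leaf [nat_lit 5, nat_lit 3, nat_lit 2, nat_lit 0, nat_lit 3]) (.leaf [nat_lit 2, nat_lit 0, nat_lit 5, nat_lit 3, nat_lit 1, nat_lit 4])))))
 (.node (nat_lit 0x88480041041022100210a2000400a100014c) (.node (nat_lit 0x88408042200430011004082101124000840a) (.node (nat_lit 0x884020501008200604040881038100002052) (.leaf [nat_lit 5, nat_lit 1, nat_lit 3, nat_lit 1, nat_lit 4]) (.node (nat_lit 0x88404064800012040101128000203200090c) (.leaf [nat_lit 0, nat_lit 4, nat_lit 5, nat_lit 3, nat_lit 5]) (.leaf [nat_lit 2, nat_lit 6, nat_lit 4, nat_lit 3])))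
 (.node (nat_lit 0x88420040010320042410a8000600180110c0) (.node (nat_lit 0x88410040020330009004340003802000084c) (.leaf [nat_lit 4, nat_lit 0, nat_lit 4, nat_lit 1, nat_lit 5]) (.leaf [nat_lit 1, nat_lit 5, nat_lit 4, nat_lit 2])) (.node (nat_lit 0x88440041081020022412004104310000808a) (.leaf [nat_lit 1, nat_lit 5, nat_lit 6, nat_lit 5]) (.leaf [nat_lit 6, nat_lit 5, nat_lit 6, nat_lit 4]))))
 (.node (nat_lit 0x888001510080200d00062002005014000268) (.node (nat_lit 0x8850005000282208020425000102c0008015) (.leaf [nat_lit 3, nat_lit 4, nat_lit 6, nat_lit 3]) (.node (nat_lit 0x886000420084210009108a00041500000072) (.leaf [nat_lit 5]) (.leaf [nat_lit 6, nat_lit 3, nat_lit 4, nat_lit 5, nat_lit 3])))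
 (.node (nat_lit 0x888004400822320008040380012440005011) (.node (nat_lit 0x888002400824210210101140062001004488) (.leaf [nat_lit 6, nat_lit 2, nat_lit 4, nat_lit 3, nat_lit 4]) (.leaf [nat_lit 5, nat_lit 6, nat_lit 5, nat_lit 3, nat_lit 5])) (.node (nat_lit 0x888008402110320004051800004482000261) (.leaf [nat_lit 5, nat_lit 1, nat_lit 3, nat_lit 5]) (.leaf [nat_lit 2, nat_lit 5, nat_lit 4]))))))
 (.node (nat_lit 0x8900084200422060011007000498000000b4) (.node (nat_lit 0x8888004000262005011062000510080200d0) (.node (nat_lit 0x88808051000120302004030402085000440a) (.node (nat_lit 0x888020400806203080140410034100000249) (.leaf [nat_lit 5, nat_lit 0, nat_lit 5, nat_lit 6, nat_lit 5]) (.node (nat_lit 0x888040644000101102020890012404000229) (.leaf [nat_lit 3, nat_lit 5, nat_lit 2, nat_lit 6, nat_lit 5, nat_lit 2]) (.leaf [nat_lit 0, nat_lit 4, nat_lit 1, nat_lit 4])))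
 (.node (nat_lit 0x888200421400210012106800040184000069) (.node (nat_lit 0x888100402018200c01101042040284034020) (.leaf [nat_lit 1, nat_lit 4, nat_lit 6, nat_lit 4, nat_lit 3]) (.leaf [nat_lit 5, nat_lit 4, nat_lit 5, nat_lit 3, nat_lit 4])) (.node (nat_lit 0x88840042120020090114003001204400408a) (.leaf [nat_lit 3, nat_lit 4, nat_lit 3]) (.leaf [nat_lit 5, nat_lit 6, nat_lit 1, nat_lit 5, nat_lit 4]))))
 (.node (nat_lit 0x88c000640040102a0003012000101500048a) (.node (nat_lit 0x8890004206002020a0100142050808004015) (.leaf [nat_lit 5, nat_lit 2, nat_lit 4, nat_lit 6, nat_lit 4]) (.node (nat_lit 0x88a0004001182010a0104a00060003010444) (.leaf [nat_lit 5, nat_lit 0, nat_lit 5, nat_lit 2]) (.leaf [nat_lit 5, nat_lit 0, nat_lit 4, nat_lit 5])))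
 (.node (nat_lit 0x890002420048208210144004002980001421) (.node (nat_lit 0x890001508080206008040150020a04001422) (.leaf [nat_lit 1, nat_lit 4, nat_lit 5, nat_lit 4]) (.leaf [nat_lit 3, nat_lit 2, nat_lit 5, nat_lit 3, nat_lit 1, nat_lit 4])) (.node (nat_lit 0x890004601100144002020a0100a4400000b8) (.leaf [nat_lit 4, nat_lit 6, nat_lit 5, nat_lit 1, nat_lit 4]) (.leaf [nat_lit 4, nat_lit 0, nat_lit 6, nat_lit 4, nat_lit 1, nat_lit 3])))))
 (.node (nat_lit 0x89040040481026008010030800a044001023) (.node (nat_lit 0x89004042000a30082004011100a404005280) (.node (nat_lit 0x890010404c002082021230000401410000ac) (.leaf [nat_lit 1, nat_lit 5, nat_lit 1, nat_lit 6, nat_lit 5]) (.node (nat_lit 0x89002044220030084002c10000140300009c) (.leaf [nat_lit 4, nat_lit 1, nat_lit 4, nat_lit 6]) (.leaf [nat_lit 2, nat_lit 4, nat_lit 5, nat_lit 3, nat_lit 1, nat_lit 4])))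
 (.node (nat_lit 0x89010060100410060804005102c020002882) (.node (nat_lit 0x89008050800126040000524000290200003c) (.leaf [nat_lit 3, nat_lit 2, nat_lit 4, nat_lit 2, nat_lit 5]) (.leaf [nat_lit 6, nat_lit 3])) (.node (nat_lit 0x8902004420202080121005080208050050c0) (.leaf [nat_lit 3, nat_lit 5, nat_lit 0, nat_lit 5]) (.leaf [nat_lit 4, nat_lit 3, nat_lit 5, nat_lit 4, nat_lit 5, nat_lit 2]))))
 (.node (nat_lit 0x892000440220204009121010008444000982) (.node (nat_lit 0x890800404410300060049008020205002182) (.leaf [nat_lit 1, nat_lit 4, nat_lit 5, nat_lit 4, nat_lit 2, nat_lit 4]) (.node (nat_lit 0x8910006001041220100488080042c0000423) (.leaf [nat_lit 1, nat_lit 4, nat_lit 1, nat_lit 5]) (.leaf [nat_lit 5, nat_lit 1, nat_lit 4, nat_lit 1, nat_lit 5])))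
 (.node (nat_lit 0x898000500081200212041808024120002444) (.node (nat_lit 0x894000400c102020091400060281200012c0) (.leaf [nat_lit 3, nat_lit 0, nat_lit 4, nat_lit 0, nat_lit 3]) (.leaf [nat_lit 0, nat_lit 5, nat_lit 4, nat_lit 6])) (.node (nat_lit 0x8a000160003010444004a002010a04001188) (.leaf [nat_lit 2, nat_lit 5, nat_lit 6, nat_lit 5]) (.leaf [nat_lit 5, nat_lit 0, nat_lit 4, nat_lit 6])))))))))
 (.node (nat_lit 0x901800410202202108080484044050028021) (.node (nat_lit 0x900081498000200428060014007002000b40) (.node (nat_lit 0x8c08005201002020140190080040a1000642) (.node (nat_lit 0x8a4000402084201802100441040218018120) (.node (nat_lit 0x8a0080406004250400100222008850001109) (.node (nat_lit 0x8a00106000211130000442080088c0000506) (.node (nat_lit 0x8a0004406080308008041060010a01000512) (.leaf [nat_lit 5, nat_lit 0, nat_lit 4, nat_lit 3]) (.node (nat_lit 0x8a0008410042308004044210002c20001181) (.leaf [nat_lit 4, nat_lit 0, nat_lit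 6, nat_lit 4]) (.leaf [nat_lit 6, nat_lit 1, nat_lit 5, nat_lit 4]))) (.node (nat_lit 0x8a002060001110028204104401c100002c08) (.leaf [nat_lit 3, nat_lit 2, nat_lit 4, nat_lit 5, nat_lit 6]) (.node (nat_lit 0x8a004041000a202300104401041024008890) (.leaf [nat_lit 6, nat_lit 1, nat_lit 4, nat_lit 6]) (.leaf [nat_lit 3, nat_lit 0, nat_lit 4, nat_lit 5]))))
 (.node (nat_lit 0x8a0400409200250080104041002828000116) (.node (nat_lit 0x8a010054080020224001c020001089000416) (.leaf [nat_lit 6, nat_lit 5, nat_lit 4, nat_lit 3]) (.node (nat_lit 0x8a02004094002021401000a2044018010805) (.leaf [nat_lit 5, nat_lit 6, nat_lit 3, nat_lit 4]) (.leaf [nat_lit 2, nat_lit 1, nat_lit 5, nat_lit 6, nat_lit 5])))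
 (.node (nat_lit 0x8a1000408600204802112010040064000189) (.node (nat_lit 0x8a08005401002050020102050080d0002428) (.leaf [nat_lit 1, nat_lit 6, nat_lit 4]) (.leaf [nat_lit 1, nat_lit 5, nat_lit 4, nat_lit 5, nat_lit 2])) (.node (nat_lit 0x8a2000404084200340111010048003000c28) (.leaf [nat_lit 1, nat_lit 4, nat_lit 0, nat_lit 3, nat_lit 4]) (.leaf [nat_lit 5, nat_lit 0, nat_lit 4, nat_lit 2])))))
 (.node (nat_lit 0x8c0010401082202804108420024208010141) (.node (nat_lit 0x8c000140040c30120002a0020101500048a0) (.node (nat_lit 0x8a800040160030000c0420030141200008d0) (.leaf [nat_lit 6, nat_lit 5, nat_lit 4, nat_lit 2, nat_lit 3]) (.node (nat_lit 0x8b000040004a24048010301000c120000a05) (.leaf [nat_lit 5, nat_lit 6, nat_lit 5, nat_lit 0, nat_lit 4]) (.leaf [nat_lit 2, nat_lit 3, nat_lit 2, nat_lit 5, nat_lit 4])))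
 (.node (nat_lit 0x8c0004400409202810114002021060008380) (.node (nat_lit 0x8c000240109020012811400402a001000e40) (.leaf [nat_lit 2, nat_lit 0, nat_lit 4, nat_lit 1, nat_lit 5]) (.leaf [nat_lit 2, nat_lit 5, nat_lit 3, nat_lit 5, nat_lit 4])) (.node (nat_lit 0x8c00084004052001221020c0024210019800) (.leaf [nat_lit 1, nat_lit 5, nat_lit 2, nat_lit 3, nat_lit 4]) (.leaf [nat_lit 3, nat_lit 5, nat_lit 4, nat_lit 3, nat_lit 4]))))
 (.node (nat_lit 0x8c0080401012230400102048008304004821) (.node (nat_lit 0x8c002041220020010a108410021044004881) (.leaf [nat_lit 2, nat_lit 1, nat_lit 5, nat_lit 3, nat_lit 1, nat_lit 4]) (.node (nat_lit 0x8c004060c000102088021024010111000e02) (.leaf [nat_lit 4, nat_lit 3, nat_lit 4, nat_lit 6, nat_lit 4, nat_lit 3]) (.leaf [nat_lit 1, nat_lit 6, nat_lit 4, nat_lit 6, nat_lit 3])))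
 (.node (nat_lit 0x8c0200412020301001024018008184000c42) (.node (nat_lit 0x8c010052080020002a010051008284007400) (.leaf [nat_lit 5, nat_lit 1, nat_lit 4, nat_lit 5, nat_lit 3]) (.leaf [nat_lit 4, nat_lit 2, nat_lit 4, nat_lit 6])) (.node (nat_lit 0x8c040040000d230080108030007100000a42) (.leaf [nat_lit 1, nat_lit 3, nat_lit 5, nat_lit 4, nat_lit 2, nat_lit 3]) (.leaf [nat_lit 6, nat_lit 5]))))))
 (.node (nat_lit 0x90001242c0002010240808090423000104c0) (.node (nat_lit 0x900003440060230100080818008604007080) (.node (nat_lit 0x8c40006080401100060202180035000008a1) (.node (nat_lit 0x8c1000400092300201020064018808006500) (.leaf [nat_lit 6, nat_lit 4]) (.node (nat_lit 0x8c20004102202008141000c8028003005500) (.leaf [nat_lit 5, nat_lit 6, nat_lit 4]) (.leaf [nat_lit 4, nat_lit 3, nat_lit 4, nat_lit 5, nat_lit 2])))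
 (.node (nat_lit 0x8d0000402220220480104006009808000151) (.node (nat_lit 0x8c8000604040100430022003011808000384) (.leaf [nat_lit 6, nat_lit 4, nat_lit 2, nat_lit 4, nat_lit 5]) (.leaf [nat_lit 6, nat_lit 4, nat_lit 6, nat_lit 3, nat_lit 4])) (.node (nat_lit 0x8e000050090021048000a003004218001064) (.leaf [nat_lit 4, nat_lit 6, nat_lit 5, nat_lit 2, nat_lit 4]) (.leaf [nat_lit 5, nat_lit 6, nat_lit 5]))))
 (.node (nat_lit 0x9000094222002004a008081204c100011044) (.node (nat_lit 0x900005604800082120060090011048008602) (.leaf [nat_lit 0, nat_lit 5, nat_lit 1, nat_lit 6, nat_lit 5]) (.node (nat_lit 0x9000064001882010300d4000022840008601) (.leaf [nat_lit 1, nat_lit 6, nat_lit 5, nat_lit 3, nat_lit 4]) (.leaf [nat_lit 1, nat_lit 6, nat_lit 5, nat_lit 3, nat_lit 4, nat_lit 2])))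
 (.node (nat_lit 0x90000c4001822a8000040a20011041006410) (.node (nat_lit 0x90000a40018420424008081106140001a020) (.leaf [nat_lit 0, nat_lit 3, nat_lit 0, nat_lit 4, nat_lit 3]) (.leaf [nat_lit 3, nat_lit 4, nat_lit 2, nat_lit 4, nat_lit 6])) (.node (nat_lit 0x90001140150020a04008080a060084014220) (.leaf [nat_lit 0, nat_lit 3, nat_lit 0, nat_lit 4, nat_lit 6]) (.leaf [nat_lit 0, nat_lit 5, nat_lit 3])))))
 (.node (nat_lit 0x9000304028802010060c8400020148014201) (.node (nat_lit 0x900021440042200488082104029800014210) (.node (nat_lit 0x900014480240201022060081018900006408) (.leaf [nat_lit 0, nat_lit 5, nat_lit 6]) (.node (nat_lit 0x900018650000080803020160009280006404) (.leaf [nat_lit 5, nat_lit 2, nat_lit 6, nat_lit 3, nat_lit 4]) (.leaf [nat_lit 4, nat_lit 3, nat_lit 2, nat_lit 0, nat_lit 5])))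
 (.node (nat_lit 0x900024430400201012082101040a0800c0c0) (.node (nat_lit 0x9000224400412010140a028001a008004d00) (.leaf [nat_lit 3, nat_lit 5, nat_lit 4, nat_lit 6]) (.leaf [nat_lit 3, nat_lit 5, nat_lit 4, nat_lit 3])) (.node (nat_lit 0x900028485000200481040a0402015001a002) (.leaf [nat_lit 3, nat_lit 2, nat_lit 5, nat_lit 4, nat_lit 3]) (.leaf [nat_lit 0, nat_lit 4, nat_lit 6, nat_lit 0, nat_lit 4]))))
 (.node (nat_lit 0x90004448021024050002280201100900c0a0) (.node (nat_lit 0x90004144002220a0100a440001100c000b80) (.leaf [nat_lit 6, nat_lit 1, nat_lit 4, nat_lit 5, nat_lit 2]) (.node (nat_lit 0x900042440021204208089100022804010490) (.leaf [nat_lit 1, nat_lit 6, nat_lit 4, nat_lit 5, nat_lit 4]) (.leaf [nat_lit 4, nat_lit 5, nat_lit 0, nat_lit 5, nat_lit 4])))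
 (.node (nat_lit 0x90005048020420a001045800020128010482) (.node (nat_lit 0x900048408c002042020c2080020130011005) (.leaf [nat_lit 2, nat_lit 4, nat_lit 3, nat_lit 1, nat_lit 4]) (.leaf [nat_lit 4, nat_lit 3, nat_lit 2, nat_lit 4, nat_lit 5, nat_lit 2])) (.node (nat_lit 0x90006044000329080002011800c084003600) (.leaf [nat_lit 5, nat_lit 6, nat_lit 5, nat_lit 2, nat_lit 6]) (.leaf [nat_lit 0, nat_lit 4, nat_lit 0, nat_lit 5, nat_lit 2])))))))
 (.node (nat_lit 0x900410401101220a000c80200100c200600c) (.node (nat_lit 0x90018040000e28401005102002a400000a41) (.node (nat_lit 0x90010140141023000208202404c008000ac0) (.node (nat_lit 0x9000884001062004210c2040034800009210) (.node (nat_lit 0x90008240010c2488000a0220010450007001) (.leaf [nat_lit 6, nat_lit 3, nat_lit 4, nat_lit 0, nat_lit 3]) (.node (nat_lit 0x90008440010a212200081c0006001100c060) (.leaf [nat_lit 3, nat_lit 1, nat_lit 4, nat_lit 6]) (.leaf [nat_lit 2, nat_lit 0, nat_lit 4, nat_lit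 2, nat_lit 5])))
 (.node (nat_lit 0x9000a04028102004090a020205110000c044) (.node (nat_lit 0x900090402820284100060005010442009208) (.leaf [nat_lit 1, nat_lit 5, nat_lit 6, nat_lit 5, nat_lit 2]) (.leaf [nat_lit 5, nat_lit 0, nat_lit 4, nat_lit 5, nat_lit 2])) (.node (nat_lit 0x9000c06210000c200801041200c024000b01) (.leaf [nat_lit 3, nat_lit 1, nat_lit 4, nat_lit 3, nat_lit 4]) (.leaf [nat_lit 6, nat_lit 3, nat_lit 5, nat_lit 1, nat_lit 4]))))
 (.node (nat_lit 0x90010840008620380009060004c001020070) (.node (nat_lit 0x90010240008c230001089040042210004c20) (.leaf [nat_lit 4, nat_lit 6, nat_lit 4, nat_lit 2, nat_lit 3]) (.node (nat_lit 0x90010440008a240440082021025200018810) (.leaf [nat_lit 6, nat_lit 5, nat_lit 2, nat_lit 3]) (.leaf [nat_lit 5, nat_lit 1, nat_lit 5, nat_lit 0, nat_lit 4])))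
 (.node (nat_lit 0x900120608200082005051080020058004c02) (.node (nat_lit 0x900110401401284080042202020068018804) (.leaf [nat_lit 1, nat_lit 5, nat_lit 6, nat_lit 2, nat_lit 5]) (.leaf [nat_lit 2, nat_lit 4, nat_lit 6, nat_lit 0, nat_lit 4])) (.node (nat_lit 0x900140416000240404089002020038000a81) (.leaf [nat_lit 4, nat_lit 6, nat_lit 4, nat_lit 2]) (.leaf [nat_lit 5, nat_lit 0, nat_lit 4, nat_lit 6, nat_lit 0, nat_lit 5])))))
 (.node (nat_lit 0x90024048001420400a078000003420000981) (.node (nat_lit 0x900204480050212080040828025100008403) (.node (nat_lit 0x9002014220082c10000140300084060009c0) (.leaf [nat_lit 6, nat_lit 5, nat_lit 2]) (.node (nat_lit 0x9002024118002040480a00a0042110008405) (.leaf [nat_lit 5, nat_lit 6, nat_lit 2, nat_lit 5]) (.leaf [nat_lit 5, nat_lit 4, nat_lit 3, nat_lit 4])))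
 (.node (nat_lit 0x900210480044220c00042102014021009088) (.node (nat_lit 0x900208422001204042090500040824009090) (.leaf [nat_lit 2, nat_lit 3, nat_lit 4, nat_lit 5]) (.leaf [nat_lit 4, nat_lit 5, nat_lit 3, nat_lit 5, nat_lit 4])) (.node (nat_lit 0x9002206081000a008204080c014011003440) (.leaf [nat_lit 4, nat_lit 6, nat_lit 3, nat_lit 0, nat_lit 4]) (.leaf [nat_lit 2, nat_lit 1, nat_lit 5, nat_lit 3]))))
 (.node (nat_lit 0x9004014011102000a80a4040052800008206) (.node (nat_lit 0x9002804444002120040a0022009018000941) (.leaf [nat_lit 1, nat_lit 6, nat_lit 0, nat_lit 4, nat_lit 3]) (.node (nat_lit 0x9003006080200904080420120250040008c1) (.leaf [nat_lit 2, nat_lit 5, nat_lit 6, nat_lit 5, nat_lit 4, nat_lit 3]) (.leaf [nat_lit 2, nat_lit 6, nat_lit 0, nat_lit 4])))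
 (.node (nat_lit 0x900404430020240140081880008203006018) (.node (nat_lit 0x9004026820000610080100d0008205004920) (.leaf [nat_lit 5, nat_lit 6, nat_lit 0, nat_lit 5, nat_lit 2]) (.leaf [nat_lit 5, nat_lit 4, nat_lit 1, nat_lit 4])) (.node (nat_lit 0x9004084088402000a1090300061002006014) (.leaf [nat_lit 5, nat_lit 4, nat_lit 2, nat_lit 4]) (.leaf [nat_lit 6, nat_lit 4, nat_lit 0, nat_lit 3]))))))
 (.node (nat_lit 0x9009004e00002030080180140044220002c1) (.node (nat_lit 0x900802411200248080080019022044004520) (.node (nat_lit 0x90048044420020002908180402a100010052) (.node (nat_lit 0x9004204300042000890c8010004902003240) (.leaf [nat_lit 6, nat_lit 5, nat_lit 0, nat_lit 5]) (.node (nat_lit 0x9004404088082401040a4001010092003220) (.leaf [nat_lit 3, nat_lit 4, nat_lit 2, nat_lit 3, nat_lit 4]) (.leaf [nat_lit 0, nat_lit 5, nat_lit 0, nat_lit 6, nat_lit 4])))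
 (.node (nat_lit 0x900600444080220810090108008007003060) (.node (nat_lit 0x90050040101124004409020802a080004822) (.leaf [nat_lit 4, nat_lit 2, nat_lit 4, nat_lit 3]) (.leaf [nat_lit 1, nat_lit 5, nat_lit 2, nat_lit 3])) (.node (nat_lit 0x90080160400408001a0524000290200003c0) (.leaf [nat_lit 5]) (.leaf [nat_lit 2, nat_lit 6, nat_lit 2, nat_lit 3]))))
 (.node (nat_lit 0x9008104020a022060008000b045040018104) (.node (nat_lit 0x900804604001081480040228022042018110) (.leaf [nat_lit 3, nat_lit 2, nat_lit 1, nat_lit 3]) (.node (nat_lit 0x900808408440203100080013040224034080) (.leaf [nat_lit 3, nat_lit 5, nat_lit 0, nat_lit 4, nat_lit 0, nat_lit 3]) (.leaf [nat_lit 3, nat_lit 2, nat_lit 5])))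
 (.node (nat_lit 0x900840408408290020045010022006000381) (.node (nat_lit 0x90082040209029004004020c029001004502) (.leaf [nat_lit 4]) (.leaf [nat_lit 1, nat_lit 4, nat_lit 6, nat_lit 3])) (.node (nat_lit 0x900880402030248002081404034008000341) (.leaf [nat_lit 4, nat_lit 6, nat_lit 4, nat_lit 2, nat_lit 5]) (.leaf [nat_lit 4, nat_lit 1, nat_lit 6, nat_lit 4])))))
 (.node (nat_lit 0x9010104005012000260b2000044840008288) (.node (nat_lit 0x9010014005102c020002882001004c006082) (.node (nat_lit 0x900a0041100222041008e00004002c0001c1) (.leaf [nat_lit 5, nat_lit 2, nat_lit 0, nat_lit 6]) (.node (nat_lit 0x900c00408048220210081084052001004122) (.leaf [nat_lit 0, nat_lit 4, nat_lit 6, nat_lit 2, nat_lit 3]) (.leaf [nat_lit 3, nat_lit 2, nat_lit 4, nat_lit 6, nat_lit 1, nat_lit 4])))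
 (.node (nat_lit 0x90100444a000200032080c80024300010049) (.node (nat_lit 0x901002410a00200034088140060408006081) (.leaf [nat_lit 4, nat_lit 6, nat_lit 2, nat_lit 5, nat_lit 2, nat_lit 3]) (.leaf [nat_lit 6, nat_lit 2, nat_lit 4, nat_lit 2, nat_lit 3])) (.node (nat_lit 0x901008484020202900060402010045008290) (.leaf [nat_lit 3, nat_lit 0, nat_lit 5, nat_lit 6]) (.leaf [nat_lit 0, nat_lit 5, nat_lit 3, nat_lit 4, nat_lit 5, nat_lit 2]))))
 (.node (nat_lit 0x901080620040080c04050120008218006003) (.node (nat_lit 0x901020484008200016050180028801002640) (.leaf [nat_lit 6, nat_lit 0, nat_lit 5, nat_lit 0, nat_lit 4, nat_lit 2]) (.node (nat_lit 0x90104062008008810204481001000d002620) (.leaf [nat_lit 6, nat_lit 1, nat_lit 4]) (.leaf [nat_lit 0, nat_lit 3, nat_lit 4, nat_lit 2])))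
 (.node (nat_lit 0x9012004108022c0001024104008098002460) (.node (nat_lit 0x9011004004112028080880420500a0024204) (.leaf [nat_lit 5, nat_lit 3, nat_lit 5, nat_lit 1, nat_lit 4]) (.leaf [nat_lit 6, nat_lit 5, nat_lit 3, nat_lit 4, nat_lit 5])) (.node (nat_lit 0x90140040011121c00008088406000a002260) (.leaf [nat_lit 2, nat_lit 0, nat_lit 5, nat_lit 0, nat_lit 4]) (.leaf [nat_lit 3, nat_lit 5]))))))))
 (.node (nat_lit 0x911000400a0220c4000a20100401a000004d) (.node (nat_lit 0x906000410140260020088a0000108300041c) (.node (nat_lit 0x9030004480042009080b0010004083000660) (.node (nat_lit 0x90202040089026400008010501800a001640) (.node (nat_lit 0x902004449000210280080121020842004418) (.node (nat_lit 0x902001420208208050080124050c00005082) (.leaf [nat_lit 5, nat_lit 2, nat_lit 4, nat_lit 1, nat_lit 3]) (.node (nat_lit 0x902002680400040310020844018028005081) (.leaf [nat_lit 4, nat_lit 1, nat_lit 5, nat_lit 6, nat_lit 5, nat_lit 3]) (.leaf [nat_lit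 4, nat_lit 3, nat_lit 4, nat_lit 6, nat_lit 4]))) (.node (nat_lit 0x9020084202012019000c00c0018022004414) (.leaf [nat_lit 0, nat_lit 5, nat_lit 1, nat_lit 4, nat_lit 5]) (.node (nat_lit 0x9020104008a02080410b100004030200440c) (.leaf [nat_lit 1, nat_lit 5, nat_lit 4, nat_lit 3]) (.leaf [nat_lit 5, nat_lit 3, nat_lit 4, nat_lit 1, nat_lit 3]))))
 (.node (nat_lit 0x902100414040201808080025040212028480) (.node (nat_lit 0x9020404141002080110c0088020806001620) (.leaf [nat_lit 3, nat_lit 2, nat_lit 5, nat_lit 4, nat_lit 2]) (.node (nat_lit 0x9020804008302102040c0048028500005003) (.leaf [nat_lit 3, nat_lit 2, nat_lit 6, nat_lit 5, nat_lit 4, nat_lit 2]) (.leaf [nat_lit 4, nat_lit 1, nat_lit 5, nat_lit 6, nat_lit 5])))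
 (.node (nat_lit 0x90240068000205080102818000401c001260) (.node (nat_lit 0x90220042000921008408c800040112001460) (.leaf [nat_lit 1, nat_lit 6, nat_lit 0, nat_lit 5, nat_lit 4]) (.leaf [nat_lit 4, nat_lit 3, nat_lit 0, nat_lit 4])) (.node (nat_lit 0x9028004000b020110808c200050401020046) (.leaf [nat_lit 4, nat_lit 6, nat_lit 5, nat_lit 0, nat_lit 3]) (.leaf [nat_lit 3, nat_lit 4, nat_lit 6, nat_lit 4])))))
 (.node (nat_lit 0x90404041210020020a0a04010418100080a4) (.node (nat_lit 0x9040046008010d00020213000080e0002418) (.node (nat_lit 0x9040016008040a0440048108010230003082) (.leaf [nat_lit 5, nat_lit 1, nat_lit 3, nat_lit 5, nat_lit 4]) (.node (nat_lit 0x9040024280102002480d0004003081000d20) (.leaf [nat_lit 3, nat_lit 2, nat_lit 0, nat_lit 5, nat_lit 4]) (.leaf [nat_lit 5, nat_lit 1, nat_lit 5, nat_lit 3, nat_lit 4])))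
 (.node (nat_lit 0x90401042800228018004184001022100240c) (.node (nat_lit 0x904008481020200242048101030880002414) (.leaf [nat_lit 1, nat_lit 5, nat_lit 3, nat_lit 4]) (.leaf [nat_lit 5, nat_lit 1, nat_lit 5, nat_lit 6])) (.node (nat_lit 0x9040204810082620000102110080c4000d02) (.leaf [nat_lit 4, nat_lit 2, nat_lit 4, nat_lit 5]) (.leaf [nat_lit 5, nat_lit 0, nat_lit 3, nat_lit 0, nat_lit 5]))))
 (.node (nat_lit 0x90420044048020004a08a800021104010031) (.node (nat_lit 0x904080440600280110030808008064003003) (.leaf [nat_lit 2, nat_lit 4, nat_lit 6]) (.node (nat_lit 0x904100412040280090048009021204000c22) (.leaf [nat_lit 6, nat_lit 4, nat_lit 1, nat_lit 6, nat_lit 4]) (.leaf [nat_lit 2, nat_lit 3, nat_lit 4, nat_lit 0, nat_lit 3])))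
 (.node (nat_lit 0x90480060000508a200041050030088000522) (.node (nat_lit 0x9044004402802190000a004100201c000922) (.leaf [nat_lit 0, nat_lit 3, nat_lit 0, nat_lit 5]) (.leaf [nat_lit 4, nat_lit 2, nat_lit 5, nat_lit 3])) (.node (nat_lit 0x905000480028218400040850020304002083) (.leaf [nat_lit 1, nat_lit 5, nat_lit 3, nat_lit 4]) (.leaf [nat_lit 4, nat_lit 5, nat_lit 6, nat_lit 5]))))))
 (.node (nat_lit 0x90a000441004200051084a0002058001002a) (.node (nat_lit 0x908040400c082020110811020702000040a4) (.node (nat_lit 0x9080044430002a00080109100040e0000603) (.node (nat_lit 0x908001490080202050044108021820000606) (.leaf [nat_lit 4, nat_lit 5, nat_lit 3, nat_lit 2, nat_lit 4]) (.node (nat_lit 0x908002424010240880081140012028000605) (.leaf [nat_lit 2, nat_lit 4, nat_lit 5, nat_lit 6]) (.leaf [nat_lit 2, nat_lit 4, nat_lit 5, nat_lit 2])))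
 (.node (nat_lit 0x9080104240022020410c0420010904001288) (.node (nat_lit 0x908008400c402a0004044101012022001290) (.leaf [nat_lit 2, nat_lit 4, nat_lit 5]) (.leaf [nat_lit 3, nat_lit 5, nat_lit 0, nat_lit 5, nat_lit 4])) (.node (nat_lit 0x9080206003000c041002180101200a0040c4) (.leaf [nat_lit 3, nat_lit 5, nat_lit 0, nat_lit 4, nat_lit 6]) (.leaf [nat_lit 4, nat_lit 3, nat_lit 5, nat_lit 4, nat_lit 5]))))
 (.node (nat_lit 0x908200600120086800070040001098000407) (.node (nat_lit 0x908080490001240802022500004064001218) (.leaf [nat_lit 6, nat_lit 4, nat_lit 6, nat_lit 3]) (.node (nat_lit 0x908100600220081042044009022480010814) (.leaf [nat_lit 3, nat_lit 2, nat_lit 5, nat_lit 3, nat_lit 4]) (.leaf [nat_lit 4, nat_lit 0, nat_lit 4, nat_lit 3])))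
 (.node (nat_lit 0x908800400448240082086200021021010114) (.node (nat_lit 0x9084004008482150000c0030022180000207) (.leaf [nat_lit 0, nat_lit 4, nat_lit 5]) (.leaf [nat_lit 1, nat_lit 4, nat_lit 6])) (.node (nat_lit 0x909000442004214400080142020821000298) (.leaf [nat_lit 1, nat_lit 6, nat_lit 4]) (.leaf [nat_lit 6, nat_lit 5, nat_lit 0, nat_lit 4])))))
 (.node (nat_lit 0x91002042040428084004118000a00a004211) (.node (nat_lit 0x910002401a002201010c400400a0280004d0) (.node (nat_lit 0x90c000420012211400082a000401090000e4) (.leaf [nat_lit 6, nat_lit 1, nat_lit 4, nat_lit 0, nat_lit 6]) (.node (nat_lit 0x910001488080220102042c0000423000104c) (.leaf [nat_lit 1, nat_lit 5, nat_lit 6]) (.leaf [nat_lit 3, nat_lit 4, nat_lit 6, nat_lit 3, nat_lit 2, nat_lit 3])))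
 (.node (nat_lit 0x91000864001008070002488000a022001045) (.node (nat_lit 0x9100044204202022800c4002008910001049) (.leaf [nat_lit 1, nat_lit 5, nat_lit 3, nat_lit 5, nat_lit 4]) (.leaf [nat_lit 4, nat_lit 3, nat_lit 5, nat_lit 6])) (.node (nat_lit 0x9100106400080a30000089040042210004c2) (.leaf [nat_lit 3, nat_lit 4, nat_lit 1, nat_lit 6, nat_lit 4, nat_lit 2]) (.leaf [nat_lit 4, nat_lit 1, nat_lit 5, nat_lit 4]))))
 (.node (nat_lit 0x9101004060402200030806080410a0008814) (.node (nat_lit 0x91004040610028082006820000100d000492) (.leaf [nat_lit 2, nat_lit 4, nat_lit 2, nat_lit 5]) (.node (nat_lit 0x910080488001202204041120024808000452) (.leaf [nat_lit 4, nat_lit 3, nat_lit 2, nat_lit 4]) (.leaf [nat_lit 6, nat_lit 5, nat_lit 4, nat_lit 5])))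
 (.node (nat_lit 0x91040042002420d0000803080428010000d2) (.node (nat_lit 0x910200401802202084080508068040004031) (.leaf [nat_lit 4, nat_lit 5, nat_lit 3, nat_lit 4, nat_lit 5]) (.leaf [nat_lit 4, nat_lit 1, nat_lit 5, nat_lit 0, nat_lit 4])) (.node (nat_lit 0x910800401202280060042401024088008114) (.leaf [nat_lit 6, nat_lit 5, nat_lit 3, nat_lit 0, nat_lit 4]) (.leaf [nat_lit 0, nat_lit 6, nat_lit 2, nat_lit 3, nat_lit 4])))))))
 (.node (nat_lit 0x940080404600208802082048020015011120) (.node (nat_lit 0x920400410024200a1008404104100a00a180) (.node (nat_lit 0x920008402201288004041402014880000170) (.node (nat_lit 0x91800048008120540006024000202a000914) (.node (nat_lit 0x9120004041402002840a1010040c0100802a) (.leaf [nat_lit 3, nat_lit 4, nat_lit 2]) (.node (nat_lit 0x9140004021402094000c0006020888000231) (.leaf [nat_lit 5, nat_lit 1, nat_lit 4, nat_lit 6]) (.leaf [nat_lit 4, nat_lit 6, nat_lit 0, nat_lit 4])))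
 (.node (nat_lit 0x92000240c0102101010802a0041408002844) (.node (nat_lit 0x920001402208210102084440040094009820) (.leaf [nat_lit 4, nat_lit 5, nat_lit 3]) (.leaf [nat_lit 6, nat_lit 2, nat_lit 0, nat_lit 4, nat_lit 1, nat_lit 3])) (.node (nat_lit 0x920004410420288008040091005300002842) (.leaf [nat_lit 2, nat_lit 1, nat_lit 3, nat_lit 4, nat_lit 6, nat_lit 4]) (.leaf [nat_lit 4, nat_lit 5, nat_lit 0, nat_lit 4]))))
 (.node (nat_lit 0x920040601080084401058200002806000138) (.node (nat_lit 0x92001040c002200e00093000040085000168) (.leaf [nat_lit 5, nat_lit 4, nat_lit 5, nat_lit 1, nat_lit 6]) (.node (nat_lit 0x920020410404246000080282009801000158) (.leaf [nat_lit 4, nat_lit 5, nat_lit 0, nat_lit 4]) (.leaf [nat_lit 4, nat_lit 5, nat_lit 6, nat_lit 2, nat_lit 3])))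
 (.node (nat_lit 0x9201004c080021000300a480005204000078) (.node (nat_lit 0x92008060104008022204001501480800a500) (.leaf [nat_lit 4, nat_lit 6, nat_lit 3, nat_lit 2, nat_lit 5, nat_lit 4]) (.leaf [nat_lit 6, nat_lit 0, nat_lit 4, nat_lit 2])) (.node (nat_lit 0x920200402009200c100800a2058040005104) (.leaf [nat_lit 2, nat_lit 3, nat_lit 5, nat_lit 1, nat_lit 4]) (.leaf [nat_lit 4, nat_lit 5, nat_lit 6, nat_lit 3])))))
 (.node (nat_lit 0x940001400062281200020094012c0000c108) (.node (nat_lit 0x922000400209244020091010008580000846) (.node (nat_lit 0x9208004c0100200610014088009021002046) (.leaf [nat_lit 4, nat_lit 1, nat_lit 5, nat_lit 3]) (.node (nat_lit 0x9210006000c009201004040a008821004304) (.leaf [nat_lit 6, nat_lit 4, nat_lit 2, nat_lit 5]) (.leaf [nat_lit 5, nat_lit 1, nat_lit 4, nat_lit 1, nat_lit 3])))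
 (.node (nat_lit 0x92800040401228000c050240002580001821) (.node (nat_lit 0x924000408012242020080441010888001304) (.leaf [nat_lit 3, nat_lit 4, nat_lit 5, nat_lit 6, nat_lit 3, nat_lit 4]) (.leaf [nat_lit 5, nat_lit 4, nat_lit 2, nat_lit 5, nat_lit 3])) (.node (nat_lit 0x930000400424200103083010048240004888) (.leaf [nat_lit 3, nat_lit 0, nat_lit 4, nat_lit 6, nat_lit 5]) (.leaf [nat_lit 1, nat_lit 5, nat_lit 3, nat_lit 5, nat_lit 4]))))
 (.node (nat_lit 0x9400086100100820c002140200c101000a24) (.node (nat_lit 0x940002400061208880094004021408002310) (.leaf [nat_lit 0, nat_lit 5, nat_lit 4, nat_lit 3]) (.node (nat_lit 0x94000440b000200540094002020091000a28) (.leaf [nat_lit 0, nat_lit 5, nat_lit 4, nat_lit 6]) (.leaf [nat_lit 6, nat_lit 3, nat_lit 4, nat_lit 1, nat_lit 6])))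
 (.node (nat_lit 0x940020400043226000088410011180000a0c) (.node (nat_lit 0x940010610008088420020085005840002302) (.leaf [nat_lit 5, nat_lit 2, nat_lit 1, nat_lit 3, nat_lit 4]) (.leaf [nat_lit 4, nat_lit 5, nat_lit 3, nat_lit 4])) (.node (nat_lit 0x940040400023200504082088038200005810) (.leaf [nat_lit 3, nat_lit 5, nat_lit 4, nat_lit 2]) (.leaf [nat_lit 1, nat_lit 5, nat_lit 2, nat_lit 4]))))))
 (.node (nat_lit 0x9800084050202280040420c0010700000813) (.node (nat_lit 0x944000400680222020090006008109001850) (.node (nat_lit 0x94040040428020014408803002100a012801) (.node (nat_lit 0x9401004a08002004440110a000c009002212) (.leaf [nat_lit 6, nat_lit 3, nat_lit 4, nat_lit 2]) (.node (nat_lit 0x94020040448028100103804000211200082c) (.leaf [nat_lit 3, nat_lit 0, nat_lit 4, nat_lit 3]) (.leaf [nat_lit 0, nat_lit 6, nat_lit 0, nat_lit 5])))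
 (.node (nat_lit 0x94100040a00428020102040a0101a0004850) (.node (nat_lit 0x9408004a010020808201240100505000022c) (.leaf [nat_lit 6, nat_lit 5, nat_lit 0, nat_lit 6, nat_lit 4]) (.leaf [nat_lit 1, nat_lit 4, nat_lit 6, nat_lit 2, nat_lit 3])) (.node (nat_lit 0x9420004090042240200800c8010c01000312) (.leaf [nat_lit 5, nat_lit 4, nat_lit 5]) (.leaf [nat_lit 5, nat_lit 1, nat_lit 6, nat_lit 4, nat_lit 3]))))
 (.node (nat_lit 0x96000048090020602001824000140a000095) (.node (nat_lit 0x948000403004200882080430030240004109) (.leaf [nat_lit 4, nat_lit 5, nat_lit 6, nat_lit 3, nat_lit 4]) (.node (nat_lit 0x950000600018084006028240002c010011a0) (.leaf [nat_lit 3, nat_lit 1, nat_lit 4]) (.leaf [nat_lit 4, nat_lit 5, nat_lit 6, nat_lit 4])))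
 (.node (nat_lit 0x9800026024000540040202a0009140000819) (.node (nat_lit 0x98000141808024120002444000212400081a) (.leaf [nat_lit 4, nat_lit 5, nat_lit 4]) (.leaf [nat_lit 4, nat_lit 1, nat_lit 3, nat_lit 5])) (.node (nat_lit 0x980004400250228008054002002121001c80) (.leaf [nat_lit 3, nat_lit 2, nat_lit 0, nat_lit 3]) (.leaf [nat_lit 5, nat_lit 4, nat_lit 2, nat_lit 1, nat_lit 6, nat_lit 4])))))
 (.node (nat_lit 0x980400602002048030024041010308001884) (.node (nat_lit 0x980040400214210820042088024401009102) (.node (nat_lit 0x98001040024420418004842003300000080b) (.leaf [nat_lit 3, nat_lit 2, nat_lit 1, nat_lit 5]) (.node (nat_lit 0x980020405008210840048410020282002105) (.leaf [nat_lit 1, nat_lit 3, nat_lit 1, nat_lit 4]) (.leaf [nat_lit 3, nat_lit 1, nat_lit 4, nat_lit 1, nat_lit 5])))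
 (.node (nat_lit 0x980100460800204090010608009042002025) (.node (nat_lit 0x980080418001204110042048020222001c04) (.leaf [nat_lit 5, nat_lit 2, nat_lit 6, nat_lit 4, nat_lit 3]) (.leaf [nat_lit 5, nat_lit 0, nat_lit 3, nat_lit 4])) (.node (nat_lit 0x9802004000542410010200a201050800e800) (.leaf [nat_lit 6, nat_lit 4, nat_lit 0, nat_lit 5]) (.leaf [nat_lit 6, nat_lit 2, nat_lit 3, nat_lit 0, nat_lit 4]))))
 (.node (nat_lit 0x9820006004020400c803101000ca00000125) (.node (nat_lit 0x98080046010021006000e20000148400001b) (.leaf [nat_lit 3, nat_lit 4, nat_lit 5, nat_lit 1, nat_lit 5]) (.node (nat_lit 0x981000404028240201032010008142000c84) (.leaf []) (.leaf [nat_lit 5, nat_lit 3, nat_lit 4, nat_lit 6, nat_lit 3])))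
 (.node (nat_lit 0x98800041008122000c040430006a00001142) (.node (nat_lit 0x98400040102820019005000602044100aa00) (.leaf [nat_lit 4, nat_lit 1, nat_lit 4, nat_lit 5]) (.leaf [nat_lit 0, nat_lit 4, nat_lit 6, nat_lit 3, nat_lit 4])) (.node (nat_lit 0x990000408081200860044006023010000708) (.leaf [nat_lit 6, nat_lit 5, nat_lit 3, nat_lit 0, nat_lit 5]) (.leaf [nat_lit 6, nat_lit 5, nat_lit 0, nat_lit 5, nat_lit 4]))))))))))
 (.node (nat_lit 0xc0001835000008a1000218040040c1000622) (.node (nat_lit 0xa080084010031a00040426000101c0004830) (.node (nat_lit 0xa00500424008140044088801012030001282) (.node (nat_lit 0xa0009040840418410004026002200a011801) (.node (nat_lit 0xa000224140801010140c0108028440002a01) (.node (nat_lit 0xa0000a4090011042400c0120022090010c04) (.node (nat_lit 0xa000055048000800c2058020023400000318) (.node (nat_lit 0x9c00004209002012010140060084300020c8) (.leaf [nat_lit 4, nat_lit 6, nat_lit 4, nat_lit 5, nat_lit 4]) (.node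 (nat_lit 0xa000034090081301000800c4044410002a20) (.leaf [nat_lit 3, nat_lit 0, nat_lit 4, nat_lit 6, nat_lit 4]) (.leaf [nat_lit 6, nat_lit 1, nat_lit 4, nat_lit 6, nat_lit 4]))) (.node (nat_lit 0xa000064602001010300800c1010c0800e100) (.leaf [nat_lit 6, nat_lit 1, nat_lit 4, nat_lit 6, nat_lit 4, nat_lit 2]) (.node (nat_lit 0xa000094090021004a0096000060840000314) (.leaf [nat_lit 1, nat_lit 3, nat_lit 4, nat_lit 6, nat_lit 4]) (.leaf [nat_lit 4, nat_lit 1, nat_lit 3, nat_lit 4]))))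
 (.node (nat_lit 0xa00012400940101024098200044401022088) (.node (nat_lit 0xa0000c4020601a8000045080010c02000311) (.leaf [nat_lit 6, nat_lit 5, nat_lit 1, nat_lit 6, nat_lit 4, nat_lit 3]) (.node (nat_lit 0xa000114a002010a04004440201188000030c) (.leaf [nat_lit 1, nat_lit 3, nat_lit 2, nat_lit 5, nat_lit 3]) (.leaf [nat_lit 2, nat_lit 0, nat_lit 5, nat_lit 3])))
 (.node (nat_lit 0xa0001855000008144002208200c820000305) (.node (nat_lit 0xa000144084801010220c2800034040000309) (.leaf [nat_lit 0, nat_lit 4, nat_lit 5, nat_lit 2, nat_lit 1, nat_lit 3]) (.leaf [nat_lit 2, nat_lit 0, nat_lit 5, nat_lit 6])) (.node (nat_lit 0xa000214a0010100488058004005140002a02) (.leaf [nat_lit 1, nat_lit 4, nat_lit 6, nat_lit 4, nat_lit 2]) (.leaf [nat_lit 5, nat_lit 2, nat_lit 0, nat_lit 4, nat_lit 6])))))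
 (.node (nat_lit 0xa00048402024104202081410060801018180) (.node (nat_lit 0xa000304a00011010060402c001250000c808) (.node (nat_lit 0xa00024402048101012084600058001020980) (.leaf [nat_lit 1, nat_lit 3, nat_lit 5, nat_lit 2, nat_lit 6]) (.node (nat_lit 0xa000284020441004810c010203120000c810) (.leaf [nat_lit 1, nat_lit 5, nat_lit 6, nat_lit 4]) (.leaf [nat_lit 0, nat_lit 5, nat_lit 1, nat_lit 3, nat_lit 4])))
 (.node (nat_lit 0xa00042400910104208080085053000028420) (.node (nat_lit 0xa0004141060010a010080086060808005120) (.leaf [nat_lit 0, nat_lit 5, nat_lit 6, nat_lit 2, nat_lit 5]) (.leaf [nat_lit 4, nat_lit 5, nat_lit 6])) (.node (nat_lit 0xa00044402028140500080083034010009a00) (.leaf [nat_lit 4, nat_lit 5]) (.leaf [nat_lit 4, nat_lit 5, nat_lit 2]))))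
 (.node (nat_lit 0xa0008144210010042808004602c200011810) (.node (nat_lit 0xa0005040090210a0010814080402a0034004) (.leaf [nat_lit 6, nat_lit 5, nat_lit 4, nat_lit 0, nat_lit 3]) (.node (nat_lit 0xa0006040200c190800040290028402005101) (.leaf [nat_lit 0, nat_lit 3, nat_lit 4, nat_lit 6, nat_lit 4]) (.leaf [nat_lit 4, nat_lit 6, nat_lit 5, nat_lit 0, nat_lit 5])))
 (.node (nat_lit 0xa00084408410112200080043045008020920) (.node (nat_lit 0xa00082414020148800080045022018001700) (.leaf [nat_lit 4, nat_lit 6, nat_lit 3, nat_lit 4]) (.leaf [nat_lit 4, nat_lit 6, nat_lit 3, nat_lit 4, nat_lit 2])) (.node (nat_lit 0xa00088480a00100421045004022012018140) (.leaf [nat_lit 2, nat_lit 5, nat_lit 4, nat_lit 1, nat_lit 4]) (.leaf [nat_lit 2, nat_lit 6, nat_lit 4, nat_lit 0, nat_lit 3]))))))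
 (.node (nat_lit 0xa0020848088010404204a400031020000115) (.node (nat_lit 0xa0011040084218408006900001242000020d) (.node (nat_lit 0xa00101442080130002088c0000506000021c) (.node (nat_lit 0xa000a041400210040908b000040250020904) (.leaf [nat_lit 2, nat_lit 6, nat_lit 5, nat_lit 0, nat_lit 5]) (.node (nat_lit 0xa000c0521000080007040230018108006c00) (.leaf [nat_lit 1, nat_lit 4, nat_lit 3, nat_lit 1, nat_lit 4]) (.leaf [nat_lit 4, nat_lit 6])))
 (.node (nat_lit 0xa001044910001404400208a000e002000219) (.node (nat_lit 0xa001024008501300010c002800e004001680) (.leaf [nat_lit 6, nat_lit 2, nat_lit 3]) (.leaf [nat_lit 0, nat_lit 5, nat_lit 3, nat_lit 4, nat_lit 2, nat_lit 3])) (.node (nat_lit 0xa001084244001038000c00220180c0000215) (.leaf [nat_lit 0, nat_lit 4, nat_lit 0, nat_lit 4]) (.leaf [nat_lit 2, nat_lit 3, nat_lit 2, nat_lit 5]))))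
 (.node (nat_lit 0xa00180442001184010020824018048001602) (.node (nat_lit 0xa001205082000c000a020884012410005041) (.leaf [nat_lit 2, nat_lit 4]) (.node (nat_lit 0xa001404008121404040a2200018088005021) (.leaf [nat_lit 0, nat_lit 4, nat_lit 2, nat_lit 6, nat_lit 3]) (.leaf [nat_lit 2, nat_lit 1, nat_lit 6, nat_lit 4])))
 (.node (nat_lit 0xa00202460004104048098010002821001580) (.node (nat_lit 0xa002014104401c100002c08000282200011c) (.leaf [nat_lit 0, nat_lit 3, nat_lit 2, nat_lit 5, nat_lit 4]) (.leaf [nat_lit 6, nat_lit 3, nat_lit 2, nat_lit 3])) (.node (nat_lit 0xa00204460002112080084420009840000119) (.leaf [nat_lit 6, nat_lit 5, nat_lit 3, nat_lit 4, nat_lit 0, nat_lit 3]) (.leaf [nat_lit 0, nat_lit 3, nat_lit 2, nat_lit 0, nat_lit 3])))))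
 (.node (nat_lit 0xa0040258200004401102806001080c001380) (.node (nat_lit 0xa0024041040110400a0a21000400b0009804) (.node (nat_lit 0xa00210407000120c000980020400e000010d) (.leaf [nat_lit 1, nat_lit 6, nat_lit 4, nat_lit 2]) (.node (nat_lit 0xa002205081000844040400d0031008002803) (.leaf [nat_lit 3, nat_lit 2, nat_lit 4]) (.leaf [nat_lit 3, nat_lit 2, nat_lit 3, nat_lit 5, nat_lit 0, nat_lit 4])))
 (.node (nat_lit 0xa003005080200a204005480000148200001d) (.node (nat_lit 0xa0028048080811200404007002c001001502) (.leaf [nat_lit 0, nat_lit 3, nat_lit 4, nat_lit 5]) (.leaf [nat_lit 6, nat_lit 2, nat_lit 1, nat_lit 5, nat_lit 4])) (.node (nat_lit 0xa004014102401000a8088900044012023004) (.leaf [nat_lit 2]) (.leaf [nat_lit 5, nat_lit 6, nat_lit 4, nat_lit 1, nat_lit 4]))))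
 (.node (nat_lit 0xa00410408084120a00081048044003012120) (.node (nat_lit 0xa0040440809014014008422002300101080a) (.leaf [nat_lit 0, nat_lit 4, nat_lit 2, nat_lit 5]) (.node (nat_lit 0xa004084241001000a108105004a200010806) (.leaf [nat_lit 2, nat_lit 3, nat_lit 1, nat_lit 4, nat_lit 6]) (.leaf [nat_lit 0, nat_lit 6, nat_lit 4, nat_lit 2, nat_lit 5])))
 (.node (nat_lit 0xa00440410201140104081018028022006880) (.node (nat_lit 0xa00420441800100089084204028042012110) (.leaf [nat_lit 5, nat_lit 0, nat_lit 5, nat_lit 4]) (.leaf [nat_lit 3, nat_lit 4, nat_lit 1, nat_lit 4, nat_lit 3])) (.node (nat_lit 0xa004804080141000290f0000006840001302) (.leaf [nat_lit 1, nat_lit 5, nat_lit 4, nat_lit 1, nat_lit 3]) (.leaf [nat_lit 4, nat_lit 2, nat_lit 4, nat_lit 2, nat_lit 3])))))))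
 (.node (nat_lit 0xa020044000681102800c081002140100c102) (.node (nat_lit 0xa0100140800a1c0200022404010890004160) (.node (nat_lit 0xa008104001421206000c200401108100c028) (.node (nat_lit 0xa008024001501480800a500001040c002221) (.node (nat_lit 0xa0060041004112081008402404a008001182) (.leaf [nat_lit 2, nat_lit 4, nat_lit 1, nat_lit 6, nat_lit 4]) (.node (nat_lit 0xa00801504004088500060048011090002222) (.leaf [nat_lit 2, nat_lit 5, nat_lit 0, nat_lit 3, nat_lit 4]) (.leaf [nat_lit 6, nat_lit 5, nat_lit 2, nat_lit 4, nat_lit 2, nat_lit 3]))) (.node (nat_lit 0xa008045040010c20100201a001040a009240) (.leaf [nat_lit 5, nat_lit 1, nat_lit 5, nat_lit 4]) (.node (nat_lit 0xa0080848028010310006004101040600c030) (.leaf [nat_lit 3, nat_lit 5, nat_lit 1, nat_lit 4]) (.leaf [nat_lit 0, nat_lit 3, nat_lit 4, nat_lit 5, nat_lit 6]))))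
 (.node (nat_lit 0xa00880480208148002020124011011006440) (.node (nat_lit 0xa0082044140019004002018400c018002203) (.leaf [nat_lit 4, nat_lit 6, nat_lit 0, nat_lit 4]) (.node (nat_lit 0xa00840400112190020060009009204006480) (.leaf [nat_lit 2, nat_lit 4, nat_lit 6, nat_lit 4, nat_lit 2]) (.leaf [nat_lit 3, nat_lit 5, nat_lit 6, nat_lit 3])))
 (.node (nat_lit 0xa00a00480088120410054100009044002023) (.node (nat_lit 0xa009004000521030080884010542000200a4) (.leaf [nat_lit 5, nat_lit 2, nat_lit 3, nat_lit 5]) (.leaf [nat_lit 6, nat_lit 3, nat_lit 4, nat_lit 5])) (.node (nat_lit 0xa00c0044102012021008810101000e0060c0) (.leaf [nat_lit 5, nat_lit 1, nat_lit 5, nat_lit 4]) (.leaf [nat_lit 2, nat_lit 6, nat_lit 5, nat_lit 2])))))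
 (.node (nat_lit 0xa0108052004008a02004400c010811000702) (.node (nat_lit 0xa01008408003102900080450044084030220) (.node (nat_lit 0xa010024080091000340a4800052040000780) (.leaf [nat_lit 1, nat_lit 3, nat_lit 4, nat_lit 5, nat_lit 0, nat_lit 3]) (.node (nat_lit 0xa01004490100100032044088022401008a40) (.leaf [nat_lit 4, nat_lit 0, nat_lit 4, nat_lit 3, nat_lit 4]) (.leaf [nat_lit 0, nat_lit 5, nat_lit 6, nat_lit 2, nat_lit 3])))
 (.node (nat_lit 0xa01020440c0010001608a080030208004141) (.node (nat_lit 0xa01010406200100026080448068100010881) (.leaf [nat_lit 5, nat_lit 0, nat_lit 3, nat_lit 2, nat_lit 4]) (.leaf [nat_lit 6, nat_lit 0, nat_lit 5, nat_lit 2, nat_lit 4])) (.node (nat_lit 0xa01040520080080418052002008a04004121) (.leaf [nat_lit 0, nat_lit 5, nat_lit 6]) (.leaf [nat_lit 3, nat_lit 0, nat_lit 5, nat_lit 0, nat_lit 4]))))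
 (.node (nat_lit 0xa0140044082011c000080058022005000382) (.node (nat_lit 0xa01100490004102808068010004061000682) (.leaf [nat_lit 2, nat_lit 3, nat_lit 5]) (.node (nat_lit 0xa012004060101c0001030028008844000582) (.leaf [nat_lit 4, nat_lit 1, nat_lit 5, nat_lit 4, nat_lit 3]) (.leaf [nat_lit 5, nat_lit 4, nat_lit 1, nat_lit 5])))
 (.node (nat_lit 0xa02001440180108050094008021404000a22) (.node (nat_lit 0xa018004404201021080a4002010091008244) (.leaf [nat_lit 4, nat_lit 2, nat_lit 5, nat_lit 6, nat_lit 5]) (.leaf [nat_lit 4, nat_lit 6, nat_lit 3, nat_lit 4, nat_lit 5])) (.node (nat_lit 0xa0200258040005104002009800c104000a21) (.leaf [nat_lit 6, nat_lit 1, nat_lit 4, nat_lit 6, nat_lit 0, nat_lit 4]) (.leaf [nat_lit 5, nat_lit 1, nat_lit 4, nat_lit 5]))))))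
 (.node (nat_lit 0xa04008420500100242092001041084008830) (.node (nat_lit 0xa022004050101100840a0140048408000823) (.node (nat_lit 0xa0202040004c164000089080010510000a03) (.node (nat_lit 0xa02008400064101900094001048600020092) (.leaf [nat_lit 6, nat_lit 3, nat_lit 4, nat_lit 1, nat_lit 6, nat_lit 4]) (.node (nat_lit 0xa020104052001080410c080402008a010520) (.leaf [nat_lit 2, nat_lit 1, nat_lit 5, nat_lit 4, nat_lit 3]) (.leaf [nat_lit 5, nat_lit 3, nat_lit 0, nat_lit 4])))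
 (.node (nat_lit 0xa0208044010111020408902002001a004c40) (.node (nat_lit 0xa0204040002c1080110a0300051002004c80) (.leaf [nat_lit 1, nat_lit 3, nat_lit 2, nat_lit 5, nat_lit 4]) (.leaf [nat_lit 5, nat_lit 1, nat_lit 3, nat_lit 2, nat_lit 3])) (.node (nat_lit 0xa021004400811018080a024001043000c006) (.leaf [nat_lit 6, nat_lit 2, nat_lit 1, nat_lit 6]) (.leaf [nat_lit 5, nat_lit 1, nat_lit 6, nat_lit 5, nat_lit 2]))))
 (.node (nat_lit 0xa030004042101009080880a0050042020405) (.node (nat_lit 0xa024005800020482080210050101300048c0) (.leaf [nat_lit 5, nat_lit 1, nat_lit 4, nat_lit 5]) (.node (nat_lit 0xa028004380001011080c00140044c0000223) (.leaf [nat_lit 1, nat_lit 3, nat_lit 4, nat_lit 5, nat_lit 0, nat_lit 4]) (.leaf [nat_lit 5, nat_lit 0, nat_lit 6, nat_lit 0, nat_lit 5, nat_lit 4])))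
 (.node (nat_lit 0xa040024100a01002480a180004041100a104) (.node (nat_lit 0xa04001500804092008040412028280001160) (.leaf [nat_lit 2, nat_lit 5, nat_lit 1, nat_lit 3, nat_lit 5, nat_lit 4]) (.leaf [nat_lit 4, nat_lit 1, nat_lit 5, nat_lit 3, nat_lit 4])) (.node (nat_lit 0xa0400450080108062004108803005000a102) (.leaf [nat_lit 2, nat_lit 4, nat_lit 5, nat_lit 0, nat_lit 4]) (.leaf [nat_lit 1, nat_lit 3, nat_lit 4, nat_lit 6, nat_lit 4])))))
 (.node (nat_lit 0xa044004201081190000802240400130028c0) (.node (nat_lit 0xa040404c800010020a030014002c80001121) (.node (nat_lit 0xa04010403200180180040403030044008828) (.leaf [nat_lit 4, nat_lit 5, nat_lit 1, nat_lit 5, nat_lit 3]) (.node (nat_lit 0xa04020410082162000080604008818001141) (.leaf [nat_lit 0, nat_lit 4, nat_lit 5, nat_lit 2]) (.leaf [nat_lit 2, nat_lit 4, nat_lit 5, nat_lit 6, nat_lit 2, nat_lit 3])))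
 (.node (nat_lit 0xa04100420408180090050a0000a006001061) (.node (nat_lit 0xa0408041002218011004100c028201002c40) (.leaf [nat_lit 3, nat_lit 1, nat_lit 4, nat_lit 5, nat_lit 3]) (.leaf [nat_lit 2, nat_lit 4, nat_lit 1, nat_lit 5, nat_lit 3])) (.node (nat_lit 0xa0420040301010004a080424050900028081) (.leaf [nat_lit 5, nat_lit 6, nat_lit 5, nat_lit 2]) (.leaf [nat_lit 4, nat_lit 3, nat_lit 4, nat_lit 5, nat_lit 3]))))
 (.node (nat_lit 0xa06000401210160020090009008106000cc0) (.node (nat_lit 0xa048005000050a10020503000080380024c0) (.leaf [nat_lit 3, nat_lit 5, nat_lit 0, nat_lit 5]) (.node (nat_lit 0xa050004022101184000a080204008c000161) (.leaf [nat_lit 3, nat_lit 5, nat_lit 1, nat_lit 4]) (.leaf [nat_lit 4, nat_lit 6, nat_lit 1, nat_lit 5])))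
 (.node (nat_lit 0xa08002401009140880090210020460006104) (.node (nat_lit 0xa0800140100a102050080d00050024024280) (.leaf [nat_lit 5, nat_lit 3, nat_lit 1, nat_lit 4, nat_lit 6]) (.leaf [nat_lit 5, nat_lit 4, nat_lit 2, nat_lit 3, nat_lit 4])) (.node (nat_lit 0xa080044004901a0008050021006102001a40) (.leaf [nat_lit 4, nat_lit 3, nat_lit 1, nat_lit 4]) (.leaf [nat_lit 5, nat_lit 4, nat_lit 0, nat_lit 4, nat_lit 5]))))))))
 (.node (nat_lit 0xa404004018201001440b008000a208004013) (.node (nat_lit 0xa180004228001054000802120400250001c8) (.node (nat_lit 0xa100024040a0120101088210043040000c0c) (.node (nat_lit 0xa08200500120090012042408024081001844) (.node (nat_lit 0xa080404c4000102011020422010188001a04) (.node (nat_lit 0xa08010400484102041090202061100004828) (.leaf [nat_lit 1, nat_lit 5, nat_lit 1, nat_lit 3, nat_lit 4, nat_lit 2]) (.node (nat_lit 0xa08020500300083080050005020442004818) (.leaf [nat_lit 5, nat_lit 3, nat_lit 5, nat_lit 0,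 nat_lit 4]) (.leaf [nat_lit 4, nat_lit 0, nat_lit 4, nat_lit 5]))) (.node (nat_lit 0xa08080400414140802083020024201010148) (.leaf [nat_lit 6, nat_lit 4, nat_lit 6, nat_lit 2, nat_lit 3]) (.node (nat_lit 0xa08100500220080c010610100100c8006006) (.leaf [nat_lit 4, nat_lit 0, nat_lit 5, nat_lit 4, nat_lit 6]) (.leaf [nat_lit 4, nat_lit 6, nat_lit 5, nat_lit 4, nat_lit 2]))))
 (.node (nat_lit 0xa0900040000b1144000820a0060110000a44) (.node (nat_lit 0xa08400400094115000080901042208020062) (.leaf [nat_lit 5, nat_lit 1, nat_lit 6, nat_lit 1, nat_lit 4]) (.node (nat_lit 0xa08800432000140082080501004038001244) (.leaf [nat_lit 3, nat_lit 5, nat_lit 2, nat_lit 6]) (.leaf [nat_lit 4, nat_lit 5, nat_lit 2, nat_lit 3, nat_lit 5])))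
 (.node (nat_lit 0xa0c0004c0040111400020281002106000838) (.node (nat_lit 0xa0a0004308001000510810a0040608004106) (.leaf [nat_lit 6, nat_lit 5, nat_lit 6]) (.leaf [nat_lit 5, nat_lit 1, nat_lit 6, nat_lit 5, nat_lit 4, nat_lit 2])) (.node (nat_lit 0xa10001400640120102086008048024001890) (.leaf [nat_lit 5, nat_lit 1, nat_lit 5, nat_lit 6, nat_lit 5, nat_lit 2]) (.leaf [nat_lit 1, nat_lit 5, nat_lit 6, nat_lit 5, nat_lit 4])))))
 (.node (nat_lit 0xa10100481004120003044a000080c8002430) (.node (nat_lit 0xa10010540008088202024044002520001881) (.node (nat_lit 0xa10004481100102280048021024050000c0a) (.leaf [nat_lit 3, nat_lit 5, nat_lit 1, nat_lit 5, nat_lit 4]) (.node (nat_lit 0xa100085400100860010212200081c0000c06) (.leaf [nat_lit 5, nat_lit 1, nat_lit 4]) (.leaf [nat_lit 0, nat_lit 6, nat_lit 4, nat_lit 5, nat_lit 2])))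
 (.node (nat_lit 0xa10040400601180820043002024014008188) (.node (nat_lit 0xa10020404082180840048005021208002510) (.leaf [nat_lit 5, nat_lit 4, nat_lit 6, nat_lit 2, nat_lit 3]) (.leaf [nat_lit 5, nat_lit 0, nat_lit 4])) (.node (nat_lit 0xa100804040221022040e0400008148001811) (.leaf [nat_lit 6, nat_lit 3, nat_lit 0, nat_lit 4]) (.leaf [nat_lit 0, nat_lit 5, nat_lit 1, nat_lit 5, nat_lit 3]))))
 (.node (nat_lit 0xa1080042a00018006004430000109100040e) (.node (nat_lit 0xa10200400441102084088012044900021028) (.leaf [nat_lit 3, nat_lit 5, nat_lit 1, nat_lit 5, nat_lit 4]) (.node (nat_lit 0xa1040040024110d0000e008000213000080e) (.leaf [nat_lit 6, nat_lit 4, nat_lit 5]) (.leaf [nat_lit 3, nat_lit 2, nat_lit 6, nat_lit 5, nat_lit 2])))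
 (.node (nat_lit 0xa12000428800100284084009041042000530) (.node (nat_lit 0xa1100048010410c400042042020228000891) (.leaf [nat_lit 4, nat_lit 2, nat_lit 6, nat_lit 5, nat_lit 2]) (.leaf [nat_lit 6, nat_lit 4, nat_lit 6, nat_lit 3, nat_lit 5])) (.node (nat_lit 0xa140004000a2109400082009040b00020054) (.leaf [nat_lit 4, nat_lit 0, nat_lit 3]) (.leaf [nat_lit 2, nat_lit 5, nat_lit 6]))))))
 (.node (nat_lit 0xa2200041880014402008034000140500009a) (.node (nat_lit 0xa20040501080082300040809014014008422) (.node (nat_lit 0xa200044402021880080140500034010009a0) (.node (nat_lit 0xa2000148003011010204084800c280003404) (.leaf [nat_lit 6, nat_lit 0, nat_lit 5, nat_lit 4]) (.node (nat_lit 0xa20002440204110101085800008460002098) (.leaf [nat_lit 4, nat_lit 2, nat_lit 5, nat_lit 3, nat_lit 1, nat_lit 4]) (.leaf [nat_lit 2, nat_lit 1, nat_lit 5, nat_lit 3, nat_lit 4])))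
 (.node (nat_lit 0xa20010480021100e0004910001404400208a) (.node (nat_lit 0xa20008404500188004040841011220002092) (.leaf [nat_lit 6, nat_lit 4, nat_lit 1, nat_lit 6, nat_lit 4]) (.leaf [nat_lit 5, nat_lit 6, nat_lit 1, nat_lit 4, nat_lit 3])) (.node (nat_lit 0xa20020480011146000011208008442000984) (.leaf [nat_lit 1, nat_lit 5, nat_lit 1, nat_lit 4]) (.leaf [nat_lit 4, nat_lit 5, nat_lit 0, nat_lit 5]))))
 (.node (nat_lit 0xa20200440006100c1008214001102800c081) (.node (nat_lit 0xa200805010400d040000c20100201a000924) (.leaf [nat_lit 2, nat_lit 1, nat_lit 5, nat_lit 6]) (.node (nat_lit 0xa201004044081100030822400490100008a4) (.leaf [nat_lit 6, nat_lit 2, nat_lit 6, nat_lit 2, nat_lit 3]) (.leaf [nat_lit 0, nat_lit 5, nat_lit 3, nat_lit 4, nat_lit 2])))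
 (.node (nat_lit 0xa2080041a0001006100850020400490001a4) (.node (nat_lit 0xa20400404108100a100d0080008062003005) (.leaf [nat_lit 6, nat_lit 5, nat_lit 0, nat_lit 4, nat_lit 2]) (.leaf [nat_lit 6, nat_lit 4, nat_lit 1, nat_lit 6, nat_lit 4, nat_lit 2])) (.node (nat_lit 0xa210005000c0084802048110010228002405) (.leaf [nat_lit 3, nat_lit 4, nat_lit 0, nat_lit 3]) (.leaf [nat_lit 6, nat_lit 5, nat_lit 4, nat_lit 2, nat_lit 5])))))
 (.node (nat_lit 0xa4000851001008012202084100a600005084) (.node (nat_lit 0xa3000040a8001001030c0480004054001228) (.node (nat_lit 0xa24000400508142020081802010054008281) (.leaf [nat_lit 1, nat_lit 4, nat_lit 5, nat_lit 3, nat_lit 1, nat_lit 4]) (.node (nat_lit 0xa2800041280018000c041110004281000462) (.leaf [nat_lit 5, nat_lit 4, nat_lit 2, nat_lit 4, nat_lit 3]) (.leaf [nat_lit 4, nat_lit 6])))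
 (.node (nat_lit 0xa40002420204108880080128013040004411) (.node (nat_lit 0xa40001402180181200020848018024004412) (.leaf [nat_lit 1, nat_lit 5, nat_lit 6, nat_lit 5, nat_lit 4]) (.leaf [nat_lit 5, nat_lit 6, nat_lit 3, nat_lit 4, nat_lit 3])) (.node (nat_lit 0xa40004420202100540082810018021005088) (.leaf [nat_lit 5, nat_lit 6, nat_lit 3, nat_lit 4, nat_lit 6]) (.leaf [nat_lit 1, nat_lit 5, nat_lit 4, nat_lit 6]))))
 (.node (nat_lit 0xa4004048c0001005040208090130020002b0) (.node (nat_lit 0xa400105100080828040291000044030002e0) (.leaf [nat_lit 4, nat_lit 5, nat_lit 0, nat_lit 6, nat_lit 4, nat_lit 3]) (.node (nat_lit 0xa40020401c0012600008010a0180050002d0) (.leaf [nat_lit 3, nat_lit 0, nat_lit 4, nat_lit 5, nat_lit 2]) (.leaf [nat_lit 5, nat_lit 0, nat_lit 3, nat_lit 4])))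
 (.node (nat_lit 0xa4010040208110044408002a029010014a00) (.node (nat_lit 0xa400804021011088020b040000500c000270) (.leaf [nat_lit 1, nat_lit 3, nat_lit 1, nat_lit 4]) (.leaf [nat_lit 6, nat_lit 5, nat_lit 1, nat_lit 3, nat_lit 5])) (.node (nat_lit 0xa4020042000618100101490000a4080000f0) (.leaf [nat_lit 6, nat_lit 2, nat_lit 6, nat_lit 4]) (.leaf [nat_lit 6, nat_lit 5, nat_lit 3, nat_lit 4, nat_lit 2])))))))
 (.node (nat_lit 0xb00002482400048880030101004248001034) (.node (nat_lit 0xa8004044c000110820022300001418000087) (.node (nat_lit 0xa60000400206106020090480009110000849) (.node (nat_lit 0xa42000400181124020080814011042008608) (.node (nat_lit 0xa40800401420108082082014020049014300) (.leaf [nat_lit 5, nat_lit 0, nat_lit 5]) (.node (nat_lit 0xa41000400c2018020102811001204200408c) (.leaf [nat_lit 5, nat_lit 4, nat_lit 6, nat_lit 5]) (.leaf [nat_lit 2, nat_lit 5, nat_lit 4, nat_lit 5])))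
 (.node (nat_lit 0xa48000484040100882021110010025002608) (.node (nat_lit 0xa44000488040122020010b0000108c000413) (.leaf [nat_lit 0, nat_lit 6, nat_lit 4, nat_lit 2, nat_lit 3]) (.leaf [nat_lit 2, nat_lit 4, nat_lit 5, nat_lit 4])) (.node (nat_lit 0xa500005000180a0480008025004b00003042) (.leaf [nat_lit 4, nat_lit 2, nat_lit 4, nat_lit 5, nat_lit 2]) (.leaf [nat_lit 5, nat_lit 1, nat_lit 4]))))
 (.node (nat_lit 0xa800044111001280080428100046200000c3) (.node (nat_lit 0xa80001420030141200016008008d000000c6) (.leaf [nat_lit 1, nat_lit 5, nat_lit 4, nat_lit 6]) (.node (nat_lit 0xa800025024000401280258000182100000c5) (.leaf [nat_lit 3, nat_lit 4, nat_lit 5, nat_lit 6]) (.leaf [nat_lit 3, nat_lit 4, nat_lit 5])))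
 (.node (nat_lit 0xa80010420021104180042804018202001448) (.node (nat_lit 0xa80008400a80128004040122016001001450) (.leaf [nat_lit 3, nat_lit 4, nat_lit 5, nat_lit 2]) (.leaf [nat_lit 6, nat_lit 0, nat_lit 5, nat_lit 4, nat_lit 6])) (.node (nat_lit 0xa8002042001111084004010a00b080004604) (.leaf [nat_lit 5, nat_lit 0, nat_lit 3, nat_lit 4, nat_lit 6]) (.leaf [nat_lit 1, nat_lit 5, nat_lit 3])))))
 (.node (nat_lit 0xa820005004020408140203400140090090a0) (.node (nat_lit 0xa80200400888141001022140018012004424) (.node (nat_lit 0xa80080400a0810411007040000b020000047) (.leaf [nat_lit 4, nat_lit 5]) (.node (nat_lit 0xa8010041100410409004002a022240008c01) (.leaf [nat_lit 2, nat_lit 5]) (.leaf [nat_lit 5, nat_lit 4, nat_lit 3, nat_lit 4])))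
 (.node (nat_lit 0xa80800400288110060042014025002008501) (.node (nat_lit 0xa80400502002070080008901004224001058) (.leaf [nat_lit 5, nat_lit 6, nat_lit 2, nat_lit 0, nat_lit 3]) (.leaf [nat_lit 5, nat_lit 6, nat_lit 5, nat_lit 4, nat_lit 3])) (.node (nat_lit 0xa8100041010414020102480200a0a0000458) (.leaf [nat_lit 6, nat_lit 0, nat_lit 4]) (.leaf [nat_lit 0, nat_lit 5, nat_lit 0, nat_lit 4]))))
 (.node (nat_lit 0xa90000401104100860060480008212006009) (.node (nat_lit 0xa84000448040100190021802012009000624) (.leaf [nat_lit 2, nat_lit 4, nat_lit 3, nat_lit 0, nat_lit 4]) (.node (nat_lit 0xa8800044404012000c0102120030a0000d01) (.leaf [nat_lit 0, nat_lit 3, nat_lit 4]) (.leaf [nat_lit 1, nat_lit 6, nat_lit 5, nat_lit 3])))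
 (.node (nat_lit 0xac000040c04010120103048000281400012a) (.node (nat_lit 0xaa000040003110800c050480005802002340) (.leaf [nat_lit 5, nat_lit 6, nat_lit 3]) (.leaf [nat_lit 2, nat_lit 0, nat_lit 3, nat_lit 0, nat_lit 5])) (.node (nat_lit 0xb000014048040c120003010200a0500004a8) (.leaf [nat_lit 1, nat_lit 4, nat_lit 5, nat_lit 3]) (.leaf [nat_lit 3, nat_lit 5, nat_lit 2, nat_lit 0, nat_lit 4, nat_lit 6]))))))
 (.node (nat_lit 0xb080004003200a000c040882015400002051) (.node (nat_lit 0xb00100408220084090040444030003003808) (.node (nat_lit 0xb00010450008084180020e0000a041001026) (.node (nat_lit 0xb000044048010a8008040540012280001032) (.leaf [nat_lit 0, nat_lit 5, nat_lit 1, nat_lit 6, nat_lit 5]) (.node (nat_lit 0xb000084500100a80040042420039000004a1) (.leaf [nat_lit 5, nat_lit 0, nat_lit 6, nat_lit 0, nat_lit 4]) (.leaf [nat_lit 5, nat_lit 4, nat_lit 2, nat_lit 0, nat_lit 6])))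
 (.node (nat_lit 0xb0004042108009082004050400a01100420a) (.node (nat_lit 0xb00020408300090840066000001016000489) (.leaf [nat_lit 4, nat_lit 1, nat_lit 4, nat_lit 6, nat_lit 4]) (.leaf [nat_lit 5, nat_lit 0, nat_lit 6, nat_lit 4])) (.node (nat_lit 0xb00080421040084110048802012204000429) (.leaf [nat_lit 5, nat_lit 0, nat_lit 3]) (.leaf [nat_lit 4, nat_lit 1, nat_lit 4, nat_lit 2, nat_lit 3]))))
 (.node (nat_lit 0xb00800404005090060048082020610003108) (.node (nat_lit 0xb002004081200c1001020c1001208400404a) (.leaf [nat_lit 2, nat_lit 3, nat_lit 5, nat_lit 0, nat_lit 4]) (.node (nat_lit 0xb00400482002040144020a1001d0000000a9) (.leaf [nat_lit 1, nat_lit 4, nat_lit 5, nat_lit 1, nat_lit 4]) (.leaf [nat_lit 4, nat_lit 1, nat_lit 4, nat_lit 3])))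
 (.node (nat_lit 0xb02000480402064020010284008051001908) (.node (nat_lit 0xb010004200c00c020101c400002908000036) (.leaf [nat_lit 3, nat_lit 5, nat_lit 0, nat_lit 4]) (.leaf [nat_lit 3, nat_lit 0, nat_lit 5, nat_lit 6])) (.node (nat_lit 0xb0400040080508019006202001940000024a) (.leaf [nat_lit 5, nat_lit 2, nat_lit 1, nat_lit 3]) (.leaf [nat_lit 1, nat_lit 5, nat_lit 3, nat_lit 1, nat_lit 4])))))
 (.node (nat_lit 0xc00006260200100188088820012011005440) (.node (nat_lit 0xb40000410018081201026020008882000544) (.node (nat_lit 0xb1000044001808086002010300d400002284) (.leaf [nat_lit 2, nat_lit 5, nat_lit 0, nat_lit 3]) (.node (nat_lit 0xb200004010c008800c046020010103000e10) (.leaf [nat_lit 3, nat_lit 2, nat_lit 4, nat_lit 6, nat_lit 4, nat_lit 2]) (.leaf [nat_lit 2, nat_lit 1, nat_lit 5, nat_lit 3, nat_lit 1, nat_lit 4])))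
 (.node (nat_lit 0xc00003209008140060084300020c80012014) (.node (nat_lit 0xb8000040240204120102800c010860004190) (.leaf [nat_lit 4, nat_lit 1, nat_lit 6, nat_lit 4, nat_lit 6]) (.leaf [nat_lit 0, nat_lit 4, nat_lit 2, nat_lit 1, nat_lit 5])) (.node (nat_lit 0xc000053048000c04080281400120120012a0) (.leaf [nat_lit 1, nat_lit 4, nat_lit 3, nat_lit 4, nat_lit 5, nat_lit 2]) (.leaf [nat_lit 6, nat_lit 5, nat_lit 3, nat_lit 1, nat_lit 4]))))
 (.node (nat_lit 0xc0000c2020601001820c040102181001c200) (.node (nat_lit 0xc000092090021222000c04040109200040d0) (.leaf [nat_lit 6, nat_lit 5, nat_lit 3, nat_lit 2, nat_lit 4]) (.node (nat_lit 0xc0000a2090011001840b0040046800000630) (.leaf [nat_lit 2, nat_lit 0, nat_lit 3, nat_lit 0, nat_lit 4]) (.leaf [nat_lit 1, nat_lit 3, nat_lit 4, nat_lit 5])))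
 (.node (nat_lit 0xc0001220094012c0000c1080012005000628) (.node (nat_lit 0xc000112a0020101500048a000120060040c8) (.leaf [nat_lit 4, nat_lit 2, nat_lit 1, nat_lit 5]) (.leaf [nat_lit 2, nat_lit 6, nat_lit 5, nat_lit 4, nat_lit 2])) (.node (nat_lit 0xc00014208480180240044120021808012003) (.leaf [nat_lit 2, nat_lit 5, nat_lit 6, nat_lit 5, nat_lit 4]) (.leaf [nat_lit 2, nat_lit 6, nat_lit 5, nat_lit 4])))))))))
 (.node (nat_lit 0xc10001200640188080065000002016000928) (.node (nat_lit 0xc00a00280088111002048011024060002504) (.node (nat_lit 0xc002012104401220080841020488100010a4) (.node (nat_lit 0xc0008221402010010c0c1010020c0100a240) (.node (nat_lit 0xc00041210600140022083800028104004098) (.node (nat_lit 0xc00024202048130400088802044110001281) (.node (nat_lit 0xc000212a001014004201090800e400001284) (.leaf [nat_lit 2, nat_lit 4, nat_lit 5, nat_lit 2, nat_lit 6, nat_lit 3]) (.node (nat_lit 0xc00022214080140041088804023100000618) (.leaf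 [nat_lit 0, nat_lit 3, nat_lit 0, nat_lit 5, nat_lit 4]) (.leaf [nat_lit 0, nat_lit 5, nat_lit 4, nat_lit 1, nat_lit 3]))) (.node (nat_lit 0xc00028202044185000068080010901000612) (.leaf [nat_lit 6, nat_lit 5, nat_lit 3, nat_lit 1, nat_lit 4]) (.node (nat_lit 0xc000302a000110288004410401904000060a) (.leaf [nat_lit 2, nat_lit 5, nat_lit 6, nat_lit 5, nat_lit 3]) (.leaf [nat_lit 2, nat_lit 4, nat_lit 1, nat_lit 6]))))
 (.node (nat_lit 0xc00048202024108c000b0002041300004091) (.node (nat_lit 0xc000422009101400210b000800a280005404) (.leaf [nat_lit 3, nat_lit 5, nat_lit 4, nat_lit 1, nat_lit 3]) (.node (nat_lit 0xc00044202028180210050880028101005402) (.leaf [nat_lit 0, nat_lit 5, nat_lit 4]) (.leaf [nat_lit 5, nat_lit 3, nat_lit 2, nat_lit 4, nat_lit 1, nat_lit 3])))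
 (.node (nat_lit 0xc0006020200c140003080580024a00019010) (.node (nat_lit 0xc00050200902180204062400019020004089) (.leaf [nat_lit 3, nat_lit 4, nat_lit 5, nat_lit 0, nat_lit 4]) (.leaf [nat_lit 0, nat_lit 4, nat_lit 3, nat_lit 4])) (.node (nat_lit 0xc00081242100198000020c02004058001224) (.leaf [nat_lit 0, nat_lit 5, nat_lit 4, nat_lit 2]) (.leaf [nat_lit 1, nat_lit 4, nat_lit 5, nat_lit 2, nat_lit 6, nat_lit 3])))))
 (.node (nat_lit 0xc0010220085010008c084201058400023020) (.node (nat_lit 0xc000902084041028200c1002030300004049) (.node (nat_lit 0xc0008420841010010a0a6000050840001221) (.leaf [nat_lit 4, nat_lit 1, nat_lit 6, nat_lit 5, nat_lit 2, nat_lit 3]) (.node (nat_lit 0xc00088280a00100106068020013400004051) (.leaf [nat_lit 1, nat_lit 4, nat_lit 5]) (.leaf [nat_lit 1, nat_lit 6, nat_lit 5, nat_lit 4, nat_lit 2])))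
 (.node (nat_lit 0xc000c032100008052005080400a202004019) (.node (nat_lit 0xc000a0214002102810080540068008001205) (.leaf [nat_lit 3, nat_lit 0, nat_lit 4]) (.leaf [nat_lit 1, nat_lit 4, nat_lit 5])) (.node (nat_lit 0xc00101242080101410084202028044010828) (.leaf [nat_lit 1, nat_lit 3, nat_lit 2, nat_lit 3]) (.leaf [nat_lit 3, nat_lit 4, nat_lit 6, nat_lit 4, nat_lit 0, nat_lit 3]))))
 (.node (nat_lit 0xc0011020084210140108a008044024030280) (.node (nat_lit 0xc0010429100010008a044030028041002e00) (.leaf [nat_lit 6, nat_lit 5, nat_lit 2, nat_lit 0, nat_lit 5]) (.node (nat_lit 0xc0010822440010008608a010041240010821) (.leaf [nat_lit 5, nat_lit 3, nat_lit 4, nat_lit 2, nat_lit 0, nat_lit 3]) (.leaf [nat_lit 2, nat_lit 6, nat_lit 2, nat_lit 4, nat_lit 5])))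
 (.node (nat_lit 0xc001402008121160000804a0041208028005) (.node (nat_lit 0xc001203082000804c0044014023002010809) (.leaf [nat_lit 2, nat_lit 1, nat_lit 6, nat_lit 5, nat_lit 4]) (.leaf [nat_lit 6, nat_lit 4, nat_lit 0, nat_lit 4, nat_lit 3])) (.node (nat_lit 0xc0018024200110000e08046003021000d800) (.leaf [nat_lit 6, nat_lit 3, nat_lit 5, nat_lit 4]) (.leaf [nat_lit 1, nat_lit 6, nat_lit 5, nat_lit 2]))))))
 (.node (nat_lit 0xc004202418001300040801c000e00100021a) (.node (nat_lit 0xc0028028080814440003011000a042001025) (.node (nat_lit 0xc0020828088012200104114001c004000432) (.node (nat_lit 0xc0020226000411180008410100a0c0000438) (.leaf [nat_lit 1, nat_lit 5, nat_lit 4, nat_lit 2, nat_lit 0, nat_lit 3]) (.node (nat_lit 0xc0020426000218005001c008002d000010a1) (.leaf [nat_lit 4, nat_lit 1, nat_lit 5, nat_lit 2, nat_lit 3]) (.leaf [nat_lit 3, nat_lit 4, nat_lit 5, nat_lit 3, nat_lit 1, nat_lit 4])))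
 (.node (nat_lit 0xc002203081000d200002484000108500041a) (.node (nat_lit 0xc0021020700018004404880103018000042a) (.leaf [nat_lit 5, nat_lit 2, nat_lit 6, nat_lit 5]) (.leaf [nat_lit 4, nat_lit 6, nat_lit 3, nat_lit 4, nat_lit 3])) (.node (nat_lit 0xc0024021040118001404110802482000a082) (.leaf [nat_lit 4, nat_lit 5, nat_lit 3, nat_lit 1, nat_lit 4]) (.leaf [nat_lit 5, nat_lit 6, nat_lit 5]))))
 (.node (nat_lit 0xc00402382000058100020881005044000238) (.node (nat_lit 0xc00300308020084003041048030090002c04) (.leaf [nat_lit 4, nat_lit 1, nat_lit 4, nat_lit 6, nat_lit 4, nat_lit 2]) (.node (nat_lit 0xc004012102401011100c000c02088200e020) (.leaf [nat_lit 4, nat_lit 1, nat_lit 5, nat_lit 2]) (.leaf [nat_lit 0, nat_lit 4, nat_lit 6, nat_lit 3])))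
 (.node (nat_lit 0xc004082241001088400c0005013080000232) (.node (nat_lit 0xc004042080901300200c0009005042002b00) (.leaf [nat_lit 4, nat_lit 5, nat_lit 3, nat_lit 4, nat_lit 2, nat_lit 3]) (.leaf [nat_lit 0, nat_lit 4])) (.node (nat_lit 0xc0041020808410110109480006204000022a) (.leaf [nat_lit 4, nat_lit 6, nat_lit 0, nat_lit 4, nat_lit 2]) (.leaf [nat_lit 3, nat_lit 1, nat_lit 4, nat_lit 5])))))
 (.node (nat_lit 0xc008043040010880220500c0021018002700) (.node (nat_lit 0xc005002240081010110800e0058002002a04) (.node (nat_lit 0xc004402102011088080801a0062010005006) (.leaf [nat_lit 6, nat_lit 2, nat_lit 6]) (.node (nat_lit 0xc00480208014144200080160020803013008) (.leaf [nat_lit 5, nat_lit 0, nat_lit 5, nat_lit 6, nat_lit 5, nat_lit 2]) (.leaf [nat_lit 3, nat_lit 2, nat_lit 6, nat_lit 5, nat_lit 4])))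
 (.node (nat_lit 0xc00801304004083040048210020482010128) (.node (nat_lit 0xc006002100411440800a900000290400003a) (.leaf [nat_lit 1, nat_lit 3, nat_lit 5, nat_lit 2, nat_lit 3]) (.leaf [nat_lit 2, nat_lit 6, nat_lit 3])) (.node (nat_lit 0xc00802200150111200088024046008020481) (.leaf [nat_lit 6, nat_lit 4, nat_lit 1, nat_lit 5, nat_lit 4]) (.leaf [nat_lit 5, nat_lit 4, nat_lit 2, nat_lit 6, nat_lit 3]))))
 (.node (nat_lit 0xc00820241400102090088006024240010109) (.node (nat_lit 0xc00808280280108440046002021014010121) (.leaf [nat_lit 5, nat_lit 4, nat_lit 6, nat_lit 3]) (.node (nat_lit 0xc008102001421020a009440004820102100c) (.leaf [nat_lit 5, nat_lit 6, nat_lit 5, nat_lit 1, nat_lit 4]) (.leaf [nat_lit 5, nat_lit 4, nat_lit 1, nat_lit 4])))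
 (.node (nat_lit 0xc0088028020810203005004402040300d100) (.node (nat_lit 0xc00840200112108408083001050084024220) (.leaf [nat_lit 5, nat_lit 4, nat_lit 6]) (.leaf [nat_lit 4, nat_lit 5, nat_lit 3, nat_lit 5])) (.node (nat_lit 0xc009002000521e000001002900d080002604) (.leaf [nat_lit 3, nat_lit 2, nat_lit 6, nat_lit 4, nat_lit 5]) (.leaf [nat_lit 0, nat_lit 3, nat_lit 4, nat_lit 3])))))))
 (.node (nat_lit 0xc040022100a0128010080301042808001444) (.node (nat_lit 0xc0200124018012020808184001001600c420) (.node (nat_lit 0xc01020240c00184008022102018050000285) (.node (nat_lit 0xc01002208009110a000c0090022120004444) (.node (nat_lit 0xc00c00241020108048094010020083002304) (.leaf [nat_lit 5, nat_lit 4, nat_lit 0, nat_lit 4]) (.node (nat_lit 0xc0100120800a1005100828400740000002a4) (.leaf [nat_lit 4, nat_lit 5, nat_lit 3, nat_lit 4, nat_lit 2]) (.leaf [nat_lit 6, nat_lit 5, nat_lit 6, nat_lit 4, nat_lit 3])))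
 (.node (nat_lit 0xc01008208003184020040340020814012480) (.node (nat_lit 0xc0100429010014a0000208180044420002a1) (.leaf [nat_lit 0, nat_lit 3, nat_lit 2, nat_lit 3, nat_lit 4]) (.leaf [nat_lit 4, nat_lit 5, nat_lit 0, nat_lit 4, nat_lit 1, nat_lit 4])) (.node (nat_lit 0xc010102062001005010c008202080c018060) (.leaf [nat_lit 5, nat_lit 4, nat_lit 2, nat_lit 3, nat_lit 4]) (.leaf [nat_lit 3, nat_lit 2, nat_lit 4, nat_lit 5]))))
 (.node (nat_lit 0xc0110029000410041104024802202200c880) (.node (nat_lit 0xc01040320080082801040308018030004406) (.leaf [nat_lit 4, nat_lit 5, nat_lit 1, nat_lit 4]) (.node (nat_lit 0xc010803200400c001201240800c900000225) (.leaf [nat_lit 3, nat_lit 0, nat_lit 4, nat_lit 5, nat_lit 6]) (.leaf [nat_lit 0, nat_lit 6, nat_lit 0, nat_lit 5, nat_lit 4])))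
 (.node (nat_lit 0xc014002408201001110a8200012088004046) (.node (nat_lit 0xc012002060101108020a84000401480000a5) (.leaf [nat_lit 0, nat_lit 5, nat_lit 2, nat_lit 3]) (.leaf [nat_lit 4, nat_lit 5, nat_lit 4, nat_lit 1, nat_lit 4])) (.node (nat_lit 0xc0180024042011020208204102001c00c180) (.leaf [nat_lit 3, nat_lit 4, nat_lit 6, nat_lit 0, nat_lit 4]) (.leaf [nat_lit 6, nat_lit 2, nat_lit 1, nat_lit 3])))))
 (.node (nat_lit 0xc020802401011008300a4004011408008242) (.node (nat_lit 0xc02008200064120201088110044802011480) (.node (nat_lit 0xc020023804000448080211200100150082c0) (.leaf [nat_lit 1, nat_lit 6, nat_lit 1, nat_lit 4]) (.node (nat_lit 0xc020042000681490000a4080010013000f00) (.leaf [nat_lit 2, nat_lit 1, nat_lit 5, nat_lit 2]) (.leaf [nat_lit 2, nat_lit 1, nat_lit 5])))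
 (.node (nat_lit 0xc0202020004c1008900d020002110200c401) (.node (nat_lit 0xc020102052001008a0088108060440010007) (.leaf [nat_lit 0, nat_lit 5, nat_lit 0, nat_lit 4, nat_lit 0, nat_lit 3]) (.leaf [nat_lit 2, nat_lit 1, nat_lit 5])) (.node (nat_lit 0xc0204020002c114100081801060410008282) (.leaf [nat_lit 6, nat_lit 1, nat_lit 5, nat_lit 0, nat_lit 5]) (.leaf [nat_lit 1, nat_lit 3, nat_lit 4, nat_lit 6]))))
 (.node (nat_lit 0xc0240038000206005001108800c021000b04) (.node (nat_lit 0xc02100240081114040088018021022000e04) (.leaf [nat_lit 5, nat_lit 3, nat_lit 4, nat_lit 6]) (.node (nat_lit 0xc022002050101200090d00200080c2000d04) (.leaf [nat_lit 2, nat_lit 0, nat_lit 5, nat_lit 4, nat_lit 2, nat_lit 3]) (.leaf [nat_lit 3, nat_lit 4, nat_lit 5, nat_lit 6])))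
 (.node (nat_lit 0xc03000204210148004080841020122010488) (.node (nat_lit 0xc028002380001000b008104104400a000704) (.leaf [nat_lit 5, nat_lit 2, nat_lit 4, nat_lit 2, nat_lit 3]) (.leaf [nat_lit 0, nat_lit 4, nat_lit 2, nat_lit 1, nat_lit 6])) (.node (nat_lit 0xc0400130080408030207100000a4200000d8) (.leaf [nat_lit 3, nat_lit 2, nat_lit 4, nat_lit 6, nat_lit 4]) (.leaf [nat_lit 0, nat_lit 4, nat_lit 3, nat_lit 5, nat_lit 4]))))))
 (.node (nat_lit 0xc080022010091240100808240505000022c0) (.node (nat_lit 0xc04100220408112040080203040034009880) (.node (nat_lit 0xc04010203200128002090c000401240000c9) (.node (nat_lit 0xc040043008010a2080040130018208001442) (.leaf [nat_lit 3, nat_lit 4, nat_lit 1, nat_lit 6, nat_lit 4]) (.node (nat_lit 0xc040082205001810200428020182040000d1) (.leaf [nat_lit 6, nat_lit 5, nat_lit 2, nat_lit 1, nat_lit 3, nat_lit 4]) (.leaf [nat_lit 6, nat_lit 4, nat_lit 0, nat_lit 6, nat_lit 5])))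
 (.node (nat_lit 0xc040402c8000112100020a20001406000099) (.node (nat_lit 0xc04020210082181008040114020a4000a401) (.leaf [nat_lit 3, nat_lit 4, nat_lit 1, nat_lit 3]) (.leaf [nat_lit 6, nat_lit 0, nat_lit 4, nat_lit 0, nat_lit 3])) (.node (nat_lit 0xc040802100221406000a2004009900000059) (.leaf [nat_lit 0, nat_lit 5, nat_lit 6, nat_lit 2, nat_lit 5, nat_lit 4]) (.leaf [nat_lit 2, nat_lit 1, nat_lit 3]))))
 (.node (nat_lit 0xc0480030000509041004200a020260009180) (.node (nat_lit 0xc0420020301014048008010302086001800c) (.leaf [nat_lit 4, nat_lit 3, nat_lit 0, nat_lit 5, nat_lit 2]) (.node (nat_lit 0xc0440022010814028009081000a021001046) (.leaf [nat_lit 3, nat_lit 2, nat_lit 5, nat_lit 4]) (.leaf [nat_lit 3, nat_lit 4, nat_lit 1, nat_lit 6, nat_lit 4])))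
 (.node (nat_lit 0xc060002012101101400a008404080a008421) (.node (nat_lit 0xc05000202210180028070001008980000446) (.leaf [nat_lit 1, nat_lit 3, nat_lit 5, nat_lit 4]) (.leaf [nat_lit 5, nat_lit 3, nat_lit 4, nat_lit 6, nat_lit 4])) (.node (nat_lit 0xc0800120100a190080040a10020144006420) (.leaf [nat_lit 5, nat_lit 1, nat_lit 4, nat_lit 0, nat_lit 3]) (.leaf [nat_lit 3, nat_lit 4, nat_lit 6, nat_lit 4, nat_lit 3])))))
 (.node (nat_lit 0xc08100300220082018050402020045005880) (.node (nat_lit 0xc08010200484124002082108040a01011060) (.node (nat_lit 0xc08004200490143000080822020141014208) (.leaf [nat_lit 1, nat_lit 3, nat_lit 4, nat_lit 1, nat_lit 3]) (.node (nat_lit 0xc08008201003100c400821100600a0014204) (.leaf [nat_lit 6, nat_lit 3, nat_lit 4, nat_lit 6, nat_lit 4]) (.leaf [nat_lit 1, nat_lit 3, nat_lit 4, nat_lit 5, nat_lit 2])))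
 (.node (nat_lit 0xc080402c4000100c08020105011030002282) (.node (nat_lit 0xc08020300300080806060088011050006401) (.leaf [nat_lit 0, nat_lit 4, nat_lit 5, nat_lit 1, nat_lit 5]) (.leaf [nat_lit 4, nat_lit 6, nat_lit 3, nat_lit 1, nat_lit 4])) (.node (nat_lit 0xc08080200414190001060028005900002242) (.leaf [nat_lit 1, nat_lit 4, nat_lit 6, nat_lit 5, nat_lit 4]) (.leaf [nat_lit 6, nat_lit 2, nat_lit 4, nat_lit 1, nat_lit 3]))))
 (.node (nat_lit 0xc08800232000100448080026040211005180) (.node (nat_lit 0xc082003001200a140004081101400c0020c2) (.leaf [nat_lit 3, nat_lit 4, nat_lit 6, nat_lit 4, nat_lit 2]) (.node (nat_lit 0xc084002000941008480a1200050102006021) (.leaf [nat_lit 3, nat_lit 2, nat_lit 1, nat_lit 5, nat_lit 3]) (.leaf [nat_lit 6, nat_lit 1, nat_lit 4, nat_lit 2, nat_lit 0, nat_lit 3])))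
 (.node (nat_lit 0xc0a0002308001410040801180044210002c2) (.node (nat_lit 0xc0900020000b1420040a0600010070004980) (.leaf [nat_lit 4, nat_lit 0, nat_lit 6, nat_lit 0, nat_lit 4]) (.leaf [nat_lit 1, nat_lit 3, nat_lit 4])) (.node (nat_lit 0xc0c0002c004012001201020c002421001980) (.leaf [nat_lit 4, nat_lit 1, nat_lit 5, nat_lit 4, nat_lit 1, nat_lit 3]) (.leaf [nat_lit 5, nat_lit 1, nat_lit 5, nat_lit 4, nat_lit 3]))))))))
 (.node (nat_lit 0xc80010220021100244041082014c0000a108) (.node (nat_lit 0xc2080021a0001c010000426000101c000483) (.node (nat_lit 0xc120002288001041400c0220001488000017) (.node (nat_lit 0xc100402006011061000a000a040884009030) (.node (nat_lit 0xc100083400100a004200c204003480000921) (.node (nat_lit 0xc100022040a0101a000a0048048500002015) (.leaf [nat_lit 6, nat_lit 4]) (.node (nat_lit 0xc100042811001204200408c000c208002013) (.leaf [nat_lit 6, nat_lit 4, nat_lit 2]) (.leaf [nat_lit 5, nat_lit 1, nat_lit 5]))) (.node (nat_lit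 0xc10010340008084c00020380009060002007) (.leaf [nat_lit 5, nat_lit 1, nat_lit 4, nat_lit 5, nat_lit 0, nat_lit 3]) (.node (nat_lit 0xc100202040821204040c2200009050000909) (.leaf [nat_lit 5, nat_lit 1, nat_lit 5]) (.leaf [nat_lit 3, nat_lit 1, nat_lit 4, nat_lit 2, nat_lit 3]))))
 (.node (nat_lit 0xc102002004411018020c202002019000c00c) (.node (nat_lit 0xc10080204022188001040844020310003408) (.leaf [nat_lit 4, nat_lit 2, nat_lit 1, nat_lit 6]) (.node (nat_lit 0xc10100281004106040048402020290000829) (.leaf [nat_lit 5, nat_lit 4, nat_lit 0, nat_lit 3]) (.leaf [nat_lit 0, nat_lit 4, nat_lit 5, nat_lit 6])))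
 (.node (nat_lit 0xc1080022a0001012020844100400c4000129) (.node (nat_lit 0xc10400200241120024084810048102003088) (.leaf [nat_lit 3, nat_lit 0, nat_lit 4, nat_lit 6]) (.leaf [nat_lit 2, nat_lit 5, nat_lit 4, nat_lit 0, nat_lit 3])) (.node (nat_lit 0xc11000280104100a02064001008070002488) (.leaf [nat_lit 1, nat_lit 4, nat_lit 5, nat_lit 6]) (.leaf [nat_lit 4, nat_lit 3, nat_lit 5, nat_lit 4, nat_lit 3])))))
 (.node (nat_lit 0xc2001028002110c00204244001038000180c) (.node (nat_lit 0xc20001280030102208055000008144000c82) (.node (nat_lit 0xc140002000a2102140080c1006100100820c) (.leaf [nat_lit 6]) (.node (nat_lit 0xc1800022280018008104050200420c001070) (.leaf [nat_lit 1, nat_lit 4, nat_lit 6]) (.leaf [nat_lit 1, nat_lit 6, nat_lit 5, nat_lit 3, nat_lit 5])))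
 (.node (nat_lit 0xc20004240202110420086080008141001818) (.node (nat_lit 0xc2000224020410c010090048003120000c81) (.leaf [nat_lit 5, nat_lit 3, nat_lit 4, nat_lit 2, nat_lit 6, nat_lit 3]) (.leaf [nat_lit 3, nat_lit 5, nat_lit 6, nat_lit 5, nat_lit 2, nat_lit 3])) (.node (nat_lit 0xc200082045001022010900420480a0001814) (.leaf [nat_lit 5, nat_lit 3, nat_lit 4]) (.leaf [nat_lit 2, nat_lit 5, nat_lit 4, nat_lit 5, nat_lit 3]))))
 (.node (nat_lit 0xc20080301040086004048028010310000c03) (.node (nat_lit 0xc20020280011110404048088004a40003102) (.leaf [nat_lit 4, nat_lit 2, nat_lit 0, nat_lit 5]) (.node (nat_lit 0xc2004030108009000a042410008105004a20) (.leaf [nat_lit 1, nat_lit 3, nat_lit 5, nat_lit 0, nat_lit 5]) (.leaf [nat_lit 5, nat_lit 3, nat_lit 1, nat_lit 4])))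
 (.node (nat_lit 0xc20200240006102009089400010190004860) (.node (nat_lit 0xc201002044081c0800010290008045003022) (.leaf [nat_lit 0, nat_lit 4, nat_lit 5, nat_lit 6, nat_lit 5]) (.leaf [nat_lit 5, nat_lit 3, nat_lit 4])) (.node (nat_lit 0xc20400204108110024089200042050000883) (.leaf [nat_lit 2, nat_lit 0, nat_lit 5, nat_lit 4, nat_lit 6]) (.leaf [nat_lit 5, nat_lit 6, nat_lit 1, nat_lit 4, nat_lit 5]))))))
 (.node (nat_lit 0xc401002020811a0800018402004034001248) (.node (nat_lit 0xc40002220204100061081090018500006808) (.node (nat_lit 0xc24000200508108012082084051001000a60) (.node (nat_lit 0xc210003000c008860005400100212200081c) (.leaf [nat_lit 4, nat_lit 2, nat_lit 3, nat_lit 5, nat_lit 4]) (.node (nat_lit 0xc22000218800100209084084040450001122) (.leaf [nat_lit 6, nat_lit 3, nat_lit 2, nat_lit 0, nat_lit 3]) (.leaf [nat_lit 2, nat_lit 4, nat_lit 2, nat_lit 3])))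
 (.node (nat_lit 0xc3000020a80010042408004a045001000390) (.node (nat_lit 0xc280002128001040120816000400a8000145) (.leaf [nat_lit 6, nat_lit 4, nat_lit 5, nat_lit 0, nat_lit 3]) (.leaf [nat_lit 3, nat_lit 4, nat_lit 3, nat_lit 0, nat_lit 5])) (.node (nat_lit 0xc4000120218010006208040c035000008a10) (.leaf [nat_lit 2, nat_lit 1, nat_lit 4, nat_lit 6]) (.leaf [nat_lit 4, nat_lit 6, nat_lit 2, nat_lit 0, nat_lit 3]))))
 (.node (nat_lit 0xc40010310008081082022440008a01004124) (.node (nat_lit 0xc4000422020210b0000804090108c0004130) (.leaf [nat_lit 6, nat_lit 2, nat_lit 5, nat_lit 4, nat_lit 0, nat_lit 3]) (.node (nat_lit 0xc400083100100804050280a0006802001340) (.leaf [nat_lit 4, nat_lit 2, nat_lit 0, nat_lit 3]) (.leaf [nat_lit 5, nat_lit 4, nat_lit 2, nat_lit 5])))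
 (.node (nat_lit 0xc4004028c000100023022410010884001308) (.node (nat_lit 0xc40020201c00100043092200028088004114) (.leaf [nat_lit 1, nat_lit 3, nat_lit 2, nat_lit 5, nat_lit 4]) (.leaf [nat_lit 2, nat_lit 6, nat_lit 1, nat_lit 5, nat_lit 4])) (.node (nat_lit 0xc40080202101104600081012028028010844) (.leaf [nat_lit 0, nat_lit 5, nat_lit 2, nat_lit 4]) (.leaf [nat_lit 1, nat_lit 5, nat_lit 6, nat_lit 1, nat_lit 4])))))
 (.node (nat_lit 0xc480002840401030040200a8010502000a11) (.node (nat_lit 0xc408002014201a01000100c400821100600a) (.node (nat_lit 0xc40200220006104480092020008811001148) (.leaf [nat_lit 6, nat_lit 3, nat_lit 4, nat_lit 1, nat_lit 4]) (.node (nat_lit 0xc4040020182010428008000d022050018102) (.leaf [nat_lit 6, nat_lit 2, nat_lit 5, nat_lit 4]) (.leaf [nat_lit 4, nat_lit 2])))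
 (.node (nat_lit 0xc4200020018110900409022002045000480a) (.node (nat_lit 0xc41000200c2010a004080092034001000348) (.leaf [nat_lit 5]) (.leaf [nat_lit 4, nat_lit 6, nat_lit 4, nat_lit 5])) (.node (nat_lit 0xc4400028804010068003100100280a000134) (.leaf [nat_lit 4, nat_lit 1, nat_lit 3, nat_lit 4, nat_lit 5]) (.leaf [nat_lit 1, nat_lit 6, nat_lit 4, nat_lit 3]))))
 (.node (nat_lit 0xc8000122003011808004040c004302003840) (.node (nat_lit 0xc500003000180822200250010085020008c4) (.leaf [nat_lit 0, nat_lit 5, nat_lit 1, nat_lit 5]) (.node (nat_lit 0xc600002002061809000150010080a8002450) (.leaf [nat_lit 5, nat_lit 1, nat_lit 6, nat_lit 5, nat_lit 0, nat_lit 5]) (.leaf [nat_lit 1, nat_lit 4, nat_lit 6, nat_lit 3, nat_lit 4])))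
 (.node (nat_lit 0xc80004211100100250040409026080008822) (.node (nat_lit 0xc80002302400041090030048008824004301) (.leaf [nat_lit 0, nat_lit 4, nat_lit 1, nat_lit 6]) (.leaf [nat_lit 0, nat_lit 6, nat_lit 5, nat_lit 4, nat_lit 0, nat_lit 3])) (.node (nat_lit 0xc80008200a8010502004040503004200a110) (.leaf [nat_lit 0, nat_lit 4, nat_lit 1, nat_lit 3]) (.leaf [nat_lit 0, nat_lit 4, nat_lit 5])))))))
 (.node (nat_lit 0xd020002804020490040202090141400008b0) (.node (nat_lit 0xcc000020c04012090001222000109200040d) (.node (nat_lit 0xc80800200288160100014410008026003041) (.node (nat_lit 0xc80080200a08118001041012026004000560) (.node (nat_lit 0xc800202200111050080522000088060005c0) (.leaf [nat_lit 2, nat_lit 3, nat_lit 0, nat_lit 5, nat_lit 4]) (.node (nat_lit 0xc8004024c00010021403000a0038010005a0) (.leaf [nat_lit 0, nat_lit 6, nat_lit 5, nat_lit 4, nat_lit 2]) (.leaf [nat_lit 2, nat_lit 6, nat_lit 5, nat_lit 3])))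
 (.node (nat_lit 0xc80200200888100054052020029400004103) (.node (nat_lit 0xc8010021100416080000a0180042030004e0) (.leaf [nat_lit 6, nat_lit 4, nat_lit 1, nat_lit 5, nat_lit 3]) (.leaf [nat_lit 2, nat_lit 4, nat_lit 2, nat_lit 5, nat_lit 2])) (.node (nat_lit 0xc8040030200204000d0292000148100001e0) (.leaf [nat_lit 5, nat_lit 1, nat_lit 6, nat_lit 5, nat_lit 4]) (.leaf [nat_lit 0, nat_lit 4, nat_lit 2]))))
 (.node (nat_lit 0xc84000248040101028022084010c10000303) (.node (nat_lit 0xc81000210104104028040092028600002841) (.leaf [nat_lit 5, nat_lit 1, nat_lit 4, nat_lit 6]) (.node (nat_lit 0xc82000300402050220024084008118001841) (.leaf [nat_lit 5, nat_lit 6, nat_lit 1, nat_lit 4]) (.leaf [nat_lit 2, nat_lit 4, nat_lit 6, nat_lit 1, nat_lit 5, nat_lit 4])))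
 (.node (nat_lit 0xc9000020110410808104222002004a004c10) (.node (nat_lit 0xc88000244040110081021600002118000826) (.leaf [nat_lit 1, nat_lit 6, nat_lit 4, nat_lit 6, nat_lit 4]) (.leaf [nat_lit 6, nat_lit 0, nat_lit 5, nat_lit 6, nat_lit 5])) (.node (nat_lit 0xca000020003114090001004a009600006084) (.leaf [nat_lit 2, nat_lit 3, nat_lit 0, nat_lit 4, nat_lit 6]) (.leaf [nat_lit 3, nat_lit 0, nat_lit 5, nat_lit 3])))))
 (.node (nat_lit 0xd00040221080080214040023016100008c08) (.node (nat_lit 0xd0000420480108025004b00003042000018a) (.node (nat_lit 0xd00001204804098080040062022208001510) (.leaf [nat_lit 4, nat_lit 0, nat_lit 3, nat_lit 4, nat_lit 2]) (.node (nat_lit 0xd0000228240004006102c010011a0000018c) (.leaf [nat_lit 0, nat_lit 5, nat_lit 3, nat_lit 4, nat_lit 1, nat_lit 4]) (.leaf [nat_lit 2, nat_lit 5, nat_lit 1, nat_lit 4])))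
 (.node (nat_lit 0xd0001025000808024402c0020028a0001501) (.node (nat_lit 0xd00008250010085020022201008c40000186) (.leaf [nat_lit 1, nat_lit 3, nat_lit 5, nat_lit 4, nat_lit 5]) (.leaf [nat_lit 2, nat_lit 0, nat_lit 6, nat_lit 4, nat_lit 5, nat_lit 2])) (.node (nat_lit 0xd00020208300085008040043030404002890) (.leaf [nat_lit 5, nat_lit 4, nat_lit 1, nat_lit 6, nat_lit 5]) (.leaf [nat_lit 2, nat_lit 5, nat_lit 0, nat_lit 4]))))
 (.node (nat_lit 0xd00200208120080054044480022009011802) (.node (nat_lit 0xd0008022104009800104460000283000010e) (.leaf [nat_lit 2, nat_lit 6, nat_lit 0, nat_lit 5, nat_lit 4]) (.node (nat_lit 0xd001002082200e080001604000141100008e) (.leaf [nat_lit 3, nat_lit 1, nat_lit 4, nat_lit 6]) (.leaf [nat_lit 6, nat_lit 4, nat_lit 5, nat_lit 4, nat_lit 2])))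
 (.node (nat_lit 0xd008002040050e01000112020084480020b0) (.node (nat_lit 0xd00400282002044280030024008848001111) (.leaf [nat_lit 2, nat_lit 5, nat_lit 6, nat_lit 3]) (.leaf [nat_lit 5, nat_lit 1, nat_lit 5, nat_lit 3, nat_lit 5])) (.node (nat_lit 0xd010002200c008402804a004010a02000511) (.leaf [nat_lit 4, nat_lit 1, nat_lit 5, nat_lit 3, nat_lit 4]) (.leaf [nat_lit 3, nat_lit 0, nat_lit 4, nat_lit 5, nat_lit 0, nat_lit 4]))))))
 (.node (nat_lit 0xe00080121040080a08042101014022008414) (.node (nat_lit 0xe000011048040a003004218001064000900a) (.node (nat_lit 0xd10000240018088081020424006140001a02) (.node (nat_lit 0xd04000200805081028040680028012012140) (.leaf [nat_lit 1, nat_lit 4, nat_lit 0, nat_lit 3]) (.node (nat_lit 0xd08000200320090081043004024012000c48) (.leaf [nat_lit 5, nat_lit 4, nat_lit 5, nat_lit 3, nat_lit 2, nat_lit 4]) (.leaf [nat_lit 2, nat_lit 6, nat_lit 3, nat_lit 0, nat_lit 4])))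
 (.node (nat_lit 0xd400002100180a090000b004004680000063) (.node (nat_lit 0xd200002010c00c090001042400c012002209) (.leaf [nat_lit 5, nat_lit 4, nat_lit 2, nat_lit 3]) (.leaf [nat_lit 5, nat_lit 6])) (.node (nat_lit 0xd80000202402060900018081005028000254) (.leaf [nat_lit 2, nat_lit 5, nat_lit 1, nat_lit 4]) (.leaf [nat_lit 0, nat_lit 6, nat_lit 1, nat_lit 4]))))
 (.node (nat_lit 0xe00008150010080a80024500009003002064) (.node (nat_lit 0xe000021824000602040140a0009009000950) (.leaf [nat_lit 6, nat_lit 5, nat_lit 1, nat_lit 4, nat_lit 5, nat_lit 3]) (.node (nat_lit 0xe00004104801091100060202008490002068) (.leaf [nat_lit 5, nat_lit 2, nat_lit 3, nat_lit 4]) (.leaf [nat_lit 2, nat_lit 1, nat_lit 5, nat_lit 3, nat_lit 5, nat_lit 4])))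
 (.node (nat_lit 0xe000201083000a0011041c0001408200204c) (.node (nat_lit 0xe000101500080a0021008484007200000942) (.leaf [nat_lit 5, nat_lit 2, nat_lit 3, nat_lit 1, nat_lit 4]) (.leaf [nat_lit 2, nat_lit 4, nat_lit 1, nat_lit 5, nat_lit 4])) (.node (nat_lit 0xe000401210800cc00001060100202c000912) (.leaf [nat_lit 4, nat_lit 2, nat_lit 5]) (.leaf [nat_lit 6, nat_lit 0, nat_lit 5])))))
 (.node (nat_lit 0xe040001008050c80400205080100a2003210) (.node (nat_lit 0xe00400182002041820024108010241008094) (.node (nat_lit 0xe00100108220091004042081024408000852) (.leaf [nat_lit 5, nat_lit 6, nat_lit 2, nat_lit 1, nat_lit 6]) (.node (nat_lit 0xe00200108120080888060006010441007010) (.leaf [nat_lit 4, nat_lit 5, nat_lit 0, nat_lit 4, nat_lit 3]) (.leaf [nat_lit 6, nat_lit 2, nat_lit 5, nat_lit 0, nat_lit 4])))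
 (.node (nat_lit 0xe010001200c0090104040c2000800b006210) (.node (nat_lit 0xe0080010400508028804142003a000000152) (.leaf [nat_lit 5, nat_lit 2, nat_lit 6]) (.leaf [nat_lit 4, nat_lit 3, nat_lit 5, nat_lit 1, nat_lit 4])) (.node (nat_lit 0xe0200018040204018103880000521000006c) (.leaf [nat_lit 2, nat_lit 3, nat_lit 4, nat_lit 2]) (.leaf [nat_lit 3, nat_lit 4, nat_lit 6]))))
 (.node (nat_lit 0xe200001010c008003104020601a800004508) (.node (nat_lit 0xe080001003200c404003280000100b000494) (.leaf [nat_lit 0, nat_lit 4, nat_lit 6, nat_lit 4, nat_lit 5]) (.node (nat_lit 0xe1000014001808110402a8000040a2000641) (.leaf [nat_lit 4, nat_lit 3, nat_lit 1, nat_lit 4]) (.leaf [nat_lit 2, nat_lit 5, nat_lit 4, nat_lit 2, nat_lit 3])))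
 (.node (nat_lit 0xe8000010240204c040020031011104000a88) (.node (nat_lit 0xe4000011001808c040020206002181001c20) (.leaf [nat_lit 0, nat_lit 4, nat_lit 6, nat_lit 0, nat_lit 4]) (.leaf [nat_lit 1, nat_lit 4, nat_lit 5, nat_lit 6, nat_lit 4])) (.node (nat_lit 0xf000000824020500180210c0008320004805) (.leaf [nat_lit 6, nat_lit 3, nat_lit 4, nat_lit 6, nat_lit 2, nat_lit 3]) (.leaf [nat_lit 3, nat_lit 4, nat_lit 0, nat_lit 4, nat_lit 5]))))))))))))
noncomputable def y6r : ℕ → List ℕ := fun i => ite' (Nat.beq i 1) [15, 5264, 622848, 3416064, 4196928, 8536096] (ite' (Nat.beq i 2) [27, 5252, 57856, 2162784, 4587776, 9963520] [57, 133760, 541952, 2162754, 5275652, 8663040])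
noncomputable def y6n : ℕ → ℕ := fun x => cntL (unp 6 x) fun a => bnot (Nat.beq (Nat.land a 7) 0)
theorem y6c : (allL GB.sxP fun x => frc (y6n x) fun i => band (band (mskC 24 (y6r i)) (Nat.beq (y6r i).length (unp 6 x).length)) (mvF 24 (y6r i) (unp 6 x) (apL 5 31 y3T (y6W.get x)))) = true := by decide +kernel
noncomputable def d2t0 : ℕ := (nat_lit 0x8bcd6925d5a5d674326d540a418820)
noncomputable def d2t1 : ℕ := (nat_lit 0x7520f4cee6b450a69e4b654a418820)
noncomputable def d2t2 : ℕ := (nat_lit 0xa20b75c6464b5cc9a9f63c2a418820)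
noncomputable def d2t3 : ℕ := (nat_lit 0x33a70abd349590c2aa2d3dd6418820)
noncomputable def d2t4 : ℕ := (nat_lit 0x959c59dda87d6274a97061a8410c20)
noncomputable def d2t5 : ℕ := (nat_lit 0x299b43ca2463aaf5a12a9daf010c20)
noncomputable def d2T : Tr ℕ := (.node (nat_lit 3) (.node (nat_lit 1) (.leaf d2t0) (.node (nat_lit 2) (.leaf d2t1) (.leaf d2t2))) (.node (nat_lit 4) (.leaf d2t3) (.node (nat_lit 5) (.leaf d2t4) (.leaf d2t5))))
noncomputable def d2L0 : Lev := ⟨(nat_lit 4), (nat_lit 6), (nat_lit 0x40602040405020601050606010601050601030000000000), (nat_lit 0x30302020304040103030304030304020402030000000000),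
 (.leaf 0),
 (.leaf 0)⟩
noncomputable def d2L1 : Lev := ⟨(nat_lit 2), (nat_lit 5), (nat_lit 0x5000000), (nat_lit 0x1000000),
 (.leaf 0),
 (.leaf 0)⟩
noncomputable def d2L2 : Lev := ⟨(nat_lit 5), (nat_lit 4), (nat_lit 0x40303040402020101030100040001020002000000000000), (nat_lit 0x30301030203040204030200010003020002000000000000),
 (.leaf 0),
 (.leaf 0)⟩
noncomputable def d2L3 : Lev := ⟨(nat_lit 6), (nat_lit 2), (nat_lit 0x1000000000200000000000000000000000000000000), (nat_lit 0x1000000000100000000000000000000000000000000),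
 (.leaf 0),
 (.leaf 0)⟩
noncomputable def d2L : List Lev := [d2L0, d2L1, d2L2, d2L3]
theorem d2e : smC [0, 1] [12] [] d2T = true := by decide +kernel
noncomputable def d2W : Tr (List ℕ) := (.node (nat_lit 135168) (.node (nat_lit 8208) (.node (nat_lit 1028) (.node (nat_lit 192) (.node (nat_lit 72) (.node (nat_lit 36) (.node (nat_lit 20) (.leaf []) (.node (nat_lit 24) (.leaf []) (.leaf [nat_lit 4])))
 (.node (nat_lit 48) (.node (nat_lit 40) (.leaf [nat_lit 4, nat_lit 3, nat_lit 5]) (.leaf [nat_lit 2, nat_lit 0, nat_lit 5])) (.node (nat_lit 68) (.leaf []) (.leaf [nat_lit 1, nat_lit 5, nat_lit 4]))))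
 (.node (nat_lit 132) (.node (nat_lit 80) (.leaf [nat_lit 1, nat_lit 5]) (.node (nat_lit 96) (.leaf [nat_lit 0, nat_lit 2]) (.leaf [nat_lit 4, nat_lit 2, nat_lit 5])))
 (.node (nat_lit 144) (.node (nat_lit 136) (.leaf [nat_lit 5, nat_lit 3, nat_lit 0, nat_lit 5]) (.leaf [nat_lit 1, nat_lit 5, nat_lit 4, nat_lit 5])) (.node (nat_lit 160) (.leaf []) (.leaf [nat_lit 2, nat_lit 0, nat_lit 5, nat_lit 1, nat_lit 4])))))
 (.node (nat_lit 516) (.node (nat_lit 272) (.node (nat_lit 260) (.leaf [nat_lit 2, nat_lit 5, nat_lit 3, nat_lit 2]) (.node (nat_lit 264) (.leaf [nat_lit 4, nat_lit 5]) (.leaf [nat_lit 4, nat_lit 5, nat_lit 4])))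
 (.node (nat_lit 320) (.node (nat_lit 288) (.leaf [nat_lit 0, nat_lit 3]) (.leaf [nat_lit 4, nat_lit 5, nat_lit 4])) (.node (nat_lit 384) (.leaf [nat_lit 1, nat_lit 5, nat_lit 2]) (.leaf [nat_lit 4, nat_lit 5, nat_lit 1, nat_lit 4]))))
 (.node (nat_lit 544) (.node (nat_lit 520) (.leaf [nat_lit 1, nat_lit 3, nat_lit 0, nat_lit 5, nat_lit 4]) (.node (nat_lit 528) (.leaf [nat_lit 1, nat_lit 3, nat_lit 0, nat_lit 5]) (.leaf [nat_lit 4, nat_lit 3])))
 (.node (nat_lit 640) (.node (nat_lit 576) (.leaf [nat_lit 0, nat_lit 2, nat_lit 0, nat_lit 5]) (.leaf [nat_lit 1, nat_lit 5])) (.node (nat_lit 768) (.leaf [nat_lit 5, nat_lit 3, nat_lit 0, nat_lit 5]) (.leaf [nat_lit 4, nat_lit 5, nat_lit 3]))))))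
 (.node (nat_lit 2304) (.node (nat_lit 1536) (.node (nat_lit 1056) (.node (nat_lit 1032) (.leaf [nat_lit 5, nat_lit 4, nat_lit 5, nat_lit 4]) (.node (nat_lit 1040) (.leaf [nat_lit 5, nat_lit 4, nat_lit 5]) (.leaf [nat_lit 0])))
 (.node (nat_lit 1152) (.node (nat_lit 1088) (.leaf [nat_lit 2, nat_lit 0, nat_lit 5, nat_lit 3, nat_lit 2]) (.leaf [nat_lit 2, nat_lit 5, nat_lit 0, nat_lit 3])) (.node (nat_lit 1280) (.leaf [nat_lit 5, nat_lit 4, nat_lit 5]) (.leaf [nat_lit 4, nat_lit 5, nat_lit 0, nat_lit 3]))))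
 (.node (nat_lit 2064) (.node (nat_lit 2052) (.leaf [nat_lit 5, nat_lit 4, nat_lit 5, nat_lit 3]) (.node (nat_lit 2056) (.leaf [nat_lit 1, nat_lit 4, nat_lit 5]) (.leaf [nat_lit 1, nat_lit 4, nat_lit 5, nat_lit 4])))
 (.node (nat_lit 2112) (.node (nat_lit 2080) (.leaf [nat_lit 3]) (.leaf [nat_lit 1, nat_lit 4, nat_lit 5, nat_lit 4])) (.node (nat_lit 2176) (.leaf [nat_lit 2, nat_lit 5]) (.leaf [nat_lit 5, nat_lit 1, nat_lit 4, nat_lit 5])))))
 (.node (nat_lit 4160) (.node (nat_lit 4100) (.node (nat_lit 2560) (.leaf [nat_lit 4, nat_lit 5, nat_lit 4, nat_lit 3]) (.node (nat_lit 3072) (.leaf [nat_lit 1, nat_lit 4, nat_lit 5]) (.leaf [nat_lit 1, nat_lit 4, nat_lit 5, nat_lit 3, nat_lit 2])))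
 (.node (nat_lit 4112) (.node (nat_lit 4104) (.leaf [nat_lit 5, nat_lit 1, nat_lit 3, nat_lit 5]) (.leaf [nat_lit 0, nat_lit 5, nat_lit 4, nat_lit 5])) (.node (nat_lit 4128) (.leaf [nat_lit 1]) (.leaf [nat_lit 4, nat_lit 3, nat_lit 5, nat_lit 3, nat_lit 2]))))
 (.node (nat_lit 5120) (.node (nat_lit 4352) (.node (nat_lit 4224) (.leaf [nat_lit 1, nat_lit 5, nat_lit 3, nat_lit 2]) (.leaf [nat_lit 5, nat_lit 3, nat_lit 0, nat_lit 5])) (.node (nat_lit 4608) (.leaf [nat_lit 4, nat_lit 5, nat_lit 3, nat_lit 2]) (.leaf [nat_lit 0, nat_lit 5, nat_lit 4, nat_lit 5])))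
 (.node (nat_lit 8196) (.node (nat_lit 6144) (.leaf [nat_lit 5, nat_lit 4, nat_lit 5, nat_lit 1]) (.leaf [nat_lit 5, nat_lit 1, nat_lit 3, nat_lit 5, nat_lit 2])) (.node (nat_lit 8200) (.leaf [nat_lit 5, nat_lit 0, nat_lit 5]) (.leaf [nat_lit 5, nat_lit 0, nat_lit 5, nat_lit 4])))))))
 (.node (nat_lit 33792) (.node (nat_lit 16512) (.node (nat_lit 10240) (.node (nat_lit 8320) (.node (nat_lit 8224) (.leaf [nat_lit 1, nat_lit 3]) (.node (nat_lit 8256) (.leaf [nat_lit 0, nat_lit 4, nat_lit 5, nat_lit 4]) (.leaf [nat_lit 1, nat_lit 5, nat_lit 3])))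
 (.node (nat_lit 8704) (.node (nat_lit 8448) (.leaf [nat_lit 0, nat_lit 4, nat_lit 5, nat_lit 3, nat_lit 2]) (.leaf [nat_lit 2, nat_lit 5, nat_lit 1, nat_lit 5])) (.node (nat_lit 9216) (.leaf [nat_lit 0, nat_lit 4, nat_lit 5]) (.leaf [nat_lit 5, nat_lit 0, nat_lit 5, nat_lit 3]))))
 (.node (nat_lit 16392) (.node (nat_lit 12288) (.leaf [nat_lit 5, nat_lit 0, nat_lit 5, nat_lit 2]) (.node (nat_lit 16388) (.leaf [nat_lit 5, nat_lit 1, nat_lit 2, nat_lit 5]) (.leaf [nat_lit 4, nat_lit 0, nat_lit 5])))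
 (.node (nat_lit 16416) (.node (nat_lit 16400) (.leaf [nat_lit 4, nat_lit 0, nat_lit 5, nat_lit 4]) (.leaf [nat_lit 4, nat_lit 2])) (.node (nat_lit 16448) (.leaf [nat_lit 4, nat_lit 3, nat_lit 5]) (.leaf [nat_lit 1, nat_lit 5])))))
 (.node (nat_lit 32772) (.node (nat_lit 17408) (.node (nat_lit 16640) (.leaf [nat_lit 4, nat_lit 0, nat_lit 5, nat_lit 0, nat_lit 3]) (.node (nat_lit 16896) (.leaf [nat_lit 4, nat_lit 5, nat_lit 1, nat_lit 3]) (.leaf [nat_lit 4, nat_lit 0, nat_lit 5, nat_lit 2])))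
 (.node (nat_lit 20480) (.node (nat_lit 18432) (.leaf [nat_lit 4, nat_lit 0, nat_lit 5, nat_lit 3, nat_lit 2]) (.leaf [nat_lit 0, nat_lit 5, nat_lit 0, nat_lit 5])) (.node (nat_lit 24576) (.leaf [nat_lit 0, nat_lit 5, nat_lit 4, nat_lit 5, nat_lit 2]) (.leaf [nat_lit 4, nat_lit 0, nat_lit 5]))))
 (.node (nat_lit 32832) (.node (nat_lit 32784) (.node (nat_lit 32776) (.leaf [nat_lit 1, nat_lit 3, nat_lit 5, nat_lit 4]) (.leaf [nat_lit 1, nat_lit 3, nat_lit 5])) (.node (nat_lit 32800) (.leaf [nat_lit 1, nat_lit 4]) (.leaf [nat_lit 1, nat_lit 3, nat_lit 5, nat_lit 3])))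
 (.node (nat_lit 33024) (.node (nat_lit 32896) (.leaf [nat_lit 1, nat_lit 5, nat_lit 4]) (.leaf [nat_lit 1, nat_lit 5, nat_lit 3, nat_lit 5, nat_lit 2])) (.node (nat_lit 33280) (.leaf [nat_lit 4, nat_lit 5, nat_lit 1]) (.leaf [nat_lit 4, nat_lit 1, nat_lit 3, nat_lit 5, nat_lit 2]))))))
 (.node (nat_lit 67584) (.node (nat_lit 65552) (.node (nat_lit 40960) (.node (nat_lit 34816) (.leaf [nat_lit 3, nat_lit 5, nat_lit 4, nat_lit 5]) (.node (nat_lit 36864) (.leaf [nat_lit 1, nat_lit 3, nat_lit 5, nat_lit 2]) (.leaf [nat_lit 1, nat_lit 3, nat_lit 5, nat_lit 3, nat_lit 2])))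
 (.node (nat_lit 65540) (.node (nat_lit 49152) (.leaf [nat_lit 3, nat_lit 4, nat_lit 5]) (.leaf [nat_lit 4, nat_lit 1, nat_lit 2, nat_lit 5])) (.node (nat_lit 65544) (.leaf [nat_lit 5, nat_lit 4]) (.leaf [nat_lit 5]))))
 (.node (nat_lit 65664) (.node (nat_lit 65568) (.leaf [nat_lit 1, nat_lit 2]) (.node (nat_lit 65600) (.leaf [nat_lit 5, nat_lit 2, nat_lit 4]) (.leaf [nat_lit 5, nat_lit 0, nat_lit 4])))
 (.node (nat_lit 66048) (.node (nat_lit 65792) (.leaf [nat_lit 5, nat_lit 3, nat_lit 2]) (.leaf [nat_lit 5, nat_lit 0])) (.node (nat_lit 66560) (.leaf [nat_lit 5, nat_lit 4, nat_lit 3]) (.leaf [nat_lit 5, nat_lit 0, nat_lit 3])))))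
 (.node (nat_lit 131088) (.node (nat_lit 81920) (.node (nat_lit 69632) (.leaf [nat_lit 5, nat_lit 3]) (.node (nat_lit 73728) (.leaf [nat_lit 5, nat_lit 1, nat_lit 4]) (.leaf [nat_lit 5, nat_lit 2])))
 (.node (nat_lit 131076) (.node (nat_lit 98304) (.leaf [nat_lit 5, nat_lit 4, nat_lit 2]) (.leaf [nat_lit 5, nat_lit 1])) (.node (nat_lit 131080) (.leaf [nat_lit 1, nat_lit 4, nat_lit 0, nat_lit 5]) (.leaf [nat_lit 4, nat_lit 5, nat_lit 0, nat_lit 5]))))
 (.node (nat_lit 131328) (.node (nat_lit 131136) (.node (nat_lit 131104) (.leaf [nat_lit 1, nat_lit 4, nat_lit 2]) (.leaf [nat_lit 2, nat_lit 0, nat_lit 5])) (.node (nat_lit 131200) (.leaf [nat_lit 1, nat_lit 5, nat_lit 4, nat_lit 2]) (.leaf [nat_lit 3, nat_lit 5, nat_lit 3, nat_lit 0, nat_lit 5])))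
 (.node (nat_lit 132096) (.node (nat_lit 131584) (.leaf [nat_lit 4, nat_lit 5, nat_lit 2]) (.leaf [nat_lit 4, nat_lit 5, nat_lit 0, nat_lit 5, nat_lit 2])) (.node (nat_lit 133120) (.leaf [nat_lit 5, nat_lit 4, nat_lit 5, nat_lit 2]) (.leaf [nat_lit 4, nat_lit 0, nat_lit 4, nat_lit 5]))))))))
 (.node (nat_lit 2097168) (.node (nat_lit 525312) (.node (nat_lit 264192) (.node (nat_lit 262160) (.node (nat_lit 163840) (.node (nat_lit 139264) (.leaf [nat_lit 0, nat_lit 5, nat_lit 4, nat_lit 5, nat_lit 4]) (.node (nat_lit 147456) (.leaf [nat_lit 5, nat_lit 0, nat_lit 5]) (.leaf [nat_lit 4, nat_lit 0, nat_lit 5, nat_lit 0])))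
 (.node (nat_lit 262148) (.node (nat_lit 196608) (.leaf [nat_lit 0, nat_lit 3, nat_lit 1, nat_lit 5]) (.leaf [nat_lit 5, nat_lit 1, nat_lit 4, nat_lit 2])) (.node (nat_lit 262152) (.leaf [nat_lit 4, nat_lit 3, nat_lit 1, nat_lit 5]) (.leaf [nat_lit 0, nat_lit 3, nat_lit 0, nat_lit 5]))))
 (.node (nat_lit 262272) (.node (nat_lit 262176) (.leaf [nat_lit 0, nat_lit 3, nat_lit 2]) (.node (nat_lit 262208) (.leaf [nat_lit 2, nat_lit 0, nat_lit 5]) (.leaf [nat_lit 1, nat_lit 5, nat_lit 4, nat_lit 3])))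
 (.node (nat_lit 262656) (.node (nat_lit 262400) (.leaf [nat_lit 1, nat_lit 5, nat_lit 4, nat_lit 5, nat_lit 3]) (.leaf [nat_lit 4, nat_lit 5])) (.node (nat_lit 263168) (.leaf [nat_lit 1, nat_lit 3, nat_lit 0, nat_lit 5]) (.leaf [nat_lit 5, nat_lit 4, nat_lit 5])))))
 (.node (nat_lit 524292) (.node (nat_lit 278528) (.node (nat_lit 266240) (.leaf [nat_lit 1, nat_lit 4, nat_lit 5, nat_lit 3]) (.node (nat_lit 270336) (.leaf [nat_lit 1, nat_lit 5, nat_lit 3, nat_lit 0, nat_lit 5]) (.leaf [nat_lit 5, nat_lit 0, nat_lit 5])))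
 (.node (nat_lit 327680) (.node (nat_lit 294912) (.leaf [nat_lit 2, nat_lit 5, nat_lit 0, nat_lit 5]) (.leaf [nat_lit 4, nat_lit 0, nat_lit 5, nat_lit 1, nat_lit 5])) (.node (nat_lit 393216) (.leaf [nat_lit 5, nat_lit 0, nat_lit 3, nat_lit 2]) (.leaf [nat_lit 1, nat_lit 4, nat_lit 0, nat_lit 5, nat_lit 2]))))
 (.node (nat_lit 524352) (.node (nat_lit 524304) (.node (nat_lit 524296) (.leaf [nat_lit 3, nat_lit 0, nat_lit 5, nat_lit 4]) (.leaf [nat_lit 3, nat_lit 0, nat_lit 5])) (.node (nat_lit 524320) (.leaf [nat_lit 3, nat_lit 2]) (.leaf [nat_lit 2, nat_lit 0, nat_lit 5, nat_lit 2])))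
 (.node (nat_lit 524544) (.node (nat_lit 524416) (.leaf [nat_lit 2, nat_lit 5, nat_lit 3]) (.leaf [nat_lit 1, nat_lit 5, nat_lit 4, nat_lit 5])) (.node (nat_lit 524800) (.leaf [nat_lit 4, nat_lit 5]) (.leaf [nat_lit 3, nat_lit 0, nat_lit 5]))))))
 (.node (nat_lit 1048704) (.node (nat_lit 655360) (.node (nat_lit 532480) (.node (nat_lit 526336) (.leaf [nat_lit 3, nat_lit 0, nat_lit 5, nat_lit 3, nat_lit 2]) (.node (nat_lit 528384) (.leaf [nat_lit 1, nat_lit 4, nat_lit 5]) (.leaf [nat_lit 3, nat_lit 0, nat_lit 5, nat_lit 0, nat_lit 3])))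
 (.node (nat_lit 557056) (.node (nat_lit 540672) (.leaf [nat_lit 3, nat_lit 0, nat_lit 5, nat_lit 3]) (.leaf [nat_lit 3, nat_lit 0, nat_lit 5, nat_lit 4])) (.node (nat_lit 589824) (.leaf [nat_lit 3, nat_lit 0, nat_lit 5]) (.leaf [nat_lit 5]))))
 (.node (nat_lit 1048584) (.node (nat_lit 786432) (.leaf [nat_lit 4, nat_lit 3, nat_lit 0, nat_lit 5, nat_lit 3]) (.node (nat_lit 1048580) (.leaf [nat_lit 0, nat_lit 3, nat_lit 0, nat_lit 5]) (.leaf [nat_lit 3, nat_lit 5, nat_lit 4])))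
 (.node (nat_lit 1048608) (.node (nat_lit 1048592) (.leaf [nat_lit 3, nat_lit 5]) (.leaf [nat_lit 4])) (.node (nat_lit 1048640) (.leaf [nat_lit 3, nat_lit 5, nat_lit 3]) (.leaf [nat_lit 2, nat_lit 5])))))
 (.node (nat_lit 1064960) (.node (nat_lit 1049600) (.node (nat_lit 1048832) (.leaf [nat_lit 3, nat_lit 5, nat_lit 3, nat_lit 2]) (.node (nat_lit 1049088) (.leaf [nat_lit 3, nat_lit 5, nat_lit 2]) (.leaf [nat_lit 3, nat_lit 5, nat_lit 1, nat_lit 4, nat_lit 2])))
 (.node (nat_lit 1052672) (.node (nat_lit 1050624) (.leaf [nat_lit 5, nat_lit 3, nat_lit 5, nat_lit 2]) (.leaf [nat_lit 3, nat_lit 5, nat_lit 2, nat_lit 4])) (.node (nat_lit 1056768) (.leaf [nat_lit 3, nat_lit 5, nat_lit 1, nat_lit 4]) (.leaf [nat_lit 3, nat_lit 5, nat_lit 0]))))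
 (.node (nat_lit 1310720) (.node (nat_lit 1114112) (.node (nat_lit 1081344) (.leaf [nat_lit 3, nat_lit 5, nat_lit 0, nat_lit 2]) (.leaf [nat_lit 1, nat_lit 5, nat_lit 2, nat_lit 5])) (.node (nat_lit 1179648) (.leaf [nat_lit 5, nat_lit 4]) (.leaf [nat_lit 3, nat_lit 5, nat_lit 4, nat_lit 3])))
 (.node (nat_lit 2097156) (.node (nat_lit 1572864) (.leaf [nat_lit 3, nat_lit 5, nat_lit 1]) (.leaf [nat_lit 3, nat_lit 5, nat_lit 1, nat_lit 3])) (.node (nat_lit 2097160) (.leaf [nat_lit 0, nat_lit 5, nat_lit 4]) (.leaf [nat_lit 0, nat_lit 5])))))))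
 (.node (nat_lit 4210688) (.node (nat_lit 2359296) (.node (nat_lit 2099200) (.node (nat_lit 2097280) (.node (nat_lit 2097184) (.leaf [nat_lit 2]) (.node (nat_lit 2097216) (.leaf [nat_lit 0, nat_lit 5, nat_lit 2, nat_lit 4]) (.leaf [nat_lit 4, nat_lit 1, nat_lit 5])))
 (.node (nat_lit 2097664) (.node (nat_lit 2097408) (.leaf [nat_lit 0, nat_lit 5, nat_lit 1, nat_lit 4]) (.leaf [nat_lit 0, nat_lit 5, nat_lit 3])) (.node (nat_lit 2098176) (.leaf [nat_lit 1, nat_lit 2, nat_lit 5, nat_lit 3]) (.leaf [nat_lit 0, nat_lit 5, nat_lit 3, nat_lit 2]))))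
 (.node (nat_lit 2113536) (.node (nat_lit 2101248) (.leaf [nat_lit 0, nat_lit 5, nat_lit 2]) (.node (nat_lit 2105344) (.leaf [nat_lit 0, nat_lit 5, nat_lit 0, nat_lit 3]) (.leaf [nat_lit 0, nat_lit 5, nat_lit 0])))
 (.node (nat_lit 2162688) (.node (nat_lit 2129920) (.leaf [nat_lit 1, nat_lit 2, nat_lit 5, nat_lit 4]) (.leaf [nat_lit 1, nat_lit 2, nat_lit 5])) (.node (nat_lit 2228224) (.leaf [nat_lit 5, nat_lit 1, nat_lit 3]) (.leaf [nat_lit 0, nat_lit 5])))))
 (.node (nat_lit 4194368) (.node (nat_lit 4194308) (.node (nat_lit 2621440) (.leaf [nat_lit 0, nat_lit 5]) (.node (nat_lit 3145728) (.leaf [nat_lit 0, nat_lit 5, nat_lit 4, nat_lit 3]) (.leaf [nat_lit 3, nat_lit 5])))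
 (.node (nat_lit 4194320) (.node (nat_lit 4194312) (.leaf [nat_lit 5, nat_lit 1, nat_lit 5]) (.leaf [nat_lit 0, nat_lit 3, nat_lit 5])) (.node (nat_lit 4194336) (.leaf [nat_lit 0, nat_lit 4]) (.leaf [nat_lit 2, nat_lit 0, nat_lit 5, nat_lit 3]))))
 (.node (nat_lit 4195328) (.node (nat_lit 4194560) (.node (nat_lit 4194432) (.leaf [nat_lit 2, nat_lit 5, nat_lit 0]) (.leaf [nat_lit 5, nat_lit 2, nat_lit 5, nat_lit 3])) (.node (nat_lit 4194816) (.leaf [nat_lit 4, nat_lit 5, nat_lit 0, nat_lit 2]) (.leaf [nat_lit 5, nat_lit 1, nat_lit 5])))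
 (.node (nat_lit 4198400) (.node (nat_lit 4196352) (.leaf [nat_lit 5, nat_lit 1, nat_lit 5, nat_lit 2]) (.leaf [nat_lit 5, nat_lit 2, nat_lit 5])) (.node (nat_lit 4202496) (.leaf [nat_lit 5, nat_lit 1, nat_lit 5, nat_lit 4]) (.leaf [nat_lit 0, nat_lit 3, nat_lit 5, nat_lit 2]))))))
 (.node (nat_lit 8388864) (.node (nat_lit 6291456) (.node (nat_lit 4325376) (.node (nat_lit 4227072) (.leaf [nat_lit 5, nat_lit 1, nat_lit 5]) (.node (nat_lit 4259840) (.leaf [nat_lit 2, nat_lit 4, nat_lit 5, nat_lit 3]) (.leaf [nat_lit 5, nat_lit 0, nat_lit 2])))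
 (.node (nat_lit 4718592) (.node (nat_lit 4456448) (.leaf [nat_lit 2, nat_lit 4, nat_lit 5]) (.leaf [nat_lit 2, nat_lit 4, nat_lit 5, nat_lit 2])) (.node (nat_lit 5242880) (.leaf [nat_lit 5, nat_lit 2, nat_lit 5, nat_lit 3, nat_lit 2]) (.leaf [nat_lit 5, nat_lit 2, nat_lit 5]))))
 (.node (nat_lit 8388624) (.node (nat_lit 8388612) (.leaf [nat_lit 0, nat_lit 5, nat_lit 4]) (.node (nat_lit 8388616) (.leaf [nat_lit 3, nat_lit 1, nat_lit 5, nat_lit 4]) (.leaf [nat_lit 3, nat_lit 1, nat_lit 5])))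
 (.node (nat_lit 8388672) (.node (nat_lit 8388640) (.leaf [nat_lit 2, nat_lit 4]) (.leaf [nat_lit 3, nat_lit 2, nat_lit 5])) (.node (nat_lit 8388736) (.leaf [nat_lit 2, nat_lit 5, nat_lit 4]) (.leaf [nat_lit 3, nat_lit 2, nat_lit 5, nat_lit 3, nat_lit 2])))))
 (.node (nat_lit 8421376) (.node (nat_lit 8390656) (.node (nat_lit 8389120) (.leaf [nat_lit 3, nat_lit 1, nat_lit 5, nat_lit 3]) (.node (nat_lit 8389632) (.leaf [nat_lit 3, nat_lit 1, nat_lit 5, nat_lit 4, nat_lit 2]) (.leaf [nat_lit 5, nat_lit 4, nat_lit 5, nat_lit 4])))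
 (.node (nat_lit 8396800) (.node (nat_lit 8392704) (.leaf [nat_lit 1, nat_lit 4, nat_lit 5, nat_lit 2]) (.leaf [nat_lit 3, nat_lit 1, nat_lit 5, nat_lit 3, nat_lit 2])) (.node (nat_lit 8404992) (.leaf [nat_lit 3, nat_lit 1, nat_lit 5, nat_lit 2]) (.leaf [nat_lit 4, nat_lit 0, nat_lit 5]))))
 (.node (nat_lit 8912896) (.node (nat_lit 8519680) (.node (nat_lit 8454144) (.leaf [nat_lit 0, nat_lit 5, nat_lit 1, nat_lit 5]) (.leaf [nat_lit 5])) (.node (nat_lit 8650752) (.leaf [nat_lit 3, nat_lit 1, nat_lit 5]) (.leaf [nat_lit 3, nat_lit 1, nat_lit 5, nat_lit 4])))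
 (.node (nat_lit 10485760) (.node (nat_lit 9437184) (.leaf [nat_lit 3, nat_lit 4, nat_lit 1, nat_lit 5]) (.leaf [nat_lit 5, nat_lit 3, nat_lit 5, nat_lit 3])) (.node (nat_lit 12582912) (.leaf [nat_lit 0, nat_lit 5, nat_lit 4, nat_lit 2]) (.leaf [nat_lit 3, nat_lit 1, nat_lit 5])))))))))
noncomputable def d2r : ℕ → Bool → ℕ := fun i b => ite' (Nat.beq i 2) 12 (ite' (Nat.beq i 1) 20 (ite' b 144 48))
theorem d2c : enS 16777212 (fun Y => frc (Nat.lor 15 Y) fun Z => Nat.beq (imOn 24 (apL 5 31 d2T (d2W.get Y)) (d2r (H7.pc24 (Nat.land 12 Y)) (anyL StB.oL fun b => Nat.beq (Nat.land b Z) Z))) Y) 24 2 0 = true := by decide +kernel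
noncomputable def m10t0 : ℕ := (nat_lit 0xbae957b6289ba44b1cd0524ac18820)
noncomputable def m10t1 : ℕ := (nat_lit 0xb926faa22da3a0b6255231cb618820)
noncomputable def m10t2 : ℕ := (nat_lit 0xbd6cb22627638cfa224a834b318820)
noncomputable def m10t3 : ℕ := (nat_lit 0xba91094e346b9e63d8955b0a918820)
noncomputable def m10t4 : ℕ := (nat_lit 0xbc8e49a8a884589a59af355cb18820)
noncomputable def m10t5 : ℕ := (nat_lit 0xba8cb9d9cf4152d24990a9e3418820)
noncomputable def m10t6 : ℕ := (nat_lit 0xb8d9494dae7c2353292742c85b0820)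
noncomputable def m10t7 : ℕ := (nat_lit 0xbdaae2a08a7d0ec140d26a6711ac20)
noncomputable def m10t8 : ℕ := (nat_lit 0xb9c347a9109b9626c931b0ca4332a0)
noncomputable def m10t9 : ℕ := (nat_lit 0x3942b9bc6e9408ca2928b9acd88aa0)
noncomputable def m10t10 : ℕ := (nat_lit 0x59513a40d26a5e0b8dd50c6c2510ec)
noncomputable def m10T : Tr ℕ := (.node (nat_lit 5) (.node (nat_lit 2) (.node (nat_lit 1) (.leaf m10t0) (.leaf m10t1)) (.node (nat_lit 3) (.leaf m10t2) (.node (nat_lit 4) (.leaf m10t3) (.leaf m10t4))))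
 (.node (nat_lit 8) (.node (nat_lit 6) (.leaf m10t5) (.node (nat_lit 7) (.leaf m10t6) (.leaf m10t7))) (.node (nat_lit 9) (.leaf m10t8) (.node (nat_lit 10) (.leaf m10t9) (.leaf m10t10)))))
noncomputable def m10L0 : Lev := ⟨(nat_lit 0), (nat_lit 11), (nat_lit 0xb020705030a0806030b050b020206050404070109090900), (nat_lit 0x30302030303030302030201020302030302030203020300),
 (.leaf 0),
 (.leaf 0)⟩
noncomputable def m10L1 : Lev := ⟨(nat_lit 23), (nat_lit 10), (nat_lit 0x905040205090305070804040102070a020a0509080900), (nat_lit 0x202030303030203030203020203020102030303030300),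
 (.leaf 0),
 (.leaf 0)⟩
noncomputable def m10L2 : Lev := ⟨(nat_lit 1), (nat_lit 9), (nat_lit 0x309010204090402080307030401040605080607090000), (nat_lit 0x201020203030303030302030303020202030303030000),
 (.leaf 0),
 (.leaf 0)⟩
noncomputable def m10L3 : Lev := ⟨(nat_lit 2), (nat_lit 8), (nat_lit 0x103030306080403080502080406070407070507000000), (nat_lit 0x203020303030303030302010303030202030203000000),
 (.leaf 0),
 (.leaf 0)⟩
noncomputable def m10L4 : Lev := ⟨(nat_lit 3), (nat_lit 7), (nat_lit 0x703030306050403060102010404040407070200000000), (nat_lit 0x102030302040404040303020203030303030200000000),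
 (.leaf 0),
 (.leaf 0)⟩
noncomputable def m10L5 : Lev := ⟨(nat_lit 5), (nat_lit 6), (nat_lit 0x50000060000000000000000000000000000), (nat_lit 0x10000010000000000000000000000000000),
 (.leaf 0),
 (.leaf 0)⟩
noncomputable def m10L6 : Lev := ⟨(nat_lit 4), (nat_lit 4), (nat_lit 0x203030304000403000401020404040404000000000000), (nat_lit 0x102030102000402000301020201030302000000000000),
 (.leaf 0),
 (.leaf 0)⟩
noncomputable def m10L : List Lev := [m10L0, m10L1, m10L2, m10L3, m10L4, m10L5, m10L6]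
theorem m10c : band (m10T.all fun c => m24Chk (ap 5 31 c)) (band (tchainChk 24 5 31 m10T m10L) (Nat.ble 244823040 (chainOrd 24 m10L))) = true := by decide +kernel
noncomputable def dut0 : ℕ := (nat_lit 0xbbd8459e29b39559b606920b418820)
noncomputable def dut1 : ℕ := (nat_lit 0xbd17661a2a23933ac1a7448af18820)
noncomputable def dut2 : ℕ := (nat_lit 0xbc92655a2c3b9706cea47d0a818820)
noncomputable def dut3 : ℕ := (nat_lit 0xbb4c93ae2453ac893e8c9d4b018820)
noncomputable def dut4 : ℕ := (nat_lit 0xbae703bcac245144b6caa99d218820)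
noncomputable def dut5 : ℕ := (nat_lit 0xba4eca91d491550b216d99a2f18820)
noncomputable def dut6 : ℕ := (nat_lit 0xb96b29d08e5c0697a18a39ad168820)
noncomputable def dut7 : ℕ := (nat_lit 0xb8ab46263032c93716481bd4d3d820)
noncomputable def dut8 : ℕ := (nat_lit 0xbd6ce986306d1e85992c1a88538a40)
noncomputable def dut9 : ℕ := (nat_lit 0x42a77c6569b02e5a928a18a2191b7)
noncomputable def duT : Tr ℕ := (.node (nat_lit 5) (.node (nat_lit 2) (.node (nat_lit 1) (.leaf dut0) (.leaf dut1)) (.node (nat_lit 3) (.leaf dut2) (.node (nat_lit 4) (.leaf dut3) (.leaf dut4))))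
 (.node (nat_lit 7) (.node (nat_lit 6) (.leaf dut5) (.leaf dut6)) (.node (nat_lit 8) (.leaf dut7) (.node (nat_lit 9) (.leaf dut8) (.leaf dut9)))))
noncomputable def duL0 : Lev := ⟨(nat_lit 0), (nat_lit 10), (nat_lit 0xa0000000000000000000000000000000000000000000000), (nat_lit 0x10000000000000000000000000000000000000000000000),
 (.leaf 0),
 (.leaf 0)⟩
noncomputable def duL1 : Lev := ⟨(nat_lit 23), (nat_lit 9), (nat_lit 0x0), (nat_lit 0x0),
 (.leaf 0),
 (.leaf 0)⟩
noncomputable def duL2 : Lev := ⟨(nat_lit 1), (nat_lit 9), (nat_lit 0x306070409070406080405040908020102070508080000), (nat_lit 0x203020301030302030303020302030202030203030000),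
 (.leaf 0),
 (.leaf 0)⟩
noncomputable def duL3 : Lev := ⟨(nat_lit 2), (nat_lit 8), (nat_lit 0x803020103050601080405060405060308070207000000), (nat_lit 0x103020302030302030203020302030303020303000000),
 (.leaf 0),
 (.leaf 0)⟩
noncomputable def duL4 : Lev := ⟨(nat_lit 3), (nat_lit 7), (nat_lit 0x403040304050204070707030102060201070300000000), (nat_lit 0x203030303040303040103020202020303030300000000),
 (.leaf 0),
 (.leaf 0)⟩
noncomputable def duL5 : Lev := ⟨(nat_lit 5), (nat_lit 6), (nat_lit 0x50000060000000000000000000000000000), (nat_lit 0x10000010000000000000000000000000000),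
 (.leaf 0),
 (.leaf 0)⟩
noncomputable def duL6 : Lev := ⟨(nat_lit 4), (nat_lit 4), (nat_lit 0x204010403000402000404040404030303000000000000), (nat_lit 0x203010303000101000302040202010202000000000000),
 (.leaf 0),
 (.leaf 0)⟩
noncomputable def duL : List Lev := [duL0, duL1, duL2, duL3, duL4, duL5, duL6]
theorem due : smC [] [8388609] [] duT = true := by decide +kernel
noncomputable def duJ : List Pr := [prSM 24 (allM [] [8388609]) []]
noncomputable def duF0 : ℕ × ℕ := ((nat_lit 0xffffffffffffffffffffffffffffffffffffffffffff00), (nat_lit 0))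
theorem dub0 : allR 0 24 (ptB 24 (nat_lit 5) (nat_lit 31) m10T duT duJ m10L0 [m10L1, m10L2, m10L3, m10L4, m10L5, m10L6] duL0 (dg []) duF0.1 duF0.2) = true := by decide +kernel
noncomputable def duF1 : ℕ × ℕ := ((nat_lit 0xffffffffffffffffffffffffffffffffffffffffffff00), (nat_lit 0))
theorem dub1 : allR 0 24 (ptB 24 (nat_lit 5) (nat_lit 31) m10T duT duJ m10L1 [m10L2, m10L3, m10L4, m10L5, m10L6] duL1 (dg [m10L0.b]) duF1.1 duF1.2) = true := by decide +kernel
noncomputable def duF2 : ℕ × ℕ := ((nat_lit 0), (nat_lit 0))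
theorem dub2 : allR 0 24 (ptB 24 (nat_lit 5) (nat_lit 31) m10T duT duJ m10L2 [m10L3, m10L4, m10L5, m10L6] duL2 (dg [m10L1.b, m10L0.b]) duF2.1 duF2.2) = true := by decide +kernel
noncomputable def duF3 : ℕ × ℕ := ((nat_lit 0), (nat_lit 0))
theorem dub3 : allR 0 24 (ptB 24 (nat_lit 5) (nat_lit 31) m10T duT duJ m10L3 [m10L4, m10L5, m10L6] duL3 (dg [m10L2.b, m10L1.b, m10L0.b]) duF3.1 duF3.2) = true := by decide +kernel
noncomputable def duF4 : ℕ × ℕ := ((nat_lit 0), (nat_lit 0))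
theorem dub4 : allR 0 24 (ptB 24 (nat_lit 5) (nat_lit 31) m10T duT duJ m10L4 [m10L5, m10L6] duL4 (dg [m10L3.b, m10L2.b, m10L1.b, m10L0.b]) duF4.1 duF4.2) = true := by decide +kernel
noncomputable def duF5 : ℕ × ℕ := ((nat_lit 0), (nat_lit 0))
theorem dub5 : allR 0 24 (ptB 24 (nat_lit 5) (nat_lit 31) m10T duT duJ m10L5 [m10L6] duL5 (dg [m10L4.b, m10L3.b, m10L2.b, m10L1.b, m10L0.b]) duF5.1 duF5.2) = true := by decide +kernel
noncomputable def duF6 : ℕ × ℕ := ((nat_lit 0), (nat_lit 0))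
theorem dub6 : allR 0 24 (ptB 24 (nat_lit 5) (nat_lit 31) m10T duT duJ m10L6 [] duL6 (dg [m10L5.b, m10L4.b, m10L3.b, m10L2.b, m10L1.b, m10L0.b]) duF6.1 duF6.2) = true := by decide +kernel
theorem dubk : Bk 24 (nat_lit 5) (nat_lit 31) m10T duT duJ m10L duL [duF0, duF1, duF2, duF3, duF4, duF5, duF6] [] :=
  ⟨rfl, dub0, rfl, dub1, rfl, dub2, rfl, dub3, rfl, dub4, rfl, dub5, rfl, dub6, trivial⟩
theorem dutc : tchainChk 24 (nat_lit 5) (nat_lit 31) duT duL = true := by decide +kernel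
theorem duch {C : H7.Coding GolayPt} (hC : GC C) : Ch (SM M24 C [] [8388609] []) 24 5 31 C.dec duT duL :=
  (hC.chSM (hC.ch m10c) due dutc dubk)
theorem ducard {C : H7.Coding GolayPt} (hC : GC C) : Nat.card (SM M24 C [] [8388609] []) = 887040 := (duch hC).card.trans (by decide +kernel)
noncomputable def m11t0 : ℕ := (nat_lit 0x8b0e6542f2481b65cde8ad0a41882e)
noncomputable def m11t1 : ℕ := (nat_lit 0xb5cc77b9809c9b15a548a54a418830)
noncomputable def m11t2 : ℕ := (nat_lit 0x4133a31d63c5b259aa87a8a418837)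
noncomputable def m11t3 : ℕ := (nat_lit 0xa1d97024cf829b55ba48b44a418833)
noncomputable def m11t4 : ℕ := (nat_lit 0x63ef431e09049156ce2b728a418836)
noncomputable def m11t5 : ℕ := (nat_lit 0xa819453931b1d7741a0d94ca41882f)
noncomputable def m11t6 : ℕ := (nat_lit 0xabee5339abb4a2c829093ce8418820)
noncomputable def m11t7 : ℕ := (nat_lit 0x2bd099ca24b01465b6953b2f01882e)
noncomputable def m11t8 : ℕ := (nat_lit 0x759b1016837deac399285aa4480833)
noncomputable def m11t9 : ℕ := (nat_lit 0x3b504700507cecc2a935b99741c432)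
noncomputable def m11t10 : ℕ := (nat_lit 0x3b8aa9a6217d9ac5d248b92a600a03)
noncomputable def m11T : Tr ℕ := (.node (nat_lit 5) (.node (nat_lit 2) (.node (nat_lit 1) (.leaf m11t0) (.leaf m11t1)) (.node (nat_lit 3) (.leaf m11t2) (.node (nat_lit 4) (.leaf m11t3) (.leaf m11t4))))
 (.node (nat_lit 8) (.node (nat_lit 6) (.leaf m11t5) (.node (nat_lit 7) (.leaf m11t6) (.leaf m11t7))) (.node (nat_lit 9) (.leaf m11t8) (.node (nat_lit 10) (.leaf m11t9) (.leaf m11t10)))))
noncomputable def m11L0 : Lev := ⟨(nat_lit 1), (nat_lit 11), (nat_lit 0x30303090401050b04020a030702060706040908090a0002), (nat_lit 0x30203030302020102030303020302030303030202030002),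
 (.leaf 0),
 (.leaf 0)⟩
noncomputable def m11L1 : Lev := ⟨(nat_lit 2), (nat_lit 10), (nat_lit 0x10205090a030a0601030702070405070a04080809000003), (nat_lit 0x20303020303010203020202030302030302030303000003),
 (.leaf 0),
 (.leaf 0)⟩
noncomputable def m11L2 : Lev := ⟨(nat_lit 3), (nat_lit 9), (nat_lit 0x30303090401050904020703070206070604090800000002), (nat_lit 0x30203030302020102030303020302030303030200000002),
 (.leaf 0),
 (.leaf 0)⟩
noncomputable def m11L3 : Lev := ⟨(nat_lit 4), (nat_lit 8), (nat_lit 0x30303080401050804020703070206070604080000000002), (nat_lit 0x30203030302020102030303020302030303040000000002),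
 (.leaf 0),
 (.leaf 0)⟩
noncomputable def m11L4 : Lev := ⟨(nat_lit 5), (nat_lit 7), (nat_lit 0x40402070305040603060706070303070201000000000004), (nat_lit 0x20303010203030403030403050304050202000000000003),
 (.leaf 0),
 (.leaf 0)⟩
noncomputable def m11L5 : Lev := ⟨(nat_lit 8), (nat_lit 6), (nat_lit 0x500060000000000000000000000), (nat_lit 0x100010000000000000000000000),
 (.leaf 0),
 (.leaf 0)⟩
noncomputable def m11L6 : Lev := ⟨(nat_lit 6), (nat_lit 4), (nat_lit 0x40402010304040403040004000303000200000000000004), (nat_lit 0x20301010203010403020002000102000200000000000003),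
 (.leaf 0),
 (.leaf 0)⟩
noncomputable def m11L : List Lev := [m11L0, m11L1, m11L2, m11L3, m11L4, m11L5, m11L6]
theorem m11c : band (m11T.all fun c => m24Chk (ap 5 31 c)) (band (tchainChk 24 5 31 m11T m11L) (Nat.ble 244823040 (chainOrd 24 m11L))) = true := by decide +kernel

end H8.GE
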