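import Cfsg.Agent.H8.Glue
import Cfsg.Agent.H8.Cover

/-! H8.GL211: permutation model of order 660 on 12 points: `P`, `lets`, `std`, `card`, `base` (generated certificate) -/

set_option autoImplicit false
set_option maxRecDepth 200000

namespace H8.L211

noncomputable def t0 : ℕ := (nat_lit 0x304b279586a1)
noncomputable def t1 : ℕ := (nat_lit 0x65381a42079b)
noncomputable def t2 : ℕ := (nat_lit 0x81536249b70a)
noncomputable def t3 : ℕ := (nat_lit 0x6182ba59473)
noncomputable def t4 : ℕ := (nat_lit 0x742a56918b30)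
noncomputable def t5 : ℕ := (nat_lit 0x2853b67a1940)
noncomputable def t6 : ℕ := (nat_lit 0x17b529a63840)
noncomputable def t7 : ℕ := (nat_lit 0x9562a48137b0)
noncomputable def t8 : ℕ := (nat_lit 0x728394a5b610)
noncomputable def t9 : ℕ := (nat_lit 0x963b852a7410)
noncomputable def t10 : ℕ := (nat_lit 0x84b73a629510)
noncomputable def t11 : ℕ := (nat_lit 0x8b9164735a20)
noncomputable def t12 : ℕ := (nat_lit 0xa29b57364180)
noncomputable def t13 : ℕ := (nat_lit 0xab6309458127)
noncomputable def G0 : Tr ℕ := (.node (nat_lit 1) (.leaf t0)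
 (.leaf t1))
noncomputable def T' : Tr ℕ := (.node (nat_lit 7) (.node (nat_lit 3) (.node (nat_lit 1) (.leaf t0)
 (.node (nat_lit 2) (.leaf t1)
 (.leaf t2)))
 (.node (nat_lit 5) (.node (nat_lit 4) (.leaf t3)
 (.leaf t4))
 (.node (nat_lit 6) (.leaf t5)
 (.leaf t6))))
 (.node (nat_lit 10) (.node (nat_lit 8) (.leaf t7)
 (.node (nat_lit 9) (.leaf t8)
 (.leaf t9)))
 (.node (nat_lit 12) (.node (nat_lit 11) (.leaf t10)
 (.leaf t11))
 (.node (nat_lit 13) (.leaf t12)
 (.leaf t13)))))
noncomputable def D : Tr (List ℕ) := (.node (nat_lit 7) (.node (nat_lit 3) (.node (nat_lit 1) (.leaf [])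
 (.node (nat_lit 2) (.leaf [])
 (.leaf [nat_lit 0, nat_lit 0])))
 (.node (nat_lit 5) (.node (nat_lit 4) (.leaf [nat_lit 1, nat_lit 1, nat_lit 1, nat_lit 1, nat_lit 1, nat_lit 1, nat_lit 1, nat_lit 1, nat_lit 1, nat_lit 1])
 (.leaf [nat_lit 0, nat_lit 1, nat_lit 0, nat_lit 1, nat_lit 1, nat_lit 1, nat_lit 2]))
 (.node (nat_lit 6) (.leaf [nat_lit 0, nat_lit 3, nat_lit 3, nat_lit 3, nat_lit 2, nat_lit 3, nat_lit 2])
 (.leaf [nat_lit 0, nat_lit 1, nat_lit 1, nat_lit 1, nat_lit 1, nat_lit 0, nat_lit 1]))))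
 (.node (nat_lit 10) (.node (nat_lit 8) (.leaf [nat_lit 3, nat_lit 2, nat_lit 3, nat_lit 3, nat_lit 3, nat_lit 3, nat_lit 2])
 (.node (nat_lit 9) (.leaf [nat_lit 7, nat_lit 5])
 (.leaf [nat_lit 6, nat_lit 6, nat_lit 4, nat_lit 6, nat_lit 4, nat_lit 4])))
 (.node (nat_lit 12) (.node (nat_lit 11) (.leaf [nat_lit 5, nat_lit 5, nat_lit 7, nat_lit 5, nat_lit 7, nat_lit 7])
 (.leaf [nat_lit 10, nat_lit 5, nat_lit 8]))
 (.node (nat_lit 13) (.leaf [nat_lit 11, nat_lit 11, nat_lit 11, nat_lit 11])
 (.leaf [nat_lit 6, nat_lit 2, nat_lit 10, nat_lit 5, nat_lit 10])))))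
noncomputable def T : Tr ℕ := (.node (nat_lit 2) (.node (nat_lit 1) (.leaf t9)
 (.leaf t10))
 (.node (nat_lit 3) (.leaf t11)
 (.node (nat_lit 4) (.leaf t12)
 (.leaf t13))))
noncomputable def RL_0 : Tr (List ℕ) := (.node (nat_lit 4) (.node (nat_lit 2) (.node (nat_lit 1) (.leaf [nat_lit 0, nat_lit 1])
 (.leaf [nat_lit 0, nat_lit 0, nat_lit 2, nat_lit 1, nat_lit 3, nat_lit 3]))
 (.node (nat_lit 3) (.leaf [nat_lit 0, nat_lit 0, nat_lit 0, nat_lit 0, nat_lit 0])
 (.leaf [nat_lit 2, nat_lit 3])))
 (.node (nat_lit 6) (.node (nat_lit 5) (.leaf [nat_lit 2, nat_lit 2, nat_lit 2, nat_lit 2, nat_lit 2])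
 (.leaf [nat_lit 4, nat_lit 0, nat_lit 3, nat_lit 3, nat_lit 4, nat_lit 0, nat_lit 3, nat_lit 3]))
 (.node (nat_lit 7) (.leaf [nat_lit 4, nat_lit 4])
 (.leaf [nat_lit 4, nat_lit 0, nat_lit 4, nat_lit 0, nat_lit 4, nat_lit 0]))))
noncomputable def RL : Tr (List ℕ) := RL_0
noncomputable def L0 : Lev := ⟨(nat_lit 0), (nat_lit 5), (nat_lit 0x20101020504030301020400), (nat_lit 0x30303020102020302030300),
 (.node (nat_lit 2) (.node (nat_lit 1) (.leaf (nat_lit 0x20000000000010001000a000100090000000600100000))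
 (.leaf (nat_lit 0x80003000000010001000b000700010000000f0000)))
 (.node (nat_lit 3) (.leaf (nat_lit 0x500060003000100010004000000000003000d000c0000))
 (.node (nat_lit 4) (.leaf (nat_lit 0x7000e0004000600010000000200050001000b00000000))
 (.leaf (nat_lit 0x10000f0010000200000011000b000c0003001100120001))))),
 (.node (nat_lit 2) (.node (nat_lit 1) (.leaf (nat_lit 0x201000000000000000000000000000201000000000000000000000100000000000000))
 (.leaf (nat_lit 0x103000001000000000001000001000001000001000001000000000103000000)))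
 (.node (nat_lit 3) (.leaf (nat_lit 0x102000102000102000300000300000401000000000000000300000403000300000000))
 (.node (nat_lit 4) (.leaf (nat_lit 0x301000301000301000301000301000000000502000301000301000105000000000000))
 (.leaf (nat_lit 0x600000504000702000702000000000601000504000601000601000500000601000601)))))⟩
noncomputable def L1 : Lev := ⟨(nat_lit 1), (nat_lit 4), (nat_lit 0x20402030104010201040000), (nat_lit 0x20203010203020203010000),
 (.node (nat_lit 2) (.node (nat_lit 1) (.leaf (nat_lit 0x100030002000100000002000000020000000100000000))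
 (.leaf (nat_lit 0x30000000100010004000300000003000100000000)))
 (.node (nat_lit 3) (.leaf (nat_lit 0x30004000c000000010009000a00060009000100010000))
 (.leaf (nat_lit 0x50000000d0002000b0000000a00080007000000010000)))),
 (.node (nat_lit 2) (.node (nat_lit 1) (.leaf (nat_lit 0x202000200000000000000000101000000000100000000000000000000000000))
 (.leaf (nat_lit 0x1000000000001000001000001000001000000000001000001000000000000)))
 (.node (nat_lit 3) (.leaf (nat_lit 0x300000402000102000000000300000300000403000102000102000300000300000000))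
 (.leaf (nat_lit 0x301000000000301000104000301000000000301000104000301000000000301000000))))⟩
noncomputable def L2 : Lev := ⟨(nat_lit 2), (nat_lit 2), (nat_lit 0x200000001010200000000), (nat_lit 0x200000002010100000000),
 (.node (nat_lit 1) (.leaf (nat_lit 0x20000000000000000000000010000000100000000))
 (.leaf (nat_lit 0x3000100000000000100000000))),
 (.node (nat_lit 1) (.leaf (nat_lit 0x202000000000000000000000000000000000000000000000000000000000000))
 (.leaf (nat_lit 0x1000001000000000000000001000000000000)))⟩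
noncomputable def L : List Lev := [L0, L1, L2]
noncomputable abbrev P := PG 12 (nat_lit 4) (nat_lit 15) G0 2
theorem gen : genChk 12 (nat_lit 4) (nat_lit 15) G0 2 = true := by decide +kernel
theorem slp : slpChk 12 (nat_lit 4) (nat_lit 15) T' D 2 12 = true := by decide +kernel
theorem lets : Lets P 12 (nat_lit 4) (nat_lit 15) (Fin.ofNat 12) T := lets_PG (T' := T') D 12 gen (by decide +kernel) slp
theorem lev0 : levChk 12 (nat_lit 4) (nat_lit 15) T RL L0 L1.N = true := by decide +kernel
theorem lev1 : levChk 12 (nat_lit 4) (nat_lit 15) T RL L1 L2.N = true := by decide +kernel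
theorem lev2 : levChk 12 (nat_lit 4) (nat_lit 15) T RL L2 0 = true := by decide +kernel
theorem chain : Chain 12 (nat_lit 4) (nat_lit 15) T RL L := chain_cons lev0 <| chain_cons lev1 <| chain_one lev2
theorem rels : RL.all (fixAll 12 (nat_lit 4) (nat_lit 15) T) = true := by decide +kernel
noncomputable def E : Tr (List ℕ) := (.node (nat_lit 1) (.leaf [nat_lit 2, nat_lit 0, nat_lit 4, nat_lit 0, nat_lit 2, nat_lit 1])
 (.leaf [nat_lit 0, nat_lit 0, nat_lit 4, nat_lit 1, nat_lit 1, nat_lit 3, nat_lit 0, nat_lit 0]))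
theorem std : Std P 12 (nat_lit 4) (nat_lit 15) (Fin.ofNat 12) T RL L := std_PG' gen lets chain rels E (allB_iff.1 (by decide +kernel))
theorem card : Nat.card P = 660 := std.card.trans (by decide +kernel)
def B : List ℕ := [nat_lit 0, nat_lit 1, nat_lit 2]
theorem base : IsB P 12 (Fin.ofNat 12) B := std.base

end H8.L211
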