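import Cfsg.Agent.H8.GM
import Mathlib.GroupTheory.SpecificGroups.Quaternion

/-! H8.MG: chains of small groups (generated certificate) -/

set_option autoImplicit false
set_option maxRecDepth 200000

set_option linter.all false
open Subgroup Cfsg Matrix

namespace H8.MG

noncomputable def gl23t0 : ℕ := (nat_lit 0x829cbb)
noncomputable def gl23t1 : ℕ := (nat_lit 0x2ef0a6)
noncomputable def gl23t2 : ℕ := (nat_lit 0x668eb4)
noncomputable def gl23t3 : ℕ := (nat_lit 0x51ebc8)
noncomputable def gl23T : Tr ℕ := (.node (nat_lit 2) (.node (nat_lit 1) (.leaf gl23t0) (.leaf gl23t1)) (.node (nat_lit 3) (.leaf gl23t2) (.leaf gl23t3)))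
noncomputable def gl23R : Tr (List ℕ) := (.node (nat_lit 3) (.node (nat_lit 1) (.leaf [nat_lit 0, nat_lit 2, nat_lit 0, nat_lit 2]) (.node (nat_lit 2) (.leaf [nat_lit 0, nat_lit 0, nat_lit 0]) (.leaf [nat_lit 0, nat_lit 1]))) (.node (nat_lit 4) (.leaf [nat_lit 0, nat_lit 2, nat_lit 3, nat_lit 0, nat_lit 3, nat_lit 1, nat_lit 3]) (.node (nat_lit 5) (.leaf [nat_lit 2, nat_lit 2]) (.leaf [nat_lit 3, nat_lit 3]))))
noncomputable def gl23L0 : Lev := ⟨(nat_lit 2), (nat_lit 4), (nat_lit 0x403040203000103), (nat_lit 0x103030202000203),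
 (.node (nat_lit 2) (.node (nat_lit 1) (.leaf (nat_lit 0x10003000700020004000000000002))
 (.leaf (nat_lit 0x10005000600000003000000030004)))
 (.node (nat_lit 3) (.leaf (nat_lit 0x10000000800010000000000010000))
 (.leaf (nat_lit 0x5000000060001000100020006)))),
 (.node (nat_lit 2) (.node (nat_lit 1) (.leaf (nat_lit 0x200000000000200000100000101000000000000000000))
 (.leaf (nat_lit 0x201000201000305000000000201000000000201000201)))
 (.node (nat_lit 3) (.leaf (nat_lit 0x400000000000301000400000000000000000401000000))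
 (.leaf (nat_lit 0x306000000000501000501000501000304000306))))⟩
noncomputable def gl23L1 : Lev := ⟨(nat_lit 0), (nat_lit 3), (nat_lit 0x301000302000300), (nat_lit 0x201000101000200),
 (.node (nat_lit 1) (.leaf (nat_lit 0x20000000000020002000000030001))
 (.node (nat_lit 2) (.leaf (nat_lit 0x40003000000030000000000030001))
 (.leaf (nat_lit 0x1000000000001000000000001)))),
 (.node (nat_lit 1) (.leaf (nat_lit 0x2000000000000000002000101000000000102000200))
 (.node (nat_lit 2) (.leaf (nat_lit 0x201000201000000000201000000000000000201000201))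
 (.leaf (nat_lit 0x400000000000000000401000000000000000401))))⟩
noncomputable def gl23L : List Lev := [gl23L0, gl23L1]
noncomputable def gl23s0 : ℕ := (nat_lit 0x35a1f4)
noncomputable def gl23s1 : ℕ := (nat_lit 0x58ca1f)
noncomputable def gl23s2 : ℕ := (nat_lit 0x470b3b)
noncomputable def gl23s3 : ℕ := (nat_lit 0x19c3ea)
noncomputable def gl23s4 : ℕ := (nat_lit 0xdeb881)
noncomputable def gl23s5 : ℕ := (nat_lit 0x2ef0a6)
noncomputable def gl23s6 : ℕ := (nat_lit 0x829cbb)
noncomputable def gl23s7 : ℕ := (nat_lit 0x668eb4)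
noncomputable def gl23s8 : ℕ := (nat_lit 0x51ebc8)
noncomputable def gl23S : Tr ℕ := (.node (nat_lit 4) (.node (nat_lit 2) (.node (nat_lit 1) (.leaf gl23s0) (.leaf gl23s1)) (.node (nat_lit 3) (.leaf gl23s2) (.leaf gl23s3)))
 (.node (nat_lit 6) (.node (nat_lit 5) (.leaf gl23s4) (.leaf gl23s5)) (.node (nat_lit 7) (.leaf gl23s6) (.node (nat_lit 8) (.leaf gl23s7) (.leaf gl23s8)))))
noncomputable def gl23D : Tr (List ℕ) := (.node (nat_lit 4) (.node (nat_lit 2) (.node (nat_lit 1) (.leaf []) (.leaf [])) (.node (nat_lit 3) (.leaf [nat_lit 0, nat_lit 0, nat_lit 0, nat_lit 0, nat_lit 0, nat_lit 0, nat_lit 0]) (.leaf [nat_lit 1, nat_lit 1])))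
 (.node (nat_lit 6) (.node (nat_lit 5) (.leaf [nat_lit 2, nat_lit 2, nat_lit 2, nat_lit 2, nat_lit 1, nat_lit 2, nat_lit 1]) (.leaf [nat_lit 3, nat_lit 2, nat_lit 1, nat_lit 2])) (.node (nat_lit 7) (.leaf [nat_lit 0, nat_lit 3, nat_lit 0, nat_lit 1]) (.node (nat_lit 8) (.leaf [nat_lit 5, nat_lit 4]) (.leaf [nat_lit 0, nat_lit 6])))))
theorem gl23slp : slpChk 8 (nat_lit 3) (nat_lit 7) gl23S gl23D 2 7 = true := by decide +kernel
noncomputable def gl23V : Tr ℕ := (.node (nat_lit 4) (.node (nat_lit 2) (.node (nat_lit 1) (.leaf (nat_lit 1)) (.leaf (nat_lit 2))) (.node (nat_lit 3) (.leaf (nat_lit 4)) (.leaf (nat_lit 5))))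
 (.node (nat_lit 6) (.node (nat_lit 5) (.leaf (nat_lit 6)) (.leaf (nat_lit 8))) (.node (nat_lit 7) (.leaf (nat_lit 9)) (.leaf (nat_lit 10)))))
theorem gl23pts : ptR C3 2 false gl23V 8 0 8 = true := by decide +kernel
noncomputable def gl23M0 : Sp := [[(nat_lit 0, nat_lit 2), (nat_lit 1, nat_lit 2)],
  [(nat_lit 0, nat_lit 1), (nat_lit 1, nat_lit 2)]]
noncomputable def gl23M1 : Sp := [[(nat_lit 0, nat_lit 2), (nat_lit 1, nat_lit 1)],
  [(nat_lit 0, nat_lit 2)]]
noncomputable def gl23MT : Tr Sp := (.node (nat_lit 1) (.leaf gl23M0) (.leaf gl23M1))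
noncomputable def gl23SC : Tr ℕ := (.node (nat_lit 1) (.leaf (nat_lit 21845)) (.leaf (nat_lit 21845)))
theorem gl23act : ActAll C3 2 false gl23V 8 (nat_lit 3) (nat_lit 7) gl23MT gl23S gl23SC 2 := actAll_of (by decide +kernel)
noncomputable def gl23OT : Tr ℕ := (.node (nat_lit 1) (.leaf (nat_lit 8)) (.leaf (nat_lit 3)))
theorem gl23pw : (allB 2 fun j => band (powChk C3 2 (gl23MT.get j) (gl23OT.get j)) (Nat.ble 1 (gl23OT.get j))) = true := by decide +kernel
theorem gl23h2 : band (selChk gl23T gl23S (2 + 7)) (band (tchainChk 8 (nat_lit 3) (nat_lit 7) gl23T gl23L) (Nat.ble (glo 3 2) (chainOrd 8 gl23L))) = true := by decide +kernel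
theorem gl23ch {F : Type*} [Field F] [Fintype F] {φ : ℕ → F} (h : FM C3 φ) (hF : Fintype.card F = 3) :
    Ch (GL (Fin 2) F) 8 (nat_lit 3) (nat_lit 7) (ptL (τG (Fin 2) F) C3 φ Fin.val false gl23V) gl23T gl23L :=
  h.chGL (ix_fin 2) hF gl23pts gl23act gl23pw gl23slp gl23h2
theorem gl23lev0 : levChk 8 (nat_lit 3) (nat_lit 7) gl23T gl23R gl23L0 gl23L1.N = true := by decide +kernel
theorem gl23lev1 : levChk 8 (nat_lit 3) (nat_lit 7) gl23T gl23R gl23L1 0 = true := by decide +kernel
theorem gl23chain : Chain 8 (nat_lit 3) (nat_lit 7) gl23T gl23R gl23L := chain_cons gl23lev0 <| chain_one gl23lev1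
theorem gl23sd : band (gl23R.all fun w => eqB (gl23L.map Lev.b) (apL (nat_lit 3) (nat_lit 7) gl23T w) fun a => a) (Nat.ble (chainOrd 8 gl23L) (chainOrd 8 gl23L)) = true := by decide +kernel
theorem gl23std {F : Type*} [Field F] [Fintype F] {φ : ℕ → F} (h : FM C3 φ) (hF : Fintype.card F = 3) :
    Std (GL (Fin 2) F) 8 (nat_lit 3) (nat_lit 7) (ptL (τG (Fin 2) F) C3 φ Fin.val false gl23V) gl23T gl23R gl23L :=
  have C := gl23ch h hF
  (C.std C.lets gl23chain gl23sd)
noncomputable def gl32t0 : ℕ := (nat_lit 0x2a70e)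
noncomputable def gl32t1 : ℕ := (nat_lit 0xa878c)
noncomputable def gl32t2 : ℕ := (nat_lit 0x173888)
noncomputable def gl32t3 : ℕ := (nat_lit 0x1ab850)
noncomputable def gl32T : Tr ℕ := (.node (nat_lit 2) (.node (nat_lit 1) (.leaf gl32t0) (.leaf gl32t1)) (.node (nat_lit 3) (.leaf gl32t2) (.leaf gl32t3)))
noncomputable def gl32R : Tr (List ℕ) := (.node (nat_lit 5) (.node (nat_lit 2) (.node (nat_lit 1) (.leaf [nat_lit 0, nat_lit 0]) (.leaf [nat_lit 2, nat_lit 0, nat_lit 2, nat_lit 0, nat_lit 2, nat_lit 0])) (.node (nat_lit 3) (.leaf [nat_lit 0, nat_lit 1, nat_lit 0, nat_lit 1]) (.node (nat_lit 4) (.leaf [nat_lit 1, nat_lit 1]) (.leaf [nat_lit 3, nat_lit 1, nat_lit 3, nat_lit 1, nat_lit 3, nat_lit 1]))))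
 (.node (nat_lit 8) (.node (nat_lit 6) (.leaf [nat_lit 2, nat_lit 1, nat_lit 2, nat_lit 1, nat_lit 2, nat_lit 1]) (.node (nat_lit 7) (.leaf [nat_lit 3, nat_lit 2, nat_lit 3, nat_lit 2]) (.leaf [nat_lit 2, nat_lit 2]))) (.node (nat_lit 9) (.leaf [nat_lit 3, nat_lit 0, nat_lit 1, nat_lit 3, nat_lit 0, nat_lit 1, nat_lit 3, nat_lit 0, nat_lit 1]) (.node (nat_lit 10) (.leaf [nat_lit 3, nat_lit 3]) (.leaf [nat_lit 3, nat_lit 0, nat_lit 2, nat_lit 3, nat_lit 0, nat_lit 2, nat_lit 3, nat_lit 0, nat_lit 2])))))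
noncomputable def gl32L0 : Lev := ⟨(nat_lit 1), (nat_lit 4), (nat_lit 0x2030103040002), (nat_lit 0x2030203010003),
 (.node (nat_lit 2) (.node (nat_lit 1) (.leaf (nat_lit 0x2000700000003000100000003))
 (.leaf (nat_lit 0x300010005000100000000)))
 (.node (nat_lit 3) (.leaf (nat_lit 0x1000000010000000200000006))
 (.leaf (nat_lit 0x2000300030004000000010003)))),
 (.node (nat_lit 2) (.node (nat_lit 1) (.leaf (nat_lit 0x200000103000000000103000001000000000001))
 (.leaf (nat_lit 0x503000300000403000301000000000000)))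
 (.node (nat_lit 3) (.leaf (nat_lit 0x700000000000700000000000601000000000500))
 (.leaf (nat_lit 0x402000600000a03000901000000000901000800))))⟩
noncomputable def gl32L1 : Lev := ⟨(nat_lit 3), (nat_lit 3), (nat_lit 0x2030300010002), (nat_lit 0x3040100020002),
 (.node (nat_lit 1) (.leaf (nat_lit 0x2000400010000000000000003))
 (.node (nat_lit 2) (.leaf (nat_lit 0x300010000000100000000))
 (.leaf (nat_lit 0x1000000000001000200000002)))),
 (.node (nat_lit 1) (.leaf (nat_lit 0x200000103000000000000000000000000000001))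
 (.node (nat_lit 2) (.leaf (nat_lit 0x503000300000000000301000000000000))
 (.leaf (nat_lit 0x700000000000000000701000100000000000500))))⟩
noncomputable def gl32L2 : Lev := ⟨(nat_lit 0), (nat_lit 2), (nat_lit 0x1000200020000), (nat_lit 0x1000100020000),
 (.node (nat_lit 1) (.leaf (nat_lit 0x20000000300000001))
 (.leaf (nat_lit 0x1000000000000000000000001))),
 (.node (nat_lit 1) (.leaf (nat_lit 0x202000000000001000000000001))
 (.leaf (nat_lit 0x300000000000000000000000000000000000301)))⟩
noncomputable def gl32L : List Lev := [gl32L0, gl32L1, gl32L2]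
noncomputable def gl32s0 : ℕ := (nat_lit 0x15318c)
noncomputable def gl32s1 : ℕ := (nat_lit 0x10b546)
noncomputable def gl32s2 : ℕ := (nat_lit 0xb094b)
noncomputable def gl32s3 : ℕ := (nat_lit 0x168e9)
noncomputable def gl32s4 : ℕ := (nat_lit 0xf580a)
noncomputable def gl32s5 : ℕ := (nat_lit 0x163c0a)
noncomputable def gl32s6 : ℕ := (nat_lit 0x12e60a)
noncomputable def gl32s7 : ℕ := (nat_lit 0x2a70e)
noncomputable def gl32s8 : ℕ := (nat_lit 0xa878c)
noncomputable def gl32s9 : ℕ := (nat_lit 0x173888)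
noncomputable def gl32s10 : ℕ := (nat_lit 0x1ab850)
noncomputable def gl32S : Tr ℕ := (.node (nat_lit 5) (.node (nat_lit 2) (.node (nat_lit 1) (.leaf gl32s0) (.leaf gl32s1)) (.node (nat_lit 3) (.leaf gl32s2) (.node (nat_lit 4) (.leaf gl32s3) (.leaf gl32s4))))
 (.node (nat_lit 8) (.node (nat_lit 6) (.leaf gl32s5) (.node (nat_lit 7) (.leaf gl32s6) (.leaf gl32s7))) (.node (nat_lit 9) (.leaf gl32s8) (.node (nat_lit 10) (.leaf gl32s9) (.leaf gl32s10)))))
noncomputable def gl32D : Tr (List ℕ) := (.node (nat_lit 5) (.node (nat_lit 2) (.node (nat_lit 1) (.leaf []) (.leaf [])) (.node (nat_lit 3) (.leaf [nat_lit 0, nat_lit 0]) (.node (nat_lit 4) (.leaf [nat_lit 1, nat_lit 1, nat_lit 1, nat_lit 1, nat_lit 1, nat_lit 1]) (.leaf [nat_lit 1, nat_lit 2, nat_lit 3, nat_lit 3, nat_lit 2, nat_lit 2]))))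
 (.node (nat_lit 8) (.node (nat_lit 6) (.leaf [nat_lit 0, nat_lit 0, nat_lit 1, nat_lit 1, nat_lit 0, nat_lit 3]) (.node (nat_lit 7) (.leaf [nat_lit 4, nat_lit 2, nat_lit 2, nat_lit 5, nat_lit 0]) (.leaf [nat_lit 2, nat_lit 2, nat_lit 4]))) (.node (nat_lit 9) (.leaf [nat_lit 7, nat_lit 6]) (.node (nat_lit 10) (.leaf [nat_lit 2, nat_lit 7, nat_lit 6]) (.leaf [nat_lit 0, nat_lit 3, nat_lit 5])))))
theorem gl32slp : slpChk 7 (nat_lit 3) (nat_lit 7) gl32S gl32D 2 9 = true := by decide +kernel
noncomputable def gl32V : Tr ℕ := (.node (nat_lit 3) (.node (nat_lit 1) (.leaf (nat_lit 1)) (.node (nat_lit 2) (.leaf (nat_lit 2)) (.leaf (nat_lit 3))))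
 (.node (nat_lit 5) (.node (nat_lit 4) (.leaf (nat_lit 4)) (.leaf (nat_lit 5))) (.node (nat_lit 6) (.leaf (nat_lit 6)) (.leaf (nat_lit 7)))))
theorem gl32pts : ptR C2 3 false gl32V 7 0 7 = true := by decide +kernel
noncomputable def gl32M0 : Sp := [[(nat_lit 0, nat_lit 1), (nat_lit 2, nat_lit 1)],
  [(nat_lit 1, nat_lit 1)],
  [(nat_lit 0, nat_lit 1)]]
noncomputable def gl32M1 : Sp := [[(nat_lit 0, nat_lit 1), (nat_lit 1, nat_lit 1), (nat_lit 2, nat_lit 1)],
  [(nat_lit 0, nat_lit 1), (nat_lit 2, nat_lit 1)],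
  [(nat_lit 0, nat_lit 1)]]
noncomputable def gl32MT : Tr Sp := (.node (nat_lit 1) (.leaf gl32M0) (.leaf gl32M1))
noncomputable def gl32SC : Tr ℕ := (.node (nat_lit 1) (.leaf (nat_lit 127)) (.leaf (nat_lit 127)))
theorem gl32act : ActAll C2 3 false gl32V 7 (nat_lit 3) (nat_lit 7) gl32MT gl32S gl32SC 2 := actAll_of (by decide +kernel)
noncomputable def gl32OT : Tr ℕ := (.node (nat_lit 1) (.leaf (nat_lit 3)) (.leaf (nat_lit 7)))
theorem gl32pw : (allB 2 fun j => band (powChk C2 3 (gl32MT.get j) (gl32OT.get j)) (Nat.ble 1 (gl32OT.get j))) = true := by decide +kernel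
theorem gl32h2 : band (selChk gl32T gl32S (2 + 9)) (band (tchainChk 7 (nat_lit 3) (nat_lit 7) gl32T gl32L) (Nat.ble (glo 2 3) (chainOrd 7 gl32L))) = true := by decide +kernel
theorem gl32ch {F : Type*} [Field F] [Fintype F] {φ : ℕ → F} (h : FM C2 φ) (hF : Fintype.card F = 2) :
    Ch (GL (Fin 3) F) 7 (nat_lit 3) (nat_lit 7) (ptL (τG (Fin 3) F) C2 φ Fin.val false gl32V) gl32T gl32L :=
  h.chGL (ix_fin 3) hF gl32pts gl32act gl32pw gl32slp gl32h2
theorem gl32lev0 : levChk 7 (nat_lit 3) (nat_lit 7) gl32T gl32R gl32L0 gl32L1.N = true := by decide +kernel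
theorem gl32lev1 : levChk 7 (nat_lit 3) (nat_lit 7) gl32T gl32R gl32L1 gl32L2.N = true := by decide +kernel
theorem gl32lev2 : levChk 7 (nat_lit 3) (nat_lit 7) gl32T gl32R gl32L2 0 = true := by decide +kernel
theorem gl32chain : Chain 7 (nat_lit 3) (nat_lit 7) gl32T gl32R gl32L := chain_cons gl32lev0 <| chain_cons gl32lev1 <| chain_one gl32lev2
theorem gl32sd : band (gl32R.all fun w => eqB (gl32L.map Lev.b) (apL (nat_lit 3) (nat_lit 7) gl32T w) fun a => a) (Nat.ble (chainOrd 7 gl32L) (chainOrd 7 gl32L)) = true := by decide +kernel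
theorem gl32std {F : Type*} [Field F] [Fintype F] {φ : ℕ → F} (h : FM C2 φ) (hF : Fintype.card F = 2) :
    Std (GL (Fin 3) F) 7 (nat_lit 3) (nat_lit 7) (ptL (τG (Fin 3) F) C2 φ Fin.val false gl32V) gl32T gl32R gl32L :=
  have C := gl32ch h hF
  (C.std C.lets gl32chain gl32sd)
noncomputable def sl32t0 : ℕ := (nat_lit 0x12e60a)
noncomputable def sl32t1 : ℕ := (nat_lit 0xa878c)
noncomputable def sl32t2 : ℕ := (nat_lit 0x19414b)
noncomputable def sl32t3 : ℕ := (nat_lit 0x1816a5)
noncomputable def sl32T : Tr ℕ := (.node (nat_lit 2) (.node (nat_lit 1) (.leaf sl32t0) (.leaf sl32t1)) (.node (nat_lit 3) (.leaf sl32t2) (.leaf sl32t3)))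
noncomputable def sl32R : Tr (List ℕ) := (.node (nat_lit 6) (.node (nat_lit 3) (.node (nat_lit 1) (.leaf [nat_lit 0, nat_lit 0]) (.node (nat_lit 2) (.leaf [nat_lit 0, nat_lit 1, nat_lit 0, nat_lit 1]) (.leaf [nat_lit 2, nat_lit 0, nat_lit 1, nat_lit 2, nat_lit 0, nat_lit 1, nat_lit 2, nat_lit 0, nat_lit 1]))) (.node (nat_lit 4) (.leaf [nat_lit 3, nat_lit 0, nat_lit 1, nat_lit 3, nat_lit 0, nat_lit 1, nat_lit 3, nat_lit 0, nat_lit 1]) (.node (nat_lit 5) (.leaf [nat_lit 2, nat_lit 1, nat_lit 2, nat_lit 1, nat_lit 2, nat_lit 1]) (.leaf [nat_lit 1, nat_lit 1]))))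
 (.node (nat_lit 9) (.node (nat_lit 7) (.leaf [nat_lit 3, nat_lit 1, nat_lit 3, nat_lit 1, nat_lit 3, nat_lit 1, nat_lit 3, nat_lit 1]) (.node (nat_lit 8) (.leaf [nat_lit 2, nat_lit 2]) (.leaf [nat_lit 0, nat_lit 2, nat_lit 0, nat_lit 2, nat_lit 3, nat_lit 2, nat_lit 3])))
 (.node (nat_lit 11) (.node (nat_lit 10) (.leaf [nat_lit 3, nat_lit 0, nat_lit 2, nat_lit 0, nat_lit 3, nat_lit 0, nat_lit 2, nat_lit 0]) (.leaf [nat_lit 3, nat_lit 3])) (.node (nat_lit 12) (.leaf [nat_lit 3, nat_lit 0, nat_lit 3, nat_lit 0, nat_lit 3, nat_lit 0]) (.leaf [nat_lit 2, nat_lit 0, nat_lit 2, nat_lit 0, nat_lit 2, nat_lit 0, nat_lit 2, nat_lit 0])))))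
noncomputable def sl32L0 : Lev := ⟨(nat_lit 1), (nat_lit 4), (nat_lit 0x1040403020002), (nat_lit 0x2030103030002),
 (.node (nat_lit 2) (.node (nat_lit 1) (.leaf (nat_lit 0x300010004000200000003))
 (.leaf (nat_lit 0x1000200010003000000000000)))
 (.node (nat_lit 3) (.leaf (nat_lit 0x2000600020000000500000001))
 (.leaf (nat_lit 0x2000000000007000400010001)))),
 (.node (nat_lit 2) (.node (nat_lit 1) (.leaf (nat_lit 0x301000001000201000100000000000001))
 (.leaf (nat_lit 0x500000601000500000401000000000000000000)))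
 (.node (nat_lit 3) (.leaf (nat_lit 0x902000700000805000000000805000000000701))
 (.leaf (nat_lit 0xb02000000000000000806000b04000a01000a01))))⟩
noncomputable def sl32L1 : Lev := ⟨(nat_lit 3), (nat_lit 3), (nat_lit 0x2030200010003), (nat_lit 0x3030200020001),
 (.node (nat_lit 1) (.leaf (nat_lit 0x3000200020000000000000001))
 (.node (nat_lit 2) (.leaf (nat_lit 0x400000000000100000001))
 (.leaf (nat_lit 0x3000000020001000100000000)))),
 (.node (nat_lit 1) (.leaf (nat_lit 0xc05000102000000000000000000000001))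
 (.node (nat_lit 2) (.leaf (nat_lit 0x401000000000000000501000000000501))
 (.leaf (nat_lit 0x206000000000404000700000701000000000000))))⟩
noncomputable def sl32L2 : Lev := ⟨(nat_lit 0), (nat_lit 2), (nat_lit 0x2000200010000), (nat_lit 0x2000100010000),
 (.node (nat_lit 1) (.leaf (nat_lit 0x3000000020000000000000001))
 (.leaf (nat_lit 0x100000001))),
 (.node (nat_lit 1) (.leaf (nat_lit 0x102000000000000000000000001))
 (.leaf (nat_lit 0x501000000000501)))⟩
noncomputable def sl32L : List Lev := [sl32L0, sl32L1, sl32L2]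
noncomputable def sl32s0 : ℕ := (nat_lit 0x158531)
noncomputable def sl32s1 : ℕ := (nat_lit 0x10d0d6)
noncomputable def sl32s2 : ℕ := (nat_lit 0x72ac4)
noncomputable def sl32s3 : ℕ := (nat_lit 0x2646b)
noncomputable def sl32s4 : ℕ := (nat_lit 0xd510e)
noncomputable def sl32s5 : ℕ := (nat_lit 0x22d4b)
noncomputable def sl32s6 : ℕ := (nat_lit 0x98b0e)
noncomputable def sl32s7 : ℕ := (nat_lit 0x1ab8c)
noncomputable def sl32s8 : ℕ := (nat_lit 0x12e60a)
noncomputable def sl32s9 : ℕ := (nat_lit 0x2a70e)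
noncomputable def sl32s10 : ℕ := (nat_lit 0xa878c)
noncomputable def sl32s11 : ℕ := (nat_lit 0x19414b)
noncomputable def sl32s12 : ℕ := (nat_lit 0x1816a5)
noncomputable def sl32S : Tr ℕ := (.node (nat_lit 6) (.node (nat_lit 3) (.node (nat_lit 1) (.leaf sl32s0) (.node (nat_lit 2) (.leaf sl32s1) (.leaf sl32s2))) (.node (nat_lit 4) (.leaf sl32s3) (.node (nat_lit 5) (.leaf sl32s4) (.leaf sl32s5))))
 (.node (nat_lit 9) (.node (nat_lit 7) (.leaf sl32s6) (.node (nat_lit 8) (.leaf sl32s7) (.leaf sl32s8)))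
 (.node (nat_lit 11) (.node (nat_lit 10) (.leaf sl32s9) (.leaf sl32s10)) (.node (nat_lit 12) (.leaf sl32s11) (.leaf sl32s12)))))
noncomputable def sl32D : Tr (List ℕ) := (.node (nat_lit 6) (.node (nat_lit 3) (.node (nat_lit 1) (.leaf []) (.node (nat_lit 2) (.leaf []) (.leaf [nat_lit 0, nat_lit 0, nat_lit 0, nat_lit 0, nat_lit 0, nat_lit 0]))) (.node (nat_lit 4) (.leaf [nat_lit 1, nat_lit 1, nat_lit 1, nat_lit 1, nat_lit 1, nat_lit 1]) (.node (nat_lit 5) (.leaf [nat_lit 2, nat_lit 1, nat_lit 2]) (.leaf [nat_lit 0, nat_lit 3, nat_lit 0]))))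
 (.node (nat_lit 9) (.node (nat_lit 7) (.leaf [nat_lit 2, nat_lit 2, nat_lit 3]) (.node (nat_lit 8) (.leaf [nat_lit 1, nat_lit 0, nat_lit 0]) (.leaf [nat_lit 5, nat_lit 6, nat_lit 5, nat_lit 7])))
 (.node (nat_lit 11) (.node (nat_lit 10) (.leaf [nat_lit 6, nat_lit 5, nat_lit 7, nat_lit 5, nat_lit 7]) (.leaf [nat_lit 9, nat_lit 8])) (.node (nat_lit 12) (.leaf [nat_lit 4, nat_lit 9]) (.leaf [nat_lit 7, nat_lit 2, nat_lit 8])))))
theorem sl32slp : slpChk 7 (nat_lit 3) (nat_lit 7) sl32S sl32D 2 11 = true := by decide +kernel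
noncomputable def sl32V : Tr ℕ := (.node (nat_lit 3) (.node (nat_lit 1) (.leaf (nat_lit 1)) (.node (nat_lit 2) (.leaf (nat_lit 2)) (.leaf (nat_lit 3))))
 (.node (nat_lit 5) (.node (nat_lit 4) (.leaf (nat_lit 4)) (.leaf (nat_lit 5))) (.node (nat_lit 6) (.leaf (nat_lit 6)) (.leaf (nat_lit 7)))))
theorem sl32pts : ptR C2 3 false sl32V 7 0 7 = true := by decide +kernel
noncomputable def sl32M0 : Sp := [[(nat_lit 1, nat_lit 1), (nat_lit 2, nat_lit 1)],
  [(nat_lit 0, nat_lit 1), (nat_lit 1, nat_lit 1), (nat_lit 2, nat_lit 1)],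
  [(nat_lit 1, nat_lit 1)]]
noncomputable def sl32M1 : Sp := [[(nat_lit 0, nat_lit 1), (nat_lit 1, nat_lit 1), (nat_lit 2, nat_lit 1)],
  [(nat_lit 0, nat_lit 1), (nat_lit 1, nat_lit 1)],
  [(nat_lit 0, nat_lit 1)]]
noncomputable def sl32MT : Tr Sp := (.node (nat_lit 1) (.leaf sl32M0) (.leaf sl32M1))
noncomputable def sl32SC : Tr ℕ := (.node (nat_lit 1) (.leaf (nat_lit 127)) (.leaf (nat_lit 127)))
theorem sl32act : ActAll C2 3 false sl32V 7 (nat_lit 3) (nat_lit 7) sl32MT sl32S sl32SC 2 := actAll_of (by decide +kernel)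
noncomputable def sl32OT : Tr ℕ := (.node (nat_lit 1) (.leaf (nat_lit 7)) (.leaf (nat_lit 7)))
theorem sl32pw : (allB 2 fun j => band (powChk C2 3 (sl32MT.get j) (sl32OT.get j)) (band (Nat.ble 1 (sl32OT.get j)) (Nat.beq (Nat.gcd (sl32OT.get j) (2 - 1)) 1))) = true := by decide +kernel
theorem sl32h2 : band (selChk sl32T sl32S (2 + 11)) (band (tchainChk 7 (nat_lit 3) (nat_lit 7) sl32T sl32L) (band (Nat.ble 2 2) (Nat.ble (glo 2 3) ((2 - 1) * chainOrd 7 sl32L)))) = true := by decide +kernel
theorem sl32ch {F : Type*} [Field F] [Fintype F] {φ : ℕ → F} (h : FM C2 φ) (hF : Fintype.card F = 2) :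
    Ch (Matrix.SpecialLinearGroup (Fin 3) F) 7 (nat_lit 3) (nat_lit 7) (ptL (τSL (Fin 3) F) C2 φ Fin.val false sl32V) sl32T sl32L :=
  h.chSL hF sl32pts sl32act sl32pw sl32slp sl32h2
theorem sl32lev0 : levChk 7 (nat_lit 3) (nat_lit 7) sl32T sl32R sl32L0 sl32L1.N = true := by decide +kernel
theorem sl32lev1 : levChk 7 (nat_lit 3) (nat_lit 7) sl32T sl32R sl32L1 sl32L2.N = true := by decide +kernel
theorem sl32lev2 : levChk 7 (nat_lit 3) (nat_lit 7) sl32T sl32R sl32L2 0 = true := by decide +kernel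
theorem sl32chain : Chain 7 (nat_lit 3) (nat_lit 7) sl32T sl32R sl32L := chain_cons sl32lev0 <| chain_cons sl32lev1 <| chain_one sl32lev2
theorem sl32sd : band (sl32R.all fun w => eqB (sl32L.map Lev.b) (apL (nat_lit 3) (nat_lit 7) sl32T w) fun a => a) (Nat.ble (chainOrd 7 sl32L) (chainOrd 7 sl32L)) = true := by decide +kernel
theorem sl32std {F : Type*} [Field F] [Fintype F] {φ : ℕ → F} (h : FM C2 φ) (hF : Fintype.card F = 2) :
    Std (Matrix.SpecialLinearGroup (Fin 3) F) 7 (nat_lit 3) (nat_lit 7) (ptL (τSL (Fin 3) F) C2 φ Fin.val false sl32V) sl32T sl32R sl32L :=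
  have C := sl32ch h hF
  (C.std C.lets sl32chain sl32sd)
noncomputable def sl23t0 : ℕ := (nat_lit 0x829cbb)
noncomputable def sl23t1 : ℕ := (nat_lit 0x2ef0a6)
noncomputable def sl23t2 : ℕ := (nat_lit 0xd7a8c8)
noncomputable def sl23t3 : ℕ := (nat_lit 0xbf3508)
noncomputable def sl23T : Tr ℕ := (.node (nat_lit 2) (.node (nat_lit 1) (.leaf sl23t0) (.leaf sl23t1)) (.node (nat_lit 3) (.leaf sl23t2) (.leaf sl23t3)))
noncomputable def sl23R : Tr (List ℕ) := (.node (nat_lit 2) (.node (nat_lit 1) (.leaf [nat_lit 0, nat_lit 0, nat_lit 0]) (.leaf [nat_lit 0, nat_lit 1])) (.node (nat_lit 3) (.leaf [nat_lit 0, nat_lit 3, nat_lit 0, nat_lit 2, nat_lit 1, nat_lit 2]) (.node (nat_lit 4) (.leaf [nat_lit 2, nat_lit 3]) (.leaf [nat_lit 2, nat_lit 2, nat_lit 2]))))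
noncomputable def sl23L0 : Lev := ⟨(nat_lit 2), (nat_lit 4), (nat_lit 0x102030304000201), (nat_lit 0x202030101000202),
 (.node (nat_lit 2) (.node (nat_lit 1) (.leaf (nat_lit 0x2000700010001000000020000))
 (.leaf (nat_lit 0x30000000800010001000000000003)))
 (.node (nat_lit 3) (.leaf (nat_lit 0x40005000000000002000100020002))
 (.leaf (nat_lit 0x10005000600030000000100030003)))),
 (.node (nat_lit 2) (.node (nat_lit 1) (.leaf (nat_lit 0x202000100000100000000000002000000))
 (.leaf (nat_lit 0x101000000000101000101000101000000000000000101)))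
 (.node (nat_lit 3) (.leaf (nat_lit 0x203000400000000000000000401000300000205000203))
 (.leaf (nat_lit 0x301000301000301000301000000000301000301000301))))⟩
noncomputable def sl23L1 : Lev := ⟨(nat_lit 0), (nat_lit 2), (nat_lit 0x1000002000000), (nat_lit 0x1000001000000),
 (.node (nat_lit 1) (.leaf (nat_lit 0x2000000000001))
 (.leaf (nat_lit 0x3000000000000000000000001))),
 (.node (nat_lit 1) (.leaf (nat_lit 0x1000000000000000100))
 (.leaf (nat_lit 0x101000000000000000000000000000000000101)))⟩
noncomputable def sl23L : List Lev := [sl23L0, sl23L1]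
noncomputable def sl23s0 : ℕ := (nat_lit 0xe60795)
noncomputable def sl23s1 : ℕ := (nat_lit 0x829cbb)
noncomputable def sl23s2 : ℕ := (nat_lit 0x2ef0a6)
noncomputable def sl23s3 : ℕ := (nat_lit 0xd7a8c8)
noncomputable def sl23s4 : ℕ := (nat_lit 0xbf3508)
noncomputable def sl23S : Tr ℕ := (.node (nat_lit 2) (.node (nat_lit 1) (.leaf sl23s0) (.leaf sl23s1)) (.node (nat_lit 3) (.leaf sl23s2) (.node (nat_lit 4) (.leaf sl23s3) (.leaf sl23s4))))
noncomputable def sl23D : Tr (List ℕ) := (.node (nat_lit 2) (.node (nat_lit 1) (.leaf []) (.leaf [])) (.node (nat_lit 3) (.leaf [nat_lit 1, nat_lit 1]) (.node (nat_lit 4) (.leaf [nat_lit 2, nat_lit 0, nat_lit 1]) (.leaf [nat_lit 3, nat_lit 3]))))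
theorem sl23slp : slpChk 8 (nat_lit 3) (nat_lit 7) sl23S sl23D 2 3 = true := by decide +kernel
noncomputable def sl23V : Tr ℕ := (.node (nat_lit 4) (.node (nat_lit 2) (.node (nat_lit 1) (.leaf (nat_lit 1)) (.leaf (nat_lit 2))) (.node (nat_lit 3) (.leaf (nat_lit 4)) (.leaf (nat_lit 5))))
 (.node (nat_lit 6) (.node (nat_lit 5) (.leaf (nat_lit 6)) (.leaf (nat_lit 8))) (.node (nat_lit 7) (.leaf (nat_lit 9)) (.leaf (nat_lit 10)))))
theorem sl23pts : ptR C3 2 false sl23V 8 0 8 = true := by decide +kernel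
noncomputable def sl23M0 : Sp := [[(nat_lit 1, nat_lit 1)],
  [(nat_lit 0, nat_lit 2), (nat_lit 1, nat_lit 2)]]
noncomputable def sl23M1 : Sp := [[(nat_lit 0, nat_lit 1)],
  [(nat_lit 0, nat_lit 1), (nat_lit 1, nat_lit 1)]]
noncomputable def sl23MT : Tr Sp := (.node (nat_lit 1) (.leaf sl23M0) (.leaf sl23M1))
noncomputable def sl23SC : Tr ℕ := (.node (nat_lit 1) (.leaf (nat_lit 21845)) (.leaf (nat_lit 21845)))
theorem sl23act : ActAll C3 2 false sl23V 8 (nat_lit 3) (nat_lit 7) sl23MT sl23S sl23SC 2 := actAll_of (by decide +kernel)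
noncomputable def sl23OT : Tr ℕ := (.node (nat_lit 1) (.leaf (nat_lit 3)) (.leaf (nat_lit 3)))
theorem sl23pw : (allB 2 fun j => band (powChk C3 2 (sl23MT.get j) (sl23OT.get j)) (band (Nat.ble 1 (sl23OT.get j)) (Nat.beq (Nat.gcd (sl23OT.get j) (3 - 1)) 1))) = true := by decide +kernel
theorem sl23h2 : band (selChk sl23T sl23S (2 + 3)) (band (tchainChk 8 (nat_lit 3) (nat_lit 7) sl23T sl23L) (band (Nat.ble 2 3) (Nat.ble (glo 3 2) ((3 - 1) * chainOrd 8 sl23L)))) = true := by decide +kernel
theorem sl23ch {F : Type*} [Field F] [Fintype F] {φ : ℕ → F} (h : FM C3 φ) (hF : Fintype.card F = 3) :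
    Ch (Matrix.SpecialLinearGroup (Fin 2) F) 8 (nat_lit 3) (nat_lit 7) (ptL (τSL (Fin 2) F) C3 φ Fin.val false sl23V) sl23T sl23L :=
  h.chSL hF sl23pts sl23act sl23pw sl23slp sl23h2
theorem sl23lev0 : levChk 8 (nat_lit 3) (nat_lit 7) sl23T sl23R sl23L0 sl23L1.N = true := by decide +kernel
theorem sl23lev1 : levChk 8 (nat_lit 3) (nat_lit 7) sl23T sl23R sl23L1 0 = true := by decide +kernel
theorem sl23chain : Chain 8 (nat_lit 3) (nat_lit 7) sl23T sl23R sl23L := chain_cons sl23lev0 <| chain_one sl23lev1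
theorem sl23sd : band (sl23R.all fun w => eqB (sl23L.map Lev.b) (apL (nat_lit 3) (nat_lit 7) sl23T w) fun a => a) (Nat.ble (chainOrd 8 sl23L) (chainOrd 8 sl23L)) = true := by decide +kernel
theorem sl23std {F : Type*} [Field F] [Fintype F] {φ : ℕ → F} (h : FM C3 φ) (hF : Fintype.card F = 3) :
    Std (Matrix.SpecialLinearGroup (Fin 2) F) 8 (nat_lit 3) (nat_lit 7) (ptL (τSL (Fin 2) F) C3 φ Fin.val false sl23V) sl23T sl23R sl23L :=
  have C := sl23ch h hF
  (C.std C.lets sl23chain sl23sd)
noncomputable def sl25t0 : ℕ := (nat_lit 0x68a059a2cb0387135137605e491eaa)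
noncomputable def sl25t1 : ℕ := (nat_lit 0x4442a98d952bae78013212e846d8cf)
noncomputable def sl25t2 : ℕ := (nat_lit 0x22a161a12fa88ed7502664a602ae37)
noncomputable def sl25t3 : ℕ := (nat_lit 0x51ea2983582d8715a326a0779b924)
noncomputable def sl25T : Tr ℕ := (.node (nat_lit 2) (.node (nat_lit 1) (.leaf sl25t0) (.leaf sl25t1)) (.node (nat_lit 3) (.leaf sl25t2) (.leaf sl25t3)))
noncomputable def sl25R : Tr (List ℕ) := (.node (nat_lit 2) (.node (nat_lit 1) (.leaf [nat_lit 0, nat_lit 1]) (.leaf [nat_lit 0, nat_lit 0, nat_lit 3, nat_lit 1, nat_lit 3, nat_lit 0, nat_lit 0, nat_lit 2])) (.node (nat_lit 3) (.leaf [nat_lit 0, nat_lit 0, nat_lit 0, nat_lit 0, nat_lit 0]) (.node (nat_lit 4) (.leaf [nat_lit 2, nat_lit 2, nat_lit 2]) (.leaf [nat_lit 2, nat_lit 3]))))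
noncomputable def sl25L0 : Lev := ⟨(nat_lit 4), (nat_lit 4), (nat_lit 0x30304020301020301040203010203010404010002010204), (nat_lit 0x10303030403040302050203040205020303030003040401),
 (.node (nat_lit 2) (.node (nat_lit 1) (.leaf (nat_lit 0x1000d0005000200060000000e000600000010000100010000000100100000000a0001000000000002000000040001))
 (.leaf (nat_lit 0x1000f0005000000050003000000040001000f0000000900070000000f000100010001000300000000000c00000001)))
 (.node (nat_lit 3) (.leaf (nat_lit 0x2000400000008000d00000001000d00010000000100030000000100020007000300010002000c000c0002))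
 (.leaf (nat_lit 0x300050000000200040008000b00030001000000010003000b0001000e000900000000000300010001000e00010000)))),
 (.node (nat_lit 2) (.node (nat_lit 1) (.leaf (nat_lit 0x202000000000000000201000202000000000000000000000000000000000000000000000000000000000000000000000000000204000000000105000000))
 (.leaf (nat_lit 0x1000001000001000000000103000001000000000103000001000103000000000103000001000000000103000001000001000001000001000000000000000103000000000001)))
 (.node (nat_lit 3) (.leaf (nat_lit 0x301000301000000000301000301000000000400000300000400000000000400000400000000000400000302000107000301000400000107000400000400000302))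
 (.leaf (nat_lit 0x401000401000000000104000401000401000104000401000401000000000401000401000102000401000401000401000000000000000401000401000401000401000401000000))))⟩
noncomputable def sl25L1 : Lev := ⟨(nat_lit 0), (nat_lit 2), (nat_lit 0x20000000001000000000200000000010000000000), (nat_lit 0x20000000001000000000100000000020000000000),
 (.node (nat_lit 1) (.leaf (nat_lit 0x200000000000000000000000000000000000000010000000000000000000000000000000000000001))
 (.leaf (nat_lit 0x1000000000000000000000000000000000000000300000000000000000001))),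
 (.node (nat_lit 1) (.leaf (nat_lit 0x202000000000000000000000000000000000000000000000000000000000000000000000000000000000000000000000000000000000000000000000000))
 (.leaf (nat_lit 0x1000000000000000000000000000000000000000000000000000000000001000000000000000000000000000001)))⟩
noncomputable def sl25L : List Lev := [sl25L0, sl25L1]
noncomputable def sl25s0 : ℕ := (nat_lit 0xa4ef6ac60f7492d62d462910718820)
noncomputable def sl25s1 : ℕ := (nat_lit 0x7a2a9148d360204b286e3d1a1896eb)
noncomputable def sl25s2 : ℕ := (nat_lit 0xad277b3a5183d8b525a5220e618820)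
noncomputable def sl25s3 : ℕ := (nat_lit 0xaea68486dba0af02a963c44c4cc8e)
noncomputable def sl25s4 : ℕ := (nat_lit 0x68a059a2cb0387135137605e491eaa)
noncomputable def sl25s5 : ℕ := (nat_lit 0x4442a98d952bae78013212e846d8cf)
noncomputable def sl25s6 : ℕ := (nat_lit 0x22a161a12fa88ed7502664a602ae37)
noncomputable def sl25s7 : ℕ := (nat_lit 0x51ea2983582d8715a326a0779b924)
noncomputable def sl25S : Tr ℕ := (.node (nat_lit 4) (.node (nat_lit 2) (.node (nat_lit 1) (.leaf sl25s0) (.leaf sl25s1)) (.node (nat_lit 3) (.leaf sl25s2) (.leaf sl25s3)))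
 (.node (nat_lit 6) (.node (nat_lit 5) (.leaf sl25s4) (.leaf sl25s5)) (.node (nat_lit 7) (.leaf sl25s6) (.leaf sl25s7))))
noncomputable def sl25D : Tr (List ℕ) := (.node (nat_lit 4) (.node (nat_lit 2) (.node (nat_lit 1) (.leaf []) (.leaf [])) (.node (nat_lit 3) (.leaf [nat_lit 0, nat_lit 0, nat_lit 0, nat_lit 0]) (.leaf [nat_lit 1, nat_lit 1, nat_lit 1, nat_lit 1])))
 (.node (nat_lit 6) (.node (nat_lit 5) (.leaf [nat_lit 3, nat_lit 2, nat_lit 1]) (.leaf [nat_lit 3, nat_lit 0, nat_lit 1])) (.node (nat_lit 7) (.leaf [nat_lit 3, nat_lit 5, nat_lit 2]) (.leaf [nat_lit 6, nat_lit 6]))))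
theorem sl25slp : slpChk 24 (nat_lit 5) (nat_lit 31) sl25S sl25D 2 6 = true := by decide +kernel
noncomputable def sl25V : Tr ℕ := (.node (nat_lit 12) (.node (nat_lit 6) (.node (nat_lit 3) (.node (nat_lit 1) (.leaf (nat_lit 1)) (.node (nat_lit 2) (.leaf (nat_lit 2)) (.leaf (nat_lit 3)))) (.node (nat_lit 4) (.leaf (nat_lit 4)) (.node (nat_lit 5) (.leaf (nat_lit 8)) (.leaf (nat_lit 9)))))
 (.node (nat_lit 9) (.node (nat_lit 7) (.leaf (nat_lit 10)) (.node (nat_lit 8) (.leaf (nat_lit 11)) (.leaf (nat_lit 12)))) (.node (nat_lit 10) (.leaf (nat_lit 16)) (.node (nat_lit 11) (.leaf (nat_lit 17)) (.leaf (nat_lit 18))))))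
 (.node (nat_lit 18) (.node (nat_lit 15) (.node (nat_lit 13) (.leaf (nat_lit 19)) (.node (nat_lit 14) (.leaf (nat_lit 20)) (.leaf (nat_lit 24)))) (.node (nat_lit 16) (.leaf (nat_lit 25)) (.node (nat_lit 17) (.leaf (nat_lit 26)) (.leaf (nat_lit 27)))))
 (.node (nat_lit 21) (.node (nat_lit 19) (.leaf (nat_lit 28)) (.node (nat_lit 20) (.leaf (nat_lit 32)) (.leaf (nat_lit 33)))) (.node (nat_lit 22) (.leaf (nat_lit 34)) (.node (nat_lit 23) (.leaf (nat_lit 35)) (.leaf (nat_lit 36)))))))
theorem sl25pts : ptR C5 2 false sl25V 24 0 24 = true := by decide +kernel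
noncomputable def sl25M0 : Sp := [[(nat_lit 0, nat_lit 1), (nat_lit 1, nat_lit 3)],
  [(nat_lit 1, nat_lit 1)]]
noncomputable def sl25M1 : Sp := [[(nat_lit 0, nat_lit 2), (nat_lit 1, nat_lit 2)],
  [(nat_lit 0, nat_lit 2)]]
noncomputable def sl25MT : Tr Sp := (.node (nat_lit 1) (.leaf sl25M0) (.leaf sl25M1))
noncomputable def sl25SC : Tr ℕ := (.node (nat_lit 1) (.leaf (nat_lit 0x249249249249249249)) (.leaf (nat_lit 0x249249249249249249)))
theorem sl25act : ActAll C5 2 false sl25V 24 (nat_lit 5) (nat_lit 31) sl25MT sl25S sl25SC 2 := actAll_of (by decide +kernel)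
noncomputable def sl25OT : Tr ℕ := (.node (nat_lit 1) (.leaf (nat_lit 5)) (.leaf (nat_lit 5)))
theorem sl25pw : (allB 2 fun j => band (powChk C5 2 (sl25MT.get j) (sl25OT.get j)) (band (Nat.ble 1 (sl25OT.get j)) (Nat.beq (Nat.gcd (sl25OT.get j) (5 - 1)) 1))) = true := by decide +kernel
theorem sl25h2 : band (selChk sl25T sl25S (2 + 6)) (band (tchainChk 24 (nat_lit 5) (nat_lit 31) sl25T sl25L) (band (Nat.ble 2 5) (Nat.ble (glo 5 2) ((5 - 1) * chainOrd 24 sl25L)))) = true := by decide +kernel
theorem sl25ch {F : Type*} [Field F] [Fintype F] {φ : ℕ → F} (h : FM C5 φ) (hF : Fintype.card F = 5) :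
    Ch (Matrix.SpecialLinearGroup (Fin 2) F) 24 (nat_lit 5) (nat_lit 31) (ptL (τSL (Fin 2) F) C5 φ Fin.val false sl25V) sl25T sl25L :=
  h.chSL hF sl25pts sl25act sl25pw sl25slp sl25h2
theorem sl25lev0 : levChk 24 (nat_lit 5) (nat_lit 31) sl25T sl25R sl25L0 sl25L1.N = true := by decide +kernel
theorem sl25lev1 : levChk 24 (nat_lit 5) (nat_lit 31) sl25T sl25R sl25L1 0 = true := by decide +kernel
theorem sl25chain : Chain 24 (nat_lit 5) (nat_lit 31) sl25T sl25R sl25L := chain_cons sl25lev0 <| chain_one sl25lev1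
theorem sl25sd : band (sl25R.all fun w => eqB (sl25L.map Lev.b) (apL (nat_lit 5) (nat_lit 31) sl25T w) fun a => a) (Nat.ble (chainOrd 24 sl25L) (chainOrd 24 sl25L)) = true := by decide +kernel
theorem sl25std {F : Type*} [Field F] [Fintype F] {φ : ℕ → F} (h : FM C5 φ) (hF : Fintype.card F = 5) :
    Std (Matrix.SpecialLinearGroup (Fin 2) F) 24 (nat_lit 5) (nat_lit 31) (ptL (τSL (Fin 2) F) C5 φ Fin.val false sl25V) sl25T sl25R sl25L :=
  have C := sl25ch h hF
  (C.std C.lets sl25chain sl25sd)
noncomputable def gl42t0 : ℕ := (nat_lit 0xcdeb89a74563012)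
noncomputable def gl42t1 : ℕ := (nat_lit 0x2d0b6947a583e1c)
noncomputable def gl42t2 : ℕ := (nat_lit 0x8dabc9e70523416)
noncomputable def gl42t3 : ℕ := (nat_lit 0x789abcde6543210)
noncomputable def gl42t4 : ℕ := (nat_lit 0xeac8d9b76240513)
noncomputable def gl42t5 : ℕ := (nat_lit 0xecdb6453a897201)
noncomputable def gl42T : Tr ℕ := (.node (nat_lit 3) (.node (nat_lit 1) (.leaf gl42t0) (.node (nat_lit 2) (.leaf gl42t1) (.leaf gl42t2))) (.node (nat_lit 4) (.leaf gl42t3) (.node (nat_lit 5) (.leaf gl42t4) (.leaf gl42t5))))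
noncomputable def gl42R : Tr (List ℕ) := (.node (nat_lit 14) (.node (nat_lit 7) (.node (nat_lit 3) (.node (nat_lit 1) (.leaf [nat_lit 0, nat_lit 0]) (.node (nat_lit 2) (.leaf [nat_lit 2, nat_lit 3, nat_lit 2, nat_lit 5, nat_lit 4, nat_lit 0, nat_lit 4, nat_lit 5]) (.leaf [nat_lit 4, nat_lit 0, nat_lit 4, nat_lit 0, nat_lit 4, nat_lit 0, nat_lit 4, nat_lit 0])))
 (.node (nat_lit 5) (.node (nat_lit 4) (.leaf [nat_lit 0, nat_lit 2, nat_lit 0, nat_lit 2]) (.leaf [nat_lit 0, nat_lit 1, nat_lit 0, nat_lit 1])) (.node (nat_lit 6) (.leaf [nat_lit 3, nat_lit 0, nat_lit 1, nat_lit 3, nat_lit 0, nat_lit 1, nat_lit 3, nat_lit 0, nat_lit 1]) (.leaf [nat_lit 3, nat_lit 0, nat_lit 3, nat_lit 2, nat_lit 3, nat_lit 0, nat_lit 3, nat_lit 2]))))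
 (.node (nat_lit 10) (.node (nat_lit 8) (.leaf [nat_lit 3, nat_lit 0, nat_lit 3, nat_lit 0, nat_lit 3, nat_lit 0, nat_lit 3, nat_lit 0]) (.node (nat_lit 9) (.leaf [nat_lit 1, nat_lit 1]) (.leaf [nat_lit 4, nat_lit 1, nat_lit 4, nat_lit 1, nat_lit 4, nat_lit 1])))
 (.node (nat_lit 12) (.node (nat_lit 11) (.leaf [nat_lit 1, nat_lit 2, nat_lit 1, nat_lit 2]) (.leaf [nat_lit 1, nat_lit 5, nat_lit 4, nat_lit 5, nat_lit 2, nat_lit 5, nat_lit 4, nat_lit 5])) (.node (nat_lit 13) (.leaf [nat_lit 3, nat_lit 1, nat_lit 3, nat_lit 1, nat_lit 3, nat_lit 1]) (.leaf [nat_lit 5, nat_lit 1, nat_lit 5, nat_lit 1, nat_lit 5, nat_lit 1, nat_lit 5, nat_lit 1])))))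
 (.node (nat_lit 21) (.node (nat_lit 17) (.node (nat_lit 15) (.leaf [nat_lit 2, nat_lit 2]) (.node (nat_lit 16) (.leaf [nat_lit 4, nat_lit 2, nat_lit 4, nat_lit 2, nat_lit 4, nat_lit 2]) (.leaf [nat_lit 3, nat_lit 2, nat_lit 3, nat_lit 2, nat_lit 3, nat_lit 2, nat_lit 3, nat_lit 2])))
 (.node (nat_lit 19) (.node (nat_lit 18) (.leaf [nat_lit 3, nat_lit 1, nat_lit 2, nat_lit 3, nat_lit 1, nat_lit 2, nat_lit 3, nat_lit 1, nat_lit 2]) (.leaf [nat_lit 0, nat_lit 1, nat_lit 4, nat_lit 0, nat_lit 1, nat_lit 5, nat_lit 3, nat_lit 5])) (.node (nat_lit 20) (.leaf [nat_lit 4, nat_lit 0, nat_lit 3, nat_lit 0, nat_lit 4, nat_lit 0, nat_lit 3, nat_lit 0]) (.leaf [nat_lit 4, nat_lit 3, nat_lit 4, nat_lit 3]))))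
 (.node (nat_lit 25) (.node (nat_lit 23) (.node (nat_lit 22) (.leaf [nat_lit 3, nat_lit 3]) (.leaf [nat_lit 2, nat_lit 3, nat_lit 4, nat_lit 0, nat_lit 1, nat_lit 3, nat_lit 5, nat_lit 1, nat_lit 5, nat_lit 4, nat_lit 2, nat_lit 1, nat_lit 5])) (.node (nat_lit 24) (.leaf [nat_lit 4, nat_lit 4]) (.leaf [nat_lit 4, nat_lit 0, nat_lit 1, nat_lit 4, nat_lit 0, nat_lit 1, nat_lit 4, nat_lit 0, nat_lit 1])))
 (.node (nat_lit 27) (.node (nat_lit 26) (.leaf [nat_lit 5, nat_lit 4, nat_lit 5, nat_lit 4, nat_lit 5, nat_lit 4, nat_lit 5, nat_lit 4]) (.leaf [nat_lit 0, nat_lit 2, nat_lit 3, nat_lit 0, nat_lit 2, nat_lit 3, nat_lit 4, nat_lit 2, nat_lit 3, nat_lit 2, nat_lit 4])) (.node (nat_lit 28) (.leaf [nat_lit 5, nat_lit 5]) (.leaf [nat_lit 4, nat_lit 0, nat_lit 2, nat_lit 4, nat_lit 0, nat_lit 2, nat_lit 4, nat_lit 0, nat_lit 2]))))))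
noncomputable def gl42L0 : Lev := ⟨(nat_lit 1), (nat_lit 6), (nat_lit 0x20602040304030603050305010006), (nat_lit 0x30302040303040302030302020001),
 (.node (nat_lit 3) (.node (nat_lit 1) (.leaf (nat_lit 0x3000d00020006000500050004000c0002000300030002000000000001))
 (.node (nat_lit 2) (.leaf (nat_lit 0x20000000400030003000300020002000400020008000100000001))
 (.leaf (nat_lit 0x100080001000500000006000000020000000b0000000b000100000001))))
 (.node (nat_lit 4) (.leaf (nat_lit 0xe000b0001000000010000000c000f0002000500050003000400000002))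
 (.node (nat_lit 5) (.leaf (nat_lit 0x3000d00070009000e000600080002000a0000000a0000000100000001))
 (.leaf (nat_lit 0x100000000100110011000f000e00000010000d000e0001001200010000))))),
 (.node (nat_lit 3) (.node (nat_lit 1) (.leaf (nat_lit 0x701000402000601000000000504000402000105000302000205000001000105000000000000000001))
 (.node (nat_lit 2) (.leaf (nat_lit 0xd05000000000c03000800000c03000800000b00000a02000901000a02000901000801000000000801))
 (.leaf (nat_lit 0xe00000b04000e00001105000000001007000000000b04000000000f01000000000f01000e01000000000e01))))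
 (.node (nat_lit 4) (.leaf (nat_lit 0x101001605001500000000001501000000001501001501000101001401000604001401001306000000001206))
 (.node (nat_lit 5) (.leaf (nat_lit 0x1202001402001402001700001701001300001a0a001905001800000000000900000000001701000000001701))
 (.leaf (nat_lit 0x1205000000001b01001205001b00001b00001b00000000000103001207001207001b01001900001b00000000)))))⟩
noncomputable def gl42L1 : Lev := ⟨(nat_lit 3), (nat_lit 5), (nat_lit 0x20502040304030403050300010005), (nat_lit 0x30402040303040402030300020001),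
 (.node (nat_lit 2) (.node (nat_lit 1) (.leaf (nat_lit 0x300050002000600050005000400040002000200030000000000000001))
 (.leaf (nat_lit 0x40000000500030003000300030002000400020000000100000001)))
 (.node (nat_lit 3) (.leaf (nat_lit 0x100030001000600000007000000080000000400000000000100000001))
 (.node (nat_lit 4) (.leaf (nat_lit 0x1000c0001000000010000000b00000004000300030000000200000002))
 (.leaf (nat_lit 0x300000002000a00010003000900040002000000030001000100000000))))),
 (.node (nat_lit 2) (.node (nat_lit 1) (.leaf (nat_lit 0x1804000402000601000000000703000402000504000302000205000001000000000000000000000001))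
 (.leaf (nat_lit 0x903000000000c03000800000c03000800000c03000a02000901000a02000000000801000000000801)))
 (.node (nat_lit 3) (.leaf (nat_lit 0xe00000f01000e00001105000000001007000000000607000000000f01000000000000000e01000000000e01))
 (.node (nat_lit 4) (.leaf (nat_lit 0x1500001500001500000000001501000000001403000000000606001401001a02000000001306000000001403))
 (.leaf (nat_lit 0x1806000000000904001700001701001400001a06001400000f04000000001c06001700001701000000000000)))))⟩
noncomputable def gl42L2 : Lev := ⟨(nat_lit 7), (nat_lit 4), (nat_lit 0x40401040304030003000300020002), (nat_lit 0x10302040303020004000300020003),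
 (.node (nat_lit 2) (.node (nat_lit 1) (.leaf (nat_lit 0x100020000000600050002000400000003000000040000000200000003))
 (.leaf (nat_lit 0x1000a0001000700030004000300000002000000020000000000000000)))
 (.node (nat_lit 3) (.leaf (nat_lit 0x100020001000600000002000000000000000000000000000100000001))
 (.leaf (nat_lit 0x1000000010000000100010008000000090000000200000003)))),
 (.node (nat_lit 2) (.node (nat_lit 1) (.leaf (nat_lit 0x601000000000705000000000703000402000000000302000000000001000000000400000000000001))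
 (.leaf (nat_lit 0x800000c03000800001104000800000c03000800000000000a02000000000a02000000000000000000000000)))
 (.node (nat_lit 3) (.leaf (nat_lit 0xe00001003000e00000607000000000603000000000000000000000000000000000000000e01000000000e01))
 (.leaf (nat_lit 0x1500000000001501000000001501001501000c00000000000604000000000c00000000000500))))⟩
noncomputable def gl42L3 : Lev := ⟨(nat_lit 0), (nat_lit 3), (nat_lit 0x20002000300030003000300010000), (nat_lit 0x20001000200030001000200010000),
 (.node (nat_lit 1) (.leaf (nat_lit 0x300000002000000050000000400000002000000030000000000000001))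
 (.node (nat_lit 2) (.leaf (nat_lit 0x30000000300000002000000020000000100000001))
 (.leaf (nat_lit 0x100000001000000000000000000000000000000000000000100000001)))),
 (.node (nat_lit 1) (.leaf (nat_lit 0x402000000000000000000000402000000000302000000000001000000000000000000000001))
 (.node (nat_lit 2) (.leaf (nat_lit 0x800000000000800000000000a02000000000a02000000000801000000000801))
 (.leaf (nat_lit 0xe00000000000e00000000000000000000000000000000000000000000000000000000000e01000000000e01))))⟩
noncomputable def gl42L : List Lev := [gl42L0, gl42L1, gl42L2, gl42L3]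
noncomputable def gl42s0 : ℕ := (nat_lit 0x8aec0264bd97351)
noncomputable def gl42s1 : ℕ := (nat_lit 0x2b0d674985a3c1e)
noncomputable def gl42s2 : ℕ := (nat_lit 0xc5b6d4e3817290a)
noncomputable def gl42s3 : ℕ := (nat_lit 0xb2d4769a583e1c)
noncomputable def gl42s4 : ℕ := (nat_lit 0x789acbed5634210)
noncomputable def gl42s5 : ℕ := (nat_lit 0x87a9bcde5634210)
noncomputable def gl42s6 : ℕ := (nat_lit 0xbcde789a6543210)
noncomputable def gl42s7 : ℕ := (nat_lit 0x7c9eb8da2503614)
noncomputable def gl42s8 : ℕ := (nat_lit 0xb8da7c9e2503614)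
noncomputable def gl42s9 : ℕ := (nat_lit 0xad8be9c72503614)
noncomputable def gl42s10 : ℕ := (nat_lit 0xd2b496785a3c1e)
noncomputable def gl42s11 : ℕ := (nat_lit 0x6d4b2907e5c3a18)
noncomputable def gl42s12 : ℕ := (nat_lit 0xcdeb89a74563012)
noncomputable def gl42s13 : ℕ := (nat_lit 0x2d0b6947a583e1c)
noncomputable def gl42s14 : ℕ := (nat_lit 0x8dabc9e70523416)
noncomputable def gl42s15 : ℕ := (nat_lit 0x789abcde6543210)
noncomputable def gl42s16 : ℕ := (nat_lit 0xeac8d9b76240513)
noncomputable def gl42s17 : ℕ := (nat_lit 0xecdb6453a897201)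
noncomputable def gl42S : Tr ℕ := (.node (nat_lit 9) (.node (nat_lit 4) (.node (nat_lit 2) (.node (nat_lit 1) (.leaf gl42s0) (.leaf gl42s1)) (.node (nat_lit 3) (.leaf gl42s2) (.leaf gl42s3)))
 (.node (nat_lit 6) (.node (nat_lit 5) (.leaf gl42s4) (.leaf gl42s5)) (.node (nat_lit 7) (.leaf gl42s6) (.node (nat_lit 8) (.leaf gl42s7) (.leaf gl42s8)))))
 (.node (nat_lit 13) (.node (nat_lit 11) (.node (nat_lit 10) (.leaf gl42s9) (.leaf gl42s10)) (.node (nat_lit 12) (.leaf gl42s11) (.leaf gl42s12)))
 (.node (nat_lit 15) (.node (nat_lit 14) (.leaf gl42s13) (.leaf gl42s14)) (.node (nat_lit 16) (.leaf gl42s15) (.node (nat_lit 17) (.leaf gl42s16) (.leaf gl42s17))))))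
noncomputable def gl42D : Tr (List ℕ) := (.node (nat_lit 9) (.node (nat_lit 4) (.node (nat_lit 2) (.node (nat_lit 1) (.leaf []) (.leaf [])) (.node (nat_lit 3) (.leaf [nat_lit 0, nat_lit 0, nat_lit 0, nat_lit 0]) (.leaf [nat_lit 1, nat_lit 1, nat_lit 1])))
 (.node (nat_lit 6) (.node (nat_lit 5) (.leaf [nat_lit 2, nat_lit 1, nat_lit 0]) (.leaf [nat_lit 2, nat_lit 3, nat_lit 0])) (.node (nat_lit 7) (.leaf [nat_lit 4, nat_lit 1, nat_lit 5, nat_lit 3, nat_lit 3, nat_lit 4, nat_lit 1, nat_lit 4, nat_lit 3, nat_lit 3]) (.node (nat_lit 8) (.leaf [nat_lit 4, nat_lit 3, nat_lit 4, nat_lit 3, nat_lit 5, nat_lit 3, nat_lit 4]) (.leaf [nat_lit 5, nat_lit 1, nat_lit 4, nat_lit 1, nat_lit 5, nat_lit 1, nat_lit 5])))))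
 (.node (nat_lit 13) (.node (nat_lit 11) (.node (nat_lit 10) (.leaf [nat_lit 3, nat_lit 7, nat_lit 6, nat_lit 1, nat_lit 7, nat_lit 6]) (.leaf [nat_lit 6, nat_lit 8, nat_lit 6, nat_lit 1, nat_lit 8, nat_lit 3, nat_lit 6])) (.node (nat_lit 12) (.leaf [nat_lit 8, nat_lit 3, nat_lit 3, nat_lit 8, nat_lit 6, nat_lit 8, nat_lit 1, nat_lit 1, nat_lit 1]) (.leaf [nat_lit 11, nat_lit 10, nat_lit 9])))
 (.node (nat_lit 15) (.node (nat_lit 14) (.leaf [nat_lit 11, nat_lit 9]) (.leaf [nat_lit 11, nat_lit 10])) (.node (nat_lit 16) (.leaf [nat_lit 8, nat_lit 9]) (.node (nat_lit 17) (.leaf [nat_lit 9, nat_lit 5, nat_lit 1, nat_lit 7, nat_lit 6, nat_lit 11]) (.leaf [nat_lit 2, nat_lit 5, nat_lit 1, nat_lit 7, nat_lit 6, nat_lit 10, nat_lit 9]))))))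
theorem gl42slp : slpChk 15 (nat_lit 4) (nat_lit 15) gl42S gl42D 2 16 = true := by decide +kernel
noncomputable def gl42V : Tr ℕ := (.node (nat_lit 7) (.node (nat_lit 3) (.node (nat_lit 1) (.leaf (nat_lit 1)) (.node (nat_lit 2) (.leaf (nat_lit 2)) (.leaf (nat_lit 3))))
 (.node (nat_lit 5) (.node (nat_lit 4) (.leaf (nat_lit 4)) (.leaf (nat_lit 5))) (.node (nat_lit 6) (.leaf (nat_lit 6)) (.leaf (nat_lit 7)))))
 (.node (nat_lit 11) (.node (nat_lit 9) (.node (nat_lit 8) (.leaf (nat_lit 8)) (.leaf (nat_lit 9))) (.node (nat_lit 10) (.leaf (nat_lit 10)) (.leaf (nat_lit 11))))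
 (.node (nat_lit 13) (.node (nat_lit 12) (.leaf (nat_lit 12)) (.leaf (nat_lit 13))) (.node (nat_lit 14) (.leaf (nat_lit 14)) (.leaf (nat_lit 15))))))
theorem gl42pts : ptR C2 4 false gl42V 15 0 15 = true := by decide +kernel
noncomputable def gl42M0 : Sp := [[(nat_lit 3, nat_lit 1)],
  [(nat_lit 0, nat_lit 1), (nat_lit 1, nat_lit 1)],
  [(nat_lit 1, nat_lit 1), (nat_lit 3, nat_lit 1)],
  [(nat_lit 2, nat_lit 1)]]
noncomputable def gl42M1 : Sp := [[(nat_lit 0, nat_lit 1)],
  [(nat_lit 0, nat_lit 1), (nat_lit 1, nat_lit 1), (nat_lit 3, nat_lit 1)],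
  [(nat_lit 0, nat_lit 1), (nat_lit 2, nat_lit 1)],
  [(nat_lit 0, nat_lit 1), (nat_lit 3, nat_lit 1)]]
noncomputable def gl42MT : Tr Sp := (.node (nat_lit 1) (.leaf gl42M0) (.leaf gl42M1))
noncomputable def gl42SC : Tr ℕ := (.node (nat_lit 1) (.leaf (nat_lit 32767)) (.leaf (nat_lit 32767)))
theorem gl42act : ActAll C2 4 false gl42V 15 (nat_lit 4) (nat_lit 15) gl42MT gl42S gl42SC 2 := actAll_of (by decide +kernel)
noncomputable def gl42OT : Tr ℕ := (.node (nat_lit 1) (.leaf (nat_lit 5)) (.leaf (nat_lit 4)))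
theorem gl42pw : (allB 2 fun j => band (powChk C2 4 (gl42MT.get j) (gl42OT.get j)) (Nat.ble 1 (gl42OT.get j))) = true := by decide +kernel
theorem gl42h2 : band (selChk gl42T gl42S (2 + 16)) (band (tchainChk 15 (nat_lit 4) (nat_lit 15) gl42T gl42L) (Nat.ble (glo 2 4) (chainOrd 15 gl42L))) = true := by decide +kernel
theorem gl42ch {F : Type*} [Field F] [Fintype F] {φ : ℕ → F} (h : FM C2 φ) (hF : Fintype.card F = 2) :
    Ch (GL (Fin 4) F) 15 (nat_lit 4) (nat_lit 15) (ptL (τG (Fin 4) F) C2 φ Fin.val false gl42V) gl42T gl42L :=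
  h.chGL (ix_fin 4) hF gl42pts gl42act gl42pw gl42slp gl42h2
theorem gl42lev0 : levChk 15 (nat_lit 4) (nat_lit 15) gl42T gl42R gl42L0 gl42L1.N = true := by decide +kernel
theorem gl42lev1 : levChk 15 (nat_lit 4) (nat_lit 15) gl42T gl42R gl42L1 gl42L2.N = true := by decide +kernel
theorem gl42lev2 : levChk 15 (nat_lit 4) (nat_lit 15) gl42T gl42R gl42L2 gl42L3.N = true := by decide +kernel
theorem gl42lev3 : levChk 15 (nat_lit 4) (nat_lit 15) gl42T gl42R gl42L3 0 = true := by decide +kernel
theorem gl42chain : Chain 15 (nat_lit 4) (nat_lit 15) gl42T gl42R gl42L := chain_cons gl42lev0 <| chain_cons gl42lev1 <| chain_cons gl42lev2 <| chain_one gl42lev3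
theorem gl42sd : band (gl42R.all fun w => eqB (gl42L.map Lev.b) (apL (nat_lit 4) (nat_lit 15) gl42T w) fun a => a) (Nat.ble (chainOrd 15 gl42L) (chainOrd 15 gl42L)) = true := by decide +kernel
theorem gl42std {F : Type*} [Field F] [Fintype F] {φ : ℕ → F} (h : FM C2 φ) (hF : Fintype.card F = 2) :
    Std (GL (Fin 4) F) 15 (nat_lit 4) (nat_lit 15) (ptL (τG (Fin 4) F) C2 φ Fin.val false gl42V) gl42T gl42R gl42L :=
  have C := gl42ch h hF
  (C.std C.lets gl42chain gl42sd)
noncomputable def sl34t0 : ℕ := (nat_lit 0x1eb4cedaa48dd6944cd2840bcef5cacae589c6d548c2c507fe36c6fa2685f61644f20603ee77c2ea6781e65740e2470)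
noncomputable def sl34t1 : ℕ := (nat_lit 0x22158ee605cdea350cee254bf2548af644c9fa7408fe6447c29786c687c5cab704cea743d2d682d6c6c1daf600dee64)
noncomputable def sl34t2 : ℕ := (nat_lit 0x6660ec2764dce468cca56cbd6270ad23749de0788da17c7e6e406e2f445eec484ead4c3f6a502f2b541fe8580fa95c)
noncomputable def sl34t3 : ℕ := (nat_lit 0x36e70ef2f74dfec78cfad7cbe6a60ae2b649ee8688ea96c7d66506d27545de4584da55c3c62402c23441ce0480ca14c)
noncomputable def sl34t4 : ℕ := (nat_lit 0x3eb9e3baa9a2b69961b28920bdb5d379a5927595517185107cb1c338a1823491413081003badb2f79d71f38d30ef7cf)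
noncomputable def sl34t5 : ℕ := (nat_lit 0x3ef7cec51831207e285761969148f42aa689cb30d3b4cf6d481ca26fc31c965544edbabb2392599c6de779eb7e02040)
noncomputable def sl34T : Tr ℕ := (.node (nat_lit 3) (.node (nat_lit 1) (.leaf sl34t0) (.node (nat_lit 2) (.leaf sl34t1) (.leaf sl34t2))) (.node (nat_lit 4) (.leaf sl34t3) (.node (nat_lit 5) (.leaf sl34t4) (.leaf sl34t5))))
noncomputable def sl34R : Tr (List ℕ) := (.node (nat_lit 15) (.node (nat_lit 7) (.node (nat_lit 3) (.node (nat_lit 1) (.leaf [nat_lit 0, nat_lit 0]) (.node (nat_lit 2) (.leaf [nat_lit 0, nat_lit 3, nat_lit 5, nat_lit 4, nat_lit 5, nat_lit 1, nat_lit 5, nat_lit 4, nat_lit 5]) (.leaf [nat_lit 1, nat_lit 2, nat_lit 4, nat_lit 3, nat_lit 4, nat_lit 0, nat_lit 4, nat_lit 3, nat_lit 4])))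
 (.node (nat_lit 5) (.node (nat_lit 4) (.leaf [nat_lit 5, nat_lit 0, nat_lit 2, nat_lit 5, nat_lit 0, nat_lit 2, nat_lit 5, nat_lit 0, nat_lit 2]) (.leaf [nat_lit 4, nat_lit 0, nat_lit 1, nat_lit 4, nat_lit 0, nat_lit 1, nat_lit 4, nat_lit 0, nat_lit 1])) (.node (nat_lit 6) (.leaf [nat_lit 0, nat_lit 3, nat_lit 0, nat_lit 3]) (.leaf [nat_lit 0, nat_lit 1, nat_lit 0, nat_lit 1]))))
 (.node (nat_lit 11) (.node (nat_lit 9) (.node (nat_lit 8) (.leaf [nat_lit 0, nat_lit 2, nat_lit 0, nat_lit 2]) (.leaf [nat_lit 0, nat_lit 1, nat_lit 5, nat_lit 0, nat_lit 5, nat_lit 1, nat_lit 0, nat_lit 5, nat_lit 3, nat_lit 5])) (.node (nat_lit 10) (.leaf [nat_lit 4, nat_lit 0, nat_lit 4, nat_lit 0, nat_lit 4, nat_lit 0, nat_lit 4, nat_lit 0, nat_lit 4, nat_lit 0]) (.leaf [nat_lit 1, nat_lit 1])))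
 (.node (nat_lit 13) (.node (nat_lit 12) (.leaf [nat_lit 5, nat_lit 1, nat_lit 2, nat_lit 5, nat_lit 1, nat_lit 2, nat_lit 5, nat_lit 1, nat_lit 2]) (.leaf [nat_lit 1, nat_lit 3, nat_lit 1, nat_lit 3])) (.node (nat_lit 14) (.leaf [nat_lit 5, nat_lit 1, nat_lit 5, nat_lit 1, nat_lit 5, nat_lit 1, nat_lit 5, nat_lit 1, nat_lit 5, nat_lit 1]) (.leaf [nat_lit 1, nat_lit 2, nat_lit 1, nat_lit 2])))))
 (.node (nat_lit 22) (.node (nat_lit 18) (.node (nat_lit 16) (.leaf [nat_lit 4, nat_lit 1, nat_lit 4, nat_lit 1, nat_lit 4, nat_lit 1, nat_lit 4, nat_lit 1, nat_lit 4, nat_lit 1]) (.node (nat_lit 17) (.leaf [nat_lit 2, nat_lit 2]) (.leaf [nat_lit 2, nat_lit 3, nat_lit 2, nat_lit 3])))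
 (.node (nat_lit 20) (.node (nat_lit 19) (.leaf [nat_lit 5, nat_lit 2, nat_lit 5, nat_lit 2, nat_lit 5, nat_lit 2, nat_lit 5, nat_lit 2, nat_lit 5, nat_lit 2]) (.leaf [nat_lit 4, nat_lit 2, nat_lit 3, nat_lit 4, nat_lit 2, nat_lit 3, nat_lit 4, nat_lit 2, nat_lit 3])) (.node (nat_lit 21) (.leaf [nat_lit 4, nat_lit 2, nat_lit 4, nat_lit 2, nat_lit 4, nat_lit 2]) (.leaf [nat_lit 5, nat_lit 2, nat_lit 3, nat_lit 5, nat_lit 2, nat_lit 3, nat_lit 5, nat_lit 2, nat_lit 3]))))
 (.node (nat_lit 26) (.node (nat_lit 24) (.node (nat_lit 23) (.leaf [nat_lit 1, nat_lit 3, nat_lit 5, nat_lit 4, nat_lit 5, nat_lit 2, nat_lit 5, nat_lit 4, nat_lit 5]) (.leaf [nat_lit 3, nat_lit 3])) (.node (nat_lit 25) (.leaf [nat_lit 4, nat_lit 3, nat_lit 4, nat_lit 3, nat_lit 4, nat_lit 3, nat_lit 4, nat_lit 3]) (.leaf [nat_lit 4, nat_lit 4])))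
 (.node (nat_lit 28) (.node (nat_lit 27) (.leaf [nat_lit 5, nat_lit 4, nat_lit 5, nat_lit 4, nat_lit 5, nat_lit 4, nat_lit 5, nat_lit 4, nat_lit 5, nat_lit 4]) (.leaf [nat_lit 5, nat_lit 0, nat_lit 5, nat_lit 0, nat_lit 5, nat_lit 0, nat_lit 5, nat_lit 0, nat_lit 5, nat_lit 0])) (.node (nat_lit 29) (.leaf [nat_lit 5, nat_lit 5]) (.leaf [nat_lit 0, nat_lit 1, nat_lit 2, nat_lit 4, nat_lit 1, nat_lit 4, nat_lit 2, nat_lit 0, nat_lit 1, nat_lit 4, nat_lit 3, nat_lit 1, nat_lit 4]))))))
noncomputable def sl34L0 : Lev := ⟨(nat_lit 3), (nat_lit 6), (nat_lit 0x10305050106060601020405060303060302020601030405030203050602040606050205050504050505030504040406040604060604010602010400020403), (nat_lit 0x40504050304010404040204040404030404030404040305040502050305040503040205020404030303030403040304040304050304020503040300040503),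
 (.node (nat_lit 3) (.node (nat_lit 1) (.leaf (nat_lit 0x24003200350000002c0001000a00000025000200280039001f0004000400240025000200180000002b00050009002b0024000500080002002000060031000100260003000f0001001e000400140001000100060018003800020007000d002300270033002d0001001d00000019002c000000030000000300030005))
 (.node (nat_lit 2) (.leaf (nat_lit 0x3002200320016002a002e00010019002a0000000600100037001c000300020038000000000007002b00210004001d002b000000020025000400000002000400010001000000190001000100310019002c000100020011000300220005000c000200010003002b002b001d0001001700000023000300000000002d0003))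
 (.leaf (nat_lit 0x2b000000300027002a00300001000b0026001f0003003400370000000000020000001a00010008002900000002001c000000220000002300290022003100230001002f0001001800280001000200080001000100000013002800200003000e00250001000200070036001b0001001a002a002100030000002900230000))))
 (.node (nat_lit 4) (.leaf (nat_lit 0x2d0031002e0034003600300001000c002c001d000000330035001e002f0003002f001a00010009002b00190000000a002e001a00010024002a001b00000024002e0018000100170001001900000013002d0001000100120000000000000016000000010000002f002d0000000100180001000100000000002c00000001))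
 (.node (nat_lit 5) (.leaf (nat_lit 0x35000400000000001500320001000300190031000100000038002a001500340003000d0001000700310009000100000032001a00010000002b001a001a003200010000000f0000000000000014000000000000000700000014001b00170005000100080001003b00040001000100060001000100010000003300310004))
 (.leaf (nat_lit 0x2000f0034003c002c00000000000000310001000100330000002d00050000002e002700010000000e0002000400310001002f0001003b0000003200300000000000010001003000010006002e0001002c0018000600100028002d00010000003a0000002e00000000002f000100000001002d00010001000b00300003))))),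
 (.node (nat_lit 3) (.node (nat_lit 1) (.leaf (nat_lit 0x602000600000205000000000000000000000803000000000000000500000205000000000602000700000100000000000001000602000100000000000301000000000205000600000702000602000901000806000001000602000304000001000600000001000205000001000000000702000205000001000000000001000401000602000500000001000401000407000001000001000307000001000205000000000100000001000000000001000000000001000001000001))
 (.node (nat_lit 2) (.leaf (nat_lit 0x601000e00000a00000f01000e02000a00000a00000105000e02000000000a00000f01000e02000e00000a00000105000a01000000000000000d01000a01000e02000a00000200000a01000000000e00000402000a01000000000c00000d05000a00000a01000000000200000a00000a01000e02000200000a00000a01000e02000105000a00000a01000e02000d05000c02000a01000c02000b04000603000a01000a01000105000000000a01000a01000000000000000603000a01))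
 (.leaf (nat_lit 0x1000000000001100001401001000001000001000000302001000001100001000001301001000000000000000001605000000001100001001000b02001000000000001102001401000000001100000000001401001000001000001001000b08001001000e01001000001401001504001001001100001401001001001001000000001301000308001001001000000305000703001001001102001203001102001001001001000201000e03000703001001000000000703001001000000))))
 (.node (nat_lit 4) (.leaf (nat_lit 0x1700001700001801001805001700001101001700001502001101000c01000000000207000101001701001701001601001700001700001700001505001700001601000000001801001101000c01001701001302001101001701000000001505001700000203001700001805001700001701000000001805000c01001700001701001601000000000000000000000207000000001700000000001508001700000000001700001601001701001700000000000000000503000000001701))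
 (.node (nat_lit 5) (.leaf (nat_lit 0x1404001900000000000000000906001900001900000107000906001404001900000000001404001404001900001900001404000f06001900000107001404001404001900000000001901000f06001900000000001901000f06001800001900001901000000001404000000000000000000001404000000000000000000000107000000000202001901001306001900001901001901001901000103001901001901001901001a05001901001901001901000000000107000107001603))
 (.leaf (nat_lit 0x1b04001204000306001a06000b00000000000000000000001c00001c00001c00001c00000000000306001604000000001c00000104001c00000000001b08001204001503001a08001c00001c00001c00001c00000000000108000306000000000000001c00001c00001c00001c01001c01001c01001c01000104001a02000303001a08001c01000b06001c01000000000104000000000b03000000000000000108001c01000000001c01001c01001c01001c01001b00000b00000b00)))))⟩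
noncomputable def sl34L1 : Lev := ⟨(nat_lit 15), (nat_lit 5), (nat_lit 0x10304050403030503040405010301050202030503040405030202050402040505050305040504050405020505040400020104000301030004010400020405), (nat_lit 0x50503050505030605050406040402060504030604050306050502050505040604040203040404050503030603040300040502000505040005040500050501),
 (.node (nat_lit 2) (.node (nat_lit 1) (.leaf (nat_lit 0x1a00030005000300120004001300100017000800190000001f000000140002001b00030004000200110006000d0013001600020004001200200009000b0001000100020002000200010007000c000f00010003000500010002000a0000000300000002000000030000000500000014000000090000001300030001))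
 (.leaf (nat_lit 0x13001800060004001200140003001500020019000500040001001d0001000d0000000000020021000300020003001e001300000000001a001400000004001900010001000200050002000100050003000f00010000000a00010003000400000000001800020000000e001e000300000003001900050000000000130001)))
 (.node (nat_lit 3) (.leaf (nat_lit 0x150000000200180010000000000003000000020003000600010000000100120010001b000000200000001b0002001d0000001600010019000300180003001800010001000000040002000100020004001100010001000b00010003000300000001001a000200000000001c000000000014001700030000001100150001))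
 (.node (nat_lit 4) (.leaf (nat_lit 0x17000800000016000000070001001400160000000000150001000100010013001200010001001f000100000000001e001100070001001600000008000000150001000700010002000000060000000b000000010001000a0001000000000000000100090000000000100008000100000000000100000000000f00000001))
 (.leaf (nat_lit 0x4001300010000000d0003000300000017000600030000000200040001000000120002000100000002001f0001000000070019000100000005000600050000000000000002000000020000000c000000040000000300000000000600030001000100010001000000010001000100000001000100010000000100010000))))),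
 (.node (nat_lit 2) (.node (nat_lit 1) (.leaf (nat_lit 0x602000000000401000000000000000600000205000000000000000700000205000000000602000000000401000600000001000000000901000700000407000602000901000600000702000602000901000700000001000602000901000001000000000702000205000502000000000001000205000602000000000001000205000001000500000001000000000001000000000502000000000001000000000001000000000001000000000001000000000001000001000001))
 (.leaf (nat_lit 0x601000e00000a00000f01000e02000a00000a00000200000e02000a00000a00000f01000a00000e00000a00000f01000000000000000e00000200000a01000c00000a00000200000a01000000000000000200000a01000000000c00000200000a00000a01000e02000200000c00000a01000e02001d04000a00000a01000000000402000a00000a01000e02000000000000000603000c02000000000200000a01000a01000000000a01000a01000a01000000000000000603000a01)))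
 (.node (nat_lit 3) (.leaf (nat_lit 0x1000000000001100001401001100000000000000001401000000001100001000000201001000000000001000001401000e01001100000000001401000000001000001102001401000000001000001001001401001000001000001001001301001001001001000000001401001102001001001100001401001001001001001000001301001001001001001000000000001001000e03001102000000000000001001000000000000000e03001102001001000000001001000e03001001))
 (.node (nat_lit 4) (.leaf (nat_lit 0x1700001700000000001805000000001101001700001805001101000000000000000207001701001701001701001302001700001700001700001805001700000000000000000207001101000c01001701001805000000001701000000000207001700001700001700001805000000001803000000001805000000001700001701000207001701000000000000000000001700001700000000000000001700000503001700000000000000001700000000000000000c03000000001701))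
 (.leaf (nat_lit 0x906001900001900000000000906001900001900000000001306001404001804000000000906001404001900000000001404000f06001900000000001404001306001900000000001901001404001900000000001901000f06001300000000000000000000001404000000000202000000001404000000001901000000000406000000000000001901001306001900001901001901001901000000001901001901001901000000001901001901001901000000001901001901000000)))))⟩
noncomputable def sl34L2 : Lev := ⟨(nat_lit 0), (nat_lit 4), (nat_lit 0x4000000030000000400000001000000030000000400000002000000040000000300000004000000020000000400000004000000030000000400000000), (nat_lit 0x2000000020000000300000001000000020000000200000001000000030000000100000003000000020000000200000001000000030000000400000000),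
 (.node (nat_lit 2) (.node (nat_lit 1) (.leaf (nat_lit 0x30000000000000004000000000000000800000000000000000000000000000003000000000000000600000000000000020000000000000009000000000000000200000000000000070000000000000003000000000000000a0000000000000002000000000000000500000000000000090000000000000001))
 (.leaf (nat_lit 0x6000000000000000300000000000000050000000000000001000000000000000200000000000000030000000000000000000000000000000400000000000000020000000000000005000000000000000000000000000000040000000000000002000000000000000300000000000000050000000000000001)))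
 (.node (nat_lit 3) (.leaf (nat_lit 0x2000000000000000000000000000000030000000000000001000000000000000000000000000000020000000000000001000000000000000300000000000000000000000000000002000000000000000100000000000000030000000000000002000000000000000000000000000000030000000000000001))
 (.leaf (nat_lit 0x100000000000000000000000000000001000000000000000100000000000000000000000000000001000000000000000000000000000000010000000000000000000000000000000100000000000000000000000000000000000000000000000100000000000000000000000000000001)))),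
 (.node (nat_lit 2) (.node (nat_lit 1) (.leaf (nat_lit 0x600000000000000000000000700000000000000000000000000000000000000000000000000000000000000000000000602000000000000000000000602000000000000000000000602000000000000000000000702000000000000000000000001000000000000000000000001000000000000000000000001000000000000000000000502000000000000000000000001000000000000000000000001000000000000000000000001))
 (.leaf (nat_lit 0xa00000000000000000000000a00000000000000000000000a00000000000000000000000a00000000000000000000000e00000000000000000000000a00000000000000000000000000000000000000000000000c00000000000000000000000e02000000000000000000000e02000000000000000000000000000000000000000000000e02000000000000000000000c02000000000000000000000a01000000000000000000000a01000000000000000000000a01)))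
 (.node (nat_lit 3) (.leaf (nat_lit 0x1100000000000000000000000000000000000000000000001000000000000000000000001000000000000000000000000000000000000000000000001102000000000000000000001001000000000000000000001001000000000000000000000000000000000000000000001100000000000000000000001000000000000000000000001000000000000000000000001102000000000000000000000000000000000000000000001001000000000000000000001001))
 (.leaf (nat_lit 0x1700000000000000000000000000000000000000000000001701000000000000000000001700000000000000000000000000000000000000000000001701000000000000000000000000000000000000000000001700000000000000000000000000000000000000000000001701000000000000000000000000000000000000000000000000000000000000000000001700000000000000000000000000000000000000000000001701))))⟩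
noncomputable def sl34L : List Lev := [sl34L0, sl34L1, sl34L2]
noncomputable def sl34s0 : ℕ := (nat_lit 0x11ce838ba7643448d9ea30fd48bb14d6c2b26d1d4caf54ab3e603860199ed7f621057fc6a305ee396c098293775cea5)
noncomputable def sl34s1 : ℕ := (nat_lit 0x1a6585f7e39ea9aa7a081ca2535155b6d74ce48e694518311d79b73cefef6eb6cacb30d3903d2471cafc1f821882040)
noncomputable def sl34s2 : ℕ := (nat_lit 0x1e5505c128b138bf6f63b298ad99fa32e7ccc70053946da44c0c224f61d5aa864af5fb7c3bd31ea09ee959493706348)
noncomputable def sl34s3 : ℕ := (nat_lit 0x185da677e39eaaa689c92872165544f5db3d248e694310519d79b73ef7ceebb2db8c2ce34f4114b0bf2c6189f802040)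
noncomputable def sl34s4 : ℕ := (nat_lit 0x2e254bea350ce605cde2158efa7408fe6447f2548af644c9c687c5c29786cea743cab704d2d682d6c6c1daf600dee64)
noncomputable def sl34s5 : ℕ := (nat_lit 0x2a15cbee058ce2354de6250efe4488fa54c7f6640af27449c2b745c6a706ca97c3ce8784d6e602d2f641dec680dad6c)
noncomputable def sl34s6 : ℕ := (nat_lit 0x2d5af2294b33257b70216bb12373909f63d1ab5312a74353a05fe1646fa0683f636c4f226a4742ee5701e267c0e6778)
noncomputable def sl34s7 : ℕ := (nat_lit 0x1ca04c18b00d1480ce10908f0af9298ee96882d9ab86c9eab506d67116977d26547936155f4f72e33fb1e76ef0eb5f3)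
noncomputable def sl34s8 : ℕ := (nat_lit 0x26250ee2354dee058cea15cbf6640af27449fe4488fa54c7c6a706c2b745ce8784ca97c3d6e602d2f641dec680dad6c)
noncomputable def sl34s9 : ℕ := (nat_lit 0x3ac74efed70df2e7ccf6f78bea864aee9609e2a6c8e6b687da4546de5505d265c4d67583ca0442ce1401c224c0c6348)
noncomputable def sl34s10 : ℕ := (nat_lit 0x2568ec646cdca760cce664bd2178ad607c9da3708de2747e2d486e6c4c5eaf404eee443f29582f685c1fab500fea54)
noncomputable def sl34s11 : ℕ := (nat_lit 0x12948ed684cddab40cdea44bc2d58ac6c5c9caf508cee547f21686f606c5fa3604fe2643e25782e647c1ea7700ee674)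
noncomputable def sl34s12 : ℕ := (nat_lit 0x1eb4cedaa48dd6944cd2840bcef5cacae589c6d548c2c507fe36c6fa2685f61644f20603ee77c2ea6781e65740e2470)
noncomputable def sl34s13 : ℕ := (nat_lit 0x22158ee605cdea350cee254bf2548af644c9fa7408fe6447c29786c687c5cab704cea743d2d682d6c6c1daf600dee64)
noncomputable def sl34s14 : ℕ := (nat_lit 0x6660ec2764dce468cca56cbd6270ad23749de0788da17c7e6e406e2f445eec484ead4c3f6a502f2b541fe8580fa95c)
noncomputable def sl34s15 : ℕ := (nat_lit 0x36e70ef2f74dfec78cfad7cbe6a60ae2b649ee8688ea96c7d66506d27545de4584da55c3c62402c23441ce0480ca14c)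
noncomputable def sl34s16 : ℕ := (nat_lit 0x3eb9e3baa9a2b69961b28920bdb5d379a5927595517185107cb1c338a1823491413081003badb2f79d71f38d30ef7cf)
noncomputable def sl34s17 : ℕ := (nat_lit 0x3ef7cec51831207e285761969148f42aa689cb30d3b4cf6d481ca26fc31c965544edbabb2392599c6de779eb7e02040)
noncomputable def sl34S : Tr ℕ := (.node (nat_lit 9) (.node (nat_lit 4) (.node (nat_lit 2) (.node (nat_lit 1) (.leaf sl34s0) (.leaf sl34s1)) (.node (nat_lit 3) (.leaf sl34s2) (.leaf sl34s3)))
 (.node (nat_lit 6) (.node (nat_lit 5) (.leaf sl34s4) (.leaf sl34s5)) (.node (nat_lit 7) (.leaf sl34s6) (.node (nat_lit 8) (.leaf sl34s7) (.leaf sl34s8)))))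
 (.node (nat_lit 13) (.node (nat_lit 11) (.node (nat_lit 10) (.leaf sl34s9) (.leaf sl34s10)) (.node (nat_lit 12) (.leaf sl34s11) (.leaf sl34s12)))
 (.node (nat_lit 15) (.node (nat_lit 14) (.leaf sl34s13) (.leaf sl34s14)) (.node (nat_lit 16) (.leaf sl34s15) (.node (nat_lit 17) (.leaf sl34s16) (.leaf sl34s17))))))
noncomputable def sl34D : Tr (List ℕ) := (.node (nat_lit 9) (.node (nat_lit 4) (.node (nat_lit 2) (.node (nat_lit 1) (.leaf []) (.leaf [])) (.node (nat_lit 3) (.leaf [nat_lit 0, nat_lit 0, nat_lit 0, nat_lit 0, nat_lit 0, nat_lit 0]) (.leaf [nat_lit 1, nat_lit 1, nat_lit 1])))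
 (.node (nat_lit 6) (.node (nat_lit 5) (.leaf [nat_lit 3, nat_lit 0, nat_lit 0, nat_lit 0, nat_lit 3, nat_lit 3]) (.leaf [nat_lit 1, nat_lit 1, nat_lit 2, nat_lit 2, nat_lit 2, nat_lit 1])) (.node (nat_lit 7) (.leaf [nat_lit 1, nat_lit 0, nat_lit 3, nat_lit 3, nat_lit 0, nat_lit 0]) (.node (nat_lit 8) (.leaf [nat_lit 2, nat_lit 2, nat_lit 1, nat_lit 1, nat_lit 2, nat_lit 3]) (.leaf [nat_lit 6, nat_lit 5, nat_lit 7, nat_lit 5, nat_lit 5, nat_lit 7, nat_lit 4, nat_lit 6, nat_lit 6, nat_lit 6, nat_lit 5, nat_lit 7, nat_lit 5, nat_lit 7, nat_lit 5])))))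
 (.node (nat_lit 13) (.node (nat_lit 11) (.node (nat_lit 10) (.leaf [nat_lit 6, nat_lit 4, nat_lit 4, nat_lit 7, nat_lit 7, nat_lit 5, nat_lit 5, nat_lit 6]) (.leaf [nat_lit 7, nat_lit 5, nat_lit 6, nat_lit 5, nat_lit 7, nat_lit 5, nat_lit 6, nat_lit 4, nat_lit 6, nat_lit 6])) (.node (nat_lit 12) (.leaf [nat_lit 4, nat_lit 6, nat_lit 4, nat_lit 7, nat_lit 4, nat_lit 6, nat_lit 6, nat_lit 6, nat_lit 6, nat_lit 5, nat_lit 7, nat_lit 4, nat_lit 6]) (.leaf [nat_lit 10, nat_lit 9, nat_lit 8])))
 (.node (nat_lit 15) (.node (nat_lit 14) (.leaf [nat_lit 9, nat_lit 8]) (.leaf [nat_lit 10, nat_lit 9])) (.node (nat_lit 16) (.leaf [nat_lit 11, nat_lit 10, nat_lit 8]) (.node (nat_lit 17) (.leaf [nat_lit 10, nat_lit 6, nat_lit 5, nat_lit 7, nat_lit 11, nat_lit 8]) (.leaf [nat_lit 9, nat_lit 8, nat_lit 2, nat_lit 10, nat_lit 6, nat_lit 5, nat_lit 7, nat_lit 11, nat_lit 10, nat_lit 8]))))))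
theorem sl34slp : slpChk 63 (nat_lit 6) (nat_lit 63) sl34S sl34D 2 16 = true := by decide +kernel
noncomputable def sl34V : Tr ℕ := (.node (nat_lit 31) (.node (nat_lit 15) (.node (nat_lit 7) (.node (nat_lit 3) (.node (nat_lit 1) (.leaf (nat_lit 1)) (.node (nat_lit 2) (.leaf (nat_lit 2)) (.leaf (nat_lit 3))))
 (.node (nat_lit 5) (.node (nat_lit 4) (.leaf (nat_lit 4)) (.leaf (nat_lit 5))) (.node (nat_lit 6) (.leaf (nat_lit 6)) (.leaf (nat_lit 7)))))
 (.node (nat_lit 11) (.node (nat_lit 9) (.node (nat_lit 8) (.leaf (nat_lit 8)) (.leaf (nat_lit 9))) (.node (nat_lit 10) (.leaf (nat_lit 10)) (.leaf (nat_lit 11))))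
 (.node (nat_lit 13) (.node (nat_lit 12) (.leaf (nat_lit 12)) (.leaf (nat_lit 13))) (.node (nat_lit 14) (.leaf (nat_lit 14)) (.leaf (nat_lit 15))))))
 (.node (nat_lit 23) (.node (nat_lit 19) (.node (nat_lit 17) (.node (nat_lit 16) (.leaf (nat_lit 16)) (.leaf (nat_lit 17))) (.node (nat_lit 18) (.leaf (nat_lit 18)) (.leaf (nat_lit 19))))
 (.node (nat_lit 21) (.node (nat_lit 20) (.leaf (nat_lit 20)) (.leaf (nat_lit 21))) (.node (nat_lit 22) (.leaf (nat_lit 22)) (.leaf (nat_lit 23)))))
 (.node (nat_lit 27) (.node (nat_lit 25) (.node (nat_lit 24) (.leaf (nat_lit 24)) (.leaf (nat_lit 25))) (.node (nat_lit 26) (.leaf (nat_lit 26)) (.leaf (nat_lit 27))))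
 (.node (nat_lit 29) (.node (nat_lit 28) (.leaf (nat_lit 28)) (.leaf (nat_lit 29))) (.node (nat_lit 30) (.leaf (nat_lit 30)) (.leaf (nat_lit 31)))))))
 (.node (nat_lit 47) (.node (nat_lit 39) (.node (nat_lit 35) (.node (nat_lit 33) (.node (nat_lit 32) (.leaf (nat_lit 32)) (.leaf (nat_lit 33))) (.node (nat_lit 34) (.leaf (nat_lit 34)) (.leaf (nat_lit 35))))
 (.node (nat_lit 37) (.node (nat_lit 36) (.leaf (nat_lit 36)) (.leaf (nat_lit 37))) (.node (nat_lit 38) (.leaf (nat_lit 38)) (.leaf (nat_lit 39)))))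
 (.node (nat_lit 43) (.node (nat_lit 41) (.node (nat_lit 40) (.leaf (nat_lit 40)) (.leaf (nat_lit 41))) (.node (nat_lit 42) (.leaf (nat_lit 42)) (.leaf (nat_lit 43))))
 (.node (nat_lit 45) (.node (nat_lit 44) (.leaf (nat_lit 44)) (.leaf (nat_lit 45))) (.node (nat_lit 46) (.leaf (nat_lit 46)) (.leaf (nat_lit 47))))))
 (.node (nat_lit 55) (.node (nat_lit 51) (.node (nat_lit 49) (.node (nat_lit 48) (.leaf (nat_lit 48)) (.leaf (nat_lit 49))) (.node (nat_lit 50) (.leaf (nat_lit 50)) (.leaf (nat_lit 51))))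
 (.node (nat_lit 53) (.node (nat_lit 52) (.leaf (nat_lit 52)) (.leaf (nat_lit 53))) (.node (nat_lit 54) (.leaf (nat_lit 54)) (.leaf (nat_lit 55)))))
 (.node (nat_lit 59) (.node (nat_lit 57) (.node (nat_lit 56) (.leaf (nat_lit 56)) (.leaf (nat_lit 57))) (.node (nat_lit 58) (.leaf (nat_lit 58)) (.leaf (nat_lit 59))))
 (.node (nat_lit 61) (.node (nat_lit 60) (.leaf (nat_lit 60)) (.leaf (nat_lit 61))) (.node (nat_lit 62) (.leaf (nat_lit 62)) (.leaf (nat_lit 63))))))))
theorem sl34pts : ptR C4 3 false sl34V 63 0 63 = true := by decide +kernel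
noncomputable def sl34M0 : Sp := [[(nat_lit 0, nat_lit 2), (nat_lit 1, nat_lit 2), (nat_lit 2, nat_lit 3)],
  [(nat_lit 0, nat_lit 1), (nat_lit 1, nat_lit 3), (nat_lit 2, nat_lit 2)],
  [(nat_lit 0, nat_lit 2), (nat_lit 1, nat_lit 1), (nat_lit 2, nat_lit 1)]]
noncomputable def sl34M1 : Sp := [[(nat_lit 0, nat_lit 1), (nat_lit 1, nat_lit 3), (nat_lit 2, nat_lit 3)],
  [(nat_lit 2, nat_lit 3)],
  [(nat_lit 1, nat_lit 2)]]
noncomputable def sl34MT : Tr Sp := (.node (nat_lit 1) (.leaf sl34M0) (.leaf sl34M1))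
noncomputable def sl34SC : Tr ℕ := (.node (nat_lit 1) (.leaf (nat_lit 0x15555555555555555555555555555555)) (.leaf (nat_lit 0x15555555555555555555555555555555)))
theorem sl34act : ActAll C4 3 false sl34V 63 (nat_lit 6) (nat_lit 63) sl34MT sl34S sl34SC 2 := actAll_of (by decide +kernel)
noncomputable def sl34OT : Tr ℕ := (.node (nat_lit 1) (.leaf (nat_lit 7)) (.leaf (nat_lit 4)))
theorem sl34pw : (allB 2 fun j => band (powChk C4 3 (sl34MT.get j) (sl34OT.get j)) (band (Nat.ble 1 (sl34OT.get j)) (Nat.beq (Nat.gcd (sl34OT.get j) (4 - 1)) 1))) = true := by decide +kernel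
theorem sl34h2 : band (selChk sl34T sl34S (2 + 16)) (band (tchainChk 63 (nat_lit 6) (nat_lit 63) sl34T sl34L) (band (Nat.ble 2 4) (Nat.ble (glo 4 3) ((4 - 1) * chainOrd 63 sl34L)))) = true := by decide +kernel
theorem sl34ch {F : Type*} [Field F] [Fintype F] {φ : ℕ → F} (h : FM C4 φ) (hF : Fintype.card F = 4) :
    Ch (Matrix.SpecialLinearGroup (Fin 3) F) 63 (nat_lit 6) (nat_lit 63) (ptL (τSL (Fin 3) F) C4 φ Fin.val false sl34V) sl34T sl34L :=
  h.chSL hF sl34pts sl34act sl34pw sl34slp sl34h2
theorem sl34lev0 : levChk 63 (nat_lit 6) (nat_lit 63) sl34T sl34R sl34L0 sl34L1.N = true := by decide +kernel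
theorem sl34lev1 : levChk 63 (nat_lit 6) (nat_lit 63) sl34T sl34R sl34L1 sl34L2.N = true := by decide +kernel
theorem sl34lev2 : levChk 63 (nat_lit 6) (nat_lit 63) sl34T sl34R sl34L2 0 = true := by decide +kernel
theorem sl34chain : Chain 63 (nat_lit 6) (nat_lit 63) sl34T sl34R sl34L := chain_cons sl34lev0 <| chain_cons sl34lev1 <| chain_one sl34lev2
theorem sl34sd : band (sl34R.all fun w => eqB (sl34L.map Lev.b) (apL (nat_lit 6) (nat_lit 63) sl34T w) fun a => a) (Nat.ble (chainOrd 63 sl34L) (chainOrd 63 sl34L)) = true := by decide +kernel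
theorem sl34std {F : Type*} [Field F] [Fintype F] {φ : ℕ → F} (h : FM C4 φ) (hF : Fintype.card F = 4) :
    Std (Matrix.SpecialLinearGroup (Fin 3) F) 63 (nat_lit 6) (nat_lit 63) (ptL (τSL (Fin 3) F) C4 φ Fin.val false sl34V) sl34T sl34R sl34L :=
  have C := sl34ch h hF
  (C.std C.lets sl34chain sl34sd)
noncomputable def gl22t0 : ℕ := (nat_lit 0x6)
noncomputable def gl22t1 : ℕ := (nat_lit 0x21)
noncomputable def gl22T : Tr ℕ := (.node (nat_lit 1) (.leaf gl22t0) (.leaf gl22t1))
noncomputable def gl22R : Tr (List ℕ) := (.node (nat_lit 1) (.leaf [nat_lit 0, nat_lit 0]) (.node (nat_lit 2) (.leaf [nat_lit 1, nat_lit 1]) (.leaf [nat_lit 1, nat_lit 0, nat_lit 1, nat_lit 0, nat_lit 1, nat_lit 0])))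
noncomputable def gl22L0 : Lev := ⟨(nat_lit 1), (nat_lit 2), (nat_lit 0x10002), (nat_lit 0x20001),
 (.node (nat_lit 1) (.leaf (nat_lit 0x1))
 (.leaf (nat_lit 0x200010000))),
 (.node (nat_lit 1) (.leaf (nat_lit 0x1))
 (.leaf (nat_lit 0x204000100000000)))⟩
noncomputable def gl22L1 : Lev := ⟨(nat_lit 0), (nat_lit 1), (nat_lit 0x10000), (nat_lit 0x10000),
 (.leaf (nat_lit 0x1)),
 (.leaf (nat_lit 0x1))⟩
noncomputable def gl22L : List Lev := [gl22L0, gl22L1]
noncomputable def gl22s0 : ℕ := (nat_lit 0x9)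
noncomputable def gl22s1 : ℕ := (nat_lit 0x21)
noncomputable def gl22s2 : ℕ := (nat_lit 0x12)
noncomputable def gl22s3 : ℕ := (nat_lit 0x6)
noncomputable def gl22S : Tr ℕ := (.node (nat_lit 2) (.node (nat_lit 1) (.leaf gl22s0) (.leaf gl22s1)) (.node (nat_lit 3) (.leaf gl22s2) (.leaf gl22s3)))
noncomputable def gl22D : Tr (List ℕ) := (.node (nat_lit 2) (.node (nat_lit 1) (.leaf []) (.leaf [])) (.node (nat_lit 3) (.leaf [nat_lit 0, nat_lit 0]) (.leaf [nat_lit 2, nat_lit 2, nat_lit 1])))
theorem gl22slp : slpChk 3 (nat_lit 2) (nat_lit 3) gl22S gl22D 2 2 = true := by decide +kernel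
noncomputable def gl22V : Tr ℕ := (.node (nat_lit 1) (.leaf (nat_lit 1)) (.node (nat_lit 2) (.leaf (nat_lit 2)) (.leaf (nat_lit 3))))
theorem gl22pts : ptR C2 2 false gl22V 3 0 3 = true := by decide +kernel
noncomputable def gl22M0 : Sp := [[(nat_lit 1, nat_lit 1)],
  [(nat_lit 0, nat_lit 1), (nat_lit 1, nat_lit 1)]]
noncomputable def gl22M1 : Sp := [[(nat_lit 1, nat_lit 1)],
  [(nat_lit 0, nat_lit 1)]]
noncomputable def gl22MT : Tr Sp := (.node (nat_lit 1) (.leaf gl22M0) (.leaf gl22M1))
noncomputable def gl22SC : Tr ℕ := (.node (nat_lit 1) (.leaf (nat_lit 7)) (.leaf (nat_lit 7)))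
theorem gl22act : ActAll C2 2 false gl22V 3 (nat_lit 2) (nat_lit 3) gl22MT gl22S gl22SC 2 := actAll_of (by decide +kernel)
noncomputable def gl22OT : Tr ℕ := (.node (nat_lit 1) (.leaf (nat_lit 3)) (.leaf (nat_lit 2)))
theorem gl22pw : (allB 2 fun j => band (powChk C2 2 (gl22MT.get j) (gl22OT.get j)) (Nat.ble 1 (gl22OT.get j))) = true := by decide +kernel
theorem gl22h2 : band (selChk gl22T gl22S (2 + 2)) (band (tchainChk 3 (nat_lit 2) (nat_lit 3) gl22T gl22L) (Nat.ble (glo 2 2) (chainOrd 3 gl22L))) = true := by decide +kernel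
theorem gl22ch {F : Type*} [Field F] [Fintype F] {φ : ℕ → F} (h : FM C2 φ) (hF : Fintype.card F = 2) :
    Ch (GL (Fin 2) F) 3 (nat_lit 2) (nat_lit 3) (ptL (τG (Fin 2) F) C2 φ Fin.val false gl22V) gl22T gl22L :=
  h.chGL (ix_fin 2) hF gl22pts gl22act gl22pw gl22slp gl22h2
theorem gl22lev0 : levChk 3 (nat_lit 2) (nat_lit 3) gl22T gl22R gl22L0 gl22L1.N = true := by decide +kernel
theorem gl22lev1 : levChk 3 (nat_lit 2) (nat_lit 3) gl22T gl22R gl22L1 0 = true := by decide +kernel
theorem gl22chain : Chain 3 (nat_lit 2) (nat_lit 3) gl22T gl22R gl22L := chain_cons gl22lev0 <| chain_one gl22lev1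
theorem gl22sd : band (gl22R.all fun w => eqB (gl22L.map Lev.b) (apL (nat_lit 2) (nat_lit 3) gl22T w) fun a => a) (Nat.ble (chainOrd 3 gl22L) (chainOrd 3 gl22L)) = true := by decide +kernel
theorem gl22std {F : Type*} [Field F] [Fintype F] {φ : ℕ → F} (h : FM C2 φ) (hF : Fintype.card F = 2) :
    Std (GL (Fin 2) F) 3 (nat_lit 2) (nat_lit 3) (ptL (τG (Fin 2) F) C2 φ Fin.val false gl22V) gl22T gl22R gl22L :=
  have C := gl22ch h hF
  (C.std C.lets gl22chain gl22sd)
noncomputable def q8t0 : ℕ := (nat_lit 0x443d67)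
noncomputable def q8t1 : ℕ := (nat_lit 0xd19f5)
noncomputable def q8t2 : ℕ := (nat_lit 0x9f5443)
noncomputable def q8t3 : ℕ := (nat_lit 0xd670d1)
noncomputable def q8T : Tr ℕ := (.node (nat_lit 2) (.node (nat_lit 1) (.leaf q8t0) (.leaf q8t1)) (.node (nat_lit 3) (.leaf q8t2) (.leaf q8t3)))
noncomputable def q8R : Tr (List ℕ) := (.node (nat_lit 2) (.node (nat_lit 1) (.leaf [nat_lit 0, nat_lit 1]) (.leaf [nat_lit 0, nat_lit 2, nat_lit 0, nat_lit 3])) (.node (nat_lit 3) (.leaf [nat_lit 0, nat_lit 0, nat_lit 0, nat_lit 0]) (.node (nat_lit 4) (.leaf [nat_lit 0, nat_lit 0, nat_lit 2, nat_lit 2]) (.leaf [nat_lit 2, nat_lit 3]))))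
noncomputable def q8L0 : Lev := ⟨(nat_lit 0), (nat_lit 4), (nat_lit 0x204010304010300), (nat_lit 0x102010201020100),
 (.node (nat_lit 2) (.node (nat_lit 1) (.leaf (nat_lit 0x20003000000040005000000020001))
 (.leaf (nat_lit 0x6000100030005000300040001)))
 (.node (nat_lit 3) (.leaf (nat_lit 0x20003000100000002000300000001))
 (.leaf (nat_lit 0x40000000100030000000300040001)))),
 (.node (nat_lit 2) (.node (nat_lit 1) (.leaf (nat_lit 0x202000301000000000300000201000000000102000000))
 (.leaf (nat_lit 0x1000001000001000001000001000001000001)))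
 (.node (nat_lit 3) (.leaf (nat_lit 0x303000302000400000000000302000303000000000400))
 (.leaf (nat_lit 0x401000000000401000401000000000401000401000401))))⟩
noncomputable def q8L : List Lev := [q8L0]
def q8pt (a : ℕ) : (QuaternionGroup 2) := if a < 4 then .a a else .xa (a - 4 : ℕ)
noncomputable def q8I : Tr ℕ := (.node (nat_lit 2) (.node (nat_lit 1) (.leaf (nat_lit 7)) (.leaf (nat_lit 5))) (.node (nat_lit 3) (.leaf (nat_lit 3)) (.leaf (nat_lit 1))))
theorem q8ch : Ch (QuaternionGroup 2) 8 (nat_lit 3) (nat_lit 7) q8pt q8T q8L :=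
  ⟨lets_lt (N := 4) (fun j hj => ⟨q8pt (q8I.get j), by revert j; unfold Rep RepF; decide +kernel⟩) (by decide +kernel), by decide +kernel,
    by decide +kernel, by rw [Nat.card_eq_fintype_card, QuaternionGroup.card]; decide +kernel⟩
theorem q8lev0 : levChk 8 (nat_lit 3) (nat_lit 7) q8T q8R q8L0 0 = true := by decide +kernel
theorem q8chain : Chain 8 (nat_lit 3) (nat_lit 7) q8T q8R q8L := chain_one q8lev0
theorem q8sd : band (q8R.all fun w => eqB (q8L.map Lev.b) (apL (nat_lit 3) (nat_lit 7) q8T w) fun a => a) (Nat.ble (chainOrd 8 q8L) (chainOrd 8 q8L)) = true := by decide +kernel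
theorem q8std : Std (QuaternionGroup 2) 8 (nat_lit 3) (nat_lit 7) q8pt q8T q8R q8L := (q8ch.std q8ch.lets q8chain q8sd)
noncomputable def d8t0 : ℕ := (nat_lit 0xd670d1)
noncomputable def d8t1 : ℕ := (nat_lit 0x9f5443)
noncomputable def d8t2 : ℕ := (nat_lit 0x4439f5)
noncomputable def d8T : Tr ℕ := (.node (nat_lit 1) (.leaf d8t0) (.node (nat_lit 2) (.leaf d8t1) (.leaf d8t2)))
noncomputable def d8R : Tr (List ℕ) := (.node (nat_lit 2) (.node (nat_lit 1) (.leaf [nat_lit 0, nat_lit 1]) (.leaf [nat_lit 0, nat_lit 0, nat_lit 0, nat_lit 0])) (.node (nat_lit 3) (.leaf [nat_lit 0, nat_lit 2, nat_lit 0, nat_lit 2]) (.leaf [nat_lit 2, nat_lit 2])))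
noncomputable def d8L0 : Lev := ⟨(nat_lit 0), (nat_lit 3), (nat_lit 0x303030301010200), (nat_lit 0x302010201020100),
 (.node (nat_lit 1) (.leaf (nat_lit 0x30002000200020000000000020001))
 (.node (nat_lit 2) (.leaf (nat_lit 0x30004000300030001000300000001))
 (.leaf (nat_lit 0x1000100010001)))),
 (.node (nat_lit 1) (.leaf (nat_lit 0x202000202000202000202000000000000000102000000))
 (.node (nat_lit 2) (.leaf (nat_lit 0x1000001000001000001000001000001000000000001))
 (.leaf (nat_lit 0x301000301000301000301))))⟩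
noncomputable def d8L : List Lev := [d8L0]
def d8pt (a : ℕ) : (DihedralGroup 4) := if a < 4 then .r a else .sr (a - 4 : ℕ)
noncomputable def d8I : Tr ℕ := (.node (nat_lit 1) (.leaf (nat_lit 1)) (.node (nat_lit 2) (.leaf (nat_lit 3)) (.leaf (nat_lit 5))))
theorem d8ch : Ch (DihedralGroup 4) 8 (nat_lit 3) (nat_lit 7) d8pt d8T d8L :=
  ⟨lets_lt (N := 3) (fun j hj => ⟨d8pt (d8I.get j), by revert j; unfold Rep RepF; decide +kernel⟩) (by decide +kernel), by decide +kernel,
    by decide +kernel, by rw [DihedralGroup.nat_card]; decide +kernel⟩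
theorem d8lev0 : levChk 8 (nat_lit 3) (nat_lit 7) d8T d8R d8L0 0 = true := by decide +kernel
theorem d8chain : Chain 8 (nat_lit 3) (nat_lit 7) d8T d8R d8L := chain_one d8lev0
theorem d8sd : band (d8R.all fun w => eqB (d8L.map Lev.b) (apL (nat_lit 3) (nat_lit 7) d8T w) fun a => a) (Nat.ble (chainOrd 8 d8L) (chainOrd 8 d8L)) = true := by decide +kernel
theorem d8std : Std (DihedralGroup 4) 8 (nat_lit 3) (nat_lit 7) d8pt d8T d8R d8L := (d8ch.std d8ch.lets d8chain d8sd)

end H8.MG
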