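import Cfsg.Agent.H8.GK
import Cfsg.Agent.H8.MG
import Cfsg.Agent.H8.GL211
import Cfsg.Agent.H8.Alt

/-! H8.GF: stabilisers in M24: dodecads (generated certificate) -/

set_option autoImplicit false
set_option maxRecDepth 200000

set_option linter.all false
open Subgroup Cfsg

namespace H8.GF

noncomputable def m0t0 : ℕ := (nat_lit 0xbd17661a2a23933ac1a7448af18820)
noncomputable def m0t1 : ℕ := (nat_lit 0xbcc8cb2a265b8f47c9096c0b518820)
noncomputable def m0t2 : ℕ := (nat_lit 0xbae957b6289ba44b1cd0524ac18820)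
noncomputable def m0t3 : ℕ := (nat_lit 0xba1474922b3398d85676a3cb218820)
noncomputable def m0t4 : ℕ := (nat_lit 0x735f0b22eb4c664a32a63c8aa18820)
noncomputable def m0t5 : ℕ := (nat_lit 0x8cd2b699d4adeca811f23a0ac18820)
noncomputable def m0t6 : ℕ := (nat_lit 0x316b43c96c225b08a1ca9decf18820)
noncomputable def m0t7 : ℕ := (nat_lit 0x4da549d62b5206c83eee290e668820)
noncomputable def m0t8 : ℕ := (nat_lit 0xa0ab723e119398d594c83a5531d820)
noncomputable def m0t9 : ℕ := (nat_lit 0xb92b49c8a35b5cc7a12a08a36818e0)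
noncomputable def m0t10 : ℕ := (nat_lit 0x34e54b546173d8d029283dca488a0b)
noncomputable def m0T : Tr ℕ := (.node (nat_lit 5) (.node (nat_lit 2) (.node (nat_lit 1) (.leaf m0t0) (.leaf m0t1)) (.node (nat_lit 3) (.leaf m0t2) (.node (nat_lit 4) (.leaf m0t3) (.leaf m0t4))))
 (.node (nat_lit 8) (.node (nat_lit 6) (.leaf m0t5) (.node (nat_lit 7) (.leaf m0t6) (.leaf m0t7))) (.node (nat_lit 9) (.leaf m0t8) (.node (nat_lit 10) (.leaf m0t9) (.leaf m0t10)))))
noncomputable def m0L0 : Lev := ⟨(nat_lit 0), (nat_lit 11), (nat_lit 0x903010603080704020b06070b040504040407020a090b00), (nat_lit 0x30202020303020202030303010303030303030303030300),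
 (.leaf 0),
 (.leaf 0)⟩
noncomputable def m0L1 : Lev := ⟨(nat_lit 1), (nat_lit 10), (nat_lit 0x904040407050a0308080204050302010a06080508090000), (nat_lit 0x30303020203030303030203030203020103020303040000),
 (.leaf 0),
 (.leaf 0)⟩
noncomputable def m0L2 : Lev := ⟨(nat_lit 2), (nat_lit 9), (nat_lit 0x90903010205070603080602030704040406070908000000), (nat_lit 0x30103020203030303030203020303020303020303000000),
 (.leaf 0),
 (.leaf 0)⟩
noncomputable def m0L3 : Lev := ⟨(nat_lit 3), (nat_lit 8), (nat_lit 0x80506040603060705070804030301020203080400000000), (nat_lit 0x30203030202040303030102030302030203030300000000),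
 (.leaf 0),
 (.leaf 0)⟩
noncomputable def m0L4 : Lev := ⟨(nat_lit 5), (nat_lit 7), (nat_lit 0x60703010205070603070602030704040406000300000000), (nat_lit 0x40103020203030303040203020303020303000400000000),
 (.leaf 0),
 (.leaf 0)⟩
noncomputable def m0L5 : Lev := ⟨(nat_lit 14), (nat_lit 6), (nat_lit 0x50000000000060000000000000000000000000000000000), (nat_lit 0x10000000000010000000000000000000000000000000000),
 (.leaf 0),
 (.leaf 0)⟩
noncomputable def m0L6 : Lev := ⟨(nat_lit 4), (nat_lit 4), (nat_lit 0x302030304000401000403020404040404000000000000), (nat_lit 0x301020201000301000201020203040302000000000000),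
 (.leaf 0),
 (.leaf 0)⟩
noncomputable def m0L : List Lev := [m0L0, m0L1, m0L2, m0L3, m0L4, m0L5, m0L6]
theorem m0c : band (m0T.all fun c => m24Chk (ap 5 31 c)) (band (tchainChk 24 5 31 m0T m0L) (Nat.ble 244823040 (chainOrd 24 m0L))) = true := by decide +kernel
noncomputable def d00t0 : ℕ := (nat_lit 0xbae957b6289ba44b1cd0524ac18820)
noncomputable def d00t1 : ℕ := (nat_lit 0x752cb3a4a455cd0acdac7ca2818820)
noncomputable def d00t2 : ℕ := (nat_lit 0x75576518ac3dd28a3e449b63018820)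
noncomputable def d00t3 : ℕ := (nat_lit 0x2bd47b11c65c5929d209aa2ed18820)
noncomputable def d00t4 : ℕ := (nat_lit 0x2ccea5b1c9b448d7d506a42f218820)
noncomputable def d00t5 : ℕ := (nat_lit 0x5da952c9467b868bc48c3c26968820)
noncomputable def d00t6 : ℕ := (nat_lit 0xb9cb3a09507b9285c5acb1aa324820)
noncomputable def d00t7 : ℕ := (nat_lit 0xbdab3a31d03c4322a92379962411a0)
noncomputable def d00t8 : ℕ := (nat_lit 0x3da34542b273c8c5cc08b98ad08869)
noncomputable def d00T : Tr ℕ := (.node (nat_lit 4) (.node (nat_lit 2) (.node (nat_lit 1) (.leaf d00t0) (.leaf d00t1)) (.node (nat_lit 3) (.leaf d00t2) (.leaf d00t3)))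
 (.node (nat_lit 6) (.node (nat_lit 5) (.leaf d00t4) (.leaf d00t5)) (.node (nat_lit 7) (.leaf d00t6) (.node (nat_lit 8) (.leaf d00t7) (.leaf d00t8)))))
noncomputable def d00L0 : Lev := ⟨(nat_lit 0), (nat_lit 9), (nat_lit 0x2000500000304000009040001000606070800), (nat_lit 0x2000200000203000001020002000203030300),
 (.leaf 0),
 (.leaf 0)⟩
noncomputable def d00L1 : Lev := ⟨(nat_lit 1), (nat_lit 8), (nat_lit 0x1000500000805000002040003000406070000), (nat_lit 0x2000300000102000002030002000202030000),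
 (.leaf 0),
 (.leaf 0)⟩
noncomputable def d00L2 : Lev := ⟨(nat_lit 2), (nat_lit 7), (nat_lit 0x7000400000104000003050002000506000000), (nat_lit 0x1000300000202000002030002000203000000),
 (.leaf 0),
 (.leaf 0)⟩
noncomputable def d00L3 : Lev := ⟨(nat_lit 3), (nat_lit 6), (nat_lit 0x1000500000605000002040003000400000000), (nat_lit 0x2000300000102000002030002000200000000),
 (.leaf 0),
 (.leaf 0)⟩
noncomputable def d00L4 : Lev := ⟨(nat_lit 5), (nat_lit 5), (nat_lit 0x40000000000020000040000000000000000000000000000), (nat_lit 0x10000000000010000020000000000000000000000000000),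
 (.leaf 0),
 (.leaf 0)⟩
noncomputable def d00L5 : Lev := ⟨(nat_lit 14), (nat_lit 1), (nat_lit 0x0), (nat_lit 0x0),
 (.leaf 0),
 (.leaf 0)⟩
noncomputable def d00L6 : Lev := ⟨(nat_lit 4), (nat_lit 1), (nat_lit 0x1000000000000000000000000), (nat_lit 0x1000000000000000000000000),
 (.leaf 0),
 (.leaf 0)⟩
noncomputable def d00L : List Lev := [d00L0, d00L1, d00L2, d00L3, d00L4, d00L5, d00L6]
theorem d00e : smC [] [340831] [] d00T = true := by decide +kernel
noncomputable def d00J : List Pr := [prSM 24 (allM [] [340831]) []]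
noncomputable def d00F0 : ℕ × ℕ := ((nat_lit 0xffffffffff00ff00ffff0000ffff0000ff00ff0000000000), (nat_lit 0))
theorem d00b0 : allR 0 24 (ptB 24 (nat_lit 5) (nat_lit 31) m0T d00T d00J m0L0 [m0L1, m0L2, m0L3, m0L4, m0L5, m0L6] d00L0 (dg []) d00F0.1 d00F0.2) = true := by decide +kernel
noncomputable def d00F1 : ℕ × ℕ := ((nat_lit 0xffffffffff00ff00ffff0000ffff0000ff00ff0000000000), (nat_lit 0))
theorem d00b1 : allR 0 24 (ptB 24 (nat_lit 5) (nat_lit 31) m0T d00T d00J m0L1 [m0L2, m0L3, m0L4, m0L5, m0L6] d00L1 (dg [m0L0.b]) d00F1.1 d00F1.2) = true := by decide +kernel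
noncomputable def d00F2 : ℕ × ℕ := ((nat_lit 0xffffffffff00ff00ffff0000ffff0000ff00ff0000000000), (nat_lit 0))
theorem d00b2 : allR 0 24 (ptB 24 (nat_lit 5) (nat_lit 31) m0T d00T d00J m0L2 [m0L3, m0L4, m0L5, m0L6] d00L2 (dg [m0L1.b, m0L0.b]) d00F2.1 d00F2.2) = true := by decide +kernel
noncomputable def d00F3 : ℕ × ℕ := ((nat_lit 0xffffffffff00ff00ffff0000ffff0000ff00ff0000000000), (nat_lit 0))
theorem d00b3 : allR 0 24 (ptB 24 (nat_lit 5) (nat_lit 31) m0T d00T d00J m0L3 [m0L4, m0L5, m0L6] d00L3 (dg [m0L2.b, m0L1.b, m0L0.b]) d00F3.1 d00F3.2) = true := by decide +kernel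
noncomputable def d00F4 : ℕ × ℕ := ((nat_lit 0x20104ff00ff0300ffffff03ffff04ff00ff00000000), (nat_lit 0x101010100000001000000000200000200000000000000))
theorem d00b4 : allR 0 24 (ptB 24 (nat_lit 5) (nat_lit 31) m0T d00T d00J m0L4 [m0L5, m0L6] d00L4 (dg [m0L3.b, m0L2.b, m0L1.b, m0L0.b]) d00F4.1 d00F4.2) = true := by decide +kernel
noncomputable def d00F5 : ℕ × ℕ := ((nat_lit 0xff0000000000ff0000000000000000000000000000000000), (nat_lit 0))
theorem d00b5 : allR 0 24 (ptB 24 (nat_lit 5) (nat_lit 31) m0T d00T d00J m0L5 [m0L6] d00L5 (dg [m0L4.b, m0L3.b, m0L2.b, m0L1.b, m0L0.b]) d00F5.1 d00F5.2) = true := by decide +kernel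
noncomputable def d00F6 : ℕ × ℕ := ((nat_lit 0xffffffffff00ffff00ff00ffffffffffff000000000000), (nat_lit 0))
theorem d00b6 : allR 0 24 (ptB 24 (nat_lit 5) (nat_lit 31) m0T d00T d00J m0L6 [] d00L6 (dg [m0L5.b, m0L4.b, m0L3.b, m0L2.b, m0L1.b, m0L0.b]) d00F6.1 d00F6.2) = true := by decide +kernel
theorem d00bk : Bk 24 (nat_lit 5) (nat_lit 31) m0T d00T d00J m0L d00L [d00F0, d00F1, d00F2, d00F3, d00F4, d00F5, d00F6] [] :=
  ⟨rfl, d00b0, rfl, d00b1, rfl, d00b2, rfl, d00b3, rfl, d00b4, rfl, d00b5, rfl, d00b6, trivial⟩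
theorem d00tc : tchainChk 24 (nat_lit 5) (nat_lit 31) d00T d00L = true := by decide +kernel
noncomputable def d0t0 : ℕ := (nat_lit 0x752cb3a4a455cd0acdac7ca2818820)
noncomputable def d0t1 : ℕ := (nat_lit 0x75576518ac3dd28a3e449b63018820)
noncomputable def d0t2 : ℕ := (nat_lit 0x2bd47b11c65c5929d209aa2ed18820)
noncomputable def d0t3 : ℕ := (nat_lit 0x2ccea5b1c9b448d7d506a42f218820)
noncomputable def d0t4 : ℕ := (nat_lit 0xbadd4290ec7d510b292d88e7230820)
noncomputable def d0t5 : ℕ := (nat_lit 0x8d8ae9b6e37d2493a98259aa482020)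
noncomputable def d0t6 : ℕ := (nat_lit 0xa2eb78a26c7b890b2832298ed18920)
noncomputable def d0t7 : ℕ := (nat_lit 0x75a259b6a43de4c5a80878a9019829)
noncomputable def d0T : Tr ℕ := (.node (nat_lit 4) (.node (nat_lit 2) (.node (nat_lit 1) (.leaf d0t0) (.leaf d0t1)) (.node (nat_lit 3) (.leaf d0t2) (.leaf d0t3)))
 (.node (nat_lit 6) (.node (nat_lit 5) (.leaf d0t4) (.leaf d0t5)) (.node (nat_lit 7) (.leaf d0t6) (.leaf d0t7))))
noncomputable def d0L0 : Lev := ⟨(nat_lit 0), (nat_lit 8), (nat_lit 0x1000400000206000008030001000406060700), (nat_lit 0x2000200000202000001020003000303030200),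
 (.leaf 0),
 (.leaf 0)⟩
noncomputable def d0L1 : Lev := ⟨(nat_lit 1), (nat_lit 7), (nat_lit 0x1000400000206000007030001000406060000), (nat_lit 0x2000200000202000001020003000303030000),
 (.leaf 0),
 (.leaf 0)⟩
noncomputable def d0L2 : Lev := ⟨(nat_lit 2), (nat_lit 6), (nat_lit 0x3000100000502000004060003000105000000), (nat_lit 0x3000300000202000002010002000203000000),
 (.leaf 0),
 (.leaf 0)⟩
noncomputable def d0L3 : Lev := ⟨(nat_lit 3), (nat_lit 5), (nat_lit 0x2000300000104000001040005000300000000), (nat_lit 0x2000200000203000003020001000300000000),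
 (.leaf 0),
 (.leaf 0)⟩
noncomputable def d0L4 : Lev := ⟨(nat_lit 4), (nat_lit 4), (nat_lit 0x3000100000401000003020004000000000000), (nat_lit 0x1000100000102000002010002000000000000),
 (.leaf 0),
 (.leaf 0)⟩
noncomputable def d0L : List Lev := [d0L0, d0L1, d0L2, d0L3, d0L4]
theorem d0e : smC [] [340831] [] d0T = true := by decide +kernel
theorem d0tc : tchainChk 24 (nat_lit 5) (nat_lit 31) d0T d0L = true := by decide +kernel
theorem d0c : band (tchainChk 24 (nat_lit 5) (nat_lit 31) d0T d0L) (Nat.ble (chainOrd 24 d00L) (chainOrd 24 d0L)) = true := by decide +kernel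
theorem d0ch {C : H7.Coding GolayPt} (hC : GC C) : Ch (SM M24 C [] [340831] []) 24 5 31 C.dec d0T d0L :=
  ((hC.chSM (hC.ch m0c) d00e d00tc d00bk).ch (hC.sm d0e) d0c)
theorem d0card {C : H7.Coding GolayPt} (hC : GC C) : Nat.card (SM M24 C [] [340831] []) = 95040 := (d0ch hC).card.trans (by decide +kernel)
theorem d0m : mvChk 24 ([0, 1, 2, 3, 4].map fun b => (340831, b)) d0L [] = true := by decide +kernel
theorem d0p1 : band (tchainChk 24 5 31 d0T d0L) (band (allL [(340831, 0)] fun D => memL [340831] D.1) (mvChk 24 [(340831, 0)] d0L [])) = true := by decide +kernel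
theorem d0p3 : band (tchainChk 24 5 31 d0T d0L) (band (allL [(340831, 0), (340831, 1), (340831, 2)] fun D => memL [340831] D.1) (mvChk 24 [(340831, 0), (340831, 1), (340831, 2)] d0L [])) = true := by decide +kernel
noncomputable def dqt0 : ℕ := (nat_lit 0x8adf3a22edaba04b2932398ac10c20)
noncomputable def dqt1 : ℕ := (nat_lit 0x9da2fbcab0a2d21729a63a0a410d80)
noncomputable def dqt2 : ℕ := (nat_lit 0x7d2b6989d0bc58d52d2838ca134880)
noncomputable def dqt3 : ℕ := (nat_lit 0x75a953ca2c55db05bcc49a4a808860)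
noncomputable def dqt4 : ℕ := (nat_lit 0x3aea59c23273c88b292cb8a8d19820)
noncomputable def dqt5 : ℕ := (nat_lit 0x72cef88e66a5c22b1480ac149931a8)
noncomputable def dqT : Tr ℕ := (.node (nat_lit 3) (.node (nat_lit 1) (.leaf dqt0) (.node (nat_lit 2) (.leaf dqt1) (.leaf dqt2))) (.node (nat_lit 4) (.leaf dqt3) (.node (nat_lit 5) (.leaf dqt4) (.leaf dqt5))))
noncomputable def dqL0 : Lev := ⟨(nat_lit 0), (nat_lit 6), (nat_lit 0x1000500000505000004060002000406030300), (nat_lit 0x2000300000302000003010002000203030300),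
 (.leaf 0),
 (.leaf 0)⟩
noncomputable def dqL1 : Lev := ⟨(nat_lit 5), (nat_lit 5), (nat_lit 0x20304050100020002050000010400000400000000000000), (nat_lit 0x30202010200030002030000030300000300000000000000),
 (.leaf 0),
 (.leaf 0)⟩
noncomputable def dqL2 : Lev := ⟨(nat_lit 7), (nat_lit 4), (nat_lit 0x20304010400010002040000010400000000000000000000), (nat_lit 0x20303020100030003030000040400000000000000000000),
 (.leaf 0),
 (.leaf 0)⟩
noncomputable def dqL3 : Lev := ⟨(nat_lit 10), (nat_lit 3), (nat_lit 0x10102030100030002020000030000000000000000000000), (nat_lit 0x40204030400030004020000010000000000000000000000),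
 (.leaf 0),
 (.leaf 0)⟩
noncomputable def dqL4 : Lev := ⟨(nat_lit 1), (nat_lit 2), (nat_lit 0x2000000000000000100000000), (nat_lit 0x1000000000000000200000000),
 (.leaf 0),
 (.leaf 0)⟩
noncomputable def dqL5 : Lev := ⟨(nat_lit 2), (nat_lit 1), (nat_lit 0x1000000), (nat_lit 0x1000000),
 (.leaf 0),
 (.leaf 0)⟩
noncomputable def dqL : List Lev := [dqL0, dqL1, dqL2, dqL3, dqL4, dqL5]
theorem dqe : smC [] [340831, 16436384] [] dqT = true := by decide +kernel
theorem dqp1 : band (tchainChk 24 5 31 dqT dqL) (band (allL [(340831, 0), (16436384, 5)] fun D => memL [340831, 16436384] D.1) (mvChk 24 [(340831, 0), (16436384, 5)] dqL [])) = true := by decide +kernel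
theorem dqp2 : band (tchainChk 24 5 31 dqT dqL) (band (allL [(340831, 0), (16436384, 5), (16436384, 7)] fun D => memL [340831, 16436384] D.1) (mvChk 24 [(340831, 0), (16436384, 5), (16436384, 7)] dqL [])) = true := by decide +kernel
theorem dqp3 : band (tchainChk 24 5 31 dqT dqL) (band (allL [(340831, 0), (16436384, 5), (16436384, 7), (16436384, 10)] fun D => memL [340831, 16436384] D.1) (mvChk 24 [(340831, 0), (16436384, 5), (16436384, 7), (16436384, 10)] dqL [])) = true := by decide +kernel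
noncomputable def q1W : Tr (List ℕ) := (.node (nat_lit 8768) (.node (nat_lit 832) (.node (nat_lit 274) (.node (nat_lit 73) (.node (nat_lit 22) (.node (nat_lit 14) (.node (nat_lit 11) (.leaf []) (.node (nat_lit 13) (.leaf [nat_lit 4, nat_lit 3, nat_lit 5]) (.leaf [nat_lit 4, nat_lit 0, nat_lit 0, nat_lit 6]))) (.node (nat_lit 19) (.leaf [nat_lit 5, nat_lit 2, nat_lit 7]) (.node (nat_lit 21) (.leaf [nat_lit 1, nat_lit 5]) (.leaf [nat_lit 3, nat_lit 0, nat_lit 6]))))
 (.node (nat_lit 28) (.node (nat_lit 25) (.leaf [nat_lit 5, nat_lit 4, nat_lit 0, nat_lit 7]) (.node (nat_lit 26) (.leaf [nat_lit 4, nat_lit 1, nat_lit 6, nat_lit 5]) (.leaf [nat_lit 3, nat_lit 0, nat_lit 4, nat_lit 7])))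
 (.node (nat_lit 69) (.node (nat_lit 67) (.leaf [nat_lit 5, nat_lit 2, nat_lit 7, nat_lit 0, nat_lit 6]) (.leaf [nat_lit 3, nat_lit 5])) (.node (nat_lit 70) (.leaf [nat_lit 0, nat_lit 0, nat_lit 6]) (.leaf [nat_lit 5, nat_lit 3, nat_lit 7, nat_lit 5])))))
 (.node (nat_lit 259) (.node (nat_lit 81) (.node (nat_lit 74) (.leaf [nat_lit 3, nat_lit 5, nat_lit 2, nat_lit 6]) (.node (nat_lit 76) (.leaf [nat_lit 7, nat_lit 5, nat_lit 2, nat_lit 7]) (.leaf [nat_lit 5, nat_lit 3, nat_lit 7, nat_lit 3, nat_lit 6])))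
 (.node (nat_lit 84) (.node (nat_lit 82) (.leaf [nat_lit 1, nat_lit 5, nat_lit 0, nat_lit 6]) (.leaf [nat_lit 6, nat_lit 7, nat_lit 1, nat_lit 6])) (.node (nat_lit 88) (.leaf [nat_lit 6, nat_lit 0, nat_lit 7, nat_lit 1, nat_lit 6, nat_lit 5]) (.leaf [nat_lit 3, nat_lit 0, nat_lit 4, nat_lit 7, nat_lit 0, nat_lit 6]))))
 (.node (nat_lit 265) (.node (nat_lit 261) (.leaf [nat_lit 5]) (.node (nat_lit 262) (.leaf [nat_lit 3, nat_lit 6]) (.leaf [nat_lit 3, nat_lit 7, nat_lit 3, nat_lit 5])))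
 (.node (nat_lit 268) (.node (nat_lit 266) (.leaf [nat_lit 5, nat_lit 2, nat_lit 6]) (.leaf [nat_lit 3, nat_lit 4, nat_lit 7])) (.node (nat_lit 273) (.leaf [nat_lit 3, nat_lit 6, nat_lit 5, nat_lit 2, nat_lit 7]) (.leaf [nat_lit 1, nat_lit 5, nat_lit 6]))))))
 (.node (nat_lit 529) (.node (nat_lit 336) (.node (nat_lit 321) (.node (nat_lit 276) (.leaf [nat_lit 4, nat_lit 0, nat_lit 7]) (.node (nat_lit 280) (.leaf [nat_lit 3, nat_lit 7, nat_lit 1, nat_lit 6, nat_lit 5]) (.leaf [nat_lit 4, nat_lit 1, nat_lit 7, nat_lit 0, nat_lit 6])))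
 (.node (nat_lit 324) (.node (nat_lit 322) (.leaf [nat_lit 6, nat_lit 1, nat_lit 6, nat_lit 5]) (.leaf [nat_lit 3, nat_lit 7, nat_lit 5])) (.node (nat_lit 328) (.leaf [nat_lit 3, nat_lit 6, nat_lit 1, nat_lit 7, nat_lit 3, nat_lit 5]) (.leaf [nat_lit 3, nat_lit 4, nat_lit 7, nat_lit 1, nat_lit 6]))))
 (.node (nat_lit 518) (.node (nat_lit 515) (.leaf [nat_lit 3, nat_lit 6, nat_lit 1, nat_lit 7, nat_lit 5]) (.node (nat_lit 517) (.leaf [nat_lit 2, nat_lit 5]) (.leaf [nat_lit 6])))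
 (.node (nat_lit 522) (.node (nat_lit 521) (.leaf [nat_lit 7, nat_lit 3, nat_lit 5]) (.leaf [nat_lit 4, nat_lit 7, nat_lit 6])) (.node (nat_lit 524) (.leaf [nat_lit 4, nat_lit 7]) (.leaf [nat_lit 6, nat_lit 5, nat_lit 2, nat_lit 7])))))
 (.node (nat_lit 584) (.node (nat_lit 536) (.node (nat_lit 530) (.leaf [nat_lit 6, nat_lit 4, nat_lit 5]) (.node (nat_lit 532) (.leaf [nat_lit 7, nat_lit 0, nat_lit 0, nat_lit 5]) (.leaf [nat_lit 7, nat_lit 2, nat_lit 6, nat_lit 0, nat_lit 5])))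
 (.node (nat_lit 578) (.node (nat_lit 577) (.leaf [nat_lit 4, nat_lit 7, nat_lit 0, nat_lit 6]) (.leaf [nat_lit 7, nat_lit 6])) (.node (nat_lit 580) (.leaf [nat_lit 7]) (.leaf [nat_lit 7, nat_lit 0, nat_lit 0, nat_lit 6]))))
 (.node (nat_lit 770) (.node (nat_lit 592) (.leaf [nat_lit 7, nat_lit 4, nat_lit 0, nat_lit 0, nat_lit 6]) (.node (nat_lit 769) (.leaf [nat_lit 7, nat_lit 2, nat_lit 6]) (.leaf [nat_lit 6, nat_lit 2, nat_lit 0, nat_lit 5])))
 (.node (nat_lit 776) (.node (nat_lit 772) (.leaf [nat_lit 7, nat_lit 5]) (.leaf [nat_lit 6, nat_lit 1, nat_lit 7, nat_lit 3, nat_lit 5])) (.node (nat_lit 784) (.leaf [nat_lit 4, nat_lit 7, nat_lit 1, nat_lit 6]) (.leaf [nat_lit 6, nat_lit 0, nat_lit 7])))))))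
 (.node (nat_lit 4672) (.node (nat_lit 4164) (.node (nat_lit 4108) (.node (nat_lit 4102) (.node (nat_lit 4099) (.leaf [nat_lit 7, nat_lit 3, nat_lit 6]) (.node (nat_lit 4101) (.leaf [nat_lit 0, nat_lit 5]) (.leaf [nat_lit 2, nat_lit 0, nat_lit 6]))) (.node (nat_lit 4105) (.leaf [nat_lit 5, nat_lit 7, nat_lit 5]) (.node (nat_lit 4106) (.leaf [nat_lit 5, nat_lit 6, nat_lit 0, nat_lit 5]) (.leaf [nat_lit 5, nat_lit 7, nat_lit 1, nat_lit 5]))))
 (.node (nat_lit 4116) (.node (nat_lit 4113) (.leaf [nat_lit 5, nat_lit 2, nat_lit 7, nat_lit 3, nat_lit 6]) (.node (nat_lit 4114) (.leaf [nat_lit 5, nat_lit 6, nat_lit 4, nat_lit 5]) (.leaf [nat_lit 2, nat_lit 0, nat_lit 7])))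
 (.node (nat_lit 4161) (.node (nat_lit 4120) (.leaf [nat_lit 5, nat_lit 6, nat_lit 0, nat_lit 7]) (.leaf [nat_lit 5, nat_lit 7, nat_lit 2, nat_lit 6, nat_lit 5])) (.node (nat_lit 4162) (.leaf [nat_lit 5, nat_lit 7, nat_lit 6]) (.leaf [nat_lit 5, nat_lit 7])))))
 (.node (nat_lit 4368) (.node (nat_lit 4353) (.node (nat_lit 4168) (.leaf [nat_lit 5, nat_lit 7, nat_lit 3, nat_lit 6]) (.node (nat_lit 4176) (.leaf [nat_lit 5, nat_lit 6, nat_lit 5, nat_lit 7]) (.leaf [nat_lit 5, nat_lit 7, nat_lit 2, nat_lit 6])))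
 (.node (nat_lit 4356) (.node (nat_lit 4354) (.leaf [nat_lit 5, nat_lit 6]) (.leaf [nat_lit 5, nat_lit 7, nat_lit 3, nat_lit 5])) (.node (nat_lit 4360) (.leaf [nat_lit 3, nat_lit 7, nat_lit 3, nat_lit 5, nat_lit 6]) (.leaf [nat_lit 5, nat_lit 6, nat_lit 5, nat_lit 7, nat_lit 5]))))
 (.node (nat_lit 4610) (.node (nat_lit 4416) (.leaf [nat_lit 3, nat_lit 0, nat_lit 7, nat_lit 0, nat_lit 6]) (.node (nat_lit 4609) (.leaf [nat_lit 5, nat_lit 7, nat_lit 0, nat_lit 0, nat_lit 6]) (.leaf [nat_lit 6, nat_lit 0, nat_lit 0, nat_lit 5])))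
 (.node (nat_lit 4616) (.node (nat_lit 4612) (.leaf [nat_lit 7, nat_lit 0, nat_lit 5]) (.leaf [nat_lit 5, nat_lit 7, nat_lit 5, nat_lit 6])) (.node (nat_lit 4624) (.leaf [nat_lit 6, nat_lit 2, nat_lit 4, nat_lit 7]) (.leaf [nat_lit 7, nat_lit 0, nat_lit 5, nat_lit 6]))))))
 (.node (nat_lit 8260) (.node (nat_lit 8204) (.node (nat_lit 8197) (.node (nat_lit 4864) (.leaf [nat_lit 7, nat_lit 2, nat_lit 0, nat_lit 6]) (.node (nat_lit 8195) (.leaf [nat_lit 7, nat_lit 5, nat_lit 6]) (.leaf [nat_lit 4, nat_lit 5])))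
 (.node (nat_lit 8201) (.node (nat_lit 8198) (.leaf [nat_lit 0, nat_lit 6]) (.leaf [nat_lit 0, nat_lit 7, nat_lit 3, nat_lit 5])) (.node (nat_lit 8202) (.leaf [nat_lit 5, nat_lit 6, nat_lit 5, nat_lit 6]) (.leaf [nat_lit 0, nat_lit 4, nat_lit 7]))))
 (.node (nat_lit 8212) (.node (nat_lit 8209) (.leaf [nat_lit 5, nat_lit 3, nat_lit 7, nat_lit 2, nat_lit 6]) (.node (nat_lit 8210) (.leaf [nat_lit 0, nat_lit 6, nat_lit 0, nat_lit 5]) (.leaf [nat_lit 0, nat_lit 7, nat_lit 1, nat_lit 5])))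
 (.node (nat_lit 8257) (.node (nat_lit 8216) (.leaf [nat_lit 0, nat_lit 6, nat_lit 5, nat_lit 7, nat_lit 5]) (.leaf [nat_lit 5, nat_lit 1, nat_lit 6, nat_lit 0, nat_lit 7])) (.node (nat_lit 8258) (.leaf [nat_lit 3, nat_lit 5, nat_lit 6]) (.leaf [nat_lit 0, nat_lit 4, nat_lit 7, nat_lit 5])))))
 (.node (nat_lit 8464) (.node (nat_lit 8449) (.node (nat_lit 8264) (.leaf [nat_lit 0, nat_lit 7, nat_lit 1, nat_lit 6, nat_lit 5]) (.node (nat_lit 8272) (.leaf [nat_lit 0, nat_lit 4, nat_lit 7, nat_lit 3, nat_lit 6]) (.leaf [nat_lit 0, nat_lit 4, nat_lit 7, nat_lit 5, nat_lit 6])))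
 (.node (nat_lit 8452) (.node (nat_lit 8450) (.leaf [nat_lit 5, nat_lit 1, nat_lit 6]) (.leaf [nat_lit 1, nat_lit 5, nat_lit 7])) (.node (nat_lit 8456) (.leaf [nat_lit 1, nat_lit 5, nat_lit 7, nat_lit 3, nat_lit 6]) (.leaf [nat_lit 0, nat_lit 4, nat_lit 7, nat_lit 0, nat_lit 6]))))
 (.node (nat_lit 8706) (.node (nat_lit 8512) (.leaf [nat_lit 0, nat_lit 7, nat_lit 2, nat_lit 6, nat_lit 5]) (.node (nat_lit 8705) (.leaf [nat_lit 3, nat_lit 7, nat_lit 5, nat_lit 6]) (.leaf [nat_lit 6, nat_lit 1, nat_lit 5])))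
 (.node (nat_lit 8712) (.node (nat_lit 8708) (.leaf [nat_lit 4, nat_lit 7, nat_lit 5]) (.leaf [nat_lit 7, nat_lit 1, nat_lit 6, nat_lit 5])) (.node (nat_lit 8720) (.leaf [nat_lit 4, nat_lit 7, nat_lit 3, nat_lit 6]) (.leaf [nat_lit 7, nat_lit 6, nat_lit 5, nat_lit 6]))))))))
 (.node (nat_lit 262147) (.node (nat_lit 65796) (.node (nat_lit 65545) (.node (nat_lit 12304) (.node (nat_lit 12290) (.node (nat_lit 8960) (.leaf [nat_lit 7, nat_lit 1, nat_lit 6]) (.node (nat_lit 12289) (.leaf [nat_lit 6, nat_lit 1, nat_lit 7, nat_lit 5]) (.leaf [nat_lit 5, nat_lit 6, nat_lit 5]))) (.node (nat_lit 12292) (.leaf [nat_lit 0, nat_lit 7, nat_lit 5]) (.node (nat_lit 12296) (.leaf [nat_lit 5, nat_lit 7, nat_lit 5, nat_lit 1, nat_lit 6]) (.leaf [nat_lit 0, nat_lit 4, nat_lit 7, nat_lit 1, nat_lit 6]))))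
 (.node (nat_lit 12800) (.node (nat_lit 12352) (.leaf [nat_lit 4, nat_lit 3, nat_lit 7, nat_lit 2, nat_lit 6]) (.node (nat_lit 12544) (.leaf [nat_lit 5, nat_lit 7, nat_lit 0, nat_lit 6]) (.leaf [nat_lit 0, nat_lit 6, nat_lit 0, nat_lit 7])))
 (.node (nat_lit 65541) (.node (nat_lit 65539) (.leaf [nat_lit 5, nat_lit 6, nat_lit 2, nat_lit 7]) (.leaf [nat_lit 0, nat_lit 0, nat_lit 5])) (.node (nat_lit 65542) (.leaf [nat_lit 2, nat_lit 6]) (.leaf [nat_lit 2, nat_lit 7, nat_lit 3, nat_lit 5])))))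
 (.node (nat_lit 65601) (.node (nat_lit 65553) (.node (nat_lit 65546) (.leaf [nat_lit 2, nat_lit 4, nat_lit 7, nat_lit 6]) (.node (nat_lit 65548) (.leaf [nat_lit 2, nat_lit 4, nat_lit 7]) (.leaf [nat_lit 4, nat_lit 5, nat_lit 7, nat_lit 3, nat_lit 6])))
 (.node (nat_lit 65556) (.node (nat_lit 65554) (.leaf [nat_lit 2, nat_lit 6, nat_lit 5]) (.leaf [nat_lit 2, nat_lit 7, nat_lit 4, nat_lit 5])) (.node (nat_lit 65560) (.leaf [nat_lit 2, nat_lit 7, nat_lit 3, nat_lit 5, nat_lit 6]) (.leaf [nat_lit 4, nat_lit 5, nat_lit 7, nat_lit 1, nat_lit 6]))))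
 (.node (nat_lit 65608) (.node (nat_lit 65602) (.leaf [nat_lit 2, nat_lit 6, nat_lit 0, nat_lit 5]) (.node (nat_lit 65604) (.leaf [nat_lit 2, nat_lit 7, nat_lit 1, nat_lit 5]) (.leaf [nat_lit 2, nat_lit 6, nat_lit 5, nat_lit 7, nat_lit 5])))
 (.node (nat_lit 65793) (.node (nat_lit 65616) (.leaf [nat_lit 4, nat_lit 5, nat_lit 6, nat_lit 5, nat_lit 7]) (.leaf [nat_lit 6, nat_lit 5, nat_lit 7, nat_lit 0, nat_lit 6])) (.node (nat_lit 65794) (.leaf [nat_lit 2, nat_lit 7, nat_lit 6]) (.leaf [nat_lit 2, nat_lit 7]))))))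
 (.node (nat_lit 69640) (.node (nat_lit 66056) (.node (nat_lit 65856) (.node (nat_lit 65800) (.leaf [nat_lit 2, nat_lit 7, nat_lit 0, nat_lit 0, nat_lit 6]) (.node (nat_lit 65808) (.leaf [nat_lit 4, nat_lit 5, nat_lit 7, nat_lit 0, nat_lit 6]) (.leaf [nat_lit 2, nat_lit 7, nat_lit 0, nat_lit 6])))
 (.node (nat_lit 66050) (.node (nat_lit 66049) (.leaf [nat_lit 3, nat_lit 7, nat_lit 3, nat_lit 6]) (.leaf [nat_lit 6, nat_lit 0, nat_lit 5])) (.node (nat_lit 66052) (.leaf [nat_lit 7, nat_lit 1, nat_lit 5]) (.leaf [nat_lit 6, nat_lit 5, nat_lit 7, nat_lit 5]))))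
 (.node (nat_lit 66304) (.node (nat_lit 66064) (.leaf [nat_lit 6, nat_lit 5, nat_lit 7, nat_lit 1, nat_lit 5]) (.node (nat_lit 66112) (.leaf [nat_lit 7, nat_lit 2, nat_lit 6, nat_lit 5]) (.leaf [nat_lit 6, nat_lit 5, nat_lit 7])))
 (.node (nat_lit 69634) (.node (nat_lit 69633) (.leaf [nat_lit 2, nat_lit 7, nat_lit 3, nat_lit 6]) (.leaf [nat_lit 0, nat_lit 5, nat_lit 6])) (.node (nat_lit 69636) (.leaf [nat_lit 5, nat_lit 4, nat_lit 7]) (.leaf [nat_lit 2, nat_lit 7, nat_lit 1, nat_lit 6, nat_lit 5])))))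
 (.node (nat_lit 73732) (.node (nat_lit 69888) (.node (nat_lit 69648) (.leaf [nat_lit 2, nat_lit 4, nat_lit 7, nat_lit 3, nat_lit 6]) (.node (nat_lit 69696) (.leaf [nat_lit 2, nat_lit 0, nat_lit 7, nat_lit 0, nat_lit 6]) (.leaf [nat_lit 2, nat_lit 4, nat_lit 7, nat_lit 5, nat_lit 6])))
 (.node (nat_lit 73729) (.node (nat_lit 70144) (.leaf [nat_lit 3, nat_lit 7, nat_lit 0, nat_lit 6]) (.leaf [nat_lit 6, nat_lit 5, nat_lit 4, nat_lit 7])) (.node (nat_lit 73730) (.leaf [nat_lit 4, nat_lit 5, nat_lit 6]) (.leaf [nat_lit 3, nat_lit 5, nat_lit 7]))))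
 (.node (nat_lit 73792) (.node (nat_lit 73736) (.leaf [nat_lit 3, nat_lit 5, nat_lit 7, nat_lit 3, nat_lit 6]) (.node (nat_lit 73744) (.leaf [nat_lit 2, nat_lit 4, nat_lit 7, nat_lit 0, nat_lit 6]) (.leaf [nat_lit 3, nat_lit 5, nat_lit 7, nat_lit 0, nat_lit 6])))
 (.node (nat_lit 74240) (.node (nat_lit 73984) (.leaf [nat_lit 2, nat_lit 7, nat_lit 2, nat_lit 6, nat_lit 5]) (.leaf [nat_lit 2, nat_lit 7, nat_lit 2, nat_lit 6])) (.node (nat_lit 77824) (.leaf [nat_lit 4, nat_lit 7, nat_lit 5, nat_lit 6]) (.leaf [nat_lit 0, nat_lit 7, nat_lit 5, nat_lit 6])))))))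
 (.node (nat_lit 262912) (.node (nat_lit 262216) (.node (nat_lit 262161) (.node (nat_lit 262153) (.node (nat_lit 262149) (.leaf [nat_lit 2, nat_lit 0, nat_lit 5]) (.node (nat_lit 262150) (.leaf [nat_lit 1, nat_lit 6]) (.leaf [nat_lit 1, nat_lit 7, nat_lit 3, nat_lit 5]))) (.node (nat_lit 262154) (.leaf [nat_lit 6, nat_lit 5, nat_lit 2, nat_lit 6]) (.node (nat_lit 262156) (.leaf [nat_lit 1, nat_lit 4, nat_lit 7]) (.leaf [nat_lit 5, nat_lit 2, nat_lit 7, nat_lit 2, nat_lit 6]))))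
 (.node (nat_lit 262168) (.node (nat_lit 262162) (.leaf [nat_lit 6, nat_lit 5, nat_lit 1, nat_lit 6]) (.node (nat_lit 262164) (.leaf [nat_lit 1, nat_lit 7, nat_lit 5]) (.leaf [nat_lit 1, nat_lit 6, nat_lit 1, nat_lit 7, nat_lit 3, nat_lit 5])))
 (.node (nat_lit 262210) (.node (nat_lit 262209) (.leaf [nat_lit 1, nat_lit 4, nat_lit 7, nat_lit 1, nat_lit 6]) (.leaf [nat_lit 1, nat_lit 6, nat_lit 5])) (.node (nat_lit 262212) (.leaf [nat_lit 1, nat_lit 7, nat_lit 4, nat_lit 5]) (.leaf [nat_lit 1, nat_lit 7, nat_lit 3, nat_lit 5, nat_lit 6])))))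
 (.node (nat_lit 262464) (.node (nat_lit 262402) (.node (nat_lit 262224) (.leaf [nat_lit 1, nat_lit 4, nat_lit 7, nat_lit 2, nat_lit 6]) (.node (nat_lit 262401) (.leaf [nat_lit 1, nat_lit 7, nat_lit 5, nat_lit 1, nat_lit 6]) (.leaf [nat_lit 5, nat_lit 0, nat_lit 6])))
 (.node (nat_lit 262408) (.node (nat_lit 262404) (.leaf [nat_lit 2, nat_lit 5, nat_lit 7]) (.leaf [nat_lit 2, nat_lit 5, nat_lit 7, nat_lit 3, nat_lit 6])) (.node (nat_lit 262416) (.leaf [nat_lit 3, nat_lit 4, nat_lit 7, nat_lit 0, nat_lit 6]) (.leaf [nat_lit 1, nat_lit 7, nat_lit 5, nat_lit 6]))))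
 (.node (nat_lit 262660) (.node (nat_lit 262657) (.leaf [nat_lit 3, nat_lit 6, nat_lit 0, nat_lit 7]) (.node (nat_lit 262658) (.leaf [nat_lit 6, nat_lit 5]) (.leaf [nat_lit 7, nat_lit 4, nat_lit 5])))
 (.node (nat_lit 262672) (.node (nat_lit 262664) (.leaf [nat_lit 7, nat_lit 3, nat_lit 5, nat_lit 6]) (.leaf [nat_lit 4, nat_lit 7, nat_lit 2, nat_lit 6])) (.node (nat_lit 262720) (.leaf [nat_lit 7, nat_lit 4, nat_lit 5, nat_lit 6]) (.leaf [nat_lit 7, nat_lit 0, nat_lit 6]))))))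
 (.node (nat_lit 270400) (.node (nat_lit 266496) (.node (nat_lit 266244) (.node (nat_lit 266241) (.leaf [nat_lit 7, nat_lit 5, nat_lit 1, nat_lit 6]) (.node (nat_lit 266242) (.leaf [nat_lit 1, nat_lit 6, nat_lit 0, nat_lit 5]) (.leaf [nat_lit 1, nat_lit 7, nat_lit 1, nat_lit 5])))
 (.node (nat_lit 266256) (.node (nat_lit 266248) (.leaf [nat_lit 5, nat_lit 6, nat_lit 1, nat_lit 7, nat_lit 5]) (.leaf [nat_lit 5, nat_lit 4, nat_lit 7, nat_lit 5, nat_lit 6])) (.node (nat_lit 266304) (.leaf [nat_lit 6, nat_lit 2, nat_lit 7, nat_lit 2, nat_lit 6]) (.leaf [nat_lit 5, nat_lit 7, nat_lit 1, nat_lit 6]))))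
 (.node (nat_lit 270338) (.node (nat_lit 266752) (.leaf [nat_lit 5, nat_lit 7, nat_lit 1, nat_lit 6, nat_lit 5]) (.node (nat_lit 270337) (.leaf [nat_lit 6, nat_lit 2, nat_lit 7]) (.leaf [nat_lit 0, nat_lit 7, nat_lit 6])))
 (.node (nat_lit 270344) (.node (nat_lit 270340) (.leaf [nat_lit 0, nat_lit 7]) (.leaf [nat_lit 0, nat_lit 7, nat_lit 0, nat_lit 0, nat_lit 6])) (.node (nat_lit 270352) (.leaf [nat_lit 5, nat_lit 1, nat_lit 7, nat_lit 2, nat_lit 6]) (.leaf [nat_lit 1, nat_lit 7, nat_lit 3, nat_lit 6])))))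
 (.node (nat_lit 327688) (.node (nat_lit 274432) (.node (nat_lit 270592) (.leaf [nat_lit 1, nat_lit 7, nat_lit 0, nat_lit 6]) (.node (nat_lit 270848) (.leaf [nat_lit 0, nat_lit 7, nat_lit 2, nat_lit 6]) (.leaf [nat_lit 0, nat_lit 7, nat_lit 0, nat_lit 6])))
 (.node (nat_lit 327682) (.node (nat_lit 327681) (.leaf [nat_lit 0, nat_lit 7, nat_lit 3, nat_lit 6]) (.leaf [nat_lit 6, nat_lit 5, nat_lit 6])) (.node (nat_lit 327684) (.leaf [nat_lit 0, nat_lit 5, nat_lit 7]) (.leaf [nat_lit 0, nat_lit 5, nat_lit 7, nat_lit 3, nat_lit 6]))))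
 (.node (nat_lit 327936) (.node (nat_lit 327696) (.leaf [nat_lit 1, nat_lit 4, nat_lit 7, nat_lit 0, nat_lit 6]) (.node (nat_lit 327744) (.leaf [nat_lit 1, nat_lit 6, nat_lit 0, nat_lit 7]) (.leaf [nat_lit 0, nat_lit 5, nat_lit 7, nat_lit 0, nat_lit 6])))
 (.node (nat_lit 331776) (.node (nat_lit 328192) (.leaf [nat_lit 3, nat_lit 7, nat_lit 2, nat_lit 6]) (.leaf [nat_lit 2, nat_lit 7, nat_lit 5, nat_lit 6])) (.node (nat_lit 335872) (.leaf [nat_lit 1, nat_lit 7, nat_lit 2, nat_lit 6, nat_lit 5]) (.leaf [nat_lit 1, nat_lit 7, nat_lit 2, nat_lit 6])))))))))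
theorem q1c : enS 340831 (fun Y => Nat.beq (imOn 24 (apL 5 31 d0T (q1W.get Y)) 7) Y) 24 3 0 = true := by decide +kernel
noncomputable def q2t0 : ℕ := (nat_lit 0x89df3ac2eda150655992591c918820)
noncomputable def q2t1 : ℕ := (nat_lit 0x8aa6fa22f2a96093ac8db31c618820)
noncomputable def q2t2 : ℕ := (nat_lit 0x2bd47b11c65c5929d209aa2ed18820)
noncomputable def q2t3 : ℕ := (nat_lit 0x2ccea5b1c9b448d7d506a42f218820)
noncomputable def q2t4 : ℕ := (nat_lit 0x5daae7b0e39d132ba9a8890a680820)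
noncomputable def q2t5 : ℕ := (nat_lit 0x756cb79a309dd24a29a83c8ac18022)
noncomputable def q2t6 : ℕ := (nat_lit 0x3aaae9a5637d18d8da48b98a480801)
noncomputable def q2T : Tr ℕ := (.node (nat_lit 3) (.node (nat_lit 1) (.leaf q2t0) (.node (nat_lit 2) (.leaf q2t1) (.leaf q2t2)))
 (.node (nat_lit 5) (.node (nat_lit 4) (.leaf q2t3) (.leaf q2t4)) (.node (nat_lit 6) (.leaf q2t5) (.leaf q2t6))))
noncomputable def q2L0 : Lev := ⟨(nat_lit 1), (nat_lit 7), (nat_lit 0x60007), (nat_lit 0x20001),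
 (.leaf 0),
 (.leaf 0)⟩
noncomputable def q2L1 : Lev := ⟨(nat_lit 0), (nat_lit 6), (nat_lit 0x60000), (nat_lit 0x10000),
 (.leaf 0),
 (.leaf 0)⟩
noncomputable def q2L2 : Lev := ⟨(nat_lit 3), (nat_lit 5), (nat_lit 0x1000500000203000003010004000400000000), (nat_lit 0x2000100000203000002030002000300000000),
 (.leaf 0),
 (.leaf 0)⟩
noncomputable def q2L3 : Lev := ⟨(nat_lit 4), (nat_lit 4), (nat_lit 0x3000300000401000002040001000000000000), (nat_lit 0x1000200000102000001020001000000000000),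
 (.leaf 0),
 (.leaf 0)⟩
noncomputable def q2L : List Lev := [q2L0, q2L1, q2L2, q2L3]
theorem q2e : smC [] [340831, 7] [] q2T = true := by decide +kernel
noncomputable def q2W : Tr (List ℕ) := (.node (nat_lit 70144) (.node (nat_lit 8960) (.node (nat_lit 584) (.leaf []) (.node (nat_lit 4120) (.leaf [nat_lit 6, nat_lit 3]) (.leaf [nat_lit 4, nat_lit 3]))) (.node (nat_lit 12352) (.leaf [nat_lit 2]) (.node (nat_lit 65800) (.leaf [nat_lit 1]) (.leaf [nat_lit 2, nat_lit 6, nat_lit 3]))))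
 (.node (nat_lit 266496) (.node (nat_lit 73744) (.leaf [nat_lit 0, nat_lit 0]) (.node (nat_lit 262672) (.leaf [nat_lit 2, nat_lit 0]) (.leaf [nat_lit 0]))) (.node (nat_lit 270344) (.leaf [nat_lit 5]) (.node (nat_lit 327744) (.leaf [nat_lit 4, nat_lit 0, nat_lit 0]) (.leaf [nat_lit 3])))))
theorem q2c : enS 340831 (fun Y => bor (bnot (frc (Nat.lor 7 Y) hexC)) (Nat.beq (imOn 24 (apL 5 31 q2T (q2W.get Y)) 336) Y)) 24 3 0 = true := by decide +kernel
theorem q3c : enS 340831 (fun Y => bor (memL [7, 336, 70144, 270344] Y) (bnot (band (frc (Nat.lor 7 Y) hexC) (frc (Nat.lor 336 Y) hexC)))) 24 3 0 = true := by decide +kernel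
abbrev q0 : List ℕ := [7, 336, 70144, 270344]
noncomputable def m1t0 : ℕ := (nat_lit 0x3c1c90566aa49b72d9e86182418971)
noncomputable def m1t1 : ℕ := (nat_lit 0x62a4f8b8164d5a70c288b9964188b3)
noncomputable def m1t2 : ℕ := (nat_lit 0xa42b73c8b6039ab6082899a241a92f)
noncomputable def m1t3 : ℕ := (nat_lit 0x1eaf84973a39a588448b19841a557)
noncomputable def m1t4 : ℕ := (nat_lit 0x158a17423204da45a54839aac1de8f)
noncomputable def m1t5 : ℕ := (nat_lit 0x515719b2827b9b2adc8839ac90c060)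
noncomputable def m1t6 : ℕ := (nat_lit 0xd9858ca707adb5720ea49a82192e0)
noncomputable def m1t7 : ℕ := (nat_lit 0x6daa042a2b7b2ee8493309844194f4)
noncomputable def m1t8 : ℕ := (nat_lit 0x915804de2d7ba1552e68386c4188d4)
noncomputable def m1T : Tr ℕ := (.node (nat_lit 4) (.node (nat_lit 2) (.node (nat_lit 1) (.leaf m1t0) (.leaf m1t1)) (.node (nat_lit 3) (.leaf m1t2) (.leaf m1t3)))
 (.node (nat_lit 6) (.node (nat_lit 5) (.leaf m1t4) (.leaf m1t5)) (.node (nat_lit 7) (.leaf m1t6) (.node (nat_lit 8) (.leaf m1t7) (.leaf m1t8)))))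
noncomputable def m1L0 : Lev := ⟨(nat_lit 6), (nat_lit 9), (nat_lit 0x70605050908030802070804020403070800010606080908), (nat_lit 0x20303020303030303030303020202030200020302030103),
 (.leaf 0),
 (.leaf 0)⟩
noncomputable def m1L1 : Lev := ⟨(nat_lit 13), (nat_lit 8), (nat_lit 0x80407030306060601080001030607070200040506050704), (nat_lit 0x10303020303030303030002030203030200030303020202),
 (.leaf 0),
 (.leaf 0)⟩
noncomputable def m1L2 : Lev := ⟨(nat_lit 8), (nat_lit 7), (nat_lit 0x60202050405010102050001020705000400060706030404), (nat_lit 0x20204030303040203040003030102000300030303020203),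
 (.leaf 0),
 (.leaf 0)⟩
noncomputable def m1L3 : Lev := ⟨(nat_lit 3), (nat_lit 6), (nat_lit 0x60605050206030102020004020403000100010600040601), (nat_lit 0x30303020404030303040003020202000400020300030104),
 (.leaf 0),
 (.leaf 0)⟩
noncomputable def m1L4 : Lev := ⟨(nat_lit 4), (nat_lit 5), (nat_lit 0x20405030301040401050005030102000100040000050104), (nat_lit 0x20303030304030404040001020404000200020000030303),
 (.leaf 0),
 (.leaf 0)⟩
noncomputable def m1L5 : Lev := ⟨(nat_lit 2), (nat_lit 4), (nat_lit 0x30200010400010102000002020304000400010000000403), (nat_lit 0x30200020300040202000004030101000300030000000203),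
 (.leaf 0),
 (.leaf 0)⟩
noncomputable def m1L6 : Lev := ⟨(nat_lit 9), (nat_lit 2), (nat_lit 0x10000000002000000000000000000000000000000), (nat_lit 0x10000000001000000000000000000000000000000),
 (.leaf 0),
 (.leaf 0)⟩
noncomputable def m1L : List Lev := [m1L0, m1L1, m1L2, m1L3, m1L4, m1L5, m1L6]
theorem m1c : band (m1T.all fun c => m24Chk (ap 5 31 c)) (band (tchainChk 24 5 31 m1T m1L) (Nat.ble 244823040 (chainOrd 24 m1L))) = true := by decide +kernel
noncomputable def qs0t0 : ℕ := (nat_lit 0x395d498de18d5a25a808b9ac493209)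
noncomputable def qs0t1 : ℕ := (nat_lit 0xbbdd49c8a0b55a252c2439a281b130)
noncomputable def qs0t2 : ℕ := (nat_lit 0x9aa95b81f08b8295d988398a410db2)
noncomputable def qs0t3 : ℕ := (nat_lit 0x89e959cae87b9a652c90b30a918801)
noncomputable def qs0T : Tr ℕ := (.node (nat_lit 2) (.node (nat_lit 1) (.leaf qs0t0) (.leaf qs0t1)) (.node (nat_lit 3) (.leaf qs0t2) (.leaf qs0t3)))
noncomputable def qs0L0 : Lev := ⟨(nat_lit 6), (nat_lit 4), (nat_lit 0x1000200000304000003020000000403010201), (nat_lit 0x4000400000401000002040000000303020303),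
 (.leaf 0),
 (.leaf 0)⟩
noncomputable def qs0L1 : Lev := ⟨(nat_lit 13), (nat_lit 3), (nat_lit 0x3000100000003000002000000000001010302), (nat_lit 0x4000200000003000002000000000005040103),
 (.leaf 0),
 (.leaf 0)⟩
noncomputable def qs0L2 : Lev := ⟨(nat_lit 8), (nat_lit 2), (nat_lit 0x200000000), (nat_lit 0x100000000),
 (.leaf 0),
 (.leaf 0)⟩
noncomputable def qs0L3 : Lev := ⟨(nat_lit 3), (nat_lit 1), (nat_lit 0x1000000000000000000000000000000000000), (nat_lit 0x1000000000000000000000000000000000000),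
 (.leaf 0),
 (.leaf 0)⟩
noncomputable def qs0L4 : Lev := ⟨(nat_lit 4), (nat_lit 0), (nat_lit 0x0), (nat_lit 0x0),
 (.leaf 0),
 (.leaf 0)⟩
noncomputable def qs0L5 : Lev := ⟨(nat_lit 2), (nat_lit 0), (nat_lit 0x0), (nat_lit 0x0),
 (.leaf 0),
 (.leaf 0)⟩
noncomputable def qs0L6 : Lev := ⟨(nat_lit 9), (nat_lit 0), (nat_lit 0x0), (nat_lit 0x0),
 (.leaf 0),
 (.leaf 0)⟩
noncomputable def qs0L : List Lev := [qs0L0, qs0L1, qs0L2, qs0L3, qs0L4, qs0L5, qs0L6]
theorem qs0e : smC [] [340831] [[7, 336, 70144, 270344]] qs0T = true := by decide +kernel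
noncomputable def qs0J : List Pr := [prSM 24 (allM [] [340831]) [[7, 336, 70144, 270344]]]
noncomputable def qs0F0 : ℕ × ℕ := ((nat_lit 0xffffffffff00ff00ffff0000ffff0000ff00ff0000000000), (nat_lit 0))
theorem qs0b0 : allR 0 24 (ptB 24 (nat_lit 5) (nat_lit 31) m1T qs0T qs0J m1L0 [m1L1, m1L2, m1L3, m1L4, m1L5, m1L6] qs0L0 (dg []) qs0F0.1 qs0F0.2) = true := by decide +kernel
noncomputable def qs0F1 : ℕ × ℕ := ((nat_lit 0xffffffffff00ff00ffff0000ffff00ffff00ffff00000000), (nat_lit 0))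
theorem qs0b1 : allR 0 24 (ptB 24 (nat_lit 5) (nat_lit 31) m1T qs0T qs0J m1L1 [m1L2, m1L3, m1L4, m1L5, m1L6] qs0L1 (dg [m1L0.b]) qs0F1.1 qs0F1.2) = true := by decide +kernel
noncomputable def qs0F2 : ℕ × ℕ := ((nat_lit 0xffffffffffffffffffff00ffffffff00ff00ff00ffffffff), (nat_lit 0))
theorem qs0b2 : allR 0 24 (ptB 24 (nat_lit 5) (nat_lit 31) m1T qs0T qs0J m1L2 [m1L3, m1L4, m1L5, m1L6] qs0L2 (dg [m1L1.b, m1L0.b]) qs0F2.1 qs0F2.2) = true := by decide +kernel
noncomputable def qs0F3 : ℕ × ℕ := ((nat_lit 0xffffffffff00ffffffff00ffffffff00ff00ffff00ffffff), (nat_lit 0))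
theorem qs0b3 : allR 0 24 (ptB 24 (nat_lit 5) (nat_lit 31) m1T qs0T qs0J m1L3 [m1L4, m1L5, m1L6] qs0L3 (dg [m1L2.b, m1L1.b, m1L0.b]) qs0F3.1 qs0F3.2) = true := by decide +kernel
noncomputable def qs0F4 : ℕ × ℕ := ((nat_lit 0xffffffffffffffffffff00ffffffff00ff00ff0000ffffff), (nat_lit 0))
theorem qs0b4 : allR 0 24 (ptB 24 (nat_lit 5) (nat_lit 31) m1T qs0T qs0J m1L4 [m1L5, m1L6] qs0L4 (dg [m1L3.b, m1L2.b, m1L1.b, m1L0.b]) qs0F4.1 qs0F4.2) = true := by decide +kernel
noncomputable def qs0F5 : ℕ × ℕ := ((nat_lit 0xffff00ffff00ffffff0000ffffffff00ff00ff000000ffff), (nat_lit 0))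
theorem qs0b5 : allR 0 24 (ptB 24 (nat_lit 5) (nat_lit 31) m1T qs0T qs0J m1L5 [m1L6] qs0L5 (dg [m1L4.b, m1L3.b, m1L2.b, m1L1.b, m1L0.b]) qs0F5.1 qs0F5.2) = true := by decide +kernel
noncomputable def qs0F6 : ℕ × ℕ := ((nat_lit 0xff00000000ff000000000000000000000000000000), (nat_lit 0))
theorem qs0b6 : allR 0 24 (ptB 24 (nat_lit 5) (nat_lit 31) m1T qs0T qs0J m1L6 [] qs0L6 (dg [m1L5.b, m1L4.b, m1L3.b, m1L2.b, m1L1.b, m1L0.b]) qs0F6.1 qs0F6.2) = true := by decide +kernel
theorem qs0bk : Bk 24 (nat_lit 5) (nat_lit 31) m1T qs0T qs0J m1L qs0L [qs0F0, qs0F1, qs0F2, qs0F3, qs0F4, qs0F5, qs0F6] [] :=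
  ⟨rfl, qs0b0, rfl, qs0b1, rfl, qs0b2, rfl, qs0b3, rfl, qs0b4, rfl, qs0b5, rfl, qs0b6, trivial⟩
theorem qs0tc : tchainChk 24 (nat_lit 5) (nat_lit 31) qs0T qs0L = true := by decide +kernel
noncomputable def qst0 : ℕ := (nat_lit 0xbae957b6289ba44b1cd0524ac18820)
noncomputable def qst1 : ℕ := (nat_lit 0x5da952c9467b868bc48c3c26968820)
noncomputable def qst2 : ℕ := (nat_lit 0xb5eae2a62d7d20359e465226460820)
noncomputable def qst3 : ℕ := (nat_lit 0x2ceb4b36295ba4c79e06522e418440)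
noncomputable def qst4 : ℕ := (nat_lit 0x8d9d45cae23d5a19a808790a61c189)
noncomputable def qsT : Tr ℕ := (.node (nat_lit 2) (.node (nat_lit 1) (.leaf qst0) (.leaf qst1)) (.node (nat_lit 3) (.leaf qst2) (.node (nat_lit 4) (.leaf qst3) (.leaf qst4))))
noncomputable def qsR : Tr (List ℕ) := (.node (nat_lit 8) (.node (nat_lit 4) (.node (nat_lit 2) (.node (nat_lit 1) (.leaf [nat_lit 3, nat_lit 0, nat_lit 3, nat_lit 0]) (.leaf [nat_lit 1, nat_lit 3, nat_lit 4, nat_lit 0, nat_lit 4, nat_lit 1, nat_lit 4])) (.node (nat_lit 3) (.leaf [nat_lit 1, nat_lit 0, nat_lit 1, nat_lit 0, nat_lit 1, nat_lit 0]) (.leaf [nat_lit 0, nat_lit 0])))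
 (.node (nat_lit 6) (.node (nat_lit 5) (.leaf [nat_lit 1, nat_lit 0, nat_lit 2, nat_lit 1, nat_lit 0, nat_lit 2]) (.leaf [nat_lit 3, nat_lit 0, nat_lit 1, nat_lit 3, nat_lit 0, nat_lit 1])) (.node (nat_lit 7) (.leaf [nat_lit 1, nat_lit 1]) (.leaf [nat_lit 4, nat_lit 0, nat_lit 1, nat_lit 3, nat_lit 4, nat_lit 0, nat_lit 1, nat_lit 3]))))
 (.node (nat_lit 12) (.node (nat_lit 10) (.node (nat_lit 9) (.leaf [nat_lit 1, nat_lit 2, nat_lit 1, nat_lit 2, nat_lit 1, nat_lit 2]) (.leaf [nat_lit 3, nat_lit 2, nat_lit 3, nat_lit 2])) (.node (nat_lit 11) (.leaf [nat_lit 4, nat_lit 2, nat_lit 4, nat_lit 2, nat_lit 4, nat_lit 2]) (.leaf [nat_lit 0, nat_lit 2, nat_lit 0, nat_lit 3, nat_lit 4, nat_lit 1, nat_lit 2, nat_lit 1, nat_lit 4])))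
 (.node (nat_lit 14) (.node (nat_lit 13) (.leaf [nat_lit 2, nat_lit 2]) (.leaf [nat_lit 4, nat_lit 0, nat_lit 3, nat_lit 4, nat_lit 0, nat_lit 3, nat_lit 4, nat_lit 0, nat_lit 3])) (.node (nat_lit 15) (.leaf [nat_lit 3, nat_lit 3]) (.leaf [nat_lit 4, nat_lit 4])))))
noncomputable def qsL0 : Lev := ⟨(nat_lit 0), (nat_lit 5), (nat_lit 0x3000400000101000005030001000203050500), (nat_lit 0x2000200000303000001030002000204030400),
 (.node (nat_lit 2) (.node (nat_lit 1) (.leaf (nat_lit 0x1000000060000000000000000000000000001000700000000000000010004000400070000))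
 (.leaf (nat_lit 0x3000000020000000000020003000000000001000400000003000000000003000600080000)))
 (.node (nat_lit 3) (.leaf (nat_lit 0x400000000000500010000000000010000000000010000000200000009000a0000))
 (.node (nat_lit 4) (.leaf (nat_lit 0x6000000000000000000070005000000000001000700000008000000040006000600050000))
 (.leaf (nat_lit 0x200000001000000000008000100000000000000040000000300000002000b000000000001))))),
 (.node (nat_lit 2) (.node (nat_lit 1) (.leaf (nat_lit 0x300000000000401000000000000000000000000000000000000000300000301000000000000000000000301000205000103000003000000))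
 (.leaf (nat_lit 0x802000000000702000000000000000400000403000000000000000600000601000000000601000000000000000601000100000505000000)))
 (.node (nat_lit 3) (.leaf (nat_lit 0x801000000000000000c01000c00000000000000000c01000000000000000c01000000000b06000000000a05000903000000))
 (.node (nat_lit 4) (.leaf (nat_lit 0x902000000000000000000000000000e01000002000000000000000e01000000000000000e01000000000101000900000e00000d08000000))
 (.leaf (nat_lit 0xa02000000000f00000000000000000102000f00000000000000000000000a02000000000f00000000000104000a02000000000000000f01)))))⟩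
noncomputable def qsL1 : Lev := ⟨(nat_lit 1), (nat_lit 4), (nat_lit 0x40000), (nat_lit 0x10000),
 (.node (nat_lit 2) (.node (nat_lit 1) (.leaf (nat_lit 0x200000000))
 (.leaf (nat_lit 0x300000000)))
 (.node (nat_lit 3) (.leaf (nat_lit 0x200000000))
 (.leaf (nat_lit 0x10000)))),
 (.node (nat_lit 2) (.node (nat_lit 1) (.leaf (nat_lit 0x1000000000000))
 (.leaf (nat_lit 0x502000000000000)))
 (.node (nat_lit 3) (.leaf (nat_lit 0x901000000000000))
 (.leaf (nat_lit 0xe01000000))))⟩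
noncomputable def qsL2 : Lev := ⟨(nat_lit 3), (nat_lit 3), (nat_lit 0x1000300000203000003020002000100000000), (nat_lit 0x2000200000101000003020003000200000000),
 (.node (nat_lit 1) (.leaf (nat_lit 0x20000000000010001000000000006000300000005000000000000000000000000))
 (.node (nat_lit 2) (.leaf (nat_lit 0x2000000010000000000000001000000000003000000000000000000020001000000000000))
 (.leaf (nat_lit 0x1000000000000000000010000000000000000000200000003000000040001000000000000)))),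
 (.node (nat_lit 1) (.leaf (nat_lit 0x401000000000000000301000300000000000000000300000301000000000401000000000000000000000000000000000000))
 (.node (nat_lit 2) (.leaf (nat_lit 0x202000000000600000000000000000000000600000000000000000600000000000000000000000000000403000601000000000000000000))
 (.leaf (nat_lit 0xc00000000000000000000000000000c01000000000000000000000000000803000000000c01000000000805000c01000000000000000000))))⟩
noncomputable def qsL3 : Lev := ⟨(nat_lit 4), (nat_lit 1), (nat_lit 0x1000000000000000000000000), (nat_lit 0x1000000000000000000000000),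
 (.leaf (nat_lit 0x10000000000000000)),
 (.leaf (nat_lit 0x301000000000000000000000000))⟩
noncomputable def qsL : List Lev := [qsL0, qsL1, qsL2, qsL3]
theorem qse : smC [] [340831] [[7, 336, 70144, 270344]] qsT = true := by decide +kernel
theorem qstc : tchainChk 24 (nat_lit 5) (nat_lit 31) qsT qsL = true := by decide +kernel
theorem qsc : band (tchainChk 24 (nat_lit 5) (nat_lit 31) qsT qsL) (Nat.ble (chainOrd 24 qs0L) (chainOrd 24 qsL)) = true := by decide +kernel
theorem qsch {C : H7.Coding GolayPt} (hC : GC C) : Ch (SM M24 C [] [340831] [[7, 336, 70144, 270344]]) 24 5 31 C.dec qsT qsL :=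
  ((hC.chSM (hC.ch m1c) qs0e qs0tc qs0bk).ch (hC.sm qse) qsc)
theorem qslev0 : levChk 24 (nat_lit 5) (nat_lit 31) qsT qsR qsL0 qsL1.N = true := by decide +kernel
theorem qslev1 : levChk 24 (nat_lit 5) (nat_lit 31) qsT qsR qsL1 qsL2.N = true := by decide +kernel
theorem qslev2 : levChk 24 (nat_lit 5) (nat_lit 31) qsT qsR qsL2 qsL3.N = true := by decide +kernel
theorem qslev3 : levChk 24 (nat_lit 5) (nat_lit 31) qsT qsR qsL3 0 = true := by decide +kernel
theorem qschain : Chain 24 (nat_lit 5) (nat_lit 31) qsT qsR qsL := chain_cons qslev0 <| chain_cons qslev1 <| chain_cons qslev2 <| chain_one qslev3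
theorem qssd : band (qsR.all fun w => eqB (qsL.map Lev.b) (apL (nat_lit 5) (nat_lit 31) qsT w) fun a => a) (Nat.ble (chainOrd 24 qsL) (chainOrd 24 qsL)) = true := by decide +kernel
theorem qsstd {C : H7.Coding GolayPt} (hC : GC C) : Std (SM M24 C [] [340831] [[7, 336, 70144, 270344]]) 24 5 31 C.dec qsT qsR qsL :=
  ((qsch hC).std (qsch hC).lets qschain qssd)
theorem qscard {C : H7.Coding GolayPt} (hC : GC C) : Nat.card (SM M24 C [] [340831] [[7, 336, 70144, 270344]]) = 432 := (qsch hC).card.trans (by decide +kernel)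
theorem qsm : mvChk 24 ([0].map fun b => (340831, b)) qsL [] = true := by decide +kernel
noncomputable def qsuI : Tr (List ℕ) := (.node (nat_lit 2) (.node (nat_lit 1) (.leaf [nat_lit 3, nat_lit 2, nat_lit 3, nat_lit 1]) (.leaf [nat_lit 3, nat_lit 2, nat_lit 3, nat_lit 1])) (.node (nat_lit 3) (.leaf [nat_lit 3, nat_lit 2, nat_lit 3, nat_lit 0]) (.node (nat_lit 4) (.leaf [nat_lit 3, nat_lit 2, nat_lit 3, nat_lit 2]) (.leaf [nat_lit 2, nat_lit 3, nat_lit 2]))))
theorem qsuh : qsR.all (fun w => eqB (MG.gl23L.map Lev.b) (apF (fun y => apL (nat_lit 3) (nat_lit 7) MG.gl23T (qsuI.get y)) w) fun a => a) = true := by decide +kernel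
noncomputable def qsuD : Tr (List ℕ) := (.node (nat_lit 2) (.node (nat_lit 1) (.leaf [nat_lit 2, nat_lit 1]) (.leaf [nat_lit 1, nat_lit 2])) (.node (nat_lit 3) (.leaf [nat_lit 3, nat_lit 1, nat_lit 2, nat_lit 0]) (.leaf [nat_lit 3, nat_lit 4, nat_lit 1, nat_lit 0])))
theorem qsus : (surChk (nat_lit 3) (nat_lit 7) (MG.gl23L.map Lev.b) MG.gl23T qsuI (topN qsL) qsuD (topN MG.gl23L)) = true := by decide +kernel
theorem qsq {C : H7.Coding GolayPt} (hC : GC C) : ∃ φ : (SM M24 C [] [340831] [[7, 336, 70144, 270344]]) →* GL (Fin 2) (ZMod 3), Function.Surjective φ ∧ Nat.card φ.ker = 9 :=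
  let ⟨φ, h, _, e⟩ := ((qsstd hC).surW (MG.gl23ch (exm3 (ZMod.card 3)) (ZMod.card 3)) qsuh qsus)
  ⟨φ, h, Nat.eq_of_mul_eq_mul_right (by norm_num : 0 < 48) (e.trans (by decide +kernel))⟩
noncomputable def m2t0 : ℕ := (nat_lit 0x8ad49348503d1ac201c8096761ddf5)
noncomputable def m2t1 : ℕ := (nat_lit 0x1100e2caf00a5acb56887cccb1c4ea)
noncomputable def m2t2 : ℕ := (nat_lit 0x2c670acad47a5ac309c83aee01a824)
noncomputable def m2t3 : ℕ := (nat_lit 0xb5c02248aa7adac740c83a6331d035)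
noncomputable def m2t4 : ℕ := (nat_lit 0x1eb3a494f819ac0c528b38a320977)
noncomputable def m2t5 : ℕ := (nat_lit 0x805d41c8d77d40c5a9282c4e2992cd)
noncomputable def m2t6 : ℕ := (nat_lit 0x55aa81c9a93862c2de1479964989c0)
noncomputable def m2t7 : ℕ := (nat_lit 0x692a71995043aec2c52fa497698820)
noncomputable def m2t8 : ℕ := (nat_lit 0x595940a9d0145b5bc8c83a6c41be60)
noncomputable def m2T : Tr ℕ := (.node (nat_lit 4) (.node (nat_lit 2) (.node (nat_lit 1) (.leaf m2t0) (.leaf m2t1)) (.node (nat_lit 3) (.leaf m2t2) (.leaf m2t3)))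
 (.node (nat_lit 6) (.node (nat_lit 5) (.leaf m2t4) (.leaf m2t5)) (.node (nat_lit 7) (.leaf m2t6) (.node (nat_lit 8) (.leaf m2t7) (.leaf m2t8)))))
noncomputable def m2L0 : Lev := ⟨(nat_lit 12), (nat_lit 9), (nat_lit 0x50209050309050409060600040201070602010306030901), (nat_lit 0x30401030203030304020300030203040403030303030302),
 (.leaf 0),
 (.leaf 0)⟩
noncomputable def m2L1 : Lev := ⟨(nat_lit 18), (nat_lit 8), (nat_lit 0x30103050100060701050700030504070608020406020501), (nat_lit 0x30303030200020304020300020302040301020303030304),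
 (.leaf 0),
 (.leaf 0)⟩
noncomputable def m2L2 : Lev := ⟨(nat_lit 8), (nat_lit 7), (nat_lit 0x60106070500010305010700040402000105010606040701), (nat_lit 0x30403010200030203020400030302000403030303020304),
 (.leaf 0),
 (.leaf 0)⟩
noncomputable def m2L3 : Lev := ⟨(nat_lit 13), (nat_lit 6), (nat_lit 0x50202040300050405060000010101000506030305030506), (nat_lit 0x20302040300030304030000030204000404030203030401),
 (.leaf 0),
 (.leaf 0)⟩
noncomputable def m2L4 : Lev := ⟨(nat_lit 3), (nat_lit 5), (nat_lit 0x40202050400030402040000010104000503010500020503), (nat_lit 0x30203030200030404030000020304000303030100040302),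
 (.leaf 0),
 (.leaf 0)⟩
noncomputable def m2L5 : Lev := ⟨(nat_lit 16), (nat_lit 4), (nat_lit 0x20101030300010000010000040402000004020300040002), (nat_lit 0x30402010300030000020000030102000003040300020002),
 (.leaf 0),
 (.leaf 0)⟩
noncomputable def m2L6 : Lev := ⟨(nat_lit 1), (nat_lit 2), (nat_lit 0x2000000000000000100000000000000), (nat_lit 0x1000000000000000100000000000000),
 (.leaf 0),
 (.leaf 0)⟩
noncomputable def m2L : List Lev := [m2L0, m2L1, m2L2, m2L3, m2L4, m2L5, m2L6]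
theorem m2c : band (m2T.all fun c => m24Chk (ap 5 31 c)) (band (tchainChk 24 5 31 m2T m2L) (Nat.ble 244823040 (chainOrd 24 m2L))) = true := by decide +kernel
noncomputable def qo1t0 : ℕ := (nat_lit 0x5dab48ca693b86cb96087914668022)
noncomputable def qo1t1 : ℕ := (nat_lit 0x5d9d49a2292d4ccb9e12535e320820)
noncomputable def qo1t2 : ℕ := (nat_lit 0xbae957b6289ba44b1cd0524ac18820)
noncomputable def qo1T : Tr ℕ := (.node (nat_lit 1) (.leaf qo1t0) (.node (nat_lit 2) (.leaf qo1t1) (.leaf qo1t2)))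
noncomputable def qo1L0 : Lev := ⟨(nat_lit 12), (nat_lit 3), (nat_lit 0x3000100000200000003020001000302000000), (nat_lit 0x4000400000300000003050002000102000000),
 (.leaf 0),
 (.leaf 0)⟩
noncomputable def qo1L1 : Lev := ⟨(nat_lit 18), (nat_lit 2), (nat_lit 0x20000000000000000), (nat_lit 0x10000000000000000),
 (.leaf 0),
 (.leaf 0)⟩
noncomputable def qo1L2 : Lev := ⟨(nat_lit 8), (nat_lit 1), (nat_lit 0x0), (nat_lit 0x0),
 (.leaf 0),
 (.leaf 0)⟩
noncomputable def qo1L3 : Lev := ⟨(nat_lit 13), (nat_lit 1), (nat_lit 0x1000000), (nat_lit 0x1000000),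
 (.leaf 0),
 (.leaf 0)⟩
noncomputable def qo1L4 : Lev := ⟨(nat_lit 3), (nat_lit 0), (nat_lit 0x0), (nat_lit 0x0),
 (.leaf 0),
 (.leaf 0)⟩
noncomputable def qo1L5 : Lev := ⟨(nat_lit 16), (nat_lit 0), (nat_lit 0x0), (nat_lit 0x0),
 (.leaf 0),
 (.leaf 0)⟩
noncomputable def qo1L6 : Lev := ⟨(nat_lit 1), (nat_lit 0), (nat_lit 0x0), (nat_lit 0x0),
 (.leaf 0),
 (.leaf 0)⟩
noncomputable def qo1L : List Lev := [qo1L0, qo1L1, qo1L2, qo1L3, qo1L4, qo1L5, qo1L6]
theorem qo1e : smC [] [340831] [[7, 336, 70144, 270344], [7, 584, 73744, 266496]] qo1T = true := by decide +kernel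
noncomputable def qo1J : List Pr := [prSM 24 (allM [] [340831]) [[7, 336, 70144, 270344], [7, 584, 73744, 266496]]]
noncomputable def qo1F0 : ℕ × ℕ := ((nat_lit 0xffffffffff00ff00ffff0000ffff0000ff00ff0000ffffff), (nat_lit 0))
theorem qo1b0 : allR 0 24 (ptB 24 (nat_lit 5) (nat_lit 31) m2T qo1T qo1J m2L0 [m2L1, m2L2, m2L3, m2L4, m2L5, m2L6] qo1L0 (dg []) qo1F0.1 qo1F0.2) = true := by decide +kernel
noncomputable def qo1F1 : ℕ × ℕ := ((nat_lit 0xffffffffff00ffffffffff00ffffff00ffffffffffffffff), (nat_lit 0))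
theorem qo1b1 : allR 0 24 (ptB 24 (nat_lit 5) (nat_lit 31) m2T qo1T qo1J m2L1 [m2L2, m2L3, m2L4, m2L5, m2L6] qo1L1 (dg [m2L0.b]) qo1F1.1 qo1F1.2) = true := by decide +kernel
noncomputable def qo1F2 : ℕ × ℕ := ((nat_lit 0xffffffffff00ffffffffff00ffffff00ffffffffffffffff), (nat_lit 0))
theorem qo1b2 : allR 0 24 (ptB 24 (nat_lit 5) (nat_lit 31) m2T qo1T qo1J m2L2 [m2L3, m2L4, m2L5, m2L6] qo1L2 (dg [m2L1.b, m2L0.b]) qo1F2.1 qo1F2.2) = true := by decide +kernel
noncomputable def qo1F3 : ℕ × ℕ := ((nat_lit 0xffffffffff00ffffffff0000ffffff00ffffffff00ffffff), (nat_lit 0))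
theorem qo1b3 : allR 0 24 (ptB 24 (nat_lit 5) (nat_lit 31) m2T qo1T qo1J m2L3 [m2L4, m2L5, m2L6] qo1L3 (dg [m2L2.b, m2L1.b, m2L0.b]) qo1F3.1 qo1F3.2) = true := by decide +kernel
noncomputable def qo1F4 : ℕ × ℕ := ((nat_lit 0xffffffffff00ffffffff0000ffffff00ffffffff00ffffff), (nat_lit 0))
theorem qo1b4 : allR 0 24 (ptB 24 (nat_lit 5) (nat_lit 31) m2T qo1T qo1J m2L4 [m2L5, m2L6] qo1L4 (dg [m2L3.b, m2L2.b, m2L1.b, m2L0.b]) qo1F4.1 qo1F4.2) = true := by decide +kernel
noncomputable def qo1F5 : ℕ × ℕ := ((nat_lit 0xffffffffff00ff0000ff0000ffffff0000ffffff00ff00ff), (nat_lit 0))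
theorem qo1b5 : allR 0 24 (ptB 24 (nat_lit 5) (nat_lit 31) m2T qo1T qo1J m2L5 [m2L6] qo1L5 (dg [m2L4.b, m2L3.b, m2L2.b, m2L1.b, m2L0.b]) qo1F5.1 qo1F5.2) = true := by decide +kernel
noncomputable def qo1F6 : ℕ × ℕ := ((nat_lit 0xff00000000000000ff00000000000000), (nat_lit 0))
theorem qo1b6 : allR 0 24 (ptB 24 (nat_lit 5) (nat_lit 31) m2T qo1T qo1J m2L6 [] qo1L6 (dg [m2L5.b, m2L4.b, m2L3.b, m2L2.b, m2L1.b, m2L0.b]) qo1F6.1 qo1F6.2) = true := by decide +kernel
theorem qo1bk : Bk 24 (nat_lit 5) (nat_lit 31) m2T qo1T qo1J m2L qo1L [qo1F0, qo1F1, qo1F2, qo1F3, qo1F4, qo1F5, qo1F6] [] :=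
  ⟨rfl, qo1b0, rfl, qo1b1, rfl, qo1b2, rfl, qo1b3, rfl, qo1b4, rfl, qo1b5, rfl, qo1b6, trivial⟩
theorem qo1tc : tchainChk 24 (nat_lit 5) (nat_lit 31) qo1T qo1L = true := by decide +kernel
theorem qo1ch {C : H7.Coding GolayPt} (hC : GC C) : Ch (SM M24 C [] [340831] [[7, 336, 70144, 270344], [7, 584, 73744, 266496]]) 24 5 31 C.dec qo1T qo1L :=
  (hC.chSM (hC.ch m2c) qo1e qo1tc qo1bk)
theorem qo1card {C : H7.Coding GolayPt} (hC : GC C) : Nat.card (SM M24 C [] [340831] [[7, 336, 70144, 270344], [7, 584, 73744, 266496]]) = 36 := (qo1ch hC).card.trans (by decide +kernel)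
noncomputable def m3t0 : ℕ := (nat_lit 0xa846d31cb1b496ca4d2872a04b89e0)
noncomputable def m3t1 : ℕ := (nat_lit 0x1beeb53a0509e8c6992894e24a8ac0)
noncomputable def m3t2 : ℕ := (nat_lit 0x1c8909d8f42ac2c72928899f5b89a0)
noncomputable def m3t3 : ℕ := (nat_lit 0x7c56199ecdb920caa9289186e28a80)
noncomputable def m3t4 : ℕ := (nat_lit 0x35aa768e2a1166c5c128a5dc193c80)
noncomputable def m3t5 : ℕ := (nat_lit 0x82a6995647b84c89d28552501b6f6)
noncomputable def m3t6 : ℕ := (nat_lit 0x61cd12068d7ba1758d28b54b350a40)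
noncomputable def m3t7 : ℕ := (nat_lit 0x711219c9f08dd8d5aaa800cb630a87)
noncomputable def m3t8 : ℕ := (nat_lit 0xb5d549c90910dac5d611200a773c26)
noncomputable def m3T : Tr ℕ := (.node (nat_lit 4) (.node (nat_lit 2) (.node (nat_lit 1) (.leaf m3t0) (.leaf m3t1)) (.node (nat_lit 3) (.leaf m3t2) (.leaf m3t3)))
 (.node (nat_lit 6) (.node (nat_lit 5) (.leaf m3t4) (.leaf m3t5)) (.node (nat_lit 7) (.leaf m3t6) (.node (nat_lit 8) (.leaf m3t7) (.leaf m3t8)))))
noncomputable def m3L0 : Lev := ⟨(nat_lit 8), (nat_lit 9), (nat_lit 0x90404070506090108050408060509000306020604050208), (nat_lit 0x30203020403010202030304020303000203020303030303),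
 (.leaf 0),
 (.leaf 0)⟩
noncomputable def m3L1 : Lev := ⟨(nat_lit 9), (nat_lit 8), (nat_lit 0x10808020705060604080107040700000107040302050606), (nat_lit 0x20301030303030303030303020300000402030202040304),
 (.leaf 0),
 (.leaf 0)⟩
noncomputable def m3L2 : Lev := ⟨(nat_lit 12), (nat_lit 7), (nat_lit 0x70202060105010204050300040700000205040301050606), (nat_lit 0x10302030303040402040300030300000402030302030204),
 (.leaf 0),
 (.leaf 0)⟩
noncomputable def m3L3 : Lev := ⟨(nat_lit 0), (nat_lit 6), (nat_lit 0x40602040503040101010300060600000205030505050200), (nat_lit 0x30104030402020302030300030400000304030303030200),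
 (.leaf 0),
 (.leaf 0)⟩
noncomputable def m3L4 : Lev := ⟨(nat_lit 2), (nat_lit 5), (nat_lit 0x40202040503040205050300020500000505030504000100), (nat_lit 0x20203030403030301030300040400000403020303000200),
 (.leaf 0),
 (.leaf 0)⟩
noncomputable def m3L5 : Lev := ⟨(nat_lit 4), (nat_lit 4), (nat_lit 0x10303020002030204040100040000000100040002000100), (nat_lit 0x20301030002030403010300020000000200030002000400),
 (.leaf 0),
 (.leaf 0)⟩
noncomputable def m3L6 : Lev := ⟨(nat_lit 3), (nat_lit 2), (nat_lit 0x20001000000000000000000000000000000000000000000), (nat_lit 0x10001000000000000000000000000000000000000000000),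
 (.leaf 0),
 (.leaf 0)⟩
noncomputable def m3L : List Lev := [m3L0, m3L1, m3L2, m3L3, m3L4, m3L5, m3L6]
theorem m3c : band (m3T.all fun c => m24Chk (ap 5 31 c)) (band (tchainChk 24 5 31 m3T m3L) (Nat.ble 244823040 (chainOrd 24 m3L))) = true := by decide +kernel
noncomputable def qo2t0 : ℕ := (nat_lit 0x7da9588670bb80c3a928590a610e4d)
noncomputable def qo2t1 : ℕ := (nat_lit 0x9aa95b81f08b8295d988398a410db2)
noncomputable def qo2t2 : ℕ := (nat_lit 0x5beb4b24e3539928cda2b84a082086)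
noncomputable def qo2t3 : ℕ := (nat_lit 0x3ceb453163b392dbbe42880a1820c4)
noncomputable def qo2T : Tr ℕ := (.node (nat_lit 2) (.node (nat_lit 1) (.leaf qo2t0) (.leaf qo2t1)) (.node (nat_lit 3) (.leaf qo2t2) (.leaf qo2t3)))
noncomputable def qo2L0 : Lev := ⟨(nat_lit 8), (nat_lit 4), (nat_lit 0x300000000000000000000000001030000), (nat_lit 0x300000000000000000000000002010000),
 (.leaf 0),
 (.leaf 0)⟩
noncomputable def qo2L1 : Lev := ⟨(nat_lit 9), (nat_lit 2), (nat_lit 0x2000000000000000000000000), (nat_lit 0x1000000000000000000000000),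
 (.leaf 0),
 (.leaf 0)⟩
noncomputable def qo2L2 : Lev := ⟨(nat_lit 12), (nat_lit 1), (nat_lit 0x0), (nat_lit 0x0),
 (.leaf 0),
 (.leaf 0)⟩
noncomputable def qo2L3 : Lev := ⟨(nat_lit 0), (nat_lit 1), (nat_lit 0x100000000000000000000000000), (nat_lit 0x100000000000000000000000000),
 (.leaf 0),
 (.leaf 0)⟩
noncomputable def qo2L4 : Lev := ⟨(nat_lit 2), (nat_lit 0), (nat_lit 0x0), (nat_lit 0x0),
 (.leaf 0),
 (.leaf 0)⟩
noncomputable def qo2L5 : Lev := ⟨(nat_lit 4), (nat_lit 0), (nat_lit 0x0), (nat_lit 0x0),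
 (.leaf 0),
 (.leaf 0)⟩
noncomputable def qo2L6 : Lev := ⟨(nat_lit 3), (nat_lit 0), (nat_lit 0x0), (nat_lit 0x0),
 (.leaf 0),
 (.leaf 0)⟩
noncomputable def qo2L : List Lev := [qo2L0, qo2L1, qo2L2, qo2L3, qo2L4, qo2L5, qo2L6]
theorem qo2e : smC [] [340831] [[7, 336, 70144, 270344], [11, 4864, 65616, 270340]] qo2T = true := by decide +kernel
noncomputable def qo2J : List Pr := [prSM 24 (allM [] [340831]) [[7, 336, 70144, 270344], [11, 4864, 65616, 270340]]]
noncomputable def qo2F0 : ℕ × ℕ := ((nat_lit 0xffffffffff02ff00ffff0301ffffff00ff02ff0300000001), (nat_lit 0x1000000000101000000000003000300000202))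
theorem qo2b0 : allR 0 24 (ptB 24 (nat_lit 5) (nat_lit 31) m3T qo2T qo2J m3L0 [m3L1, m3L2, m3L3, m3L4, m3L5, m3L6] qo2L0 (dg []) qo2F0.1 qo2F0.2) = true := by decide +kernel
noncomputable def qo2F1 : ℕ × ℕ := ((nat_lit 0xffffffffffffffffffffff00ffff0000ffffffffffffffff), (nat_lit 0))
theorem qo2b1 : allR 0 24 (ptB 24 (nat_lit 5) (nat_lit 31) m3T qo2T qo2J m3L1 [m3L2, m3L3, m3L4, m3L5, m3L6] qo2L1 (dg [m3L0.b]) qo2F1.1 qo2F1.2) = true := by decide +kernel
noncomputable def qo2F2 : ℕ × ℕ := ((nat_lit 0xffffffffffffffffffffff00ffff0000ffffffffffffffff), (nat_lit 0))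
theorem qo2b2 : allR 0 24 (ptB 24 (nat_lit 5) (nat_lit 31) m3T qo2T qo2J m3L2 [m3L3, m3L4, m3L5, m3L6] qo2L2 (dg [m3L1.b, m3L0.b]) qo2F2.1 qo2F2.2) = true := by decide +kernel
noncomputable def qo2F3 : ℕ × ℕ := ((nat_lit 0xffffffffffffffffffff0000ffff0000ffffffff00ff0000), (nat_lit 16777472))
theorem qo2b3 : allR 0 24 (ptB 24 (nat_lit 5) (nat_lit 31) m3T qo2T qo2J m3L3 [m3L4, m3L5, m3L6] qo2L3 (dg [m3L2.b, m3L1.b, m3L0.b]) qo2F3.1 qo2F3.2) = true := by decide +kernel
noncomputable def qo2F4 : ℕ × ℕ := ((nat_lit 0xffffffffffffffffffffff00ffff0000ffffffffff00ff00), (nat_lit 0))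
theorem qo2b4 : allR 0 24 (ptB 24 (nat_lit 5) (nat_lit 31) m3T qo2T qo2J m3L4 [m3L5, m3L6] qo2L4 (dg [m3L3.b, m3L2.b, m3L1.b, m3L0.b]) qo2F4.1 qo2F4.2) = true := by decide +kernel
noncomputable def qo2F5 : ℕ × ℕ := ((nat_lit 0xffffffff00ffffffffffff00ff000000ff00ff00ff00ff00), (nat_lit 0))
theorem qo2b5 : allR 0 24 (ptB 24 (nat_lit 5) (nat_lit 31) m3T qo2T qo2J m3L5 [m3L6] qo2L5 (dg [m3L4.b, m3L3.b, m3L2.b, m3L1.b, m3L0.b]) qo2F5.1 qo2F5.2) = true := by decide +kernel
noncomputable def qo2F6 : ℕ × ℕ := ((nat_lit 0xff00ff000000000000000000000000000000000000000000), (nat_lit 0))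
theorem qo2b6 : allR 0 24 (ptB 24 (nat_lit 5) (nat_lit 31) m3T qo2T qo2J m3L6 [] qo2L6 (dg [m3L5.b, m3L4.b, m3L3.b, m3L2.b, m3L1.b, m3L0.b]) qo2F6.1 qo2F6.2) = true := by decide +kernel
theorem qo2bk : Bk 24 (nat_lit 5) (nat_lit 31) m3T qo2T qo2J m3L qo2L [qo2F0, qo2F1, qo2F2, qo2F3, qo2F4, qo2F5, qo2F6] [] :=
  ⟨rfl, qo2b0, rfl, qo2b1, rfl, qo2b2, rfl, qo2b3, rfl, qo2b4, rfl, qo2b5, rfl, qo2b6, trivial⟩
theorem qo2tc : tchainChk 24 (nat_lit 5) (nat_lit 31) qo2T qo2L = true := by decide +kernel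
theorem qo2ch {C : H7.Coding GolayPt} (hC : GC C) : Ch (SM M24 C [] [340831] [[7, 336, 70144, 270344], [11, 4864, 65616, 270340]]) 24 5 31 C.dec qo2T qo2L :=
  (hC.chSM (hC.ch m3c) qo2e qo2tc qo2bk)
theorem qo2card {C : H7.Coding GolayPt} (hC : GC C) : Nat.card (SM M24 C [] [340831] [[7, 336, 70144, 270344], [11, 4864, 65616, 270340]]) = 16 := (qo2ch hC).card.trans (by decide +kernel)
noncomputable def m4t0 : ℕ := (nat_lit 0x31c354498a8ddaf9952b23a1618a80)
noncomputable def m4t1 : ℕ := (nat_lit 0x712815c9e5619b144133b5d4718aa0)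
noncomputable def m4t2 : ℕ := (nat_lit 0x2d8cb849f38a1a0a052e3d6e41894c)
noncomputable def m4t3 : ℕ := (nat_lit 0x85a952c91773daa331313ae6418801)
noncomputable def m4t4 : ℕ := (nat_lit 0xb9aab748807cda8a292c0d851194f0)
noncomputable def m4t5 : ℕ := (nat_lit 0x5b8409c8b0659afba8c7426241d434)
noncomputable def m4t6 : ℕ := (nat_lit 0x79c8084a33bb8cc58828b34b51a934)
noncomputable def m4t7 : ℕ := (nat_lit 0x4ca2a9dab001dac252e8718ab1844f)
noncomputable def m4t8 : ℕ := (nat_lit 0x1d8076996e7c26c89528a4944b8835)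
noncomputable def m4T : Tr ℕ := (.node (nat_lit 4) (.node (nat_lit 2) (.node (nat_lit 1) (.leaf m4t0) (.leaf m4t1)) (.node (nat_lit 3) (.leaf m4t2) (.leaf m4t3)))
 (.node (nat_lit 6) (.node (nat_lit 5) (.leaf m4t4) (.leaf m4t5)) (.node (nat_lit 7) (.leaf m4t6) (.node (nat_lit 8) (.leaf m4t7) (.leaf m4t8)))))
noncomputable def m4L0 : Lev := ⟨(nat_lit 3), (nat_lit 9), (nat_lit 0x90603030509060407010701060108030802030800050705), (nat_lit 0x10303030303030202020303020302030302020300030303),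
 (.leaf 0),
 (.leaf 0)⟩
noncomputable def m4L1 : Lev := ⟨(nat_lit 18), (nat_lit 8), (nat_lit 0x10807010500050404060702080306060205060100060504), (nat_lit 0x30103040300030403020304030403030202040200040304),
 (.leaf 0),
 (.leaf 0)⟩
noncomputable def m4L2 : Lev := ⟨(nat_lit 13), (nat_lit 7), (nat_lit 0x10503010500060407020001040106030207030700060205), (nat_lit 0x20202030300040303020004020402030301030300030304),
 (.leaf 0),
 (.leaf 0)⟩
noncomputable def m4L3 : Lev := ⟨(nat_lit 9), (nat_lit 6), (nat_lit 0x10503010500060404020005040100030206030100060205), (nat_lit 0x20202030300040303020004020400030301030300030304),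
 (.leaf 0),
 (.leaf 0)⟩
noncomputable def m4L4 : Lev := ⟨(nat_lit 2), (nat_lit 5), (nat_lit 0x30501020400010202010004010100020502050200000305), (nat_lit 0x20404040200040204030003030200030403010500000303),
 (.leaf 0),
 (.leaf 0)⟩
noncomputable def m4L5 : Lev := ⟨(nat_lit 0), (nat_lit 4), (nat_lit 0x20001020100010102040003030400040003020000000400), (nat_lit 0x40002020400020302030001030200030003030000000100),
 (.leaf 0),
 (.leaf 0)⟩
noncomputable def m4L6 : Lev := ⟨(nat_lit 12), (nat_lit 2), (nat_lit 0x10002000000000000000000000000000000), (nat_lit 0x10001000000000000000000000000000000),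
 (.leaf 0),
 (.leaf 0)⟩
noncomputable def m4L : List Lev := [m4L0, m4L1, m4L2, m4L3, m4L4, m4L5, m4L6]
theorem m4c : band (m4T.all fun c => m24Chk (ap 5 31 c)) (band (tchainChk 24 5 31 m4T m4L) (Nat.ble 244823040 (chainOrd 24 m4L))) = true := by decide +kernel
noncomputable def qo3t0 : ℕ := (nat_lit 0xbae957b6289ba44b1cd0524ac18820)
noncomputable def qo3t1 : ℕ := (nat_lit 0x7c6ae98ed0bd1ac5a920288e191888)
noncomputable def qo3T : Tr ℕ := (.node (nat_lit 1) (.leaf qo3t0) (.leaf qo3t1))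
noncomputable def qo3L0 : Lev := ⟨(nat_lit 3), (nat_lit 2), (nat_lit 0x2000000000100000000000000000000000000), (nat_lit 0x1000000000200000000000000000000000000),
 (.leaf 0),
 (.leaf 0)⟩
noncomputable def qo3L1 : Lev := ⟨(nat_lit 18), (nat_lit 1), (nat_lit 0x100000000000000000000000000), (nat_lit 0x100000000000000000000000000),
 (.leaf 0),
 (.leaf 0)⟩
noncomputable def qo3L2 : Lev := ⟨(nat_lit 13), (nat_lit 0), (nat_lit 0x0), (nat_lit 0x0),
 (.leaf 0),
 (.leaf 0)⟩
noncomputable def qo3L3 : Lev := ⟨(nat_lit 9), (nat_lit 0), (nat_lit 0x0), (nat_lit 0x0),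
 (.leaf 0),
 (.leaf 0)⟩
noncomputable def qo3L4 : Lev := ⟨(nat_lit 2), (nat_lit 0), (nat_lit 0x0), (nat_lit 0x0),
 (.leaf 0),
 (.leaf 0)⟩
noncomputable def qo3L5 : Lev := ⟨(nat_lit 0), (nat_lit 0), (nat_lit 0x0), (nat_lit 0x0),
 (.leaf 0),
 (.leaf 0)⟩
noncomputable def qo3L6 : Lev := ⟨(nat_lit 12), (nat_lit 0), (nat_lit 0x0), (nat_lit 0x0),
 (.leaf 0),
 (.leaf 0)⟩
noncomputable def qo3L : List Lev := [qo3L0, qo3L1, qo3L2, qo3L3, qo3L4, qo3L5, qo3L6]
theorem qo3e : smC [] [340831] [[7, 336, 70144, 270344], [11, 580, 77824, 262416]] qo3T = true := by decide +kernel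
noncomputable def qo3J : List Pr := [prSM 24 (allM [] [340831]) [[7, 336, 70144, 270344], [11, 580, 77824, 262416]]]
noncomputable def qo3F0 : ℕ × ℕ := ((nat_lit 0xffffffffff00ffffffff00ffffff0000ffffff0000010101), (nat_lit 0x1010000000100010202))
theorem qo3b0 : allR 0 24 (ptB 24 (nat_lit 5) (nat_lit 31) m4T qo3T qo3J m4L0 [m4L1, m4L2, m4L3, m4L4, m4L5, m4L6] qo3L0 (dg []) qo3F0.1 qo3F0.2) = true := by decide +kernel
noncomputable def qo3F1 : ℕ × ℕ := ((nat_lit 0xffffffffff00ffffffff00ffffffffffffffffff00ffffff), (nat_lit 0))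
theorem qo3b1 : allR 0 24 (ptB 24 (nat_lit 5) (nat_lit 31) m4T qo3T qo3J m4L1 [m4L2, m4L3, m4L4, m4L5, m4L6] qo3L1 (dg [m4L0.b]) qo3F1.1 qo3F1.2) = true := by decide +kernel
noncomputable def qo3F2 : ℕ × ℕ := ((nat_lit 0xffffffffff00ffffffff00ffffffffffffffffff00ffffff), (nat_lit 0))
theorem qo3b2 : allR 0 24 (ptB 24 (nat_lit 5) (nat_lit 31) m4T qo3T qo3J m4L2 [m4L3, m4L4, m4L5, m4L6] qo3L2 (dg [m4L1.b, m4L0.b]) qo3F2.1 qo3F2.2) = true := by decide +kernel
noncomputable def qo3F3 : ℕ × ℕ := ((nat_lit 0xffffffffff00ffffffff00ffffff00ffffffffff00ffffff), (nat_lit 0))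
theorem qo3b3 : allR 0 24 (ptB 24 (nat_lit 5) (nat_lit 31) m4T qo3T qo3J m4L3 [m4L4, m4L5, m4L6] qo3L3 (dg [m4L2.b, m4L1.b, m4L0.b]) qo3F3.1 qo3F3.2) = true := by decide +kernel
noncomputable def qo3F4 : ℕ × ℕ := ((nat_lit 0xffffffffff00ffffffff00ffffff00ffffffffff0000ffff), (nat_lit 0))
theorem qo3b4 : allR 0 24 (ptB 24 (nat_lit 5) (nat_lit 31) m4T qo3T qo3J m4L4 [m4L5, m4L6] qo3L4 (dg [m4L3.b, m4L2.b, m4L1.b, m4L0.b]) qo3F4.1 qo3F4.2) = true := by decide +kernel
noncomputable def qo3F5 : ℕ × ℕ := ((nat_lit 0xff00ffffff00ffffffff00ffffff00ff00ffff000000ff00), (nat_lit 0))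
theorem qo3b5 : allR 0 24 (ptB 24 (nat_lit 5) (nat_lit 31) m4T qo3T qo3J m4L5 [m4L6] qo3L5 (dg [m4L4.b, m4L3.b, m4L2.b, m4L1.b, m4L0.b]) qo3F5.1 qo3F5.2) = true := by decide +kernel
noncomputable def qo3F6 : ℕ × ℕ := ((nat_lit 0xff00ff000000000000000000000000000000), (nat_lit 0))
theorem qo3b6 : allR 0 24 (ptB 24 (nat_lit 5) (nat_lit 31) m4T qo3T qo3J m4L6 [] qo3L6 (dg [m4L5.b, m4L4.b, m4L3.b, m4L2.b, m4L1.b, m4L0.b]) qo3F6.1 qo3F6.2) = true := by decide +kernel
theorem qo3bk : Bk 24 (nat_lit 5) (nat_lit 31) m4T qo3T qo3J m4L qo3L [qo3F0, qo3F1, qo3F2, qo3F3, qo3F4, qo3F5, qo3F6] [] :=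
  ⟨rfl, qo3b0, rfl, qo3b1, rfl, qo3b2, rfl, qo3b3, rfl, qo3b4, rfl, qo3b5, rfl, qo3b6, trivial⟩
theorem qo3tc : tchainChk 24 (nat_lit 5) (nat_lit 31) qo3T qo3L = true := by decide +kernel
theorem qo3ch {C : H7.Coding GolayPt} (hC : GC C) : Ch (SM M24 C [] [340831] [[7, 336, 70144, 270344], [11, 580, 77824, 262416]]) 24 5 31 C.dec qo3T qo3L :=
  (hC.chSM (hC.ch m4c) qo3e qo3tc qo3bk)
theorem qo3card {C : H7.Coding GolayPt} (hC : GC C) : Nat.card (SM M24 C [] [340831] [[7, 336, 70144, 270344], [11, 580, 77824, 262416]]) = 6 := (qo3ch hC).card.trans (by decide +kernel)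
noncomputable def m5t0 : ℕ := (nat_lit 0x7a5b564a0a24e8eb45672991718820)
noncomputable def m5t1 : ℕ := (nat_lit 0x22e8d74951bb2b34c2c5418ef18820)
noncomputable def m5t2 : ℕ := (nat_lit 0x75a95434af85e4a5b13321a2718820)
noncomputable def m5t3 : ℕ := (nat_lit 0x3da68ac152691e55c534b998e18820)
noncomputable def m5t4 : ℕ := (nat_lit 0xbba304aeb42d9a292a68219e71b020)
noncomputable def m5t5 : ℕ := (nat_lit 0xbb1f499c49a94d65a20a935c41c420)
noncomputable def m5t6 : ℕ := (nat_lit 0x5a0328d2703b1aeba936790a618aa0)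
noncomputable def m5t7 : ℕ := (nat_lit 0x7cdd0b1934bd5aa5b228048a418827)
noncomputable def m5t8 : ℕ := (nat_lit 0x95aa735c487b8655a930a4d806c424)
noncomputable def m5T : Tr ℕ := (.node (nat_lit 4) (.node (nat_lit 2) (.node (nat_lit 1) (.leaf m5t0) (.leaf m5t1)) (.node (nat_lit 3) (.leaf m5t2) (.leaf m5t3)))
 (.node (nat_lit 6) (.node (nat_lit 5) (.leaf m5t4) (.leaf m5t5)) (.node (nat_lit 7) (.leaf m5t6) (.node (nat_lit 8) (.leaf m5t7) (.leaf m5t8)))))
noncomputable def m5L0 : Lev := ⟨(nat_lit 3), (nat_lit 9), (nat_lit 0x90801020403050504080902050105040906050200060708), (nat_lit 0x30402020302030302030104030404030302030300040304),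
 (.leaf 0),
 (.leaf 0)⟩
noncomputable def m5L1 : Lev := ⟨(nat_lit 0), (nat_lit 8), (nat_lit 0x40706040306030407060304070605010807020300060700), (nat_lit 0x20303030302030302030303030304020103020200040400),
 (.leaf 0),
 (.leaf 0)⟩
noncomputable def m5L2 : Lev := ⟨(nat_lit 1), (nat_lit 7), (nat_lit 0x10707010407050506010202050105040706030200060000), (nat_lit 0x30401020203020302030203040303030303030300030000),
 (.leaf 0),
 (.leaf 0)⟩
noncomputable def m5L3 : Lev := ⟨(nat_lit 6), (nat_lit 6), (nat_lit 0x10201020403050504010602050105040600050200060000), (nat_lit 0x30402020302030302040104030404030300030300040000),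
 (.leaf 0),
 (.leaf 0)⟩
noncomputable def m5L4 : Lev := ⟨(nat_lit 2), (nat_lit 5), (nat_lit 0x30504040104020105020205020305030100040400000000), (nat_lit 0x30303040204030303020401040203030300020300000000),
 (.leaf 0),
 (.leaf 0)⟩
noncomputable def m5L5 : Lev := ⟨(nat_lit 18), (nat_lit 4), (nat_lit 0x10001020400010404010303000200040200030200000000), (nat_lit 0x30002020300020102040103000200030400030300000000),
 (.leaf 0),
 (.leaf 0)⟩
noncomputable def m5L6 : Lev := ⟨(nat_lit 8), (nat_lit 2), (nat_lit 0x200010000000000), (nat_lit 0x100010000000000),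
 (.leaf 0),
 (.leaf 0)⟩
noncomputable def m5L : List Lev := [m5L0, m5L1, m5L2, m5L3, m5L4, m5L5, m5L6]
theorem m5c : band (m5T.all fun c => m24Chk (ap 5 31 c)) (band (tchainChk 24 5 31 m5T m5L) (Nat.ble 244823040 (chainOrd 24 m5L))) = true := by decide +kernel
noncomputable def qo4t0 : ℕ := (nat_lit 0xbae957b6289ba44b1cd0524ac18820)
noncomputable def qo4t1 : ℕ := (nat_lit 0x89e959cae87b9a652c90b30a918801)
noncomputable def qo4T : Tr ℕ := (.node (nat_lit 1) (.leaf qo4t0) (.leaf qo4t1))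
noncomputable def qo4L0 : Lev := ⟨(nat_lit 3), (nat_lit 2), (nat_lit 0x0), (nat_lit 0x0),
 (.leaf 0),
 (.leaf 0)⟩
noncomputable def qo4L1 : Lev := ⟨(nat_lit 0), (nat_lit 2), (nat_lit 0x200), (nat_lit 0x100),
 (.leaf 0),
 (.leaf 0)⟩
noncomputable def qo4L2 : Lev := ⟨(nat_lit 1), (nat_lit 1), (nat_lit 0x0), (nat_lit 0x0),
 (.leaf 0),
 (.leaf 0)⟩
noncomputable def qo4L3 : Lev := ⟨(nat_lit 6), (nat_lit 1), (nat_lit 0x1000000000000000000), (nat_lit 0x1000000000000000000),
 (.leaf 0),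
 (.leaf 0)⟩
noncomputable def qo4L4 : Lev := ⟨(nat_lit 2), (nat_lit 0), (nat_lit 0x0), (nat_lit 0x0),
 (.leaf 0),
 (.leaf 0)⟩
noncomputable def qo4L5 : Lev := ⟨(nat_lit 18), (nat_lit 0), (nat_lit 0x0), (nat_lit 0x0),
 (.leaf 0),
 (.leaf 0)⟩
noncomputable def qo4L6 : Lev := ⟨(nat_lit 8), (nat_lit 0), (nat_lit 0x0), (nat_lit 0x0),
 (.leaf 0),
 (.leaf 0)⟩
noncomputable def qo4L : List Lev := [qo4L0, qo4L1, qo4L2, qo4L3, qo4L4, qo4L5, qo4L6]
theorem qo4e : smC [] [340831] [[7, 336, 70144, 270344], [11, 8720, 65796, 266304]] qo4T = true := by decide +kernel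
noncomputable def qo4J : List Pr := [prSM 24 (allM [] [340831]) [[7, 336, 70144, 270344], [11, 8720, 65796, 266304]]]
noncomputable def qo4F0 : ℕ × ℕ := ((nat_lit 0xffffffffff00ff00ffffff01ffff00ffffffff0100ffff01), (nat_lit 0x1000100000001000001000000000200000001))
theorem qo4b0 : allR 0 24 (ptB 24 (nat_lit 5) (nat_lit 31) m5T qo4T qo4J m5L0 [m5L1, m5L2, m5L3, m5L4, m5L5, m5L6] qo4L0 (dg []) qo4F0.1 qo4F0.2) = true := by decide +kernel
noncomputable def qo4F1 : ℕ × ℕ := ((nat_lit 0xffffffffffffffffffffffffffffffffffffffff00ff0000), (nat_lit 0))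
theorem qo4b1 : allR 0 24 (ptB 24 (nat_lit 5) (nat_lit 31) m5T qo4T qo4J m5L1 [m5L2, m5L3, m5L4, m5L5, m5L6] qo4L1 (dg [m5L0.b]) qo4F1.1 qo4F1.2) = true := by decide +kernel
noncomputable def qo4F2 : ℕ × ℕ := ((nat_lit 0xffffffffffffffffffffffffffffffffffffffff00ff0000), (nat_lit 0))
theorem qo4b2 : allR 0 24 (ptB 24 (nat_lit 5) (nat_lit 31) m5T qo4T qo4J m5L2 [m5L3, m5L4, m5L5, m5L6] qo4L2 (dg [m5L1.b, m5L0.b]) qo4F2.1 qo4F2.2) = true := by decide +kernel
noncomputable def qo4F3 : ℕ × ℕ := ((nat_lit 0xffffffffffffff00ffffff00ffff00ffff00ffff00ff0000), (nat_lit 0x100000001000000000000000000000000))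
theorem qo4b3 : allR 0 24 (ptB 24 (nat_lit 5) (nat_lit 31) m5T qo4T qo4J m5L3 [m5L4, m5L5, m5L6] qo4L3 (dg [m5L2.b, m5L1.b, m5L0.b]) qo4F3.1 qo4F3.2) = true := by decide +kernel
noncomputable def qo4F4 : ℕ × ℕ := ((nat_lit 0xffffffffffffffffffffffffffffffffff00ffff00000000), (nat_lit 0))
theorem qo4b4 : allR 0 24 (ptB 24 (nat_lit 5) (nat_lit 31) m5T qo4T qo4J m5L4 [m5L5, m5L6] qo4L4 (dg [m5L3.b, m5L2.b, m5L1.b, m5L0.b]) qo4F4.1 qo4F4.2) = true := by decide +kernel
noncomputable def qo4F5 : ℕ × ℕ := ((nat_lit 0xff00ffffff00ffffffffffff00ff00ffff00ffff00000000), (nat_lit 0))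
theorem qo4b5 : allR 0 24 (ptB 24 (nat_lit 5) (nat_lit 31) m5T qo4T qo4J m5L5 [m5L6] qo4L5 (dg [m5L4.b, m5L3.b, m5L2.b, m5L1.b, m5L0.b]) qo4F5.1 qo4F5.2) = true := by decide +kernel
noncomputable def qo4F6 : ℕ × ℕ := ((nat_lit 0xff00ff0000000000), (nat_lit 0))
theorem qo4b6 : allR 0 24 (ptB 24 (nat_lit 5) (nat_lit 31) m5T qo4T qo4J m5L6 [] qo4L6 (dg [m5L5.b, m5L4.b, m5L3.b, m5L2.b, m5L1.b, m5L0.b]) qo4F6.1 qo4F6.2) = true := by decide +kernel
theorem qo4bk : Bk 24 (nat_lit 5) (nat_lit 31) m5T qo4T qo4J m5L qo4L [qo4F0, qo4F1, qo4F2, qo4F3, qo4F4, qo4F5, qo4F6] [] :=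
  ⟨rfl, qo4b0, rfl, qo4b1, rfl, qo4b2, rfl, qo4b3, rfl, qo4b4, rfl, qo4b5, rfl, qo4b6, trivial⟩
theorem qo4tc : tchainChk 24 (nat_lit 5) (nat_lit 31) qo4T qo4L = true := by decide +kernel
theorem qo4ch {C : H7.Coding GolayPt} (hC : GC C) : Ch (SM M24 C [] [340831] [[7, 336, 70144, 270344], [11, 8720, 65796, 266304]]) 24 5 31 C.dec qo4T qo4L :=
  (hC.chSM (hC.ch m5c) qo4e qo4tc qo4bk)
theorem qo4card {C : H7.Coding GolayPt} (hC : GC C) : Nat.card (SM M24 C [] [340831] [[7, 336, 70144, 270344], [11, 8720, 65796, 266304]]) = 4 := (qo4ch hC).card.trans (by decide +kernel)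
noncomputable def qW : Tr (ℕ × List ℕ) := (.node (nat_lit 0x40300011002002009000054) (.node (nat_lit 0x40048012001001300000016) (.node (nat_lit 0x4001101220000104400010a) (.node (nat_lit 0x40009010202003010000144) (.node (nat_lit 0x4000501030000200a001050) (.node (nat_lit 0x40003012100001048000214) (.node (nat_lit 0x40003010208002050001104) (.leaf (3, [nat_lit 4, nat_lit 1])) (.node (nat_lit 0x4000301101000200c000340) (.leaf (3, [nat_lit 0, nat_lit 1])) (.leaf (2, [nat_lit 0, nat_lit 1])))) (.node (nat_lit 0x40005010018002240001102) (.leaf (4, [nat_lit 0, nat_lit 1])) (.node (nat_lit 0x40005010042002110001208) (.leaf (4, [nat_lit 3, nat_lit 1])) (.leaf (3, [nat_lit 3, nat_lit 0, nat_lit 4, nat_lit 1])))))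
 (.node (nat_lit 0x40006010110002009001240) (.node (nat_lit 0x40005013000000212000148) (.leaf (2, [nat_lit 3, nat_lit 1])) (.node (nat_lit 0x40006010041003010000308) (.leaf (3, [nat_lit 3, nat_lit 1])) (.leaf (4, [nat_lit 4, nat_lit 3, nat_lit 4, nat_lit 1]))))
 (.node (nat_lit 0x40006012200001101000058) (.node (nat_lit 0x40006011008002140000211) (.leaf (2, [nat_lit 4, nat_lit 0, nat_lit 2])) (.leaf (3, [nat_lit 3, nat_lit 4]))) (.node (nat_lit 0x40009010014002300001042) (.leaf (3, [nat_lit 0, nat_lit 4])) (.leaf (4, [nat_lit 2, nat_lit 4, nat_lit 2, nat_lit 0, nat_lit 1]))))))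
 (.node (nat_lit 0x4000c010011003040000302) (.node (nat_lit 0x4000a010140002005001210) (.node (nat_lit 0x40009011100002006000250) (.leaf (3, [nat_lit 4, nat_lit 3, nat_lit 2])) (.node (nat_lit 0x40009012040001204000112) (.leaf (2, [nat_lit 0, nat_lit 4, nat_lit 0, nat_lit 2])) (.leaf (3, [nat_lit 4, nat_lit 2, nat_lit 1]))))
 (.node (nat_lit 0x4000a011004002240000111) (.node (nat_lit 0x4000a010201003100000054) (.leaf (2, [nat_lit 1, nat_lit 3])) (.leaf (3, [nat_lit 3, nat_lit 1, nat_lit 4, nat_lit 2]))) (.node (nat_lit 0x4000a012010001041000304) (.leaf (3, [nat_lit 2, nat_lit 4, nat_lit 2])) (.leaf (4, [nat_lit 2, nat_lit 4, nat_lit 2])))))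
 (.node (nat_lit 0x4000c012100001201000052) (.node (nat_lit 0x4000c010240002003001110) (.leaf (4, [nat_lit 2, nat_lit 4, nat_lit 2, nat_lit 1])) (.node (nat_lit 0x4000c011002002210000141) (.leaf (2, [nat_lit 1])) (.leaf (3, [nat_lit 0, nat_lit 1, nat_lit 4, nat_lit 2]))))
 (.node (nat_lit 0x40011010140003008000206) (.node (nat_lit 0x4001101000c002042001300) (.leaf (3, [nat_lit 0, nat_lit 4, nat_lit 2])) (.leaf (4, [nat_lit 4, nat_lit 1, nat_lit 2]))) (.node (nat_lit 0x40011011002002104000248) (.leaf (3, [nat_lit 3, nat_lit 2, nat_lit 4])) (.leaf (4, [nat_lit 3, nat_lit 4, nat_lit 2, nat_lit 1])))))))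
 (.node (nat_lit 0x4004101011000220400100a) (.node (nat_lit 0x4001401120000210100004a) (.node (nat_lit 0x4001201100100230000004c) (.node (nat_lit 0x40012010104002041001208) (.leaf (4, [nat_lit 4, nat_lit 1, nat_lit 3])) (.node (nat_lit 0x40012010240003004000109) (.leaf (4, [nat_lit 4])) (.leaf (4, [nat_lit 4, nat_lit 3, nat_lit 0, nat_lit 2]))))
 (.node (nat_lit 0x40014010009003002000340) (.node (nat_lit 0x40012012008001140000205) (.leaf (4, [nat_lit 3, nat_lit 4, nat_lit 2, nat_lit 0, nat_lit 1])) (.leaf (3, [nat_lit 3, nat_lit 2, nat_lit 1]))) (.node (nat_lit 0x40014010102002208001041) (.leaf (4, [nat_lit 2, nat_lit 1, nat_lit 3, nat_lit 4, nat_lit 1])) (.leaf (4, [nat_lit 3, nat_lit 2, nat_lit 4, nat_lit 1])))))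
 (.node (nat_lit 0x40018010300003001000046) (.node (nat_lit 0x40014012040001108000203) (.leaf (1, [nat_lit 3, nat_lit 4, nat_lit 3])) (.node (nat_lit 0x40018010005002140001202) (.leaf (4, [nat_lit 2, nat_lit 0, nat_lit 1])) (.leaf (2, [nat_lit 4, nat_lit 2]))))
 (.node (nat_lit 0x40018012002001104000241) (.node (nat_lit 0x40018011040002204000103) (.leaf (3, [nat_lit 3, nat_lit 0, nat_lit 2, nat_lit 4])) (.leaf (3, [nat_lit 3, nat_lit 4, nat_lit 1, nat_lit 2]))) (.node (nat_lit 0x40041010006003100000218) (.leaf (4, [nat_lit 3, nat_lit 0, nat_lit 2, nat_lit 4])) (.leaf (4, [nat_lit 4, nat_lit 3, nat_lit 4, nat_lit 2]))))))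
 (.node (nat_lit 0x40044010003003008000310) (.node (nat_lit 0x40042010005002208001110) (.node (nat_lit 0x4004101120000201200010c) (.leaf (4, [nat_lit 1, nat_lit 4, nat_lit 0, nat_lit 2])) (.node (nat_lit 0x40041012008001014000302) (.leaf (1, [nat_lit 4, nat_lit 3])) (.leaf (4, [nat_lit 3, nat_lit 2, nat_lit 4, nat_lit 0, nat_lit 1]))))
 (.node (nat_lit 0x40042010210002104001009) (.node (nat_lit 0x40042010108002011001204) (.leaf (3, [nat_lit 3, nat_lit 2, nat_lit 4, nat_lit 1])) (.leaf (4, [nat_lit 4, nat_lit 2, nat_lit 1]))) (.node (nat_lit 0x4004201300000030100001c) (.leaf (4, [nat_lit 4, nat_lit 3, nat_lit 1, nat_lit 2])) (.leaf (4, [nat_lit 3, nat_lit 4, nat_lit 0, nat_lit 1])))))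
 (.node (nat_lit 0x40044012010001202000109) (.node (nat_lit 0x40044010208002102001011) (.leaf (3, [nat_lit 2, nat_lit 0, nat_lit 4, nat_lit 1])) (.node (nat_lit 0x4004401110000220100001a) (.leaf (4, [nat_lit 4, nat_lit 3])) (.leaf (4, [nat_lit 3, nat_lit 4, nat_lit 0, nat_lit 2]))))
 (.node (nat_lit 0x40048010204002110001003) (.node (nat_lit 0x40048010102003004000211) (.leaf (4, [nat_lit 4, nat_lit 2])) (.leaf (4, [nat_lit 2, nat_lit 4, nat_lit 1, nat_lit 2]))) (.node (nat_lit 0x40048011010002202000105) (.leaf (2, [nat_lit 2])) (.leaf (3, [nat_lit 2, nat_lit 4, nat_lit 1, nat_lit 2]))))))))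
 (.node (nat_lit 0x40140011004002018000203) (.node (nat_lit 0x40104010012003200000049) (.node (nat_lit 0x4010101020400304000001a) (.node (nat_lit 0x40050011008002003000304) (.node (nat_lit 0x4005001010100320000000e) (.leaf (3, [nat_lit 1, nat_lit 2, nat_lit 0, nat_lit 4])) (.node (nat_lit 0x40050010202002108001005) (.leaf (3, [nat_lit 3, nat_lit 1, nat_lit 4])) (.leaf (2, [nat_lit 3, nat_lit 2])))) (.node (nat_lit 0x40050012004001102000209) (.leaf (3, [nat_lit 0, nat_lit 4, nat_lit 1])) (.node (nat_lit 0x40101010050002208001006) (.leaf (4, [nat_lit 0, nat_lit 4, nat_lit 1])) (.leaf (3, [nat_lit 2, nat_lit 1, nat_lit 4])))))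
 (.node (nat_lit 0x40102010014003008000241) (.node (nat_lit 0x40101011008002014000242) (.leaf (4, [nat_lit 3, nat_lit 4, nat_lit 3, nat_lit 2])) (.node (nat_lit 0x4010101200200121000004c) (.leaf (4, [nat_lit 3, nat_lit 4])) (.leaf (4, [nat_lit 4, nat_lit 1, nat_lit 2, nat_lit 1]))))
 (.node (nat_lit 0x40102011200002044000019) (.node (nat_lit 0x40102010048002210001005) (.leaf (4, [nat_lit 3, nat_lit 2, nat_lit 4])) (.leaf (4, [nat_lit 3, nat_lit 2]))) (.node (nat_lit 0x4010201200100105000020c) (.leaf (1, [nat_lit 4])) (.leaf (4, [nat_lit 2, nat_lit 1, nat_lit 4, nat_lit 1]))))))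
 (.node (nat_lit 0x40108012004001240000013) (.node (nat_lit 0x40104012008001003000250) (.node (nat_lit 0x40104010201002042001018) (.leaf (4, [nat_lit 4, nat_lit 1])) (.node (nat_lit 0x4010401104000201100020a) (.leaf (4, [nat_lit 4, nat_lit 3, nat_lit 2, nat_lit 1])) (.leaf (4, [nat_lit 3, nat_lit 4, nat_lit 1, nat_lit 2]))))
 (.node (nat_lit 0x40108010210003002000045) (.node (nat_lit 0x40108010042002201001014) (.leaf (3, [nat_lit 2])) (.leaf (4, [nat_lit 2, nat_lit 4, nat_lit 0, nat_lit 2]))) (.node (nat_lit 0x40108011001002050000206) (.leaf (3, [nat_lit 3, nat_lit 1, nat_lit 2])) (.leaf (2, [nat_lit 1, nat_lit 4, nat_lit 3])))))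
 (.node (nat_lit 0x40110010208002005001042) (.node (nat_lit 0x40110010006002048001201) (.leaf (3, [nat_lit 0, nat_lit 2])) (.node (nat_lit 0x4011001004100220200100c) (.leaf (2, [nat_lit 4, nat_lit 2, nat_lit 0, nat_lit 1])) (.leaf (4, [nat_lit 1, nat_lit 4, nat_lit 0, nat_lit 1]))))
 (.node (nat_lit 0x4014001000a003001000214) (.node (nat_lit 0x4011001300000024400000b) (.leaf (3, [nat_lit 1, nat_lit 3])) (.leaf (3, []))) (.node (nat_lit 0x40140010011002006001208) (.leaf (4, [nat_lit 1, nat_lit 3, nat_lit 4, nat_lit 1])) (.leaf (3, [nat_lit 4])))))))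
 (.node (nat_lit 0x40208010003002014001140) (.node (nat_lit 0x4020201005000300100010c) (.node (nat_lit 0x40201010104003002000058) (.node (nat_lit 0x4014001220000101200000d) (.leaf (2, [nat_lit 2, nat_lit 0, nat_lit 1])) (.node (nat_lit 0x4020101000a002044001110) (.leaf (3, [nat_lit 4, nat_lit 1, nat_lit 3])) (.leaf (4, [nat_lit 2, nat_lit 0, nat_lit 4]))))
 (.node (nat_lit 0x4020101201000100c000142) (.node (nat_lit 0x40201011040002108000016) (.leaf (4, [nat_lit 0, nat_lit 4])) (.leaf (3, [nat_lit 1, nat_lit 3, nat_lit 2, nat_lit 4]))) (.node (nat_lit 0x40202010009002110001044) (.leaf (4, [nat_lit 0, nat_lit 4, nat_lit 3, nat_lit 2])) (.leaf (4, [nat_lit 1, nat_lit 4])))))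
 (.node (nat_lit 0x40204010048003100000013) (.node (nat_lit 0x40202011100002048000015) (.leaf (4, [nat_lit 2, nat_lit 1, nat_lit 4])) (.node (nat_lit 0x40202012004001018000141) (.leaf (3, [nat_lit 3, nat_lit 0, nat_lit 2])) (.leaf (4, [nat_lit 0, nat_lit 4, nat_lit 3, nat_lit 2, nat_lit 1]))))
 (.node (nat_lit 0x4020401101000204100010a) (.node (nat_lit 0x40204010101002018001042) (.leaf (4, [nat_lit 0, nat_lit 2])) (.leaf (4, [nat_lit 0, nat_lit 2, nat_lit 4]))) (.node (nat_lit 0x40204012002001009000150) (.leaf (4, [nat_lit 0, nat_lit 2, nat_lit 0, nat_lit 4])) (.leaf (1, [nat_lit 0, nat_lit 4]))))))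
 (.node (nat_lit 0x4021001200100100a000144) (.node (nat_lit 0x40208013000000106000051) (.node (nat_lit 0x40208010044002101001012) (.leaf (3, [nat_lit 2, nat_lit 1])) (.node (nat_lit 0x40208010110002042001005) (.leaf (4, [nat_lit 2, nat_lit 4, nat_lit 0, nat_lit 1])) (.leaf (3, [nat_lit 3, nat_lit 2]))))
 (.node (nat_lit 0x40210010108003040000007) (.node (nat_lit 0x4021001004200200c001101) (.leaf (2, [nat_lit 2, nat_lit 4, nat_lit 0, nat_lit 1])) (.leaf (4, [nat_lit 3, nat_lit 2, nat_lit 4, nat_lit 2]))) (.node (nat_lit 0x40210011004002102000049) (.leaf (1, [nat_lit 3])) (.leaf (4, [nat_lit 3, nat_lit 4, nat_lit 2])))))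
 (.node (nat_lit 0x4024001100100200a000114) (.node (nat_lit 0x4024001000c003010000103) (.leaf (4, [nat_lit 1, nat_lit 3, nat_lit 4, nat_lit 2])) (.node (nat_lit 0x40240010012002005001108) (.leaf (4, [nat_lit 1, nat_lit 2])) (.leaf (4, [nat_lit 1, nat_lit 3]))))
 (.node (nat_lit 0x40300010005002012001048) (.node (nat_lit 0x40240012100001006000019) (.leaf (3, [nat_lit 3, nat_lit 0, nat_lit 4, nat_lit 2])) (.leaf (4, [nat_lit 2, nat_lit 4, nat_lit 3, nat_lit 4]))) (.node (nat_lit 0x40300010018003004000043) (.leaf (4, [nat_lit 2, nat_lit 1, nat_lit 3])) (.leaf (4, [nat_lit 1, nat_lit 2, nat_lit 1])))))))))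
 (.node (nat_lit 0x4204001001400110100020a) (.node (nat_lit 0x4110001004400200a000211) (.node (nat_lit 0x41004012001000242000118) (.node (nat_lit 0x4100201000c002201000150) (.node (nat_lit 0x41001010108002202000054) (.node (nat_lit 0x4030001204000101100000e) (.leaf (3, [nat_lit 0, nat_lit 4, nat_lit 2, nat_lit 1])) (.node (nat_lit 0x4100101001200214000020c) (.leaf (4, [nat_lit 4, nat_lit 3, nat_lit 4])) (.leaf (4, [nat_lit 4, nat_lit 1, nat_lit 4])))) (.node (nat_lit 0x41001010240002018000106) (.leaf (4, [nat_lit 0, nat_lit 4, nat_lit 2, nat_lit 1])) (.node (nat_lit 0x4100101200400031000004a) (.leaf (3, [nat_lit 0, nat_lit 2, nat_lit 4])) (.leaf (4, [nat_lit 2, nat_lit 0, nat_lit 4, nat_lit 1])))))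
 (.node (nat_lit 0x41002012040000218000105) (.node (nat_lit 0x41002010011002108000244) (.leaf (1, [nat_lit 1, nat_lit 4])) (.node (nat_lit 0x41002010300002014000049) (.leaf (4, [nat_lit 0, nat_lit 2, nat_lit 4, nat_lit 1])) (.leaf (4, [nat_lit 4, nat_lit 1, nat_lit 3, nat_lit 2]))))
 (.node (nat_lit 0x41004010140002012000209) (.node (nat_lit 0x4100401000a002300000051) (.leaf (4, [nat_lit 1, nat_lit 3, nat_lit 2])) (.leaf (4, [nat_lit 0, nat_lit 4, nat_lit 2, nat_lit 0, nat_lit 1]))) (.node (nat_lit 0x41004010210002048000103) (.leaf (4, [nat_lit 2, nat_lit 4, nat_lit 1, nat_lit 4])) (.leaf (3, [nat_lit 1, nat_lit 2]))))))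
 (.node (nat_lit 0x41010010204002009000142) (.node (nat_lit 0x41008010101002044000212) (.node (nat_lit 0x41008010006002011000340) (.leaf (4, [nat_lit 1, nat_lit 4, nat_lit 1])) (.node (nat_lit 0x41008010050002102000205) (.leaf (3, [nat_lit 2, nat_lit 4])) (.leaf (3, [nat_lit 0, nat_lit 4, nat_lit 1, nat_lit 2]))))
 (.node (nat_lit 0x4101001000300224000010c) (.node (nat_lit 0x41008012200000114000043) (.leaf (4, [nat_lit 2, nat_lit 4])) (.leaf (2, [nat_lit 2, nat_lit 4]))) (.node (nat_lit 0x41010010048002006000301) (.leaf (4, [nat_lit 2, nat_lit 1])) (.leaf (4, [nat_lit 1, nat_lit 4, nat_lit 3, nat_lit 4])))))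
 (.node (nat_lit 0x4104001010400221000000b) (.node (nat_lit 0x4101001210000020a000045) (.leaf (3, [nat_lit 0, nat_lit 4, nat_lit 3, nat_lit 2])) (.node (nat_lit 0x41040010018002101000206) (.leaf (4, [nat_lit 3, nat_lit 1, nat_lit 2])) (.leaf (4, [nat_lit 2, nat_lit 4, nat_lit 3, nat_lit 4, nat_lit 1]))))
 (.node (nat_lit 0x41040012002000308000015) (.node (nat_lit 0x4104001020100200c000112) (.leaf (4, [])) (.leaf (3, [nat_lit 1, nat_lit 4, nat_lit 2]))) (.node (nat_lit 0x41100010009002204000052) (.leaf (4, [nat_lit 3, nat_lit 0, nat_lit 2])) (.leaf (4, [nat_lit 0, nat_lit 4, nat_lit 2])))))))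
 (.node (nat_lit 0x4200201104000031000000d) (.node (nat_lit 0x42001010048001202000114) (.node (nat_lit 0x41200010014002003000148) (.node (nat_lit 0x4110001020200204100001c) (.leaf (4, [nat_lit 0, nat_lit 2, nat_lit 4, nat_lit 2])) (.node (nat_lit 0x41100012010000248000007) (.leaf (4, [nat_lit 4, nat_lit 3, nat_lit 2])) (.leaf (1, []))))
 (.node (nat_lit 0x4120001010200205000000d) (.node (nat_lit 0x4120001004100210400001a) (.leaf (3, [nat_lit 1])) (.leaf (4, [nat_lit 4, nat_lit 0, nat_lit 1]))) (.node (nat_lit 0x41200012008000111000046) (.leaf (3, [nat_lit 3])) (.leaf (2, [nat_lit 4, nat_lit 0, nat_lit 1])))))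
 (.node (nat_lit 0x42001011004000308000052) (.node (nat_lit 0x42001010102001018000244) (.leaf (3, [nat_lit 1, nat_lit 4, nat_lit 2, nat_lit 1])) (.node (nat_lit 0x4200101021000114000000e) (.leaf (4, [nat_lit 2, nat_lit 4, nat_lit 3, nat_lit 2, nat_lit 1])) (.leaf (2, [nat_lit 4, nat_lit 3, nat_lit 4]))))
 (.node (nat_lit 0x42002010101001014000248) (.node (nat_lit 0x42002010018001201000144) (.leaf (3, [nat_lit 1, nat_lit 4, nat_lit 3, nat_lit 2])) (.leaf (3, [nat_lit 4, nat_lit 2, nat_lit 0, nat_lit 1]))) (.node (nat_lit 0x42002010204001108000051) (.leaf (4, [nat_lit 2, nat_lit 4, nat_lit 3, nat_lit 2])) (.leaf (3, [nat_lit 4, nat_lit 2, nat_lit 1, nat_lit 3]))))))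
 (.node (nat_lit 0x42008010104001011000242) (.node (nat_lit 0x42004010202001048000111) (.node (nat_lit 0x4200401005000130000000b) (.leaf (2, [nat_lit 3])) (.node (nat_lit 0x42004010108001012000241) (.leaf (2, [])) (.leaf (4, [nat_lit 1, nat_lit 2, nat_lit 4, nat_lit 2, nat_lit 1]))))
 (.node (nat_lit 0x42008010012001044000301) (.node (nat_lit 0x42004011001000218000142) (.leaf (3, [nat_lit 1, nat_lit 0, nat_lit 4, nat_lit 2])) (.leaf (3, [nat_lit 4, nat_lit 2, nat_lit 0, nat_lit 4]))) (.node (nat_lit 0x42008010041001102000214) (.leaf (1, [nat_lit 2, nat_lit 4, nat_lit 3])) (.leaf (1, [nat_lit 0, nat_lit 2, nat_lit 4, nat_lit 3])))))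
 (.node (nat_lit 0x42010010044001009000302) (.node (nat_lit 0x42008011200000150000007) (.leaf (1, [nat_lit 2, nat_lit 4])) (.node (nat_lit 0x4201001000a001240000105) (.leaf (0, [])) (.leaf (3, [nat_lit 1, nat_lit 3, nat_lit 2]))))
 (.node (nat_lit 0x4201001110000020c000043) (.node (nat_lit 0x42010010201001006000148) (.leaf (4, [nat_lit 0, nat_lit 2, nat_lit 4, nat_lit 3])) (.leaf (2, [nat_lit 0, nat_lit 4, nat_lit 3]))) (.node (nat_lit 0x42040010009001210000106) (.leaf (3, [nat_lit 1, nat_lit 2, nat_lit 1])) (.leaf (3, [nat_lit 4, nat_lit 1, nat_lit 2, nat_lit 1]))))))))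
 (.node (nat_lit 0x50008002012001101000244) (.node (nat_lit 0x4300001011000020300004c) (.node (nat_lit 0x42100011010000209000046) (.node (nat_lit 0x42100010003001204000058) (.node (nat_lit 0x4204001030000100c000013) (.leaf (4, [nat_lit 1, nat_lit 2, nat_lit 4, nat_lit 1])) (.node (nat_lit 0x42040011002000205000118) (.leaf (3, [nat_lit 1, nat_lit 2, nat_lit 4, nat_lit 1])) (.leaf (2, [nat_lit 3, nat_lit 2, nat_lit 1])))) (.node (nat_lit 0x4210001000c001041000212) (.leaf (2, [nat_lit 2, nat_lit 1])) (.node (nat_lit 0x4210001024000100a000015) (.leaf (4, [nat_lit 1, nat_lit 2, nat_lit 4])) (.leaf (3, [nat_lit 3, nat_lit 1, nat_lit 2, nat_lit 4, nat_lit 1])))))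
 (.node (nat_lit 0x4220001014000100300001c) (.node (nat_lit 0x42200010006001050000109) (.leaf (3, [nat_lit 1, nat_lit 2, nat_lit 4])) (.node (nat_lit 0x4220001001100110400004a) (.leaf (3, [nat_lit 2, nat_lit 4, nat_lit 3, nat_lit 1])) (.leaf (4, [nat_lit 2, nat_lit 4, nat_lit 3, nat_lit 1]))))
 (.node (nat_lit 0x4300001000500025000010a) (.node (nat_lit 0x42200011008000112000045) (.leaf (3, [nat_lit 4, nat_lit 1, nat_lit 4, nat_lit 2, nat_lit 1])) (.leaf (2, [nat_lit 3, nat_lit 4]))) (.node (nat_lit 0x43000010042000304000019) (.leaf (3, [nat_lit 2, nat_lit 1, nat_lit 3])) (.leaf (4, [nat_lit 2, nat_lit 4, nat_lit 3]))))))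
 (.node (nat_lit 0x5000200210100100c000250) (.node (nat_lit 0x5000100210200124000001c) (.node (nat_lit 0x43000010208000141000016) (.leaf (3, [nat_lit 2, nat_lit 0, nat_lit 1])) (.node (nat_lit 0x50001002048001012000304) (.leaf (2, [nat_lit 4, nat_lit 3])) (.leaf (4, [nat_lit 4, nat_lit 0, nat_lit 2, nat_lit 4]))))
 (.node (nat_lit 0x5000100300400020a000150) (.node (nat_lit 0x50001002210001108000046) (.leaf (4, [nat_lit 4, nat_lit 0, nat_lit 2])) (.leaf (4, [nat_lit 1, nat_lit 4, nat_lit 3, nat_lit 4, nat_lit 2]))) (.node (nat_lit 0x50002002018001300000045) (.leaf (1, [nat_lit 1, nat_lit 4, nat_lit 3])) (.leaf (3, [nat_lit 4, nat_lit 1, nat_lit 2])))))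
 (.node (nat_lit 0x5000400205000100a000301) (.node (nat_lit 0x50002002204001011000148) (.leaf (4, [nat_lit 0, nat_lit 4, nat_lit 0, nat_lit 2])) (.node (nat_lit 0x50002003040000209000114) (.leaf (4, [nat_lit 0, nat_lit 4, nat_lit 3])) (.leaf (4, [nat_lit 1, nat_lit 4, nat_lit 2, nat_lit 1]))))
 (.node (nat_lit 0x50004002202001140000019) (.node (nat_lit 0x50004002108001210000043) (.leaf (4, [nat_lit 1, nat_lit 4, nat_lit 3])) (.leaf (3, [nat_lit 0, nat_lit 2, nat_lit 4, nat_lit 1]))) (.node (nat_lit 0x50004003001000248000112) (.leaf (4, [nat_lit 4, nat_lit 1, nat_lit 4, nat_lit 2])) (.leaf (4, [nat_lit 1, nat_lit 4, nat_lit 2])))))))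
 (.node (nat_lit 0x50100002240001009000016) (.node (nat_lit 0x5001000310000024200000d) (.node (nat_lit 0x50008003200000142000015) (.node (nat_lit 0x50008002041001006000310) (.leaf (4, [nat_lit 2, nat_lit 4, nat_lit 1])) (.node (nat_lit 0x50008002104001050000203) (.leaf (3, [nat_lit 3, nat_lit 2, nat_lit 1, nat_lit 4])) (.leaf (3, [nat_lit 2, nat_lit 4, nat_lit 1]))))
 (.node (nat_lit 0x50010002044001003000308) (.node (nat_lit 0x5001000200a001204000141) (.leaf (2, [nat_lit 4, nat_lit 1])) (.leaf (3, [nat_lit 4, nat_lit 2, nat_lit 0, nat_lit 4, nat_lit 1]))) (.node (nat_lit 0x50010002201001048000106) (.leaf (4, [nat_lit 2])) (.leaf (4, [nat_lit 4, nat_lit 3, nat_lit 4, nat_lit 0, nat_lit 2])))))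
 (.node (nat_lit 0x50040002300001018000007) (.node (nat_lit 0x50040002009001104000212) (.leaf (4, [nat_lit 3])) (.node (nat_lit 0x5004000201400120100010a) (.leaf (4, [nat_lit 4, nat_lit 3, nat_lit 2, nat_lit 4, nat_lit 1])) (.leaf (4, [nat_lit 4, nat_lit 2, nat_lit 0, nat_lit 1]))))
 (.node (nat_lit 0x50100002003001044000218) (.node (nat_lit 0x5004000300200020c000111) (.leaf (1, [nat_lit 4, nat_lit 3, nat_lit 4, nat_lit 3])) (.leaf (4, [nat_lit 1, nat_lit 4, nat_lit 2, nat_lit 0, nat_lit 1]))) (.node (nat_lit 0x5010000200c001202000051) (.leaf (4, [nat_lit 1])) (.leaf (3, [nat_lit 4, nat_lit 2]))))))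
 (.node (nat_lit 0x51000002042000214000109) (.node (nat_lit 0x5020000201100110200004c) (.node (nat_lit 0x5010000301000020500004a) (.leaf (4, [nat_lit 4, nat_lit 3, nat_lit 4, nat_lit 1, nat_lit 2])) (.node (nat_lit 0x50200002006001041000118) (.leaf (4, [nat_lit 3, nat_lit 2, nat_lit 1])) (.leaf (3, [nat_lit 4, nat_lit 3, nat_lit 1]))))
 (.node (nat_lit 0x50200003008000105000052) (.node (nat_lit 0x5020000214000101400000b) (.leaf (4, [nat_lit 4, nat_lit 3, nat_lit 1])) (.leaf (3, [nat_lit 1, nat_lit 0, nat_lit 4, nat_lit 1]))) (.node (nat_lit 0x51000002005000302000058) (.leaf (2, [nat_lit 4, nat_lit 3, nat_lit 1])) (.leaf (3, [nat_lit 3, nat_lit 4, nat_lit 1])))))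
 (.node (nat_lit 0x5200000100500034000001a) (.node (nat_lit 0x5100000211000024100000e) (.leaf (4, [nat_lit 3, nat_lit 4, nat_lit 1])) (.node (nat_lit 0x51000002208000144000013) (.leaf (3, [nat_lit 1, nat_lit 4])) (.leaf (2, [nat_lit 0, nat_lit 2]))))
 (.node (nat_lit 0x52000001110000206000049) (.node (nat_lit 0x5200000104200021100010c) (.leaf (3, [nat_lit 2, nat_lit 4, nat_lit 1, nat_lit 3])) (.leaf (4, [nat_lit 2, nat_lit 4, nat_lit 1, nat_lit 3]))) (.node (nat_lit 0x52000001208000103000054) (.leaf (3, [nat_lit 2, nat_lit 0, nat_lit 4])) (.leaf (2, [nat_lit 4]))))))))))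
noncomputable def qP : List ℕ := [ (nat_lit 0x40003010044003200000118), (nat_lit 0x40003010208002050001104), (nat_lit 0x4000301101000200c000340), (nat_lit 0x40003012100001048000214), (nat_lit 0x40005010018002240001102), (nat_lit 0x40005010042002110001208), (nat_lit 0x4000501030000200a001050), (nat_lit 0x40005013000000212000148), (nat_lit 0x40006010041003010000308), (nat_lit 0x40006010110002009001240), (nat_lit 0x40006011008002140000211),
 (nat_lit 0x40006012200001101000058), (nat_lit 0x40009010014002300001042), (nat_lit 0x40009010202003010000144), (nat_lit 0x40009011100002006000250), (nat_lit 0x40009012040001204000112), (nat_lit 0x4000a010140002005001210), (nat_lit 0x4000a010201003100000054), (nat_lit 0x4000a011004002240000111), (nat_lit 0x4000a012010001041000304), (nat_lit 0x4000c010011003040000302), (nat_lit 0x4000c010240002003001110), (nat_lit 0x4000c011002002210000141),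
 (nat_lit 0x4000c012100001201000052), (nat_lit 0x4001101000c002042001300), (nat_lit 0x40011010140003008000206), (nat_lit 0x40011011002002104000248), (nat_lit 0x4001101220000104400010a), (nat_lit 0x40012010104002041001208), (nat_lit 0x40012010240003004000109), (nat_lit 0x4001201100100230000004c), (nat_lit 0x40012012008001140000205), (nat_lit 0x40014010009003002000340), (nat_lit 0x40014010102002208001041), (nat_lit 0x4001401120000210100004a),
 (nat_lit 0x40014012040001108000203), (nat_lit 0x40018010005002140001202), (nat_lit 0x40018010300003001000046), (nat_lit 0x40018011040002204000103), (nat_lit 0x40018012002001104000241), (nat_lit 0x40041010006003100000218), (nat_lit 0x4004101011000220400100a), (nat_lit 0x4004101120000201200010c), (nat_lit 0x40041012008001014000302), (nat_lit 0x40042010005002208001110), (nat_lit 0x40042010108002011001204), (nat_lit 0x40042010210002104001009),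
 (nat_lit 0x4004201300000030100001c), (nat_lit 0x40044010003003008000310), (nat_lit 0x40044010208002102001011), (nat_lit 0x4004401110000220100001a), (nat_lit 0x40044012010001202000109), (nat_lit 0x40048010102003004000211), (nat_lit 0x40048010204002110001003), (nat_lit 0x40048011010002202000105), (nat_lit 0x40048012001001300000016), (nat_lit 0x4005001010100320000000e), (nat_lit 0x40050010202002108001005), (nat_lit 0x40050011008002003000304),
 (nat_lit 0x40050012004001102000209), (nat_lit 0x40101010050002208001006), (nat_lit 0x4010101020400304000001a), (nat_lit 0x40101011008002014000242), (nat_lit 0x4010101200200121000004c), (nat_lit 0x40102010014003008000241), (nat_lit 0x40102010048002210001005), (nat_lit 0x40102011200002044000019), (nat_lit 0x4010201200100105000020c), (nat_lit 0x40104010012003200000049), (nat_lit 0x40104010201002042001018), (nat_lit 0x4010401104000201100020a),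
 (nat_lit 0x40104012008001003000250), (nat_lit 0x40108010042002201001014), (nat_lit 0x40108010210003002000045), (nat_lit 0x40108011001002050000206), (nat_lit 0x40108012004001240000013), (nat_lit 0x40110010006002048001201), (nat_lit 0x4011001004100220200100c), (nat_lit 0x40110010208002005001042), (nat_lit 0x4011001300000024400000b), (nat_lit 0x4014001000a003001000214), (nat_lit 0x40140010011002006001208), (nat_lit 0x40140011004002018000203),
 (nat_lit 0x4014001220000101200000d), (nat_lit 0x4020101000a002044001110), (nat_lit 0x40201010104003002000058), (nat_lit 0x40201011040002108000016), (nat_lit 0x4020101201000100c000142), (nat_lit 0x40202010009002110001044), (nat_lit 0x4020201005000300100010c), (nat_lit 0x40202011100002048000015), (nat_lit 0x40202012004001018000141), (nat_lit 0x40204010048003100000013), (nat_lit 0x40204010101002018001042), (nat_lit 0x4020401101000204100010a),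
 (nat_lit 0x40204012002001009000150), (nat_lit 0x40208010003002014001140), (nat_lit 0x40208010044002101001012), (nat_lit 0x40208010110002042001005), (nat_lit 0x40208013000000106000051), (nat_lit 0x4021001004200200c001101), (nat_lit 0x40210010108003040000007), (nat_lit 0x40210011004002102000049), (nat_lit 0x4021001200100100a000144), (nat_lit 0x4024001000c003010000103), (nat_lit 0x40240010012002005001108), (nat_lit 0x4024001100100200a000114),
 (nat_lit 0x40240012100001006000019), (nat_lit 0x40300010005002012001048), (nat_lit 0x40300010018003004000043), (nat_lit 0x40300011002002009000054), (nat_lit 0x4030001204000101100000e), (nat_lit 0x4100101001200214000020c), (nat_lit 0x41001010108002202000054), (nat_lit 0x41001010240002018000106), (nat_lit 0x4100101200400031000004a), (nat_lit 0x4100201000c002201000150), (nat_lit 0x41002010011002108000244), (nat_lit 0x41002010300002014000049),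
 (nat_lit 0x41002012040000218000105), (nat_lit 0x4100401000a002300000051), (nat_lit 0x41004010140002012000209), (nat_lit 0x41004010210002048000103), (nat_lit 0x41004012001000242000118), (nat_lit 0x41008010006002011000340), (nat_lit 0x41008010050002102000205), (nat_lit 0x41008010101002044000212), (nat_lit 0x41008012200000114000043), (nat_lit 0x4101001000300224000010c), (nat_lit 0x41010010048002006000301), (nat_lit 0x41010010204002009000142),
 (nat_lit 0x4101001210000020a000045), (nat_lit 0x41040010018002101000206), (nat_lit 0x4104001010400221000000b), (nat_lit 0x4104001020100200c000112), (nat_lit 0x41040012002000308000015), (nat_lit 0x41100010009002204000052), (nat_lit 0x4110001004400200a000211), (nat_lit 0x4110001020200204100001c), (nat_lit 0x41100012010000248000007), (nat_lit 0x41200010014002003000148), (nat_lit 0x4120001004100210400001a), (nat_lit 0x4120001010200205000000d),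
 (nat_lit 0x41200012008000111000046), (nat_lit 0x42001010048001202000114), (nat_lit 0x42001010102001018000244), (nat_lit 0x4200101021000114000000e), (nat_lit 0x42001011004000308000052), (nat_lit 0x42002010018001201000144), (nat_lit 0x42002010101001014000248), (nat_lit 0x42002010204001108000051), (nat_lit 0x4200201104000031000000d), (nat_lit 0x4200401005000130000000b), (nat_lit 0x42004010108001012000241), (nat_lit 0x42004010202001048000111),
 (nat_lit 0x42004011001000218000142), (nat_lit 0x42008010012001044000301), (nat_lit 0x42008010041001102000214), (nat_lit 0x42008010104001011000242), (nat_lit 0x42008011200000150000007), (nat_lit 0x4201001000a001240000105), (nat_lit 0x42010010044001009000302), (nat_lit 0x42010010201001006000148), (nat_lit 0x4201001110000020c000043), (nat_lit 0x42040010009001210000106), (nat_lit 0x4204001001400110100020a), (nat_lit 0x4204001030000100c000013),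
 (nat_lit 0x42040011002000205000118), (nat_lit 0x42100010003001204000058), (nat_lit 0x4210001000c001041000212), (nat_lit 0x4210001024000100a000015), (nat_lit 0x42100011010000209000046), (nat_lit 0x42200010006001050000109), (nat_lit 0x4220001001100110400004a), (nat_lit 0x4220001014000100300001c), (nat_lit 0x42200011008000112000045), (nat_lit 0x4300001000500025000010a), (nat_lit 0x43000010042000304000019), (nat_lit 0x4300001011000020300004c),
 (nat_lit 0x43000010208000141000016), (nat_lit 0x50001002048001012000304), (nat_lit 0x5000100210200124000001c), (nat_lit 0x50001002210001108000046), (nat_lit 0x5000100300400020a000150), (nat_lit 0x50002002018001300000045), (nat_lit 0x5000200210100100c000250), (nat_lit 0x50002002204001011000148), (nat_lit 0x50002003040000209000114), (nat_lit 0x5000400205000100a000301), (nat_lit 0x50004002108001210000043), (nat_lit 0x50004002202001140000019),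
 (nat_lit 0x50004003001000248000112), (nat_lit 0x50008002012001101000244), (nat_lit 0x50008002041001006000310), (nat_lit 0x50008002104001050000203), (nat_lit 0x50008003200000142000015), (nat_lit 0x5001000200a001204000141), (nat_lit 0x50010002044001003000308), (nat_lit 0x50010002201001048000106), (nat_lit 0x5001000310000024200000d), (nat_lit 0x50040002009001104000212), (nat_lit 0x5004000201400120100010a), (nat_lit 0x50040002300001018000007),
 (nat_lit 0x5004000300200020c000111), (nat_lit 0x50100002003001044000218), (nat_lit 0x5010000200c001202000051), (nat_lit 0x50100002240001009000016), (nat_lit 0x5010000301000020500004a), (nat_lit 0x50200002006001041000118), (nat_lit 0x5020000201100110200004c), (nat_lit 0x5020000214000101400000b), (nat_lit 0x50200003008000105000052), (nat_lit 0x51000002005000302000058), (nat_lit 0x51000002042000214000109), (nat_lit 0x5100000211000024100000e),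
 (nat_lit 0x51000002208000144000013), (nat_lit 0x5200000100500034000001a), (nat_lit 0x5200000104200021100010c), (nat_lit 0x52000001110000206000049), (nat_lit 0x52000001208000103000054)]
abbrev qR : List (List ℕ) := [[7, 336, 70144, 270344], [7, 584, 73744, 266496], [11, 4864, 65616, 270340], [11, 580, 77824, 262416], [11, 8720, 65796, 266304]]
theorem qP1 : famC 24 4 qP = true := by decide +kernel
theorem qP2 : (allL qP fun x => band (Nat.ble (qW.get x).1 4) (band (Nat.beq (unp 4 x).length 4) (mvF 24 (qR.getD (qW.get x).1 []) (unp 4 x) (apL 5 31 qsT (qW.get x).2)))) = true := by decide +kernel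
theorem qP3 : (allR 0 5 fun i => band (mskC 24 (qR.getD i [])) (qtC (qR.getD i []))) = true := by decide +kernel
noncomputable def m90t0 : ℕ := (nat_lit 0xbae957b6289ba44b1cd0524ac18820)
noncomputable def m90t1 : ℕ := (nat_lit 0x89df3ac2eda150655992591c918820)
noncomputable def m90t2 : ℕ := (nat_lit 0x8aa6fa22f2a96093ac8db31c618820)
noncomputable def m90t3 : ℕ := (nat_lit 0x2bd47b11c65c5929d209aa2ed18820)
noncomputable def m90t4 : ℕ := (nat_lit 0x2ccea5b1c9b448d7d506a42f218820)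
noncomputable def m90t5 : ℕ := (nat_lit 0xb5eae2a62d7d20359e465226460820)
noncomputable def m90T : Tr ℕ := (.node (nat_lit 3) (.node (nat_lit 1) (.leaf m90t0) (.node (nat_lit 2) (.leaf m90t1) (.leaf m90t2))) (.node (nat_lit 4) (.leaf m90t3) (.node (nat_lit 5) (.leaf m90t4) (.leaf m90t5))))
noncomputable def m90L0 : Lev := ⟨(nat_lit 0), (nat_lit 6), (nat_lit 0x0), (nat_lit 0x0),
 (.leaf 0),
 (.leaf 0)⟩
noncomputable def m90L1 : Lev := ⟨(nat_lit 1), (nat_lit 6), (nat_lit 0x0), (nat_lit 0x0),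
 (.leaf 0),
 (.leaf 0)⟩
noncomputable def m90L2 : Lev := ⟨(nat_lit 2), (nat_lit 6), (nat_lit 0x0), (nat_lit 0x0),
 (.leaf 0),
 (.leaf 0)⟩
noncomputable def m90L3 : Lev := ⟨(nat_lit 3), (nat_lit 6), (nat_lit 0x5000500000406000002040003000100000000), (nat_lit 0x2000300000201000002030002000200000000),
 (.leaf 0),
 (.leaf 0)⟩
noncomputable def m90L4 : Lev := ⟨(nat_lit 5), (nat_lit 5), (nat_lit 0x40000000000040000020000000000000000000000000000), (nat_lit 0x10000000000020000010000000000000000000000000000),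
 (.leaf 0),
 (.leaf 0)⟩
noncomputable def m90L5 : Lev := ⟨(nat_lit 14), (nat_lit 1), (nat_lit 0x0), (nat_lit 0x0),
 (.leaf 0),
 (.leaf 0)⟩
noncomputable def m90L6 : Lev := ⟨(nat_lit 4), (nat_lit 1), (nat_lit 0x1000000000000000000000000), (nat_lit 0x1000000000000000000000000),
 (.leaf 0),
 (.leaf 0)⟩
noncomputable def m90L : List Lev := [m90L0, m90L1, m90L2, m90L3, m90L4, m90L5, m90L6]
theorem m90e : smC [0, 1, 2] [340831] [] m90T = true := by decide +kernel
noncomputable def m90J : List Pr := [prSM 24 (allM [0, 1, 2] [340831]) []]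
noncomputable def m90F0 : ℕ × ℕ := ((nat_lit 0xffffffffffffffffffffffffffffffffffffffffffffff00), (nat_lit 0))
theorem m90b0 : allR 0 24 (ptB 24 (nat_lit 5) (nat_lit 31) m0T m90T m90J m0L0 [m0L1, m0L2, m0L3, m0L4, m0L5, m0L6] m90L0 (dg []) m90F0.1 m90F0.2) = true := by decide +kernel
noncomputable def m90F1 : ℕ × ℕ := ((nat_lit 0xffffffffffffffffffffffffffffffffffffffffffff0000), (nat_lit 0))
theorem m90b1 : allR 0 24 (ptB 24 (nat_lit 5) (nat_lit 31) m0T m90T m90J m0L1 [m0L2, m0L3, m0L4, m0L5, m0L6] m90L1 (dg [m0L0.b]) m90F1.1 m90F1.2) = true := by decide +kernel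
noncomputable def m90F2 : ℕ × ℕ := ((nat_lit 0xffffffffffffffffffffffffffffffffffffffffff000000), (nat_lit 0))
theorem m90b2 : allR 0 24 (ptB 24 (nat_lit 5) (nat_lit 31) m0T m90T m90J m0L2 [m0L3, m0L4, m0L5, m0L6] m90L2 (dg [m0L1.b, m0L0.b]) m90F2.1 m90F2.2) = true := by decide +kernel
noncomputable def m90F3 : ℕ × ℕ := ((nat_lit 0xffffffffff00ff00ffff0000ffff0000ff00ff0000000000), (nat_lit 0))
theorem m90b3 : allR 0 24 (ptB 24 (nat_lit 5) (nat_lit 31) m0T m90T m90J m0L3 [m0L4, m0L5, m0L6] m90L3 (dg [m0L2.b, m0L1.b, m0L0.b]) m90F3.1 m90F3.2) = true := by decide +kernel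
noncomputable def m90F4 : ℕ × ℕ := ((nat_lit 0x300ff02ff00ff0100ffff0403ffff04ff00ff00000000), (nat_lit 0x201000100000001000000020100000100000000000000))
theorem m90b4 : allR 0 24 (ptB 24 (nat_lit 5) (nat_lit 31) m0T m90T m90J m0L4 [m0L5, m0L6] m90L4 (dg [m0L3.b, m0L2.b, m0L1.b, m0L0.b]) m90F4.1 m90F4.2) = true := by decide +kernel
noncomputable def m90F5 : ℕ × ℕ := ((nat_lit 0xff0000000000ff0000000000000000000000000000000000), (nat_lit 0))
theorem m90b5 : allR 0 24 (ptB 24 (nat_lit 5) (nat_lit 31) m0T m90T m90J m0L5 [m0L6] m90L5 (dg [m0L4.b, m0L3.b, m0L2.b, m0L1.b, m0L0.b]) m90F5.1 m90F5.2) = true := by decide +kernel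
noncomputable def m90F6 : ℕ × ℕ := ((nat_lit 0xffffffffff00ffff00ff00ffffffffffff000000000000), (nat_lit 0))
theorem m90b6 : allR 0 24 (ptB 24 (nat_lit 5) (nat_lit 31) m0T m90T m90J m0L6 [] m90L6 (dg [m0L5.b, m0L4.b, m0L3.b, m0L2.b, m0L1.b, m0L0.b]) m90F6.1 m90F6.2) = true := by decide +kernel
theorem m90bk : Bk 24 (nat_lit 5) (nat_lit 31) m0T m90T m90J m0L m90L [m90F0, m90F1, m90F2, m90F3, m90F4, m90F5, m90F6] [] :=
  ⟨rfl, m90b0, rfl, m90b1, rfl, m90b2, rfl, m90b3, rfl, m90b4, rfl, m90b5, rfl, m90b6, trivial⟩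
theorem m90tc : tchainChk 24 (nat_lit 5) (nat_lit 31) m90T m90L = true := by decide +kernel
noncomputable def m9t0 : ℕ := (nat_lit 0x5ddd59a4e87d186b4483534b280820)
noncomputable def m9t1 : ℕ := (nat_lit 0xb2e8e991437d4cdb9e508b0a940820)
noncomputable def m9t2 : ℕ := (nat_lit 0xb5dd4799509d4895c5833c8ad40820)
noncomputable def m9t3 : ℕ := (nat_lit 0xa56cb899ed3dc64716089b15248820)
noncomputable def m9t4 : ℕ := (nat_lit 0x756d7392698ae06a14687c94c68820)
noncomputable def m9t5 : ℕ := (nat_lit 0x3aa65aa6c3a3c888ae0db99cc90820)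
noncomputable def m9t6 : ℕ := (nat_lit 0x3c66fa8d697150455a4cb9a8d80820)
noncomputable def m9T : Tr ℕ := (.node (nat_lit 3) (.node (nat_lit 1) (.leaf m9t0) (.node (nat_lit 2) (.leaf m9t1) (.leaf m9t2)))
 (.node (nat_lit 5) (.node (nat_lit 4) (.leaf m9t3) (.leaf m9t4)) (.node (nat_lit 6) (.leaf m9t5) (.leaf m9t6))))
noncomputable def m9L0 : Lev := ⟨(nat_lit 5), (nat_lit 7), (nat_lit 0x40602060500020006070000070400000100000000000000), (nat_lit 0x20202010300020002010000020100000200000000000000),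
 (.leaf 0),
 (.leaf 0)⟩
noncomputable def m9L1 : Lev := ⟨(nat_lit 4), (nat_lit 3), (nat_lit 0x2000000000303000001000003000000000000), (nat_lit 0x1000000000102000001000002000000000000),
 (.leaf 0),
 (.leaf 0)⟩
noncomputable def m9L : List Lev := [m9L0, m9L1]
theorem m9e : smC [0, 1, 2] [340831] [] m9T = true := by decide +kernel
theorem m9tc : tchainChk 24 (nat_lit 5) (nat_lit 31) m9T m9L = true := by decide +kernel
theorem m9c : band (tchainChk 24 (nat_lit 5) (nat_lit 31) m9T m9L) (Nat.ble (chainOrd 24 m90L) (chainOrd 24 m9L)) = true := by decide +kernel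
theorem m9ch {C : H7.Coding GolayPt} (hC : GC C) : Ch (SM M24 C [0, 1, 2] [340831] []) 24 5 31 C.dec m9T m9L :=
  ((hC.chSM (hC.ch m0c) m90e m90tc m90bk).ch (hC.sm m9e) m9c)
theorem m9card {C : H7.Coding GolayPt} (hC : GC C) : Nat.card (SM M24 C [0, 1, 2] [340831] []) = 72 := (m9ch hC).card.trans (by decide +kernel)
theorem m9m : mvChk 24 ([5].map fun b => (16436384, b)) m9L [] = true := by decide +kernel
noncomputable def n9t0 : ℕ := (nat_lit 0xbda8e7a0ed2d4925c46c5267030820)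
noncomputable def n9t1 : ℕ := (nat_lit 0xbd9d52b1449d20859cd288ded48820)
noncomputable def n9t2 : ℕ := (nat_lit 0xb2dd57c2262d124ba90d3ca6360820)
noncomputable def n9t3 : ℕ := (nat_lit 0x5de8e29a329d503b29a93c1ec20820)
noncomputable def n9T : Tr ℕ := (.node (nat_lit 2) (.node (nat_lit 1) (.leaf n9t0) (.leaf n9t1)) (.node (nat_lit 3) (.leaf n9t2) (.leaf n9t3)))
noncomputable def n9R : Tr (List ℕ) := (.node (nat_lit 2) (.node (nat_lit 1) (.leaf [nat_lit 0, nat_lit 1]) (.leaf [nat_lit 0, nat_lit 0, nat_lit 0])) (.node (nat_lit 3) (.leaf [nat_lit 0, nat_lit 2, nat_lit 1, nat_lit 3]) (.node (nat_lit 4) (.leaf [nat_lit 2, nat_lit 3]) (.leaf [nat_lit 2, nat_lit 2, nat_lit 2]))))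
noncomputable def n9L0 : Lev := ⟨(nat_lit 3), (nat_lit 4), (nat_lit 0x4000300000304000001040002000300000000), (nat_lit 0x2000200000201000001020001000100000000),
 (.node (nat_lit 2) (.node (nat_lit 1) (.leaf (nat_lit 0x4000000040000000000030006000000000000000500000002000000030001000000000000))
 (.leaf (nat_lit 0x7000000020000000000050004000000000003000500000000000000020001000000000000)))
 (.node (nat_lit 3) (.leaf (nat_lit 0x2000000000000000000000002000000000001000200000001000000000001000000000000))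
 (.leaf (nat_lit 0x30000000000030000000000000001000000000001000000030001000000000000)))),
 (.node (nat_lit 2) (.node (nat_lit 1) (.leaf (nat_lit 0x200000000000101000000000000000000000101000000000000000000000000000000000101000000000000000000000000000000000000))
 (.leaf (nat_lit 0x1000000000202000000000000000001000202000000000000000001000001000000000000000000000202000001000000000000000000)))
 (.node (nat_lit 3) (.leaf (nat_lit 0x401000000000000000000000000000000000401000000000000000300000402000000000300000000000000000300000000000000000000))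
 (.leaf (nat_lit 0x301000000000000000301000000000000000000000301000000000000000301000000000301000301000000000000000000))))⟩
noncomputable def n9L : List Lev := [n9L0]
noncomputable def n9E : Tr (List ℕ) := (.node (nat_lit 2) (.node (nat_lit 1) (.leaf [nat_lit 3, nat_lit 1, nat_lit 4, nat_lit 0]) (.leaf [nat_lit 6, nat_lit 6, nat_lit 2, nat_lit 1])) (.node (nat_lit 3) (.leaf [nat_lit 3, nat_lit 1, nat_lit 4]) (.leaf [nat_lit 6, nat_lit 6, nat_lit 2])))
theorem n9w_0 : n9T.all2 (fun c w => isProd 24 (nat_lit 5) (nat_lit 31) m9T c w) n9E = true := by decide +kernel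
theorem n9w : n9T.all2 (fun c w => isProd 24 (nat_lit 5) (nat_lit 31) m9T c w) n9E = true := n9w_0
theorem n9lev0 : levChk 24 (nat_lit 5) (nat_lit 31) n9T n9R n9L0 0 = true := by decide +kernel
theorem n9chain : Chain 24 (nat_lit 5) (nat_lit 31) n9T n9R n9L := chain_one n9lev0
theorem n9sd : band (selChk n9T n9T (topN n9L)) (n9R.all fun w => eqB (m9L.map Lev.b) (apL (nat_lit 5) (nat_lit 31) n9T w) fun a => a) = true := by decide +kernel
theorem n9tc : tchainChk 24 (nat_lit 5) (nat_lit 31) n9T n9L = true := by decide +kernel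
noncomputable def n9nW : Tr (List ℕ) := (.node (nat_lit 14) (.node (nat_lit 7) (.node (nat_lit 3) (.node (nat_lit 1) (.leaf [nat_lit 0]) (.node (nat_lit 2) (.leaf [nat_lit 1]) (.leaf [nat_lit 2])))
 (.node (nat_lit 5) (.node (nat_lit 4) (.leaf [nat_lit 3]) (.leaf [nat_lit 0])) (.node (nat_lit 6) (.leaf [nat_lit 1]) (.leaf [nat_lit 2]))))
 (.node (nat_lit 10) (.node (nat_lit 8) (.leaf [nat_lit 3]) (.node (nat_lit 9) (.leaf [nat_lit 1]) (.leaf [nat_lit 0])))
 (.node (nat_lit 12) (.node (nat_lit 11) (.leaf [nat_lit 3]) (.leaf [nat_lit 2])) (.node (nat_lit 13) (.leaf [nat_lit 2, nat_lit 0]) (.leaf [nat_lit 3, nat_lit 1])))))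
 (.node (nat_lit 21) (.node (nat_lit 17) (.node (nat_lit 15) (.leaf [nat_lit 3, nat_lit 0]) (.node (nat_lit 16) (.leaf [nat_lit 2, nat_lit 1]) (.leaf [nat_lit 3, nat_lit 1])))
 (.node (nat_lit 19) (.node (nat_lit 18) (.leaf [nat_lit 2, nat_lit 0]) (.leaf [nat_lit 2, nat_lit 1])) (.node (nat_lit 20) (.leaf [nat_lit 3, nat_lit 0]) (.leaf [nat_lit 3]))))
 (.node (nat_lit 24) (.node (nat_lit 22) (.leaf [nat_lit 2]) (.node (nat_lit 23) (.leaf [nat_lit 0]) (.leaf [nat_lit 1])))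
 (.node (nat_lit 26) (.node (nat_lit 25) (.leaf [nat_lit 2]) (.leaf [nat_lit 3])) (.node (nat_lit 27) (.leaf [nat_lit 1]) (.leaf [nat_lit 0]))))))
theorem n9n : nrmChk (nat_lit 5) (nat_lit 31) (m9L.map Lev.b) m9T n9T (topN m9L) (topN n9L) n9nW = true := by decide +kernel
theorem n9x : allR 0 24 (refu 24 (nat_lit 5) (nat_lit 31) n9T ⟨fun _ _ => 0, fun _ _ _ => true, fun f => eqB (n9L.map Lev.b) (itF f 3) fun a => a⟩ n9L0 [] []) = true := by decide +kernel
theorem m9a {C : H7.Coding GolayPt} (hC : GC C) : ∃ N : Subgroup (SM M24 C [0, 1, 2] [340831] []), N.Normal ∧ Nat.card N = 3 ^ 2 ∧ ∀ x : N, x ^ 3 = 1 :=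
  let ⟨N, h, _⟩ := ((m9ch hC).gen (lets_words (m9ch hC).lets n9E n9w) n9chain n9sd n9tc)
  ⟨N, (m9ch hC).normal h n9n, h.card.trans (by decide +kernel), h.expo n9x⟩
noncomputable def s9t0 : ℕ := (nat_lit 0x2bd47b11c65c5929d209aa2ed18820)
noncomputable def s9t1 : ℕ := (nat_lit 0x2ccea5b1c9b448d7d506a42f218820)
noncomputable def s9t2 : ℕ := (nat_lit 0x75576518ac3dd28a3e449b63018820)
noncomputable def s9t3 : ℕ := (nat_lit 0x752cb3a4a455cd0acdac7ca2818820)
noncomputable def s9T : Tr ℕ := (.node (nat_lit 2) (.node (nat_lit 1) (.leaf s9t0) (.leaf s9t1)) (.node (nat_lit 3) (.leaf s9t2) (.leaf s9t3)))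
noncomputable def s9L0 : Lev := ⟨(nat_lit 4), (nat_lit 4), (nat_lit 0x1000400000201000003030004000000000000), (nat_lit 0x1000100000102000002010002000000000000),
 (.leaf 0),
 (.leaf 0)⟩
noncomputable def s9L : List Lev := [s9L0]
noncomputable def s9E : Tr (List ℕ) := (.node (nat_lit 2) (.node (nat_lit 1) (.leaf [nat_lit 4, nat_lit 6, nat_lit 0]) (.leaf [nat_lit 4, nat_lit 6, nat_lit 2, nat_lit 0])) (.node (nat_lit 3) (.leaf [nat_lit 0, nat_lit 4, nat_lit 1]) (.leaf [nat_lit 0, nat_lit 4, nat_lit 2])))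
theorem s9w_0 : s9T.all2 (fun c w => isProd 24 (nat_lit 5) (nat_lit 31) m9T c w) s9E = true := by decide +kernel
theorem s9w : s9T.all2 (fun c w => isProd 24 (nat_lit 5) (nat_lit 31) m9T c w) s9E = true := s9w_0
noncomputable def s9iI : Tr (List ℕ) := (.node (nat_lit 2) (.node (nat_lit 1) (.leaf [nat_lit 2]) (.leaf [nat_lit 3])) (.node (nat_lit 3) (.leaf [nat_lit 2, nat_lit 1]) (.leaf [nat_lit 3, nat_lit 1])))
theorem s9ih : MG.q8R.all (fun w => eqB (m9L.map Lev.b) (apF (fun y => apL (nat_lit 5) (nat_lit 31) s9T (s9iI.get y)) w) fun a => a) = true := by decide +kernel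
noncomputable def s9iD : Tr (List ℕ) := (.node (nat_lit 2) (.node (nat_lit 1) (.leaf [nat_lit 2, nat_lit 1]) (.leaf [nat_lit 3, nat_lit 1])) (.node (nat_lit 3) (.leaf [nat_lit 0]) (.leaf [nat_lit 1])))
theorem s9is : band (surChk (nat_lit 5) (nat_lit 31) (m9L.map Lev.b) s9T s9iI (topN MG.q8L) s9iD (topN s9L)) (band (tchainChk 24 (nat_lit 5) (nat_lit 31) s9T s9L) (Nat.ble (chainOrd 8 MG.q8L) (chainOrd 24 s9L))) = true := by decide +kernel
theorem m9b {C : H7.Coding GolayPt} (hC : GC C) : ∃ N : Subgroup (SM M24 C [0, 1, 2] [340831] []), Nat.card N = 2 ^ 3 ∧ Nonempty (QuaternionGroup 2 ≃* N) :=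
  let ⟨N, h, e, _⟩ := (MG.q8std.emb (lets_words (m9ch hC).lets s9E s9w) (m9ch hC).base (m9ch hC).inj (by decide +kernel) s9ih s9is)
  ⟨N, h.card.trans (by decide +kernel), e⟩
noncomputable def m6t0 : ℕ := (nat_lit 0x24eec89aca5be017352891cb518a80)
noncomputable def m6t1 : ℕ := (nat_lit 0xac481b1e6d72d547c128348b718980)
noncomputable def m6t2 : ℕ := (nat_lit 0x80e448d6777b98d59d28504b4b08c0)
noncomputable def m6t3 : ℕ := (nat_lit 0x24870659b47ba33599280a8b7a88e0)
noncomputable def m6t4 : ℕ := (nat_lit 0x906b465e2f835d31a12a218a758ac0)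
noncomputable def m6t5 : ℕ := (nat_lit 0x53a2981eb37d9ac25e83918ab40820)
noncomputable def m6t6 : ℕ := (nat_lit 0x959b45de2c1bab09a548384a2790c0)
noncomputable def m6t7 : ℕ := (nat_lit 0xb8d7198a8c419b0aa92f3b824b48a0)
noncomputable def m6t8 : ℕ := (nat_lit 0x5d8348ca627b0aeb8c08399a4542a9)
noncomputable def m6T : Tr ℕ := (.node (nat_lit 4) (.node (nat_lit 2) (.node (nat_lit 1) (.leaf m6t0) (.leaf m6t1)) (.node (nat_lit 3) (.leaf m6t2) (.leaf m6t3)))
 (.node (nat_lit 6) (.node (nat_lit 5) (.leaf m6t4) (.leaf m6t5)) (.node (nat_lit 7) (.leaf m6t6) (.node (nat_lit 8) (.leaf m6t7) (.leaf m6t8)))))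
noncomputable def m6L0 : Lev := ⟨(nat_lit 0), (nat_lit 9), (nat_lit 0x60509060402080405090202060709050304080309070100), (nat_lit 0x30404020404030304040303040201030303040303040300),
 (.leaf 0),
 (.leaf 0)⟩
noncomputable def m6L1 : Lev := ⟨(nat_lit 5), (nat_lit 8), (nat_lit 0x30507020401080705080301070406050403000303070800), (nat_lit 0x40204020303030304030302040303040202000303040100),
 (.leaf 0),
 (.leaf 0)⟩
noncomputable def m6L2 : Lev := ⟨(nat_lit 2), (nat_lit 7), (nat_lit 0x10402030705060301020702060606050501000704000100), (nat_lit 0x20402020303030303030303020303040203000103000300),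
 (.leaf 0),
 (.leaf 0)⟩
noncomputable def m6L3 : Lev := ⟨(nat_lit 9), (nat_lit 6), (nat_lit 0x10502060401010405060302060200050403000303000100), (nat_lit 0x30303010304040203040302030300040303000204000200),
 (.leaf 0),
 (.leaf 0)⟩
noncomputable def m6L4 : Lev := ⟨(nat_lit 8), (nat_lit 5), (nat_lit 0x30201040402040105050203020500000304000504000400), (nat_lit 0x30404030403030203030203040100000202000305000300),
 (.leaf 0),
 (.leaf 0)⟩
noncomputable def m6L5 : Lev := ⟨(nat_lit 3), (nat_lit 4), (nat_lit 0x20304030204010300000404000100000102000100000200), (nat_lit 0x20101030202020300000303000400000303000200000400),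
 (.leaf 0),
 (.leaf 0)⟩
noncomputable def m6L6 : Lev := ⟨(nat_lit 16), (nat_lit 2), (nat_lit 0x100000200000000000000000000), (nat_lit 0x100000100000000000000000000),
 (.leaf 0),
 (.leaf 0)⟩
noncomputable def m6L : List Lev := [m6L0, m6L1, m6L2, m6L3, m6L4, m6L5, m6L6]
theorem m6c : band (m6T.all fun c => m24Chk (ap 5 31 c)) (band (tchainChk 24 5 31 m6T m6L) (Nat.ble 244823040 (chainOrd 24 m6L))) = true := by decide +kernel
noncomputable def l11t0 : ℕ := (nat_lit 0xad2f6540f27b8265cd288b0a3209a0)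
noncomputable def l11t1 : ℕ := (nat_lit 0x72eb4536243de48b4d2c798b008860)
noncomputable def l11t2 : ℕ := (nat_lit 0x5daae7b0e39d132ba9a8890a680820)
noncomputable def l11t3 : ℕ := (nat_lit 0xbc66ea8ec97d18d52e08388a491820)
noncomputable def l11T : Tr ℕ := (.node (nat_lit 2) (.node (nat_lit 1) (.leaf l11t0) (.leaf l11t1)) (.node (nat_lit 3) (.leaf l11t2) (.leaf l11t3)))
noncomputable def l11L0 : Lev := ⟨(nat_lit 0), (nat_lit 4), (nat_lit 0x0), (nat_lit 0x0),
 (.leaf 0),
 (.leaf 0)⟩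
noncomputable def l11L1 : Lev := ⟨(nat_lit 5), (nat_lit 4), (nat_lit 0x0), (nat_lit 0x0),
 (.leaf 0),
 (.leaf 0)⟩
noncomputable def l11L2 : Lev := ⟨(nat_lit 2), (nat_lit 4), (nat_lit 0x3000200000401000003020004000301000100), (nat_lit 0x3000300000302000004030001000203000400),
 (.leaf 0),
 (.leaf 0)⟩
noncomputable def l11L3 : Lev := ⟨(nat_lit 9), (nat_lit 3), (nat_lit 0x2000100000303000000020001000102000100), (nat_lit 0x2000300000103000000040004000403000200),
 (.leaf 0),
 (.leaf 0)⟩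
noncomputable def l11L4 : Lev := ⟨(nat_lit 8), (nat_lit 2), (nat_lit 0x2000000000001000000000000), (nat_lit 0x1000000000002000000000000),
 (.leaf 0),
 (.leaf 0)⟩
noncomputable def l11L5 : Lev := ⟨(nat_lit 3), (nat_lit 1), (nat_lit 0x100000000), (nat_lit 0x100000000),
 (.leaf 0),
 (.leaf 0)⟩
noncomputable def l11L6 : Lev := ⟨(nat_lit 16), (nat_lit 0), (nat_lit 0x0), (nat_lit 0x0),
 (.leaf 0),
 (.leaf 0)⟩
noncomputable def l11L : List Lev := [l11L0, l11L1, l11L2, l11L3, l11L4, l11L5, l11L6]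
theorem l11e : smC [0, 5] [340831] [] l11T = true := by decide +kernel
noncomputable def l11J : List Pr := [prSM 24 (allM [0, 5] [340831]) []]
noncomputable def l11F0 : ℕ × ℕ := ((nat_lit 0xffffffffffffffffffffffffffffffffffffffffffffff00), (nat_lit 0))
theorem l11b0 : allR 0 24 (ptB 24 (nat_lit 5) (nat_lit 31) m6T l11T l11J m6L0 [m6L1, m6L2, m6L3, m6L4, m6L5, m6L6] l11L0 (dg []) l11F0.1 l11F0.2) = true := by decide +kernel
noncomputable def l11F1 : ℕ × ℕ := ((nat_lit 0xffffffffffffffffffffffffffffffffffff00ffffffff00), (nat_lit 0))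
theorem l11b1 : allR 0 24 (ptB 24 (nat_lit 5) (nat_lit 31) m6T l11T l11J m6L1 [m6L2, m6L3, m6L4, m6L5, m6L6] l11L1 (dg [m6L0.b]) l11F1.1 l11F1.2) = true := by decide +kernel
noncomputable def l11F2 : ℕ × ℕ := ((nat_lit 0xffffffffff00ff00ffff0000ffff0000ff00000000000000), (nat_lit 0))
theorem l11b2 : allR 0 24 (ptB 24 (nat_lit 5) (nat_lit 31) m6T l11T l11J m6L2 [m6L3, m6L4, m6L5, m6L6] l11L2 (dg [m6L1.b, m6L0.b]) l11F2.1 l11F2.2) = true := by decide +kernel
noncomputable def l11F3 : ℕ × ℕ := ((nat_lit 0xffffffffff00ff00ffff0000ffff0000ff00000000000000), (nat_lit 0))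
theorem l11b3 : allR 0 24 (ptB 24 (nat_lit 5) (nat_lit 31) m6T l11T l11J m6L3 [m6L4, m6L5, m6L6] l11L3 (dg [m6L2.b, m6L1.b, m6L0.b]) l11F3.1 l11F3.2) = true := by decide +kernel
noncomputable def l11F4 : ℕ × ℕ := ((nat_lit 0xffffffffff01ff00ffffff00ffff0000ff00000001000000), (nat_lit 0x1000200000000000000000000000302000100))
theorem l11b4 : allR 0 24 (ptB 24 (nat_lit 5) (nat_lit 31) m6T l11T l11J m6L4 [m6L5, m6L6] l11L4 (dg [m6L3.b, m6L2.b, m6L1.b, m6L0.b]) l11F4.1 l11F4.2) = true := by decide +kernel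
noncomputable def l11F5 : ℕ × ℕ := ((nat_lit 0xffffffffffffffff0000ffff00ff0000ffff00000000ff00), (nat_lit 0))
theorem l11b5 : allR 0 24 (ptB 24 (nat_lit 5) (nat_lit 31) m6T l11T l11J m6L5 [m6L6] l11L5 (dg [m6L4.b, m6L3.b, m6L2.b, m6L1.b, m6L0.b]) l11F5.1 l11F5.2) = true := by decide +kernel
noncomputable def l11F6 : ℕ × ℕ := ((nat_lit 0xff0000ff00000000000000000000), (nat_lit 0))
theorem l11b6 : allR 0 24 (ptB 24 (nat_lit 5) (nat_lit 31) m6T l11T l11J m6L6 [] l11L6 (dg [m6L5.b, m6L4.b, m6L3.b, m6L2.b, m6L1.b, m6L0.b]) l11F6.1 l11F6.2) = true := by decide +kernel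
theorem l11bk : Bk 24 (nat_lit 5) (nat_lit 31) m6T l11T l11J m6L l11L [l11F0, l11F1, l11F2, l11F3, l11F4, l11F5, l11F6] [] :=
  ⟨rfl, l11b0, rfl, l11b1, rfl, l11b2, rfl, l11b3, rfl, l11b4, rfl, l11b5, rfl, l11b6, trivial⟩
theorem l11tc : tchainChk 24 (nat_lit 5) (nat_lit 31) l11T l11L = true := by decide +kernel
theorem l11ch {C : H7.Coding GolayPt} (hC : GC C) : Ch (SM M24 C [0, 5] [340831] []) 24 5 31 C.dec l11T l11L :=
  (hC.chSM (hC.ch m6c) l11e l11tc l11bk)
theorem l11card {C : H7.Coding GolayPt} (hC : GC C) : Nat.card (SM M24 C [0, 5] [340831] []) = 660 := (l11ch hC).card.trans (by decide +kernel)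
noncomputable def l11iI : Tr (List ℕ) := (.node (nat_lit 2) (.node (nat_lit 1) (.leaf [nat_lit 1, nat_lit 2, nat_lit 3, nat_lit 2, nat_lit 0, nat_lit 1]) (.leaf [nat_lit 0, nat_lit 3, nat_lit 0, nat_lit 3, nat_lit 1, nat_lit 0])) (.node (nat_lit 3) (.leaf [nat_lit 0, nat_lit 2, nat_lit 3, nat_lit 2, nat_lit 0, nat_lit 1, nat_lit 0]) (.node (nat_lit 4) (.leaf [nat_lit 3, nat_lit 0, nat_lit 3, nat_lit 0, nat_lit 1]) (.leaf [nat_lit 2, nat_lit 0, nat_lit 3, nat_lit 2, nat_lit 1, nat_lit 0]))))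
theorem l11ih : L211.RL.all (fun w => eqB (l11L.map Lev.b) (apF (fun y => apL (nat_lit 5) (nat_lit 31) l11T (l11iI.get y)) w) fun a => a) = true := by decide +kernel
noncomputable def l11iD : Tr (List ℕ) := (.node (nat_lit 2) (.node (nat_lit 1) (.leaf [nat_lit 1, nat_lit 4, nat_lit 1, nat_lit 1, nat_lit 3, nat_lit 0, nat_lit 0]) (.leaf [nat_lit 2, nat_lit 4, nat_lit 3])) (.node (nat_lit 3) (.leaf [nat_lit 0, nat_lit 4, nat_lit 1]) (.leaf [nat_lit 1, nat_lit 2, nat_lit 4, nat_lit 3, nat_lit 0])))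
theorem l11is : band (surChk (nat_lit 5) (nat_lit 31) (l11L.map Lev.b) l11T l11iI (topN L211.L) l11iD (topN l11L)) (Nat.ble (chainOrd 12 L211.L) (chainOrd 24 l11L)) = true := by decide +kernel
theorem l11i {C : H7.Coding GolayPt} (hC : GC C)  : Nonempty (L211.P ≃* (SM M24 C [0, 5] [340831] [])) :=
  (L211.std.isoW (l11ch hC) l11ih l11is)
noncomputable def m7t0 : ℕ := (nat_lit 0xb922d9caaa4ba815c1e238cb632180)
noncomputable def m7t1 : ℕ := (nat_lit 0xba1b19ca8363aaf598363a8a281120)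
noncomputable def m7t2 : ℕ := (nat_lit 0xbc02f9c996a3931591a3388aa41aa0)
noncomputable def m7t3 : ℕ := (nat_lit 0xbb5049c84953ac65be153b0b40c460)
noncomputable def m7t4 : ℕ := (nat_lit 0x592029dda8b3991905353a8afa0cc0)
noncomputable def m7t5 : ℕ := (nat_lit 0x93d039ad9523a2db9930384b615140)
noncomputable def m7t6 : ℕ := (nat_lit 0xbab198e902596a6b128388af91ae0)
noncomputable def m7t7 : ℕ := (nat_lit 0x88dd40cae67d5ab6212a3c0a2b1260)
noncomputable def m7t8 : ℕ := (nat_lit 0xa22b794d6e7c0cc8a9361b4a438440)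
noncomputable def m7t9 : ℕ := (nat_lit 0x6a2b02499419af15a9363b833788a0)
noncomputable def m7t10 : ℕ := (nat_lit 0x119ab825d3646afa224a258672dc01)
noncomputable def m7T : Tr ℕ := (.node (nat_lit 5) (.node (nat_lit 2) (.node (nat_lit 1) (.leaf m7t0) (.leaf m7t1)) (.node (nat_lit 3) (.leaf m7t2) (.node (nat_lit 4) (.leaf m7t3) (.leaf m7t4))))
 (.node (nat_lit 8) (.node (nat_lit 6) (.leaf m7t5) (.node (nat_lit 7) (.leaf m7t6) (.leaf m7t7))) (.node (nat_lit 9) (.leaf m7t8) (.node (nat_lit 10) (.leaf m7t9) (.leaf m7t10)))))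
noncomputable def m7L0 : Lev := ⟨(nat_lit 0), (nat_lit 11), (nat_lit 0x7080306080b0304020805010805020409060a0304090b00), (nat_lit 0x20302030203030303030302030202030302020302020100),
 (.leaf 0),
 (.leaf 0)⟩
noncomputable def m7L1 : Lev := ⟨(nat_lit 5), (nat_lit 10), (nat_lit 0x70803060807030402080501080502040906000304090a00), (nat_lit 0x20302030203030303030302030202030302000302020100),
 (.leaf 0),
 (.leaf 0)⟩
noncomputable def m7L2 : Lev := ⟨(nat_lit 7), (nat_lit 9), (nat_lit 0x70805060807040203090904050204030001000209050400), (nat_lit 0x30203020302030203030303030303020002000301020200),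
 (.leaf 0),
 (.leaf 0)⟩
noncomputable def m7L3 : Lev := ⟨(nat_lit 19), (nat_lit 8), (nat_lit 0x70803060007030402080501080502040006000304050800), (nat_lit 0x20302030003030303030302030202030002000302030100),
 (.leaf 0),
 (.leaf 0)⟩
noncomputable def m7L4 : Lev := ⟨(nat_lit 14), (nat_lit 7), (nat_lit 0x50704040007050305000406070304020003000103020600), (nat_lit 0x40103030004030202000203030303020004000203030400),
 (.leaf 0),
 (.leaf 0)⟩
noncomputable def m7L5 : Lev := ⟨(nat_lit 11), (nat_lit 6), (nat_lit 0x50000000006000000000000000000000000000000000000), (nat_lit 0x10000000001000000000000000000000000000000000000),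
 (.leaf 0),
 (.leaf 0)⟩
noncomputable def m7L6 : Lev := ⟨(nat_lit 1), (nat_lit 4), (nat_lit 0x403030000030402000301000402040004000404040000), (nat_lit 0x301030000020202000201000301020002000401030000),
 (.leaf 0),
 (.leaf 0)⟩
noncomputable def m7L : List Lev := [m7L0, m7L1, m7L2, m7L3, m7L4, m7L5, m7L6]
theorem m7c : band (m7T.all fun c => m24Chk (ap 5 31 c)) (band (tchainChk 24 5 31 m7T m7L) (Nat.ble 244823040 (chainOrd 24 m7L))) = true := by decide +kernel
noncomputable def s5t0 : ℕ := (nat_lit 0x5d2d59c94d8dd9073c233a0a930880)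
noncomputable def s5t1 : ℕ := (nat_lit 0x756969c9ec52e0dbc48638ca140920)
noncomputable def s5t2 : ℕ := (nat_lit 0x7d2b6989d0bc58d52d2838ca134880)
noncomputable def s5t3 : ℕ := (nat_lit 0xa4d57b21707b82c8d492388a9199a0)
noncomputable def s5t4 : ℕ := (nat_lit 0x756d49c9417dd245c5a3298ec40a00)
noncomputable def s5T : Tr ℕ := (.node (nat_lit 2) (.node (nat_lit 1) (.leaf s5t0) (.leaf s5t1)) (.node (nat_lit 3) (.leaf s5t2) (.node (nat_lit 4) (.leaf s5t3) (.leaf s5t4))))
noncomputable def s5L0 : Lev := ⟨(nat_lit 0), (nat_lit 5), (nat_lit 0x0), (nat_lit 0x0),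
 (.leaf 0),
 (.leaf 0)⟩
noncomputable def s5L1 : Lev := ⟨(nat_lit 5), (nat_lit 5), (nat_lit 0x500000000000000), (nat_lit 0x100000000000000),
 (.leaf 0),
 (.leaf 0)⟩
noncomputable def s5L2 : Lev := ⟨(nat_lit 7), (nat_lit 4), (nat_lit 0x0), (nat_lit 0x0),
 (.leaf 0),
 (.leaf 0)⟩
noncomputable def s5L3 : Lev := ⟨(nat_lit 19), (nat_lit 4), (nat_lit 0x40401020000010002010000030400000000000000000000), (nat_lit 0x30102020000040004040000040300000000000000000000),
 (.leaf 0),
 (.leaf 0)⟩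
noncomputable def s5L4 : Lev := ⟨(nat_lit 14), (nat_lit 3), (nat_lit 0x20000000000030003000000010300000000000000000000), (nat_lit 0x10000000000010002000000010200000000000000000000),
 (.leaf 0),
 (.leaf 0)⟩
noncomputable def s5L5 : Lev := ⟨(nat_lit 11), (nat_lit 0), (nat_lit 0x0), (nat_lit 0x0),
 (.leaf 0),
 (.leaf 0)⟩
noncomputable def s5L6 : Lev := ⟨(nat_lit 1), (nat_lit 0), (nat_lit 0x0), (nat_lit 0x0),
 (.leaf 0),
 (.leaf 0)⟩
noncomputable def s5L : List Lev := [s5L0, s5L1, s5L2, s5L3, s5L4, s5L5, s5L6]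
theorem s5e : smC [0] [340831, 160] [] s5T = true := by decide +kernel
noncomputable def s5J : List Pr := [prSM 24 (allM [0] [340831, 160]) []]
noncomputable def s5F0 : ℕ × ℕ := ((nat_lit 0xffffffffffffffffffffffffffffffffffffffffffffff00), (nat_lit 0))
theorem s5b0 : allR 0 24 (ptB 24 (nat_lit 5) (nat_lit 31) m7T s5T s5J m7L0 [m7L1, m7L2, m7L3, m7L4, m7L5, m7L6] s5L0 (dg []) s5F0.1 s5F0.2) = true := by decide +kernel
noncomputable def s5F1 : ℕ × ℕ := ((nat_lit 0xffffffffffffffffffffffffffffffff00ff00ffffffff00), (nat_lit 0))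
theorem s5b1 : allR 0 24 (ptB 24 (nat_lit 5) (nat_lit 31) m7T s5T s5J m7L1 [m7L2, m7L3, m7L4, m7L5, m7L6] s5L1 (dg [m7L0.b]) s5F1.1 s5F1.2) = true := by decide +kernel
noncomputable def s5F2 : ℕ × ℕ := ((nat_lit 0xffffffffffffffffffffffffffffffff00ff00ffffffff00), (nat_lit 0))
theorem s5b2 : allR 0 24 (ptB 24 (nat_lit 5) (nat_lit 31) m7T s5T s5J m7L2 [m7L3, m7L4, m7L5, m7L6] s5L2 (dg [m7L1.b, m7L0.b]) s5F2.1 s5F2.2) = true := by decide +kernel
noncomputable def s5F3 : ℕ × ℕ := ((nat_lit 0xff00ff0000ffff0000ffff00ff00ffffffff00), (nat_lit 0))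
theorem s5b3 : allR 0 24 (ptB 24 (nat_lit 5) (nat_lit 31) m7T s5T s5J m7L3 [m7L4, m7L5, m7L6] s5L3 (dg [m7L2.b, m7L1.b, m7L0.b]) s5F3.1 s5F3.2) = true := by decide +kernel
noncomputable def s5F4 : ℕ × ℕ := ((nat_lit 0xffffff00ff00ff0000ffff0000ffff00ff00ffffffff00), (nat_lit 0))
theorem s5b4 : allR 0 24 (ptB 24 (nat_lit 5) (nat_lit 31) m7T s5T s5J m7L4 [m7L5, m7L6] s5L4 (dg [m7L3.b, m7L2.b, m7L1.b, m7L0.b]) s5F4.1 s5F4.2) = true := by decide +kernel
noncomputable def s5F5 : ℕ × ℕ := ((nat_lit 0xff00000000ff000000000000000000000000000000000000), (nat_lit 0))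
theorem s5b5 : allR 0 24 (ptB 24 (nat_lit 5) (nat_lit 31) m7T s5T s5J m7L5 [m7L6] s5L5 (dg [m7L4.b, m7L3.b, m7L2.b, m7L1.b, m7L0.b]) s5F5.1 s5F5.2) = true := by decide +kernel
noncomputable def s5F6 : ℕ × ℕ := ((nat_lit 0xffffff0000ffffff00ffff00ffffff00ff00ffffff0000), (nat_lit 0))
theorem s5b6 : allR 0 24 (ptB 24 (nat_lit 5) (nat_lit 31) m7T s5T s5J m7L6 [] s5L6 (dg [m7L5.b, m7L4.b, m7L3.b, m7L2.b, m7L1.b, m7L0.b]) s5F6.1 s5F6.2) = true := by decide +kernel
theorem s5bk : Bk 24 (nat_lit 5) (nat_lit 31) m7T s5T s5J m7L s5L [s5F0, s5F1, s5F2, s5F3, s5F4, s5F5, s5F6] [] :=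
  ⟨rfl, s5b0, rfl, s5b1, rfl, s5b2, rfl, s5b3, rfl, s5b4, rfl, s5b5, rfl, s5b6, trivial⟩
theorem s5tc : tchainChk 24 (nat_lit 5) (nat_lit 31) s5T s5L = true := by decide +kernel
theorem s5ch {C : H7.Coding GolayPt} (hC : GC C) : Ch (SM M24 C [0] [340831, 160] []) 24 5 31 C.dec s5T s5L :=
  (hC.chSM (hC.ch m7c) s5e s5tc s5bk)
theorem s5card {C : H7.Coding GolayPt} (hC : GC C) : Nat.card (SM M24 C [0] [340831, 160] []) = 120 := (s5ch hC).card.trans (by decide +kernel)
noncomputable def s5iI : Tr (List ℕ) := (.node (nat_lit 2) (.node (nat_lit 1) (.leaf [nat_lit 4, nat_lit 0, nat_lit 3, nat_lit 1, nat_lit 3, nat_lit 2]) (.leaf [nat_lit 4, nat_lit 3, nat_lit 1, nat_lit 3, nat_lit 2, nat_lit 1])) (.node (nat_lit 3) (.leaf [nat_lit 4]) (.leaf [nat_lit 4, nat_lit 1, nat_lit 3, nat_lit 0, nat_lit 3, nat_lit 2, nat_lit 0])))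
theorem s5ih : Alt.s5R.all (fun w => eqB (s5L.map Lev.b) (apF (fun y => apL (nat_lit 5) (nat_lit 31) s5T (s5iI.get y)) w) fun a => a) = true := by decide +kernel
noncomputable def s5iD : Tr (List ℕ) := (.node (nat_lit 2) (.node (nat_lit 1) (.leaf [nat_lit 0, nat_lit 1, nat_lit 2, nat_lit 0]) (.leaf [nat_lit 2, nat_lit 0, nat_lit 1, nat_lit 0])) (.node (nat_lit 3) (.leaf [nat_lit 1, nat_lit 2, nat_lit 3, nat_lit 0, nat_lit 1, nat_lit 2, nat_lit 0, nat_lit 1]) (.node (nat_lit 4) (.leaf [nat_lit 0, nat_lit 1, nat_lit 2, nat_lit 3, nat_lit 2, nat_lit 0, nat_lit 1, nat_lit 0]) (.leaf [nat_lit 2]))))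
theorem s5is : band (surChk (nat_lit 5) (nat_lit 31) (s5L.map Lev.b) s5T s5iI (topN Alt.s5L) s5iD (topN s5L)) (Nat.ble (chainOrd 5 Alt.s5L) (chainOrd 24 s5L)) = true := by decide +kernel
theorem s5i {C : H7.Coding GolayPt} (hC : GC C)  : Nonempty (Equiv.Perm (Fin 5) ≃* (SM M24 C [0] [340831, 160] [])) :=
  (Alt.s5std.isoW (s5ch hC) s5ih s5is)
noncomputable def m110t0 : ℕ := (nat_lit 0xbae957b6289ba44b1cd0524ac18820)
noncomputable def m110t1 : ℕ := (nat_lit 0x2ccea5b1c9b448d7d506a42f218820)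
noncomputable def m110t2 : ℕ := (nat_lit 0x2bd47b11c65c5929d209aa2ed18820)
noncomputable def m110t3 : ℕ := (nat_lit 0x752cb3a4a455cd0acdac7ca2818820)
noncomputable def m110t4 : ℕ := (nat_lit 0x75576518ac3dd28a3e449b63018820)
noncomputable def m110t5 : ℕ := (nat_lit 0xb5eae2a62d7d20359e465226460820)
noncomputable def m110t6 : ℕ := (nat_lit 0xbc6af2cacca38d03a8435b66442420)
noncomputable def m110t7 : ℕ := (nat_lit 0x7d2b6989d0bc58d52d2838ca134880)
noncomputable def m110T : Tr ℕ := (.node (nat_lit 4) (.node (nat_lit 2) (.node (nat_lit 1) (.leaf m110t0) (.leaf m110t1)) (.node (nat_lit 3) (.leaf m110t2) (.leaf m110t3)))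
 (.node (nat_lit 6) (.node (nat_lit 5) (.leaf m110t4) (.leaf m110t5)) (.node (nat_lit 7) (.leaf m110t6) (.leaf m110t7))))
noncomputable def m110L0 : Lev := ⟨(nat_lit 0), (nat_lit 8), (nat_lit 0x0), (nat_lit 0x0),
 (.leaf 0),
 (.leaf 0)⟩
noncomputable def m110L1 : Lev := ⟨(nat_lit 1), (nat_lit 8), (nat_lit 0x3000400000201000004050005000806080000), (nat_lit 0x2000200000202000003020003000103030000),
 (.leaf 0),
 (.leaf 0)⟩
noncomputable def m110L2 : Lev := ⟨(nat_lit 2), (nat_lit 7), (nat_lit 0x4000200000504000007030001000507000000), (nat_lit 0x2000200000203000001020002000303000000),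
 (.leaf 0),
 (.leaf 0)⟩
noncomputable def m110L3 : Lev := ⟨(nat_lit 3), (nat_lit 6), (nat_lit 0x2000500000306000005040004000100000000), (nat_lit 0x2000200000201000003020003000200000000),
 (.leaf 0),
 (.leaf 0)⟩
noncomputable def m110L4 : Lev := ⟨(nat_lit 5), (nat_lit 5), (nat_lit 0x20000000000040000040000000000000000000000000000), (nat_lit 0x10000000000010000020000000000000000000000000000),
 (.leaf 0),
 (.leaf 0)⟩
noncomputable def m110L5 : Lev := ⟨(nat_lit 14), (nat_lit 1), (nat_lit 0x0), (nat_lit 0x0),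
 (.leaf 0),
 (.leaf 0)⟩
noncomputable def m110L6 : Lev := ⟨(nat_lit 4), (nat_lit 1), (nat_lit 0x1000000000000000000000000), (nat_lit 0x1000000000000000000000000),
 (.leaf 0),
 (.leaf 0)⟩
noncomputable def m110L : List Lev := [m110L0, m110L1, m110L2, m110L3, m110L4, m110L5, m110L6]
theorem m110e : smC [0] [340831] [] m110T = true := by decide +kernel
noncomputable def m110J : List Pr := [prSM 24 (allM [0] [340831]) []]
noncomputable def m110F0 : ℕ × ℕ := ((nat_lit 0xffffffffffffffffffffffffffffffffffffffffffffff00), (nat_lit 0))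
theorem m110b0 : allR 0 24 (ptB 24 (nat_lit 5) (nat_lit 31) m0T m110T m110J m0L0 [m0L1, m0L2, m0L3, m0L4, m0L5, m0L6] m110L0 (dg []) m110F0.1 m110F0.2) = true := by decide +kernel
noncomputable def m110F1 : ℕ × ℕ := ((nat_lit 0xffffffffff00ff00ffff0000ffff0000ff00ff0000000000), (nat_lit 0))
theorem m110b1 : allR 0 24 (ptB 24 (nat_lit 5) (nat_lit 31) m0T m110T m110J m0L1 [m0L2, m0L3, m0L4, m0L5, m0L6] m110L1 (dg [m0L0.b]) m110F1.1 m110F1.2) = true := by decide +kernel
noncomputable def m110F2 : ℕ × ℕ := ((nat_lit 0xffffffffff00ff00ffff0000ffff0000ff00ff0000000000), (nat_lit 0))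
theorem m110b2 : allR 0 24 (ptB 24 (nat_lit 5) (nat_lit 31) m0T m110T m110J m0L2 [m0L3, m0L4, m0L5, m0L6] m110L2 (dg [m0L1.b, m0L0.b]) m110F2.1 m110F2.2) = true := by decide +kernel
noncomputable def m110F3 : ℕ × ℕ := ((nat_lit 0xffffffffff00ff00ffff0000ffff0000ff00ff0000000000), (nat_lit 0))
theorem m110b3 : allR 0 24 (ptB 24 (nat_lit 5) (nat_lit 31) m0T m110T m110J m0L3 [m0L4, m0L5, m0L6] m110L3 (dg [m0L2.b, m0L1.b, m0L0.b]) m110F3.1 m110F3.2) = true := by decide +kernel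
noncomputable def m110F4 : ℕ × ℕ := ((nat_lit 0xff030402ff00ff0100ffff0004ffff03ff00ff00000000), (nat_lit 0x1010100000001000000010200000200000000000000))
theorem m110b4 : allR 0 24 (ptB 24 (nat_lit 5) (nat_lit 31) m0T m110T m110J m0L4 [m0L5, m0L6] m110L4 (dg [m0L3.b, m0L2.b, m0L1.b, m0L0.b]) m110F4.1 m110F4.2) = true := by decide +kernel
noncomputable def m110F5 : ℕ × ℕ := ((nat_lit 0xff0000000000ff0000000000000000000000000000000000), (nat_lit 0))
theorem m110b5 : allR 0 24 (ptB 24 (nat_lit 5) (nat_lit 31) m0T m110T m110J m0L5 [m0L6] m110L5 (dg [m0L4.b, m0L3.b, m0L2.b, m0L1.b, m0L0.b]) m110F5.1 m110F5.2) = true := by decide +kernel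
noncomputable def m110F6 : ℕ × ℕ := ((nat_lit 0xffffffffff00ffff00ff00ffffffffffff000000000000), (nat_lit 0))
theorem m110b6 : allR 0 24 (ptB 24 (nat_lit 5) (nat_lit 31) m0T m110T m110J m0L6 [] m110L6 (dg [m0L5.b, m0L4.b, m0L3.b, m0L2.b, m0L1.b, m0L0.b]) m110F6.1 m110F6.2) = true := by decide +kernel
theorem m110bk : Bk 24 (nat_lit 5) (nat_lit 31) m0T m110T m110J m0L m110L [m110F0, m110F1, m110F2, m110F3, m110F4, m110F5, m110F6] [] :=
  ⟨rfl, m110b0, rfl, m110b1, rfl, m110b2, rfl, m110b3, rfl, m110b4, rfl, m110b5, rfl, m110b6, trivial⟩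
theorem m110tc : tchainChk 24 (nat_lit 5) (nat_lit 31) m110T m110L = true := by decide +kernel
noncomputable def m11t0 : ℕ := (nat_lit 0x75576518ac3dd28a3e449b63018820)
noncomputable def m11t1 : ℕ := (nat_lit 0x752cb3a4a455cd0acdac7ca2818820)
noncomputable def m11t2 : ℕ := (nat_lit 0x89df3ac2eda150655992591c918820)
noncomputable def m11t3 : ℕ := (nat_lit 0x8aa6fa22f2a96093ac8db31c618820)
noncomputable def m11t4 : ℕ := (nat_lit 0xb5eae2a62d7d20359e465226460820)
noncomputable def m11t5 : ℕ := (nat_lit 0x8d8ae9b6e37d2493a98259aa482020)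
noncomputable def m11t6 : ℕ := (nat_lit 0x759ea9ca2cadc502d1213996323500)
noncomputable def m11T : Tr ℕ := (.node (nat_lit 3) (.node (nat_lit 1) (.leaf m11t0) (.node (nat_lit 2) (.leaf m11t1) (.leaf m11t2)))
 (.node (nat_lit 5) (.node (nat_lit 4) (.leaf m11t3) (.leaf m11t4)) (.node (nat_lit 6) (.leaf m11t5) (.leaf m11t6))))
noncomputable def m11L0 : Lev := ⟨(nat_lit 1), (nat_lit 7), (nat_lit 0x4000100000301000003070005000205060000), (nat_lit 0x2000300000202000003010002000203020000),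
 (.leaf 0),
 (.leaf 0)⟩
noncomputable def m11L1 : Lev := ⟨(nat_lit 2), (nat_lit 6), (nat_lit 0x4000100000301000003060005000205000000), (nat_lit 0x2000300000202000003010002000203000000),
 (.leaf 0),
 (.leaf 0)⟩
noncomputable def m11L2 : Lev := ⟨(nat_lit 3), (nat_lit 5), (nat_lit 0x3000100000405000003020004000100000000), (nat_lit 0x3000200000301000002020002000300000000),
 (.leaf 0),
 (.leaf 0)⟩
noncomputable def m11L3 : Lev := ⟨(nat_lit 4), (nat_lit 4), (nat_lit 0x4000200000301000004010003000000000000), (nat_lit 0x2000100000202000001010001000000000000),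
 (.leaf 0),
 (.leaf 0)⟩
noncomputable def m11L : List Lev := [m11L0, m11L1, m11L2, m11L3]
theorem m11e : smC [0] [340831] [] m11T = true := by decide +kernel
theorem m11tc : tchainChk 24 (nat_lit 5) (nat_lit 31) m11T m11L = true := by decide +kernel
theorem m11c : band (tchainChk 24 (nat_lit 5) (nat_lit 31) m11T m11L) (Nat.ble (chainOrd 24 m110L) (chainOrd 24 m11L)) = true := by decide +kernel
theorem m11ch {C : H7.Coding GolayPt} (hC : GC C) : Ch (SM M24 C [0] [340831] []) 24 5 31 C.dec m11T m11L :=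
  ((hC.chSM (hC.ch m0c) m110e m110tc m110bk).ch (hC.sm m11e) m11c)
theorem m11card {C : H7.Coding GolayPt} (hC : GC C) : Nat.card (SM M24 C [0] [340831] []) = 7920 := (m11ch hC).card.trans (by decide +kernel)
noncomputable def y2t0 : ℕ := (nat_lit 0x5d9d49a2292d4ccb9e12535e320820)
noncomputable def y2t1 : ℕ := (nat_lit 0xa3d67b98b0b2a487552298e2c69020)
noncomputable def y2t2 : ℕ := (nat_lit 0x9bd573b4b0b2c64ab92ca4a2232020)
noncomputable def y2T : Tr ℕ := (.node (nat_lit 1) (.leaf y2t0) (.node (nat_lit 2) (.leaf y2t1) (.leaf y2t2)))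
noncomputable def y2R : Tr (List ℕ) := (.node (nat_lit 2) (.node (nat_lit 1) (.leaf [nat_lit 0, nat_lit 0]) (.leaf [nat_lit 1, nat_lit 0, nat_lit 1, nat_lit 1, nat_lit 0, nat_lit 1])) (.node (nat_lit 3) (.leaf [nat_lit 0, nat_lit 1, nat_lit 0, nat_lit 2, nat_lit 0, nat_lit 2, nat_lit 0, nat_lit 2]) (.node (nat_lit 4) (.leaf [nat_lit 1, nat_lit 2]) (.leaf [nat_lit 1, nat_lit 1, nat_lit 1, nat_lit 1]))))
noncomputable def y2L0 : Lev := ⟨(nat_lit 2), (nat_lit 3), (nat_lit 0x1000000000202000000020003000301000000), (nat_lit 0x2000000000302000000010003000102000000),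
 (.node (nat_lit 1) (.leaf (nat_lit 0x20003000000000000000100000003000000010000000000000000))
 (.node (nat_lit 2) (.leaf (nat_lit 0x1000000000000000000000000000000000000000000000003000000020002000100000000))
 (.leaf (nat_lit 0x1000000000000000000030003000000000000000100000000000000000004000100000000)))),
 (.node (nat_lit 1) (.leaf (nat_lit 0x204000104000000000000000000000001000000000001000000000000000000000000000000000000))
 (.node (nat_lit 2) (.leaf (nat_lit 0x300000000000000000000000000000000000000000000000000000000000000000000000400000000000402000103000300000000000000))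
 (.leaf (nat_lit 0x301000000000000000000000000000301000301000000000000000000000301000000000000000000000000000301000301000000000000))))⟩
noncomputable def y2L1 : Lev := ⟨(nat_lit 3), (nat_lit 1), (nat_lit 0x100000000), (nat_lit 0x100000000),
 (.leaf (nat_lit 0x1000000000000)),
 (.leaf (nat_lit 0x1000000000000000000))⟩
noncomputable def y2L : List Lev := [y2L0, y2L1]
noncomputable def y2E : Tr (List ℕ) := (.node (nat_lit 1) (.leaf [nat_lit 1, nat_lit 1, nat_lit 4, nat_lit 1, nat_lit 1]) (.node (nat_lit 2) (.leaf [nat_lit 0, nat_lit 5, nat_lit 2, nat_lit 4, nat_lit 1, nat_lit 1]) (.leaf [nat_lit 5, nat_lit 2, nat_lit 4, nat_lit 0])))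
theorem y2w_0 : y2T.all2 (fun c w => isProd 24 (nat_lit 5) (nat_lit 31) m11T c w) y2E = true := by decide +kernel
theorem y2w : y2T.all2 (fun c w => isProd 24 (nat_lit 5) (nat_lit 31) m11T c w) y2E = true := y2w_0
theorem y2lev0 : levChk 24 (nat_lit 5) (nat_lit 31) y2T y2R y2L0 y2L1.N = true := by decide +kernel
theorem y2lev1 : levChk 24 (nat_lit 5) (nat_lit 31) y2T y2R y2L1 0 = true := by decide +kernel
theorem y2chain : Chain 24 (nat_lit 5) (nat_lit 31) y2T y2R y2L := chain_cons y2lev0 <| chain_one y2lev1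
theorem y2sd : band (selChk y2T y2T (topN y2L)) (y2R.all fun w => eqB (m11L.map Lev.b) (apL (nat_lit 5) (nat_lit 31) y2T w) fun a => a) = true := by decide +kernel
theorem y2tc : tchainChk 24 (nat_lit 5) (nat_lit 31) y2T y2L = true := by decide +kernel
noncomputable def k2z0 : ℕ := (nat_lit 0x996aebc2325d1237a9a839ac460440)
noncomputable def k2Z : Tr ℕ := (.leaf k2z0)
noncomputable def k2W : Tr (ℕ × List ℕ) := (.node (nat_lit 112633) (.node (nat_lit 65809) (.leaf ((nat_lit 0), [nat_lit 2, nat_lit 6, nat_lit 2, nat_lit 4, nat_lit 0])) (.leaf ((nat_lit 0), [nat_lit 2, nat_lit 6, nat_lit 0, nat_lit 5, nat_lit 3, nat_lit 1]))) (.node (nat_lit 121249) (.leaf ((nat_lit 0), [nat_lit 1, nat_lit 6])) (.node (nat_lit 253729) (.leaf ((nat_lit 0), [nat_lit 4, nat_lit 1, nat_lit 6, nat_lit 2, nat_lit 5, nat_lit 4, nat_lit 2])) (.leaf ((nat_lit 0), [nat_lit 1, nat_lit 6, nat_lit 3, nat_lit 5, nat_lit 4, nat_lit 2, nat_lit 1])))))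
theorem k2 : allR 0 24 (refu 24 (nat_lit 5) (nat_lit 31) y2T ⟨fun _ _ => 0, fun _ _ _ => true, leafK 24 (nat_lit 5) (nat_lit 31) (m11L.map Lev.b) m11T 2 k2Z k2W⟩ y2L0 [y2L1] []) = true := by decide +kernel
theorem k2e : smC [0] [340831] [] k2Z = true := by decide +kernel
noncomputable def cat0 : ℕ := (nat_lit 0x75576518ac3dd28a3e449b63018820)
noncomputable def cat1 : ℕ := (nat_lit 0x752cb3a4a455cd0acdac7ca2818820)
noncomputable def cat2 : ℕ := (nat_lit 0x2bd47b11c65c5929d209aa2ed18820)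
noncomputable def cat3 : ℕ := (nat_lit 0x2ccea5b1c9b448d7d506a42f218820)
noncomputable def cat4 : ℕ := (nat_lit 0xbaeae9c1522d18db4464399e848820)
noncomputable def cat5 : ℕ := (nat_lit 0x55a959896c73db08dc863a0a91c820)
noncomputable def cat6 : ℕ := (nat_lit 0x73eb19ca83b5da83a84c598a182480)
noncomputable def caT : Tr ℕ := (.node (nat_lit 3) (.node (nat_lit 1) (.leaf cat0) (.node (nat_lit 2) (.leaf cat1) (.leaf cat2)))
 (.node (nat_lit 5) (.node (nat_lit 4) (.leaf cat3) (.leaf cat4)) (.node (nat_lit 6) (.leaf cat5) (.leaf cat6))))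
noncomputable def caL0 : Lev := ⟨(nat_lit 1), (nat_lit 7), (nat_lit 0x3000200000401000006010003000707060000), (nat_lit 0x2000200000203000002020003000103030000),
 (.leaf 0),
 (.leaf 0)⟩
noncomputable def caL1 : Lev := ⟨(nat_lit 2), (nat_lit 6), (nat_lit 0x6000500000103000001030002000405000000), (nat_lit 0x1000200000302000002030002000203000000),
 (.leaf 0),
 (.leaf 0)⟩
noncomputable def caL2 : Lev := ⟨(nat_lit 3), (nat_lit 5), (nat_lit 0x2000400000104000005030001000300000000), (nat_lit 0x2000200000203000001020003000300000000),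
 (.leaf 0),
 (.leaf 0)⟩
noncomputable def caL3 : Lev := ⟨(nat_lit 12), (nat_lit 4), (nat_lit 0x4000100000300000003020004000100000000), (nat_lit 0x1000100000100000002010002000200000000),
 (.leaf 0),
 (.leaf 0)⟩
noncomputable def caL : List Lev := [caL0, caL1, caL2, caL3]
noncomputable def caE : Tr (List ℕ) := (.node (nat_lit 3) (.node (nat_lit 1) (.leaf [nat_lit 0]) (.node (nat_lit 2) (.leaf [nat_lit 1]) (.leaf [nat_lit 3, nat_lit 1])))
 (.node (nat_lit 5) (.node (nat_lit 4) (.leaf [nat_lit 2, nat_lit 1]) (.leaf [nat_lit 3, nat_lit 4, nat_lit 2])) (.node (nat_lit 6) (.leaf [nat_lit 2, nat_lit 5, nat_lit 1, nat_lit 4, nat_lit 3, nat_lit 1]) (.leaf [nat_lit 0, nat_lit 6, nat_lit 1]))))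
theorem caw_0 : caT.all2 (fun c w => isProd 24 (nat_lit 5) (nat_lit 31) m11T c w) caE = true := by decide +kernel
theorem caw : caT.all2 (fun c w => isProd 24 (nat_lit 5) (nat_lit 31) m11T c w) caE = true := caw_0
theorem cac : band (tchainChk 24 (nat_lit 5) (nat_lit 31) caT caL) (Nat.ble (chainOrd 24 m11L) (chainOrd 24 caL)) = true := by decide +kernel
noncomputable def czt0 : ℕ := (nat_lit 0xb2eb42b4e99b870bc584521e690820)
noncomputable def czt1 : ℕ := (nat_lit 0x5deb478d4c2ba49b1e068926868820)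
noncomputable def czt2 : ℕ := (nat_lit 0xbaeae9c1522d18db4464399e848820)
noncomputable def czt3 : ℕ := (nat_lit 0xa58f7706225cd2c7a9a4a98a81c240)
noncomputable def czT : Tr ℕ := (.node (nat_lit 2) (.node (nat_lit 1) (.leaf czt0) (.leaf czt1)) (.node (nat_lit 3) (.leaf czt2) (.leaf czt3)))
noncomputable def czL0 : Lev := ⟨(nat_lit 1), (nat_lit 4), (nat_lit 0x4000300000203000003000000000001040000), (nat_lit 0x1000200000203000003000000000002030000),
 (.leaf 0),
 (.leaf 0)⟩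
noncomputable def czL1 : Lev := ⟨(nat_lit 2), (nat_lit 3), (nat_lit 0x0), (nat_lit 0x0),
 (.leaf 0),
 (.leaf 0)⟩
noncomputable def czL2 : Lev := ⟨(nat_lit 3), (nat_lit 3), (nat_lit 0x2000300000103000003000000000000000000), (nat_lit 0x1000200000102000001000000000000000000),
 (.leaf 0),
 (.leaf 0)⟩
noncomputable def czL3 : Lev := ⟨(nat_lit 12), (nat_lit 0), (nat_lit 0x0), (nat_lit 0x0),
 (.leaf 0),
 (.leaf 0)⟩
noncomputable def czL : List Lev := [czL0, czL1, czL2, czL3]
noncomputable def czE : Tr (List ℕ) := (.node (nat_lit 2) (.node (nat_lit 1) (.leaf [nat_lit 3, nat_lit 1, nat_lit 4, nat_lit 3, nat_lit 1]) (.leaf [nat_lit 2, nat_lit 1, nat_lit 4, nat_lit 2, nat_lit 1])) (.node (nat_lit 3) (.leaf [nat_lit 3, nat_lit 4, nat_lit 2]) (.leaf [nat_lit 2, nat_lit 6, nat_lit 2, nat_lit 5, nat_lit 2, nat_lit 4, nat_lit 0])))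
theorem czw_0 : czT.all2 (fun c w => isProd 24 (nat_lit 5) (nat_lit 31) m11T c w) czE = true := by decide +kernel
theorem czw : czT.all2 (fun c w => isProd 24 (nat_lit 5) (nat_lit 31) m11T c w) czE = true := czw_0
noncomputable def czJ : List Pr := [(prC (caL.map Lev.b) [((ap 5 31 k2z0), (ap 5 31 k2z0))])]
noncomputable def czF0 : ℕ × ℕ := ((nat_lit 0xff00ff00ff00000000), (nat_lit 0))
theorem czb0 : allR 0 24 (ptB 24 (nat_lit 5) (nat_lit 31) caT czT czJ caL0 [caL1, caL2, caL3] czL0 (dg []) czF0.1 czF0.2) = true := by decide +kernel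
noncomputable def czF1 : ℕ × ℕ := ((nat_lit 0xff00ff0000ffff0000ffff00ff00ffff000000), (nat_lit 0))
theorem czb1 : allR 0 24 (ptB 24 (nat_lit 5) (nat_lit 31) caT czT czJ caL1 [caL2, caL3] czL1 (dg [caL0.b]) czF1.1 czF1.2) = true := by decide +kernel
noncomputable def czF2 : ℕ × ℕ := ((nat_lit 0xff00ff00ff00000000), (nat_lit 0))
theorem czb2 : allR 0 24 (ptB 24 (nat_lit 5) (nat_lit 31) caT czT czJ caL2 [caL3] czL2 (dg [caL1.b, caL0.b]) czF2.1 czF2.2) = true := by decide +kernel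
noncomputable def czF3 : ℕ × ℕ := ((nat_lit 0xff00ff0000ff000000ffff00ff00ff00000000), (nat_lit 0))
theorem czb3 : allR 0 24 (ptB 24 (nat_lit 5) (nat_lit 31) caT czT czJ caL3 [] czL3 (dg [caL2.b, caL1.b, caL0.b]) czF3.1 czF3.2) = true := by decide +kernel
theorem czbk : Bk 24 (nat_lit 5) (nat_lit 31) caT czT czJ caL czL [czF0, czF1, czF2, czF3] [] :=
  ⟨rfl, czb0, rfl, czb1, rfl, czb2, rfl, czb3, trivial⟩
theorem cztc : tchainChk 24 (nat_lit 5) (nat_lit 31) czT czL = true := by decide +kernel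
theorem czm : czT.all (fun c => eqB (caL.map Lev.b) (fun a => ap (nat_lit 5) (nat_lit 31) c (ap 5 31 k2z0 a)) fun a => ap 5 31 k2z0 (ap (nat_lit 5) (nat_lit 31) c a)) = true := by decide +kernel
noncomputable def cziI : Tr (List ℕ) := (.node (nat_lit 2) (.node (nat_lit 1) (.leaf [nat_lit 2, nat_lit 0, nat_lit 3]) (.leaf [nat_lit 3, nat_lit 2, nat_lit 0])) (.node (nat_lit 3) (.leaf [nat_lit 3, nat_lit 2, nat_lit 3, nat_lit 0]) (.leaf [nat_lit 0, nat_lit 3, nat_lit 1])))
theorem czih : MG.gl23R.all (fun w => eqB (czL.map Lev.b) (apF (fun y => apL (nat_lit 5) (nat_lit 31) czT (cziI.get y)) w) fun a => a) = true := by decide +kernel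
noncomputable def cziD : Tr (List ℕ) := (.node (nat_lit 2) (.node (nat_lit 1) (.leaf [nat_lit 2, nat_lit 1, nat_lit 3, nat_lit 0]) (.leaf [nat_lit 1, nat_lit 3, nat_lit 2, nat_lit 1])) (.node (nat_lit 3) (.leaf [nat_lit 0, nat_lit 3, nat_lit 1]) (.leaf [nat_lit 3, nat_lit 2, nat_lit 3, nat_lit 0])))
theorem czis : band (surChk (nat_lit 5) (nat_lit 31) (czL.map Lev.b) czT cziI (topN MG.gl23L) cziD (topN czL)) (Nat.ble (chainOrd 8 MG.gl23L) (chainOrd 24 czL)) = true := by decide +kernel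
theorem m11z {C : H7.Coding GolayPt} (hC : GC C) (x : (SM M24 C [0] [340831] [])) (hx : orderOf x = 2) : Nonempty (centralizer {x} ≃* GL (Fin 2) (ZMod 3)) :=
  have S := m11ch hC
  let ⟨_, K, _⟩ := (S.gen (lets_words S.lets y2E y2w) y2chain y2sd y2tc)
  let ⟨j, h⟩ := S.conjK K (by norm_num) (by decide +kernel) (hC.sm k2e) k2 hx
  have hz : RepF 24 C.dec (ap 5 31 k2z0) _ := (hC.sm k2e).rep j
  have A := (S.ch (lets_words S.lets caE caw) cac)
  (cent_conj h).elim fun e => ((MG.gl23std (exm3 (ZMod.card 3)) (ZMod.card 3)).isoW (A.sub _ (snd_cent A hz) (lets_chk (lets_words S.lets czE czw) _ _ (cent_chk A hz) czm) cztc czbk) czih czis).map fun e' => e.trans e'.symm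
theorem m11x_0 : allR 0 1 (refu 24 (nat_lit 5) (nat_lit 31) m11T ⟨fun _ _ => 0, fun _ _ _ => true, fun f => bor (bnot (Nat.beq (Nat.land (fxP 24 f) 16436384) 0)) (band (eqB (m11L.map Lev.b) (itF f 8) fun a => a) (bnot (eqB (m11L.map Lev.b) (itF f 2) fun a => a)))⟩ m11L0 [m11L1, m11L2, m11L3] []) = true := by decide +kernel
theorem m11x_1 : allR 1 1 (refu 24 (nat_lit 5) (nat_lit 31) m11T ⟨fun _ _ => 0, fun _ _ _ => true, fun f => bor (bnot (Nat.beq (Nat.land (fxP 24 f) 16436384) 0)) (band (eqB (m11L.map Lev.b) (itF f 8) fun a => a) (bnot (eqB (m11L.map Lev.b) (itF f 2) fun a => a)))⟩ m11L0 [m11L1, m11L2, m11L3] []) = true := by decide +kernel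
theorem m11x_2 : allR 2 1 (refu 24 (nat_lit 5) (nat_lit 31) m11T ⟨fun _ _ => 0, fun _ _ _ => true, fun f => bor (bnot (Nat.beq (Nat.land (fxP 24 f) 16436384) 0)) (band (eqB (m11L.map Lev.b) (itF f 8) fun a => a) (bnot (eqB (m11L.map Lev.b) (itF f 2) fun a => a)))⟩ m11L0 [m11L1, m11L2, m11L3] []) = true := by decide +kernel
theorem m11x_3 : allR 3 1 (refu 24 (nat_lit 5) (nat_lit 31) m11T ⟨fun _ _ => 0, fun _ _ _ => true, fun f => bor (bnot (Nat.beq (Nat.land (fxP 24 f) 16436384) 0)) (band (eqB (m11L.map Lev.b) (itF f 8) fun a => a) (bnot (eqB (m11L.map Lev.b) (itF f 2) fun a => a)))⟩ m11L0 [m11L1, m11L2, m11L3] []) = true := by decide +kernel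
theorem m11x_4 : allR 4 1 (refu 24 (nat_lit 5) (nat_lit 31) m11T ⟨fun _ _ => 0, fun _ _ _ => true, fun f => bor (bnot (Nat.beq (Nat.land (fxP 24 f) 16436384) 0)) (band (eqB (m11L.map Lev.b) (itF f 8) fun a => a) (bnot (eqB (m11L.map Lev.b) (itF f 2) fun a => a)))⟩ m11L0 [m11L1, m11L2, m11L3] []) = true := by decide +kernel
theorem m11x_5 : allR 5 1 (refu 24 (nat_lit 5) (nat_lit 31) m11T ⟨fun _ _ => 0, fun _ _ _ => true, fun f => bor (bnot (Nat.beq (Nat.land (fxP 24 f) 16436384) 0)) (band (eqB (m11L.map Lev.b) (itF f 8) fun a => a) (bnot (eqB (m11L.map Lev.b) (itF f 2) fun a => a)))⟩ m11L0 [m11L1, m11L2, m11L3] []) = true := by decide +kernel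
theorem m11x_6 : allR 6 1 (refu 24 (nat_lit 5) (nat_lit 31) m11T ⟨fun _ _ => 0, fun _ _ _ => true, fun f => bor (bnot (Nat.beq (Nat.land (fxP 24 f) 16436384) 0)) (band (eqB (m11L.map Lev.b) (itF f 8) fun a => a) (bnot (eqB (m11L.map Lev.b) (itF f 2) fun a => a)))⟩ m11L0 [m11L1, m11L2, m11L3] []) = true := by decide +kernel
theorem m11x_7 : allR 7 1 (refu 24 (nat_lit 5) (nat_lit 31) m11T ⟨fun _ _ => 0, fun _ _ _ => true, fun f => bor (bnot (Nat.beq (Nat.land (fxP 24 f) 16436384) 0)) (band (eqB (m11L.map Lev.b) (itF f 8) fun a => a) (bnot (eqB (m11L.map Lev.b) (itF f 2) fun a => a)))⟩ m11L0 [m11L1, m11L2, m11L3] []) = true := by decide +kernel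
theorem m11x_8 : allR 8 1 (refu 24 (nat_lit 5) (nat_lit 31) m11T ⟨fun _ _ => 0, fun _ _ _ => true, fun f => bor (bnot (Nat.beq (Nat.land (fxP 24 f) 16436384) 0)) (band (eqB (m11L.map Lev.b) (itF f 8) fun a => a) (bnot (eqB (m11L.map Lev.b) (itF f 2) fun a => a)))⟩ m11L0 [m11L1, m11L2, m11L3] []) = true := by decide +kernel
theorem m11x_9 : allR 9 1 (refu 24 (nat_lit 5) (nat_lit 31) m11T ⟨fun _ _ => 0, fun _ _ _ => true, fun f => bor (bnot (Nat.beq (Nat.land (fxP 24 f) 16436384) 0)) (band (eqB (m11L.map Lev.b) (itF f 8) fun a => a) (bnot (eqB (m11L.map Lev.b) (itF f 2) fun a => a)))⟩ m11L0 [m11L1, m11L2, m11L3] []) = true := by decide +kernel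
theorem m11x_10 : allR 10 2 (refu 24 (nat_lit 5) (nat_lit 31) m11T ⟨fun _ _ => 0, fun _ _ _ => true, fun f => bor (bnot (Nat.beq (Nat.land (fxP 24 f) 16436384) 0)) (band (eqB (m11L.map Lev.b) (itF f 8) fun a => a) (bnot (eqB (m11L.map Lev.b) (itF f 2) fun a => a)))⟩ m11L0 [m11L1, m11L2, m11L3] []) = true := by decide +kernel
theorem m11x_11 : allR 12 1 (refu 24 (nat_lit 5) (nat_lit 31) m11T ⟨fun _ _ => 0, fun _ _ _ => true, fun f => bor (bnot (Nat.beq (Nat.land (fxP 24 f) 16436384) 0)) (band (eqB (m11L.map Lev.b) (itF f 8) fun a => a) (bnot (eqB (m11L.map Lev.b) (itF f 2) fun a => a)))⟩ m11L0 [m11L1, m11L2, m11L3] []) = true := by decide +kernel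
theorem m11x_12 : allR 13 1 (refu 24 (nat_lit 5) (nat_lit 31) m11T ⟨fun _ _ => 0, fun _ _ _ => true, fun f => bor (bnot (Nat.beq (Nat.land (fxP 24 f) 16436384) 0)) (band (eqB (m11L.map Lev.b) (itF f 8) fun a => a) (bnot (eqB (m11L.map Lev.b) (itF f 2) fun a => a)))⟩ m11L0 [m11L1, m11L2, m11L3] []) = true := by decide +kernel
theorem m11x_13 : allR 14 2 (refu 24 (nat_lit 5) (nat_lit 31) m11T ⟨fun _ _ => 0, fun _ _ _ => true, fun f => bor (bnot (Nat.beq (Nat.land (fxP 24 f) 16436384) 0)) (band (eqB (m11L.map Lev.b) (itF f 8) fun a => a) (bnot (eqB (m11L.map Lev.b) (itF f 2) fun a => a)))⟩ m11L0 [m11L1, m11L2, m11L3] []) = true := by decide +kernel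
theorem m11x_14 : allR 16 1 (refu 24 (nat_lit 5) (nat_lit 31) m11T ⟨fun _ _ => 0, fun _ _ _ => true, fun f => bor (bnot (Nat.beq (Nat.land (fxP 24 f) 16436384) 0)) (band (eqB (m11L.map Lev.b) (itF f 8) fun a => a) (bnot (eqB (m11L.map Lev.b) (itF f 2) fun a => a)))⟩ m11L0 [m11L1, m11L2, m11L3] []) = true := by decide +kernel
theorem m11x_15 : allR 17 1 (refu 24 (nat_lit 5) (nat_lit 31) m11T ⟨fun _ _ => 0, fun _ _ _ => true, fun f => bor (bnot (Nat.beq (Nat.land (fxP 24 f) 16436384) 0)) (band (eqB (m11L.map Lev.b) (itF f 8) fun a => a) (bnot (eqB (m11L.map Lev.b) (itF f 2) fun a => a)))⟩ m11L0 [m11L1, m11L2, m11L3] []) = true := by decide +kernel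
theorem m11x_16 : allR 18 1 (refu 24 (nat_lit 5) (nat_lit 31) m11T ⟨fun _ _ => 0, fun _ _ _ => true, fun f => bor (bnot (Nat.beq (Nat.land (fxP 24 f) 16436384) 0)) (band (eqB (m11L.map Lev.b) (itF f 8) fun a => a) (bnot (eqB (m11L.map Lev.b) (itF f 2) fun a => a)))⟩ m11L0 [m11L1, m11L2, m11L3] []) = true := by decide +kernel
theorem m11x_17 : allR 19 5 (refu 24 (nat_lit 5) (nat_lit 31) m11T ⟨fun _ _ => 0, fun _ _ _ => true, fun f => bor (bnot (Nat.beq (Nat.land (fxP 24 f) 16436384) 0)) (band (eqB (m11L.map Lev.b) (itF f 8) fun a => a) (bnot (eqB (m11L.map Lev.b) (itF f 2) fun a => a)))⟩ m11L0 [m11L1, m11L2, m11L3] []) = true := by decide +kernel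
theorem m11x : allR 0 24 (refu 24 (nat_lit 5) (nat_lit 31) m11T ⟨fun _ _ => 0, fun _ _ _ => true, fun f => bor (bnot (Nat.beq (Nat.land (fxP 24 f) 16436384) 0)) (band (eqB (m11L.map Lev.b) (itF f 8) fun a => a) (bnot (eqB (m11L.map Lev.b) (itF f 2) fun a => a)))⟩ m11L0 [m11L1, m11L2, m11L3] []) = true := (allR_add (allR_add (allR_add (allR_add (allR_add (allR_add (allR_add (allR_add (allR_add (allR_add (allR_add (allR_add (allR_add (allR_add (allR_add (allR_add (allR_add m11x_0 m11x_1) m11x_2) m11x_3) m11x_4) m11x_5) m11x_6) m11x_7) m11x_8) m11x_9) m11x_10) m11x_11) m11x_12) m11x_13) m11x_14) m11x_15) m11x_16) m11x_17)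
noncomputable def hW : Tr (List ℕ) := (.node (nat_lit 262238) (.node (nat_lit 66078) (.node (nat_lit 8790) (.node (nat_lit 4700) (.node (nat_lit 4127) (.node (nat_lit 797) (.node (nat_lit 591) (.leaf []) (.leaf [nat_lit 0, nat_lit 4])) (.node (nat_lit 858) (.leaf [nat_lit 6, nat_lit 4]) (.leaf [nat_lit 4, nat_lit 7, nat_lit 4])))
 (.node (nat_lit 4441) (.node (nat_lit 4430) (.leaf [nat_lit 4, nat_lit 3]) (.leaf [nat_lit 5, nat_lit 7])) (.node (nat_lit 4691) (.leaf [nat_lit 5, nat_lit 6, nat_lit 3, nat_lit 0]) (.leaf [nat_lit 7, nat_lit 0, nat_lit 0]))))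
 (.node (nat_lit 8285) (.node (nat_lit 4886) (.node (nat_lit 4875) (.leaf [nat_lit 5, nat_lit 7, nat_lit 2, nat_lit 6]) (.leaf [nat_lit 5, nat_lit 0, nat_lit 0])) (.node (nat_lit 4933) (.leaf [nat_lit 7, nat_lit 3, nat_lit 7, nat_lit 2]) (.leaf [nat_lit 6, nat_lit 3])))
 (.node (nat_lit 8523) (.node (nat_lit 8478) (.leaf [nat_lit 3, nat_lit 5, nat_lit 6, nat_lit 0]) (.leaf [nat_lit 3, nat_lit 4, nat_lit 7])) (.node (nat_lit 8731) (.leaf [nat_lit 5, nat_lit 3]) (.leaf [nat_lit 2, nat_lit 5, nat_lit 1])))))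
 (.node (nat_lit 12628) (.node (nat_lit 12359) (.node (nat_lit 9036) (.node (nat_lit 8967) (.leaf [nat_lit 7, nat_lit 3]) (.leaf [nat_lit 2])) (.node (nat_lit 9041) (.leaf [nat_lit 7, nat_lit 3, nat_lit 6, nat_lit 4]) (.leaf [nat_lit 7, nat_lit 6, nat_lit 0])))
 (.node (nat_lit 12557) (.node (nat_lit 12378) (.leaf [nat_lit 3, nat_lit 0]) (.leaf [nat_lit 5, nat_lit 7, nat_lit 1])) (.node (nat_lit 12563) (.leaf [nat_lit 5, nat_lit 6, nat_lit 0]) (.leaf [nat_lit 5, nat_lit 2, nat_lit 0]))))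
 (.node (nat_lit 13080) (.node (nat_lit 12821) (.node (nat_lit 12814) (.leaf [nat_lit 3, nat_lit 7, nat_lit 5, nat_lit 6]) (.leaf [nat_lit 4, nat_lit 7])) (.node (nat_lit 12873) (.leaf [nat_lit 6, nat_lit 1]) (.leaf [nat_lit 6, nat_lit 1, nat_lit 5, nat_lit 1])))
 (.node (nat_lit 65627) (.node (nat_lit 13122) (.leaf [nat_lit 4, nat_lit 7, nat_lit 3, nat_lit 6, nat_lit 1]) (.leaf [nat_lit 7, nat_lit 0])) (.node (nat_lit 65807) (.leaf [nat_lit 1, nat_lit 5, nat_lit 1]) (.node (nat_lit 65884) (.leaf [nat_lit 4, nat_lit 3, nat_lit 0]) (.leaf [nat_lit 2, nat_lit 6, nat_lit 5, nat_lit 7])))))))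
 (.node (nat_lit 73806) (.node (nat_lit 69914) (.node (nat_lit 66377) (.node (nat_lit 66323) (.node (nat_lit 66133) (.leaf [nat_lit 6, nat_lit 4, nat_lit 7]) (.leaf [nat_lit 6, nat_lit 3, nat_lit 0])) (.node (nat_lit 66374) (.leaf [nat_lit 2, nat_lit 7, nat_lit 2]) (.leaf [nat_lit 7])))
 (.node (nat_lit 69718) (.node (nat_lit 69709) (.leaf [nat_lit 7, nat_lit 6, nat_lit 4]) (.leaf [nat_lit 0, nat_lit 5, nat_lit 6, nat_lit 0])) (.node (nat_lit 69909) (.leaf [nat_lit 3, nat_lit 0, nat_lit 7, nat_lit 3]) (.leaf [nat_lit 2, nat_lit 6]))))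
 (.node (nat_lit 70218) (.node (nat_lit 70151) (.node (nat_lit 69955) (.leaf [nat_lit 2, nat_lit 7, nat_lit 4]) (.leaf [nat_lit 3, nat_lit 7, nat_lit 2])) (.node (nat_lit 70169) (.leaf [nat_lit 0, nat_lit 0]) (.leaf [nat_lit 2, nat_lit 6, nat_lit 5, nat_lit 1])))
 (.node (nat_lit 70480) (.node (nat_lit 70412) (.leaf [nat_lit 7, nat_lit 4, nat_lit 3]) (.leaf [nat_lit 6, nat_lit 2, nat_lit 4, nat_lit 7])) (.node (nat_lit 73751) (.leaf [nat_lit 7, nat_lit 2, nat_lit 6]) (.leaf [nat_lit 1])))))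
 (.node (nat_lit 74516) (.node (nat_lit 74253) (.node (nat_lit 74053) (.node (nat_lit 74009) (.leaf [nat_lit 0, nat_lit 4, nat_lit 7]) (.leaf [nat_lit 4, nat_lit 5, nat_lit 6])) (.node (nat_lit 74066) (.leaf [nat_lit 0, nat_lit 6, nat_lit 1]) (.leaf [nat_lit 3, nat_lit 7, nat_lit 0])))
 (.node (nat_lit 74328) (.node (nat_lit 74307) (.leaf [nat_lit 6, nat_lit 4, nat_lit 3]) (.leaf [nat_lit 7, nat_lit 2, nat_lit 0])) (.node (nat_lit 74506) (.leaf [nat_lit 6, nat_lit 5, nat_lit 7, nat_lit 1]) (.leaf [nat_lit 4, nat_lit 7, nat_lit 0]))))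
 (.node (nat_lit 78086) (.node (nat_lit 77852) (.node (nat_lit 77835) (.leaf [nat_lit 6, nat_lit 0, nat_lit 7]) (.leaf [nat_lit 0, nat_lit 5, nat_lit 0, nat_lit 0])) (.node (nat_lit 77905) (.leaf [nat_lit 5, nat_lit 7, nat_lit 4, nat_lit 5, nat_lit 6]) (.leaf [nat_lit 3, nat_lit 5, nat_lit 6])))
 (.node (nat_lit 78354) (.node (nat_lit 78152) (.leaf [nat_lit 2, nat_lit 7, nat_lit 3]) (.leaf [nat_lit 5, nat_lit 6, nat_lit 5, nat_lit 7])) (.node (nat_lit 78404) (.leaf [nat_lit 3, nat_lit 0, nat_lit 7, nat_lit 0]) (.node (nat_lit 78593) (.leaf [nat_lit 7, nat_lit 1, nat_lit 6, nat_lit 0]) (.leaf [nat_lit 2, nat_lit 7, nat_lit 6, nat_lit 0]))))))))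
 (.node (nat_lit 274947) (.node (nat_lit 267025) (.node (nat_lit 266315) (.node (nat_lit 262745) (.node (nat_lit 262477) (.node (nat_lit 262427) (.leaf [nat_lit 5, nat_lit 3, nat_lit 7, nat_lit 0]) (.leaf [nat_lit 5, nat_lit 1])) (.node (nat_lit 262679) (.leaf [nat_lit 3, nat_lit 6, nat_lit 4]) (.leaf [nat_lit 2, nat_lit 0])))
 (.node (nat_lit 262979) (.node (nat_lit 262926) (.leaf [nat_lit 6, nat_lit 5, nat_lit 3]) (.leaf [nat_lit 7, nat_lit 5, nat_lit 3])) (.node (nat_lit 262996) (.leaf [nat_lit 7, nat_lit 2]) (.leaf [nat_lit 7, nat_lit 0, nat_lit 6, nat_lit 1]))))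
 (.node (nat_lit 266578) (.node (nat_lit 266503) (.node (nat_lit 266325) (.leaf [nat_lit 3, nat_lit 5, nat_lit 1]) (.leaf [nat_lit 1, nat_lit 6, nat_lit 0])) (.node (nat_lit 266524) (.leaf [nat_lit 0]) (.leaf [nat_lit 5, nat_lit 6, nat_lit 0, nat_lit 7])))
 (.node (nat_lit 266778) (.node (nat_lit 266765) (.leaf [nat_lit 5, nat_lit 7, nat_lit 3]) (.leaf [nat_lit 6, nat_lit 4, nat_lit 3, nat_lit 0])) (.node (nat_lit 266822) (.leaf [nat_lit 4, nat_lit 7, nat_lit 1]) (.leaf [nat_lit 6, nat_lit 7])))))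
 (.node (nat_lit 270917) (.node (nat_lit 270613) (.node (nat_lit 270351) (.node (nat_lit 267080) (.leaf [nat_lit 5, nat_lit 6, nat_lit 1]) (.leaf [nat_lit 7, nat_lit 5, nat_lit 6, nat_lit 0])) (.node (nat_lit 270419) (.leaf [nat_lit 4]) (.leaf [nat_lit 4, nat_lit 5, nat_lit 1])))
 (.node (nat_lit 270680) (.node (nat_lit 270662) (.leaf [nat_lit 3, nat_lit 6, nat_lit 1]) (.leaf [nat_lit 0, nat_lit 7, nat_lit 3])) (.node (nat_lit 270876) (.leaf [nat_lit 1, nat_lit 7, nat_lit 5, nat_lit 6, nat_lit 0]) (.leaf [nat_lit 6, nat_lit 3, nat_lit 4, nat_lit 7]))))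
 (.node (nat_lit 274454) (.node (nat_lit 271113) (.node (nat_lit 270922) (.leaf [nat_lit 6]) (.leaf [nat_lit 7, nat_lit 4])) (.node (nat_lit 271122) (.leaf [nat_lit 6, nat_lit 5, nat_lit 1]) (.leaf [nat_lit 1, nat_lit 7, nat_lit 0])))
 (.node (nat_lit 274508) (.node (nat_lit 274457) (.leaf [nat_lit 0, nat_lit 7]) (.leaf [nat_lit 0, nat_lit 7, nat_lit 6, nat_lit 4])) (.node (nat_lit 274698) (.leaf [nat_lit 1, nat_lit 6, nat_lit 5, nat_lit 7]) (.node (nat_lit 274753) (.leaf [nat_lit 4, nat_lit 3, nat_lit 7, nat_lit 0]) (.leaf [nat_lit 5, nat_lit 6])))))))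
 (.node (nat_lit 332041) (.node (nat_lit 328203) (.node (nat_lit 327751) (.node (nat_lit 275204) (.node (nat_lit 275024) (.leaf [nat_lit 0, nat_lit 7, nat_lit 2]) (.leaf [nat_lit 6, nat_lit 3, nat_lit 7, nat_lit 0])) (.node (nat_lit 327709) (.leaf [nat_lit 7, nat_lit 5, nat_lit 6]) (.leaf [nat_lit 1, nat_lit 6, nat_lit 4])))
 (.node (nat_lit 328010) (.node (nat_lit 327958) (.leaf [nat_lit 3]) (.leaf [nat_lit 3, nat_lit 7, nat_lit 3])) (.node (nat_lit 328017) (.leaf [nat_lit 1, nat_lit 4, nat_lit 7, nat_lit 1]) (.leaf [nat_lit 6, nat_lit 5, nat_lit 6]))))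
 (.node (nat_lit 328472) (.node (nat_lit 328274) (.node (nat_lit 328268) (.leaf [nat_lit 2, nat_lit 5, nat_lit 0, nat_lit 0]) (.leaf [nat_lit 6, nat_lit 5, nat_lit 7])) (.node (nat_lit 328453) (.leaf [nat_lit 7, nat_lit 1]) (.leaf [nat_lit 6, nat_lit 0])))
 (.node (nat_lit 331795) (.node (nat_lit 331790) (.leaf [nat_lit 7, nat_lit 4, nat_lit 5, nat_lit 6]) (.leaf [nat_lit 2, nat_lit 4, nat_lit 7])) (.node (nat_lit 331864) (.leaf [nat_lit 5, nat_lit 2, nat_lit 5, nat_lit 1]) (.leaf [nat_lit 5, nat_lit 6, nat_lit 5, nat_lit 7, nat_lit 1])))))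
 (.node (nat_lit 336131) (.node (nat_lit 332546) (.node (nat_lit 332308) (.node (nat_lit 332100) (.leaf [nat_lit 5, nat_lit 6, nat_lit 4, nat_lit 3]) (.leaf [nat_lit 2, nat_lit 7, nat_lit 1, nat_lit 6, nat_lit 0])) (.node (nat_lit 332353) (.leaf [nat_lit 6, nat_lit 2, nat_lit 7, nat_lit 3]) (.leaf [nat_lit 7, nat_lit 6, nat_lit 1])))
 (.node (nat_lit 335945) (.node (nat_lit 335898) (.leaf [nat_lit 2, nat_lit 7, nat_lit 0]) (.leaf [nat_lit 2, nat_lit 4, nat_lit 7, nat_lit 1])) (.node (nat_lit 335956) (.leaf [nat_lit 1, nat_lit 6, nat_lit 5, nat_lit 3]) (.leaf [nat_lit 0, nat_lit 7, nat_lit 1, nat_lit 6, nat_lit 0]))))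
 (.node (nat_lit 336704) (.node (nat_lit 336390) (.node (nat_lit 336140) (.leaf [nat_lit 5, nat_lit 4]) (.leaf [nat_lit 0, nat_lit 5, nat_lit 7, nat_lit 2, nat_lit 6])) (.node (nat_lit 336401) (.leaf [nat_lit 1, nat_lit 7, nat_lit 3]) (.leaf [nat_lit 6, nat_lit 5, nat_lit 2, nat_lit 0])))
 (.node (nat_lit 340034) (.node (nat_lit 339973) (.leaf [nat_lit 7, nat_lit 3, nat_lit 6, nat_lit 1]) (.leaf [nat_lit 2, nat_lit 6, nat_lit 1])) (.node (nat_lit 340240) (.leaf [nat_lit 0, nat_lit 7, nat_lit 0]) (.node (nat_lit 340488) (.leaf [nat_lit 0, nat_lit 7, nat_lit 2, nat_lit 6]) (.leaf [nat_lit 6, nat_lit 2, nat_lit 7, nat_lit 4])))))))))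
theorem hc : (allL StB.oL fun a => frc (Nat.land a 340831) fun Y => bor (bnot (Nat.beq (H7.pc24 Y) 6)) (Nat.beq (imOn 24 (apL 5 31 d0T (hW.get Y)) 343) Y)) = true := by decide +kernel
noncomputable def m8t0 : ℕ := (nat_lit 0xaaef43aa116b9e5b48689998448820)
noncomputable def m8t1 : ℕ := (nat_lit 0x8363494eb75bac379ca85192460820)
noncomputable def m8t2 : ℕ := (nat_lit 0x532548d6674b8762dde88196468820)
noncomputable def m8t3 : ℕ := (nat_lit 0x6c1f42a576abae788e4861a6450820)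
noncomputable def m8t4 : ℕ := (nat_lit 0x98d208b2f65d2a53a9a879a448082e)
noncomputable def m8t5 : ℕ := (nat_lit 0x8c1aeb9663381327aaa859984b0834)
noncomputable def m8t6 : ℕ := (nat_lit 0x8d92b9cae301da5a12a87198a8082f)
noncomputable def m8t7 : ℕ := (nat_lit 0xa59376008d7ba1352ea8118b119c32)
noncomputable def m8t8 : ℕ := (nat_lit 0x312b3a35507824c5c4481dcb63a42e)
noncomputable def m8t9 : ℕ := (nat_lit 0x1a90b9c9c73458da593583ca4b8820)
noncomputable def m8t10 : ℕ := (nat_lit 0x2894d5a4c30b28e9d647446e0859e4)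
noncomputable def m8T : Tr ℕ := (.node (nat_lit 5) (.node (nat_lit 2) (.node (nat_lit 1) (.leaf m8t0) (.leaf m8t1)) (.node (nat_lit 3) (.leaf m8t2) (.node (nat_lit 4) (.leaf m8t3) (.leaf m8t4))))
 (.node (nat_lit 8) (.node (nat_lit 6) (.leaf m8t5) (.node (nat_lit 7) (.leaf m8t6) (.leaf m8t7))) (.node (nat_lit 9) (.leaf m8t8) (.node (nat_lit 10) (.leaf m8t9) (.leaf m8t10)))))
noncomputable def m8L0 : Lev := ⟨(nat_lit 1), (nat_lit 11), (nat_lit 0x402040b0b0904080b07010a0208030a050a030b03090007), (nat_lit 0x30302030303030301030203020302030202030303030002),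
 (.leaf 0),
 (.leaf 0)⟩
noncomputable def m8L1 : Lev := ⟨(nat_lit 8), (nat_lit 10), (nat_lit 0x1020a0806030202040a050604030600050905080a090008), (nat_lit 0x20301030302020302030203030302000303030303030003),
 (.leaf 0),
 (.leaf 0)⟩
noncomputable def m8L2 : Lev := ⟨(nat_lit 6), (nat_lit 9), (nat_lit 0x90401080603050204050408080306000300040705090006), (nat_lit 0x10302020203020203030203030203000300030303040003),
 (.leaf 0),
 (.leaf 0)⟩
noncomputable def m8L3 : Lev := ⟨(nat_lit 2), (nat_lit 8), (nat_lit 0x50404070102030306070804050203000800040704000007), (nat_lit 0x30303030203030202020302020203000100030303000003),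
 (.leaf 0),
 (.leaf 0)⟩
noncomputable def m8L4 : Lev := ⟨(nat_lit 4), (nat_lit 7), (nat_lit 0x30503070201050306070406050704000200050004000007), (nat_lit 0x20303040302030303030303030103000200030002000004),
 (.leaf 0),
 (.leaf 0)⟩
noncomputable def m8L5 : Lev := ⟨(nat_lit 0), (nat_lit 6), (nat_lit 0x50000000000060000000000000000000000000000), (nat_lit 0x10000000000010000000000000000000000000000),
 (.leaf 0),
 (.leaf 0)⟩
noncomputable def m8L6 : Lev := ⟨(nat_lit 3), (nat_lit 4), (nat_lit 0x40304000404040403000302030401000400020000000000), (nat_lit 0x20203000302040302000101030101000200020000000000),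
 (.leaf 0),
 (.leaf 0)⟩
noncomputable def m8L : List Lev := [m8L0, m8L1, m8L2, m8L3, m8L4, m8L5, m8L6]
theorem m8c : band (m8T.all fun c => m24Chk (ap 5 31 c)) (band (tchainChk 24 5 31 m8T m8L) (Nat.ble 244823040 (chainOrd 24 m8L))) = true := by decide +kernel
noncomputable def h10t0 : ℕ := (nat_lit 0x2ce2eb36a97d2435aa0839ae060824)
noncomputable def h10t1 : ℕ := (nat_lit 0x51dee9a62cad0705de48b18a269020)
noncomputable def h10t2 : ℕ := (nat_lit 0x5daae7b0e39d132ba9a8890a680820)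
noncomputable def h10t3 : ℕ := (nat_lit 0xbaeae9c1522d18db4464399e848820)
noncomputable def h10t4 : ℕ := (nat_lit 0xb5d6e9c9ed8d20caa9263a0a118082)
noncomputable def h10T : Tr ℕ := (.node (nat_lit 2) (.node (nat_lit 1) (.leaf h10t0) (.leaf h10t1)) (.node (nat_lit 3) (.leaf h10t2) (.node (nat_lit 4) (.leaf h10t3) (.leaf h10t4))))
noncomputable def h10L0 : Lev := ⟨(nat_lit 1), (nat_lit 5), (nat_lit 0x40003000500020001), (nat_lit 0x20002000100020002),
 (.leaf 0),
 (.leaf 0)⟩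
noncomputable def h10L1 : Lev := ⟨(nat_lit 8), (nat_lit 4), (nat_lit 0x3000400020001), (nat_lit 0x2000100020002),
 (.leaf 0),
 (.leaf 0)⟩
noncomputable def h10L2 : Lev := ⟨(nat_lit 6), (nat_lit 3), (nat_lit 0x300020001), (nat_lit 0x100020002),
 (.leaf 0),
 (.leaf 0)⟩
noncomputable def h10L3 : Lev := ⟨(nat_lit 2), (nat_lit 2), (nat_lit 0x200000001), (nat_lit 0x100000002),
 (.leaf 0),
 (.leaf 0)⟩
noncomputable def h10L4 : Lev := ⟨(nat_lit 4), (nat_lit 1), (nat_lit 0x1), (nat_lit 0x1),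
 (.leaf 0),
 (.leaf 0)⟩
noncomputable def h10L5 : Lev := ⟨(nat_lit 0), (nat_lit 0), (nat_lit 0x0), (nat_lit 0x0),
 (.leaf 0),
 (.leaf 0)⟩
noncomputable def h10L6 : Lev := ⟨(nat_lit 3), (nat_lit 0), (nat_lit 0x0), (nat_lit 0x0),
 (.leaf 0),
 (.leaf 0)⟩
noncomputable def h10L : List Lev := [h10L0, h10L1, h10L2, h10L3, h10L4, h10L5, h10L6]
theorem h10e : smC [] [340831, 343] [] h10T = true := by decide +kernel
noncomputable def h10J : List Pr := [prSM 24 (allM [] [340831, 343]) []]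
noncomputable def h10F0 : ℕ × ℕ := ((nat_lit 0xffffffffffffffffffffffffffffff00ff00ff00ff000000), (nat_lit 0))
theorem h10b0 : allR 0 24 (ptB 24 (nat_lit 5) (nat_lit 31) m8T h10T h10J m8L0 [m8L1, m8L2, m8L3, m8L4, m8L5, m8L6] h10L0 (dg []) h10F0.1 h10F0.2) = true := by decide +kernel
noncomputable def h10F1 : ℕ × ℕ := ((nat_lit 0xffffffffffffffffffffffffffffff00ff00ff00ff000000), (nat_lit 0))
theorem h10b1 : allR 0 24 (ptB 24 (nat_lit 5) (nat_lit 31) m8T h10T h10J m8L1 [m8L2, m8L3, m8L4, m8L5, m8L6] h10L1 (dg [m8L0.b]) h10F1.1 h10F1.2) = true := by decide +kernel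
noncomputable def h10F2 : ℕ × ℕ := ((nat_lit 0xffffffffffffffffffffffffffffff00ff00ff00ff000000), (nat_lit 0))
theorem h10b2 : allR 0 24 (ptB 24 (nat_lit 5) (nat_lit 31) m8T h10T h10J m8L2 [m8L3, m8L4, m8L5, m8L6] h10L2 (dg [m8L1.b, m8L0.b]) h10F2.1 h10F2.2) = true := by decide +kernel
noncomputable def h10F3 : ℕ × ℕ := ((nat_lit 0xffffffffffffffffffffffffffffff00ff00ff00ff000000), (nat_lit 0))
theorem h10b3 : allR 0 24 (ptB 24 (nat_lit 5) (nat_lit 31) m8T h10T h10J m8L3 [m8L4, m8L5, m8L6] h10L3 (dg [m8L2.b, m8L1.b, m8L0.b]) h10F3.1 h10F3.2) = true := by decide +kernel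
noncomputable def h10F4 : ℕ × ℕ := ((nat_lit 0xffffffffffffffffffffffffffffff00ff00ff00ff000000), (nat_lit 0))
theorem h10b4 : allR 0 24 (ptB 24 (nat_lit 5) (nat_lit 31) m8T h10T h10J m8L4 [m8L5, m8L6] h10L4 (dg [m8L3.b, m8L2.b, m8L1.b, m8L0.b]) h10F4.1 h10F4.2) = true := by decide +kernel
noncomputable def h10F5 : ℕ × ℕ := ((nat_lit 0xff0000000000ff0000000000000000000000000000), (nat_lit 0))
theorem h10b5 : allR 0 24 (ptB 24 (nat_lit 5) (nat_lit 31) m8T h10T h10J m8L5 [m8L6] h10L5 (dg [m8L4.b, m8L3.b, m8L2.b, m8L1.b, m8L0.b]) h10F5.1 h10F5.2) = true := by decide +kernel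
noncomputable def h10F6 : ℕ × ℕ := ((nat_lit 0xffffff00ffffffffff00ffffffffff00ff00ff0000000000), (nat_lit 0))
theorem h10b6 : allR 0 24 (ptB 24 (nat_lit 5) (nat_lit 31) m8T h10T h10J m8L6 [] h10L6 (dg [m8L5.b, m8L4.b, m8L3.b, m8L2.b, m8L1.b, m8L0.b]) h10F6.1 h10F6.2) = true := by decide +kernel
theorem h10bk : Bk 24 (nat_lit 5) (nat_lit 31) m8T h10T h10J m8L h10L [h10F0, h10F1, h10F2, h10F3, h10F4, h10F5, h10F6] [] :=
  ⟨rfl, h10b0, rfl, h10b1, rfl, h10b2, rfl, h10b3, rfl, h10b4, rfl, h10b5, rfl, h10b6, trivial⟩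
theorem h10tc : tchainChk 24 (nat_lit 5) (nat_lit 31) h10T h10L = true := by decide +kernel
noncomputable def h1t0 : ℕ := (nat_lit 0xb5eae2a62d7d20359e465226460820)
noncomputable def h1t1 : ℕ := (nat_lit 0xbaeae9c1522d18db4464399e848820)
noncomputable def h1t2 : ℕ := (nat_lit 0x8d8ae9b6e37d2493a98259aa482020)
noncomputable def h1t3 : ℕ := (nat_lit 0x53cf48c272b39a95dd81a98a219100)
noncomputable def h1t4 : ℕ := (nat_lit 0x7da74aca29bb98d52e00298e118888)
noncomputable def h1T : Tr ℕ := (.node (nat_lit 2) (.node (nat_lit 1) (.leaf h1t0) (.leaf h1t1)) (.node (nat_lit 3) (.leaf h1t2) (.node (nat_lit 4) (.leaf h1t3) (.leaf h1t4))))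
noncomputable def h1L0 : Lev := ⟨(nat_lit 0), (nat_lit 5), (nat_lit 0x50001000200030400), (nat_lit 0x10002000200020200),
 (.leaf 0),
 (.leaf 0)⟩
noncomputable def h1L1 : Lev := ⟨(nat_lit 1), (nat_lit 4), (nat_lit 0x40001000200030000), (nat_lit 0x10002000200020000),
 (.leaf 0),
 (.leaf 0)⟩
noncomputable def h1L2 : Lev := ⟨(nat_lit 2), (nat_lit 3), (nat_lit 0x30001000200000000), (nat_lit 0x10002000200000000),
 (.leaf 0),
 (.leaf 0)⟩
noncomputable def h1L3 : Lev := ⟨(nat_lit 4), (nat_lit 2), (nat_lit 0x20001000000000000), (nat_lit 0x10002000000000000),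
 (.leaf 0),
 (.leaf 0)⟩
noncomputable def h1L4 : Lev := ⟨(nat_lit 6), (nat_lit 1), (nat_lit 0x10000000000000000), (nat_lit 0x10000000000000000),
 (.leaf 0),
 (.leaf 0)⟩
noncomputable def h1L : List Lev := [h1L0, h1L1, h1L2, h1L3, h1L4]
theorem h1e : smC [] [340831, 343] [] h1T = true := by decide +kernel
theorem h1tc : tchainChk 24 (nat_lit 5) (nat_lit 31) h1T h1L = true := by decide +kernel
theorem h1c : band (tchainChk 24 (nat_lit 5) (nat_lit 31) h1T h1L) (Nat.ble (chainOrd 24 h10L) (chainOrd 24 h1L)) = true := by decide +kernel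
theorem h1ch {C : H7.Coding GolayPt} (hC : GC C) : Ch (SM M24 C [] [340831, 343] []) 24 5 31 C.dec h1T h1L :=
  ((hC.chSM (hC.ch m8c) h10e h10tc h10bk).ch (hC.sm h1e) h1c)
theorem h1card {C : H7.Coding GolayPt} (hC : GC C) : Nat.card (SM M24 C [] [340831, 343] []) = 720 := (h1ch hC).card.trans (by decide +kernel)
noncomputable def h1iI : Tr (List ℕ) := (.node (nat_lit 2) (.node (nat_lit 1) (.leaf [nat_lit 0]) (.leaf [nat_lit 0, nat_lit 1, nat_lit 0])) (.node (nat_lit 3) (.leaf [nat_lit 1, nat_lit 2, nat_lit 1]) (.node (nat_lit 4) (.leaf [nat_lit 2, nat_lit 3, nat_lit 2, nat_lit 1]) (.leaf [nat_lit 3, nat_lit 4, nat_lit 3, nat_lit 2]))))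
theorem h1ih : Alt.s6R.all (fun w => eqB (h1L.map Lev.b) (apF (fun y => apL (nat_lit 5) (nat_lit 31) h1T (h1iI.get y)) w) fun a => a) = true := by decide +kernel
noncomputable def h1iD : Tr (List ℕ) := (.node (nat_lit 2) (.node (nat_lit 1) (.leaf [nat_lit 0]) (.leaf [nat_lit 0, nat_lit 1, nat_lit 0])) (.node (nat_lit 3) (.leaf [nat_lit 0, nat_lit 1, nat_lit 2, nat_lit 1, nat_lit 0]) (.node (nat_lit 4) (.leaf [nat_lit 0, nat_lit 1, nat_lit 2, nat_lit 3, nat_lit 1, nat_lit 2, nat_lit 1, nat_lit 0]) (.leaf [nat_lit 0, nat_lit 1, nat_lit 2, nat_lit 3, nat_lit 4, nat_lit 1, nat_lit 2, nat_lit 3, nat_lit 1, nat_lit 2, nat_lit 1, nat_lit 0]))))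
theorem h1is : band (surChk (nat_lit 5) (nat_lit 31) (h1L.map Lev.b) h1T h1iI (topN Alt.s6L) h1iD (topN h1L)) (Nat.ble (chainOrd 6 Alt.s6L) (chainOrd 24 h1L)) = true := by decide +kernel
theorem h1i {C : H7.Coding GolayPt} (hC : GC C)  : Nonempty (Equiv.Perm (Fin 6) ≃* (SM M24 C [] [340831, 343] [])) :=
  (Alt.s6std.isoW (h1ch hC) h1ih h1is)
noncomputable def h2t0 : ℕ := (nat_lit 0x9d8eebc1527d1ac5c524a80a818446)
noncomputable def h2t1 : ℕ := (nat_lit 0xbceaeb36305524c3bd22584a01a0c4)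
noncomputable def h2t2 : ℕ := (nat_lit 0x5d6ce9b2307d1b2b95213914618102)
noncomputable def h2t3 : ℕ := (nat_lit 0xb9df48a66cab9b02aa41b016418906)
noncomputable def h2t4 : ℕ := (nat_lit 0xb5eb450df08b9a95cd862a0e490022)
noncomputable def h2T : Tr ℕ := (.node (nat_lit 2) (.node (nat_lit 1) (.leaf h2t0) (.leaf h2t1)) (.node (nat_lit 3) (.leaf h2t2) (.node (nat_lit 4) (.leaf h2t3) (.leaf h2t4))))
noncomputable def h2L0 : Lev := ⟨(nat_lit 3), (nat_lit 5), (nat_lit 0x5000100000203000004000000000000000000), (nat_lit 0x1000200000202000002000000000000000000),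
 (.leaf 0),
 (.leaf 0)⟩
noncomputable def h2L1 : Lev := ⟨(nat_lit 9), (nat_lit 4), (nat_lit 0x4000100000203000000000000000000000000), (nat_lit 0x1000200000202000000000000000000000000),
 (.leaf 0),
 (.leaf 0)⟩
noncomputable def h2L2 : Lev := ⟨(nat_lit 12), (nat_lit 3), (nat_lit 0x3000100000200000000000000000000000000), (nat_lit 0x1000200000200000000000000000000000000),
 (.leaf 0),
 (.leaf 0)⟩
noncomputable def h2L3 : Lev := ⟨(nat_lit 13), (nat_lit 2), (nat_lit 0x2000100000000000000000000000000000000), (nat_lit 0x1000200000000000000000000000000000000),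
 (.leaf 0),
 (.leaf 0)⟩
noncomputable def h2L4 : Lev := ⟨(nat_lit 16), (nat_lit 1), (nat_lit 0x1000000000000000000000000000000000000), (nat_lit 0x1000000000000000000000000000000000000),
 (.leaf 0),
 (.leaf 0)⟩
noncomputable def h2L : List Lev := [h2L0, h2L1, h2L2, h2L3, h2L4]
theorem h2e : smC [] [340831, 343] [] h2T = true := by decide +kernel
theorem h2c : band (tchainChk 24 (nat_lit 5) (nat_lit 31) h2T h2L) (Nat.ble (chainOrd 24 h1L) (chainOrd 24 h2L)) = true := by decide +kernel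
theorem h2ch {C : H7.Coding GolayPt} (hC : GC C) : Ch (SM M24 C [] [340831, 343] []) 24 5 31 C.dec h2T h2L :=
  ((h1ch hC).ch (hC.sm h2e) h2c)
noncomputable def sw : ℕ := (nat_lit 0x484486ad94940f63014e23c73a9637)
noncomputable def ab : Tr ℕ := (.node (nat_lit 1) (.leaf (nat_lit 0xbba767a1602c6443d46c54289088cd)) (.leaf (nat_lit 0xbce2aa06c429c0cab86d7a568140d2)))
theorem abe : smC [23] [340831] [] ab = true := by decide +kernel

end H8.GF
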