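import Cfsg.Agent.H8.GI

/-! H8.GH: stabilisers in M24: sextets, trios; centralisers and normalisers (generated certificate) -/

set_option autoImplicit false
set_option maxRecDepth 200000

set_option linter.all false
open Subgroup Cfsg

namespace H8.GH

noncomputable def m0t0 : ℕ := (nat_lit 0x4950f6c0d2a2e6c72af53c6c418820)
noncomputable def m0t1 : ℕ := (nat_lit 0x9c8cbbd90573d2ca29b13d60418820)
noncomputable def m0t2 : ℕ := (nat_lit 0x5c613a22d56a5ecba9d2394c418820)
noncomputable def m0t3 : ℕ := (nat_lit 0x451368ae6e2c0cc92ab73b5e418820)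
noncomputable def m0t4 : ℕ := (nat_lit 0x321b52cacebae8a81e7163d2418820)
noncomputable def m0t5 : ℕ := (nat_lit 0x7c68d4c90b342a7730b655e6418820)
noncomputable def m0t6 : ℕ := (nat_lit 0x928ae9ddb07d22b658e8492a618820)
noncomputable def m0t7 : ℕ := (nat_lit 0x25aac8ba6d3ca14328687acb748820)
noncomputable def m0t8 : ℕ := (nat_lit 0xba2ac4c86f838f432a766ac4489420)
noncomputable def m0t9 : ℕ := (nat_lit 0x96b4149105b98d7907139aca4cee0)
noncomputable def m0t10 : ℕ := (nat_lit 0x5ab47b43098a445a8c83a46c2ba37)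
noncomputable def m0T : Tr ℕ := (.node (nat_lit 5) (.node (nat_lit 2) (.node (nat_lit 1) (.leaf m0t0) (.leaf m0t1)) (.node (nat_lit 3) (.leaf m0t2) (.node (nat_lit 4) (.leaf m0t3) (.leaf m0t4))))
 (.node (nat_lit 8) (.node (nat_lit 6) (.leaf m0t5) (.node (nat_lit 7) (.leaf m0t6) (.leaf m0t7))) (.node (nat_lit 9) (.leaf m0t8) (.node (nat_lit 10) (.leaf m0t9) (.leaf m0t10)))))
noncomputable def m0L0 : Lev := ⟨(nat_lit 0), (nat_lit 11), (nat_lit 0xb0504030207040605030207030a010407060508080a0a00), (nat_lit 0x10303030202030302030303020302020302030203030200),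
 (.leaf 0),
 (.leaf 0)⟩
noncomputable def m0L1 : Lev := ⟨(nat_lit 1), (nat_lit 10), (nat_lit 0xa0504030207040605030207030a010407060508080a0000), (nat_lit 0x10303030202030302030303020302020302030203030000),
 (.leaf 0),
 (.leaf 0)⟩
noncomputable def m0L2 : Lev := ⟨(nat_lit 2), (nat_lit 9), (nat_lit 0x50107040502030204040808050706060803090708000000), (nat_lit 0x30202030203030202030304030302030302010303000000),
 (.leaf 0),
 (.leaf 0)⟩
noncomputable def m0L3 : Lev := ⟨(nat_lit 3), (nat_lit 8), (nat_lit 0x10104060607070805030206030508040706050800000000), (nat_lit 0x20302030203030303020203030301030203020300000000),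
 (.leaf 0),
 (.leaf 0)⟩
noncomputable def m0L4 : Lev := ⟨(nat_lit 4), (nat_lit 7), (nat_lit 0x50302050407010306020407030704020707030000000000), (nat_lit 0x20302030303020302030204030403030401020000000000),
 (.leaf 0),
 (.leaf 0)⟩
noncomputable def m0L5 : Lev := ⟨(nat_lit 7), (nat_lit 6), (nat_lit 0x6000500000000000000000000), (nat_lit 0x1000100000000000000000000),
 (.leaf 0),
 (.leaf 0)⟩
noncomputable def m0L6 : Lev := ⟨(nat_lit 5), (nat_lit 4), (nat_lit 0x40103040402030204040400040004030003000000000000), (nat_lit 0x40102020302020101020200030003030001000000000000),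
 (.leaf 0),
 (.leaf 0)⟩
noncomputable def m0L : List Lev := [m0L0, m0L1, m0L2, m0L3, m0L4, m0L5, m0L6]
theorem m0c : band (m0T.all fun c => m24Chk (ap 5 31 c)) (band (tchainChk 24 5 31 m0T m0L) (Nat.ble 244823040 (chainOrd 24 m0L))) = true := by decide +kernel
noncomputable def sx0t0 : ℕ := (nat_lit 0x5c613a22d56a5ecba9d2394c418820)
noncomputable def sx0t1 : ℕ := (nat_lit 0xabee5339abb4a2c829093ce8418820)
noncomputable def sx0t2 : ℕ := (nat_lit 0x6c22e496b65d2ec7aa663a24418820)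
noncomputable def sx0t3 : ℕ := (nat_lit 0x451368ae6e2c0cc92ab73b5e418820)
noncomputable def sx0t4 : ℕ := (nat_lit 0xa3acb9a5a8854cab9caf6464418820)
noncomputable def sx0t5 : ℕ := (nat_lit 0x5d5d7994cf45a27a32505352418820)
noncomputable def sx0t6 : ℕ := (nat_lit 0x54eb4b498b491b185de62a0ee18820)
noncomputable def sx0t7 : ℕ := (nat_lit 0xa5a37796b09b5cc4916839a4a10c20)
noncomputable def sx0t8 : ℕ := (nat_lit 0x748c97da309dd6c69e88554a408860)
noncomputable def sx0t9 : ℕ := (nat_lit 0x25ab414943031ae5c521298f784d0f)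
noncomputable def sx0T : Tr ℕ := (.node (nat_lit 5) (.node (nat_lit 2) (.node (nat_lit 1) (.leaf sx0t0) (.leaf sx0t1)) (.node (nat_lit 3) (.leaf sx0t2) (.node (nat_lit 4) (.leaf sx0t3) (.leaf sx0t4))))
 (.node (nat_lit 7) (.node (nat_lit 6) (.leaf sx0t5) (.leaf sx0t6)) (.node (nat_lit 8) (.leaf sx0t7) (.node (nat_lit 9) (.leaf sx0t8) (.leaf sx0t9)))))
noncomputable def sx0L0 : Lev := ⟨(nat_lit 0), (nat_lit 10), (nat_lit 0x3020504080902060a080107030a07050704040a0a0a0a00), (nat_lit 0x30203030203030201030204020402020303020403030300),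
 (.leaf 0),
 (.leaf 0)⟩
noncomputable def sx0L1 : Lev := ⟨(nat_lit 1), (nat_lit 9), (nat_lit 0x9080000), (nat_lit 0x1020000),
 (.leaf 0),
 (.leaf 0)⟩
noncomputable def sx0L2 : Lev := ⟨(nat_lit 2), (nat_lit 8), (nat_lit 0x8000000), (nat_lit 0x1000000),
 (.leaf 0),
 (.leaf 0)⟩
noncomputable def sx0L3 : Lev := ⟨(nat_lit 3), (nat_lit 7), (nat_lit 0x0), (nat_lit 0x0),
 (.leaf 0),
 (.leaf 0)⟩
noncomputable def sx0L4 : Lev := ⟨(nat_lit 4), (nat_lit 7), (nat_lit 0x50506030302010407070107040701020703060000000000), (nat_lit 0x30202020302030203010404030402030404030000000000),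
 (.leaf 0),
 (.leaf 0)⟩
noncomputable def sx0L5 : Lev := ⟨(nat_lit 7), (nat_lit 6), (nat_lit 0x6000500000000000000000000), (nat_lit 0x1000100000000000000000000),
 (.leaf 0),
 (.leaf 0)⟩
noncomputable def sx0L6 : Lev := ⟨(nat_lit 5), (nat_lit 4), (nat_lit 0x40404020203040404030400040003030001000000000000), (nat_lit 0x30204010201030301020200020003020001000000000000),
 (.leaf 0),
 (.leaf 0)⟩
noncomputable def sx0L : List Lev := [sx0L0, sx0L1, sx0L2, sx0L3, sx0L4, sx0L5, sx0L6]
theorem sx0e : smC [] [] [[15, 5264, 622848, 3416064, 4196928, 8536096]] sx0T = true := by decide +kernel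
noncomputable def sx0J : List Pr := [prSM 24 (allM [] []) [[15, 5264, 622848, 3416064, 4196928, 8536096]]]
noncomputable def sx0F0 : ℕ × ℕ := ((nat_lit 0), (nat_lit 0))
theorem sx0b0 : allR 0 24 (ptB 24 (nat_lit 5) (nat_lit 31) m0T sx0T sx0J m0L0 [m0L1, m0L2, m0L3, m0L4, m0L5, m0L6] sx0L0 (dg []) sx0F0.1 sx0F0.2) = true := by decide +kernel
noncomputable def sx0F1 : ℕ × ℕ := ((nat_lit 0xffffffffffffffffffffffffffffffffffffffff00000000), (nat_lit 0))
theorem sx0b1 : allR 0 24 (ptB 24 (nat_lit 5) (nat_lit 31) m0T sx0T sx0J m0L1 [m0L2, m0L3, m0L4, m0L5, m0L6] sx0L1 (dg [m0L0.b]) sx0F1.1 sx0F1.2) = true := by decide +kernel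
noncomputable def sx0F2 : ℕ × ℕ := ((nat_lit 0xffffffffffffffffffffffffffffffffffffffff00000000), (nat_lit 0))
theorem sx0b2 : allR 0 24 (ptB 24 (nat_lit 5) (nat_lit 31) m0T sx0T sx0J m0L2 [m0L3, m0L4, m0L5, m0L6] sx0L2 (dg [m0L1.b, m0L0.b]) sx0F2.1 sx0F2.2) = true := by decide +kernel
noncomputable def sx0F3 : ℕ × ℕ := ((nat_lit 0xffffffffffffffffffffffffffffffffffffffff00000000), (nat_lit 0))
theorem sx0b3 : allR 0 24 (ptB 24 (nat_lit 5) (nat_lit 31) m0T sx0T sx0J m0L3 [m0L4, m0L5, m0L6] sx0L3 (dg [m0L2.b, m0L1.b, m0L0.b]) sx0F3.1 sx0F3.2) = true := by decide +kernel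
noncomputable def sx0F4 : ℕ × ℕ := ((nat_lit 0), (nat_lit 0))
theorem sx0b4 : allR 0 24 (ptB 24 (nat_lit 5) (nat_lit 31) m0T sx0T sx0J m0L4 [m0L5, m0L6] sx0L4 (dg [m0L3.b, m0L2.b, m0L1.b, m0L0.b]) sx0F4.1 sx0F4.2) = true := by decide +kernel
noncomputable def sx0F5 : ℕ × ℕ := ((nat_lit 0), (nat_lit 0))
theorem sx0b5 : allR 0 24 (ptB 24 (nat_lit 5) (nat_lit 31) m0T sx0T sx0J m0L5 [m0L6] sx0L5 (dg [m0L4.b, m0L3.b, m0L2.b, m0L1.b, m0L0.b]) sx0F5.1 sx0F5.2) = true := by decide +kernel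
noncomputable def sx0F6 : ℕ × ℕ := ((nat_lit 0), (nat_lit 0))
theorem sx0b6 : allR 0 24 (ptB 24 (nat_lit 5) (nat_lit 31) m0T sx0T sx0J m0L6 [] sx0L6 (dg [m0L5.b, m0L4.b, m0L3.b, m0L2.b, m0L1.b, m0L0.b]) sx0F6.1 sx0F6.2) = true := by decide +kernel
theorem sx0bk : Bk 24 (nat_lit 5) (nat_lit 31) m0T sx0T sx0J m0L sx0L [sx0F0, sx0F1, sx0F2, sx0F3, sx0F4, sx0F5, sx0F6] [] :=
  ⟨rfl, sx0b0, rfl, sx0b1, rfl, sx0b2, rfl, sx0b3, rfl, sx0b4, rfl, sx0b5, rfl, sx0b6, trivial⟩
theorem sx0tc : tchainChk 24 (nat_lit 5) (nat_lit 31) sx0T sx0L = true := by decide +kernel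
noncomputable def sxt0 : ℕ := (nat_lit 0x8bcd6925d5a5d674326d540a418820)
noncomputable def sxt1 : ℕ := (nat_lit 0x7520f4cee6b450a69e4b654a418820)
noncomputable def sxt2 : ℕ := (nat_lit 0x33a70abd349590c2aa2d3dd6418820)
noncomputable def sxt3 : ℕ := (nat_lit 0x5c613a22d56a5ecba9d2394c418820)
noncomputable def sxt4 : ℕ := (nat_lit 0x659f06a094aaa775b932298f118820)
noncomputable def sxt5 : ℕ := (nat_lit 0x73e5435629b5da742a0b64ca410c20)
noncomputable def sxt6 : ℕ := (nat_lit 0xba1b45ca29316aa9b2163bdc408860)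
noncomputable def sxt7 : ℕ := (nat_lit 0xb5c605056c224508cdc7414cfab654)
noncomputable def sxT : Tr ℕ := (.node (nat_lit 4) (.node (nat_lit 2) (.node (nat_lit 1) (.leaf sxt0) (.leaf sxt1)) (.node (nat_lit 3) (.leaf sxt2) (.leaf sxt3)))
 (.node (nat_lit 6) (.node (nat_lit 5) (.leaf sxt4) (.leaf sxt5)) (.node (nat_lit 7) (.leaf sxt6) (.leaf sxt7))))
noncomputable def sxL0 : Lev := ⟨(nat_lit 0), (nat_lit 8), (nat_lit 0x80205080403040301030408070806070807040808080800), (nat_lit 0x30203010203030202030303030303030403040304040400),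
 (.leaf 0),
 (.leaf 0)⟩
noncomputable def sxL1 : Lev := ⟨(nat_lit 1), (nat_lit 7), (nat_lit 0x7060000), (nat_lit 0x1020000),
 (.leaf 0),
 (.leaf 0)⟩
noncomputable def sxL2 : Lev := ⟨(nat_lit 2), (nat_lit 6), (nat_lit 0x6000000), (nat_lit 0x1000000),
 (.leaf 0),
 (.leaf 0)⟩
noncomputable def sxL3 : Lev := ⟨(nat_lit 4), (nat_lit 5), (nat_lit 0x10401010201050202020105040503020203040000000000), (nat_lit 0x20204030303010403020403030302040403040000000000),
 (.leaf 0),
 (.leaf 0)⟩
noncomputable def sxL4 : Lev := ⟨(nat_lit 5), (nat_lit 4), (nat_lit 0x40101030304020204010100030002020004000000000000), (nat_lit 0x20402030303030203030200010004020001000000000000),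
 (.leaf 0),
 (.leaf 0)⟩
noncomputable def sxL5 : Lev := ⟨(nat_lit 6), (nat_lit 2), (nat_lit 0x1000000000200000000000000000000000000000000), (nat_lit 0x1000000000100000000000000000000000000000000),
 (.leaf 0),
 (.leaf 0)⟩
noncomputable def sxL : List Lev := [sxL0, sxL1, sxL2, sxL3, sxL4, sxL5]
theorem sxe : smC [] [] [[15, 5264, 622848, 3416064, 4196928, 8536096]] sxT = true := by decide +kernel
theorem sxtc : tchainChk 24 (nat_lit 5) (nat_lit 31) sxT sxL = true := by decide +kernel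
theorem sxc : band (tchainChk 24 (nat_lit 5) (nat_lit 31) sxT sxL) (Nat.ble (chainOrd 24 sx0L) (chainOrd 24 sxL)) = true := by decide +kernel
theorem sxch {C : H7.Coding GolayPt} (hC : GC C) : Ch (SM M24 C [] [] [[15, 5264, 622848, 3416064, 4196928, 8536096]]) 24 5 31 C.dec sxT sxL :=
  ((hC.chSM (hC.ch m0c) sx0e sx0tc sx0bk).ch (hC.sm sxe) sxc)
theorem sxcard {C : H7.Coding GolayPt} (hC : GC C) : Nat.card (SM M24 C [] [] [[15, 5264, 622848, 3416064, 4196928, 8536096]]) = 138240 := (sxch hC).card.trans (by decide +kernel)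
noncomputable def m1t0 : ℕ := (nat_lit 0xbbeae4162bb51a0808d33a6441a82c)
noncomputable def m1t1 : ℕ := (nat_lit 0xb8aa87262054dab63e54394c41d830)
noncomputable def m1t2 : ℕ := (nat_lit 0xbc2b235236595aa7b1093cdc418022)
noncomputable def m1t3 : ℕ := (nat_lit 0xba2a2782299a9a533a163ad841d032)
noncomputable def m1t4 : ℕ := (nat_lit 0xbdaa22aa2f5b1a9819d40c8043a073)
noncomputable def m1t5 : ℕ := (nat_lit 0xbdaa801a2b825ae7c9821aa640d0e5)
noncomputable def m1t6 : ℕ := (nat_lit 0xb86b3a2624199ac3aa455b91078ac0)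
noncomputable def m1t7 : ℕ := (nat_lit 0xb96a9591877b9b19828880ed23082a)
noncomputable def m1t8 : ℕ := (nat_lit 0x196b499de08b9ac4102b91acab8930)
noncomputable def m1t9 : ℕ := (nat_lit 0x7daa134a2dbba085880c3cc642aa89)
noncomputable def m1t10 : ℕ := (nat_lit 0x9a5edb90e6a868352ec08c052615c8)
noncomputable def m1T : Tr ℕ := (.node (nat_lit 5) (.node (nat_lit 2) (.node (nat_lit 1) (.leaf m1t0) (.leaf m1t1)) (.node (nat_lit 3) (.leaf m1t2) (.node (nat_lit 4) (.leaf m1t3) (.leaf m1t4))))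
 (.node (nat_lit 8) (.node (nat_lit 6) (.leaf m1t5) (.node (nat_lit 7) (.leaf m1t6) (.leaf m1t7))) (.node (nat_lit 9) (.leaf m1t8) (.node (nat_lit 10) (.leaf m1t9) (.leaf m1t10)))))
noncomputable def m1L0 : Lev := ⟨(nat_lit 21), (nat_lit 11), (nat_lit 0xa010007040509050b040a0303020b040706080907020708), (nat_lit 0x20200030203020201030303020203030303030302030303),
 (.leaf 0),
 (.leaf 0)⟩
noncomputable def m1L1 : Lev := ⟨(nat_lit 13), (nat_lit 10), (nat_lit 0xa0300080804090a06060002010804090804050707030702), (nat_lit 0x30200030303030102030003020302030203030203030302),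
 (.leaf 0),
 (.leaf 0)⟩
noncomputable def m1L2 : Lev := ⟨(nat_lit 23), (nat_lit 9), (nat_lit 0x700080409090807070005070209040608020709020502), (nat_lit 0x300040303030302030004030303040202030401040204),
 (.leaf 0),
 (.leaf 0)⟩
noncomputable def m1L3 : Lev := ⟨(nat_lit 17), (nat_lit 8), (nat_lit 0x800010604000203050008020306070704040707030601), (nat_lit 0x300030303000303020001020202030303020404030402),
 (.leaf 0),
 (.leaf 0)⟩
noncomputable def m1L4 : Lev := ⟨(nat_lit 4), (nat_lit 7), (nat_lit 0x300040604000706060002010204040704050007030702), (nat_lit 0x200040303000102030003020302030303030003030302),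
 (.leaf 0),
 (.leaf 0)⟩
noncomputable def m1L5 : Lev := ⟨(nat_lit 1), (nat_lit 6), (nat_lit 0x500000006000000), (nat_lit 0x100000001000000),
 (.leaf 0),
 (.leaf 0)⟩
noncomputable def m1L6 : Lev := ⟨(nat_lit 0), (nat_lit 4), (nat_lit 0x300040404000203040001020304040004040000030000), (nat_lit 0x200020401000103030001020202030003020000010000),
 (.leaf 0),
 (.leaf 0)⟩
noncomputable def m1L : List Lev := [m1L0, m1L1, m1L2, m1L3, m1L4, m1L5, m1L6]
theorem m1c : band (m1T.all fun c => m24Chk (ap 5 31 c)) (band (tchainChk 24 5 31 m1T m1L) (Nat.ble 244823040 (chainOrd 24 m1L))) = true := by decide +kernel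
noncomputable def skt0 : ℕ := (nat_lit 0xbaeb444a2f839aab30d3224a708062)
noncomputable def skt1 : ℕ := (nat_lit 0xba6b484a33439a431ecf52cac00443)
noncomputable def skt2 : ℕ := (nat_lit 0x2aeb47c9c89c5acb28d03a6e400443)
noncomputable def skt3 : ℕ := (nat_lit 0x8dab444aef815a759133619ca00443)
noncomputable def skt4 : ℕ := (nat_lit 0x726b27b6338168cb116851ae708c40)
noncomputable def skt5 : ℕ := (nat_lit 0x2aead8522f9de4c49ec8219ca10460)
noncomputable def skt6 : ℕ := (nat_lit 0x2a695835d34464c32acf3aee418820)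
noncomputable def skT : Tr ℕ := (.node (nat_lit 3) (.node (nat_lit 1) (.leaf skt0) (.node (nat_lit 2) (.leaf skt1) (.leaf skt2)))
 (.node (nat_lit 5) (.node (nat_lit 4) (.leaf skt3) (.leaf skt4)) (.node (nat_lit 6) (.leaf skt5) (.leaf skt6))))
noncomputable def skL0 : Lev := ⟨(nat_lit 21), (nat_lit 7), (nat_lit 0x70006000000000500000000000000000000000000), (nat_lit 0x10002000000000200000000000000000000000000),
 (.leaf 0),
 (.leaf 0)⟩
noncomputable def skL1 : Lev := ⟨(nat_lit 13), (nat_lit 6), (nat_lit 0x60005000000000000000000000000000000000000), (nat_lit 0x10001000000000000000000000000000000000000),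
 (.leaf 0),
 (.leaf 0)⟩
noncomputable def skL2 : Lev := ⟨(nat_lit 23), (nat_lit 4), (nat_lit 0x40000040000000000000000030000000000), (nat_lit 0x10000020000000000000000010000000000),
 (.leaf 0),
 (.leaf 0)⟩
noncomputable def skL3 : Lev := ⟨(nat_lit 17), (nat_lit 2), (nat_lit 0x0), (nat_lit 0x0),
 (.leaf 0),
 (.leaf 0)⟩
noncomputable def skL4 : Lev := ⟨(nat_lit 4), (nat_lit 2), (nat_lit 0x2000200000100000000000000), (nat_lit 0x1000200000100000000000000),
 (.leaf 0),
 (.leaf 0)⟩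
noncomputable def skL5 : Lev := ⟨(nat_lit 1), (nat_lit 0), (nat_lit 0x0), (nat_lit 0x0),
 (.leaf 0),
 (.leaf 0)⟩
noncomputable def skL6 : Lev := ⟨(nat_lit 0), (nat_lit 0), (nat_lit 0x0), (nat_lit 0x0),
 (.leaf 0),
 (.leaf 0)⟩
noncomputable def skL : List Lev := [skL0, skL1, skL2, skL3, skL4, skL5, skL6]
theorem ske : smC [] [15, 5264, 622848, 3416064, 4196928, 8536096] [] skT = true := by decide +kernel
noncomputable def skJ : List Pr := [prSM 24 (allM [] [15, 5264, 622848, 3416064, 4196928, 8536096]) []]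
noncomputable def skF0 : ℕ × ℕ := ((nat_lit 0xffff0000ff00ffffffff00ffffffffffffffffffffffffff), (nat_lit 0))
theorem skb0 : allR 0 24 (ptB 24 (nat_lit 5) (nat_lit 31) m1T skT skJ m1L0 [m1L1, m1L2, m1L3, m1L4, m1L5, m1L6] skL0 (dg []) skF0.1 skF0.2) = true := by decide +kernel
noncomputable def skF1 : ℕ × ℕ := ((nat_lit 0xffff0000ff00ffffffff00ffffffffffffffffffffffffff), (nat_lit 0))
theorem skb1 : allR 0 24 (ptB 24 (nat_lit 5) (nat_lit 31) m1T skT skJ m1L1 [m1L2, m1L3, m1L4, m1L5, m1L6] skL1 (dg [m1L0.b]) skF1.1 skF1.2) = true := by decide +kernel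
noncomputable def skF2 : ℕ × ℕ := ((nat_lit 0xff00ffffff00ffff0000ffffffffffffff00ffffffffff), (nat_lit 0))
theorem skb2 : allR 0 24 (ptB 24 (nat_lit 5) (nat_lit 31) m1T skT skJ m1L2 [m1L3, m1L4, m1L5, m1L6] skL2 (dg [m1L1.b, m1L0.b]) skF2.1 skF2.2) = true := by decide +kernel
noncomputable def skF3 : ℕ × ℕ := ((nat_lit 0xff00ffffff00ffffff00ffffffffffffffffffffffffff), (nat_lit 0))
theorem skb3 : allR 0 24 (ptB 24 (nat_lit 5) (nat_lit 31) m1T skT skJ m1L3 [m1L4, m1L5, m1L6] skL3 (dg [m1L2.b, m1L1.b, m1L0.b]) skF3.1 skF3.2) = true := by decide +kernel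
noncomputable def skF4 : ℕ × ℕ := ((nat_lit 0xff00ffffff00ffffff0000ff00ffff00ffff00ffffffff), (nat_lit 0))
theorem skb4 : allR 0 24 (ptB 24 (nat_lit 5) (nat_lit 31) m1T skT skJ m1L4 [m1L5, m1L6] skL4 (dg [m1L3.b, m1L2.b, m1L1.b, m1L0.b]) skF4.1 skF4.2) = true := by decide +kernel
noncomputable def skF5 : ℕ × ℕ := ((nat_lit 0xff000000ff000000), (nat_lit 0))
theorem skb5 : allR 0 24 (ptB 24 (nat_lit 5) (nat_lit 31) m1T skT skJ m1L5 [m1L6] skL5 (dg [m1L4.b, m1L3.b, m1L2.b, m1L1.b, m1L0.b]) skF5.1 skF5.2) = true := by decide +kernel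
noncomputable def skF6 : ℕ × ℕ := ((nat_lit 0xff00ffffff00ffffff00ffffffffff00ffff0000ff0000), (nat_lit 0))
theorem skb6 : allR 0 24 (ptB 24 (nat_lit 5) (nat_lit 31) m1T skT skJ m1L6 [] skL6 (dg [m1L5.b, m1L4.b, m1L3.b, m1L2.b, m1L1.b, m1L0.b]) skF6.1 skF6.2) = true := by decide +kernel
theorem skbk : Bk 24 (nat_lit 5) (nat_lit 31) m1T skT skJ m1L skL [skF0, skF1, skF2, skF3, skF4, skF5, skF6] [] :=
  ⟨rfl, skb0, rfl, skb1, rfl, skb2, rfl, skb3, rfl, skb4, rfl, skb5, rfl, skb6, trivial⟩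
theorem sktc : tchainChk 24 (nat_lit 5) (nat_lit 31) skT skL = true := by decide +kernel
theorem skch {C : H7.Coding GolayPt} (hC : GC C) : Ch (SM M24 C [] [15, 5264, 622848, 3416064, 4196928, 8536096] []) 24 5 31 C.dec skT skL :=
  (hC.chSM (hC.ch m1c) ske sktc skbk)
theorem skcard {C : H7.Coding GolayPt} (hC : GC C) : Nat.card (SM M24 C [] [15, 5264, 622848, 3416064, 4196928, 8536096] []) = 192 := (skch hC).card.trans (by decide +kernel)
noncomputable def snt0 : ℕ := (nat_lit 0x8adb2452ef816acb28d33a5c418820)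
noncomputable def snt1 : ℕ := (nat_lit 0x2a695835d34464c32acf3aee418820)
noncomputable def snt2 : ℕ := (nat_lit 0x72eb4848b345da7b10cf6262a18820)
noncomputable def snt3 : ℕ := (nat_lit 0x2ae4d9d5d07c68ab30c8226e718820)
noncomputable def snt4 : ℕ := (nat_lit 0x7264d854b345e8a332cf22e2708062)
noncomputable def snt5 : ℕ := (nat_lit 0xbadb29d2307baa7b10c8624aa00443)
noncomputable def snT : Tr ℕ := (.node (nat_lit 3) (.node (nat_lit 1) (.leaf snt0) (.node (nat_lit 2) (.leaf snt1) (.leaf snt2))) (.node (nat_lit 4) (.leaf snt3) (.node (nat_lit 5) (.leaf snt4) (.leaf snt5))))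
noncomputable def snR : Tr (List ℕ) := (.node (nat_lit 10) (.node (nat_lit 5) (.node (nat_lit 2) (.node (nat_lit 1) (.leaf [nat_lit 4, nat_lit 0, nat_lit 4, nat_lit 0]) (.leaf [nat_lit 0, nat_lit 5, nat_lit 0, nat_lit 5])) (.node (nat_lit 3) (.leaf [nat_lit 4, nat_lit 1, nat_lit 4, nat_lit 1]) (.node (nat_lit 4) (.leaf [nat_lit 1, nat_lit 5, nat_lit 1, nat_lit 5]) (.leaf [nat_lit 4, nat_lit 2, nat_lit 4, nat_lit 2]))))
 (.node (nat_lit 7) (.node (nat_lit 6) (.leaf [nat_lit 2, nat_lit 5, nat_lit 2, nat_lit 5]) (.leaf [nat_lit 4, nat_lit 3, nat_lit 4, nat_lit 3])) (.node (nat_lit 8) (.leaf [nat_lit 3, nat_lit 5, nat_lit 3, nat_lit 5]) (.node (nat_lit 9) (.leaf [nat_lit 4, nat_lit 4]) (.leaf [nat_lit 4, nat_lit 5, nat_lit 4, nat_lit 5])))))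
 (.node (nat_lit 15) (.node (nat_lit 12) (.node (nat_lit 11) (.leaf [nat_lit 5, nat_lit 5]) (.leaf [nat_lit 0, nat_lit 3, nat_lit 0, nat_lit 3])) (.node (nat_lit 13) (.leaf [nat_lit 2, nat_lit 0, nat_lit 2, nat_lit 0]) (.node (nat_lit 14) (.leaf [nat_lit 1, nat_lit 3, nat_lit 1, nat_lit 3]) (.leaf [nat_lit 2, nat_lit 1, nat_lit 2, nat_lit 1]))))
 (.node (nat_lit 18) (.node (nat_lit 16) (.leaf [nat_lit 2, nat_lit 2]) (.node (nat_lit 17) (.leaf [nat_lit 2, nat_lit 3, nat_lit 2, nat_lit 3]) (.leaf [nat_lit 3, nat_lit 3]))) (.node (nat_lit 19) (.leaf [nat_lit 0, nat_lit 0]) (.node (nat_lit 20) (.leaf [nat_lit 0, nat_lit 1, nat_lit 0, nat_lit 1]) (.leaf [nat_lit 1, nat_lit 1]))))))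
noncomputable def snL0 : Lev := ⟨(nat_lit 0), (nat_lit 6), (nat_lit 0x6050600), (nat_lit 0x1010200),
 (.node (nat_lit 3) (.node (nat_lit 1) (.leaf (nat_lit 0x2000200040000))
 (.node (nat_lit 2) (.leaf (nat_lit 0x2000200040000))
 (.leaf (nat_lit 0x2000200040000))))
 (.node (nat_lit 4) (.leaf (nat_lit 0x2000200040000))
 (.node (nat_lit 5) (.leaf (nat_lit 0x2000000030001))
 (.leaf (nat_lit 0x100000001))))),
 (.node (nat_lit 3) (.node (nat_lit 1) (.leaf (nat_lit 0x102000001000003000000))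
 (.node (nat_lit 2) (.leaf (nat_lit 0x302000201000203000000))
 (.leaf (nat_lit 0x502000401000403000000))))
 (.node (nat_lit 4) (.leaf (nat_lit 0x702000601000603000000))
 (.node (nat_lit 5) (.leaf (nat_lit 0x902000000000801000801))
 (.leaf (nat_lit 0xa00000000000a01)))))⟩
noncomputable def snL1 : Lev := ⟨(nat_lit 4), (nat_lit 4), (nat_lit 0x4000300000400000000000000), (nat_lit 0x2000100000100000000000000),
 (.node (nat_lit 2) (.node (nat_lit 1) (.leaf (nat_lit 0x4000000020000000000020000000000000000000000000000))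
 (.leaf (nat_lit 0x4000000020000000000020000000000000000000000000000)))
 (.node (nat_lit 3) (.leaf (nat_lit 0x3000000000000000000020000000000010000000000000000))
 (.leaf (nat_lit 0x10000000000000000000000010000000000000000)))),
 (.node (nat_lit 2) (.node (nat_lit 1) (.leaf (nat_lit 0xc01000000000c01000000000000000b02000000000000000000000000000000000000000000))
 (.leaf (nat_lit 0xe01000000000e01000000000000000d02000000000000000000000000000000000000000000)))
 (.node (nat_lit 3) (.leaf (nat_lit 0xf00000000000000000000000000001002000000000000000f01000000000000000000000000))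
 (.leaf (nat_lit 0x1101000000000000000000000000000000001101000000000000000000000000))))⟩
noncomputable def snL2 : Lev := ⟨(nat_lit 5), (nat_lit 2), (nat_lit 0x20000000000020000010000000000000000000000000000), (nat_lit 0x10000000000020000010000000000000000000000000000),
 (.node (nat_lit 1) (.leaf (nat_lit 0x200000000000000000000000300000000000000000000000000000000000000000000000100000000000000000000))
 (.leaf (nat_lit 0x100000000000000000000000000000000000100000000000000000000))),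
 (.node (nat_lit 1) (.leaf (nat_lit 0x1302000000000000000000000000000000001201000000000000000000000000000000000000000000000000000000000000000000001201000000000000000000000000000000))
 (.leaf (nat_lit 0x1401000000000000000000000000000000000000000000000000001401000000000000000000000000000000)))⟩
noncomputable def snL : List Lev := [snL0, snL1, snL2]
noncomputable def snE : Tr (List ℕ) := (.node (nat_lit 3) (.node (nat_lit 1) (.leaf [nat_lit 1, nat_lit 3, nat_lit 2, nat_lit 0]) (.node (nat_lit 2) (.leaf [nat_lit 3, nat_lit 2]) (.leaf [nat_lit 4, nat_lit 0, nat_lit 4, nat_lit 0, nat_lit 3, nat_lit 2]))) (.node (nat_lit 4) (.leaf [nat_lit 0, nat_lit 4, nat_lit 1, nat_lit 4, nat_lit 3, nat_lit 2, nat_lit 0]) (.node (nat_lit 5) (.leaf [nat_lit 7, nat_lit 3, nat_lit 1, nat_lit 7, nat_lit 6, nat_lit 5, nat_lit 3, nat_lit 2, nat_lit 1, nat_lit 4, nat_lit 3, nat_lit 0, nat_lit 2, nat_lit 0]) (.leaf [nat_lit 7, nat_lit 4, nat_lit 1, nat_lit 7, nat_lit 4, nat_lit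 3, nat_lit 2, nat_lit 1]))))
theorem snw_0 : snT.all2 (fun c w => isProd 24 (nat_lit 5) (nat_lit 31) sxT c w) snE = true := by decide +kernel
theorem snw : snT.all2 (fun c w => isProd 24 (nat_lit 5) (nat_lit 31) sxT c w) snE = true := snw_0
theorem snlev0 : levChk 24 (nat_lit 5) (nat_lit 31) snT snR snL0 snL1.N = true := by decide +kernel
theorem snlev1 : levChk 24 (nat_lit 5) (nat_lit 31) snT snR snL1 snL2.N = true := by decide +kernel
theorem snlev2 : levChk 24 (nat_lit 5) (nat_lit 31) snT snR snL2 0 = true := by decide +kernel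
theorem snchain : Chain 24 (nat_lit 5) (nat_lit 31) snT snR snL := chain_cons snlev0 <| chain_cons snlev1 <| chain_one snlev2
theorem snsd : band (selChk snT snT (topN snL)) (snR.all fun w => eqB (sxL.map Lev.b) (apL (nat_lit 5) (nat_lit 31) snT w) fun a => a) = true := by decide +kernel
theorem sntc : tchainChk 24 (nat_lit 5) (nat_lit 31) snT snL = true := by decide +kernel
noncomputable def snnW : Tr (List ℕ) := (.node (nat_lit 24) (.node (nat_lit 12) (.node (nat_lit 6) (.node (nat_lit 3) (.node (nat_lit 1) (.leaf [nat_lit 1]) (.node (nat_lit 2) (.leaf [nat_lit 1, nat_lit 0]) (.leaf [nat_lit 3, nat_lit 2]))) (.node (nat_lit 4) (.leaf [nat_lit 2]) (.node (nat_lit 5) (.leaf [nat_lit 4, nat_lit 3, nat_lit 2, nat_lit 1, nat_lit 0]) (.leaf [nat_lit 5, nat_lit 3, nat_lit 1]))))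
 (.node (nat_lit 9) (.node (nat_lit 7) (.leaf [nat_lit 1, nat_lit 0]) (.node (nat_lit 8) (.leaf [nat_lit 0]) (.leaf [nat_lit 3]))) (.node (nat_lit 10) (.leaf [nat_lit 3, nat_lit 2]) (.node (nat_lit 11) (.leaf [nat_lit 4, nat_lit 2, nat_lit 1]) (.leaf [nat_lit 5, nat_lit 3, nat_lit 2, nat_lit 0])))))
 (.node (nat_lit 18) (.node (nat_lit 15) (.node (nat_lit 13) (.leaf [nat_lit 0]) (.node (nat_lit 14) (.leaf [nat_lit 1]) (.leaf [nat_lit 2, nat_lit 1]))) (.node (nat_lit 16) (.leaf [nat_lit 3, nat_lit 1, nat_lit 0]) (.node (nat_lit 17) (.leaf [nat_lit 4, nat_lit 0]) (.leaf [nat_lit 5, nat_lit 0]))))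
 (.node (nat_lit 21) (.node (nat_lit 19) (.leaf [nat_lit 0]) (.node (nat_lit 20) (.leaf [nat_lit 1]) (.leaf [nat_lit 2, nat_lit 1]))) (.node (nat_lit 22) (.leaf [nat_lit 3, nat_lit 1, nat_lit 0]) (.node (nat_lit 23) (.leaf [nat_lit 4, nat_lit 0]) (.leaf [nat_lit 5, nat_lit 0]))))))
 (.node (nat_lit 36) (.node (nat_lit 30) (.node (nat_lit 27) (.node (nat_lit 25) (.leaf [nat_lit 3, nat_lit 2, nat_lit 0]) (.node (nat_lit 26) (.leaf [nat_lit 2, nat_lit 1, nat_lit 0]) (.leaf [nat_lit 3]))) (.node (nat_lit 28) (.leaf [nat_lit 2]) (.node (nat_lit 29) (.leaf [nat_lit 4]) (.leaf [nat_lit 5, nat_lit 2, nat_lit 0]))))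
 (.node (nat_lit 33) (.node (nat_lit 31) (.leaf [nat_lit 1]) (.node (nat_lit 32) (.leaf [nat_lit 0]) (.leaf [nat_lit 2]))) (.node (nat_lit 34) (.leaf [nat_lit 3, nat_lit 2]) (.node (nat_lit 35) (.leaf [nat_lit 5, nat_lit 3, nat_lit 0]) (.leaf [nat_lit 4, nat_lit 3, nat_lit 2, nat_lit 1])))))
 (.node (nat_lit 42) (.node (nat_lit 39) (.node (nat_lit 37) (.leaf [nat_lit 0]) (.node (nat_lit 38) (.leaf [nat_lit 1, nat_lit 0]) (.leaf [nat_lit 3, nat_lit 2, nat_lit 1, nat_lit 0]))) (.node (nat_lit 40) (.leaf [nat_lit 3, nat_lit 0]) (.node (nat_lit 41) (.leaf [nat_lit 4, nat_lit 0]) (.leaf [nat_lit 5, nat_lit 4, nat_lit 1, nat_lit 0]))))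
 (.node (nat_lit 45) (.node (nat_lit 43) (.leaf [nat_lit 5, nat_lit 4, nat_lit 1]) (.node (nat_lit 44) (.leaf [nat_lit 5, nat_lit 3, nat_lit 2, nat_lit 1]) (.leaf [nat_lit 3, nat_lit 1, nat_lit 0]))) (.node (nat_lit 46) (.leaf [nat_lit 4, nat_lit 3]) (.node (nat_lit 47) (.leaf [nat_lit 4]) (.leaf [nat_lit 5, nat_lit 4, nat_lit 3, nat_lit 2, nat_lit 1, nat_lit 0])))))))
theorem snn : nrmChk (nat_lit 5) (nat_lit 31) (sxL.map Lev.b) sxT snT (topN sxL) (topN snL) snnW = true := by decide +kernel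
theorem snx : allR 0 24 (refu 24 (nat_lit 5) (nat_lit 31) snT ⟨fun _ _ => 0, fun _ _ _ => true, fun f => eqB (snL.map Lev.b) (itF f 2) fun a => a⟩ snL0 [snL1, snL2] []) = true := by decide +kernel
theorem sxa {C : H7.Coding GolayPt} (hC : GC C) : ∃ N : Subgroup (SM M24 C [] [] [[15, 5264, 622848, 3416064, 4196928, 8536096]]), N.Normal ∧ Nat.card N = 64 ∧ ∀ x : N, x ^ 2 = 1 :=
  let ⟨N, h, _⟩ := ((sxch hC).gen (lets_words (sxch hC).lets snE snw) snchain snsd sntc)
  ⟨N, (sxch hC).normal h snn, h.card.trans (by decide +kernel), h.expo snx⟩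
noncomputable def m2t0 : ℕ := (nat_lit 0xd894781a99aa2c5ba08198b538af2)
noncomputable def m2t1 : ℕ := (nat_lit 0x258344b86f848ec58268698b788aaa)
noncomputable def m2t2 : ℕ := (nat_lit 0x4d9f420dc1ac54c5b6e8018b390a07)
noncomputable def m2t3 : ℕ := (nat_lit 0x8d8f494eea0242c5c1c8a98a3209af)
noncomputable def m2t4 : ℕ := (nat_lit 0x558229bdc30120ca1ea8b98b16ad32)
noncomputable def m2t5 : ℕ := (nat_lit 0x3d92b9808d9446c15c28518ae852af)
noncomputable def m2t6 : ℕ := (nat_lit 0x5a536c23578e8751188498ab0ddc2)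
noncomputable def m2t7 : ℕ := (nat_lit 0x15a0da56327866922ce8618aa70077)
noncomputable def m2t8 : ℕ := (nat_lit 0x586b09b4f478e49b8188898a470aca)
noncomputable def m2t9 : ℕ := (nat_lit 0x7da63ac841bb8a75a888619a9a4600)
noncomputable def m2t10 : ℕ := (nat_lit 0x14d94b0da879e3558130718a495c2a)
noncomputable def m2t11 : ℕ := (nat_lit 0x236a57a8d09bacc3c9235c69740820)
noncomputable def m2T : Tr ℕ := (.node (nat_lit 6) (.node (nat_lit 3) (.node (nat_lit 1) (.leaf m2t0) (.node (nat_lit 2) (.leaf m2t1) (.leaf m2t2))) (.node (nat_lit 4) (.leaf m2t3) (.node (nat_lit 5) (.leaf m2t4) (.leaf m2t5))))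
 (.node (nat_lit 9) (.node (nat_lit 7) (.leaf m2t6) (.node (nat_lit 8) (.leaf m2t7) (.leaf m2t8))) (.node (nat_lit 10) (.leaf m2t9) (.node (nat_lit 11) (.leaf m2t10) (.leaf m2t11)))))
noncomputable def m2L0 : Lev := ⟨(nat_lit 6), (nat_lit 12), (nat_lit 0x40c010807090c060a0301070903040c09000a05020a0408), (nat_lit 0x20303030303010303020203030303030200030202020303),
 (.leaf 0),
 (.leaf 0)⟩
noncomputable def m2L1 : Lev := ⟨(nat_lit 8), (nat_lit 11), (nat_lit 0x30908090207010b020405080704010007000a0a06060304), (nat_lit 0x30302020302030102030203030202000300030302030203),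
 (.leaf 0),
 (.leaf 0)⟩
noncomputable def m2L2 : Lev := ⟨(nat_lit 5), (nat_lit 10), (nat_lit 0x40904080709010602030a070703080002000005050a0403), (nat_lit 0x30303020202020203030103030203000200000302030203),
 (.leaf 0),
 (.leaf 0)⟩
noncomputable def m2L3 : Lev := ⟨(nat_lit 22), (nat_lit 9), (nat_lit 0x10002090708040303080408090606000500000207070908), (nat_lit 0x20002030303030203020203030302000300000302030103),
 (.leaf 0),
 (.leaf 0)⟩
noncomputable def m2L4 : Lev := ⟨(nat_lit 12), (nat_lit 8), (nat_lit 0x30006070207040102040200070507000800000301070503), (nat_lit 0x20002030203030203020200030201000100000302030202),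
 (.leaf 0),
 (.leaf 0)⟩
noncomputable def m2L5 : Lev := ⟨(nat_lit 20), (nat_lit 6), (nat_lit 0x50000000000000000060000), (nat_lit 0x10000000000000000010000),
 (.leaf 0),
 (.leaf 0)⟩
noncomputable def m2L6 : Lev := ⟨(nat_lit 9), (nat_lit 4), (nat_lit 0x30003000204040102040400000400000400000304000304), (nat_lit 0x10003000102020102010300000200000400000203000203),
 (.leaf 0),
 (.leaf 0)⟩
noncomputable def m2L : List Lev := [m2L0, m2L1, m2L2, m2L3, m2L4, m2L5, m2L6]
theorem m2c : band (m2T.all fun c => m24Chk (ap 5 31 c)) (band (tchainChk 24 5 31 m2T m2L) (Nat.ble 244823040 (chainOrd 24 m2L))) = true := by decide +kernel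
noncomputable def tr0t0 : ℕ := (nat_lit 0x7daa974a30bcd6468688198ac38142)
noncomputable def tr0t1 : ℕ := (nat_lit 0xa5ab75ca304b5c7989e8618a322801)
noncomputable def tr0t2 : ℕ := (nat_lit 0xb5df49c96daba0389d28518a261001)
noncomputable def tr0t3 : ℕ := (nat_lit 0x2da959b5d07c64459d2851aec00443)
noncomputable def tr0t4 : ℕ := (nat_lit 0x184079ca30639af59482a1949ba2d5)
noncomputable def tr0t5 : ℕ := (nat_lit 0xbdab411c6c7a8100b928910a68cd6d)
noncomputable def tr0T : Tr ℕ := (.node (nat_lit 3) (.node (nat_lit 1) (.leaf tr0t0) (.node (nat_lit 2) (.leaf tr0t1) (.leaf tr0t2))) (.node (nat_lit 4) (.leaf tr0t3) (.node (nat_lit 5) (.leaf tr0t4) (.leaf tr0t5))))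
noncomputable def tr0L0 : Lev := ⟨(nat_lit 6), (nat_lit 6), (nat_lit 0x50303010606060605040301030205050200040602030404), (nat_lit 0x30404030304030303040402040302030300040102020303),
 (.leaf 0),
 (.leaf 0)⟩
noncomputable def tr0L1 : Lev := ⟨(nat_lit 8), (nat_lit 5), (nat_lit 0x50505040000000003000001000205000300050304050401), (nat_lit 0x40303040000000004000003000203000300030203010202),
 (.leaf 0),
 (.leaf 0)⟩
noncomputable def tr0L2 : Lev := ⟨(nat_lit 5), (nat_lit 4), (nat_lit 0x40303020000000001000000000002000000000000000000), (nat_lit 0x10203020000000002000000000003000000000000000000),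
 (.leaf 0),
 (.leaf 0)⟩
noncomputable def tr0L3 : Lev := ⟨(nat_lit 22), (nat_lit 3), (nat_lit 0x30003020000000001000000000002000000000000000000), (nat_lit 0x10003020000000002000000000003000000000000000000),
 (.leaf 0),
 (.leaf 0)⟩
noncomputable def tr0L4 : Lev := ⟨(nat_lit 12), (nat_lit 2), (nat_lit 0x200000102000000), (nat_lit 0x100000102000000),
 (.leaf 0),
 (.leaf 0)⟩
noncomputable def tr0L5 : Lev := ⟨(nat_lit 20), (nat_lit 0), (nat_lit 0x0), (nat_lit 0x0),
 (.leaf 0),
 (.leaf 0)⟩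
noncomputable def tr0L6 : Lev := ⟨(nat_lit 9), (nat_lit 0), (nat_lit 0x0), (nat_lit 0x0),
 (.leaf 0),
 (.leaf 0)⟩
noncomputable def tr0L : List Lev := [tr0L0, tr0L1, tr0L2, tr0L3, tr0L4, tr0L5, tr0L6]
theorem tr0e : smC [] [] [[5279, 1009728, 15762208]] tr0T = true := by decide +kernel
noncomputable def tr0J : List Pr := [prSM 24 (allM [] []) [[5279, 1009728, 15762208]]]
noncomputable def tr0F0 : ℕ × ℕ := ((nat_lit 0), (nat_lit 0))
theorem tr0b0 : allR 0 24 (ptB 24 (nat_lit 5) (nat_lit 31) m2T tr0T tr0J m2L0 [m2L1, m2L2, m2L3, m2L4, m2L5, m2L6] tr0L0 (dg []) tr0F0.1 tr0F0.2) = true := by decide +kernel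
noncomputable def tr0F1 : ℕ × ℕ := ((nat_lit 0xffffffff00ffff00ff0000000000000000000000), (nat_lit 0))
theorem tr0b1 : allR 0 24 (ptB 24 (nat_lit 5) (nat_lit 31) m2T tr0T tr0J m2L1 [m2L2, m2L3, m2L4, m2L5, m2L6] tr0L1 (dg [m2L0.b]) tr0F1.1 tr0F1.2) = true := by decide +kernel
noncomputable def tr0F2 : ℕ × ℕ := ((nat_lit 0xffffffff00ffffffffff0000ff0000ffffffffff), (nat_lit 0))
theorem tr0b2 : allR 0 24 (ptB 24 (nat_lit 5) (nat_lit 31) m2T tr0T tr0J m2L2 [m2L3, m2L4, m2L5, m2L6] tr0L2 (dg [m2L1.b, m2L0.b]) tr0F2.1 tr0F2.2) = true := by decide +kernel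
noncomputable def tr0F3 : ℕ × ℕ := ((nat_lit 0xffffffff00ffffffffff0000ff0000ffffffffff), (nat_lit 0))
theorem tr0b3 : allR 0 24 (ptB 24 (nat_lit 5) (nat_lit 31) m2T tr0T tr0J m2L3 [m2L4, m2L5, m2L6] tr0L3 (dg [m2L2.b, m2L1.b, m2L0.b]) tr0F3.1 tr0F3.2) = true := by decide +kernel
noncomputable def tr0F4 : ℕ × ℕ := ((nat_lit 0xff00ffffffffffffffffff00ff00ff00000000000001ff01), (nat_lit 0x100000000000000020001))
theorem tr0b4 : allR 0 24 (ptB 24 (nat_lit 5) (nat_lit 31) m2T tr0T tr0J m2L4 [m2L5, m2L6] tr0L4 (dg [m2L3.b, m2L2.b, m2L1.b, m2L0.b]) tr0F4.1 tr0F4.2) = true := by decide +kernel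
noncomputable def tr0F5 : ℕ × ℕ := ((nat_lit 0xff0000000000000000ff0000), (nat_lit 0))
theorem tr0b5 : allR 0 24 (ptB 24 (nat_lit 5) (nat_lit 31) m2T tr0T tr0J m2L5 [m2L6] tr0L5 (dg [m2L4.b, m2L3.b, m2L2.b, m2L1.b, m2L0.b]) tr0F5.1 tr0F5.2) = true := by decide +kernel
noncomputable def tr0F6 : ℕ × ℕ := ((nat_lit 0xff00ff00ffffffffffffff0000ff0000ff0000ffff00ffff), (nat_lit 0))
theorem tr0b6 : allR 0 24 (ptB 24 (nat_lit 5) (nat_lit 31) m2T tr0T tr0J m2L6 [] tr0L6 (dg [m2L5.b, m2L4.b, m2L3.b, m2L2.b, m2L1.b, m2L0.b]) tr0F6.1 tr0F6.2) = true := by decide +kernel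
theorem tr0bk : Bk 24 (nat_lit 5) (nat_lit 31) m2T tr0T tr0J m2L tr0L [tr0F0, tr0F1, tr0F2, tr0F3, tr0F4, tr0F5, tr0F6] [] :=
  ⟨rfl, tr0b0, rfl, tr0b1, rfl, tr0b2, rfl, tr0b3, rfl, tr0b4, rfl, tr0b5, rfl, tr0b6, trivial⟩
theorem tr0tc : tchainChk 24 (nat_lit 5) (nat_lit 31) tr0T tr0L = true := by decide +kernel
noncomputable def trt0 : ℕ := (nat_lit 0xabee5339abb4a2c829093ce8418820)
noncomputable def trt1 : ℕ := (nat_lit 0xa20b75c6464b5cc9a9f63c2a418820)
noncomputable def trt2 : ℕ := (nat_lit 0x6c22e496b65d2ec7aa663a24418820)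
noncomputable def trt3 : ℕ := (nat_lit 0x7d6c971a11bcd6c6aa853c90418820)
noncomputable def trt4 : ℕ := (nat_lit 0x795099c646bb9a45aa951c2cc38820)
noncomputable def trt5 : ℕ := (nat_lit 0xa56d79c0d24b9a75a9e56450320820)
noncomputable def trt6 : ℕ := (nat_lit 0x7d6c89c9abbba2c81cb45192219020)
noncomputable def trt7 : ℕ := (nat_lit 0x2a6b46c17279a6c88ec83bae150880)
noncomputable def trt8 : ℕ := (nat_lit 0xbdab408ce478146135288b0b092e6e)
noncomputable def trT : Tr ℕ := (.node (nat_lit 4) (.node (nat_lit 2) (.node (nat_lit 1) (.leaf trt0) (.leaf trt1)) (.node (nat_lit 3) (.leaf trt2) (.leaf trt3)))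
 (.node (nat_lit 6) (.node (nat_lit 5) (.leaf trt4) (.leaf trt5)) (.node (nat_lit 7) (.leaf trt6) (.node (nat_lit 8) (.leaf trt7) (.leaf trt8)))))
noncomputable def trR : Tr (List ℕ) := (.node (nat_lit 22) (.node (nat_lit 11) (.node (nat_lit 5) (.node (nat_lit 2) (.node (nat_lit 1) (.leaf [nat_lit 0, nat_lit 1, nat_lit 6, nat_lit 1, nat_lit 6]) (.leaf [nat_lit 0, nat_lit 2, nat_lit 3, nat_lit 6, nat_lit 2, nat_lit 6])) (.node (nat_lit 3) (.leaf [nat_lit 6, nat_lit 0, nat_lit 6, nat_lit 0]) (.node (nat_lit 4) (.leaf [nat_lit 0, nat_lit 0]) (.leaf [nat_lit 7, nat_lit 0, nat_lit 7, nat_lit 1]))))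
 (.node (nat_lit 8) (.node (nat_lit 6) (.leaf [nat_lit 0, nat_lit 1, nat_lit 4, nat_lit 0, nat_lit 4]) (.node (nat_lit 7) (.leaf [nat_lit 0, nat_lit 3, nat_lit 0, nat_lit 3]) (.leaf [nat_lit 0, nat_lit 1, nat_lit 0, nat_lit 1]))) (.node (nat_lit 9) (.leaf [nat_lit 0, nat_lit 2, nat_lit 0, nat_lit 2]) (.node (nat_lit 10) (.leaf [nat_lit 1, nat_lit 2, nat_lit 5, nat_lit 2, nat_lit 5]) (.leaf [nat_lit 1, nat_lit 5, nat_lit 1, nat_lit 5])))))
 (.node (nat_lit 16) (.node (nat_lit 13) (.node (nat_lit 12) (.leaf [nat_lit 1, nat_lit 1]) (.leaf [nat_lit 4, nat_lit 1, nat_lit 4, nat_lit 1])) (.node (nat_lit 14) (.leaf [nat_lit 1, nat_lit 3, nat_lit 1, nat_lit 3]) (.node (nat_lit 15) (.leaf [nat_lit 1, nat_lit 2, nat_lit 1, nat_lit 2]) (.leaf [nat_lit 8, nat_lit 2, nat_lit 8, nat_lit 2, nat_lit 8, nat_lit 2]))))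
 (.node (nat_lit 19) (.node (nat_lit 17) (.leaf [nat_lit 2, nat_lit 3, nat_lit 4, nat_lit 2, nat_lit 4]) (.node (nat_lit 18) (.leaf [nat_lit 2, nat_lit 2]) (.leaf [nat_lit 2, nat_lit 3, nat_lit 2, nat_lit 3]))) (.node (nat_lit 20) (.leaf [nat_lit 3, nat_lit 5, nat_lit 3, nat_lit 5]) (.node (nat_lit 21) (.leaf [nat_lit 6, nat_lit 3, nat_lit 6, nat_lit 3]) (.leaf [nat_lit 4, nat_lit 3, nat_lit 4, nat_lit 3]))))))
 (.node (nat_lit 33) (.node (nat_lit 27) (.node (nat_lit 24) (.node (nat_lit 23) (.leaf [nat_lit 3, nat_lit 3]) (.leaf [nat_lit 0, nat_lit 1, nat_lit 3, nat_lit 5, nat_lit 0, nat_lit 5])) (.node (nat_lit 25) (.leaf [nat_lit 8, nat_lit 4, nat_lit 8, nat_lit 4]) (.node (nat_lit 26) (.leaf [nat_lit 4, nat_lit 5, nat_lit 4, nat_lit 5]) (.leaf [nat_lit 4, nat_lit 4]))))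
 (.node (nat_lit 30) (.node (nat_lit 28) (.leaf [nat_lit 8, nat_lit 5, nat_lit 8, nat_lit 5]) (.node (nat_lit 29) (.leaf [nat_lit 5, nat_lit 5]) (.leaf [nat_lit 8, nat_lit 6, nat_lit 8, nat_lit 6]))) (.node (nat_lit 31) (.leaf [nat_lit 6, nat_lit 6]) (.node (nat_lit 32) (.leaf [nat_lit 8, nat_lit 2, nat_lit 8, nat_lit 7, nat_lit 8, nat_lit 2, nat_lit 8, nat_lit 7]) (.leaf [nat_lit 0, nat_lit 3, nat_lit 6, nat_lit 7, nat_lit 6, nat_lit 7, nat_lit 6, nat_lit 7])))))
 (.node (nat_lit 39) (.node (nat_lit 36) (.node (nat_lit 34) (.leaf [nat_lit 8, nat_lit 7, nat_lit 8, nat_lit 7, nat_lit 8, nat_lit 7, nat_lit 8, nat_lit 7]) (.node (nat_lit 35) (.leaf [nat_lit 7, nat_lit 7]) (.leaf [nat_lit 3, nat_lit 7, nat_lit 5, nat_lit 0, nat_lit 5, nat_lit 7]))) (.node (nat_lit 37) (.leaf [nat_lit 0, nat_lit 2, nat_lit 3, nat_lit 7, nat_lit 2, nat_lit 7]) (.node (nat_lit 38) (.leaf [nat_lit 8, nat_lit 8]) (.leaf [nat_lit 6, nat_lit 4, nat_lit 6, nat_lit 4, nat_lit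 6, nat_lit 4]))))
 (.node (nat_lit 42) (.node (nat_lit 40) (.leaf [nat_lit 4, nat_lit 5, nat_lit 7, nat_lit 5, nat_lit 7, nat_lit 4, nat_lit 7, nat_lit 5, nat_lit 7]) (.node (nat_lit 41) (.leaf [nat_lit 6, nat_lit 5, nat_lit 6, nat_lit 5, nat_lit 6, nat_lit 5]) (.leaf [nat_lit 7, nat_lit 5, nat_lit 7, nat_lit 5, nat_lit 7, nat_lit 5, nat_lit 7, nat_lit 5]))) (.node (nat_lit 43) (.leaf [nat_lit 1, nat_lit 3, nat_lit 4, nat_lit 5, nat_lit 6, nat_lit 7, nat_lit 5, nat_lit 7, nat_lit 6, nat_lit 5, nat_lit 4, nat_lit 7]) (.node (nat_lit 44) (.leaf [nat_lit 7, nat_lit 4, nat_lit 7, nat_lit 6, nat_lit 7, nat_lit 4, nat_lit 7, nat_lit 6]) (.leaf [nat_lit 1, nat_lit 3, nat_lit 4, nat_lit 7, nat_lit 4, nat_lit 7, nat_lit 4, nat_lit 7])))))))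
noncomputable def trL0 : Lev := ⟨(nat_lit 0), (nat_lit 9), (nat_lit 0x30503030401020604090209040904070908030909090900), (nat_lit 0x30404020202030304010203030303030402030403040300),
 (.node (nat_lit 4) (.node (nat_lit 2) (.node (nat_lit 1) (.leaf (nat_lit 0x50008000400020009000000020005000900010003001300060011000700060010000800030010000c000f000a0000))
 (.leaf (nat_lit 0x2000a00020003000500010000000b000400010000001200060012000500090010000a0003000e000d000900090000)))
 (.node (nat_lit 3) (.leaf (nat_lit 0xa00000000000200010001000b0002000100010011000300110003000d0010000c0000000c0007000800060000))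
 (.leaf (nat_lit 0x1000c000b00010000000f000400030000000100010012000000110000000e0010000e000d000a000b000900090000))))
 (.node (nat_lit 6) (.node (nat_lit 5) (.leaf (nat_lit 0x80000000a00040007000e000d000e0007000200030011000400040003000b000f000f00010010000e000500080000))
 (.leaf (nat_lit 0x6000c000d000700070001000d0000000600020003000e000400040005000f000d000c000e00030002000500080000)))
 (.node (nat_lit 7) (.leaf (nat_lit 0x7000a000b00010003000300050005000600020004000b00060006000500000005000a000400070004000600040000))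
 (.node (nat_lit 8) (.leaf (nat_lit 0x40010000500030007000c0008000b0011000100060002000900130011000f00140000000500120012001300110000))
 (.leaf (nat_lit 0x80007000e000200010001000100010007000000010000000100000005001000000001000600000000000000000001)))))),
 (.node (nat_lit 4) (.node (nat_lit 2) (.node (nat_lit 1) (.leaf (nat_lit 0x300000503000702000800000300000000000700000600000301000301000301000401000301000201000300000201000503000401000301000201000100000000000000000000))
 (.leaf (nat_lit 0xe02000b00000e00000b01000e02000b00000000000b00000d00000b00000000000c01000b01000501000b01000703000c01000703000b01000a02000900000900000900000000)))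
 (.node (nat_lit 3) (.leaf (nat_lit 0x801000000000000001200001100001101001101001200001101001101000903001101000104001101001100001003000e03000000000f05000f05000f05000f05000000))
 (.leaf (nat_lit 0x1600001600001201001600000000001600001600001702000000001601001600001501000000001401000000001600001501001201000d03001401001300001001001001000000))))
 (.node (nat_lit 6) (.node (nat_lit 5) (.leaf (nat_lit 0x1a00000000000c02001a00000c02001a00001004001900001902001801000c00001a00001500001803001004001a01001a00001a01001a01001902001803001803001803000000))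
 (.leaf (nat_lit 0x1301000902001c01001c01000a01001c00001c00000000001c00001b01000a03001c00001303001b03000904001c00001b01000a03001903001c00001b03001b03001b03000000)))
 (.node (nat_lit 7) (.leaf (nat_lit 0x1e00000202001e01001e00001402000202001e00001400000002001d01000004001d01001e01001e00001e00000000001d03000200000105001e00001d03001d03001d03000000))
 (.node (nat_lit 8) (.leaf (nat_lit 0x402000402000402001f03002200002200000400000402000402002200002403002103002201002200002201002301002005000000002201002200002103002005001f07000000))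
 (.leaf (nat_lit 0x1b02001802001b00000f02002500002500002500002500001b02000000002500000000002500000000001800001b02000000002501001d00000000000000000000000000002501))))))⟩
noncomputable def trL1 : Lev := ⟨(nat_lit 1), (nat_lit 8), (nat_lit 0x5000800000600000806070000), (nat_lit 0x2000300000300000102020000),
 (.node (nat_lit 4) (.node (nat_lit 2) (.node (nat_lit 1) (.leaf (nat_lit 0x3000000040000000000040000000000020002000300000000))
 (.leaf (nat_lit 0x3000000030000000000040000000000020003000400000000)))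
 (.node (nat_lit 3) (.leaf (nat_lit 0x6000000050000000000050000000000020004000700000000))
 (.leaf (nat_lit 0x6000000030000000000050000000000050004000600000000))))
 (.node (nat_lit 6) (.node (nat_lit 5) (.leaf (nat_lit 0x20000000000020000000000010003000400000000))
 (.leaf (nat_lit 0x1000000020000000000000000000000010000000500000000)))
 (.node (nat_lit 7) (.leaf (nat_lit 0x3000000030000000000020000000000010004000000000000))
 (.leaf (nat_lit 0x2000000000000000000050000000000000001000200010000))))),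
 (.node (nat_lit 4) (.node (nat_lit 2) (.node (nat_lit 1) (.leaf (nat_lit 0x503000000000401000000000000000503000000000000000401002303000203000000000000))
 (.leaf (nat_lit 0xc01000000000403000000000000000c01000000000000000403000a00000001000000000000)))
 (.node (nat_lit 3) (.leaf (nat_lit 0x903000000002404000000000000001003000000000000002404000901000101000000000000))
 (.leaf (nat_lit 0x1501000000002300000000000000001501000000000000001302001702001403000000000000))))
 (.node (nat_lit 6) (.node (nat_lit 5) (.leaf (nat_lit 0x2705000000000000001900000000000000001a01001a01002605000000000000))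
 (.leaf (nat_lit 0x1c00000000002903000000000000000000000000000000001c00000000002805000000000000)))
 (.node (nat_lit 7) (.leaf (nat_lit 0x2b03000000001e00000000000000002a08000000000000001e00002600000000000000000000))
 (.leaf (nat_lit 0x2c05000000000000000000000000002c03000000000000000000002201002005002201000000)))))⟩
noncomputable def trL2 : Lev := ⟨(nat_lit 2), (nat_lit 7), (nat_lit 0x5000700000600000706000000), (nat_lit 0x2000400000300000102000000),
 (.node (nat_lit 3) (.node (nat_lit 1) (.leaf (nat_lit 0x3000000060000000000050000000000020004000000000000))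
 (.node (nat_lit 2) (.leaf (nat_lit 0x3000000060000000000040000000000020003000000000000))
 (.leaf (nat_lit 0x6000000060000000000050000000000020004000000000000))))
 (.node (nat_lit 5) (.node (nat_lit 4) (.leaf (nat_lit 0x3000000050000000000040000000000020003000000000000))
 (.leaf (nat_lit 0x40000000000020000000000010003000000000000)))
 (.node (nat_lit 6) (.leaf (nat_lit 0x1000000030000000000000000000000010000000000000000))
 (.leaf (nat_lit 0x2000000000000000000010000000000000002000100000000))))),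
 (.node (nat_lit 3) (.node (nat_lit 1) (.leaf (nat_lit 0x503000000000201000000000000000503000000000000000201001700000000000000000000))
 (.node (nat_lit 2) (.leaf (nat_lit 0xc01000000000003000000000000000c01000000000000000003000a00000000000000000000))
 (.leaf (nat_lit 0x903000000000104000000000000001003000000000000000104000901000000000000000000))))
 (.node (nat_lit 5) (.node (nat_lit 4) (.leaf (nat_lit 0x1501000000001401000000000000001501000000000000001401001300000000000000000000))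
 (.leaf (nat_lit 0x2603000000000000001900000000000000001a01001a01000000000000000000)))
 (.node (nat_lit 6) (.leaf (nat_lit 0x1c00000000002801000000000000000000000000000000001c00000000000000000000000000))
 (.leaf (nat_lit 0x2602000000000000000000000000001e01000000000000000000002802001e01000000000000)))))⟩
noncomputable def trL3 : Lev := ⟨(nat_lit 3), (nat_lit 6), (nat_lit 0x6000000000500000600000000), (nat_lit 0x2000000000100000100000000),
 (.node (nat_lit 3) (.node (nat_lit 1) (.leaf (nat_lit 0x4000000000000000000020000000000020000000000000000))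
 (.node (nat_lit 2) (.leaf (nat_lit 0x4000000000000000000020000000000020000000000000000))
 (.leaf (nat_lit 0x3000000000000000000020000000000020000000000000000))))
 (.node (nat_lit 4) (.leaf (nat_lit 0x4000000000000000000020000000000020000000000000000))
 (.node (nat_lit 5) (.leaf (nat_lit 0x3000000000000000000000000000000020001000000000000))
 (.leaf (nat_lit 0x10000000000000001000000000000))))),
 (.node (nat_lit 3) (.node (nat_lit 1) (.leaf (nat_lit 0x503000000000000000000000000000503000000000000001704000000000000000000000000))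
 (.node (nat_lit 2) (.leaf (nat_lit 0xc01000000000000000000000000000c01000000000000000a02000000000000000000000000))
 (.leaf (nat_lit 0x903000000000000000000000000001003000000000000000903000000000000000000000000))))
 (.node (nat_lit 4) (.leaf (nat_lit 0x1501000000000000000000000000001501000000000000001302000000000000000000000000))
 (.node (nat_lit 5) (.leaf (nat_lit 0x1a00000000000000000000000000000000000000000000001902001a01000000000000000000))
 (.leaf (nat_lit 0x1c01000000000000000000001c01000000000000000000)))))⟩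
noncomputable def trL4 : Lev := ⟨(nat_lit 5), (nat_lit 4), (nat_lit 0x20402010403030404030300040004040004000000000000), (nat_lit 0x20201010301020303020300040002010002000000000000),
 (.node (nat_lit 2) (.node (nat_lit 1) (.leaf (nat_lit 0x300040002000000040002000400060005000300050000000700000003000200000005000100000000000000000000))
 (.leaf (nat_lit 0x30000000100040002000300040002000200030000000500000003000200000005000100000000000000000000)))
 (.node (nat_lit 3) (.leaf (nat_lit 0x100020001000100020000000000030002000000000000000300000003000200000003000100000000000000000000))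
 (.leaf (nat_lit 0x100000001000100000001000100000000000100010000000000000000000000000000000100000000000000000000)))),
 (.node (nat_lit 2) (.node (nat_lit 1) (.leaf (nat_lit 0x300000702000702000000000800000802000700000702000301000301000301000000000301000000000300000602000000000301000301000000000000000000000000000000))
 (.leaf (nat_lit 0xb00000000000b01000e02000e02000b01000e00000d00000e00000b01000000000b01000000000b01000d02000000000b01000b01000000000000000000000000000000)))
 (.node (nat_lit 3) (.leaf (nat_lit 0x1100001200001100001100001200000000000000001101001200000000000000000000001101000000001101001202000000001101001101000000000000000000000000000000))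
 (.leaf (nat_lit 0x1600000000001601001600000000001600001600000000000000001601001600000000000000000000000000000000000000000000001601000000000000000000000000000000))))⟩
noncomputable def trL : List Lev := [trL0, trL1, trL2, trL3, trL4]
theorem tre : smC [] [] [[5279, 1009728, 15762208]] trT = true := by decide +kernel
theorem trtc : tchainChk 24 (nat_lit 5) (nat_lit 31) trT trL = true := by decide +kernel
theorem trc : band (tchainChk 24 (nat_lit 5) (nat_lit 31) trT trL) (Nat.ble (chainOrd 24 tr0L) (chainOrd 24 trL)) = true := by decide +kernel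
theorem trch {C : H7.Coding GolayPt} (hC : GC C) : Ch (SM M24 C [] [] [[5279, 1009728, 15762208]]) 24 5 31 C.dec trT trL :=
  ((hC.chSM (hC.ch m2c) tr0e tr0tc tr0bk).ch (hC.sm tre) trc)
theorem trlev0 : levChk 24 (nat_lit 5) (nat_lit 31) trT trR trL0 trL1.N = true := by decide +kernel
theorem trlev1 : levChk 24 (nat_lit 5) (nat_lit 31) trT trR trL1 trL2.N = true := by decide +kernel
theorem trlev2 : levChk 24 (nat_lit 5) (nat_lit 31) trT trR trL2 trL3.N = true := by decide +kernel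
theorem trlev3 : levChk 24 (nat_lit 5) (nat_lit 31) trT trR trL3 trL4.N = true := by decide +kernel
theorem trlev4 : levChk 24 (nat_lit 5) (nat_lit 31) trT trR trL4 0 = true := by decide +kernel
theorem trchain : Chain 24 (nat_lit 5) (nat_lit 31) trT trR trL := chain_cons trlev0 <| chain_cons trlev1 <| chain_cons trlev2 <| chain_cons trlev3 <| chain_one trlev4
theorem trsd : band (trR.all fun w => eqB (trL.map Lev.b) (apL (nat_lit 5) (nat_lit 31) trT w) fun a => a) (Nat.ble (chainOrd 24 trL) (chainOrd 24 trL)) = true := by decide +kernel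
theorem trstd {C : H7.Coding GolayPt} (hC : GC C) : Std (SM M24 C [] [] [[5279, 1009728, 15762208]]) 24 5 31 C.dec trT trR trL :=
  ((trch hC).std (trch hC).lets trchain trsd)
theorem trcard {C : H7.Coding GolayPt} (hC : GC C) : Nat.card (SM M24 C [] [] [[5279, 1009728, 15762208]]) = 64512 := (trch hC).card.trans (by decide +kernel)
noncomputable def m3t0 : ℕ := (nat_lit 0x53c544c990b14115de68219c71d42d)
noncomputable def m3t1 : ℕ := (nat_lit 0xb5c948ca70535c95bd881181519c25)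
noncomputable def m3t2 : ℕ := (nat_lit 0x11d54749b024e205d4a8b192f1dc2c)
noncomputable def m3t3 : ℕ := (nat_lit 0x6b9943c8502daf558088999e91c42a)
noncomputable def m3t4 : ℕ := (nat_lit 0x3da214c8b0981845b9e811aada5c6a)
noncomputable def m3t5 : ℕ := (nat_lit 0x158a37cab04a88d58268b9a2c09e8e)
noncomputable def m3t6 : ℕ := (nat_lit 0x406a2049907a4b15a9d7199a43d2d3)
noncomputable def m3t7 : ℕ := (nat_lit 0x5aa124a30130ee1a548698b35be97)
noncomputable def m3t8 : ℕ := (nat_lit 0xb890d9c8907a68c581d531c311d8aa)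
noncomputable def m3t9 : ℕ := (nat_lit 0x88ea099ef02b92b629a8919e2b1034)
noncomputable def m3t10 : ℕ := (nat_lit 0x1d9c104a2d2d60c228c83a5ebb8a93)
noncomputable def m3T : Tr ℕ := (.node (nat_lit 5) (.node (nat_lit 2) (.node (nat_lit 1) (.leaf m3t0) (.leaf m3t1)) (.node (nat_lit 3) (.leaf m3t2) (.node (nat_lit 4) (.leaf m3t3) (.leaf m3t4))))
 (.node (nat_lit 8) (.node (nat_lit 6) (.leaf m3t5) (.node (nat_lit 7) (.leaf m3t6) (.leaf m3t7))) (.node (nat_lit 9) (.leaf m3t8) (.node (nat_lit 10) (.leaf m3t9) (.leaf m3t10)))))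
noncomputable def m3L0 : Lev := ⟨(nat_lit 16), (nat_lit 11), (nat_lit 0x4040b09070a030003020b060b040a07080907050b040901), (nat_lit 0x20303020303020003020102030302030203020203030302),
 (.leaf 0),
 (.leaf 0)⟩
noncomputable def m3L1 : Lev := ⟨(nat_lit 18), (nat_lit 10), (nat_lit 0x50302070400090003040805080104070a09070107020707), (nat_lit 0x20203030200030003030203030303030102030202020303),
 (.leaf 0),
 (.leaf 0)⟩
noncomputable def m3L2 : Lev := ⟨(nat_lit 6), (nat_lit 9), (nat_lit 0x50302070400090003040805080104070900070107020707), (nat_lit 0x20203030200030003030203030303030100030202020303),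
 (.leaf 0),
 (.leaf 0)⟩
noncomputable def m3L3 : Lev := ⟨(nat_lit 11), (nat_lit 8), (nat_lit 0x50701060400040001040805000104070700070108070507), (nat_lit 0x30304020300040004040304000404040200040301030204),
 (.leaf 0),
 (.leaf 0)⟩
noncomputable def m3L4 : Lev := ⟨(nat_lit 8), (nat_lit 7), (nat_lit 0x70203070400040002060406000105000600070507030704), (nat_lit 0x10203030300030003030203000204000200030303020303),
 (.leaf 0),
 (.leaf 0)⟩
noncomputable def m3L5 : Lev := ⟨(nat_lit 1), (nat_lit 6), (nat_lit 0x50000000000000000000000000000000006000000), (nat_lit 0x10000000000000000000000000000000001000000),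
 (.leaf 0),
 (.leaf 0)⟩
noncomputable def m3L6 : Lev := ⟨(nat_lit 0), (nat_lit 4), (nat_lit 0x40404000300030004020103000403000400020400040000), (nat_lit 0x20302000300020002020101000102000400010300030000),
 (.leaf 0),
 (.leaf 0)⟩
noncomputable def m3L : List Lev := [m3L0, m3L1, m3L2, m3L3, m3L4, m3L5, m3L6]
theorem m3c : band (m3T.all fun c => m24Chk (ap 5 31 c)) (band (tchainChk 24 5 31 m3T m3L) (Nat.ble 244823040 (chainOrd 24 m3L))) = true := by decide +kernel
noncomputable def tkt0 : ℕ := (nat_lit 0xabee59ca30b39a159d0951a8201183)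
noncomputable def tkt1 : ℕ := (nat_lit 0xa20b79ca304b9a4581f619aac3844a)
noncomputable def tkt2 : ℕ := (nat_lit 0x451369ca302b9aa5b2b7099e010ce4)
noncomputable def tkt3 : ℕ := (nat_lit 0xa151774a304cd636a9f521ac760820)
noncomputable def tkt4 : ℕ := (nat_lit 0xba0b45ca307b5c39853621aa760142)
noncomputable def tkt5 : ℕ := (nat_lit 0x495e89c9d0ac5a232af402ec41b027)
noncomputable def tkt6 : ℕ := (nat_lit 0x7d6c594e30b99ac5910913a8a19c20)
noncomputable def tkt7 : ℕ := (nat_lit 0xabee5339abb4a2c829093ce8418820)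
noncomputable def tkT : Tr ℕ := (.node (nat_lit 4) (.node (nat_lit 2) (.node (nat_lit 1) (.leaf tkt0) (.leaf tkt1)) (.node (nat_lit 3) (.leaf tkt2) (.leaf tkt3)))
 (.node (nat_lit 6) (.node (nat_lit 5) (.leaf tkt4) (.leaf tkt5)) (.node (nat_lit 7) (.leaf tkt6) (.leaf tkt7))))
noncomputable def tkL0 : Lev := ⟨(nat_lit 16), (nat_lit 8), (nat_lit 0x507080000050400080000000006000000000000), (nat_lit 0x203030000030200010000000002000000000000),
 (.leaf 0),
 (.leaf 0)⟩
noncomputable def tkL1 : Lev := ⟨(nat_lit 18), (nat_lit 7), (nat_lit 0x700060000040500050000000007000000000000), (nat_lit 0x100030000020300020000000003000000000000),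
 (.leaf 0),
 (.leaf 0)⟩
noncomputable def tkL2 : Lev := ⟨(nat_lit 6), (nat_lit 6), (nat_lit 0x500060000050400060000000000000000000000), (nat_lit 0x200040000030200010000000000000000000000),
 (.leaf 0),
 (.leaf 0)⟩
noncomputable def tkL3 : Lev := ⟨(nat_lit 11), (nat_lit 5), (nat_lit 0x500000000050400000000000000000000000000), (nat_lit 0x100000000020100000000000000000000000000),
 (.leaf 0),
 (.leaf 0)⟩
noncomputable def tkL4 : Lev := ⟨(nat_lit 8), (nat_lit 3), (nat_lit 0x30203030000000002000000000001000000030000000000), (nat_lit 0x10102020000000002000000000001000000030000000000),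
 (.leaf 0),
 (.leaf 0)⟩
noncomputable def tkL5 : Lev := ⟨(nat_lit 1), (nat_lit 0), (nat_lit 0x0), (nat_lit 0x0),
 (.leaf 0),
 (.leaf 0)⟩
noncomputable def tkL6 : Lev := ⟨(nat_lit 0), (nat_lit 0), (nat_lit 0x0), (nat_lit 0x0),
 (.leaf 0),
 (.leaf 0)⟩
noncomputable def tkL : List Lev := [tkL0, tkL1, tkL2, tkL3, tkL4, tkL5, tkL6]
theorem tke : smC [] [5279, 1009728, 15762208] [] tkT = true := by decide +kernel
noncomputable def tkJ : List Pr := [prSM 24 (allM [] [5279, 1009728, 15762208]) []]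
noncomputable def tkF0 : ℕ × ℕ := ((nat_lit 0xffffffff00000000ff0000ff00ffffffff00ffffffffffff), (nat_lit 0))
theorem tkb0 : allR 0 24 (ptB 24 (nat_lit 5) (nat_lit 31) m3T tkT tkJ m3L0 [m3L1, m3L2, m3L3, m3L4, m3L5, m3L6] tkL0 (dg []) tkF0.1 tkF0.2) = true := by decide +kernel
noncomputable def tkF1 : ℕ × ℕ := ((nat_lit 0xffffffff00000000ff0000ff00ffffffff00ffffffffffff), (nat_lit 0))
theorem tkb1 : allR 0 24 (ptB 24 (nat_lit 5) (nat_lit 31) m3T tkT tkJ m3L1 [m3L2, m3L3, m3L4, m3L5, m3L6] tkL1 (dg [m3L0.b]) tkF1.1 tkF1.2) = true := by decide +kernel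
noncomputable def tkF2 : ℕ × ℕ := ((nat_lit 0xffffffff00000000ff0000ff00ffffffff00ffffffffffff), (nat_lit 0))
theorem tkb2 : allR 0 24 (ptB 24 (nat_lit 5) (nat_lit 31) m3T tkT tkJ m3L2 [m3L3, m3L4, m3L5, m3L6] tkL2 (dg [m3L1.b, m3L0.b]) tkF2.1 tkF2.2) = true := by decide +kernel
noncomputable def tkF3 : ℕ × ℕ := ((nat_lit 0xffffffff0000ff00ff0000ff00ffffffff00ffffffffffff), (nat_lit 0))
theorem tkb3 : allR 0 24 (ptB 24 (nat_lit 5) (nat_lit 31) m3T tkT tkJ m3L3 [m3L4, m3L5, m3L6] tkL3 (dg [m3L2.b, m3L1.b, m3L0.b]) tkF3.1 tkF3.2) = true := by decide +kernel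
noncomputable def tkF4 : ℕ × ℕ := ((nat_lit 0xff00ff0000ffffff00ff0000ff0000ffffffffff), (nat_lit 0))
theorem tkb4 : allR 0 24 (ptB 24 (nat_lit 5) (nat_lit 31) m3T tkT tkJ m3L4 [m3L5, m3L6] tkL4 (dg [m3L3.b, m3L2.b, m3L1.b, m3L0.b]) tkF4.1 tkF4.2) = true := by decide +kernel
noncomputable def tkF5 : ℕ × ℕ := ((nat_lit 0xff00000000000000000000000000000000ff000000), (nat_lit 0))
theorem tkb5 : allR 0 24 (ptB 24 (nat_lit 5) (nat_lit 31) m3T tkT tkJ m3L5 [m3L6] tkL5 (dg [m3L4.b, m3L3.b, m3L2.b, m3L1.b, m3L0.b]) tkF5.1 tkF5.2) = true := by decide +kernel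
noncomputable def tkF6 : ℕ × ℕ := ((nat_lit 0xffffff00ff00ff00ffffffff00ffff00ff00ffff00ff0000), (nat_lit 0))
theorem tkb6 : allR 0 24 (ptB 24 (nat_lit 5) (nat_lit 31) m3T tkT tkJ m3L6 [] tkL6 (dg [m3L5.b, m3L4.b, m3L3.b, m3L2.b, m3L1.b, m3L0.b]) tkF6.1 tkF6.2) = true := by decide +kernel
theorem tkbk : Bk 24 (nat_lit 5) (nat_lit 31) m3T tkT tkJ m3L tkL [tkF0, tkF1, tkF2, tkF3, tkF4, tkF5, tkF6] [] :=
  ⟨rfl, tkb0, rfl, tkb1, rfl, tkb2, rfl, tkb3, rfl, tkb4, rfl, tkb5, rfl, tkb6, trivial⟩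
theorem tktc : tchainChk 24 (nat_lit 5) (nat_lit 31) tkT tkL = true := by decide +kernel
theorem tkch {C : H7.Coding GolayPt} (hC : GC C) : Ch (SM M24 C [] [5279, 1009728, 15762208] []) 24 5 31 C.dec tkT tkL :=
  (hC.chSM (hC.ch m3c) tke tktc tkbk)
theorem tkcard {C : H7.Coding GolayPt} (hC : GC C) : Nat.card (SM M24 C [] [5279, 1009728, 15762208] []) = 10752 := (tkch hC).card.trans (by decide +kernel)
noncomputable def prt0 : ℕ := (nat_lit 0x7896543210)
noncomputable def prt1 : ℕ := (nat_lit 0x8976543210)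
noncomputable def prt2 : ℕ := (nat_lit 0x9875643120)
noncomputable def prt3 : ℕ := (nat_lit 0x9872143650)
noncomputable def prt4 : ℕ := (nat_lit 0x9786521430)
noncomputable def prt5 : ℕ := (nat_lit 0x8974563012)
noncomputable def prT : Tr ℕ := (.node (nat_lit 3) (.node (nat_lit 1) (.leaf prt0) (.node (nat_lit 2) (.leaf prt1) (.leaf prt2))) (.node (nat_lit 4) (.leaf prt3) (.node (nat_lit 5) (.leaf prt4) (.leaf prt5))))
noncomputable def prL0 : Lev := ⟨(nat_lit 0), (nat_lit 6), (nat_lit 0x4040505060300), (nat_lit 0x2030203010200),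
 (.leaf 0),
 (.leaf 0)⟩
noncomputable def prL1 : Lev := ⟨(nat_lit 3), (nat_lit 5), (nat_lit 0x4040500030500), (nat_lit 0x3020300020100),
 (.leaf 0),
 (.leaf 0)⟩
noncomputable def prL2 : Lev := ⟨(nat_lit 1), (nat_lit 4), (nat_lit 0x4040000030000), (nat_lit 0x2010000010000),
 (.leaf 0),
 (.leaf 0)⟩
noncomputable def prL3 : Lev := ⟨(nat_lit 8), (nat_lit 2), (nat_lit 0x2000100000000000000), (nat_lit 0x1000200000000000000),
 (.leaf 0),
 (.leaf 0)⟩
noncomputable def prL4 : Lev := ⟨(nat_lit 7), (nat_lit 1), (nat_lit 0x1000000000000000000), (nat_lit 0x1000000000000000000),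
 (.leaf 0),
 (.leaf 0)⟩
noncomputable def prL : List Lev := [prL0, prL1, prL2, prL3, prL4]
noncomputable def prD : Tr (List ℕ × List ℕ) := (.node (nat_lit 3) (.node (nat_lit 1) (.leaf ([], [nat_lit 0, nat_lit 1, nat_lit 0])) (.node (nat_lit 2) (.leaf ([], [nat_lit 0])) (.leaf ([nat_lit 3, nat_lit 2], [])))) (.node (nat_lit 4) (.leaf ([nat_lit 2, nat_lit 1, nat_lit 3, nat_lit 1, nat_lit 2, nat_lit 1], [])) (.node (nat_lit 5) (.leaf ([nat_lit 2, nat_lit 0, nat_lit 3, nat_lit 0, nat_lit 2], [nat_lit 1])) (.leaf ([nat_lit 1, nat_lit 0], [nat_lit 0])))))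
theorem prp : band (prT.all2 (prdChk 7 (nat_lit 3) (nat_lit 7) 3 (nat_lit 2) (nat_lit 3) (nat_lit 4) (nat_lit 15) MG.gl32T Alt.s3T) prD) (band (Nat.beq 10 (7 + 3)) (band (tchainChk 10 (nat_lit 4) (nat_lit 15) prT prL) (Nat.ble (chainOrd 7 MG.gl32L * chainOrd 3 Alt.s3L) (chainOrd 10 prL)))) = true := by decide +kernel
noncomputable def iI : Tr (List ℕ) := (.node (nat_lit 4) (.node (nat_lit 2) (.node (nat_lit 1) (.leaf []) (.leaf [])) (.node (nat_lit 3) (.leaf [nat_lit 0, nat_lit 1, nat_lit 0]) (.leaf [])))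
 (.node (nat_lit 6) (.node (nat_lit 5) (.leaf [nat_lit 2, nat_lit 4, nat_lit 2, nat_lit 0, nat_lit 1, nat_lit 0]) (.leaf [nat_lit 3, nat_lit 2, nat_lit 5, nat_lit 3, nat_lit 2, nat_lit 1])) (.node (nat_lit 7) (.leaf [nat_lit 4, nat_lit 2, nat_lit 5, nat_lit 2, nat_lit 4, nat_lit 3, nat_lit 2, nat_lit 0]) (.node (nat_lit 8) (.leaf [nat_lit 4, nat_lit 5, nat_lit 4, nat_lit 0]) (.leaf [nat_lit 1])))))
theorem ih : trR.all (fun w => eqB (prL.map Lev.b) (apF (fun y => apL (nat_lit 4) (nat_lit 15) prT (iI.get y)) w) fun a => a) = true := by decide +kernel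
noncomputable def iD : Tr (List ℕ) := (.node (nat_lit 3) (.node (nat_lit 1) (.leaf [nat_lit 6, nat_lit 2, nat_lit 8, nat_lit 6, nat_lit 3, nat_lit 2]) (.node (nat_lit 2) (.leaf [nat_lit 3, nat_lit 1, nat_lit 8, nat_lit 1]) (.leaf [nat_lit 8, nat_lit 1, nat_lit 0, nat_lit 8, nat_lit 5, nat_lit 7, nat_lit 4, nat_lit 6, nat_lit 5, nat_lit 4]))) (.node (nat_lit 4) (.leaf [nat_lit 8, nat_lit 3, nat_lit 8, nat_lit 5, nat_lit 7, nat_lit 5, nat_lit 3]) (.node (nat_lit 5) (.leaf [nat_lit 8, nat_lit 3, nat_lit 1, nat_lit 8, nat_lit 6, nat_lit 7, nat_lit 6, nat_lit 4, nat_lit 3, nat_lit 2, nat_lit 1]) (.leaf [nat_lit 3, nat_lit 1, nat_lit 8, nat_lit 4, nat_lit 6, nat_lit 4, nat_lit 3, nat_lit 1]))))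
theorem is : (surChk (nat_lit 4) (nat_lit 15) (prL.map Lev.b) prT iI (topN trL) iD (topN prL)) = true := by decide +kernel
noncomputable def tnt0 : ℕ := (nat_lit 0xbdab46c0d27ae6770528644a320142)
noncomputable def tnt1 : ℕ := (nat_lit 0xbdab48ae6e7c0ca931280b4a010ce4)
noncomputable def tnt2 : ℕ := (nat_lit 0xbdab45c6467b5c4981281c0ac3844a)
noncomputable def tnt3 : ℕ := (nat_lit 0xabee5835d3b4644301091ae8c3844a)
noncomputable def tnt4 : ℕ := (nat_lit 0xb5de85c646ab5ca9b0b40c12010ce4)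
noncomputable def tnt5 : ℕ := (nat_lit 0x4513694d6d29a04882b71b9ec3844a)
noncomputable def tnT : Tr ℕ := (.node (nat_lit 3) (.node (nat_lit 1) (.leaf tnt0) (.node (nat_lit 2) (.leaf tnt1) (.leaf tnt2))) (.node (nat_lit 4) (.leaf tnt3) (.node (nat_lit 5) (.leaf tnt4) (.leaf tnt5))))
noncomputable def tnL0 : Lev := ⟨(nat_lit 5), (nat_lit 6), (nat_lit 0x60606040000000006000000000005050000000000000000), (nat_lit 0x30202010000000001000000000001020000000000000000),
 (.leaf 0),
 (.leaf 0)⟩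
noncomputable def tnL1 : Lev := ⟨(nat_lit 0), (nat_lit 3), (nat_lit 0x3000300000300000202010300), (nat_lit 0x2000100000300000102010200),
 (.leaf 0),
 (.leaf 0)⟩
noncomputable def tnL : List Lev := [tnL0, tnL1]
noncomputable def tnE : Tr (List ℕ) := (.node (nat_lit 3) (.node (nat_lit 1) (.leaf [nat_lit 8, nat_lit 3, nat_lit 1, nat_lit 8, nat_lit 3, nat_lit 1]) (.node (nat_lit 2) (.leaf [nat_lit 8, nat_lit 5, nat_lit 0, nat_lit 8, nat_lit 5, nat_lit 3, nat_lit 1, nat_lit 0]) (.leaf [nat_lit 8, nat_lit 1, nat_lit 8, nat_lit 1]))) (.node (nat_lit 4) (.leaf [nat_lit 8, nat_lit 1, nat_lit 8, nat_lit 1, nat_lit 0]) (.node (nat_lit 5) (.leaf [nat_lit 8, nat_lit 5, nat_lit 0, nat_lit 8, nat_lit 5, nat_lit 1]) (.leaf [nat_lit 8, nat_lit 1, nat_lit 8, nat_lit 3, nat_lit 0]))))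
theorem tnw_0 : tnT.all2 (fun c w => isProd 24 (nat_lit 5) (nat_lit 31) trT c w) tnE = true := by decide +kernel
theorem tnw : tnT.all2 (fun c w => isProd 24 (nat_lit 5) (nat_lit 31) trT c w) tnE = true := tnw_0
theorem tnk : tnE.all (fun w => band (allL w fun j => Nat.ble (Nat.succ j) (topN trL)) (eqB (prL.map Lev.b) (apF (fun y => apL (nat_lit 4) (nat_lit 15) prT (iI.get y)) w) fun a => a)) = true := by decide +kernel
theorem tnc : band (tchainChk 24 (nat_lit 5) (nat_lit 31) tnT tnL) (band (Nat.ble 1 (chainOrd 10 prL)) (Nat.ble (chainOrd 24 trL) (chainOrd 24 tnL * chainOrd 10 prL))) = true := by decide +kernel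
theorem tnx : allR 0 24 (refu 24 (nat_lit 5) (nat_lit 31) tnT ⟨fun _ _ => 0, fun _ _ _ => true, fun f => eqB (tnL.map Lev.b) (itF f 2) fun a => a⟩ tnL0 [tnL1] []) = true := by decide +kernel
theorem tra {C : H7.Coding GolayPt} (hC : GC C) : ∃ φ : (SM M24 C [] [] [[5279, 1009728, 15762208]]) →* GL (Fin 3) (ZMod 2) × Equiv.Perm (Fin 3), Function.Surjective φ ∧ Nat.card φ.ker = 64 ∧ ∀ x : φ.ker, x ^ 2 = 1 := by
  letI := prodAct (GL (Fin 3) (ZMod 2)) (Equiv.Perm (Fin 3)) (LSp (τG (Fin 3) (ZMod 2))) (Fin 3)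
  have CW := ((MG.gl32ch (exm2 (ZMod.card 2)) (ZMod.card 2)).prod Alt.s3ch prp)
  obtain ⟨φ, h1, h2, h3⟩ := ((trstd hC).surW CW ih is)
  have CK := (Ch.ker (h2.lets_ker CW.base CW.inj tnw tnk) (trstd hC).inj h3 tnc)
  exact ⟨φ, h1, CK.card.trans (by decide +kernel), CK.expo tnx⟩
noncomputable def x7 : ℕ := (nat_lit 0x52b1621a113c6b9112699cb0ba9d6)
noncomputable def m4t0 : ℕ := (nat_lit 0xbd8f45a22273da699532ab1411c080)
noncomputable def m4t1 : ℕ := (nat_lit 0xbd91431e212a9ab6393594de219200)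
noncomputable def m4t2 : ℕ := (nat_lit 0xbd854786279adaa73124814c81d640)
noncomputable def m4t3 : ℕ := (nat_lit 0xbd9540be26921a22552e2c0eb1b260)
noncomputable def m4t4 : ℕ := (nat_lit 0x1d97499228349a13c2eaa95ee4b040)
noncomputable def m4t5 : ℕ := (nat_lit 0x4d8f49ba2a291a2aa0705bcd2b8580)
noncomputable def m4t6 : ℕ := (nat_lit 0xadaf428e30689e75a54161a6493900)
noncomputable def m4t7 : ℕ := (nat_lit 0xbd9944c8ed1a21552e6e898a279020)
noncomputable def m4t8 : ℕ := (nat_lit 0x9d9c7bc8307d5ab608a4a19281aa20)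
noncomputable def m4t9 : ℕ := (nat_lit 0xb892c9ca2479db428ea67217055820)
noncomputable def m4t10 : ℕ := (nat_lit 0x31d058ba640c92a1b1b5b5e90581e2)
noncomputable def m4T : Tr ℕ := (.node (nat_lit 5) (.node (nat_lit 2) (.node (nat_lit 1) (.leaf m4t0) (.leaf m4t1)) (.node (nat_lit 3) (.leaf m4t2) (.node (nat_lit 4) (.leaf m4t3) (.leaf m4t4))))
 (.node (nat_lit 8) (.node (nat_lit 6) (.leaf m4t5) (.node (nat_lit 7) (.leaf m4t6) (.leaf m4t7))) (.node (nat_lit 9) (.leaf m4t8) (.node (nat_lit 10) (.leaf m4t9) (.leaf m4t10)))))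
noncomputable def m4L0 : Lev := ⟨(nat_lit 0), (nat_lit 11), (nat_lit 0x70a030a040509010b07080404090a06030401020a0b0500), (nat_lit 0x30202030303030203020302030203030303030203010200),
 (.leaf 0),
 (.leaf 0)⟩
noncomputable def m4L1 : Lev := ⟨(nat_lit 22), (nat_lit 10), (nat_lit 0x700030a040509010107080404090a06030401020a0a0500), (nat_lit 0x30002030303030203020302030203030303030203010200),
 (.leaf 0),
 (.leaf 0)⟩
noncomputable def m4L2 : Lev := ⟨(nat_lit 20), (nat_lit 9), (nat_lit 0x70001000702080304090807050409020904040607030300), (nat_lit 0x30002000302020203030302020303030103020303030300),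
 (.leaf 0),
 (.leaf 0)⟩
noncomputable def m4L3 : Lev := ⟨(nat_lit 17), (nat_lit 8), (nat_lit 0x70001000702000304050807050407020804040607030300), (nat_lit 0x30002000302000203030302020304030103020303030300),
 (.leaf 0),
 (.leaf 0)⟩
noncomputable def m4L4 : Lev := ⟨(nat_lit 13), (nat_lit 7), (nat_lit 0x50004000304000407010001030207040406020507070400), (nat_lit 0x40004000202000301020003030304030302020303030300),
 (.leaf 0),
 (.leaf 0)⟩
noncomputable def m4L5 : Lev := ⟨(nat_lit 3), (nat_lit 6), (nat_lit 0x50000000000000000000000000006000000000000000000), (nat_lit 0x10000000000000000000000000001000000000000000000),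
 (.leaf 0),
 (.leaf 0)⟩
noncomputable def m4L6 : Lev := ⟨(nat_lit 23), (nat_lit 4), (nat_lit 0x0), (nat_lit 0x0),
 (.leaf 0),
 (.leaf 0)⟩
noncomputable def m4L7 : Lev := ⟨(nat_lit 1), (nat_lit 4), (nat_lit 0x3000403000204040004040400030304040100020000), (nat_lit 0x3000101000102030003020400020202030100020000),
 (.leaf 0),
 (.leaf 0)⟩
noncomputable def m4L : List Lev := [m4L0, m4L1, m4L2, m4L3, m4L4, m4L5, m4L6, m4L7]
theorem m4c : band (m4T.all fun c => m24Chk (ap 5 31 c)) (band (tchainChk 24 5 31 m4T m4L) (Nat.ble 244823040 (chainOrd 24 m4L))) = true := by decide +kernel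
noncomputable def n7t0 : ℕ := (nat_lit 0xbd8b423a2c449b009d2f50ab319960)
noncomputable def n7t1 : ℕ := (nat_lit 0x1d2ad39af020acc93d3342caa885c0)
noncomputable def n7t2 : ℕ := (nat_lit 0x8b6b642c705068c311279c8afbb840)
noncomputable def n7t3 : ℕ := (nat_lit 0x920ac740d76816478ea2505343da33)
noncomputable def n7t4 : ℕ := (nat_lit 0x8092405c325cdf469cb61c6ac520ce)
noncomputable def n7T : Tr ℕ := (.node (nat_lit 2) (.node (nat_lit 1) (.leaf n7t0) (.leaf n7t1)) (.node (nat_lit 3) (.leaf n7t2) (.node (nat_lit 4) (.leaf n7t3) (.leaf n7t4))))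
noncomputable def n7L0 : Lev := ⟨(nat_lit 0), (nat_lit 5), (nat_lit 0x40500050501050502040404020300020303000104030200), (nat_lit 0x30300030102030303010403030300020203000203020200),
 (.leaf 0),
 (.leaf 0)⟩
noncomputable def n7L1 : Lev := ⟨(nat_lit 22), (nat_lit 3), (nat_lit 0x30000000000000200000000000000000000000000), (nat_lit 0x10000000000000100000000000000000000000000),
 (.leaf 0),
 (.leaf 0)⟩
noncomputable def n7L2 : Lev := ⟨(nat_lit 20), (nat_lit 1), (nat_lit 0x0), (nat_lit 0x0),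
 (.leaf 0),
 (.leaf 0)⟩
noncomputable def n7L3 : Lev := ⟨(nat_lit 17), (nat_lit 1), (nat_lit 0x0), (nat_lit 0x0),
 (.leaf 0),
 (.leaf 0)⟩
noncomputable def n7L4 : Lev := ⟨(nat_lit 13), (nat_lit 1), (nat_lit 0x0), (nat_lit 0x0),
 (.leaf 0),
 (.leaf 0)⟩
noncomputable def n7L5 : Lev := ⟨(nat_lit 3), (nat_lit 1), (nat_lit 0x0), (nat_lit 0x0),
 (.leaf 0),
 (.leaf 0)⟩
noncomputable def n7L6 : Lev := ⟨(nat_lit 23), (nat_lit 1), (nat_lit 0x0), (nat_lit 0x0),
 (.leaf 0),
 (.leaf 0)⟩
noncomputable def n7L7 : Lev := ⟨(nat_lit 1), (nat_lit 1), (nat_lit 0x10000000000000000000000), (nat_lit 0x10000000000000000000000),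
 (.leaf 0),
 (.leaf 0)⟩
noncomputable def n7L : List Lev := [n7L0, n7L1, n7L2, n7L3, n7L4, n7L5, n7L6, n7L7]
noncomputable def n7J : List Pr := (List.range 7).map fun j => prC (m4L.map Lev.b) [((ap 5 31 x7), itF (ap 5 31 x7) j)]
noncomputable def n7F0 : ℕ × ℕ := ((nat_lit 0xff0000000000000000000000ff000000ff0000000000), (nat_lit 0))
theorem n7b0 : allR 0 24 (ptB 24 (nat_lit 5) (nat_lit 31) m4T n7T n7J m4L0 [m4L1, m4L2, m4L3, m4L4, m4L5, m4L6, m4L7] n7L0 (dg []) n7F0.1 n7F0.2) = true := by decide +kernel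
noncomputable def n7F1 : ℕ × ℕ := ((nat_lit 0x200ff00ffffffffffff00ffffffffffffffffff01ffff00), (nat_lit 0x10000000000000000000000000000000000000001000000))
theorem n7b1 : allR 0 24 (ptB 24 (nat_lit 5) (nat_lit 31) m4T n7T n7J m4L1 [m4L2, m4L3, m4L4, m4L5, m4L6, m4L7] n7L1 (dg [m4L0.b]) n7F1.1 n7F1.2) = true := by decide +kernel
noncomputable def n7F2 : ℕ × ℕ := ((nat_lit 0xff00ff00ffffffffffffffffffffffffffffffffffffff00), (nat_lit 0))
theorem n7b2 : allR 0 24 (ptB 24 (nat_lit 5) (nat_lit 31) m4T n7T n7J m4L2 [m4L3, m4L4, m4L5, m4L6, m4L7] n7L2 (dg [m4L1.b, m4L0.b]) n7F2.1 n7F2.2) = true := by decide +kernel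
noncomputable def n7F3 : ℕ × ℕ := ((nat_lit 0xff00ff00ffff00ffffffffffffffffffffffffffffffff00), (nat_lit 0))
theorem n7b3 : allR 0 24 (ptB 24 (nat_lit 5) (nat_lit 31) m4T n7T n7J m4L3 [m4L4, m4L5, m4L6, m4L7] n7L3 (dg [m4L2.b, m4L1.b, m4L0.b]) n7F3.1 n7F3.2) = true := by decide +kernel
noncomputable def n7F4 : ℕ × ℕ := ((nat_lit 0xff00ff00ffff00ffffff00ffffffffffffffffffffffff00), (nat_lit 0))
theorem n7b4 : allR 0 24 (ptB 24 (nat_lit 5) (nat_lit 31) m4T n7T n7J m4L4 [m4L5, m4L6, m4L7] n7L4 (dg [m4L3.b, m4L2.b, m4L1.b, m4L0.b]) n7F4.1 n7F4.2) = true := by decide +kernel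
noncomputable def n7F5 : ℕ × ℕ := ((nat_lit 0xff00000000000000000000000000ff000000000000000000), (nat_lit 0))
theorem n7b5 : allR 0 24 (ptB 24 (nat_lit 5) (nat_lit 31) m4T n7T n7J m4L5 [m4L6, m4L7] n7L5 (dg [m4L4.b, m4L3.b, m4L2.b, m4L1.b, m4L0.b]) n7F5.1 n7F5.2) = true := by decide +kernel
noncomputable def n7F6 : ℕ × ℕ := ((nat_lit 0), (nat_lit 0))
theorem n7b6 : allR 0 24 (ptB 24 (nat_lit 5) (nat_lit 31) m4T n7T n7J m4L6 [m4L7] n7L6 (dg [m4L5.b, m4L4.b, m4L3.b, m4L2.b, m4L1.b, m4L0.b]) n7F6.1 n7F6.2) = true := by decide +kernel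
noncomputable def n7F7 : ℕ × ℕ := ((nat_lit 0xff00ffff00ffffff00ff00ff00ffffffffff00ff0000), (nat_lit 0))
theorem n7b7 : allR 0 24 (ptB 24 (nat_lit 5) (nat_lit 31) m4T n7T n7J m4L7 [] n7L7 (dg [m4L6.b, m4L5.b, m4L4.b, m4L3.b, m4L2.b, m4L1.b, m4L0.b]) n7F7.1 n7F7.2) = true := by decide +kernel
theorem n7bk : Bk 24 (nat_lit 5) (nat_lit 31) m4T n7T n7J m4L n7L [n7F0, n7F1, n7F2, n7F3, n7F4, n7F5, n7F6, n7F7] [] :=
  ⟨rfl, n7b0, rfl, n7b1, rfl, n7b2, rfl, n7b3, rfl, n7b4, rfl, n7b5, rfl, n7b6, rfl, n7b7, trivial⟩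
theorem n7tc : tchainChk 24 (nat_lit 5) (nat_lit 31) n7T n7L = true := by decide +kernel
theorem n7m : n7T.all (fun c => anyB 7 fun j => eqB (m4L.map Lev.b) (fun a => ap 5 31 c ((ap 5 31 x7) a)) fun a => itF (ap 5 31 x7) j (ap 5 31 c a)) = true := by decide +kernel
theorem n7l : n7T.all (fun c => m24Chk (ap 5 31 c)) = true := by decide +kernel
theorem n7ch {C : H7.Coding GolayPt} (hC : GC C) {x : M24} (r : RepF 24 C.dec (ap 5 31 x7) x) (h : orderOf x = 7) : Ch (normalizer (zpowers x : Set M24)) 24 5 31 C.dec n7T n7L :=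
  have A := hC.ch m4c
  A.sub _ (snd_norm A r h.le) (lets_chk (hC.lets n7l) _ _ (norm_chk A r 7) n7m) n7tc n7bk
noncomputable def c7t0 : ℕ := (nat_lit 0xbd8b423a2c449b009d2f50ab319960)
noncomputable def c7t1 : ℕ := (nat_lit 0x8392f0444b32156a4cadb8eac21e41)
noncomputable def c7t2 : ℕ := (nat_lit 0x3b0ab50657a5904836ae13d2334413)
noncomputable def c7T : Tr ℕ := (.node (nat_lit 1) (.leaf c7t0) (.node (nat_lit 2) (.leaf c7t1) (.leaf c7t2)))
noncomputable def c7L0 : Lev := ⟨(nat_lit 0), (nat_lit 3), (nat_lit 0x30300030203030203010203010200020102000102020300), (nat_lit 0x40400030102030304030303020200040304000203040100),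
 (.leaf 0),
 (.leaf 0)⟩
noncomputable def c7L1 : Lev := ⟨(nat_lit 22), (nat_lit 1), (nat_lit 0x0), (nat_lit 0x0),
 (.leaf 0),
 (.leaf 0)⟩
noncomputable def c7L2 : Lev := ⟨(nat_lit 20), (nat_lit 1), (nat_lit 0x0), (nat_lit 0x0),
 (.leaf 0),
 (.leaf 0)⟩
noncomputable def c7L3 : Lev := ⟨(nat_lit 17), (nat_lit 1), (nat_lit 0x0), (nat_lit 0x0),
 (.leaf 0),
 (.leaf 0)⟩
noncomputable def c7L4 : Lev := ⟨(nat_lit 13), (nat_lit 1), (nat_lit 0x0), (nat_lit 0x0),
 (.leaf 0),
 (.leaf 0)⟩
noncomputable def c7L5 : Lev := ⟨(nat_lit 3), (nat_lit 1), (nat_lit 0x0), (nat_lit 0x0),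
 (.leaf 0),
 (.leaf 0)⟩
noncomputable def c7L6 : Lev := ⟨(nat_lit 23), (nat_lit 1), (nat_lit 0x0), (nat_lit 0x0),
 (.leaf 0),
 (.leaf 0)⟩
noncomputable def c7L7 : Lev := ⟨(nat_lit 1), (nat_lit 1), (nat_lit 0x10000000000000000000000), (nat_lit 0x10000000000000000000000),
 (.leaf 0),
 (.leaf 0)⟩
noncomputable def c7L : List Lev := [c7L0, c7L1, c7L2, c7L3, c7L4, c7L5, c7L6, c7L7]
noncomputable def c7J : List Pr := [(prC (m4L.map Lev.b) [((ap 5 31 x7), (ap 5 31 x7))])]
noncomputable def c7F0 : ℕ × ℕ := ((nat_lit 0xff0000000000000000000000ff000000ff0000000000), (nat_lit 0))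
theorem c7b0 : allR 0 24 (ptB 24 (nat_lit 5) (nat_lit 31) m4T c7T c7J m4L0 [m4L1, m4L2, m4L3, m4L4, m4L5, m4L6, m4L7] c7L0 (dg []) c7F0.1 c7F0.2) = true := by decide +kernel
noncomputable def c7F1 : ℕ × ℕ := ((nat_lit 0xff00ffffffffffffffffffffffffffffffffffffffffff00), (nat_lit 0))
theorem c7b1 : allR 0 24 (ptB 24 (nat_lit 5) (nat_lit 31) m4T c7T c7J m4L1 [m4L2, m4L3, m4L4, m4L5, m4L6, m4L7] c7L1 (dg [m4L0.b]) c7F1.1 c7F1.2) = true := by decide +kernel
noncomputable def c7F2 : ℕ × ℕ := ((nat_lit 0xff00ff00ffffffffffffffffffffffffffffffffffffff00), (nat_lit 0))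
theorem c7b2 : allR 0 24 (ptB 24 (nat_lit 5) (nat_lit 31) m4T c7T c7J m4L2 [m4L3, m4L4, m4L5, m4L6, m4L7] c7L2 (dg [m4L1.b, m4L0.b]) c7F2.1 c7F2.2) = true := by decide +kernel
noncomputable def c7F3 : ℕ × ℕ := ((nat_lit 0xff00ff00ffff00ffffffffffffffffffffffffffffffff00), (nat_lit 0))
theorem c7b3 : allR 0 24 (ptB 24 (nat_lit 5) (nat_lit 31) m4T c7T c7J m4L3 [m4L4, m4L5, m4L6, m4L7] c7L3 (dg [m4L2.b, m4L1.b, m4L0.b]) c7F3.1 c7F3.2) = true := by decide +kernel
noncomputable def c7F4 : ℕ × ℕ := ((nat_lit 0xff00ff00ffff00ffffff00ffffffffffffffffffffffff00), (nat_lit 0))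
theorem c7b4 : allR 0 24 (ptB 24 (nat_lit 5) (nat_lit 31) m4T c7T c7J m4L4 [m4L5, m4L6, m4L7] c7L4 (dg [m4L3.b, m4L2.b, m4L1.b, m4L0.b]) c7F4.1 c7F4.2) = true := by decide +kernel
noncomputable def c7F5 : ℕ × ℕ := ((nat_lit 0xff00000000000000000000000000ff000000000000000000), (nat_lit 0))
theorem c7b5 : allR 0 24 (ptB 24 (nat_lit 5) (nat_lit 31) m4T c7T c7J m4L5 [m4L6, m4L7] c7L5 (dg [m4L4.b, m4L3.b, m4L2.b, m4L1.b, m4L0.b]) c7F5.1 c7F5.2) = true := by decide +kernel
noncomputable def c7F6 : ℕ × ℕ := ((nat_lit 0), (nat_lit 0))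
theorem c7b6 : allR 0 24 (ptB 24 (nat_lit 5) (nat_lit 31) m4T c7T c7J m4L6 [m4L7] c7L6 (dg [m4L5.b, m4L4.b, m4L3.b, m4L2.b, m4L1.b, m4L0.b]) c7F6.1 c7F6.2) = true := by decide +kernel
noncomputable def c7F7 : ℕ × ℕ := ((nat_lit 0xff00ffff00ffffff00ff00ff00ffffffffff00ff0000), (nat_lit 0))
theorem c7b7 : allR 0 24 (ptB 24 (nat_lit 5) (nat_lit 31) m4T c7T c7J m4L7 [] c7L7 (dg [m4L6.b, m4L5.b, m4L4.b, m4L3.b, m4L2.b, m4L1.b, m4L0.b]) c7F7.1 c7F7.2) = true := by decide +kernel
theorem c7bk : Bk 24 (nat_lit 5) (nat_lit 31) m4T c7T c7J m4L c7L [c7F0, c7F1, c7F2, c7F3, c7F4, c7F5, c7F6, c7F7] [] :=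
  ⟨rfl, c7b0, rfl, c7b1, rfl, c7b2, rfl, c7b3, rfl, c7b4, rfl, c7b5, rfl, c7b6, rfl, c7b7, trivial⟩
theorem c7tc : tchainChk 24 (nat_lit 5) (nat_lit 31) c7T c7L = true := by decide +kernel
theorem c7m : c7T.all (fun c => eqB (m4L.map Lev.b) (fun a => ap 5 31 c ((ap 5 31 x7) a)) fun a => (ap 5 31 x7) (ap 5 31 c a)) = true := by decide +kernel
theorem c7l : c7T.all (fun c => m24Chk (ap 5 31 c)) = true := by decide +kernel
theorem c7ch {C : H7.Coding GolayPt} (hC : GC C) {x : M24} (r : RepF 24 C.dec (ap 5 31 x7) x) : Ch (centralizer {x}) 24 5 31 C.dec c7T c7L :=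
  have A := hC.ch m4c
  A.sub _ (snd_cent A r) (lets_chk (hC.lets c7l) _ _ (cent_chk A r) c7m) c7tc c7bk
abbrev t7 : List ℕ := [115766, 2890176, 13771273]
theorem n7t : n7T.all (fun c => fxF 24 t7 (ap 5 31 c)) = true := by decide +kernel
theorem c7n : bnot (eqB (c7L.map Lev.b) (apL 5 31 c7T [1, 0]) (apL 5 31 c7T [0, 1])) = true := by decide +kernel
noncomputable def m5t0 : ℕ := (nat_lit 0xba6a49c64a6a1e51c2ce3999458820)
noncomputable def m5t1 : ℕ := (nat_lit 0xbbaab9bda595a2aa310939a0320820)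
noncomputable def m5t2 : ℕ := (nat_lit 0xbb2b1992881a9766b8b03993278820)
noncomputable def m5t3 : ℕ := (nat_lit 0xbc6ac9a6c3435d452e4f3988580820)
noncomputable def m5t4 : ℕ := (nat_lit 0x352a9bc1e8595ca88ed23cda460820)
noncomputable def m5t5 : ℕ := (nat_lit 0x9a6b6321728b4a37b2903ddc450820)
noncomputable def m5t6 : ℕ := (nat_lit 0x546a5792c29b8c95dd883b6921c020)
noncomputable def m5t7 : ℕ := (nat_lit 0x5daa260e2f839b3b9ca45192895020)
noncomputable def m5t8 : ℕ := (nat_lit 0x752b699c2d25e0c5a546920af18a20)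
noncomputable def m5t9 : ℕ := (nat_lit 0xd9549c9e28b9a71d509614c45c2e0)
noncomputable def m5t10 : ℕ := (nat_lit 0xca209daa8539ac5bc50394c41a6f4)
noncomputable def m5T : Tr ℕ := (.node (nat_lit 5) (.node (nat_lit 2) (.node (nat_lit 1) (.leaf m5t0) (.leaf m5t1)) (.node (nat_lit 3) (.leaf m5t2) (.node (nat_lit 4) (.leaf m5t3) (.leaf m5t4))))
 (.node (nat_lit 8) (.node (nat_lit 6) (.leaf m5t5) (.node (nat_lit 7) (.leaf m5t6) (.leaf m5t7))) (.node (nat_lit 9) (.leaf m5t8) (.node (nat_lit 10) (.leaf m5t9) (.leaf m5t10)))))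
noncomputable def m5L0 : Lev := ⟨(nat_lit 0), (nat_lit 11), (nat_lit 0x8050b0b0803030209020304020406080a0a070102080900), (nat_lit 0x30203010303020303030302020302030303020203020300),
 (.leaf 0),
 (.leaf 0)⟩
noncomputable def m5L1 : Lev := ⟨(nat_lit 21), (nat_lit 10), (nat_lit 0x70300040805060108030902040a09030806020206070a00), (nat_lit 0x20300030303030203020302020102030203030302030300),
 (.leaf 0),
 (.leaf 0)⟩
noncomputable def m5L2 : Lev := ⟨(nat_lit 1), (nat_lit 9), (nat_lit 0x80400030701090606040204050404050907050308080000), (nat_lit 0x30200020302010302030203020303030303030303030000),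
 (.leaf 0),
 (.leaf 0)⟩
noncomputable def m5L3 : Lev := ⟨(nat_lit 7), (nat_lit 8), (nat_lit 0x70300040805060108030402040807030006020206070000), (nat_lit 0x20300030303030203020302020103030003030302030000),
 (.leaf 0),
 (.leaf 0)⟩
noncomputable def m5L4 : Lev := ⟨(nat_lit 2), (nat_lit 7), (nat_lit 0x70300070505010704030602040103030006020404000000), (nat_lit 0x30400030402030103030303030203020004020302000000),
 (.leaf 0),
 (.leaf 0)⟩
noncomputable def m5L5 : Lev := ⟨(nat_lit 23), (nat_lit 6), (nat_lit 0x500000000000000000000000006000000000000), (nat_lit 0x100000000000000000000000001000000000000),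
 (.leaf 0),
 (.leaf 0)⟩
noncomputable def m5L6 : Lev := ⟨(nat_lit 3), (nat_lit 4), (nat_lit 0x400020003030403040304010404040000040200000000), (nat_lit 0x400020002030101030203010203020000020100000000),
 (.leaf 0),
 (.leaf 0)⟩
noncomputable def m5L : List Lev := [m5L0, m5L1, m5L2, m5L3, m5L4, m5L5, m5L6]
theorem m5c : band (m5T.all fun c => m24Chk (ap 5 31 c)) (band (tchainChk 24 5 31 m5T m5L) (Nat.ble 244823040 (chainOrd 24 m5L))) = true := by decide +kernel
noncomputable def cbt0 : ℕ := (nat_lit 0xbbaab9bda595a2aa310939a0320820)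
noncomputable def cbt1 : ℕ := (nat_lit 0xba6a49c64a6a1e51c2ce3999458820)
noncomputable def cbt2 : ℕ := (nat_lit 0xb92a99b0ad50e1243e8b39a3670820)
noncomputable def cbt3 : ℕ := (nat_lit 0x95ab465c435a9137b92d394c484420)
noncomputable def cbt4 : ℕ := (nat_lit 0x64ea28b5f4b0c8a5a6e80ca06714e0)
noncomputable def cbt5 : ℕ := (nat_lit 0x4beb0b1a6588e575b1480904d750e0)
noncomputable def cbt6 : ℕ := (nat_lit 0x7d91454a26b844c04d351c0a43b5cb)
noncomputable def cbT : Tr ℕ := (.node (nat_lit 3) (.node (nat_lit 1) (.leaf cbt0) (.node (nat_lit 2) (.leaf cbt1) (.leaf cbt2)))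
 (.node (nat_lit 5) (.node (nat_lit 4) (.leaf cbt3) (.leaf cbt4)) (.node (nat_lit 6) (.leaf cbt5) (.leaf cbt6))))
noncomputable def cbL0 : Lev := ⟨(nat_lit 0), (nat_lit 7), (nat_lit 0x70607010701050504030403070303030706010202060700), (nat_lit 0x30303020403030302030304010303020304040302030400),
 (.leaf 0),
 (.leaf 0)⟩
noncomputable def cbL1 : Lev := ⟨(nat_lit 21), (nat_lit 6), (nat_lit 0x0), (nat_lit 0x0),
 (.leaf 0),
 (.leaf 0)⟩
noncomputable def cbL2 : Lev := ⟨(nat_lit 1), (nat_lit 6), (nat_lit 0x500000000000000), (nat_lit 0x100000000000000),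
 (.leaf 0),
 (.leaf 0)⟩
noncomputable def cbL3 : Lev := ⟨(nat_lit 7), (nat_lit 4), (nat_lit 0x0), (nat_lit 0x0),
 (.leaf 0),
 (.leaf 0)⟩
noncomputable def cbL4 : Lev := ⟨(nat_lit 2), (nat_lit 4), (nat_lit 0x40200010402040302020103040301040004030104000000), (nat_lit 0x30500050402010303040203040404030003020504000000),
 (.leaf 0),
 (.leaf 0)⟩
noncomputable def cbL5 : Lev := ⟨(nat_lit 23), (nat_lit 3), (nat_lit 0x0), (nat_lit 0x0),
 (.leaf 0),
 (.leaf 0)⟩
noncomputable def cbL6 : Lev := ⟨(nat_lit 3), (nat_lit 3), (nat_lit 0x300020000000000030000020003030000000100000000), (nat_lit 0x200020000000000010000010003020000000100000000),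
 (.leaf 0),
 (.leaf 0)⟩
noncomputable def cbL : List Lev := [cbL0, cbL1, cbL2, cbL3, cbL4, cbL5, cbL6]
noncomputable def cbJ : List Pr := [(prC (m5L.map Lev.b) [(z2b, z2b)])]
noncomputable def cbF0 : ℕ × ℕ := ((nat_lit 0), (nat_lit 0))
theorem cbb0 : allR 0 24 (ptB 24 (nat_lit 5) (nat_lit 31) m5T cbT cbJ m5L0 [m5L1, m5L2, m5L3, m5L4, m5L5, m5L6] cbL0 (dg []) cbF0.1 cbF0.2) = true := by decide +kernel
noncomputable def cbF1 : ℕ × ℕ := ((nat_lit 0xffff00ffffffffffffffffffffffffffffffffffffffff00), (nat_lit 0))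
theorem cbb1 : allR 0 24 (ptB 24 (nat_lit 5) (nat_lit 31) m5T cbT cbJ m5L1 [m5L2, m5L3, m5L4, m5L5, m5L6] cbL1 (dg [m5L0.b]) cbF1.1 cbF1.2) = true := by decide +kernel
noncomputable def cbF2 : ℕ × ℕ := ((nat_lit 0x3050005040400020101ff02030200030004020503030000), (nat_lit 0x20200020201010101020002020202010002020102020000))
theorem cbb2 : allR 0 24 (ptB 24 (nat_lit 5) (nat_lit 31) m5T cbT cbJ m5L2 [m5L3, m5L4, m5L5, m5L6] cbL2 (dg [m5L1.b, m5L0.b]) cbF2.1 cbF2.2) = true := by decide +kernel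
noncomputable def cbF3 : ℕ × ℕ := ((nat_lit 0xffff00ffffffffffffffffffffffffff00ffffffffff0000), (nat_lit 0))
theorem cbb3 : allR 0 24 (ptB 24 (nat_lit 5) (nat_lit 31) m5T cbT cbJ m5L3 [m5L4, m5L5, m5L6] cbL3 (dg [m5L2.b, m5L1.b, m5L0.b]) cbF3.1 cbF3.2) = true := by decide +kernel
noncomputable def cbF4 : ℕ × ℕ := ((nat_lit 0), (nat_lit 0))
theorem cbb4 : allR 0 24 (ptB 24 (nat_lit 5) (nat_lit 31) m5T cbT cbJ m5L4 [m5L5, m5L6] cbL4 (dg [m5L3.b, m5L2.b, m5L1.b, m5L0.b]) cbF4.1 cbF4.2) = true := by decide +kernel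
noncomputable def cbF5 : ℕ × ℕ := ((nat_lit 0xff000000000000000000000000ff000000000000), (nat_lit 0))
theorem cbb5 : allR 0 24 (ptB 24 (nat_lit 5) (nat_lit 31) m5T cbT cbJ m5L5 [m5L6] cbL5 (dg [m5L4.b, m5L3.b, m5L2.b, m5L1.b, m5L0.b]) cbF5.1 cbF5.2) = true := by decide +kernel
noncomputable def cbF6 : ℕ × ℕ := ((nat_lit 0xffffffff00ffff00ff00000000ff0000000000), (nat_lit 0))
theorem cbb6 : allR 0 24 (ptB 24 (nat_lit 5) (nat_lit 31) m5T cbT cbJ m5L6 [] cbL6 (dg [m5L5.b, m5L4.b, m5L3.b, m5L2.b, m5L1.b, m5L0.b]) cbF6.1 cbF6.2) = true := by decide +kernel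
theorem cbbk : Bk 24 (nat_lit 5) (nat_lit 31) m5T cbT cbJ m5L cbL [cbF0, cbF1, cbF2, cbF3, cbF4, cbF5, cbF6] [] :=
  ⟨rfl, cbb0, rfl, cbb1, rfl, cbb2, rfl, cbb3, rfl, cbb4, rfl, cbb5, rfl, cbb6, trivial⟩
theorem cbtc : tchainChk 24 (nat_lit 5) (nat_lit 31) cbT cbL = true := by decide +kernel
theorem cbm : cbT.all (fun c => eqB (m5L.map Lev.b) (fun a => ap 5 31 c (z2b a)) fun a => z2b (ap 5 31 c a)) = true := by decide +kernel
theorem cbl : cbT.all (fun c => m24Chk (ap 5 31 c)) = true := by decide +kernel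
theorem cbch {C : H7.Coding GolayPt} (hC : GC C) {x : M24} (r : RepF 24 C.dec z2b x) : Ch (centralizer {x}) 24 5 31 C.dec cbT cbL :=
  have A := hC.ch m5c
  A.sub _ (snd_cent A r) (lets_chk (hC.lets cbl) _ _ (cent_chk A r) cbm) cbtc cbbk
theorem cbm1 : mvChk 24 ([0].map fun b => (H7.ones 24, b)) cbL [] = true := by decide +kernel
abbrev sb : List ℕ := [18696, 107520, 397344, 2097283, 5243408, 8912964]
theorem cbs : cbT.all (fun c => fxF 24 sb (ap 5 31 c)) = true := by decide +kernel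
noncomputable def m6t0 : ℕ := (nat_lit 0xb5d251ca304308e3aaaf59a8d98820)
noncomputable def m6t1 : ℕ := (nat_lit 0x73093a4a305dd367a9a74187528820)
noncomputable def m6t2 : ℕ := (nat_lit 0xa151774a304cd636a9f521ac760820)
noncomputable def m6t3 : ℕ := (nat_lit 0x59c6d4ca3073e88baa6cb1885a8820)
noncomputable def m6t4 : ℕ := (nat_lit 0x1ddab9ca01a1ca97a90c21aaeb0a20)
noncomputable def m6t5 : ℕ := (nat_lit 0xb0caf9c831592a8a2989719a7b8a00)
noncomputable def m6t6 : ℕ := (nat_lit 0xa9ee65c985785b19a868b5204489c0)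
noncomputable def m6t7 : ℕ := (nat_lit 0xbd23684ab37a44c1a9c4398285b4a0)
noncomputable def m6t8 : ℕ := (nat_lit 0x9ca294e2e7c1a45a923b1aac452e0)
noncomputable def m6t9 : ℕ := (nat_lit 0x552b69b8455c9ac7dce848e0434420)
noncomputable def m6t10 : ℕ := (nat_lit 0x4418e128f60d0d5048978b4692cdeb)
noncomputable def m6T : Tr ℕ := (.node (nat_lit 5) (.node (nat_lit 2) (.node (nat_lit 1) (.leaf m6t0) (.leaf m6t1)) (.node (nat_lit 3) (.leaf m6t2) (.node (nat_lit 4) (.leaf m6t3) (.leaf m6t4))))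
 (.node (nat_lit 8) (.node (nat_lit 6) (.leaf m6t5) (.node (nat_lit 7) (.leaf m6t6) (.leaf m6t7))) (.node (nat_lit 9) (.leaf m6t8) (.node (nat_lit 10) (.leaf m6t9) (.leaf m6t10)))))
noncomputable def m6L0 : Lev := ⟨(nat_lit 0), (nat_lit 11), (nat_lit 0x404050507090b08020503030b0a0a02010b060308080b00), (nat_lit 0x20303020203030302030203010303030203030302030300),
 (.leaf 0),
 (.leaf 0)⟩
noncomputable def m6L1 : Lev := ⟨(nat_lit 10), (nat_lit 10), (nat_lit 0xa010703030a080904020402040008090407030506090900), (nat_lit 0x10202020303030303020303020003030303030302030200),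
 (.leaf 0),
 (.leaf 0)⟩
noncomputable def m6L2 : Lev := ⟨(nat_lit 18), (nat_lit 9), (nat_lit 0x50604020900050805030403070004090607020501090700), (nat_lit 0x30303020100030203020303020002030303030302030300),
 (.leaf 0),
 (.leaf 0)⟩
noncomputable def m6L3 : Lev := ⟨(nat_lit 2), (nat_lit 8), (nat_lit 0x40805040400080703060805030002080307060107000800), (nat_lit 0x30302020300030303030103020002030303020203000300),
 (.leaf 0),
 (.leaf 0)⟩
noncomputable def m6L4 : Lev := ⟨(nat_lit 6), (nat_lit 7), (nat_lit 0x30306070200050705030403060004010100010402000600), (nat_lit 0x20303010200040302030204020003030300020303000400),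
 (.leaf 0),
 (.leaf 0)⟩
noncomputable def m6L5 : Lev := ⟨(nat_lit 16), (nat_lit 6), (nat_lit 0x50000000000000000000000000000000600), (nat_lit 0x10000000000000000000000000000000100),
 (.leaf 0),
 (.leaf 0)⟩
noncomputable def m6L6 : Lev := ⟨(nat_lit 4), (nat_lit 4), (nat_lit 0x40402040400000003040104030002030300040004000000), (nat_lit 0x30201020300000003040103020002020100010002000000),
 (.leaf 0),
 (.leaf 0)⟩
noncomputable def m6L : List Lev := [m6L0, m6L1, m6L2, m6L3, m6L4, m6L5, m6L6]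
theorem m6c : band (m6T.all fun c => m24Chk (ap 5 31 c)) (band (tchainChk 24 5 31 m6T m6L) (Nat.ble 244823040 (chainOrd 24 m6L))) = true := by decide +kernel
noncomputable def c3at0 : ℕ := (nat_lit 0x43e9524a30b1c6b628b77193368820)
noncomputable def c3at1 : ℕ := (nat_lit 0x4d6cf5ca30a35c49aae51990c38820)
noncomputable def c3at2 : ℕ := (nat_lit 0x5d8b0348f420dacba9228ceaf72020)
noncomputable def c3at3 : ℕ := (nat_lit 0xb96aa022306386f4d17209ac4688f3)
noncomputable def c3aT : Tr ℕ := (.node (nat_lit 2) (.node (nat_lit 1) (.leaf c3at0) (.leaf c3at1)) (.node (nat_lit 3) (.leaf c3at2) (.leaf c3at3)))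
noncomputable def c3aL0 : Lev := ⟨(nat_lit 0), (nat_lit 4), (nat_lit 0x30102020404000303000002020404010003010100030000), (nat_lit 0x30405040105000503000003020503040002040200050000),
 (.leaf 0),
 (.leaf 0)⟩
noncomputable def c3aL1 : Lev := ⟨(nat_lit 10), (nat_lit 3), (nat_lit 0x0), (nat_lit 0x0),
 (.leaf 0),
 (.leaf 0)⟩
noncomputable def c3aL2 : Lev := ⟨(nat_lit 18), (nat_lit 3), (nat_lit 0x0), (nat_lit 0x0),
 (.leaf 0),
 (.leaf 0)⟩
noncomputable def c3aL3 : Lev := ⟨(nat_lit 2), (nat_lit 3), (nat_lit 0x10203010200000302000001030002030003020200000000), (nat_lit 0x20403040400000505000004030003010005020500000000),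
 (.leaf 0),
 (.leaf 0)⟩
noncomputable def c3aL4 : Lev := ⟨(nat_lit 6), (nat_lit 2), (nat_lit 0x0), (nat_lit 0x0),
 (.leaf 0),
 (.leaf 0)⟩
noncomputable def c3aL5 : Lev := ⟨(nat_lit 16), (nat_lit 2), (nat_lit 0x0), (nat_lit 0x0),
 (.leaf 0),
 (.leaf 0)⟩
noncomputable def c3aL6 : Lev := ⟨(nat_lit 4), (nat_lit 2), (nat_lit 0x100000000000002020000000000000000000000), (nat_lit 0x100000000000001020000000000000000000000),
 (.leaf 0),
 (.leaf 0)⟩
noncomputable def c3aL : List Lev := [c3aL0, c3aL1, c3aL2, c3aL3, c3aL4, c3aL5, c3aL6]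
noncomputable def c3aJ : List Pr := [(prC (m6L.map Lev.b) [(z3a, z3a)])]
noncomputable def c3aF0 : ℕ × ℕ := ((nat_lit 0xff0000ffff0000000000ff000000ff00ff00), (nat_lit 0))
theorem c3ab0 : allR 0 24 (ptB 24 (nat_lit 5) (nat_lit 31) m6T c3aT c3aJ m6L0 [m6L1, m6L2, m6L3, m6L4, m6L5, m6L6] c3aL0 (dg []) c3aF0.1 c3aF0.2) = true := by decide +kernel
noncomputable def c3aF1 : ℕ × ℕ := ((nat_lit 0xffffffffffffffffffffffffff00ffffffffffffffffff00), (nat_lit 0))
theorem c3ab1 : allR 0 24 (ptB 24 (nat_lit 5) (nat_lit 31) m6T c3aT c3aJ m6L1 [m6L2, m6L3, m6L4, m6L5, m6L6] c3aL1 (dg [m6L0.b]) c3aF1.1 c3aF1.2) = true := by decide +kernel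
noncomputable def c3aF2 : ℕ × ℕ := ((nat_lit 0xffffffffff00ffffffffffffff00ffffffffffffffffff00), (nat_lit 0))
theorem c3ab2 : allR 0 24 (ptB 24 (nat_lit 5) (nat_lit 31) m6T c3aT c3aJ m6L2 [m6L3, m6L4, m6L5, m6L6] c3aL2 (dg [m6L1.b, m6L0.b]) c3aF2.1 c3aF2.2) = true := by decide +kernel
noncomputable def c3aF3 : ℕ × ℕ := ((nat_lit 0xff0000ffff0000000000ff000000ff00ff00), (nat_lit 0))
theorem c3ab3 : allR 0 24 (ptB 24 (nat_lit 5) (nat_lit 31) m6T c3aT c3aJ m6L3 [m6L4, m6L5, m6L6] c3aL3 (dg [m6L2.b, m6L1.b, m6L0.b]) c3aF3.1 c3aF3.2) = true := by decide +kernel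
noncomputable def c3aF4 : ℕ × ℕ := ((nat_lit 0xffffffffff00ffffffffffffff00ffffff00ffffff00ff00), (nat_lit 0))
theorem c3ab4 : allR 0 24 (ptB 24 (nat_lit 5) (nat_lit 31) m6T c3aT c3aJ m6L4 [m6L5, m6L6] c3aL4 (dg [m6L3.b, m6L2.b, m6L1.b, m6L0.b]) c3aF4.1 c3aF4.2) = true := by decide +kernel
noncomputable def c3aF5 : ℕ × ℕ := ((nat_lit 0xff000000000000000000000000000000ff00), (nat_lit 0))
theorem c3ab5 : allR 0 24 (ptB 24 (nat_lit 5) (nat_lit 31) m6T c3aT c3aJ m6L5 [m6L6] c3aL5 (dg [m6L4.b, m6L3.b, m6L2.b, m6L1.b, m6L0.b]) c3aF5.1 c3aF5.2) = true := by decide +kernel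
noncomputable def c3aF6 : ℕ × ℕ := ((nat_lit 0xffffffff00000000ffffff000000ffffff00ff00ff000000), (nat_lit 0))
theorem c3ab6 : allR 0 24 (ptB 24 (nat_lit 5) (nat_lit 31) m6T c3aT c3aJ m6L6 [] c3aL6 (dg [m6L5.b, m6L4.b, m6L3.b, m6L2.b, m6L1.b, m6L0.b]) c3aF6.1 c3aF6.2) = true := by decide +kernel
theorem c3abk : Bk 24 (nat_lit 5) (nat_lit 31) m6T c3aT c3aJ m6L c3aL [c3aF0, c3aF1, c3aF2, c3aF3, c3aF4, c3aF5, c3aF6] [] :=
  ⟨rfl, c3ab0, rfl, c3ab1, rfl, c3ab2, rfl, c3ab3, rfl, c3ab4, rfl, c3ab5, rfl, c3ab6, trivial⟩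
theorem c3atc : tchainChk 24 (nat_lit 5) (nat_lit 31) c3aT c3aL = true := by decide +kernel
theorem c3am : c3aT.all (fun c => eqB (m6L.map Lev.b) (fun a => ap 5 31 c (z3a a)) fun a => z3a (ap 5 31 c a)) = true := by decide +kernel
theorem c3al : c3aT.all (fun c => m24Chk (ap 5 31 c)) = true := by decide +kernel
theorem c3ach {C : H7.Coding GolayPt} (hC : GC C) {x : M24} (r : RepF 24 C.dec z3a x) : Ch (centralizer {x}) 24 5 31 C.dec c3aT c3aL :=
  have A := hC.ch m6c
  A.sub _ (snd_cent A r) (lets_chk (hC.lets c3al) _ _ (cent_chk A r) c3am) c3atc c3abk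
noncomputable def d3at0 : ℕ := (nat_lit 0x482d3412302b4327dd543996c189d5)
noncomputable def d3at1 : ℕ := (nat_lit 0x55408a3230585c42a6f3399f2189b6)
noncomputable def d3at2 : ℕ := (nat_lit 0x224c4d630784f459276698aa189d7)
noncomputable def d3at3 : ℕ := (nat_lit 0x4d6d49882a7b5c45c2e8380ac1ca26)
noncomputable def d3at4 : ℕ := (nat_lit 0xbdaa612ce8039ac915308d1440cc6f)
noncomputable def d3aT : Tr ℕ := (.node (nat_lit 2) (.node (nat_lit 1) (.leaf d3at0) (.leaf d3at1)) (.node (nat_lit 3) (.leaf d3at2) (.node (nat_lit 4) (.leaf d3at3) (.leaf d3at4))))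
noncomputable def d3aL0 : Lev := ⟨(nat_lit 3), (nat_lit 5), (nat_lit 0x40000020100000000000300000000000500), (nat_lit 0x20000020200000000000300000000000100),
 (.leaf 0),
 (.leaf 0)⟩
noncomputable def d3aL1 : Lev := ⟨(nat_lit 2), (nat_lit 4), (nat_lit 0x20203030204000400000001000301010004000200000001), (nat_lit 0x40302030401000400000002000304040004000200000003),
 (.leaf 0),
 (.leaf 0)⟩
noncomputable def d3aL2 : Lev := ⟨(nat_lit 0), (nat_lit 3), (nat_lit 0x30102020103000000000001000102030000000200000000), (nat_lit 0x10101030302000000000003000202020000000300000000),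
 (.leaf 0),
 (.leaf 0)⟩
noncomputable def d3aL : List Lev := [d3aL0, d3aL1, d3aL2]
noncomputable def d3aE : Tr (List ℕ) := (.node (nat_lit 2) (.node (nat_lit 1) (.leaf [nat_lit 1, nat_lit 0, nat_lit 2, nat_lit 0, nat_lit 3, nat_lit 0, nat_lit 2, nat_lit 0]) (.leaf [nat_lit 0, nat_lit 2, nat_lit 0, nat_lit 3, nat_lit 0, nat_lit 2, nat_lit 1, nat_lit 0])) (.node (nat_lit 3) (.leaf [nat_lit 2, nat_lit 1, nat_lit 3, nat_lit 1, nat_lit 2, nat_lit 1, nat_lit 2, nat_lit 1]) (.node (nat_lit 4) (.leaf [nat_lit 2, nat_lit 3, nat_lit 2]) (.leaf [nat_lit 2, nat_lit 0, nat_lit 3, nat_lit 2, nat_lit 1, nat_lit 2, nat_lit 0, nat_lit 2]))))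
theorem d3aw_0 : d3aT.all2 (fun c w => isProd 24 (nat_lit 5) (nat_lit 31) c3aT c w) d3aE = true := by decide +kernel
theorem d3aw : d3aT.all2 (fun c w => isProd 24 (nat_lit 5) (nat_lit 31) c3aT c w) d3aE = true := d3aw_0
theorem d3ac : band (tchainChk 24 (nat_lit 5) (nat_lit 31) d3aT d3aL) (Nat.ble (chainOrd 24 c3aL) (chainOrd 24 d3aL)) = true := by decide +kernel
theorem d3ax : allR 0 24 (refu 24 (nat_lit 5) (nat_lit 31) d3aT ⟨fun _ _ => 0, fun _ _ _ => true, fun f => bor (bor (eqB (d3aL.map Lev.b) f fun a => a) (bnot (eqB (d3aL.map Lev.b) (itF f 2) fun a => a))) (Nat.beq (H7.pc24 (fxP 24 f)) 8)⟩ d3aL0 [d3aL1, d3aL2] []) = true := by decide +kernel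
theorem c3aa {C : H7.Coding GolayPt} (hC : GC C) {x : M24} (r : RepF 24 C.dec z3a x) (s : centralizer {x}) (h : orderOf s = 2) :
    ∃ f, RepF 24 C.dec f s ∧ H7.pc24 (fxP 24 f) = 8 := by
  have K := ((c3ach hC r).ch (lets_words (c3ach hC r).lets d3aE d3aw) d3ac)
  obtain ⟨f, r, e⟩ := K.enum d3ax s
  rw [bor_eq_true, bor_eq_true, bnot_eq_true, Nat.beq_eq, eqB_iff K.base K.inj r (.id _ _), eqB_iff K.base K.inj (itF_rep r 2) (.id _ _), ← h] at e
  exact ⟨f, r, e.resolve_left fun e => e.elim (fun e => by rw [e, orderOf_one] at h; cases h) (· (pow_orderOf_eq_one s))⟩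
noncomputable def m7t0 : ℕ := (nat_lit 0x9dab46c5ee90eeb328e52304982020)
noncomputable def m7t1 : ℕ := (nat_lit 0x6dab4bbe438c266628824ad0771420)
noncomputable def m7t2 : ℕ := (nat_lit 0x9d9b4b88d03baa5229097c58b1c820)
noncomputable def m7t3 : ℕ := (nat_lit 0x5d854234f033a49ba9858bd131d420)
noncomputable def m7t4 : ℕ := (nat_lit 0x916b44dc6d3920c5aa6279ace8a020)
noncomputable def m7t5 : ℕ := (nat_lit 0x35a14985d51c58d5a92745ca279240)
noncomputable def m7t6 : ℕ := (nat_lit 0xbc894559d06c5ec3cd0959835188a0)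
noncomputable def m7t7 : ℕ := (nat_lit 0xbd6d22d2307a1616a8ce1266419d80)
noncomputable def m7t8 : ℕ := (nat_lit 0xa4c37b46470314e4348b8086929aaf)
noncomputable def m7T : Tr ℕ := (.node (nat_lit 4) (.node (nat_lit 2) (.node (nat_lit 1) (.leaf m7t0) (.leaf m7t1)) (.node (nat_lit 3) (.leaf m7t2) (.leaf m7t3)))
 (.node (nat_lit 6) (.node (nat_lit 5) (.leaf m7t4) (.leaf m7t5)) (.node (nat_lit 7) (.leaf m7t6) (.node (nat_lit 8) (.leaf m7t7) (.leaf m7t8)))))
noncomputable def m7L0 : Lev := ⟨(nat_lit 0), (nat_lit 9), (nat_lit 0x50703080102010909060702070901060304090206030600), (nat_lit 0x30303030302020301030203030303030202030302030300),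
 (.leaf 0),
 (.leaf 0)⟩
noncomputable def m7L1 : Lev := ⟨(nat_lit 20), (nat_lit 8), (nat_lit 0x50704000108020501060406080701020304010606030600), (nat_lit 0x20203000301020302030203030404030303030303020200),
 (.leaf 0),
 (.leaf 0)⟩
noncomputable def m7L2 : Lev := ⟨(nat_lit 10), (nat_lit 7), (nat_lit 0x10703000705020507050206040005030106030401060600), (nat_lit 0x20403000103040303030203030002030303040204030400),
 (.leaf 0),
 (.leaf 0)⟩
noncomputable def m7L3 : Lev := ⟨(nat_lit 1), (nat_lit 6), (nat_lit 0x50504000106020501060406040001020304010606030000), (nat_lit 0x20403000301020302030203030004030303030303020000),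
 (.leaf 0),
 (.leaf 0)⟩
noncomputable def m7L4 : Lev := ⟨(nat_lit 22), (nat_lit 5), (nat_lit 0x50004000503020501050403020003010201050105020000), (nat_lit 0x40003000403040504050402030003020403010405020000),
 (.leaf 0),
 (.leaf 0)⟩
noncomputable def m7L5 : Lev := ⟨(nat_lit 21), (nat_lit 4), (nat_lit 0x20000000104020001000303040003020102010400040000), (nat_lit 0x20000000202030003000103030003020404020300010000),
 (.leaf 0),
 (.leaf 0)⟩
noncomputable def m7L6 : Lev := ⟨(nat_lit 2), (nat_lit 2), (nat_lit 0x20000010000000000), (nat_lit 0x10000010000000000),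
 (.leaf 0),
 (.leaf 0)⟩
noncomputable def m7L : List Lev := [m7L0, m7L1, m7L2, m7L3, m7L4, m7L5, m7L6]
theorem m7c : band (m7T.all fun c => m24Chk (ap 5 31 c)) (band (tchainChk 24 5 31 m7T m7L) (Nat.ble 244823040 (chainOrd 24 m7L))) = true := by decide +kernel
noncomputable def c3bt0 : ℕ := (nat_lit 0x6dab4bbe438c266628824ad0771420)
noncomputable def c3bt1 : ℕ := (nat_lit 0x9dab46c5ee90eeb328e52304982020)
noncomputable def c3bt2 : ℕ := (nat_lit 0x9ae148cae76b82542876a9849231e0)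
noncomputable def c3bt3 : ℕ := (nat_lit 0x8a0f4bca750b9e2b288b81983495a0)
noncomputable def c3bt4 : ℕ := (nat_lit 0x441e411ad164a951de6a038ed0a565)
noncomputable def c3bt5 : ℕ := (nat_lit 0x5458d4ba16a988f0a0572c8145cc67)
noncomputable def c3bT : Tr ℕ := (.node (nat_lit 3) (.node (nat_lit 1) (.leaf c3bt0) (.node (nat_lit 2) (.leaf c3bt1) (.leaf c3bt2))) (.node (nat_lit 4) (.leaf c3bt3) (.node (nat_lit 5) (.leaf c3bt4) (.leaf c3bt5))))
noncomputable def c3bL0 : Lev := ⟨(nat_lit 0), (nat_lit 6), (nat_lit 0x50504050606060306010603030602020502060103010600), (nat_lit 0x30302030304030203030302030302020103010203020400),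
 (.leaf 0),
 (.leaf 0)⟩
noncomputable def c3bL1 : Lev := ⟨(nat_lit 20), (nat_lit 4), (nat_lit 0x0), (nat_lit 0x0),
 (.leaf 0),
 (.leaf 0)⟩
noncomputable def c3bL2 : Lev := ⟨(nat_lit 10), (nat_lit 4), (nat_lit 0x0), (nat_lit 0x0),
 (.leaf 0),
 (.leaf 0)⟩
noncomputable def c3bL3 : Lev := ⟨(nat_lit 1), (nat_lit 4), (nat_lit 0x10000000201020004000300000000000000000000000000), (nat_lit 0x20000000202020001000100000000000000000000000000),
 (.leaf 0),
 (.leaf 0)⟩
noncomputable def c3bL4 : Lev := ⟨(nat_lit 22), (nat_lit 2), (nat_lit 0x0), (nat_lit 0x0),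
 (.leaf 0),
 (.leaf 0)⟩
noncomputable def c3bL5 : Lev := ⟨(nat_lit 21), (nat_lit 2), (nat_lit 0x0), (nat_lit 0x0),
 (.leaf 0),
 (.leaf 0)⟩
noncomputable def c3bL6 : Lev := ⟨(nat_lit 2), (nat_lit 2), (nat_lit 0x10000020000000000), (nat_lit 0x10000010000000000),
 (.leaf 0),
 (.leaf 0)⟩
noncomputable def c3bL : List Lev := [c3bL0, c3bL1, c3bL2, c3bL3, c3bL4, c3bL5, c3bL6]
noncomputable def c3bJ : List Pr := [(prC (m7L.map Lev.b) [(z3b, z3b)])]
noncomputable def c3bF0 : ℕ × ℕ := ((nat_lit 0), (nat_lit 0))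
theorem c3bb0 : allR 0 24 (ptB 24 (nat_lit 5) (nat_lit 31) m7T c3bT c3bJ m7L0 [m7L1, m7L2, m7L3, m7L4, m7L5, m7L6] c3bL0 (dg []) c3bF0.1 c3bF0.2) = true := by decide +kernel
noncomputable def c3bF1 : ℕ × ℕ := ((nat_lit 0xffffff00ffffffffffffffffffffffffffffffffffffff00), (nat_lit 0))
theorem c3bb1 : allR 0 24 (ptB 24 (nat_lit 5) (nat_lit 31) m7T c3bT c3bJ m7L1 [m7L2, m7L3, m7L4, m7L5, m7L6] c3bL1 (dg [m7L0.b]) c3bF1.1 c3bF1.2) = true := by decide +kernel
noncomputable def c3bF2 : ℕ × ℕ := ((nat_lit 0xffffff00ffffffffffffffffff00ffffffffffffffffff00), (nat_lit 0))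
theorem c3bb2 : allR 0 24 (ptB 24 (nat_lit 5) (nat_lit 31) m7T c3bT c3bJ m7L2 [m7L3, m7L4, m7L5, m7L6] c3bL2 (dg [m7L1.b, m7L0.b]) c3bF2.1 c3bF2.2) = true := by decide +kernel
noncomputable def c3bF3 : ℕ × ℕ := ((nat_lit 0x2ff0000000003000000000100010302ff030001020000), (nat_lit 0x200000000000100020001010002020100020202020000))
theorem c3bb3 : allR 0 24 (ptB 24 (nat_lit 5) (nat_lit 31) m7T c3bT c3bJ m7L3 [m7L4, m7L5, m7L6] c3bL3 (dg [m7L2.b, m7L1.b, m7L0.b]) c3bF3.1 c3bF3.2) = true := by decide +kernel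
noncomputable def c3bF4 : ℕ × ℕ := ((nat_lit 0xff00ff00ffffffffffffffffff00ffffffffffffffff0000), (nat_lit 0))
theorem c3bb4 : allR 0 24 (ptB 24 (nat_lit 5) (nat_lit 31) m7T c3bT c3bJ m7L4 [m7L5, m7L6] c3bL4 (dg [m7L3.b, m7L2.b, m7L1.b, m7L0.b]) c3bF4.1 c3bF4.2) = true := by decide +kernel
noncomputable def c3bF5 : ℕ × ℕ := ((nat_lit 0xff000000ffffff00ff00ffffff00ffffffffffff00ff0000), (nat_lit 0))
theorem c3bb5 : allR 0 24 (ptB 24 (nat_lit 5) (nat_lit 31) m7T c3bT c3bJ m7L5 [m7L6] c3bL5 (dg [m7L4.b, m7L3.b, m7L2.b, m7L1.b, m7L0.b]) c3bF5.1 c3bF5.2) = true := by decide +kernel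
noncomputable def c3bF6 : ℕ × ℕ := ((nat_lit 0), (nat_lit 0))
theorem c3bb6 : allR 0 24 (ptB 24 (nat_lit 5) (nat_lit 31) m7T c3bT c3bJ m7L6 [] c3bL6 (dg [m7L5.b, m7L4.b, m7L3.b, m7L2.b, m7L1.b, m7L0.b]) c3bF6.1 c3bF6.2) = true := by decide +kernel
theorem c3bbk : Bk 24 (nat_lit 5) (nat_lit 31) m7T c3bT c3bJ m7L c3bL [c3bF0, c3bF1, c3bF2, c3bF3, c3bF4, c3bF5, c3bF6] [] :=
  ⟨rfl, c3bb0, rfl, c3bb1, rfl, c3bb2, rfl, c3bb3, rfl, c3bb4, rfl, c3bb5, rfl, c3bb6, trivial⟩
theorem c3btc : tchainChk 24 (nat_lit 5) (nat_lit 31) c3bT c3bL = true := by decide +kernel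
theorem c3bm : c3bT.all (fun c => eqB (m7L.map Lev.b) (fun a => ap 5 31 c (z3b a)) fun a => z3b (ap 5 31 c a)) = true := by decide +kernel
theorem c3bl : c3bT.all (fun c => m24Chk (ap 5 31 c)) = true := by decide +kernel
theorem c3bch {C : H7.Coding GolayPt} (hC : GC C) {x : M24} (r : RepF 24 C.dec z3b x) : Ch (centralizer {x}) 24 5 31 C.dec c3bT c3bL :=
  have A := hC.ch m7c
  A.sub _ (snd_cent A r) (lets_chk (hC.lets c3bl) _ _ (cent_chk A r) c3bm) c3btc c3bbk
noncomputable def d3bt0 : ℕ := (nat_lit 0x8daa89de4a011e6a1d2b815837082d)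
noncomputable def d3bt1 : ℕ := (nat_lit 0x95aab9c6e768c0544134530ce2082f)
noncomputable def d3bt2 : ℕ := (nat_lit 0x6ae059c8238b8166113451907a89f7)
noncomputable def d3bt3 : ℕ := (nat_lit 0x30689c9f50baebb1d2521a8a80a2d)
noncomputable def d3bt4 : ℕ := (nat_lit 0x506d219202494ef9998d45c145c6ae)
noncomputable def d3bt5 : ℕ := (nat_lit 0x354245d051601091dde76a9d29c2c5)
noncomputable def d3bT : Tr ℕ := (.node (nat_lit 3) (.node (nat_lit 1) (.leaf d3bt0) (.node (nat_lit 2) (.leaf d3bt1) (.leaf d3bt2))) (.node (nat_lit 4) (.leaf d3bt3) (.node (nat_lit 5) (.leaf d3bt4) (.leaf d3bt5))))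
noncomputable def d3bL0 : Lev := ⟨(nat_lit 2), (nat_lit 6), (nat_lit 0x10603050502060503020505060206060106030304000403), (nat_lit 0x20302030302010102030303030203030203040302000203),
 (.leaf 0),
 (.leaf 0)⟩
noncomputable def d3bL1 : Lev := ⟨(nat_lit 1), (nat_lit 4), (nat_lit 0x10000000002030004000100000000000000000000000002), (nat_lit 0x20000000002010001000200000000000000000000000002),
 (.leaf 0),
 (.leaf 0)⟩
noncomputable def d3bL2 : Lev := ⟨(nat_lit 0), (nat_lit 2), (nat_lit 0x1000200000000000000000000000000), (nat_lit 0x1000100000000000000000000000000),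
 (.leaf 0),
 (.leaf 0)⟩
noncomputable def d3bL : List Lev := [d3bL0, d3bL1, d3bL2]
noncomputable def d3bE : Tr (List ℕ) := (.node (nat_lit 3) (.node (nat_lit 1) (.leaf [nat_lit 4, nat_lit 1, nat_lit 5, nat_lit 1, nat_lit 2, nat_lit 0]) (.node (nat_lit 2) (.leaf [nat_lit 4, nat_lit 2, nat_lit 5, nat_lit 0, nat_lit 3]) (.leaf [nat_lit 5, nat_lit 0, nat_lit 4, nat_lit 0]))) (.node (nat_lit 4) (.leaf [nat_lit 4, nat_lit 1, nat_lit 5, nat_lit 1]) (.node (nat_lit 5) (.leaf [nat_lit 1, nat_lit 3, nat_lit 5, nat_lit 0, nat_lit 2]) (.leaf [nat_lit 4, nat_lit 0, nat_lit 2, nat_lit 1]))))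
theorem d3bw_0 : d3bT.all2 (fun c w => isProd 24 (nat_lit 5) (nat_lit 31) c3bT c w) d3bE = true := by decide +kernel
theorem d3bw : d3bT.all2 (fun c w => isProd 24 (nat_lit 5) (nat_lit 31) c3bT c w) d3bE = true := d3bw_0
theorem d3bc : band (tchainChk 24 (nat_lit 5) (nat_lit 31) d3bT d3bL) (Nat.ble (chainOrd 24 c3bL) (chainOrd 24 d3bL)) = true := by decide +kernel
theorem d3bx : allR 0 24 (refu 24 (nat_lit 5) (nat_lit 31) d3bT ⟨fun _ _ => 0, fun _ _ _ => true, fun f => bor (bor (eqB (d3bL.map Lev.b) f fun a => a) (bnot (eqB (d3bL.map Lev.b) (itF f 2) fun a => a))) (Nat.beq (H7.pc24 (fxP 24 f)) 0)⟩ d3bL0 [d3bL1, d3bL2] []) = true := by decide +kernel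
theorem c3ba {C : H7.Coding GolayPt} (hC : GC C) {x : M24} (r : RepF 24 C.dec z3b x) (s : centralizer {x}) (h : orderOf s = 2) :
    ∃ f, RepF 24 C.dec f s ∧ H7.pc24 (fxP 24 f) = 0 := by
  have K := ((c3bch hC r).ch (lets_words (c3bch hC r).lets d3bE d3bw) d3bc)
  obtain ⟨f, r, e⟩ := K.enum d3bx s
  rw [bor_eq_true, bor_eq_true, bnot_eq_true, Nat.beq_eq, eqB_iff K.base K.inj r (.id _ _), eqB_iff K.base K.inj (itF_rep r 2) (.id _ _), ← h] at e
  exact ⟨f, r, e.resolve_left fun e => e.elim (fun e => by rw [e, orderOf_one] at h; cases h) (· (pow_orderOf_eq_one s))⟩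
noncomputable def m8t0 : ℕ := (nat_lit 0xba64d4562f83a87312d362caa18820)
noncomputable def m8t1 : ℕ := (nat_lit 0xbbd8459e29b39559b606920b418820)
noncomputable def m8t2 : ℕ := (nat_lit 0xbc92655a2c3b9706cea47d0a818820)
noncomputable def m8t3 : ℕ := (nat_lit 0xbcc8cb2a265b8f47c9096c0b518820)
noncomputable def m8t4 : ℕ := (nat_lit 0x1b0d4b222795c93836af5a4aa70820)
noncomputable def m8t5 : ℕ := (nat_lit 0x74d3463e2b40d56390d2854adb8820)
noncomputable def m8t6 : ℕ := (nat_lit 0x3d9d3a0e307d4c252d24bb4a893020)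
noncomputable def m8t7 : ℕ := (nat_lit 0x258b499e2d73e0c1a0ca926b758820)
noncomputable def m8t8 : ℕ := (nat_lit 0x61ab49a624285b758a433d9f0429c0)
noncomputable def m8t9 : ℕ := (nat_lit 0xd9eb99cd0aa04ca152e945441b6e0)
noncomputable def m8t10 : ℕ := (nat_lit 0x4c00c94e367b8b409ae83a9a418975)
noncomputable def m8T : Tr ℕ := (.node (nat_lit 5) (.node (nat_lit 2) (.node (nat_lit 1) (.leaf m8t0) (.leaf m8t1)) (.node (nat_lit 3) (.leaf m8t2) (.node (nat_lit 4) (.leaf m8t3) (.leaf m8t4))))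
 (.node (nat_lit 8) (.node (nat_lit 6) (.leaf m8t5) (.node (nat_lit 7) (.leaf m8t6) (.leaf m8t7))) (.node (nat_lit 9) (.leaf m8t8) (.node (nat_lit 10) (.leaf m8t9) (.leaf m8t10)))))
noncomputable def m8L0 : Lev := ⟨(nat_lit 0), (nat_lit 11), (nat_lit 0x9030b040b010a030a070502010403060206080407070900), (nat_lit 0x30301030302030302020302030302030302020203030300),
 (.leaf 0),
 (.leaf 0)⟩
noncomputable def m8L1 : Lev := ⟨(nat_lit 17), (nat_lit 10), (nat_lit 0x709050302050004040a070401070602050a0803080a0900), (nat_lit 0x40202020303000203030203020302020301030303030400),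
 (.leaf 0),
 (.leaf 0)⟩
noncomputable def m8L2 : Lev := ⟨(nat_lit 1), (nat_lit 9), (nat_lit 0x60207020207000108090309080403090706080805070000), (nat_lit 0x20302040403000302010403030403030303030302040000),
 (.leaf 0),
 (.leaf 0)⟩
noncomputable def m8L3 : Lev := ⟨(nat_lit 5), (nat_lit 8), (nat_lit 0x80308040601000305070502010403060206000407070000), (nat_lit 0x30301030302000303020302030302030302000203030000),
 (.leaf 0),
 (.leaf 0)⟩
noncomputable def m8L4 : Lev := ⟨(nat_lit 2), (nat_lit 7), (nat_lit 0x70502040602000303070407060303010106000407000000), (nat_lit 0x30202020203000203030301030303030203000304000000),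
 (.leaf 0),
 (.leaf 0)⟩
noncomputable def m8L5 : Lev := ⟨(nat_lit 23), (nat_lit 6), (nat_lit 0x50000000000000000000006000000), (nat_lit 0x10000000000000000000001000000),
 (.leaf 0),
 (.leaf 0)⟩
noncomputable def m8L6 : Lev := ⟨(nat_lit 4), (nat_lit 4), (nat_lit 0x404020304000404000204030104030403000000000000), (nat_lit 0x301010202000304000202030102010302000000000000),
 (.leaf 0),
 (.leaf 0)⟩
noncomputable def m8L : List Lev := [m8L0, m8L1, m8L2, m8L3, m8L4, m8L5, m8L6]
theorem m8c : band (m8T.all fun c => m24Chk (ap 5 31 c)) (band (tchainChk 24 5 31 m8T m8L) (Nat.ble 244823040 (chainOrd 24 m8L))) = true := by decide +kernel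
noncomputable def cat0 : ℕ := (nat_lit 0xbbd8459e29b39559b606920b418820)
noncomputable def cat1 : ℕ := (nat_lit 0xb99b28523343aaa4b16f258a718820)
noncomputable def cat2 : ℕ := (nat_lit 0xbae957b6289ba44b1cd0524ac18820)
noncomputable def cat3 : ℕ := (nat_lit 0x6205480e3359db77a8d6724a495420)
noncomputable def cat4 : ℕ := (nat_lit 0x6aea49863078eecb0909298f472a40)
noncomputable def cat5 : ℕ := (nat_lit 0x6584198d5079c175c528718859568d)
noncomputable def caT : Tr ℕ := (.node (nat_lit 3) (.node (nat_lit 1) (.leaf cat0) (.node (nat_lit 2) (.leaf cat1) (.leaf cat2))) (.node (nat_lit 4) (.leaf cat3) (.node (nat_lit 5) (.leaf cat4) (.leaf cat5))))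
noncomputable def caL0 : Lev := ⟨(nat_lit 0), (nat_lit 6), (nat_lit 0x50002030003060000040602000100000300050304050500), (nat_lit 0x20002030002030000040103000200000300040403030300),
 (.leaf 0),
 (.leaf 0)⟩
noncomputable def caL1 : Lev := ⟨(nat_lit 17), (nat_lit 5), (nat_lit 0x0), (nat_lit 0x0),
 (.leaf 0),
 (.leaf 0)⟩
noncomputable def caL2 : Lev := ⟨(nat_lit 1), (nat_lit 5), (nat_lit 0x50003020005000000040303000300000100050204050000), (nat_lit 0x30003020001000000030204000300000200030302040000),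
 (.leaf 0),
 (.leaf 0)⟩
noncomputable def caL3 : Lev := ⟨(nat_lit 5), (nat_lit 4), (nat_lit 0x0), (nat_lit 0x0),
 (.leaf 0),
 (.leaf 0)⟩
noncomputable def caL4 : Lev := ⟨(nat_lit 2), (nat_lit 4), (nat_lit 0x40004030003000000040201000200000300000304000000), (nat_lit 0x30001020003000000050202000300000400000304000000),
 (.leaf 0),
 (.leaf 0)⟩
noncomputable def caL5 : Lev := ⟨(nat_lit 23), (nat_lit 3), (nat_lit 0x0), (nat_lit 0x0),
 (.leaf 0),
 (.leaf 0)⟩
noncomputable def caL6 : Lev := ⟨(nat_lit 4), (nat_lit 3), (nat_lit 0x3010002000000000303000300000200000000000000), (nat_lit 0x2010002000000000301000200000100000000000000),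
 (.leaf 0),
 (.leaf 0)⟩
noncomputable def caL : List Lev := [caL0, caL1, caL2, caL3, caL4, caL5, caL6]
noncomputable def caJ : List Pr := [(prC (m8L.map Lev.b) [(z2a, z2a)])]
noncomputable def caF0 : ℕ × ℕ := ((nat_lit 0xff0000ff0000ffff000000ff00ffff00ff000000000000), (nat_lit 0))
theorem cab0 : allR 0 24 (ptB 24 (nat_lit 5) (nat_lit 31) m8T caT caJ m8L0 [m8L1, m8L2, m8L3, m8L4, m8L5, m8L6] caL0 (dg []) caF0.1 caF0.2) = true := by decide +kernel
noncomputable def caF1 : ℕ × ℕ := ((nat_lit 0xffffffffffff00ffffffffffffffffffffffffffffffff00), (nat_lit 0))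
theorem cab1 : allR 0 24 (ptB 24 (nat_lit 5) (nat_lit 31) m8T caT caJ m8L1 [m8L2, m8L3, m8L4, m8L5, m8L6] caL1 (dg [m8L0.b]) caF1.1 caF1.2) = true := by decide +kernel
noncomputable def caF2 : ℕ × ℕ := ((nat_lit 0xff0000ff0000ffff000000ff00ffff00ff000000000000), (nat_lit 0))
theorem cab2 : allR 0 24 (ptB 24 (nat_lit 5) (nat_lit 31) m8T caT caJ m8L2 [m8L3, m8L4, m8L5, m8L6] caL2 (dg [m8L1.b, m8L0.b]) caF2.1 caF2.2) = true := by decide +kernel
noncomputable def caF3 : ℕ × ℕ := ((nat_lit 0xffffffffffff00ffffffffffffffffffffff00ffffff0000), (nat_lit 0))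
theorem cab3 : allR 0 24 (ptB 24 (nat_lit 5) (nat_lit 31) m8T caT caJ m8L3 [m8L4, m8L5, m8L6] caL3 (dg [m8L2.b, m8L1.b, m8L0.b]) caF3.1 caF3.2) = true := by decide +kernel
noncomputable def caF4 : ℕ × ℕ := ((nat_lit 0xff0000ff0000ffff000000ff00ffff00ff000000000000), (nat_lit 0))
theorem cab4 : allR 0 24 (ptB 24 (nat_lit 5) (nat_lit 31) m8T caT caJ m8L4 [m8L5, m8L6] caL4 (dg [m8L3.b, m8L2.b, m8L1.b, m8L0.b]) caF4.1 caF4.2) = true := by decide +kernel
noncomputable def caF5 : ℕ × ℕ := ((nat_lit 0xff00000000000000000000ff000000), (nat_lit 0))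
theorem cab5 : allR 0 24 (ptB 24 (nat_lit 5) (nat_lit 31) m8T caT caJ m8L5 [m8L6] caL5 (dg [m8L4.b, m8L3.b, m8L2.b, m8L1.b, m8L0.b]) caF5.1 caF5.2) = true := by decide +kernel
noncomputable def caF6 : ℕ × ℕ := ((nat_lit 0xff0000ff0000ffff000000ff00ffff00ff000000000000), (nat_lit 0))
theorem cab6 : allR 0 24 (ptB 24 (nat_lit 5) (nat_lit 31) m8T caT caJ m8L6 [] caL6 (dg [m8L5.b, m8L4.b, m8L3.b, m8L2.b, m8L1.b, m8L0.b]) caF6.1 caF6.2) = true := by decide +kernel
theorem cabk : Bk 24 (nat_lit 5) (nat_lit 31) m8T caT caJ m8L caL [caF0, caF1, caF2, caF3, caF4, caF5, caF6] [] :=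
  ⟨rfl, cab0, rfl, cab1, rfl, cab2, rfl, cab3, rfl, cab4, rfl, cab5, rfl, cab6, trivial⟩
theorem catc : tchainChk 24 (nat_lit 5) (nat_lit 31) caT caL = true := by decide +kernel
theorem cam : caT.all (fun c => eqB (m8L.map Lev.b) (fun a => ap 5 31 c (z2a a)) fun a => z2a (ap 5 31 c a)) = true := by decide +kernel
theorem cal : caT.all (fun c => m24Chk (ap 5 31 c)) = true := by decide +kernel
theorem cach {C : H7.Coding GolayPt} (hC : GC C) {x : M24} (r : RepF 24 C.dec z2a x) : Ch (centralizer {x}) 24 5 31 C.dec caT caL :=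
  have A := hC.ch m8c
  A.sub _ (snd_cent A r) (lets_chk (hC.lets cal) _ _ (cent_chk A r) cam) catc cabk
noncomputable def qt0 : ℕ := (nat_lit 0xbc0ea332364b892451ebaccad18820)
noncomputable def qt1 : ℕ := (nat_lit 0xbcc8cb2a265b8f47c9096c0b518820)
noncomputable def qt2 : ℕ := (nat_lit 0xbbd8459e29b39559b606920b418820)
noncomputable def qt3 : ℕ := (nat_lit 0x6205480e3359db77a8d6724a495420)
noncomputable def qt4 : ℕ := (nat_lit 0x158249ca2b435c580d2f3999455ea0)
noncomputable def qt5 : ℕ := (nat_lit 0x6c0ae5c6564d2e1989e6022a322987)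
noncomputable def qT : Tr ℕ := (.node (nat_lit 3) (.node (nat_lit 1) (.leaf qt0) (.node (nat_lit 2) (.leaf qt1) (.leaf qt2))) (.node (nat_lit 4) (.leaf qt3) (.node (nat_lit 5) (.leaf qt4) (.leaf qt5))))
noncomputable def qR : Tr (List ℕ) := (.node (nat_lit 18) (.node (nat_lit 9) (.node (nat_lit 4) (.node (nat_lit 2) (.node (nat_lit 1) (.leaf [nat_lit 0, nat_lit 3, nat_lit 2, nat_lit 3, nat_lit 4, nat_lit 0, nat_lit 4, nat_lit 0, nat_lit 4]) (.leaf [nat_lit 3, nat_lit 0, nat_lit 3, nat_lit 0, nat_lit 3, nat_lit 0, nat_lit 3, nat_lit 0])) (.node (nat_lit 3) (.leaf [nat_lit 3, nat_lit 0, nat_lit 3, nat_lit 2, nat_lit 3, nat_lit 0, nat_lit 3, nat_lit 2]) (.leaf [nat_lit 0, nat_lit 0])))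
 (.node (nat_lit 6) (.node (nat_lit 5) (.leaf [nat_lit 5, nat_lit 0, nat_lit 5, nat_lit 0, nat_lit 5, nat_lit 0, nat_lit 5, nat_lit 0]) (.leaf [nat_lit 0, nat_lit 1, nat_lit 0, nat_lit 1])) (.node (nat_lit 7) (.leaf [nat_lit 5, nat_lit 3, nat_lit 0, nat_lit 3, nat_lit 5, nat_lit 3, nat_lit 0, nat_lit 3]) (.node (nat_lit 8) (.leaf [nat_lit 5, nat_lit 0, nat_lit 5, nat_lit 2, nat_lit 5, nat_lit 0, nat_lit 5, nat_lit 2]) (.leaf [nat_lit 0, nat_lit 2, nat_lit 0, nat_lit 2])))))
 (.node (nat_lit 13) (.node (nat_lit 11) (.node (nat_lit 10) (.leaf [nat_lit 5, nat_lit 0, nat_lit 5, nat_lit 1, nat_lit 5, nat_lit 0, nat_lit 5, nat_lit 1]) (.leaf [nat_lit 0, nat_lit 3, nat_lit 2, nat_lit 4, nat_lit 0, nat_lit 1, nat_lit 4, nat_lit 3, nat_lit 0, nat_lit 4])) (.node (nat_lit 12) (.leaf [nat_lit 3, nat_lit 0, nat_lit 1, nat_lit 3, nat_lit 0, nat_lit 1, nat_lit 3, nat_lit 0, nat_lit 1]) (.leaf [nat_lit 3, nat_lit 1, nat_lit 2, nat_lit 3, nat_lit 1, nat_lit 2, nat_lit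 3, nat_lit 1, nat_lit 2])))
 (.node (nat_lit 15) (.node (nat_lit 14) (.leaf [nat_lit 1, nat_lit 1]) (.leaf [nat_lit 3, nat_lit 1, nat_lit 3, nat_lit 1, nat_lit 3, nat_lit 1])) (.node (nat_lit 16) (.leaf [nat_lit 5, nat_lit 1, nat_lit 5, nat_lit 2, nat_lit 5, nat_lit 1, nat_lit 5, nat_lit 2]) (.node (nat_lit 17) (.leaf [nat_lit 1, nat_lit 2, nat_lit 1, nat_lit 2]) (.leaf [nat_lit 5, nat_lit 1, nat_lit 5, nat_lit 1, nat_lit 5, nat_lit 1, nat_lit 5, nat_lit 1]))))))
 (.node (nat_lit 27) (.node (nat_lit 22) (.node (nat_lit 20) (.node (nat_lit 19) (.leaf [nat_lit 0, nat_lit 2, nat_lit 4, nat_lit 2, nat_lit 4, nat_lit 0, nat_lit 4, nat_lit 2, nat_lit 4]) (.leaf [nat_lit 3, nat_lit 2, nat_lit 3, nat_lit 2, nat_lit 3, nat_lit 2, nat_lit 3, nat_lit 2])) (.node (nat_lit 21) (.leaf [nat_lit 2, nat_lit 2]) (.leaf [nat_lit 5, nat_lit 3, nat_lit 2, nat_lit 3, nat_lit 5, nat_lit 3, nat_lit 2, nat_lit 3])))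
 (.node (nat_lit 24) (.node (nat_lit 23) (.leaf [nat_lit 5, nat_lit 2, nat_lit 5, nat_lit 2, nat_lit 5, nat_lit 2, nat_lit 5, nat_lit 2]) (.leaf [nat_lit 4, nat_lit 2, nat_lit 3, nat_lit 4, nat_lit 2, nat_lit 3, nat_lit 4, nat_lit 2, nat_lit 3])) (.node (nat_lit 25) (.leaf [nat_lit 5, nat_lit 1, nat_lit 3, nat_lit 1, nat_lit 5, nat_lit 1, nat_lit 3, nat_lit 1]) (.node (nat_lit 26) (.leaf [nat_lit 3, nat_lit 3]) (.leaf [nat_lit 5, nat_lit 3, nat_lit 5, nat_lit 3, nat_lit 5, nat_lit 3, nat_lit 5, nat_lit 3])))))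
 (.node (nat_lit 32) (.node (nat_lit 29) (.node (nat_lit 28) (.leaf [nat_lit 4, nat_lit 4]) (.leaf [nat_lit 1, nat_lit 2, nat_lit 3, nat_lit 1, nat_lit 2, nat_lit 4, nat_lit 5, nat_lit 4, nat_lit 5])) (.node (nat_lit 30) (.leaf [nat_lit 4, nat_lit 2, nat_lit 4, nat_lit 3, nat_lit 4, nat_lit 2, nat_lit 4, nat_lit 3]) (.node (nat_lit 31) (.leaf [nat_lit 1, nat_lit 2, nat_lit 3, nat_lit 0, nat_lit 2, nat_lit 4, nat_lit 0, nat_lit 1, nat_lit 2, nat_lit 5, nat_lit 1, nat_lit 4, nat_lit 3, nat_lit 5]) (.leaf [nat_lit 2, nat_lit 4, nat_lit 2, nat_lit 5, nat_lit 2, nat_lit 5, nat_lit 4, nat_lit 5, nat_lit 2, nat_lit 5]))))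
 (.node (nat_lit 34) (.node (nat_lit 33) (.leaf [nat_lit 4, nat_lit 1, nat_lit 3, nat_lit 1, nat_lit 4, nat_lit 1, nat_lit 3, nat_lit 1]) (.leaf [nat_lit 5, nat_lit 5])) (.node (nat_lit 35) (.leaf [nat_lit 2, nat_lit 3, nat_lit 0, nat_lit 1, nat_lit 5, nat_lit 0, nat_lit 1, nat_lit 5, nat_lit 3, nat_lit 2, nat_lit 5]) (.node (nat_lit 36) (.leaf [nat_lit 4, nat_lit 3, nat_lit 2, nat_lit 3, nat_lit 4, nat_lit 3, nat_lit 2, nat_lit 3]) (.leaf [nat_lit 4, nat_lit 2, nat_lit 4, nat_lit 2, nat_lit 4, nat_lit 2, nat_lit 4, nat_lit 2])))))))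
noncomputable def qL0 : Lev := ⟨(nat_lit 0), (nat_lit 6), (nat_lit 0x60001060003060000040203000300000600060204040500), (nat_lit 0x30002030002030000020203000300000100030303030300),
 (.node (nat_lit 3) (.node (nat_lit 1) (.leaf (nat_lit 0x200000000000600000002000200000000000200020003000000070000000000010000000200030003000300040000))
 (.node (nat_lit 2) (.leaf (nat_lit 0x2000000010008000000020002000000000003000000070000000300000000000100000002000000040004000d0000))
 (.leaf (nat_lit 0x200000001000a00000000000200000000000200010000000000000000000000010000000200090003000300080000))))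
 (.node (nat_lit 4) (.leaf (nat_lit 0xa000000010002000000010006000000000000000200090000000500000000000100000006000500000000000e0000))
 (.node (nat_lit 5) (.leaf (nat_lit 0xc00000001000a000000070002000000000002000300100000000800000000000200000011000b0009000d00000000))
 (.leaf (nat_lit 0x10000000000010000000000000001000100100000000500000000000000000000000300020006000f0001))))),
 (.node (nat_lit 3) (.node (nat_lit 1) (.leaf (nat_lit 0x905000000000000000602000000000802000705000000000000000602000500000301000000000301000000000000000301000000000403000301000205000107000005000000))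
 (.node (nat_lit 2) (.leaf (nat_lit 0x1103000000000d00000d00000000001002000f05000000000000000e01000000000501000000000d01000000000000000d01000000000903000000000c07000b08000a05000000))
 (.leaf (nat_lit 0xf03000000001400001400000000000000001603000000000000001502001400000000000000000000000000000000001401000000000703001003001307000207001203000000))))
 (.node (nat_lit 4) (.leaf (nat_lit 0x1900000000001900001a03000000001900001806000000000000000000001802001802000000000e02000000000000001901000000001806000e02000000000000001708000000))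
 (.node (nat_lit 5) (.leaf (nat_lit 0x2000000000001b00000006000000001c07001f06000000000000001e0b001b01001c07000000001d00000000000000001c07000000001b01001b01001b01001b01000000000000))
 (.leaf (nat_lit 0x2100000000000000002100000000000000000000002101002101002100000000001800000000000000000000000000000000002100002207002101001e0d002101)))))⟩
noncomputable def qL1 : Lev := ⟨(nat_lit 1), (nat_lit 5), (nat_lit 0x40005030003000000040203000300000100050204040000), (nat_lit 0x30001030003000000030302000400000200030204020000),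
 (.node (nat_lit 2) (.node (nat_lit 1) (.leaf (nat_lit 0xc00000001000300000004000000000000000a0002000500000004000000000000000000020003000b000900000000))
 (.leaf (nat_lit 0x500000001000200000002000000000000000900000003000000030000000000010000000d0000000a000300000000)))
 (.node (nat_lit 3) (.leaf (nat_lit 0x300000001000000000000000000000000000300010000000000000000000000010000000200010006000200000000))
 (.node (nat_lit 4) (.leaf (nat_lit 0x1000400000001000000000000000000080001000000090000000000010000000200020000000000000000))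
 (.leaf (nat_lit 0x400000000000700000006000000000000000200030001000000070000000000020000000000060008000300010000))))),
 (.node (nat_lit 2) (.node (nat_lit 1) (.leaf (nat_lit 0x103000000000300000802000000000502000000000000000000000103000500000301000000000301000000000000000000000000001205000301000205000b07000000000000))
 (.leaf (nat_lit 0xe01000000000d00001002000000001002000000000000000000000e01000000000d01000000000d01000000000000000d01000000000a05000000000e05000e05000000000000)))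
 (.node (nat_lit 3) (.leaf (nat_lit 0x1303000000001400000000000000000000000000000000000000000203001400000000000000000000000000000000001401000000002403001401000207002302000000000000))
 (.node (nat_lit 4) (.leaf (nat_lit 0x1900000c03000000001900000000000000000000000000001702001901000000000204000000000000001901000000001d03002002000000000000000000000000))
 (.leaf (nat_lit 0x1b00000000000000001b00000000000006000000000000000000000a06001b01001b00000000001d00000000000000000006000000000000002004001b01001703001b01000000)))))⟩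
noncomputable def qL2 : Lev := ⟨(nat_lit 2), (nat_lit 4), (nat_lit 0x40004030003000000040203000300000100000204000000), (nat_lit 0x30001030003000000030302000400000200000204000000),
 (.node (nat_lit 2) (.node (nat_lit 1) (.leaf (nat_lit 0x600000001000300000004000000000000000200020005000000040000000000000000000000030003000000000000))
 (.leaf (nat_lit 0x500000001000200000002000000000000000500000003000000030000000000010000000000000006000000000000)))
 (.node (nat_lit 3) (.leaf (nat_lit 0x200000001000000000000000000000000000200010000000000000000000000010000000000010006000000000000))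
 (.leaf (nat_lit 0x400000001000000000000000000040001000000050000000000010000000000020000000100000000)))),
 (.node (nat_lit 2) (.node (nat_lit 1) (.leaf (nat_lit 0x103000000000300000802000000000502000000000000000000000103000500000301000000000301000000000000000000000000000000000301000205000000000000000000))
 (.leaf (nat_lit 0xe01000000000d00001002000000001002000000000000000000000e01000000000d01000000000d01000000000000000d01000000000000000000000e05000000000000000000)))
 (.node (nat_lit 3) (.leaf (nat_lit 0x1303000000001400000000000000000000000000000000000000000203001400000000000000000000000000000000001401000000000000001401000207000000000000000000))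
 (.leaf (nat_lit 0xc03000000001900000000000000000000000000000b03001901000000000204000000000000001901000000000000000e02000000001901000000000000))))⟩
noncomputable def qL3 : Lev := ⟨(nat_lit 4), (nat_lit 3), (nat_lit 0x2030003000000000103000300000200000000000000), (nat_lit 0x1010003000000000102000200000200000000000000),
 (.node (nat_lit 1) (.leaf (nat_lit 0x2000200000004000000000000000000000005000000030000000000030000000000010000000000000000))
 (.node (nat_lit 2) (.leaf (nat_lit 0x200000002000000000000000000010003000000030000000000000000000000010000000000000000))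
 (.leaf (nat_lit 0x1000000000000000000000000000000010000000000000000000000010000000000010000000000000000)))),
 (.node (nat_lit 1) (.leaf (nat_lit 0x502000802000000000502000000000000000000000000000000000301000000000301000000000000000301000000000000000301000000000000000000000000))
 (.node (nat_lit 2) (.leaf (nat_lit 0x1002000000001002000000000000000000000000000d00000d01000000000d01000000000000000000000000000000000d01000000000000000000000000))
 (.leaf (nat_lit 0x1400000000000000000000000000000000000000000000001400000000000000000000000000000000001401000000000000001401000000000000000000000000))))⟩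
noncomputable def qL : List Lev := [qL0, qL1, qL2, qL3]
noncomputable def qE : Tr (List ℕ) := (.node (nat_lit 3) (.node (nat_lit 1) (.leaf [nat_lit 2, nat_lit 1, nat_lit 0]) (.node (nat_lit 2) (.leaf [nat_lit 2, nat_lit 0]) (.leaf [nat_lit 0]))) (.node (nat_lit 4) (.leaf [nat_lit 3]) (.node (nat_lit 5) (.leaf [nat_lit 2, nat_lit 1, nat_lit 4, nat_lit 1, nat_lit 3, nat_lit 2]) (.leaf [nat_lit 2, nat_lit 0, nat_lit 5, nat_lit 3, nat_lit 2, nat_lit 1, nat_lit 3, nat_lit 1, nat_lit 0]))))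
theorem qw_0 : qT.all2 (fun c w => isProd 24 (nat_lit 5) (nat_lit 31) caT c w) qE = true := by decide +kernel
theorem qw : qT.all2 (fun c w => isProd 24 (nat_lit 5) (nat_lit 31) caT c w) qE = true := qw_0
theorem qlev0 : levChk 24 (nat_lit 5) (nat_lit 31) qT qR qL0 qL1.N = true := by decide +kernel
theorem qlev1 : levChk 24 (nat_lit 5) (nat_lit 31) qT qR qL1 qL2.N = true := by decide +kernel
theorem qlev2 : levChk 24 (nat_lit 5) (nat_lit 31) qT qR qL2 qL3.N = true := by decide +kernel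
theorem qlev3 : levChk 24 (nat_lit 5) (nat_lit 31) qT qR qL3 0 = true := by decide +kernel
theorem qchain : Chain 24 (nat_lit 5) (nat_lit 31) qT qR qL := chain_cons qlev0 <| chain_cons qlev1 <| chain_cons qlev2 <| chain_one qlev3
theorem qsd : band (qR.all fun w => eqB (caL.map Lev.b) (apL (nat_lit 5) (nat_lit 31) qT w) fun a => a) (Nat.ble (chainOrd 24 caL) (chainOrd 24 qL)) = true := by decide +kernel
noncomputable def jI : Tr (List ℕ) := (.node (nat_lit 3) (.node (nat_lit 1) (.leaf [nat_lit 1, nat_lit 2, nat_lit 1]) (.node (nat_lit 2) (.leaf [nat_lit 1, nat_lit 0, nat_lit 3, nat_lit 0, nat_lit 2, nat_lit 1]) (.leaf []))) (.node (nat_lit 4) (.leaf [nat_lit 2, nat_lit 0, nat_lit 2, nat_lit 0]) (.node (nat_lit 5) (.leaf [nat_lit 3, nat_lit 1, nat_lit 3, nat_lit 1]) (.leaf [nat_lit 1, nat_lit 0, nat_lit 2, nat_lit 1, nat_lit 0]))))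
theorem jh : qR.all (fun w => eqB (MG.sl32L.map Lev.b) (apF (fun y => apL (nat_lit 3) (nat_lit 7) MG.sl32T (jI.get y)) w) fun a => a) = true := by decide +kernel
noncomputable def jD : Tr (List ℕ) := (.node (nat_lit 2) (.node (nat_lit 1) (.leaf [nat_lit 5, nat_lit 1, nat_lit 5, nat_lit 4, nat_lit 2, nat_lit 4, nat_lit 1, nat_lit 3, nat_lit 2, nat_lit 0]) (.leaf [nat_lit 5, nat_lit 1, nat_lit 5, nat_lit 4, nat_lit 3, nat_lit 2, nat_lit 3, nat_lit 1, nat_lit 0])) (.node (nat_lit 3) (.leaf [nat_lit 2, nat_lit 1, nat_lit 5, nat_lit 4, nat_lit 1, nat_lit 0, nat_lit 3, nat_lit 2, nat_lit 0]) (.leaf [nat_lit 2, nat_lit 0, nat_lit 5, nat_lit 2, nat_lit 0, nat_lit 4, nat_lit 3, nat_lit 2, nat_lit 0, nat_lit 3])))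
theorem js : (surChk (nat_lit 3) (nat_lit 7) (MG.sl32L.map Lev.b) MG.sl32T jI (topN qL) jD (topN MG.sl32L)) = true := by decide +kernel
noncomputable def rt0 : ℕ := (nat_lit 0xbbd8459e29b39559b606920b418820)
noncomputable def rt1 : ℕ := (nat_lit 0x126a434a2f80d4c436cb3ccb475c20)
noncomputable def rt2 : ℕ := (nat_lit 0xb99944ca2b40d558366f3d824708a0)
noncomputable def rt3 : ℕ := (nat_lit 0x1be4d5d429b0a87992066200abba25)
noncomputable def rt4 : ℕ := (nat_lit 0x5580398590790515dd28298eea3655)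
noncomputable def rt5 : ℕ := (nat_lit 0x2ac8c7b46698254b1d09542f58844e)
noncomputable def rt6 : ℕ := (nat_lit 0x1598499c1078d555b5289183475cb1)
noncomputable def rT : Tr ℕ := (.node (nat_lit 3) (.node (nat_lit 1) (.leaf rt0) (.node (nat_lit 2) (.leaf rt1) (.leaf rt2)))
 (.node (nat_lit 5) (.node (nat_lit 4) (.leaf rt3) (.leaf rt4)) (.node (nat_lit 6) (.leaf rt5) (.leaf rt6))))
noncomputable def rL0 : Lev := ⟨(nat_lit 0), (nat_lit 6), (nat_lit 0x60005060004040000060601000600000500040602040300), (nat_lit 0x20001030002030000010302000300000200010202020200),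
 (.leaf 0),
 (.leaf 0)⟩
noncomputable def rL1 : Lev := ⟨(nat_lit 1), (nat_lit 3), (nat_lit 0x30000000000), (nat_lit 0x10000000000),
 (.leaf 0),
 (.leaf 0)⟩
noncomputable def rL2 : Lev := ⟨(nat_lit 2), (nat_lit 2), (nat_lit 0x20000000000000000000000000000000000000000000000), (nat_lit 0x10000000000000000000000000000000000000000000000),
 (.leaf 0),
 (.leaf 0)⟩
noncomputable def rL3 : Lev := ⟨(nat_lit 4), (nat_lit 1), (nat_lit 0x10000000000000000000000000000000000000000), (nat_lit 0x10000000000000000000000000000000000000000),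
 (.leaf 0),
 (.leaf 0)⟩
noncomputable def rL : List Lev := [rL0, rL1, rL2, rL3]
noncomputable def rE : Tr (List ℕ) := (.node (nat_lit 3) (.node (nat_lit 1) (.leaf [nat_lit 2]) (.node (nat_lit 2) (.leaf [nat_lit 3, nat_lit 2, nat_lit 3]) (.leaf [nat_lit 4, nat_lit 2, nat_lit 4, nat_lit 2])))
 (.node (nat_lit 5) (.node (nat_lit 4) (.leaf [nat_lit 5, nat_lit 0, nat_lit 5, nat_lit 2, nat_lit 0]) (.leaf [nat_lit 0, nat_lit 5, nat_lit 3, nat_lit 2, nat_lit 0, nat_lit 3, nat_lit 0])) (.node (nat_lit 6) (.leaf [nat_lit 3, nat_lit 5, nat_lit 4, nat_lit 2, nat_lit 4, nat_lit 2, nat_lit 3, nat_lit 0]) (.leaf [nat_lit 5, nat_lit 2, nat_lit 5, nat_lit 2]))))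
theorem rw_0 : rT.all2 (fun c w => isProd 24 (nat_lit 5) (nat_lit 31) qT c w) rE = true := by decide +kernel
theorem rw : rT.all2 (fun c w => isProd 24 (nat_lit 5) (nat_lit 31) qT c w) rE = true := rw_0
theorem rk : rE.all (fun w => band (allL w fun j => Nat.ble (Nat.succ j) (topN qL)) (eqB (MG.sl32L.map Lev.b) (apF (fun y => apL (nat_lit 3) (nat_lit 7) MG.sl32T (jI.get y)) w) fun a => a)) = true := by decide +kernel
theorem rc : band (tchainChk 24 (nat_lit 5) (nat_lit 31) rT rL) (band (Nat.ble 1 (chainOrd 7 MG.sl32L)) (Nat.ble (chainOrd 24 qL) (chainOrd 24 rL * chainOrd 7 MG.sl32L))) = true := by decide +kernel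
theorem rx : allR 0 24 (refu 24 (nat_lit 5) (nat_lit 31) rT ⟨fun _ _ => 0, fun _ _ _ => true, leafX (nat_lit 5) (nat_lit 31) (rL.map Lev.b) rT 7 (ap (nat_lit 5) (nat_lit 31) (rT.get 6))⟩ rL0 [rL1, rL2, rL3] []) = true := by decide +kernel
noncomputable def et0 : ℕ := (nat_lit 0x25822980f07a8655b928899976d2b2)
noncomputable def et1 : ℕ := (nat_lit 0x959d19de907d4a358528119a061d44)
noncomputable def et2 : ℕ := (nat_lit 0x2da959b5d07c64459d2851aec00443)
noncomputable def et3 : ℕ := (nat_lit 0xd88c9a870780f45c92869855896ee)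
noncomputable def eT : Tr ℕ := (.node (nat_lit 2) (.node (nat_lit 1) (.leaf et0) (.leaf et1)) (.node (nat_lit 3) (.leaf et2) (.leaf et3)))
noncomputable def eR : Tr (List ℕ) := (.node (nat_lit 5) (.node (nat_lit 2) (.node (nat_lit 1) (.leaf [nat_lit 0, nat_lit 0]) (.leaf [nat_lit 0, nat_lit 2, nat_lit 0, nat_lit 2])) (.node (nat_lit 3) (.leaf [nat_lit 0, nat_lit 1, nat_lit 0, nat_lit 1]) (.node (nat_lit 4) (.leaf [nat_lit 0, nat_lit 3, nat_lit 0, nat_lit 3]) (.leaf [nat_lit 1, nat_lit 1]))))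
 (.node (nat_lit 7) (.node (nat_lit 6) (.leaf [nat_lit 1, nat_lit 2, nat_lit 1, nat_lit 2]) (.leaf [nat_lit 1, nat_lit 3, nat_lit 1, nat_lit 3])) (.node (nat_lit 8) (.leaf [nat_lit 2, nat_lit 2]) (.node (nat_lit 9) (.leaf [nat_lit 2, nat_lit 3, nat_lit 2, nat_lit 3]) (.leaf [nat_lit 3, nat_lit 3])))))
noncomputable def eL0 : Lev := ⟨(nat_lit 0), (nat_lit 4), (nat_lit 0x20004040001040000040303000400000400030203040400), (nat_lit 0x20002030001020000010202000200000300030101040300),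
 (.node (nat_lit 2) (.node (nat_lit 1) (.leaf (nat_lit 0x300000004000600000000000800000000000200030004000000030000000000070000000500020002000500050001))
 (.leaf (nat_lit 0x3000500000001000400000000000200020003000000020000000000050000000300000002000400030001)))
 (.node (nat_lit 3) (.leaf (nat_lit 0x100000002000300000001000300000000000200000000000000020000000000030000000000010000000200030001))
 (.leaf (nat_lit 0x100000000000000000001000000000000000000010001000000000000000000000000000100010001000000000001)))),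
 (.node (nat_lit 2) (.node (nat_lit 1) (.leaf (nat_lit 0x200000000000000000000000000000000000000000302000000000202000000000001000000000000000202000000000001000202000102000102000001000001))
 (.leaf (nat_lit 0x400000400000000000401000502000000000000000602000500000400000000000600000000000000000400000000000401000000000502000502000401000401)))
 (.node (nat_lit 3) (.leaf (nat_lit 0x700000000000802000701000000000700000700000000000000000802000000000000000000000800000000000000000701000000000000000701000000000800000701000701))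
 (.leaf (nat_lit 0x900000000000000000000000000000900000000000000000000000000000900000901000000000000000000000000000000000000000900000901000901000000000000000901))))⟩
noncomputable def eL : List Lev := [eL0]
noncomputable def eE : Tr (List ℕ) := (.node (nat_lit 2) (.node (nat_lit 1) (.leaf [nat_lit 3, nat_lit 4, nat_lit 0]) (.leaf [nat_lit 5, nat_lit 4, nat_lit 2, nat_lit 1, nat_lit 0])) (.node (nat_lit 3) (.leaf [nat_lit 1, nat_lit 5, nat_lit 2, nat_lit 0]) (.leaf [nat_lit 5, nat_lit 2, nat_lit 1, nat_lit 0])))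
theorem ew_0 : eT.all2 (fun c w => isProd 24 (nat_lit 5) (nat_lit 31) rT c w) eE = true := by decide +kernel
theorem ew : eT.all2 (fun c w => isProd 24 (nat_lit 5) (nat_lit 31) rT c w) eE = true := ew_0
theorem elev0 : levChk 24 (nat_lit 5) (nat_lit 31) eT eR eL0 0 = true := by decide +kernel
theorem echain : Chain 24 (nat_lit 5) (nat_lit 31) eT eR eL := chain_one elev0
theorem esd : band (selChk eT eT (topN eL)) (eR.all fun w => eqB (rL.map Lev.b) (apL (nat_lit 5) (nat_lit 31) eT w) fun a => a) = true := by decide +kernel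
theorem etc : tchainChk 24 (nat_lit 5) (nat_lit 31) eT eL = true := by decide +kernel
theorem ex : allR 0 24 (refu 24 (nat_lit 5) (nat_lit 31) eT ⟨fun _ _ => 0, fun _ _ _ => true, fun f => eqB (eL.map Lev.b) (itF f 2) fun a => a⟩ eL0 [] []) = true := by decide +kernel
noncomputable def cpD : Tr (List ℕ) := (.node (nat_lit 2) (.node (nat_lit 1) (.leaf [nat_lit 1, nat_lit 5, nat_lit 2, nat_lit 1, nat_lit 3, nat_lit 2]) (.leaf [nat_lit 2, nat_lit 5, nat_lit 2, nat_lit 1, nat_lit 4, nat_lit 2, nat_lit 1, nat_lit 0, nat_lit 3])) (.node (nat_lit 3) (.leaf [nat_lit 2, nat_lit 0, nat_lit 5, nat_lit 2, nat_lit 1, nat_lit 4, nat_lit 2, nat_lit 1, nat_lit 0, nat_lit 3, nat_lit 0]) (.leaf [nat_lit 1, nat_lit 5, nat_lit 2, nat_lit 1, nat_lit 0, nat_lit 4, nat_lit 3, nat_lit 0, nat_lit 3])))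
theorem cpa : surChk (nat_lit 3) (nat_lit 7) (MG.sl32L.map Lev.b) MG.sl32T jI (topN qL) cpD (topN MG.sl32L) = true := by decide +kernel
theorem cpb : homChk (nat_lit 5) (nat_lit 31) (qL.map Lev.b) qT cpD MG.sl32R = true := by decide +kernel
noncomputable def zt0 : ℕ := (nat_lit 0x1598499c1078d555b5289183475cb1)
noncomputable def zT : Tr ℕ := (.leaf zt0)
noncomputable def zL0 : Lev := ⟨(nat_lit 0), (nat_lit 1), (nat_lit 0x10000000000000000000000000000000000), (nat_lit 0x10000000000000000000000000000000000),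
 (.leaf 0),
 (.leaf 0)⟩
noncomputable def zL1 : Lev := ⟨(nat_lit 17), (nat_lit 0), (nat_lit 0x0), (nat_lit 0x0),
 (.leaf 0),
 (.leaf 0)⟩
noncomputable def zL2 : Lev := ⟨(nat_lit 1), (nat_lit 0), (nat_lit 0x0), (nat_lit 0x0),
 (.leaf 0),
 (.leaf 0)⟩
noncomputable def zL3 : Lev := ⟨(nat_lit 5), (nat_lit 0), (nat_lit 0x0), (nat_lit 0x0),
 (.leaf 0),
 (.leaf 0)⟩
noncomputable def zL4 : Lev := ⟨(nat_lit 2), (nat_lit 0), (nat_lit 0x0), (nat_lit 0x0),
 (.leaf 0),
 (.leaf 0)⟩
noncomputable def zL5 : Lev := ⟨(nat_lit 23), (nat_lit 0), (nat_lit 0x0), (nat_lit 0x0),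
 (.leaf 0),
 (.leaf 0)⟩
noncomputable def zL6 : Lev := ⟨(nat_lit 4), (nat_lit 0), (nat_lit 0x0), (nat_lit 0x0),
 (.leaf 0),
 (.leaf 0)⟩
noncomputable def zL : List Lev := [zL0, zL1, zL2, zL3, zL4, zL5, zL6]
noncomputable def zE : Tr (List ℕ) := (.leaf [nat_lit 5, nat_lit 0, nat_lit 5, nat_lit 0])
theorem zw_0 : zT.all2 (fun c w => isProd 24 (nat_lit 5) (nat_lit 31) caT c w) zE = true := by decide +kernel
theorem zw : zT.all2 (fun c w => isProd 24 (nat_lit 5) (nat_lit 31) caT c w) zE = true := zw_0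
noncomputable def zJ : List Pr := [prC (caL.map Lev.b) ((List.range 6).map fun j => (ap 5 31 (rT.get j), ap 5 31 (rT.get j)))]
noncomputable def zF0 : ℕ × ℕ := ((nat_lit 0xff00ffff00ff000000ffffff00ff0000ff00ffffffffff00), (nat_lit 0))
theorem zb0 : allR 0 24 (ptB 24 (nat_lit 5) (nat_lit 31) caT zT zJ caL0 [caL1, caL2, caL3, caL4, caL5, caL6] zL0 (dg []) zF0.1 zF0.2) = true := by decide +kernel
noncomputable def zF1 : ℕ × ℕ := ((nat_lit 0), (nat_lit 0))
theorem zb1 : allR 0 24 (ptB 24 (nat_lit 5) (nat_lit 31) caT zT zJ caL1 [caL2, caL3, caL4, caL5, caL6] zL1 (dg [caL0.b]) zF1.1 zF1.2) = true := by decide +kernel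
noncomputable def zF2 : ℕ × ℕ := ((nat_lit 0xff00ffff00ff000000ffffff00ff0000ff00ffffffff0000), (nat_lit 0))
theorem zb2 : allR 0 24 (ptB 24 (nat_lit 5) (nat_lit 31) caT zT zJ caL2 [caL3, caL4, caL5, caL6] zL2 (dg [caL1.b, caL0.b]) zF2.1 zF2.2) = true := by decide +kernel
noncomputable def zF3 : ℕ × ℕ := ((nat_lit 0), (nat_lit 0))
theorem zb3 : allR 0 24 (ptB 24 (nat_lit 5) (nat_lit 31) caT zT zJ caL3 [caL4, caL5, caL6] zL3 (dg [caL2.b, caL1.b, caL0.b]) zF3.1 zF3.2) = true := by decide +kernel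
noncomputable def zF4 : ℕ × ℕ := ((nat_lit 0xff00ffff00ff000000ffffff00ff0000ff0000ffff000000), (nat_lit 0))
theorem zb4 : allR 0 24 (ptB 24 (nat_lit 5) (nat_lit 31) caT zT zJ caL4 [caL5, caL6] zL4 (dg [caL3.b, caL2.b, caL1.b, caL0.b]) zF4.1 zF4.2) = true := by decide +kernel
noncomputable def zF5 : ℕ × ℕ := ((nat_lit 0), (nat_lit 0))
theorem zb5 : allR 0 24 (ptB 24 (nat_lit 5) (nat_lit 31) caT zT zJ caL5 [caL6] zL5 (dg [caL4.b, caL3.b, caL2.b, caL1.b, caL0.b]) zF5.1 zF5.2) = true := by decide +kernel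
noncomputable def zF6 : ℕ × ℕ := ((nat_lit 0xffff00ff00000000ffff00ff0000ff00000000000000), (nat_lit 0))
theorem zb6 : allR 0 24 (ptB 24 (nat_lit 5) (nat_lit 31) caT zT zJ caL6 [] zL6 (dg [caL5.b, caL4.b, caL3.b, caL2.b, caL1.b, caL0.b]) zF6.1 zF6.2) = true := by decide +kernel
theorem zbk : Bk 24 (nat_lit 5) (nat_lit 31) caT zT zJ caL zL [zF0, zF1, zF2, zF3, zF4, zF5, zF6] [] :=
  ⟨rfl, zb0, rfl, zb1, rfl, zb2, rfl, zb3, rfl, zb4, rfl, zb5, rfl, zb6, trivial⟩
theorem zm : zT.all (fun c => cmL 5 31 (caL.map Lev.b) rT 6 (ap 5 31 c)) = true := by decide +kernel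
theorem zq : zT.all (fun c => bor (eqB (caL.map Lev.b) (ap 5 31 c) fun a => a) (eqB (caL.map Lev.b) (ap 5 31 c) z2a)) = true := by decide +kernel
noncomputable def cg : ℕ := (nat_lit 0x51a2240c899c8b48357663ea7b85c0)
noncomputable def cw : List ℕ := [nat_lit 5, nat_lit 4, nat_lit 2, nat_lit 1, nat_lit 0]
theorem ztc : tchainChk 24 (nat_lit 5) (nat_lit 31) zT zL = true := by decide +kernel
theorem caa {C : H7.Coding GolayPt} (hC : GC C) {x : M24} (r : RepF 24 C.dec z2a x) : ∃ φ : centralizer {x} →* Matrix.SpecialLinearGroup (Fin 3) (ZMod 2), Function.Surjective φ ∧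
    H2.LX (φ.ker.map (centralizer {x}).subtype) x ∧ Nat.card φ.ker = 2 ^ 7 ∧ (∃ E : Subgroup φ.ker, Nat.card E = 2 ^ 4 ∧ ∀ y : E, y ^ 2 = 1) ∧
    (∃ g : M24, g * x * g⁻¹ ∈ φ.ker.map (centralizer {x}).subtype ∧ g * x * g⁻¹ ≠ x) ∧
    ∃ H : Subgroup (centralizer {x}), φ.ker.IsComplement' H ∧ Nonempty (H ≃* Matrix.SpecialLinearGroup (Fin 3) (ZMod 2)) := by
  have C0 := cach hC r
  have S := (C0.std (lets_words C0.lets qE qw) qchain qsd)
  have CW := MG.sl32ch (exm2 (ZMod.card 2)) (ZMod.card 2)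
  have SW := MG.sl32std (exm2 (ZMod.card 2)) (ZMod.card 2)
  obtain ⟨φ, h1, h2, h3⟩ := (S.surW CW jh js)
  have CK := (Ch.ker (h2.lets_ker CW.base CW.inj rw rk) S.inj h3 rc)
  have A := hC.ch GB.m0c
  have X := ((xs_of_ch CK (z := 6) (j := 7) (by decide +kernel) rx)).map (centralizer {x}).subtype fun _ _ h => Subtype.ext h
  rw [show (centralizer {x}).subtype (CK.lets.e 6) = x from A.base.eq_of_rep (CK.lets.rep 6) r (by decide +kernel)] at X
  have CZ := C0.centL (e := fun j => CK.lets.e j) CK.lets.rep 6 (lets_words C0.lets zE zw) zm ztc zbk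
  obtain ⟨E, CE, -⟩ := (CK.gen (lets_words CK.lets eE ew) echain esd etc)
  obtain ⟨g, rg⟩ := hC.ex (f := ap 5 31 cg) (by decide +kernel)
  have e := (eqB_iff A.base A.inj (rg.comp r) (RepF.comp (g := (ev CK.lets.e cw).1.1) (apL_rep CK.lets.rep cw) rg)).1 (by decide +kernel)
  refine ⟨φ, h1, ⟨X, fun g hg => ?_, fun g hg y ⟨y', hy, e⟩ => ?_⟩, CK.card.trans (by decide +kernel), ⟨E, CE.card.trans (by decide +kernel), CE.expo ex⟩,
    ⟨g, ?_, fun h => ?_⟩, (compl_of S SW h2 cpa cpb)⟩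
  · refine CZ.map.sub_le (fun y _ => ?_) ⟨⟨g, mem_centralizer_singleton_iff.2 (hg x X.zQ)⟩, ?_, rfl⟩
    · rcases (bor_eq_true _ _).1 (Tr.all_get zq y) with h | h
      · rw [show (CZ.map.lets.e y).1 = 1 from congrArg Subtype.val ((eqB_iff C0.base C0.inj (g := ⟨_, map_subtype_le _ (CZ.map.lets.e y).2⟩)
          (CZ.map.lets.rep y) (.id _ _)).1 h)]; exact one_mem _
      · rw [show (CZ.map.lets.e y).1 = x from congrArg Subtype.val ((eqB_iff C0.base C0.inj (g := ⟨_, map_subtype_le _ (CZ.map.lets.e y).2⟩)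
          (g' := ⟨x, mem_centralizer_singleton_iff.2 rfl⟩) (CZ.map.lets.rep y) r).1 h)]; exact X.zQ
    · rintro _ ⟨j, -, rfl⟩
      exact Subtype.ext (hg _ ⟨_, (CK.lets.e j).2, rfl⟩).symm
  · exact ⟨_, φ.normal_ker.conj_mem _ hy ⟨g, mem_centralizer_singleton_iff.2 hg⟩, e ▸ rfl⟩
  · rw [e, mul_inv_cancel_right]; exact ⟨_, (ev CK.lets.e cw).2, rfl⟩
  · exact absurd ((eqB_iff A.base A.inj (rg.comp r) (r.comp rg)).2 (mul_inv_eq_iff_eq_mul.1 h)) (by decide +kernel)

end H8.GH
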