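import Cfsg.Agent.H8.Glue
import Cfsg.Agent.H8.Cover

/-! H8.GL213: permutation model of order 1092 on 14 points: `P`, `lets`, `std`, `card`, `base` (generated certificate) -/

set_option autoImplicit false
set_option maxRecDepth 200000

namespace H8.L213

noncomputable def t0 : ℕ := (nat_lit 0x146b723d095a8c)
noncomputable def t1 : ℕ := (nat_lit 0x2d18605a9cb347)
noncomputable def t2 : ℕ := (nat_lit 0x60a2419b3c78d5)
noncomputable def t3 : ℕ := (nat_lit 0xc4365a09712db8)
noncomputable def t4 : ℕ := (nat_lit 0x7a4dc825b31960)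
noncomputable def t5 : ℕ := (nat_lit 0xa95c28d16b4730)
noncomputable def t6 : ℕ := (nat_lit 0x93d6ab285c7140)
noncomputable def t7 : ℕ := (nat_lit 0xb489d63a51c720)
noncomputable def t8 : ℕ := (nat_lit 0xb852c963da7410)
noncomputable def t9 : ℕ := (nat_lit 0x47ad369c258b10)
noncomputable def t10 : ℕ := (nat_lit 0xa62b73c84d9510)
noncomputable def t11 : ℕ := (nat_lit 0x318a2b6745d9c0)
noncomputable def t12 : ℕ := (nat_lit 0xbadc4830197256)
noncomputable def G0 : Tr ℕ := (.node (nat_lit 1) (.leaf t0)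
 (.leaf t1))
noncomputable def T' : Tr ℕ := (.node (nat_lit 6) (.node (nat_lit 3) (.node (nat_lit 1) (.leaf t0)
 (.node (nat_lit 2) (.leaf t1)
 (.leaf t2)))
 (.node (nat_lit 4) (.leaf t3)
 (.node (nat_lit 5) (.leaf t4)
 (.leaf t5))))
 (.node (nat_lit 9) (.node (nat_lit 7) (.leaf t6)
 (.node (nat_lit 8) (.leaf t7)
 (.leaf t8)))
 (.node (nat_lit 11) (.node (nat_lit 10) (.leaf t9)
 (.leaf t10))
 (.node (nat_lit 12) (.leaf t11)
 (.leaf t12)))))
noncomputable def D : Tr (List ℕ) := (.node (nat_lit 6) (.node (nat_lit 3) (.node (nat_lit 1) (.leaf [])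
 (.node (nat_lit 2) (.leaf [])
 (.leaf [nat_lit 0, nat_lit 0, nat_lit 0, nat_lit 0, nat_lit 0, nat_lit 0])))
 (.node (nat_lit 4) (.leaf [nat_lit 1, nat_lit 1, nat_lit 1, nat_lit 1, nat_lit 1, nat_lit 1])
 (.node (nat_lit 5) (.leaf [nat_lit 1, nat_lit 2, nat_lit 2, nat_lit 3, nat_lit 3])
 (.leaf [nat_lit 1, nat_lit 1, nat_lit 0, nat_lit 0, nat_lit 3]))))
 (.node (nat_lit 9) (.node (nat_lit 7) (.leaf [nat_lit 1, nat_lit 2, nat_lit 3, nat_lit 2, nat_lit 1, nat_lit 1])
 (.node (nat_lit 8) (.leaf [nat_lit 3, nat_lit 3, nat_lit 0, nat_lit 1, nat_lit 0, nat_lit 3])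
 (.leaf [nat_lit 4, nat_lit 4, nat_lit 6, nat_lit 4, nat_lit 4, nat_lit 6])))
 (.node (nat_lit 11) (.node (nat_lit 10) (.leaf [nat_lit 4, nat_lit 7, nat_lit 4, nat_lit 6, nat_lit 4, nat_lit 4, nat_lit 4])
 (.leaf [nat_lit 5, nat_lit 5, nat_lit 5, nat_lit 7, nat_lit 5, nat_lit 6, nat_lit 5]))
 (.node (nat_lit 12) (.leaf [nat_lit 7, nat_lit 5, nat_lit 10, nat_lit 8])
 (.leaf [nat_lit 5, nat_lit 2, nat_lit 4, nat_lit 10, nat_lit 8])))))
noncomputable def T : Tr ℕ := (.node (nat_lit 2) (.node (nat_lit 1) (.leaf t9)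
 (.leaf t10))
 (.node (nat_lit 3) (.leaf t11)
 (.leaf t12)))
noncomputable def RL_0 : Tr (List ℕ) := (.node (nat_lit 2) (.node (nat_lit 1) (.leaf [nat_lit 2, nat_lit 0, nat_lit 2, nat_lit 0, nat_lit 2, nat_lit 0])
 (.leaf [nat_lit 0, nat_lit 1]))
 (.node (nat_lit 3) (.leaf [nat_lit 0, nat_lit 0, nat_lit 0, nat_lit 0, nat_lit 0, nat_lit 0])
 (.leaf [nat_lit 3, nat_lit 1, nat_lit 1, nat_lit 2, nat_lit 3, nat_lit 1, nat_lit 1, nat_lit 2])))
noncomputable def RL_1 : Tr (List ℕ) := (.node (nat_lit 6) (.node (nat_lit 5) (.leaf [nat_lit 0, nat_lit 2, nat_lit 1, nat_lit 3, nat_lit 0, nat_lit 3, nat_lit 1, nat_lit 3])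
 (.leaf [nat_lit 2, nat_lit 2]))
 (.node (nat_lit 7) (.leaf [nat_lit 0, nat_lit 0, nat_lit 0, nat_lit 2, nat_lit 0, nat_lit 0, nat_lit 2, nat_lit 1, nat_lit 2, nat_lit 0, nat_lit 2, nat_lit 1, nat_lit 1, nat_lit 2])
 (.node (nat_lit 8) (.leaf [nat_lit 3, nat_lit 3])
 (.leaf [nat_lit 3, nat_lit 0, nat_lit 0, nat_lit 3, nat_lit 0, nat_lit 0, nat_lit 3, nat_lit 0, nat_lit 0]))))
noncomputable def RL : Tr (List ℕ) := (.node (nat_lit 4) RL_0 RL_1)
noncomputable def L0 : Lev := ⟨(nat_lit 0), (nat_lit 4), (nat_lit 0x302030402010304040401010300), (nat_lit 0x402030303020201040403040300),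
 (.node (nat_lit 2) (.node (nat_lit 1) (.leaf (nat_lit 0x80003000300060004000000010001000400070000000000040000))
 (.leaf (nat_lit 0x70000000100020000000100020001000600090005000300050000)))
 (.node (nat_lit 3) (.leaf (nat_lit 0x1000000050002000100000001000a00090001000300000000))
 (.leaf (nat_lit 0x70001000800000001000200040000000000000005000600010001)))),
 (.node (nat_lit 2) (.node (nat_lit 1) (.leaf (nat_lit 0x202000100000100000001000200000000000100000100000100000100000000000000000005000000))
 (.leaf (nat_lit 0x101000000000101000402000000000101000302000101000406000101000101000301000101000000)))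
 (.node (nat_lit 3) (.leaf (nat_lit 0x500000000000608000000000501000000000501000500000000000501000501000000000000))
 (.leaf (nat_lit 0x403000700000701000000000700000405000803000000000000000000000701000300000701000701))))⟩
noncomputable def L1 : Lev := ⟨(nat_lit 1), (nat_lit 3), (nat_lit 0x303030202010201010201030000), (nat_lit 0x501040503030202050604040000),
 (.node (nat_lit 1) (.leaf (nat_lit 0x10001000100030002000000010000000000050000000400000000))
 (.node (nat_lit 2) (.leaf (nat_lit 0x40001000500000000000100000001000600000003000100000000))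
 (.leaf (nat_lit 0x20001000100020003000400030001000000010000)))),
 (.node (nat_lit 1) (.leaf (nat_lit 0x100000100000100000001000200000000000100000000000000000201000000000005000000000000))
 (.node (nat_lit 2) (.leaf (nat_lit 0x101000101000101000000000000000101000000000101000101000000000101000101000000000000))
 (.leaf (nat_lit 0x608000500000501000002000501000500000000000501000000000501000000))))⟩
noncomputable def L2 : Lev := ⟨(nat_lit 2), (nat_lit 2), (nat_lit 0x100020200000000010100000000), (nat_lit 0x300010200000000010200000000),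
 (.node (nat_lit 1) (.leaf (nat_lit 0x100020000000000000000000000000000000100000000))
 (.leaf (nat_lit 0x30000000000000000000000000000000100010000000100000000))),
 (.node (nat_lit 1) (.leaf (nat_lit 0x100000203000000000000000000000000000000000000000000000100000000000000))
 (.leaf (nat_lit 0x101000000000000000000000000000000000000000000000101000101000000000101000000000000)))⟩
noncomputable def L : List Lev := [L0, L1, L2]
noncomputable abbrev P := PG 14 (nat_lit 4) (nat_lit 15) G0 2
theorem gen : genChk 14 (nat_lit 4) (nat_lit 15) G0 2 = true := by decide +kernel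
theorem slp : slpChk 14 (nat_lit 4) (nat_lit 15) T' D 2 11 = true := by decide +kernel
theorem lets : Lets P 14 (nat_lit 4) (nat_lit 15) (Fin.ofNat 14) T := lets_PG (T' := T') D 11 gen (by decide +kernel) slp
theorem lev0 : levChk 14 (nat_lit 4) (nat_lit 15) T RL L0 L1.N = true := by decide +kernel
theorem lev1 : levChk 14 (nat_lit 4) (nat_lit 15) T RL L1 L2.N = true := by decide +kernel
theorem lev2 : levChk 14 (nat_lit 4) (nat_lit 15) T RL L2 0 = true := by decide +kernel
theorem chain : Chain 14 (nat_lit 4) (nat_lit 15) T RL L := chain_cons lev0 <| chain_cons lev1 <| chain_one lev2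
theorem rels : RL.all (fixAll 14 (nat_lit 4) (nat_lit 15) T) = true := by decide +kernel
noncomputable def E : Tr (List ℕ) := (.node (nat_lit 1) (.leaf [nat_lit 0, nat_lit 3, nat_lit 0, nat_lit 2, nat_lit 0, nat_lit 0])
 (.leaf [nat_lit 2, nat_lit 3, nat_lit 0]))
theorem std : Std P 14 (nat_lit 4) (nat_lit 15) (Fin.ofNat 14) T RL L := std_PG' gen lets chain rels E (allB_iff.1 (by decide +kernel))
theorem card : Nat.card P = 1092 := std.card.trans (by decide +kernel)
def B : List ℕ := [nat_lit 0, nat_lit 1, nat_lit 2]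
theorem base : IsB P 14 (Fin.ofNat 14) B := std.base

end H8.L213
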