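import Cfsg.Agent.H8.Glue
import Cfsg.Agent.H8.Cover

/-! H8.GL24v: permutation model of order 60 on 15 points: `P`, `lets`, `std`, `card`, `base` (generated certificate) -/

set_option autoImplicit false
set_option maxRecDepth 200000

namespace H8.L24v

noncomputable def t0 : ℕ := (nat_lit 0xed987cba3456120)
noncomputable def t1 : ℕ := (nat_lit 0xa65ebdc29807341)
noncomputable def t2 : ℕ := (nat_lit 0xb98ae653dc12704)
noncomputable def t3 : ℕ := (nat_lit 0xc5e2a7096d34b18)
noncomputable def t4 : ℕ := (nat_lit 0xb92ead356708c14)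
noncomputable def t5 : ℕ := (nat_lit 0x27bca54d6980e13)
noncomputable def t6 : ℕ := (nat_lit 0xed3ab678921c540)
noncomputable def G0 : Tr ℕ := (.node (nat_lit 1) (.leaf t0)
 (.leaf t1))
noncomputable def T' : Tr ℕ := (.node (nat_lit 3) (.node (nat_lit 1) (.leaf t0)
 (.node (nat_lit 2) (.leaf t1)
 (.leaf t2)))
 (.node (nat_lit 5) (.node (nat_lit 4) (.leaf t3)
 (.leaf t4))
 (.node (nat_lit 6) (.leaf t5)
 (.leaf t6))))
noncomputable def D : Tr (List ℕ) := (.node (nat_lit 3) (.node (nat_lit 1) (.leaf [])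
 (.node (nat_lit 2) (.leaf [])
 (.leaf [nat_lit 1, nat_lit 1])))
 (.node (nat_lit 5) (.node (nat_lit 4) (.leaf [nat_lit 1, nat_lit 0, nat_lit 2])
 (.leaf [nat_lit 0, nat_lit 1, nat_lit 0, nat_lit 2, nat_lit 0, nat_lit 1, nat_lit 0, nat_lit 1, nat_lit 1, nat_lit 0, nat_lit 2]))
 (.node (nat_lit 6) (.leaf [nat_lit 4, nat_lit 3])
 (.leaf [nat_lit 1, nat_lit 4]))))
noncomputable def T : Tr ℕ := (.node (nat_lit 1) (.leaf t5)
 (.node (nat_lit 2) (.leaf t3)
 (.leaf t6)))
noncomputable def RL_0 : Tr (List ℕ) := (.node (nat_lit 3) (.node (nat_lit 1) (.leaf [nat_lit 0, nat_lit 0])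
 (.node (nat_lit 2) (.leaf [nat_lit 0, nat_lit 1, nat_lit 0, nat_lit 1])
 (.leaf [nat_lit 2, nat_lit 0, nat_lit 1, nat_lit 2, nat_lit 0, nat_lit 1, nat_lit 2, nat_lit 0, nat_lit 1])))
 (.node (nat_lit 5) (.node (nat_lit 4) (.leaf [nat_lit 2, nat_lit 0, nat_lit 2, nat_lit 0, nat_lit 2, nat_lit 0, nat_lit 2, nat_lit 0, nat_lit 2, nat_lit 0])
 (.leaf [nat_lit 1, nat_lit 1]))
 (.node (nat_lit 6) (.leaf [nat_lit 2, nat_lit 1, nat_lit 2, nat_lit 1, nat_lit 2, nat_lit 1, nat_lit 2, nat_lit 1, nat_lit 2, nat_lit 1])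
 (.leaf [nat_lit 2, nat_lit 2]))))
noncomputable def RL : Tr (List ℕ) := RL_0
noncomputable def L0 : Lev := ⟨(nat_lit 1), (nat_lit 3), (nat_lit 0x20103010302010303020302020002), (nat_lit 0x40403040504020305050102050003),
 (.node (nat_lit 1) (.leaf (nat_lit 0x200000001000000040002000000010005000300010002000300000003))
 (.node (nat_lit 2) (.leaf (nat_lit 0x10001000100070000000100010004000000010000000000000000))
 (.leaf (nat_lit 0x600020000000100000001000100000000000300000001000400010003)))),
 (.node (nat_lit 1) (.leaf (nat_lit 0x100000000000000000000000305000100000000000001000207000001000001000100000001000000000001))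
 (.node (nat_lit 2) (.leaf (nat_lit 0x400000401000400000208000000000400000401000505000000000400000000000000000000000000))
 (.leaf (nat_lit 0x308000304000000000600000000000600000600000000000000000200000000000601000601000601000200))))⟩
noncomputable def L1 : Lev := ⟨(nat_lit 0), (nat_lit 2), (nat_lit 0x20000000201000000), (nat_lit 0x10000000201000000),
 (.node (nat_lit 1) (.leaf (nat_lit 0x200000000000000030000000000000001))
 (.leaf (nat_lit 0x1000000000001))),
 (.node (nat_lit 1) (.leaf (nat_lit 0x102000000000000000000000001000000000000000000000001))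
 (.leaf (nat_lit 0x401000000000000000401)))⟩
noncomputable def L : List Lev := [L0, L1]
noncomputable abbrev P := PG 15 (nat_lit 4) (nat_lit 15) G0 2
theorem gen : genChk 15 (nat_lit 4) (nat_lit 15) G0 2 = true := by decide +kernel
theorem slp : slpChk 15 (nat_lit 4) (nat_lit 15) T' D 2 5 = true := by decide +kernel
theorem lets : Lets P 15 (nat_lit 4) (nat_lit 15) (Fin.ofNat 15) T := lets_PG (T' := T') D 5 gen (by decide +kernel) slp
theorem lev0 : levChk 15 (nat_lit 4) (nat_lit 15) T RL L0 L1.N = true := by decide +kernel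
theorem lev1 : levChk 15 (nat_lit 4) (nat_lit 15) T RL L1 0 = true := by decide +kernel
theorem chain : Chain 15 (nat_lit 4) (nat_lit 15) T RL L := chain_cons lev0 <| chain_one lev1
theorem rels : RL.all (fixAll 15 (nat_lit 4) (nat_lit 15) T) = true := by decide +kernel
noncomputable def E : Tr (List ℕ) := (.node (nat_lit 1) (.leaf [nat_lit 1, nat_lit 0, nat_lit 2, nat_lit 1, nat_lit 2, nat_lit 1, nat_lit 0])
 (.leaf [nat_lit 2, nat_lit 1, nat_lit 0]))
theorem std : Std P 15 (nat_lit 4) (nat_lit 15) (Fin.ofNat 15) T RL L := std_PG' gen lets chain rels E (allB_iff.1 (by decide +kernel))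
theorem card : Nat.card P = 60 := std.card.trans (by decide +kernel)
def B : List ℕ := [nat_lit 1, nat_lit 0]
theorem base : IsB P 15 (Fin.ofNat 15) B := std.base

end H8.L24v
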