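import Cfsg.Agent.H8.Glue
import Cfsg.Agent.H8.Cover

/-! H8.GL28: permutation model of order 504 on 9 points: `P`, `lets`, `std`, `card`, `base` (generated certificate) -/

set_option autoImplicit false
set_option maxRecDepth 200000

namespace H8.L28

noncomputable def t0 : ℕ := (nat_lit 0x128057364)
noncomputable def t1 : ℕ := (nat_lit 0x750214683)
noncomputable def t2 : ℕ := (nat_lit 0x631402785)
noncomputable def t3 : ℕ := (nat_lit 0x182730546)
noncomputable def t4 : ℕ := (nat_lit 0x726431580)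
noncomputable def t5 : ℕ := (nat_lit 0x186254730)
noncomputable def t6 : ℕ := (nat_lit 0x752683140)
noncomputable def t7 : ℕ := (nat_lit 0x485713620)
noncomputable def t8 : ℕ := (nat_lit 0x534628710)
noncomputable def t9 : ℕ := (nat_lit 0x325867410)
noncomputable def t10 : ℕ := (nat_lit 0x154762380)
noncomputable def t11 : ℕ := (nat_lit 0x305618247)
noncomputable def G0 : Tr ℕ := (.node (nat_lit 1) (.leaf t0)
 (.leaf t1))
noncomputable def T' : Tr ℕ := (.node (nat_lit 6) (.node (nat_lit 3) (.node (nat_lit 1) (.leaf t0)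
 (.node (nat_lit 2) (.leaf t1)
 (.leaf t2)))
 (.node (nat_lit 4) (.leaf t3)
 (.node (nat_lit 5) (.leaf t4)
 (.leaf t5))))
 (.node (nat_lit 9) (.node (nat_lit 7) (.leaf t6)
 (.node (nat_lit 8) (.leaf t7)
 (.leaf t8)))
 (.node (nat_lit 10) (.leaf t9)
 (.node (nat_lit 11) (.leaf t10)
 (.leaf t11)))))
noncomputable def D : Tr (List ℕ) := (.node (nat_lit 6) (.node (nat_lit 3) (.node (nat_lit 1) (.leaf [])
 (.node (nat_lit 2) (.leaf [])
 (.leaf [nat_lit 0, nat_lit 0])))
 (.node (nat_lit 4) (.leaf [nat_lit 1, nat_lit 1, nat_lit 1, nat_lit 1, nat_lit 1, nat_lit 1, nat_lit 1, nat_lit 1])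
 (.node (nat_lit 5) (.leaf [nat_lit 0, nat_lit 1, nat_lit 1, nat_lit 2, nat_lit 2, nat_lit 3])
 (.leaf [nat_lit 1, nat_lit 0, nat_lit 0, nat_lit 3, nat_lit 3, nat_lit 2]))))
 (.node (nat_lit 9) (.node (nat_lit 7) (.leaf [nat_lit 0, nat_lit 3, nat_lit 3, nat_lit 0, nat_lit 1, nat_lit 0])
 (.node (nat_lit 8) (.leaf [nat_lit 2, nat_lit 3, nat_lit 2, nat_lit 1, nat_lit 1, nat_lit 2])
 (.leaf [nat_lit 4, nat_lit 7, nat_lit 5])))
 (.node (nat_lit 10) (.leaf [nat_lit 4, nat_lit 6, nat_lit 5])
 (.node (nat_lit 11) (.leaf [nat_lit 4, nat_lit 9])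
 (.leaf [nat_lit 7, nat_lit 2, nat_lit 9, nat_lit 9])))))
noncomputable def T : Tr ℕ := (.node (nat_lit 2) (.node (nat_lit 1) (.leaf t8)
 (.leaf t9))
 (.node (nat_lit 3) (.leaf t10)
 (.leaf t11)))
noncomputable def RL_0 : Tr (List ℕ) := (.node (nat_lit 3) (.node (nat_lit 1) (.leaf [nat_lit 0, nat_lit 2, nat_lit 1, nat_lit 3, nat_lit 0, nat_lit 3, nat_lit 1, nat_lit 3])
 (.node (nat_lit 2) (.leaf [nat_lit 0, nat_lit 1])
 (.leaf [nat_lit 0, nat_lit 0, nat_lit 0, nat_lit 0, nat_lit 0, nat_lit 0, nat_lit 0])))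
 (.node (nat_lit 5) (.node (nat_lit 4) (.leaf [nat_lit 1, nat_lit 1, nat_lit 1, nat_lit 2, nat_lit 0, nat_lit 0, nat_lit 2, nat_lit 0, nat_lit 2])
 (.leaf [nat_lit 3, nat_lit 0, nat_lit 2, nat_lit 0, nat_lit 3, nat_lit 0, nat_lit 2, nat_lit 0]))
 (.node (nat_lit 6) (.leaf [nat_lit 2, nat_lit 2])
 (.leaf [nat_lit 3, nat_lit 3]))))
noncomputable def RL : Tr (List ℕ) := RL_0
noncomputable def L0 : Lev := ⟨(nat_lit 0), (nat_lit 4), (nat_lit 0x20402030102010400), (nat_lit 0x30103020302020400),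
 (.node (nat_lit 2) (.node (nat_lit 1) (.leaf (nat_lit 0x500010004000100000001000000090000))
 (.leaf (nat_lit 0x100000006000300000001000a0000)))
 (.node (nat_lit 3) (.leaf (nat_lit 0xc000100080000000700020003000b0000))
 (.leaf (nat_lit 0xd00000009000a0001000e000200000001)))),
 (.node (nat_lit 2) (.node (nat_lit 1) (.leaf (nat_lit 0x203000100000100000100000000000100000000000004000000))
 (.leaf (nat_lit 0x101000000000101000301000000000101000101000000)))
 (.node (nat_lit 3) (.leaf (nat_lit 0x500000500000500000000000303000402000501000406000000))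
 (.leaf (nat_lit 0x400000000000404000601000600000601000005000000000601))))⟩
noncomputable def L1 : Lev := ⟨(nat_lit 1), (nat_lit 3), (nat_lit 0x30102020101030000), (nat_lit 0x10303020402030000),
 (.node (nat_lit 1) (.leaf (nat_lit 0x100000004000100000000000300000000))
 (.node (nat_lit 2) (.leaf (nat_lit 0x100020000000000050001000100000000))
 (.leaf (nat_lit 0x30006000200050001000000010000)))),
 (.node (nat_lit 1) (.leaf (nat_lit 0x100000000000201000100000000000000000100000000000000))
 (.node (nat_lit 2) (.leaf (nat_lit 0x101000300000000000000000101000101000101000000000000))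
 (.leaf (nat_lit 0x500000500000306000303000500000000000501000000))))⟩
noncomputable def L2 : Lev := ⟨(nat_lit 2), (nat_lit 2), (nat_lit 0x20201010102000000), (nat_lit 0x30102030102000000),
 (.node (nat_lit 1) (.leaf (nat_lit 0x200010000000000000001000100000000))
 (.leaf (nat_lit 0x1000300010000000100000000))),
 (.node (nat_lit 1) (.leaf (nat_lit 0x203000100000000000000000000000100000100000000000000))
 (.leaf (nat_lit 0x101000101000101000000000101000000000000)))⟩
noncomputable def L : List Lev := [L0, L1, L2]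
noncomputable abbrev P := PG 9 (nat_lit 4) (nat_lit 15) G0 2
theorem gen : genChk 9 (nat_lit 4) (nat_lit 15) G0 2 = true := by decide +kernel
theorem slp : slpChk 9 (nat_lit 4) (nat_lit 15) T' D 2 10 = true := by decide +kernel
theorem lets : Lets P 9 (nat_lit 4) (nat_lit 15) (Fin.ofNat 9) T := lets_PG (T' := T') D 10 gen (by decide +kernel) slp
theorem lev0 : levChk 9 (nat_lit 4) (nat_lit 15) T RL L0 L1.N = true := by decide +kernel
theorem lev1 : levChk 9 (nat_lit 4) (nat_lit 15) T RL L1 L2.N = true := by decide +kernel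
theorem lev2 : levChk 9 (nat_lit 4) (nat_lit 15) T RL L2 0 = true := by decide +kernel
theorem chain : Chain 9 (nat_lit 4) (nat_lit 15) T RL L := chain_cons lev0 <| chain_cons lev1 <| chain_one lev2
theorem rels : RL.all (fixAll 9 (nat_lit 4) (nat_lit 15) T) = true := by decide +kernel
noncomputable def E : Tr (List ℕ) := (.node (nat_lit 1) (.leaf [nat_lit 1, nat_lit 1, nat_lit 3, nat_lit 2, nat_lit 1, nat_lit 2, nat_lit 0, nat_lit 0])
 (.leaf [nat_lit 0, nat_lit 3, nat_lit 2, nat_lit 1]))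
theorem std : Std P 9 (nat_lit 4) (nat_lit 15) (Fin.ofNat 9) T RL L := std_PG' gen lets chain rels E (allB_iff.1 (by decide +kernel))
theorem card : Nat.card P = 504 := std.card.trans (by decide +kernel)
def B : List ℕ := [nat_lit 0, nat_lit 1, nat_lit 2]
theorem base : IsB P 9 (Fin.ofNat 9) B := std.base

end H8.L28
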