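import Cfsg.Agent.H8.Glue
import Cfsg.Agent.H8.Cover

/-! H8.GL32: permutation model of order 168 on 7 points: `P`, `lets`, `std`, `card`, `base` (generated certificate) -/

set_option autoImplicit false
set_option maxRecDepth 200000

namespace H8.L32

noncomputable def t0 : ℕ := (nat_lit 0x10d0d6)
noncomputable def t1 : ℕ := (nat_lit 0x1816a5)
noncomputable def t2 : ℕ := (nat_lit 0x2646b)
noncomputable def t3 : ℕ := (nat_lit 0x11dc50)
noncomputable def t4 : ℕ := (nat_lit 0xe6a50)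
noncomputable def t5 : ℕ := (nat_lit 0x54770)
noncomputable def t6 : ℕ := (nat_lit 0x11ea88)
noncomputable def t7 : ℕ := (nat_lit 0xe5c88)
noncomputable def t8 : ℕ := (nat_lit 0x19414b)
noncomputable def G0 : Tr ℕ := (.node (nat_lit 1) (.leaf t0)
 (.leaf t1))
noncomputable def T' : Tr ℕ := (.node (nat_lit 4) (.node (nat_lit 2) (.node (nat_lit 1) (.leaf t0)
 (.leaf t1))
 (.node (nat_lit 3) (.leaf t2)
 (.leaf t3)))
 (.node (nat_lit 6) (.node (nat_lit 5) (.leaf t4)
 (.leaf t5))
 (.node (nat_lit 7) (.leaf t6)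
 (.node (nat_lit 8) (.leaf t7)
 (.leaf t8)))))
noncomputable def D : Tr (List ℕ) := (.node (nat_lit 4) (.node (nat_lit 2) (.node (nat_lit 1) (.leaf [])
 (.leaf []))
 (.node (nat_lit 3) (.leaf [nat_lit 0, nat_lit 0, nat_lit 0, nat_lit 0, nat_lit 0, nat_lit 0])
 (.leaf [nat_lit 2, nat_lit 2, nat_lit 1, nat_lit 0, nat_lit 1])))
 (.node (nat_lit 6) (.node (nat_lit 5) (.leaf [nat_lit 1, nat_lit 2, nat_lit 1, nat_lit 0, nat_lit 0])
 (.leaf [nat_lit 0, nat_lit 1, nat_lit 2]))
 (.node (nat_lit 7) (.leaf [nat_lit 5, nat_lit 4, nat_lit 4, nat_lit 5, nat_lit 4])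
 (.node (nat_lit 8) (.leaf [nat_lit 5, nat_lit 3, nat_lit 5, nat_lit 4, nat_lit 5])
 (.leaf [nat_lit 2, nat_lit 4, nat_lit 7, nat_lit 6])))))
noncomputable def T : Tr ℕ := (.node (nat_lit 2) (.node (nat_lit 1) (.leaf t6)
 (.leaf t7))
 (.node (nat_lit 3) (.leaf t5)
 (.leaf t8)))
noncomputable def RL_0 : Tr (List ℕ) := (.node (nat_lit 2) (.node (nat_lit 1) (.leaf [nat_lit 2, nat_lit 0, nat_lit 2, nat_lit 0, nat_lit 2, nat_lit 0])
 (.leaf [nat_lit 0, nat_lit 0]))
 (.node (nat_lit 3) (.leaf [nat_lit 0, nat_lit 1, nat_lit 0, nat_lit 1])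
 (.node (nat_lit 4) (.leaf [nat_lit 2, nat_lit 1, nat_lit 2, nat_lit 1, nat_lit 2, nat_lit 1])
 (.leaf [nat_lit 3, nat_lit 1, nat_lit 3, nat_lit 1, nat_lit 3, nat_lit 1]))))
noncomputable def RL_1 : Tr (List ℕ) := (.node (nat_lit 8) (.node (nat_lit 6) (.leaf [nat_lit 1, nat_lit 1])
 (.node (nat_lit 7) (.leaf [nat_lit 3, nat_lit 2, nat_lit 3, nat_lit 2])
 (.leaf [nat_lit 2, nat_lit 2])))
 (.node (nat_lit 9) (.leaf [nat_lit 3, nat_lit 3])
 (.node (nat_lit 10) (.leaf [nat_lit 3, nat_lit 0, nat_lit 1, nat_lit 3, nat_lit 0, nat_lit 1, nat_lit 3, nat_lit 0, nat_lit 1])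
 (.leaf [nat_lit 3, nat_lit 0, nat_lit 2, nat_lit 3, nat_lit 0, nat_lit 2, nat_lit 3, nat_lit 0, nat_lit 2]))))
noncomputable def RL : Tr (List ℕ) := (.node (nat_lit 5) RL_0 RL_1)
noncomputable def L0 : Lev := ⟨(nat_lit 0), (nat_lit 4), (nat_lit 0x2010204030300), (nat_lit 0x2020301030300),
 (.node (nat_lit 2) (.node (nat_lit 1) (.leaf (nat_lit 0x2000000030001000300070000))
 (.leaf (nat_lit 0x100000001000500030000)))
 (.node (nat_lit 3) (.leaf (nat_lit 0x1000100060002000000000000))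
 (.leaf (nat_lit 0x2000300030000000400030001)))),
 (.node (nat_lit 2) (.node (nat_lit 1) (.leaf (nat_lit 0x202000000000101000101000005000005000000))
 (.leaf (nat_lit 0x500000000000501000405000305000000)))
 (.node (nat_lit 3) (.leaf (nat_lit 0x700000700000302000601000000000000000000))
 (.leaf (nat_lit 0x402000a03000903000000000801000600000801))))⟩
noncomputable def L1 : Lev := ⟨(nat_lit 1), (nat_lit 3), (nat_lit 0x3020102030000), (nat_lit 0x1030202040000),
 (.node (nat_lit 1) (.leaf (nat_lit 0x1000200000003000400000000))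
 (.node (nat_lit 2) (.leaf (nat_lit 0x1000000010000000300000000))
 (.leaf (nat_lit 0x100020002000000010000)))),
 (.node (nat_lit 1) (.leaf (nat_lit 0x100000200000000000101000005000000000000))
 (.node (nat_lit 2) (.leaf (nat_lit 0x500000000000501000000000305000000000000))
 (.leaf (nat_lit 0x700000002000302000000000701000000))))⟩
noncomputable def L2 : Lev := ⟨(nat_lit 3), (nat_lit 2), (nat_lit 0x2010200000000), (nat_lit 0x1010200000000),
 (.node (nat_lit 1) (.leaf (nat_lit 0x2000000030001000000000000))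
 (.leaf (nat_lit 0x100000001000000000000))),
 (.node (nat_lit 1) (.leaf (nat_lit 0x202000000000101000101000000000000000000))
 (.leaf (nat_lit 0x500000000000501000000000000000000)))⟩
noncomputable def L : List Lev := [L0, L1, L2]
noncomputable abbrev P := PG 7 (nat_lit 3) (nat_lit 7) G0 2
theorem gen : genChk 7 (nat_lit 3) (nat_lit 7) G0 2 = true := by decide +kernel
theorem slp : slpChk 7 (nat_lit 3) (nat_lit 7) T' D 2 7 = true := by decide +kernel
theorem lets : Lets P 7 (nat_lit 3) (nat_lit 7) (Fin.ofNat 7) T := lets_PG (T' := T') D 7 gen (by decide +kernel) slp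
theorem lev0 : levChk 7 (nat_lit 3) (nat_lit 7) T RL L0 L1.N = true := by decide +kernel
theorem lev1 : levChk 7 (nat_lit 3) (nat_lit 7) T RL L1 L2.N = true := by decide +kernel
theorem lev2 : levChk 7 (nat_lit 3) (nat_lit 7) T RL L2 0 = true := by decide +kernel
theorem chain : Chain 7 (nat_lit 3) (nat_lit 7) T RL L := chain_cons lev0 <| chain_cons lev1 <| chain_one lev2
theorem rels : RL.all (fixAll 7 (nat_lit 3) (nat_lit 7) T) = true := by decide +kernel
noncomputable def E : Tr (List ℕ) := (.node (nat_lit 1) (.leaf [nat_lit 1, nat_lit 3, nat_lit 1, nat_lit 0, nat_lit 2, nat_lit 1, nat_lit 0])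
 (.leaf [nat_lit 0, nat_lit 3, nat_lit 2, nat_lit 0]))
theorem std : Std P 7 (nat_lit 3) (nat_lit 7) (Fin.ofNat 7) T RL L := std_PG' gen lets chain rels E (allB_iff.1 (by decide +kernel))
theorem card : Nat.card P = 168 := std.card.trans (by decide +kernel)
def B : List ℕ := [nat_lit 0, nat_lit 1, nat_lit 3]
theorem base : IsB P 7 (Fin.ofNat 7) B := std.base

end H8.L32
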