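import Cfsg.Agent.H8.GI

/-! H8.GN: the Sylow 2-normaliser of M24; L2(23) and 23:11 (generated certificate) -/

set_option autoImplicit false
set_option maxRecDepth 200000

set_option linter.all false
open Subgroup Cfsg Pointwise

namespace H8.GN

noncomputable def m0t0 : ℕ := (nat_lit 0xbcd8b70c522da2a355283d08f83420)
noncomputable def m0t1 : ℕ := (nat_lit 0xbb946b41a324c55a31283ade594420)
noncomputable def m0t2 : ℕ := (nat_lit 0xb89d4241f28d5455b528399930d860)
noncomputable def m0t3 : ℕ := (nat_lit 0xb84947154c6cdf05c52839a5510ec0)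
noncomputable def m0t4 : ℕ := (nat_lit 0xbbe9524642b39ab60128384b31c0ca)
noncomputable def m0t5 : ℕ := (nat_lit 0xbbcb453623b3a4c3cd28582a180886)
noncomputable def m0t6 : ℕ := (nat_lit 0xbce11b4a952a4cc58dc8235e750820)
noncomputable def m0t7 : ℕ := (nat_lit 0xbad949c90e7c0f5b281168ca430449)
noncomputable def m0t8 : ℕ := (nat_lit 0xadaed9c650216881a92c381cf58826)
noncomputable def m0T : Tr ℕ := (.node (nat_lit 4) (.node (nat_lit 2) (.node (nat_lit 1) (.leaf m0t0) (.leaf m0t1)) (.node (nat_lit 3) (.leaf m0t2) (.leaf m0t3)))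
 (.node (nat_lit 6) (.node (nat_lit 5) (.leaf m0t4) (.leaf m0t5)) (.node (nat_lit 7) (.leaf m0t6) (.node (nat_lit 8) (.leaf m0t7) (.leaf m0t8)))))
noncomputable def m0L0 : Lev := ⟨(nat_lit 23), (nat_lit 9), (nat_lit 0x209050604040702030302050107090701060407050605), (nat_lit 0x301020303030203020302030203030303020203030303),
 (.leaf 0),
 (.leaf 0)⟩
noncomputable def m0L1 : Lev := ⟨(nat_lit 8), (nat_lit 8), (nat_lit 0x302070605080503010101020408000807020104020805), (nat_lit 0x303020302010302040203030204000303030303020303),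
 (.leaf 0),
 (.leaf 0)⟩
noncomputable def m0L2 : Lev := ⟨(nat_lit 9), (nat_lit 7), (nat_lit 0x203050104040705070302050600000705060307030405), (nat_lit 0x202030204040303010403040300000404030304030304),
 (.leaf 0),
 (.leaf 0)⟩
noncomputable def m0L3 : Lev := ⟨(nat_lit 7), (nat_lit 6), (nat_lit 0x405010604040401030305060200000002030403050506), (nat_lit 0x403020404040304040402010300000002030404040303),
 (.leaf 0),
 (.leaf 0)⟩
noncomputable def m0L4 : Lev := ⟨(nat_lit 0), (nat_lit 5), (nat_lit 0x202050105040404030301050500000002030401010300), (nat_lit 0x402030403020303030202030100000004030304030500),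
 (.leaf 0),
 (.leaf 0)⟩
noncomputable def m0L5 : Lev := ⟨(nat_lit 1), (nat_lit 4), (nat_lit 0x403000201010201010204000200000000040303040000), (nat_lit 0x103000202030204020303000400000000030301020000),
 (.leaf 0),
 (.leaf 0)⟩
noncomputable def m0L6 : Lev := ⟨(nat_lit 16), (nat_lit 2), (nat_lit 0x2000000000000000000000000000001000000), (nat_lit 0x1000000000000000000000000000001000000),
 (.leaf 0),
 (.leaf 0)⟩
noncomputable def m0L : List Lev := [m0L0, m0L1, m0L2, m0L3, m0L4, m0L5, m0L6]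
theorem m0c : band (m0T.all fun c => m24Chk (ap 5 31 c)) (band (tchainChk 24 5 31 m0T m0L) (Nat.ble 244823040 (chainOrd 24 m0L))) = true := by decide +kernel
noncomputable def bt0 : ℕ := (nat_lit 0xb96af32daea422c929283cec320022)
noncomputable def bt1 : ℕ := (nat_lit 0xbd2b66b8cb2ca6c829283c5e010c24)
noncomputable def bt2 : ℕ := (nat_lit 0xbdab4835d37c64230d2802ca153087)
noncomputable def bt3 : ℕ := (nat_lit 0xbd9349ca2e2c0c0592a81b5ea3844c)
noncomputable def bt4 : ℕ := (nat_lit 0xb951459a117b5c79a93564ac320820)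
noncomputable def bt5 : ℕ := (nat_lit 0x8adb2452ef816acb28d33a5c418820)
noncomputable def bT : Tr ℕ := (.node (nat_lit 3) (.node (nat_lit 1) (.leaf bt0) (.node (nat_lit 2) (.leaf bt1) (.leaf bt2))) (.node (nat_lit 4) (.leaf bt3) (.node (nat_lit 5) (.leaf bt4) (.leaf bt5))))
noncomputable def bL0 : Lev := ⟨(nat_lit 23), (nat_lit 6), (nat_lit 0x606060203060506030100030006060002060000000000), (nat_lit 0x403040303010203020200030003040002030000000000),
 (.leaf 0),
 (.leaf 0)⟩
noncomputable def bL1 : Lev := ⟨(nat_lit 8), (nat_lit 5), (nat_lit 0x5000000000000000000000004000000000000000000), (nat_lit 0x1000000000000000000000002000000000000000000),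
 (.leaf 0),
 (.leaf 0)⟩
noncomputable def bL2 : Lev := ⟨(nat_lit 9), (nat_lit 4), (nat_lit 0x4000000000000000000000000000000000000000000), (nat_lit 0x1000000000000000000000000000000000000000000),
 (.leaf 0),
 (.leaf 0)⟩
noncomputable def bL3 : Lev := ⟨(nat_lit 7), (nat_lit 3), (nat_lit 0x3000300000000000202010303), (nat_lit 0x3000400000000000203020301),
 (.leaf 0),
 (.leaf 0)⟩
noncomputable def bL4 : Lev := ⟨(nat_lit 0), (nat_lit 2), (nat_lit 0x202010000), (nat_lit 0x102010000),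
 (.leaf 0),
 (.leaf 0)⟩
noncomputable def bL5 : Lev := ⟨(nat_lit 1), (nat_lit 0), (nat_lit 0x0), (nat_lit 0x0),
 (.leaf 0),
 (.leaf 0)⟩
noncomputable def bL6 : Lev := ⟨(nat_lit 16), (nat_lit 0), (nat_lit 0x0), (nat_lit 0x0),
 (.leaf 0),
 (.leaf 0)⟩
noncomputable def bL : List Lev := [bL0, bL1, bL2, bL3, bL4, bL5, bL6]
theorem be : smC [] [5279] [[5279, 1009728, 15762208], [29, 5250, 346112, 663616, 5275680, 10486528]] bT = true := by decide +kernel
noncomputable def bJ : List Pr := [prSM 24 (allM [] [5279]) [[5279, 1009728, 15762208], [29, 5250, 346112, 663616, 5275680, 10486528]]]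
noncomputable def bF0 : ℕ × ℕ := ((nat_lit 0xff00ff0000ff0000ffffffffff), (nat_lit 0))
theorem bb0 : allR 0 24 (ptB 24 (nat_lit 5) (nat_lit 31) m0T bT bJ m0L0 [m0L1, m0L2, m0L3, m0L4, m0L5, m0L6] bL0 (dg []) bF0.1 bF0.2) = true := by decide +kernel
noncomputable def bF1 : ℕ × ℕ := ((nat_lit 0xff00ffffffffffffffffffffff0000ffffffffffffffff), (nat_lit 0))
theorem bb1 : allR 0 24 (ptB 24 (nat_lit 5) (nat_lit 31) m0T bT bJ m0L1 [m0L2, m0L3, m0L4, m0L5, m0L6] bL1 (dg [m0L0.b]) bF1.1 bF1.2) = true := by decide +kernel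
noncomputable def bF2 : ℕ × ℕ := ((nat_lit 0xff00ffffffffffffffffffffff0000ffffffffffffffff), (nat_lit 0))
theorem bb2 : allR 0 24 (ptB 24 (nat_lit 5) (nat_lit 31) m0T bT bJ m0L2 [m0L3, m0L4, m0L5, m0L6] bL2 (dg [m0L1.b, m0L0.b]) bF2.1 bF2.2) = true := by decide +kernel
noncomputable def bF3 : ℕ × ℕ := ((nat_lit 0xffffffffffffffffffff00ff00000000ffff0000000000), (nat_lit 0))
theorem bb3 : allR 0 24 (ptB 24 (nat_lit 5) (nat_lit 31) m0T bT bJ m0L3 [m0L4, m0L5, m0L6] bL3 (dg [m0L2.b, m0L1.b, m0L0.b]) bF3.1 bF3.2) = true := by decide +kernel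
noncomputable def bF4 : ℕ × ℕ := ((nat_lit 0xffffffffffffffffffffffffff000000ffff000000ff00), (nat_lit 0))
theorem bb4 : allR 0 24 (ptB 24 (nat_lit 5) (nat_lit 31) m0T bT bJ m0L4 [m0L5, m0L6] bL4 (dg [m0L3.b, m0L2.b, m0L1.b, m0L0.b]) bF4.1 bF4.2) = true := by decide +kernel
noncomputable def bF5 : ℕ × ℕ := ((nat_lit 0xffff00ffffffffffffffff00ff00000000ffffffff0000), (nat_lit 0))
theorem bb5 : allR 0 24 (ptB 24 (nat_lit 5) (nat_lit 31) m0T bT bJ m0L5 [m0L6] bL5 (dg [m0L4.b, m0L3.b, m0L2.b, m0L1.b, m0L0.b]) bF5.1 bF5.2) = true := by decide +kernel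
noncomputable def bF6 : ℕ × ℕ := ((nat_lit 0xff0000000000000000000000000000ff000000), (nat_lit 0))
theorem bb6 : allR 0 24 (ptB 24 (nat_lit 5) (nat_lit 31) m0T bT bJ m0L6 [] bL6 (dg [m0L5.b, m0L4.b, m0L3.b, m0L2.b, m0L1.b, m0L0.b]) bF6.1 bF6.2) = true := by decide +kernel
theorem bbk : Bk 24 (nat_lit 5) (nat_lit 31) m0T bT bJ m0L bL [bF0, bF1, bF2, bF3, bF4, bF5, bF6] [] :=
  ⟨rfl, bb0, rfl, bb1, rfl, bb2, rfl, bb3, rfl, bb4, rfl, bb5, rfl, bb6, trivial⟩
theorem btc : tchainChk 24 (nat_lit 5) (nat_lit 31) bT bL = true := by decide +kernel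
theorem bch {C : H7.Coding GolayPt} (hC : GC C) : Ch (SM M24 C [] [5279] [[5279, 1009728, 15762208], [29, 5250, 346112, 663616, 5275680, 10486528]]) 24 5 31 C.dec bT bL :=
  (hC.chSM (hC.ch m0c) be btc bbk)
theorem bcard {C : H7.Coding GolayPt} (hC : GC C) : Nat.card (SM M24 C [] [5279] [[5279, 1009728, 15762208], [29, 5250, 346112, 663616, 5275680, 10486528]]) = 3072 := (bch hC).card.trans (by decide +kernel)
noncomputable def sat0 : ℕ := (nat_lit 0xbdab46c0d27ae6770528644a320142)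
noncomputable def sat1 : ℕ := (nat_lit 0xbdab471a117cd6368928248a762801)
noncomputable def sat2 : ℕ := (nat_lit 0xbdab48ae6e7c0ca931280b4a010ce4)
noncomputable def sat3 : ℕ := (nat_lit 0xadaf48c2727acc171d09534a418980)
noncomputable def sat4 : ℕ := (nat_lit 0x4d9146c8d07ba6159ef5544a010d84)
noncomputable def sat5 : ℕ := (nat_lit 0xbd136736117ce4c32aa80aca0188e4)
noncomputable def sat6 : ℕ := (nat_lit 0xabef47196db4e018a9283c8a400983)
noncomputable def sat7 : ℕ := (nat_lit 0x9c8cbbd90573d2ca29b13d60418820)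
noncomputable def saT : Tr ℕ := (.node (nat_lit 4) (.node (nat_lit 2) (.node (nat_lit 1) (.leaf sat0) (.leaf sat1)) (.node (nat_lit 3) (.leaf sat2) (.leaf sat3)))
 (.node (nat_lit 6) (.node (nat_lit 5) (.leaf sat4) (.leaf sat5)) (.node (nat_lit 7) (.leaf sat6) (.leaf sat7))))
noncomputable def saL0 : Lev := ⟨(nat_lit 5), (nat_lit 8), (nat_lit 0x80808080301020808030700030008080002000000000000), (nat_lit 0x40304040302020103020200030003030003000000000000),
 (.leaf 0),
 (.leaf 0)⟩
noncomputable def saL1 : Lev := ⟨(nat_lit 15), (nat_lit 7), (nat_lit 0x700060000000000000000000000000000000000000000), (nat_lit 0x100020000000000000000000000000000000000000000),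
 (.leaf 0),
 (.leaf 0)⟩
noncomputable def saL2 : Lev := ⟨(nat_lit 20), (nat_lit 6), (nat_lit 0x600000000000000000000000000000000000000000000), (nat_lit 0x100000000000000000000000000000000000000000000),
 (.leaf 0),
 (.leaf 0)⟩
noncomputable def saL3 : Lev := ⟨(nat_lit 22), (nat_lit 5), (nat_lit 0x0), (nat_lit 0x0),
 (.leaf 0),
 (.leaf 0)⟩
noncomputable def saL4 : Lev := ⟨(nat_lit 8), (nat_lit 5), (nat_lit 0x50005000000000000000000000004000000000000000000), (nat_lit 0x20001000000000000000000000001000000000000000000),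
 (.leaf 0),
 (.leaf 0)⟩
noncomputable def saL5 : Lev := ⟨(nat_lit 23), (nat_lit 3), (nat_lit 0x0), (nat_lit 0x0),
 (.leaf 0),
 (.leaf 0)⟩
noncomputable def saL6 : Lev := ⟨(nat_lit 6), (nat_lit 3), (nat_lit 0x302010200030300030000000000000000000000), (nat_lit 0x201010200030100020000000000000000000000),
 (.leaf 0),
 (.leaf 0)⟩
noncomputable def saL : List Lev := [saL0, saL1, saL2, saL3, saL4, saL5, saL6]
noncomputable def saE : Tr (List ℕ) := (.node (nat_lit 4) (.node (nat_lit 2) (.node (nat_lit 1) (.leaf [nat_lit 2, nat_lit 0, nat_lit 2, nat_lit 0]) (.leaf [nat_lit 1, nat_lit 2, nat_lit 1])) (.node (nat_lit 3) (.leaf [nat_lit 2, nat_lit 1, nat_lit 2, nat_lit 1]) (.leaf [nat_lit 5, nat_lit 0, nat_lit 5, nat_lit 2, nat_lit 1, nat_lit 0, nat_lit 2, nat_lit 0])))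
 (.node (nat_lit 6) (.node (nat_lit 5) (.leaf [nat_lit 5, nat_lit 1, nat_lit 5, nat_lit 2, nat_lit 1, nat_lit 0, nat_lit 2]) (.leaf [nat_lit 3, nat_lit 0, nat_lit 2, nat_lit 1, nat_lit 0])) (.node (nat_lit 7) (.leaf [nat_lit 5, nat_lit 0, nat_lit 5, nat_lit 3, nat_lit 4, nat_lit 3, nat_lit 2, nat_lit 1, nat_lit 0, nat_lit 2, nat_lit 1]) (.leaf [nat_lit 1, nat_lit 0, nat_lit 5, nat_lit 1, nat_lit 0]))))
theorem saw_0 : saT.all2 (fun c w => isProd 24 (nat_lit 5) (nat_lit 31) bT c w) saE = true := by decide +kernel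
theorem saw : saT.all2 (fun c w => isProd 24 (nat_lit 5) (nat_lit 31) bT c w) saE = true := saw_0
theorem sac : band (tchainChk 24 (nat_lit 5) (nat_lit 31) saT saL) (Nat.ble (chainOrd 24 bL) (chainOrd 24 saL)) = true := by decide +kernel
noncomputable def sx : ℕ := (nat_lit 0x451368ae6e2c0cc92ab73b5e418820)
noncomputable def sxw : List ℕ := [nat_lit 5, nat_lit 1, nat_lit 0, nat_lit 5, nat_lit 1, nat_lit 0]
theorem sxp : isProd 24 (nat_lit 5) (nat_lit 31) bT sx sxw = true := by decide +kernel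
noncomputable def st0 : ℕ := (nat_lit 0xbdab45c6467b5c4981281c0ac3844a)
noncomputable def st1 : ℕ := (nat_lit 0xbdab4835d37c64230d2802ca153087)
noncomputable def st2 : ℕ := (nat_lit 0xbdab48ae6e7c0ca931280b4a010ce4)
noncomputable def st3 : ℕ := (nat_lit 0x45934341b27ae2c72ab73cca010c24)
noncomputable def st4 : ℕ := (nat_lit 0xadaf49ba2b7c9a780509618a010d44)
noncomputable def st5 : ℕ := (nat_lit 0x452b69ca2e7c0c458137134ac09c6a)
noncomputable def st6 : ℕ := (nat_lit 0x74653a56c86ddea4b170094c2010e3)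
noncomputable def sT : Tr ℕ := (.node (nat_lit 3) (.node (nat_lit 1) (.leaf st0) (.node (nat_lit 2) (.leaf st1) (.leaf st2)))
 (.node (nat_lit 5) (.node (nat_lit 4) (.leaf st3) (.leaf st4)) (.node (nat_lit 6) (.leaf st5) (.leaf st6))))
noncomputable def sL0 : Lev := ⟨(nat_lit 5), (nat_lit 7), (nat_lit 0x70707070404040107030300020007070007000000000000), (nat_lit 0x40404030203030203030200020003030001000000000000),
 (.leaf 0),
 (.leaf 0)⟩
noncomputable def sL1 : Lev := ⟨(nat_lit 15), (nat_lit 6), (nat_lit 0x0), (nat_lit 0x0),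
 (.leaf 0),
 (.leaf 0)⟩
noncomputable def sL2 : Lev := ⟨(nat_lit 20), (nat_lit 6), (nat_lit 0x600000000000000000000000000000000000000000000), (nat_lit 0x100000000000000000000000000000000000000000000),
 (.leaf 0),
 (.leaf 0)⟩
noncomputable def sL3 : Lev := ⟨(nat_lit 22), (nat_lit 5), (nat_lit 0x0), (nat_lit 0x0),
 (.leaf 0),
 (.leaf 0)⟩
noncomputable def sL4 : Lev := ⟨(nat_lit 8), (nat_lit 5), (nat_lit 0x40005000000000000000000000005000000000000000000), (nat_lit 0x10002000000000000000000000001000000000000000000),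
 (.leaf 0),
 (.leaf 0)⟩
noncomputable def sL5 : Lev := ⟨(nat_lit 23), (nat_lit 3), (nat_lit 0x0), (nat_lit 0x0),
 (.leaf 0),
 (.leaf 0)⟩
noncomputable def sL6 : Lev := ⟨(nat_lit 6), (nat_lit 3), (nat_lit 0x203030100030300020000000000000000000000), (nat_lit 0x202030100020100010000000000000000000000),
 (.leaf 0),
 (.leaf 0)⟩
noncomputable def sL : List Lev := [sL0, sL1, sL2, sL3, sL4, sL5, sL6]
noncomputable def sE : Tr (List ℕ) := (.node (nat_lit 3) (.node (nat_lit 1) (.leaf [nat_lit 1, nat_lit 0, nat_lit 2, nat_lit 1, nat_lit 0]) (.node (nat_lit 2) (.leaf [nat_lit 2]) (.leaf [nat_lit 2, nat_lit 1, nat_lit 2, nat_lit 1])))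
 (.node (nat_lit 5) (.node (nat_lit 4) (.leaf [nat_lit 5, nat_lit 1, nat_lit 0, nat_lit 5, nat_lit 0]) (.leaf [nat_lit 5, nat_lit 0, nat_lit 5, nat_lit 2, nat_lit 0, nat_lit 2, nat_lit 1, nat_lit 0])) (.node (nat_lit 6) (.leaf [nat_lit 5, nat_lit 1, nat_lit 0, nat_lit 5, nat_lit 3, nat_lit 2, nat_lit 1, nat_lit 0, nat_lit 2, nat_lit 1]) (.leaf [nat_lit 2, nat_lit 5, nat_lit 1, nat_lit 2, nat_lit 1, nat_lit 0]))))
theorem sw_0 : sT.all2 (fun c w => isProd 24 (nat_lit 5) (nat_lit 31) bT c w) sE = true := by decide +kernel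
theorem sw : sT.all2 (fun c w => isProd 24 (nat_lit 5) (nat_lit 31) bT c w) sE = true := sw_0
noncomputable def sJ : List Pr := [(prC (saL.map Lev.b) [((ap (nat_lit 5) (nat_lit 31) sx), (ap (nat_lit 5) (nat_lit 31) sx))])]
noncomputable def sF0 : ℕ × ℕ := ((nat_lit 0), (nat_lit 0))
theorem sb0 : allR 0 24 (ptB 24 (nat_lit 5) (nat_lit 31) saT sT sJ saL0 [saL1, saL2, saL3, saL4, saL5, saL6] sL0 (dg []) sF0.1 sF0.2) = true := by decide +kernel
noncomputable def sF1 : ℕ × ℕ := ((nat_lit 0xff00ff0000000000000000000000000000000000000000), (nat_lit 0))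
theorem sb1 : allR 0 24 (ptB 24 (nat_lit 5) (nat_lit 31) saT sT sJ saL1 [saL2, saL3, saL4, saL5, saL6] sL1 (dg [saL0.b]) sF1.1 sF1.2) = true := by decide +kernel
noncomputable def sF2 : ℕ × ℕ := ((nat_lit 0), (nat_lit 0))
theorem sb2 : allR 0 24 (ptB 24 (nat_lit 5) (nat_lit 31) saT sT sJ saL2 [saL3, saL4, saL5, saL6] sL2 (dg [saL1.b, saL0.b]) sF2.1 sF2.2) = true := by decide +kernel
noncomputable def sF3 : ℕ × ℕ := ((nat_lit 0), (nat_lit 0))
theorem sb3 : allR 0 24 (ptB 24 (nat_lit 5) (nat_lit 31) saT sT sJ saL3 [saL4, saL5, saL6] sL3 (dg [saL2.b, saL1.b, saL0.b]) sF3.1 sF3.2) = true := by decide +kernel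
noncomputable def sF4 : ℕ × ℕ := ((nat_lit 0), (nat_lit 0))
theorem sb4 : allR 0 24 (ptB 24 (nat_lit 5) (nat_lit 31) saT sT sJ saL4 [saL5, saL6] sL4 (dg [saL3.b, saL2.b, saL1.b, saL0.b]) sF4.1 sF4.2) = true := by decide +kernel
noncomputable def sF5 : ℕ × ℕ := ((nat_lit 0), (nat_lit 0))
theorem sb5 : allR 0 24 (ptB 24 (nat_lit 5) (nat_lit 31) saT sT sJ saL5 [saL6] sL5 (dg [saL4.b, saL3.b, saL2.b, saL1.b, saL0.b]) sF5.1 sF5.2) = true := by decide +kernel
noncomputable def sF6 : ℕ × ℕ := ((nat_lit 0), (nat_lit 0))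
theorem sb6 : allR 0 24 (ptB 24 (nat_lit 5) (nat_lit 31) saT sT sJ saL6 [] sL6 (dg [saL5.b, saL4.b, saL3.b, saL2.b, saL1.b, saL0.b]) sF6.1 sF6.2) = true := by decide +kernel
theorem sbk : Bk 24 (nat_lit 5) (nat_lit 31) saT sT sJ saL sL [sF0, sF1, sF2, sF3, sF4, sF5, sF6] [] :=
  ⟨rfl, sb0, rfl, sb1, rfl, sb2, rfl, sb3, rfl, sb4, rfl, sb5, rfl, sb6, trivial⟩
theorem stc : tchainChk 24 (nat_lit 5) (nat_lit 31) sT sL = true := by decide +kernel
theorem sm : sT.all (fun c => eqB (saL.map Lev.b) (fun a => ap (nat_lit 5) (nat_lit 31) c (ap (nat_lit 5) (nat_lit 31) sx a)) fun a => ap (nat_lit 5) (nat_lit 31) sx (ap (nat_lit 5) (nat_lit 31) c a)) = true := by decide +kernel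
theorem so : (allL StB.oL fun a => bor (Nat.beq a 5279) (bnot (allB 7 fun j => Nat.beq (imOn 24 (ap 5 31 (sT.get j)) a) a))) = true := by decide +kernel
theorem st : (allL GB.trP fun x => bor (Nat.beq x 4436667146648940450975) (bnot (allB 7 fun j => mvF 24 (unp 3 x) (unp 3 x) (ap 5 31 (sT.get j))))) = true := by decide +kernel
theorem ss : (allL GB.sxP fun x => bor (Nat.beq x 13938987014164837825942347917625174645538845) (bnot (allB 7 fun j => mvF 24 (unp 6 x) (unp 6 x) (ap 5 31 (sT.get j))))) = true := by decide +kernel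
noncomputable def ut0 : ℕ := (nat_lit 0xbd136819d37c56a6b2a83c8a410c20)
noncomputable def ut1 : ℕ := (nat_lit 0x4d91432dae7c227906f564ca418940)
noncomputable def ut2 : ℕ := (nat_lit 0xbdab494d6d79a0089128138aa09c6c)
noncomputable def ut3 : ℕ := (nat_lit 0x8acd2452e573d20b11b31d60a3844c)
noncomputable def uT : Tr ℕ := (.node (nat_lit 2) (.node (nat_lit 1) (.leaf ut0) (.leaf ut1)) (.node (nat_lit 3) (.leaf ut2) (.leaf ut3)))
noncomputable def uL0 : Lev := ⟨(nat_lit 5), (nat_lit 4), (nat_lit 0x40404040103010404020300010004040002000000000000), (nat_lit 0x40404040203030103020200030003030003000000000000),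
 (.leaf 0),
 (.leaf 0)⟩
noncomputable def uL1 : Lev := ⟨(nat_lit 0), (nat_lit 3), (nat_lit 0x3000100000200000303030200), (nat_lit 0x1000200000200000304030300),
 (.leaf 0),
 (.leaf 0)⟩
noncomputable def uL2 : Lev := ⟨(nat_lit 1), (nat_lit 2), (nat_lit 0x1000200000200000000000000), (nat_lit 0x2000100000300000000000000),
 (.leaf 0),
 (.leaf 0)⟩
noncomputable def uL3 : Lev := ⟨(nat_lit 2), (nat_lit 1), (nat_lit 0x1000000), (nat_lit 0x1000000),
 (.leaf 0),
 (.leaf 0)⟩
noncomputable def uL : List Lev := [uL0, uL1, uL2, uL3]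
noncomputable def uE : Tr (List ℕ) := (.node (nat_lit 2) (.node (nat_lit 1) (.leaf [nat_lit 5, nat_lit 3, nat_lit 0]) (.leaf [nat_lit 4, nat_lit 3])) (.node (nat_lit 3) (.leaf [nat_lit 2, nat_lit 0]) (.leaf [nat_lit 0, nat_lit 6, nat_lit 5, nat_lit 4, nat_lit 2, nat_lit 0])))
theorem uw_0 : uT.all2 (fun c w => isProd 24 (nat_lit 5) (nat_lit 31) sT c w) uE = true := by decide +kernel
theorem uw : uT.all2 (fun c w => isProd 24 (nat_lit 5) (nat_lit 31) sT c w) uE = true := uw_0
theorem uc : band (tchainChk 24 (nat_lit 5) (nat_lit 31) uT uL) (Nat.ble (chainOrd 24 sL) (chainOrd 24 uL)) = true := by decide +kernel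
theorem ux_0 : allR 0 15 (refu 24 (nat_lit 5) (nat_lit 31) uT ⟨fun _ _ => 0, fun _ _ _ => true, fun f => bor (bor (eqB (uL.map Lev.b) f fun a => a) (eqB (uL.map Lev.b) f (ap 5 31 sx))) (bnot (cmL 5 31 (uL.map Lev.b) uT 4 f))⟩ uL0 [uL1, uL2, uL3] []) = true := by decide +kernel
theorem ux_1 : allR 15 7 (refu 24 (nat_lit 5) (nat_lit 31) uT ⟨fun _ _ => 0, fun _ _ _ => true, fun f => bor (bor (eqB (uL.map Lev.b) f fun a => a) (eqB (uL.map Lev.b) f (ap 5 31 sx))) (bnot (cmL 5 31 (uL.map Lev.b) uT 4 f))⟩ uL0 [uL1, uL2, uL3] []) = true := by decide +kernel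
theorem ux_2 : allR 22 2 (refu 24 (nat_lit 5) (nat_lit 31) uT ⟨fun _ _ => 0, fun _ _ _ => true, fun f => bor (bor (eqB (uL.map Lev.b) f fun a => a) (eqB (uL.map Lev.b) f (ap 5 31 sx))) (bnot (cmL 5 31 (uL.map Lev.b) uT 4 f))⟩ uL0 [uL1, uL2, uL3] []) = true := by decide +kernel
theorem ux : allR 0 24 (refu 24 (nat_lit 5) (nat_lit 31) uT ⟨fun _ _ => 0, fun _ _ _ => true, fun f => bor (bor (eqB (uL.map Lev.b) f fun a => a) (eqB (uL.map Lev.b) f (ap 5 31 sx))) (bnot (cmL 5 31 (uL.map Lev.b) uT 4 f))⟩ uL0 [uL1, uL2, uL3] []) = true := (allR_add (allR_add ux_0 ux_1) ux_2)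
theorem norm_fix {G Ω : Type*} [Group G] [MulAction G Ω] {N : Subgroup G} {g : G} (hg : g ∈ normalizer (N : Set G)) {x : Ω}
    (h : ∀ n ∈ N, n • x = x) (n : N) : n • g • x = g • x := by
  have := h _ ((mem_normalizer_iff''.1 hg n).1 n.2)
  rwa [mul_smul, mul_smul, inv_smul_eq_iff] at this
theorem syl2 : ∃ N : Subgroup M24, Nat.card N = 2 ^ 10 ∧ normalizer (N : Set M24) ≤ N := by
  have hC := GC.std
  generalize H7.gC = C at hC
  have K := bch hC
  have r := (rep_word K.lets sxw sxp)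
  generalize ev K.lets.e sxw = z at r
  have Z := ((K.ch (lets_words K.lets saE saw) sac).sub _ (snd_cent (K.ch (lets_words K.lets saE saw) sac) r) (lets_chk (lets_words K.lets sE sw) _ _ (cent_chk (K.ch (lets_words K.lets saE saw) sac) r) sm) stc sbk).map
  refine ⟨_, Z.card.trans (by decide +kernel), fun g hg => ?_⟩
  have le := map_subtype_le (centralizer {z})
  have h1 : g • C.fs 5279 = C.fs 5279 := by
    obtain ⟨a, ha, e⟩ := hC.blk.symm ▸ (H7.smul_mem_octads_iff g).2 ((hC.oct' (a := 5279) (by norm_num)).2 (by decide +kernel))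
    refine e.symm.trans (congrArg _ (Nat.eq_of_beq_eq_true (((bor_eq_true _ _).1 (allL_iff.1 so a ha)).resolve_right fun h =>
      bnot_eq_true.1 h (allB_iff.2 fun j _ => (smul_fs_iff hC.n (Z.lets.rep j) _ (msk_lt StC.om a ha)).1 ?_))))
    rw [e]; exact norm_fix hg (fun n hn => (le hn).2.1 _ (by simp)) _
  have h2 : g • fam C tr0 = fam C tr0 := by
    obtain ⟨a, ha, m, e⟩ := (GB.trL hC).ex ((H7.smul_mem_trios_iff g).2 (hC.tr (l := tr0) (by decide +kernel) (by decide +kernel)))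
    refine e.symm.trans (congrArg _ ((congrArg _ (Nat.eq_of_beq_eq_true (((bor_eq_true _ _).1 (allL_iff.1 st a ha)).resolve_right fun h =>
      bnot_eq_true.1 h (allB_iff.2 fun j _ => (mvF_eq hC.n (Z.lets.rep j) m m rfl).1 ?_)))).trans (by decide +kernel)))
    rw [e]; exact norm_fix hg (fun n hn => (le hn).2.2 _ (by simp)) _
  have h3 : g • fam C [29, 5250, 346112, 663616, 5275680, 10486528] = fam C [29, 5250, 346112, 663616, 5275680, 10486528] := by
    obtain ⟨a, ha, m, e⟩ := (GB.sxL hC).ex ((H7.smul_mem_sextets_iff g).2 (hC.sx (l := [29, 5250, 346112, 663616, 5275680, 10486528]) (by decide +kernel) (by decide +kernel)))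
    refine e.symm.trans (congrArg _ ((congrArg _ (Nat.eq_of_beq_eq_true (((bor_eq_true _ _).1 (allL_iff.1 ss a ha)).resolve_right fun h =>
      bnot_eq_true.1 h (allB_iff.2 fun j _ => (mvF_eq hC.n (Z.lets.rep j) m m rfl).1 ?_)))).trans (by decide +kernel)))
    rw [e]; exact norm_fix hg (fun n hn => (le hn).2.2 _ (by simp)) _
  have U := (Z.ch (lets_words Z.lets uE uw) uc)
  have hz : z.1 ∈ (centralizer {z}).map (SM M24 C [] [5279] [[5279, 1009728, 15762208], [29, 5250, 346112, 663616, 5275680, 10486528]]).subtype := ⟨z, mem_centralizer_singleton_iff.2 rfl, rfl⟩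
  obtain ⟨f, rf, e⟩ := U.enum ux ⟨_, (mem_normalizer_iff.1 hg _).1 hz⟩
  rw [bor_eq_true, bor_eq_true, bnot_eq_true, eqB_iff U.base U.inj rf (.id _ _), eqB_iff U.base U.inj rf (g' := ⟨_, hz⟩) r,
    cmL_iff U.base U.inj U.lets.rep rf] at e
  refine ⟨⟨g, by simp, by simpa using h1, by simpa using ⟨h2, h3⟩⟩, mem_centralizer_singleton_iff.2 (Subtype.ext ?_), rfl⟩
  rcases e with (e | e) | e
  · simp [conj_eq_one_iff.1 (congrArg Subtype.val e)]
  · exact mul_inv_eq_iff_eq_mul.1 (congrArg Subtype.val e)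
  · refine (e fun j _ => Subtype.ext ?_).elim
    obtain ⟨y, hy, e⟩ := (mem_normalizer_iff''.1 hg _).1 (U.lets.e j).2
    have := congrArg Subtype.val (mem_centralizer_singleton_iff.1 hy)
    simp only [coe_mul, coe_subtype] at e this ⊢
    rw [e] at this
    calc _ = g * (z.1 * (g⁻¹ * (U.lets.e j).1 * g)) * g⁻¹ := by group
      _ = _ := by rw [← this]; group
noncomputable def la : ℕ := (nat_lit 0xb82d5a4e5183dcd62d4941cc520c41)
noncomputable def lb : ℕ := (nat_lit 0xbd6717b56939461b52507314831040)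
noncomputable def lc : ℕ := (nat_lit 0x5883388a1c8f5140b46cd317aed7)
noncomputable def m1t0 : ℕ := (nat_lit 0x8bcd6925d5a5d674326d540a418820)
noncomputable def m1t1 : ℕ := (nat_lit 0x7520f4cee6b450a69e4b654a418820)
noncomputable def m1t2 : ℕ := (nat_lit 0x33a70abd349590c2aa2d3dd6418820)
noncomputable def m1t3 : ℕ := (nat_lit 0xa20b75c6464b5cc9a9f63c2a418820)
noncomputable def m1t4 : ℕ := (nat_lit 0x9d8e4baa112a18d5c92ea99f418820)
noncomputable def m1t5 : ℕ := (nat_lit 0x729072246b7ddac85a55a18b388820)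
noncomputable def m1t6 : ℕ := (nat_lit 0xbd9546c9e98926b65602198ae3a020)
noncomputable def m1t7 : ℕ := (nat_lit 0xbb434992282bacb62870119f249ea0)
noncomputable def m1t8 : ℕ := (nat_lit 0x3c1cf01896a558d10d09bc83152cb3)
noncomputable def m1T : Tr ℕ := (.node (nat_lit 4) (.node (nat_lit 2) (.node (nat_lit 1) (.leaf m1t0) (.leaf m1t1)) (.node (nat_lit 3) (.leaf m1t2) (.leaf m1t3)))
 (.node (nat_lit 6) (.node (nat_lit 5) (.leaf m1t4) (.leaf m1t5)) (.node (nat_lit 7) (.leaf m1t6) (.node (nat_lit 8) (.leaf m1t7) (.leaf m1t8)))))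
noncomputable def m1L0 : Lev := ⟨(nat_lit 0), (nat_lit 9), (nat_lit 0x50803040902030704090707040501090509040608090800), (nat_lit 0x20302030102030303030203020302030303030203030300),
 (.leaf 0),
 (.leaf 0)⟩
noncomputable def m1L1 : Lev := ⟨(nat_lit 1), (nat_lit 8), (nat_lit 0x30408030302050105050701060707060502040607080000), (nat_lit 0x30301030203030203030303030203020202020303030000),
 (.leaf 0),
 (.leaf 0)⟩
noncomputable def m1L2 : Lev := ⟨(nat_lit 2), (nat_lit 7), (nat_lit 0x20406010402010602050207010601070502030706000000), (nat_lit 0x30202030304030303020203020304010303030304000000),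
 (.leaf 0),
 (.leaf 0)⟩
noncomputable def m1L3 : Lev := ⟨(nat_lit 3), (nat_lit 6), (nat_lit 0x10302040504060504020405060503050603050500000000), (nat_lit 0x20303030302010203020304030302030403040400000000),
 (.leaf 0),
 (.leaf 0)⟩
noncomputable def m1L4 : Lev := ⟨(nat_lit 4), (nat_lit 5), (nat_lit 0x40202050503050301030402030504040501050000000000), (nat_lit 0x20203010303030202030405040403030403030000000000),
 (.leaf 0),
 (.leaf 0)⟩
noncomputable def m1L5 : Lev := ⟨(nat_lit 5), (nat_lit 4), (nat_lit 0x30404030402010102040100030001020002000000000000), (nat_lit 0x30301030203040204030200010003020002000000000000),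
 (.leaf 0),
 (.leaf 0)⟩
noncomputable def m1L6 : Lev := ⟨(nat_lit 6), (nat_lit 2), (nat_lit 0x1000000000200000000000000000000000000000000), (nat_lit 0x1000000000100000000000000000000000000000000),
 (.leaf 0),
 (.leaf 0)⟩
noncomputable def m1L : List Lev := [m1L0, m1L1, m1L2, m1L3, m1L4, m1L5, m1L6]
theorem m1c : band (m1T.all fun c => m24Chk (ap 5 31 c)) (band (tchainChk 24 5 31 m1T m1L) (Nat.ble 244823040 (chainOrd 24 m1L))) = true := by decide +kernel
noncomputable def nat0 : ℕ := (nat_lit 0xbaecaaa68899e468960478dc268580)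
noncomputable def nat1 : ℕ := (nat_lit 0xbd6717b56939461b52507314831040)
noncomputable def nat2 : ℕ := (nat_lit 0xba1f6336845c849800eea95931aa21)
noncomputable def nat3 : ℕ := (nat_lit 0xbd0f12382baa245789964ccd01b40a)
noncomputable def naT : Tr ℕ := (.node (nat_lit 2) (.node (nat_lit 1) (.leaf nat0) (.leaf nat1)) (.node (nat_lit 3) (.leaf nat2) (.leaf nat3)))
noncomputable def naL0 : Lev := ⟨(nat_lit 0), (nat_lit 4), (nat_lit 0x401010304040303020302010304040203020102030400), (nat_lit 0x304020404020404030302030103040403020304020100),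
 (.leaf 0),
 (.leaf 0)⟩
noncomputable def naL1 : Lev := ⟨(nat_lit 1), (nat_lit 2), (nat_lit 0x2000100000202000001010002000102010000), (nat_lit 0x5000400000401000005030002000203010000),
 (.leaf 0),
 (.leaf 0)⟩
noncomputable def naL2 : Lev := ⟨(nat_lit 2), (nat_lit 0), (nat_lit 0x0), (nat_lit 0x0),
 (.leaf 0),
 (.leaf 0)⟩
noncomputable def naL3 : Lev := ⟨(nat_lit 3), (nat_lit 0), (nat_lit 0x0), (nat_lit 0x0),
 (.leaf 0),
 (.leaf 0)⟩
noncomputable def naL4 : Lev := ⟨(nat_lit 4), (nat_lit 0), (nat_lit 0x0), (nat_lit 0x0),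
 (.leaf 0),
 (.leaf 0)⟩
noncomputable def naL5 : Lev := ⟨(nat_lit 5), (nat_lit 0), (nat_lit 0x0), (nat_lit 0x0),
 (.leaf 0),
 (.leaf 0)⟩
noncomputable def naL6 : Lev := ⟨(nat_lit 6), (nat_lit 0), (nat_lit 0x0), (nat_lit 0x0),
 (.leaf 0),
 (.leaf 0)⟩
noncomputable def naL : List Lev := [naL0, naL1, naL2, naL3, naL4, naL5, naL6]
noncomputable def naJ : List Pr := (List.range 23).map fun j => prC (m1L.map Lev.b) [((ap 5 31 la), itF (ap 5 31 la) j)]
noncomputable def naF0 : ℕ × ℕ := ((nat_lit 0xff0000000000000000000000000000000000000000000000), (nat_lit 0))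
theorem nab0 : allR 0 24 (ptB 24 (nat_lit 5) (nat_lit 31) m1T naT naJ m1L0 [m1L1, m1L2, m1L3, m1L4, m1L5, m1L6] naL0 (dg []) naF0.1 naF0.2) = true := by decide +kernel
noncomputable def naF1 : ℕ × ℕ := ((nat_lit 0xff010101ff00010000000000010000000000000000000000), (nat_lit 0x201050000040001030000030500000200040000000000))
theorem nab1 : allR 0 24 (ptB 24 (nat_lit 5) (nat_lit 31) m1T naT naJ m1L1 [m1L2, m1L3, m1L4, m1L5, m1L6] naL1 (dg [m1L0.b]) naF1.1 naF1.2) = true := by decide +kernel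
noncomputable def naF2 : ℕ × ℕ := ((nat_lit 0xffffffffffffffffffffffffffffffffffffffffff000000), (nat_lit 0))
theorem nab2 : allR 0 24 (ptB 24 (nat_lit 5) (nat_lit 31) m1T naT naJ m1L2 [m1L3, m1L4, m1L5, m1L6] naL2 (dg [m1L1.b, m1L0.b]) naF2.1 naF2.2) = true := by decide +kernel
noncomputable def naF3 : ℕ × ℕ := ((nat_lit 0xffffffffffffffffffffffffffffffffffffffff00000000), (nat_lit 0))
theorem nab3 : allR 0 24 (ptB 24 (nat_lit 5) (nat_lit 31) m1T naT naJ m1L3 [m1L4, m1L5, m1L6] naL3 (dg [m1L2.b, m1L1.b, m1L0.b]) naF3.1 naF3.2) = true := by decide +kernel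
noncomputable def naF4 : ℕ × ℕ := ((nat_lit 0xffffffffffffffffffffffffffffffffffffff0000000000), (nat_lit 0))
theorem nab4 : allR 0 24 (ptB 24 (nat_lit 5) (nat_lit 31) m1T naT naJ m1L4 [m1L5, m1L6] naL4 (dg [m1L3.b, m1L2.b, m1L1.b, m1L0.b]) naF4.1 naF4.2) = true := by decide +kernel
noncomputable def naF5 : ℕ × ℕ := ((nat_lit 0xffffffffffffffffffffff00ff00ffff00ff000000000000), (nat_lit 0))
theorem nab5 : allR 0 24 (ptB 24 (nat_lit 5) (nat_lit 31) m1T naT naJ m1L5 [m1L6] naL5 (dg [m1L4.b, m1L3.b, m1L2.b, m1L1.b, m1L0.b]) naF5.1 naF5.2) = true := by decide +kernel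
noncomputable def naF6 : ℕ × ℕ := ((nat_lit 0xff00000000ff00000000000000000000000000000000), (nat_lit 0))
theorem nab6 : allR 0 24 (ptB 24 (nat_lit 5) (nat_lit 31) m1T naT naJ m1L6 [] naL6 (dg [m1L5.b, m1L4.b, m1L3.b, m1L2.b, m1L1.b, m1L0.b]) naF6.1 naF6.2) = true := by decide +kernel
theorem nabk : Bk 24 (nat_lit 5) (nat_lit 31) m1T naT naJ m1L naL [naF0, naF1, naF2, naF3, naF4, naF5, naF6] [] :=
  ⟨rfl, nab0, rfl, nab1, rfl, nab2, rfl, nab3, rfl, nab4, rfl, nab5, rfl, nab6, trivial⟩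
theorem natc : tchainChk 24 (nat_lit 5) (nat_lit 31) naT naL = true := by decide +kernel
theorem nam : naT.all (fun c => anyB 23 fun j => eqB (m1L.map Lev.b) (fun a => ap 5 31 c ((ap 5 31 la) a)) fun a => itF (ap 5 31 la) j (ap 5 31 c a)) = true := by decide +kernel
theorem nal : naT.all (fun c => m24Chk (ap 5 31 c)) = true := by decide +kernel
theorem nach {C : H7.Coding GolayPt} (hC : GC C) {x : M24} (r : RepF 24 C.dec (ap 5 31 la) x) (h : orderOf x = 23) : Ch (normalizer (zpowers x : Set M24)) 24 5 31 C.dec naT naL :=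
  have A := hC.ch m1c
  A.sub _ (snd_norm A r h.le) (lets_chk (hC.lets nal) _ _ (norm_chk A r 23) nam) natc nabk
noncomputable def m2t0 : ℕ := (nat_lit 0xb80eb55670a0ece7c4c8915246082d)
noncomputable def m2t1 : ℕ := (nat_lit 0xbb64f89d505b003a4ca8aa4c470836)
noncomputable def m2t2 : ℕ := (nat_lit 0xbd1b69ae2573ea0928c81a6043882c)
noncomputable def m2t3 : ℕ := (nat_lit 0xbc92b9da2f814c7a2aa8635c400823)
noncomputable def m2t4 : ℕ := (nat_lit 0xbc68c1b4d3025557496f3d8a480828)
noncomputable def m2t5 : ℕ := (nat_lit 0xb999582ac342e544b5c03c4a49882f)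
noncomputable def m2t6 : ℕ := (nat_lit 0xbba098ca75059a61aa843b0a85882f)
noncomputable def m2t7 : ℕ := (nat_lit 0xbce95b0a11225ab629c8298ef1c820)
noncomputable def m2t8 : ℕ := (nat_lit 0xbd8cc9be24939b452d093d47028801)
noncomputable def m2t9 : ℕ := (nat_lit 0xb5e6aac8a27b8285d12c39a201c1a4)
noncomputable def m2T : Tr ℕ := (.node (nat_lit 5) (.node (nat_lit 2) (.node (nat_lit 1) (.leaf m2t0) (.leaf m2t1)) (.node (nat_lit 3) (.leaf m2t2) (.node (nat_lit 4) (.leaf m2t3) (.leaf m2t4))))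
 (.node (nat_lit 7) (.node (nat_lit 6) (.leaf m2t5) (.leaf m2t6)) (.node (nat_lit 8) (.leaf m2t7) (.node (nat_lit 9) (.leaf m2t8) (.leaf m2t9)))))
noncomputable def m2L0 : Lev := ⟨(nat_lit 23), (nat_lit 10), (nat_lit 0xa03030804060805070103020607060105020a04080a02), (nat_lit 0x103020202020303020203030303030302030303030302),
 (.leaf 0),
 (.leaf 0)⟩
noncomputable def m2L1 : Lev := ⟨(nat_lit 1), (nat_lit 9), (nat_lit 0x103030804060605070203080609060405090804080009), (nat_lit 0x203030303030302030202030303020303030302040001),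
 (.leaf 0),
 (.leaf 0)⟩
noncomputable def m2L2 : Lev := ⟨(nat_lit 2), (nat_lit 8), (nat_lit 0x402060808060702060604030504050105080803000002), (nat_lit 0x202030301030303030203020203040203030403000003),
 (.leaf 0),
 (.leaf 0)⟩
noncomputable def m2L3 : Lev := ⟨(nat_lit 4), (nat_lit 7), (nat_lit 0x103020504060406030203010605070405040004000005), (nat_lit 0x304030404040302030303030404010404040003000002),
 (.leaf 0),
 (.leaf 0)⟩
noncomputable def m2L4 : Lev := ⟨(nat_lit 8), (nat_lit 6), (nat_lit 0x103020504060406030203010605000405040004000005), (nat_lit 0x203020303030201020202020303000303030002000001),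
 (.leaf 0),
 (.leaf 0)⟩
noncomputable def m2L5 : Lev := ⟨(nat_lit 16), (nat_lit 4), (nat_lit 0x304020003000004040401010002000201030002000001), (nat_lit 0x303020003000001020303020002000402010003000004),
 (.leaf 0),
 (.leaf 0)⟩
noncomputable def m2L6 : Lev := ⟨(nat_lit 9), (nat_lit 2), (nat_lit 0x2010000000000), (nat_lit 0x1010000000000),
 (.leaf 0),
 (.leaf 0)⟩
noncomputable def m2L : List Lev := [m2L0, m2L1, m2L2, m2L3, m2L4, m2L5, m2L6]
theorem m2c : band (m2T.all fun c => m24Chk (ap 5 31 c)) (band (tchainChk 24 5 31 m2T m2L) (Nat.ble 244823040 (chainOrd 24 m2L))) = true := by decide +kernel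
noncomputable def nbt0 : ℕ := (nat_lit 0xbc5eea0d669d4923d910508ac6a420)
noncomputable def nbt1 : ℕ := (nat_lit 0xba9d37b2c8ad06489c495c0ad91820)
noncomputable def nbt2 : ℕ := (nat_lit 0xbbcae88689aa902b4c643996c93600)
noncomputable def nbt3 : ℕ := (nat_lit 0xbadf150e61b50442ba0d39aa84b240)
noncomputable def nbt4 : ℕ := (nat_lit 0x18626bc2e9426b610e54d90aad237)
noncomputable def nbT : Tr ℕ := (.node (nat_lit 2) (.node (nat_lit 1) (.leaf nbt0) (.leaf nbt1)) (.node (nat_lit 3) (.leaf nbt2) (.node (nat_lit 4) (.leaf nbt3) (.leaf nbt4))))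
noncomputable def nbL0 : Lev := ⟨(nat_lit 23), (nat_lit 5), (nat_lit 0x5), (nat_lit 0x1),
 (.leaf 0),
 (.leaf 0)⟩
noncomputable def nbL1 : Lev := ⟨(nat_lit 1), (nat_lit 4), (nat_lit 0x3000400000201000004010002000102040000), (nat_lit 0x1000100000302000002020002000302030000),
 (.leaf 0),
 (.leaf 0)⟩
noncomputable def nbL2 : Lev := ⟨(nat_lit 2), (nat_lit 2), (nat_lit 0x100000000000002020001000000000000), (nat_lit 0x200000000000001020001000000000000),
 (.leaf 0),
 (.leaf 0)⟩
noncomputable def nbL3 : Lev := ⟨(nat_lit 4), (nat_lit 0), (nat_lit 0x0), (nat_lit 0x0),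
 (.leaf 0),
 (.leaf 0)⟩
noncomputable def nbL4 : Lev := ⟨(nat_lit 8), (nat_lit 0), (nat_lit 0x0), (nat_lit 0x0),
 (.leaf 0),
 (.leaf 0)⟩
noncomputable def nbL5 : Lev := ⟨(nat_lit 16), (nat_lit 0), (nat_lit 0x0), (nat_lit 0x0),
 (.leaf 0),
 (.leaf 0)⟩
noncomputable def nbL6 : Lev := ⟨(nat_lit 9), (nat_lit 0), (nat_lit 0x0), (nat_lit 0x0),
 (.leaf 0),
 (.leaf 0)⟩
noncomputable def nbL : List Lev := [nbL0, nbL1, nbL2, nbL3, nbL4, nbL5, nbL6]
noncomputable def nbJ : List Pr := (List.range 11).map fun j => prC (m2L.map Lev.b) [((ap 5 31 lb), itF (ap 5 31 lb) j)]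
noncomputable def nbF0 : ℕ × ℕ := ((nat_lit 0x101000004020401ff0402010303000001030404040200), (nat_lit 0x201010203020102000303030102020202020202020200))
theorem nbb0 : allR 0 24 (ptB 24 (nat_lit 5) (nat_lit 31) m2T nbT nbJ m2L0 [m2L1, m2L2, m2L3, m2L4, m2L5, m2L6] nbL0 (dg []) nbF0.1 nbF0.2) = true := by decide +kernel
noncomputable def nbF1 : ℕ × ℕ := ((nat_lit 0x2000101000300ff0000000202000000000300000000ff), (nat_lit 0x101020100020000020000020200000300020000000000))
theorem nbb1 : allR 0 24 (ptB 24 (nat_lit 5) (nat_lit 31) m2T nbT nbJ m2L1 [m2L2, m2L3, m2L4, m2L5, m2L6] nbL1 (dg [m2L0.b]) nbF1.1 nbF1.2) = true := by decide +kernel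
noncomputable def nbF2 : ℕ × ℕ := ((nat_lit 0xffffffff00ff00ffffff01ffff0000ff00ff01000000ff), (nat_lit 0x2000000000002000000000000000101000000))
theorem nbb2 : allR 0 24 (ptB 24 (nat_lit 5) (nat_lit 31) m2T nbT nbJ m2L2 [m2L3, m2L4, m2L5, m2L6] nbL2 (dg [m2L1.b, m2L0.b]) nbF2.1 nbF2.2) = true := by decide +kernel
noncomputable def nbF3 : ℕ × ℕ := ((nat_lit 0xffffffffffffffffffffffffffffffffffff00ff0000ff), (nat_lit 0))
theorem nbb3 : allR 0 24 (ptB 24 (nat_lit 5) (nat_lit 31) m2T nbT nbJ m2L3 [m2L4, m2L5, m2L6] nbL3 (dg [m2L2.b, m2L1.b, m2L0.b]) nbF3.1 nbF3.2) = true := by decide +kernel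
noncomputable def nbF4 : ℕ × ℕ := ((nat_lit 0xffffffffffffffffffffffffffff00ffffff00ff0000ff), (nat_lit 0))
theorem nbb4 : allR 0 24 (ptB 24 (nat_lit 5) (nat_lit 31) m2T nbT nbJ m2L4 [m2L5, m2L6] nbL4 (dg [m2L3.b, m2L2.b, m2L1.b, m2L0.b]) nbF4.1 nbF4.2) = true := by decide +kernel
noncomputable def nbF5 : ℕ × ℕ := ((nat_lit 0xffffff00ff0000ffffffffff00ff00ffffff00ff0000ff), (nat_lit 0))
theorem nbb5 : allR 0 24 (ptB 24 (nat_lit 5) (nat_lit 31) m2T nbT nbJ m2L5 [m2L6] nbL5 (dg [m2L4.b, m2L3.b, m2L2.b, m2L1.b, m2L0.b]) nbF5.1 nbF5.2) = true := by decide +kernel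
noncomputable def nbF6 : ℕ × ℕ := ((nat_lit 0xffff0000000000), (nat_lit 0))
theorem nbb6 : allR 0 24 (ptB 24 (nat_lit 5) (nat_lit 31) m2T nbT nbJ m2L6 [] nbL6 (dg [m2L5.b, m2L4.b, m2L3.b, m2L2.b, m2L1.b, m2L0.b]) nbF6.1 nbF6.2) = true := by decide +kernel
theorem nbbk : Bk 24 (nat_lit 5) (nat_lit 31) m2T nbT nbJ m2L nbL [nbF0, nbF1, nbF2, nbF3, nbF4, nbF5, nbF6] [] :=
  ⟨rfl, nbb0, rfl, nbb1, rfl, nbb2, rfl, nbb3, rfl, nbb4, rfl, nbb5, rfl, nbb6, trivial⟩
theorem nbtc : tchainChk 24 (nat_lit 5) (nat_lit 31) nbT nbL = true := by decide +kernel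
theorem nbm : nbT.all (fun c => anyB 11 fun j => eqB (m2L.map Lev.b) (fun a => ap 5 31 c ((ap 5 31 lb) a)) fun a => itF (ap 5 31 lb) j (ap 5 31 c a)) = true := by decide +kernel
theorem nbl : nbT.all (fun c => m24Chk (ap 5 31 c)) = true := by decide +kernel
theorem nbch {C : H7.Coding GolayPt} (hC : GC C) {x : M24} (r : RepF 24 C.dec (ap 5 31 lb) x) (h : orderOf x = 11) : Ch (normalizer (zpowers x : Set M24)) 24 5 31 C.dec nbT nbL :=
  have A := hC.ch m2c
  A.sub _ (snd_norm A r h.le) (lets_chk (hC.lets nbl) _ _ (norm_chk A r 11) nbm) nbtc nbbk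
noncomputable def ncT : Tr ℕ := (.node (nat_lit 2) (.node (nat_lit 1) (.leaf nbt0) (.leaf nbt1)) (.node (nat_lit 3) (.leaf nbt2) (.leaf nbt3)))
noncomputable def ncL : List Lev := [nbL1, nbL2, nbL3, nbL4, nbL5, nbL6]
theorem ncs : band (ncT.all fun c => Nat.beq (ap (nat_lit 5) (nat_lit 31) c nbL0.b) nbL0.b) (band (tchainChk 24 (nat_lit 5) (nat_lit 31) ncT ncL) (Nat.ble (chainOrd 24 ncL) (chainOrd 24 ncL))) = true := by decide +kernel
theorem nccard {C : H7.Coding GolayPt} (hC : GC C) {x : M24} (r : RepF 24 C.dec (ap 5 31 lb) x) (h : orderOf x = 11) :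
    Nat.card (MulAction.stabilizer (normalizer (zpowers x : Set M24)) (C.dec 23)) = 55 :=
  have N := nbch hC r h
  (N.stab (lets_sel N.lets 4 (by decide +kernel)) ncs).card.trans (by decide +kernel)
noncomputable def lt0 : ℕ := (nat_lit 0xaadb6641d14a84519e8644e4fb9020)
noncomputable def lt1 : ℕ := (nat_lit 0x1d2e931612246b3b39e7521825b420)
noncomputable def lt2 : ℕ := (nat_lit 0x69697354713a18f128968056e94d20)
noncomputable def lt3 : ℕ := (nat_lit 0xa225510e07612ed2a82e7cec98acc0)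
noncomputable def lt4 : ℕ := (nat_lit 0x302495d5c11c58d9968415d4879e16)
noncomputable def lT : Tr ℕ := (.node (nat_lit 2) (.node (nat_lit 1) (.leaf lt0) (.leaf lt1)) (.node (nat_lit 3) (.leaf lt2) (.node (nat_lit 4) (.leaf lt3) (.leaf lt4))))
noncomputable def lR : Tr (List ℕ) := (.node (nat_lit 5) (.node (nat_lit 2) (.node (nat_lit 1) (.leaf [nat_lit 0, nat_lit 0, nat_lit 2, nat_lit 2, nat_lit 0, nat_lit 3]) (.leaf [nat_lit 2, nat_lit 1, nat_lit 2, nat_lit 4, nat_lit 0, nat_lit 4, nat_lit 1, nat_lit 1, nat_lit 4])) (.node (nat_lit 3) (.leaf [nat_lit 0, nat_lit 1]) (.node (nat_lit 4) (.leaf [nat_lit 4, nat_lit 0, nat_lit 2, nat_lit 4, nat_lit 0, nat_lit 2, nat_lit 4, nat_lit 0, nat_lit 2]) (.leaf [nat_lit 4, nat_lit 1, nat_lit 3, nat_lit 4, nat_lit 1, nat_lit 3, nat_lit 4, nat_lit 1, nat_lit 3]))))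
 (.node (nat_lit 7) (.node (nat_lit 6) (.leaf [nat_lit 0, nat_lit 0, nat_lit 0, nat_lit 2, nat_lit 1, nat_lit 2, nat_lit 1, nat_lit 2, nat_lit 2]) (.leaf [nat_lit 2, nat_lit 3])) (.node (nat_lit 8) (.leaf [nat_lit 4, nat_lit 4]) (.node (nat_lit 9) (.leaf [nat_lit 4, nat_lit 0, nat_lit 3, nat_lit 4, nat_lit 0, nat_lit 3, nat_lit 4, nat_lit 0, nat_lit 3]) (.leaf [nat_lit 0, nat_lit 0, nat_lit 0, nat_lit 0, nat_lit 0, nat_lit 0, nat_lit 0, nat_lit 0, nat_lit 0, nat_lit 0, nat_lit 0])))))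
noncomputable def lL0 : Lev := ⟨(nat_lit 0), (nat_lit 5), (nat_lit 0x40503010502030401030201020501030102040502040300), (nat_lit 0x30103020303040404030403020303020303020303030400),
 (.node (nat_lit 2) (.node (nat_lit 1) (.leaf (nat_lit 0x800010001000000100002000200150000001f000f00000001002000000001000000050001000c001a0004000e0000))
 (.leaf (nat_lit 0x1b0001000700010006000000160003000b0003000000110000002000010001002100000001000500000010000f0000)))
 (.node (nat_lit 3) (.leaf (nat_lit 0xa000100000001000200170000001a001400000012001300010022000d000000010002001500110018000f00000000))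
 (.node (nat_lit 4) (.leaf (nat_lit 0x100180001001000190019000000140012000900110016002100010001001500030000000e0001000000030000))
 (.leaf (nat_lit 0x3000000030003000000020016001c001d00170024002300010000000200010002000200010000001e0003001b0001))))),
 (.node (nat_lit 2) (.node (nat_lit 1) (.leaf (nat_lit 0x200000200000200000000000001000000000004000001000000000307000001000000000200000000000000000200000000000304000200000200000004000104000004000000))
 (.leaf (nat_lit 0x201000201000401000201000201000000000201000201000106000201000000000201000000000201000201000201000201000000000201000201000000000201000201000000)))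
 (.node (nat_lit 3) (.leaf (nat_lit 0x600000600000000000600000102000003000000000600000002000000000600000002000600000600000503000000000600000003000003000003000003000505000000000000))
 (.node (nat_lit 4) (.leaf (nat_lit 0x601000601000601000601000601000005000000000601000601000005000005000601000005000601000601000601000601000000000601000601000000000601000000))
 (.leaf (nat_lit 0x700000000000700000700000000000303000306000700000303000701000700000306000701000000000105000700000403000803000701000000000701000701000306000701)))))⟩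
noncomputable def lL1 : Lev := ⟨(nat_lit 1), (nat_lit 4), (nat_lit 0x40403020203010401030302020104010103040401030000), (nat_lit 0x30303020204040402030403040401020301040204030000),
 (.node (nat_lit 2) (.node (nat_lit 1) (.leaf (nat_lit 0xf00010008000200010008000000090000000a00030004000a00000001000000000001000700020000000300000000))
 (.leaf (nat_lit 0x100030010000000000008000a000900030001000900000000000b000100010001000100050002000b000400000000)))
 (.node (nat_lit 3) (.leaf (nat_lit 0x400010000000100020000000c000e0008000000000007000300100001000100010000000500040009000000010000))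
 (.leaf (nat_lit 0x1000100010008000d000000060005000500010006000f000000010009000300000000000b000400010000)))),
 (.node (nat_lit 2) (.node (nat_lit 1) (.leaf (nat_lit 0x200000004000000000200000000000000000001000000000001000004000000000004000000000200000000000000000200000004000001000000000200000000000000))
 (.leaf (nat_lit 0x201000201000201000000000000000201000201000201000201000201000201000000000000000201000201000201000201000201000201000506000201000201000000000000)))
 (.node (nat_lit 3) (.leaf (nat_lit 0x2000600000000000600000003000000000600000600000002000000000000000600000508000600000600000600000600000000000508000003000600000000000600000000))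
 (.leaf (nat_lit 0x601000601000601000005000005000000000005000601000601000601000601000005000000000601000601000601000000000000000005000601000601000000))))⟩
noncomputable def lL2 : Lev := ⟨(nat_lit 2), (nat_lit 2), (nat_lit 0x10201020000000002000100010002000000000201000000), (nat_lit 0x30502040000000002000100050003000000000104000000),
 (.node (nat_lit 1) (.leaf (nat_lit 0x20000000100000000000000000001000000000000000000000001000000000000000000010000000100000000))
 (.leaf (nat_lit 0x100000001000000000000000000000000000000010000000300000000000000000000000000000001000100000000))),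
 (.node (nat_lit 1) (.leaf (nat_lit 0x905000000000200000000000000000000000000000200000000000000000000000000000000000200000000000000000000000000000200000000000200000000000000))
 (.leaf (nat_lit 0x201000000000201000000000000000000000000000000000000000000000201000000000201000000000000000000000000000000000000000000000201000201000000000000)))⟩
noncomputable def lL : List Lev := [lL0, lL1, lL2]
theorem ll : lT.all (fun c => m24Chk (ap 5 31 c)) = true := by decide +kernel
theorem llev0 : levChk 24 (nat_lit 5) (nat_lit 31) lT lR lL0 lL1.N = true := by decide +kernel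
theorem llev1 : levChk 24 (nat_lit 5) (nat_lit 31) lT lR lL1 lL2.N = true := by decide +kernel
theorem llev2 : levChk 24 (nat_lit 5) (nat_lit 31) lT lR lL2 0 = true := by decide +kernel
theorem lchain : Chain 24 (nat_lit 5) (nat_lit 31) lT lR lL := chain_cons llev0 <| chain_cons llev1 <| chain_one llev2
theorem lsd : band (selChk lT lT (topN lL)) (lR.all fun w => eqB (m1L.map Lev.b) (apL (nat_lit 5) (nat_lit 31) lT w) fun a => a) = true := by decide +kernel
theorem ltc : tchainChk 24 (nat_lit 5) (nat_lit 31) lT lL = true := by decide +kernel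
theorem lch {C : H7.Coding GolayPt} (hC : GC C) : ∃ N : Subgroup M24, Ch N 24 5 31 C.dec lT lL :=
  let ⟨N, h, _⟩ := ((hC.ch m1c).gen (hC.lets ll) lchain lsd ltc); ⟨N, h⟩
noncomputable def lgs0 : ℕ := (nat_lit 0xb82d5a4e5183dcd62d4941cc520c41)
noncomputable def lgs1 : ℕ := (nat_lit 0xbd6717b56939461b52507314831040)
noncomputable def lgs2 : ℕ := (nat_lit 0x5883388a1c8f5140b46cd317aed7)
noncomputable def lgs3 : ℕ := (nat_lit 0xb8c4105ab49ca307b9ac5a928398a4)
noncomputable def lgs4 : ℕ := (nat_lit 0xbd6939460f7358b525073148310416)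
noncomputable def lgs5 : ℕ := (nat_lit 0xbaecaaa68899e468960478dc268580)
noncomputable def lgs6 : ℕ := (nat_lit 0xdae3145a64d4ee7d0aa5c8909b100)
noncomputable def lgs7 : ℕ := (nat_lit 0xad9ca19a445b2223a1e16c125a4ee0)
noncomputable def lgs8 : ℕ := (nat_lit 0xbc565b4144abd23a39029b4e1930c0)
noncomputable def lgs9 : ℕ := (nat_lit 0xbcdeb38ed2728c2ac5a92869062080)
noncomputable def lgs10 : ℕ := (nat_lit 0x255f782907599316cc65649d615020)
noncomputable def lgs11 : ℕ := (nat_lit 0xa12c251993a95677c9b18391748c20)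
noncomputable def lgs12 : ℕ := (nat_lit 0xaadb6641d14a84519e8644e4fb9020)
noncomputable def lgs13 : ℕ := (nat_lit 0x1d2e931612246b3b39e7521825b420)
noncomputable def lgs14 : ℕ := (nat_lit 0x69697354713a18f128968056e94d20)
noncomputable def lgs15 : ℕ := (nat_lit 0xa225510e07612ed2a82e7cec98acc0)
noncomputable def lgs16 : ℕ := (nat_lit 0x302495d5c11c58d9968415d4879e16)
noncomputable def lgS : Tr ℕ := (.node (nat_lit 8) (.node (nat_lit 4) (.node (nat_lit 2) (.node (nat_lit 1) (.leaf lgs0) (.leaf lgs1)) (.node (nat_lit 3) (.leaf lgs2) (.leaf lgs3)))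
 (.node (nat_lit 6) (.node (nat_lit 5) (.leaf lgs4) (.leaf lgs5)) (.node (nat_lit 7) (.leaf lgs6) (.leaf lgs7))))
 (.node (nat_lit 12) (.node (nat_lit 10) (.node (nat_lit 9) (.leaf lgs8) (.leaf lgs9)) (.node (nat_lit 11) (.leaf lgs10) (.leaf lgs11)))
 (.node (nat_lit 14) (.node (nat_lit 13) (.leaf lgs12) (.leaf lgs13)) (.node (nat_lit 15) (.leaf lgs14) (.node (nat_lit 16) (.leaf lgs15) (.leaf lgs16))))))
noncomputable def lgD : Tr (List ℕ) := (.node (nat_lit 8) (.node (nat_lit 4) (.node (nat_lit 2) (.node (nat_lit 1) (.leaf []) (.leaf [])) (.node (nat_lit 3) (.leaf []) (.leaf [nat_lit 0, nat_lit 0, nat_lit 0, nat_lit 0])))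
 (.node (nat_lit 6) (.node (nat_lit 5) (.leaf [nat_lit 3, nat_lit 3, nat_lit 3, nat_lit 3, nat_lit 3, nat_lit 0, nat_lit 0]) (.leaf [nat_lit 1, nat_lit 1, nat_lit 1, nat_lit 1, nat_lit 1, nat_lit 1, nat_lit 1, nat_lit 1, nat_lit 1, nat_lit 1])) (.node (nat_lit 7) (.leaf [nat_lit 0, nat_lit 2, nat_lit 0, nat_lit 5]) (.leaf [nat_lit 1, nat_lit 4, nat_lit 2, nat_lit 4]))))
 (.node (nat_lit 12) (.node (nat_lit 10) (.node (nat_lit 9) (.leaf [nat_lit 5, nat_lit 5]) (.leaf [nat_lit 1, nat_lit 1])) (.node (nat_lit 11) (.leaf [nat_lit 9, nat_lit 6, nat_lit 9, nat_lit 9]) (.leaf [nat_lit 8, nat_lit 8, nat_lit 7, nat_lit 8])))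
 (.node (nat_lit 14) (.node (nat_lit 13) (.leaf [nat_lit 10, nat_lit 10, nat_lit 10]) (.leaf [nat_lit 11, nat_lit 11, nat_lit 11])) (.node (nat_lit 15) (.leaf [nat_lit 9, nat_lit 6, nat_lit 10, nat_lit 10, nat_lit 10, nat_lit 10]) (.node (nat_lit 16) (.leaf [nat_lit 8, nat_lit 10, nat_lit 10, nat_lit 10, nat_lit 10, nat_lit 10]) (.leaf [nat_lit 4, nat_lit 11, nat_lit 6, nat_lit 11, nat_lit 11]))))))
theorem lgslp : slpChk 24 (nat_lit 5) (nat_lit 31) lgS lgD 3 14 = true := by decide +kernel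
theorem lg2 : selChk lT lgS (3 + 14) = true := by decide +kernel
theorem lwa : isProd 24 5 31 lT la [nat_lit 3, nat_lit 1, nat_lit 1, nat_lit 4, nat_lit 1, nat_lit 1, nat_lit 1, nat_lit 3, nat_lit 0, nat_lit 0, nat_lit 0, nat_lit 0, nat_lit 0] = true := by decide +kernel
theorem lwb : isProd 24 5 31 lT lb [nat_lit 3, nat_lit 0, nat_lit 3, nat_lit 1, nat_lit 1, nat_lit 1, nat_lit 1] = true := by decide +kernel
theorem lwc : isProd 24 5 31 lT lc [nat_lit 2, nat_lit 1, nat_lit 4, nat_lit 2, nat_lit 0, nat_lit 2, nat_lit 0, nat_lit 0, nat_lit 0, nat_lit 0, nat_lit 0] = true := by decide +kernel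
noncomputable def nags0 : ℕ := (nat_lit 0xb82d5a4e5183dcd62d4941cc520c41)
noncomputable def nags1 : ℕ := (nat_lit 0xbd6717b56939461b52507314831040)
noncomputable def nags2 : ℕ := (nat_lit 0xb8c4105ab49ca307b9ac5a928398a4)
noncomputable def nags3 : ℕ := (nat_lit 0xbd6939460f7358b525073148310416)
noncomputable def nags4 : ℕ := (nat_lit 0xbaecaaa68899e468960478dc268580)
noncomputable def nags5 : ℕ := (nat_lit 0xba1f6336845c849800eea95931aa21)
noncomputable def nags6 : ℕ := (nat_lit 0xbd0f12382baa245789964ccd01b40a)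
noncomputable def nagS : Tr ℕ := (.node (nat_lit 3) (.node (nat_lit 1) (.leaf nags0) (.node (nat_lit 2) (.leaf nags1) (.leaf nags2)))
 (.node (nat_lit 5) (.node (nat_lit 4) (.leaf nags3) (.leaf nags4)) (.node (nat_lit 6) (.leaf nags5) (.leaf nags6))))
noncomputable def nagD : Tr (List ℕ) := (.node (nat_lit 3) (.node (nat_lit 1) (.leaf []) (.node (nat_lit 2) (.leaf []) (.leaf [nat_lit 0, nat_lit 0, nat_lit 0, nat_lit 0])))
 (.node (nat_lit 5) (.node (nat_lit 4) (.leaf [nat_lit 2, nat_lit 2, nat_lit 2, nat_lit 2, nat_lit 2, nat_lit 0, nat_lit 0]) (.leaf [nat_lit 1, nat_lit 1, nat_lit 1, nat_lit 1, nat_lit 1, nat_lit 1, nat_lit 1, nat_lit 1, nat_lit 1, nat_lit 1])) (.node (nat_lit 6) (.leaf [nat_lit 0, nat_lit 1, nat_lit 1, nat_lit 1, nat_lit 1]) (.leaf [nat_lit 3, nat_lit 4, nat_lit 3, nat_lit 4, nat_lit 4, nat_lit 4]))))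
theorem nagslp : slpChk 24 (nat_lit 5) (nat_lit 31) nagS nagD 2 5 = true := by decide +kernel
theorem nag2 : selChk naT nagS (2 + 5) = true := by decide +kernel
theorem nawa : isProd 24 5 31 naT la [nat_lit 2, nat_lit 0, nat_lit 0, nat_lit 0, nat_lit 0] = true := by decide +kernel
theorem nawb : isProd 24 5 31 naT lb [nat_lit 1] = true := by decide +kernel

end H8.GN
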