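import Cfsg.Agent.H8.GRu0

/-! H8.GRu: permutation model of order 145926144000 on 4060 points: `lets`, `std`, `card`, `base` (generated certificate) -/

set_option autoImplicit false
set_option Elab.async false
set_option maxRecDepth 200000

namespace H8.Ru

theorem gen : genChk 4060 (nat_lit 12) (nat_lit 4095) G0 2 = true := by decide +kernel
theorem slp_0 : allR 2 4 (fun j => band (allL (D.get j) (fun y => Nat.ble (Nat.succ y) j)) (isProd 4060 (nat_lit 12) (nat_lit 4095) T' (T'.get j) (D.get j))) = true := by decide +kernel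
theorem slp_1 : allR 6 3 (fun j => band (allL (D.get j) (fun y => Nat.ble (Nat.succ y) j)) (isProd 4060 (nat_lit 12) (nat_lit 4095) T' (T'.get j) (D.get j))) = true := by decide +kernel
theorem slp_2 : allR 9 2 (fun j => band (allL (D.get j) (fun y => Nat.ble (Nat.succ y) j)) (isProd 4060 (nat_lit 12) (nat_lit 4095) T' (T'.get j) (D.get j))) = true := by decide +kernel
theorem slp_3 : allR 11 4 (fun j => band (allL (D.get j) (fun y => Nat.ble (Nat.succ y) j)) (isProd 4060 (nat_lit 12) (nat_lit 4095) T' (T'.get j) (D.get j))) = true := by decide +kernel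
theorem slp_4 : allR 15 4 (fun j => band (allL (D.get j) (fun y => Nat.ble (Nat.succ y) j)) (isProd 4060 (nat_lit 12) (nat_lit 4095) T' (T'.get j) (D.get j))) = true := by decide +kernel
theorem slp_5 : allR 19 6 (fun j => band (allL (D.get j) (fun y => Nat.ble (Nat.succ y) j)) (isProd 4060 (nat_lit 12) (nat_lit 4095) T' (T'.get j) (D.get j))) = true := by decide +kernel
theorem slp : slpChk 4060 (nat_lit 12) (nat_lit 4095) T' D 2 23 = true := (allR_add (allR_add (allR_add (allR_add (allR_add slp_0 slp_1) slp_2) slp_3) slp_4) slp_5)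
theorem lets : Lets P 4060 (nat_lit 12) (nat_lit 4095) (Fin.ofNat 4060) T := lets_PG (T' := T') D 23 gen (by decide +kernel) slp
theorem lev0_0 : allR (0 * 1015) 1015 (ptChk (nat_lit 12) (nat_lit 4095) T RL L0 L1.N) = true := by decide +kernel
theorem lev0_1 : allR (1 * 1015) 1015 (ptChk (nat_lit 12) (nat_lit 4095) T RL L0 L1.N) = true := by decide +kernel
theorem lev0_2 : allR (2 * 1015) 1015 (ptChk (nat_lit 12) (nat_lit 4095) T RL L0 L1.N) = true := by decide +kernel
theorem lev0_3 : allR (3 * 1015) 1015 (ptChk (nat_lit 12) (nat_lit 4095) T RL L0 L1.N) = true := by decide +kernel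
theorem lev0 : levChk 4060 (nat_lit 12) (nat_lit 4095) T RL L0 L1.N = true := levChk_of_parts 1015 (by decide +kernel) (fun i hi => by
    have : i < 4 := by omega
    interval_cases i
    exacts [lev0_0, lev0_1, lev0_2, lev0_3]) (by norm_num)
theorem lev1_0 : allR (0 * 2030) 2030 (ptChk (nat_lit 12) (nat_lit 4095) T RL L1 L2.N) = true := by decide +kernel
theorem lev1_1 : allR (1 * 2030) 2030 (ptChk (nat_lit 12) (nat_lit 4095) T RL L1 L2.N) = true := by decide +kernel
theorem lev1 : levChk 4060 (nat_lit 12) (nat_lit 4095) T RL L1 L2.N = true := levChk_of_parts 2030 (by decide +kernel) (fun i hi => by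
    have : i < 2 := by omega
    interval_cases i
    exacts [lev1_0, lev1_1]) (by norm_num)
theorem lev2 : levChk 4060 (nat_lit 12) (nat_lit 4095) T RL L2 L3.N = true := by decide +kernel
theorem lev3 : levChk 4060 (nat_lit 12) (nat_lit 4095) T RL L3 0 = true := by decide +kernel
theorem chain : Chain 4060 (nat_lit 12) (nat_lit 4095) T RL L := chain_cons lev0 <| chain_cons lev1 <| chain_cons lev2 <| chain_one lev3
theorem rels_0 : RL_0.all (fixAll 4060 (nat_lit 12) (nat_lit 4095) T) = true := by decide +kernel
theorem rels_1 : RL_1.all (fixAll 4060 (nat_lit 12) (nat_lit 4095) T) = true := by decide +kernel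
theorem rels_2 : RL_2.all (fixAll 4060 (nat_lit 12) (nat_lit 4095) T) = true := by decide +kernel
theorem rels_3 : RL_3.all (fixAll 4060 (nat_lit 12) (nat_lit 4095) T) = true := by decide +kernel
theorem rels_4 : RL_4.all (fixAll 4060 (nat_lit 12) (nat_lit 4095) T) = true := by decide +kernel
theorem rels_5 : RL_5.all (fixAll 4060 (nat_lit 12) (nat_lit 4095) T) = true := by decide +kernel
theorem rels_6 : RL_6.all (fixAll 4060 (nat_lit 12) (nat_lit 4095) T) = true := by decide +kernel
theorem rels_7 : RL_7.all (fixAll 4060 (nat_lit 12) (nat_lit 4095) T) = true := by decide +kernel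
theorem rels_8 : RL_8.all (fixAll 4060 (nat_lit 12) (nat_lit 4095) T) = true := by decide +kernel
theorem rels_9 : RL_9.all (fixAll 4060 (nat_lit 12) (nat_lit 4095) T) = true := by decide +kernel
theorem rels_10 : RL_10.all (fixAll 4060 (nat_lit 12) (nat_lit 4095) T) = true := by decide +kernel
theorem rels_11 : RL_11.all (fixAll 4060 (nat_lit 12) (nat_lit 4095) T) = true := by decide +kernel
theorem rels_12 : RL_12.all (fixAll 4060 (nat_lit 12) (nat_lit 4095) T) = true := by decide +kernel
theorem rels_13 : RL_13.all (fixAll 4060 (nat_lit 12) (nat_lit 4095) T) = true := by decide +kernel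
theorem rels_14 : RL_14.all (fixAll 4060 (nat_lit 12) (nat_lit 4095) T) = true := by decide +kernel
theorem rels_15 : RL_15.all (fixAll 4060 (nat_lit 12) (nat_lit 4095) T) = true := by decide +kernel
theorem rels_16 : RL_16.all (fixAll 4060 (nat_lit 12) (nat_lit 4095) T) = true := by decide +kernel
theorem rels_17 : RL_17.all (fixAll 4060 (nat_lit 12) (nat_lit 4095) T) = true := by decide +kernel
theorem rels_18 : RL_18.all (fixAll 4060 (nat_lit 12) (nat_lit 4095) T) = true := by decide +kernel
theorem rels_19 : RL_19.all (fixAll 4060 (nat_lit 12) (nat_lit 4095) T) = true := by decide +kernel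
theorem rels_20 : RL_20.all (fixAll 4060 (nat_lit 12) (nat_lit 4095) T) = true := by decide +kernel
theorem rels_21 : RL_21.all (fixAll 4060 (nat_lit 12) (nat_lit 4095) T) = true := by decide +kernel
theorem rels_22 : RL_22.all (fixAll 4060 (nat_lit 12) (nat_lit 4095) T) = true := by decide +kernel
theorem rels_23 : RL_23.all (fixAll 4060 (nat_lit 12) (nat_lit 4095) T) = true := by decide +kernel
theorem rels_24 : RL_24.all (fixAll 4060 (nat_lit 12) (nat_lit 4095) T) = true := by decide +kernel
theorem rels_25 : RL_25.all (fixAll 4060 (nat_lit 12) (nat_lit 4095) T) = true := by decide +kernel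
theorem rels_26 : RL_26.all (fixAll 4060 (nat_lit 12) (nat_lit 4095) T) = true := by decide +kernel
theorem rels_27 : RL_27.all (fixAll 4060 (nat_lit 12) (nat_lit 4095) T) = true := by decide +kernel
theorem rels_28 : RL_28.all (fixAll 4060 (nat_lit 12) (nat_lit 4095) T) = true := by decide +kernel
theorem rels_29 : RL_29.all (fixAll 4060 (nat_lit 12) (nat_lit 4095) T) = true := by decide +kernel
theorem rels_30 : RL_30.all (fixAll 4060 (nat_lit 12) (nat_lit 4095) T) = true := by decide +kernel
theorem rels : RL.all (fixAll 4060 (nat_lit 12) (nat_lit 4095) T) = true := (Tr.all_node (Tr.all_node (Tr.all_node (Tr.all_node rels_0 (Tr.all_node rels_1 rels_2)) (Tr.all_node (Tr.all_node rels_3 rels_4) (Tr.all_node rels_5 rels_6))) (Tr.all_node (Tr.all_node (Tr.all_node rels_7 rels_8) (Tr.all_node rels_9 rels_10)) (Tr.all_node (Tr.all_node rels_11 rels_12) (Tr.all_node rels_13 rels_14)))) (Tr.all_node (Tr.all_node (Tr.all_node (Tr.all_node rels_15 rels_16) rels_17) (Tr.all_node (Tr.all_node rels_18 rels_19) (Tr.all_node rels_20 rels_21))) (Tr.all_node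 (Tr.all_node (Tr.all_node rels_22 rels_23) (Tr.all_node rels_24 rels_25)) (Tr.all_node (Tr.all_node rels_26 (Tr.all_node rels_27 rels_28)) (Tr.all_node rels_29 rels_30)))))
theorem std : Std P 4060 (nat_lit 12) (nat_lit 4095) (Fin.ofNat 4060) T RL L := std_PG' gen lets chain rels E (allB_iff.1 (by decide +kernel))
theorem card : Nat.card P = 145926144000 := std.card.trans (by decide +kernel)
theorem base : IsB P 4060 (Fin.ofNat 4060) B := std.base

end H8.Ru
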