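import Cfsg.Agent.H8.Glue
import Cfsg.Agent.H8.Cover

/-! H8.GU32: permutation model of order 72 on 9 points: `P`, `lets`, `std`, `card`, `base` (generated certificate) -/

set_option autoImplicit false
set_option maxRecDepth 200000

namespace H8.U32

noncomputable def t0 : ℕ := (nat_lit 0x275186034)
noncomputable def t1 : ℕ := (nat_lit 0x642531078)
noncomputable def t2 : ℕ := (nat_lit 0x473601852)
noncomputable def t3 : ℕ := (nat_lit 0x18574632)
noncomputable def t4 : ℕ := (nat_lit 0x341287650)
noncomputable def t5 : ℕ := (nat_lit 0x124356870)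
noncomputable def t6 : ℕ := (nat_lit 0x213465780)
noncomputable def t7 : ℕ := (nat_lit 0x568721340)
noncomputable def t8 : ℕ := (nat_lit 0x657812430)
noncomputable def t9 : ℕ := (nat_lit 0x804261537)
noncomputable def G0 : Tr ℕ := (.node (nat_lit 1) (.leaf t0)
 (.leaf t1))
noncomputable def T' : Tr ℕ := (.node (nat_lit 5) (.node (nat_lit 2) (.node (nat_lit 1) (.leaf t0)
 (.leaf t1))
 (.node (nat_lit 3) (.leaf t2)
 (.node (nat_lit 4) (.leaf t3)
 (.leaf t4))))
 (.node (nat_lit 7) (.node (nat_lit 6) (.leaf t5)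
 (.leaf t6))
 (.node (nat_lit 8) (.leaf t7)
 (.node (nat_lit 9) (.leaf t8)
 (.leaf t9)))))
noncomputable def D : Tr (List ℕ) := (.node (nat_lit 5) (.node (nat_lit 2) (.node (nat_lit 1) (.leaf [])
 (.leaf []))
 (.node (nat_lit 3) (.leaf [nat_lit 0, nat_lit 0, nat_lit 0])
 (.node (nat_lit 4) (.leaf [nat_lit 1, nat_lit 1, nat_lit 1])
 (.leaf [nat_lit 3, nat_lit 3, nat_lit 3, nat_lit 2]))))
 (.node (nat_lit 7) (.node (nat_lit 6) (.leaf [nat_lit 0, nat_lit 0, nat_lit 1])
 (.leaf [nat_lit 3, nat_lit 2, nat_lit 2]))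
 (.node (nat_lit 8) (.leaf [nat_lit 6, nat_lit 4])
 (.node (nat_lit 9) (.leaf [nat_lit 7, nat_lit 7, nat_lit 7])
 (.leaf [nat_lit 6, nat_lit 2, nat_lit 4])))))
noncomputable def T : Tr ℕ := (.node (nat_lit 2) (.node (nat_lit 1) (.leaf t7)
 (.leaf t8))
 (.node (nat_lit 3) (.leaf t5)
 (.node (nat_lit 4) (.leaf t6)
 (.leaf t9))))
noncomputable def RL_0 : Tr (List ℕ) := (.node (nat_lit 3) (.node (nat_lit 1) (.leaf [nat_lit 0, nat_lit 0, nat_lit 0, nat_lit 0])
 (.node (nat_lit 2) (.leaf [nat_lit 0, nat_lit 0, nat_lit 2, nat_lit 2])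
 (.leaf [nat_lit 0, nat_lit 2, nat_lit 0, nat_lit 3])))
 (.node (nat_lit 5) (.node (nat_lit 4) (.leaf [nat_lit 0, nat_lit 1])
 (.leaf [nat_lit 2, nat_lit 3]))
 (.node (nat_lit 6) (.leaf [nat_lit 4, nat_lit 4])
 (.leaf [nat_lit 0, nat_lit 2, nat_lit 4, nat_lit 0, nat_lit 4, nat_lit 2, nat_lit 4]))))
noncomputable def RL : Tr (List ℕ) := RL_0
noncomputable def L0 : Lev := ⟨(nat_lit 0), (nat_lit 5), (nat_lit 0x10502010304040300), (nat_lit 0x30102020303020200),
 (.node (nat_lit 2) (.node (nat_lit 1) (.leaf (nat_lit 0x10002000000070005000600080000))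
 (.leaf (nat_lit 0x300010000000100090007000800060000)))
 (.node (nat_lit 3) (.leaf (nat_lit 0x300010002000100000003000200000000))
 (.node (nat_lit 4) (.leaf (nat_lit 0x300010004000100030000000000040000))
 (.leaf (nat_lit 0xb000000090003000a0007000200080001))))),
 (.node (nat_lit 2) (.node (nat_lit 1) (.leaf (nat_lit 0x300000001000000000101000200000101000003000000))
 (.leaf (nat_lit 0x301000301000000000301000301000301000301000301000000)))
 (.node (nat_lit 3) (.leaf (nat_lit 0x103000400000103000400000000000102000102000000000000))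
 (.node (nat_lit 4) (.leaf (nat_lit 0x401000401000401000401000401000000000000000401000000))
 (.leaf (nat_lit 0x602000000000604000500000501000606000604000501000501)))))⟩
noncomputable def L1 : Lev := ⟨(nat_lit 1), (nat_lit 4), (nat_lit 0x30404030201010000), (nat_lit 0x10102020101020000),
 (.node (nat_lit 2) (.node (nat_lit 1) (.leaf (nat_lit 0x200050003000400020000000000010000))
 (.leaf (nat_lit 0x400050006000300000001000300010000)))
 (.node (nat_lit 3) (.leaf (nat_lit 0x20003000000020001000300010000))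
 (.leaf (nat_lit 0x400000000000300040001000300010000)))),
 (.node (nat_lit 2) (.node (nat_lit 1) (.leaf (nat_lit 0x202000002000101000100000002000000000000000300000000))
 (.leaf (nat_lit 0x301000301000301000301000000000301000301000301000000)))
 (.node (nat_lit 3) (.leaf (nat_lit 0x102000102000000000103000400000103000400000000))
 (.leaf (nat_lit 0x401000000000000000401000401000401000401000401000000))))⟩
noncomputable def L : List Lev := [L0, L1]
noncomputable abbrev P := PG 9 (nat_lit 4) (nat_lit 15) G0 2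
theorem gen : genChk 9 (nat_lit 4) (nat_lit 15) G0 2 = true := by decide +kernel
theorem slp : slpChk 9 (nat_lit 4) (nat_lit 15) T' D 2 8 = true := by decide +kernel
theorem lets : Lets P 9 (nat_lit 4) (nat_lit 15) (Fin.ofNat 9) T := lets_PG (T' := T') D 8 gen (by decide +kernel) slp
theorem lev0 : levChk 9 (nat_lit 4) (nat_lit 15) T RL L0 L1.N = true := by decide +kernel
theorem lev1 : levChk 9 (nat_lit 4) (nat_lit 15) T RL L1 0 = true := by decide +kernel
theorem chain : Chain 9 (nat_lit 4) (nat_lit 15) T RL L := chain_cons lev0 <| chain_one lev1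
theorem rels : RL.all (fixAll 9 (nat_lit 4) (nat_lit 15) T) = true := by decide +kernel
noncomputable def E : Tr (List ℕ) := (.node (nat_lit 1) (.leaf [nat_lit 3, nat_lit 1, nat_lit 4, nat_lit 3])
 (.leaf [nat_lit 1, nat_lit 1, nat_lit 4, nat_lit 3]))
theorem std : Std P 9 (nat_lit 4) (nat_lit 15) (Fin.ofNat 9) T RL L := std_PG' gen lets chain rels E (allB_iff.1 (by decide +kernel))
theorem card : Nat.card P = 72 := std.card.trans (by decide +kernel)
def B : List ℕ := [nat_lit 0, nat_lit 1]
theorem base : IsB P 9 (Fin.ofNat 9) B := std.base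

end H8.U32
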