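import Cfsg.Agent.H8.Glue
import Cfsg.Agent.H8.Cover

/-! H8.GU33: permutation model of order 6048 on 28 points: `P`, `lets`, `std`, `card`, `base` (generated certificate) -/

set_option autoImplicit false
set_option maxRecDepth 200000

namespace H8.U33

noncomputable def t0 : ℕ := (nat_lit 0x6a134d6dc72b2a4846cb94cd7c654f00861)
noncomputable def t1 : ℕ := (nat_lit 0x1db42310e55b6bbbb2219200e9d130cab0f)
noncomputable def t2 : ℕ := (nat_lit 0xb5cc74363852dcf257726173aa267008803)
noncomputable def t3 : ℕ := (nat_lit 0x864617ea263ada40224e988aaade96de189)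
noncomputable def t4 : ℕ := (nat_lit 0xd0a6ca9b01249abb21e5a0f2ebed503c520)
noncomputable def t5 : ℕ := (nat_lit 0x36d353beebcc8446a2388142e1d99356a80)
noncomputable def t6 : ℕ := (nat_lit 0x5dc6e0c94dd26a4a1c58de6717d8a8830c0)
noncomputable def t7 : ℕ := (nat_lit 0x5cd4cd1a2f4d9033e282dd644704b0cb6e0)
noncomputable def t8 : ℕ := (nat_lit 0x55ec7c450d72ccf96c95d658584e8910c20)
noncomputable def t9 : ℕ := (nat_lit 0x72d57d658533ec784e8996c95c450d10c20)
noncomputable def t10 : ℕ := (nat_lit 0xce230398a4dea725a928bdab47b9ac18820)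
noncomputable def t11 : ℕ := (nat_lit 0x9cb7a5a9288c338398a47b9acbdab418820)
noncomputable def t12 : ℕ := (nat_lit 0x33dcb96c95b1d57c450d84e89d658510c20)
noncomputable def t13 : ℕ := (nat_lit 0xb1ccf84e8955dcbd6585c450d96c9510c20)
noncomputable def t14 : ℕ := (nat_lit 0xdd91496a1835c75635cf5903914caa89d20)
noncomputable def t15 : ℕ := (nat_lit 0xdc5d6be0a33af5036522929a19bea0a3104)
noncomputable def G0 : Tr ℕ := (.node (nat_lit 1) (.leaf t0)
 (.leaf t1))
noncomputable def T' : Tr ℕ := (.node (nat_lit 8) (.node (nat_lit 4) (.node (nat_lit 2) (.node (nat_lit 1) (.leaf t0)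
 (.leaf t1))
 (.node (nat_lit 3) (.leaf t2)
 (.leaf t3)))
 (.node (nat_lit 6) (.node (nat_lit 5) (.leaf t4)
 (.leaf t5))
 (.node (nat_lit 7) (.leaf t6)
 (.leaf t7))))
 (.node (nat_lit 12) (.node (nat_lit 10) (.node (nat_lit 9) (.leaf t8)
 (.leaf t9))
 (.node (nat_lit 11) (.leaf t10)
 (.leaf t11)))
 (.node (nat_lit 14) (.node (nat_lit 13) (.leaf t12)
 (.leaf t13))
 (.node (nat_lit 15) (.leaf t14)
 (.leaf t15)))))
noncomputable def D : Tr (List ℕ) := (.node (nat_lit 8) (.node (nat_lit 4) (.node (nat_lit 2) (.node (nat_lit 1) (.leaf [])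
 (.leaf []))
 (.node (nat_lit 3) (.leaf [nat_lit 0, nat_lit 0])
 (.leaf [nat_lit 1, nat_lit 1, nat_lit 1, nat_lit 1, nat_lit 1, nat_lit 1])))
 (.node (nat_lit 6) (.node (nat_lit 5) (.leaf [nat_lit 2, nat_lit 1, nat_lit 2, nat_lit 3, nat_lit 0, nat_lit 0, nat_lit 3, nat_lit 0])
 (.leaf [nat_lit 2, nat_lit 1, nat_lit 2, nat_lit 2, nat_lit 1, nat_lit 0, nat_lit 3, nat_lit 0]))
 (.node (nat_lit 7) (.leaf [nat_lit 2, nat_lit 3, nat_lit 0, nat_lit 0, nat_lit 3, nat_lit 3, nat_lit 3])
 (.leaf [nat_lit 1, nat_lit 1, nat_lit 1, nat_lit 2, nat_lit 2, nat_lit 1, nat_lit 0]))))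
 (.node (nat_lit 12) (.node (nat_lit 10) (.node (nat_lit 9) (.leaf [nat_lit 5, nat_lit 5, nat_lit 5, nat_lit 6, nat_lit 4])
 (.leaf [nat_lit 5, nat_lit 7, nat_lit 4, nat_lit 4, nat_lit 4]))
 (.node (nat_lit 11) (.leaf [nat_lit 8, nat_lit 8])
 (.leaf [nat_lit 9, nat_lit 9])))
 (.node (nat_lit 14) (.node (nat_lit 13) (.leaf [nat_lit 9, nat_lit 11])
 (.leaf [nat_lit 12, nat_lit 12, nat_lit 12, nat_lit 12, nat_lit 12, nat_lit 12, nat_lit 12]))
 (.node (nat_lit 15) (.leaf [nat_lit 4, nat_lit 9, nat_lit 11])
 (.leaf [nat_lit 9, nat_lit 3, nat_lit 4, nat_lit 9])))))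
noncomputable def T : Tr ℕ := (.node (nat_lit 3) (.node (nat_lit 1) (.leaf t10)
 (.node (nat_lit 2) (.leaf t11)
 (.leaf t12)))
 (.node (nat_lit 4) (.leaf t13)
 (.node (nat_lit 5) (.leaf t14)
 (.leaf t15))))
noncomputable def RL_0 : Tr (List ℕ) := (.node (nat_lit 3) (.node (nat_lit 1) (.leaf [nat_lit 0, nat_lit 1])
 (.node (nat_lit 2) (.leaf [nat_lit 0, nat_lit 0, nat_lit 0, nat_lit 0])
 (.leaf [nat_lit 0, nat_lit 4, nat_lit 2, nat_lit 4, nat_lit 3, nat_lit 4, nat_lit 1, nat_lit 4])))
 (.node (nat_lit 4) (.leaf [nat_lit 2, nat_lit 1, nat_lit 2])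
 (.node (nat_lit 5) (.leaf [nat_lit 0, nat_lit 5, nat_lit 0, nat_lit 5, nat_lit 1, nat_lit 5, nat_lit 1, nat_lit 5])
 (.leaf [nat_lit 0, nat_lit 0, nat_lit 4, nat_lit 0, nat_lit 0, nat_lit 4, nat_lit 1, nat_lit 1, nat_lit 4]))))
noncomputable def RL_1 : Tr (List ℕ) := (.node (nat_lit 9) (.node (nat_lit 7) (.leaf [nat_lit 5, nat_lit 2, nat_lit 5, nat_lit 2, nat_lit 5, nat_lit 2])
 (.node (nat_lit 8) (.leaf [nat_lit 2, nat_lit 3])
 (.leaf [nat_lit 4, nat_lit 4])))
 (.node (nat_lit 11) (.node (nat_lit 10) (.leaf [nat_lit 5, nat_lit 4, nat_lit 5, nat_lit 4, nat_lit 5, nat_lit 4])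
 (.leaf [nat_lit 0, nat_lit 2, nat_lit 4, nat_lit 5, nat_lit 0, nat_lit 0, nat_lit 5, nat_lit 4, nat_lit 3, nat_lit 1, nat_lit 5]))
 (.node (nat_lit 12) (.leaf [nat_lit 5, nat_lit 5])
 (.leaf [nat_lit 1, nat_lit 4, nat_lit 0, nat_lit 5, nat_lit 2, nat_lit 4, nat_lit 5, nat_lit 4, nat_lit 3, nat_lit 5]))))
noncomputable def RL : Tr (List ℕ) := (.node (nat_lit 6) RL_0 RL_1)
noncomputable def L0 : Lev := ⟨(nat_lit 0), (nat_lit 6), (nat_lit 0x4010505040203010402030505010402040503010106040606060600), (nat_lit 0x4040403040302020304030303030302040203030404020103030400),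
 (.node (nat_lit 3) (.node (nat_lit 1) (.leaf (nat_lit 0x210000001b000a0012001d000300000004000b000300010017000000060002000e0001000400000000001c0004000100030007000a0000))
 (.node (nat_lit 2) (.leaf (nat_lit 0x3000c00200001000d00000003000100020000001a000b0001001b0003000000160001000500030011001e000200010002000600090000))
 (.leaf (nat_lit 0x1f001400190001000200010000000200020012000000010015000200040001000c0001000000020013001a000200010005000400080000))))
 (.node (nat_lit 4) (.leaf (nat_lit 0x14001b00160000000300030001000000030003000d0015001800000003000000010003000500130020000000010005000600090000))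
 (.node (nat_lit 5) (.leaf (nat_lit 0x210011000000000010001000010001001d000f001f00000000001600170001000e000000020001001f001c000400010020001e00030000))
 (.leaf (nat_lit 0x23001400190022002400210003000100020023001500020001001800060001002200020007000100030000000200000000000000000001))))),
 (.node (nat_lit 3) (.node (nat_lit 1) (.leaf (nat_lit 0x200000000000100000000000000000000000102000000000000000000000000000000000102000000000000000000000000000000000000000000000000000000000000000000000000))
 (.node (nat_lit 2) (.leaf (nat_lit 0x301000001000301000001000301000000000301000001000301000000000301000001000001000301000301000000000301000001000301000001000506000001000301000001000404000301000301000000))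
 (.leaf (nat_lit 0x302000302000700000700000302000700000000000300000302000302000000000700000302000300000302000700000302000700000000000300000302000605000302000700000300000605000605000000))))
 (.node (nat_lit 4) (.leaf (nat_lit 0x701000701000701000000000701000701000701000000000701000701000701000701000204000000000701000000000701000701000701000701000701000000000701000701000701000701000000))
 (.node (nat_lit 5) (.leaf (nat_lit 0x205000800000000000000000800000207000800000801000800000207000205000000000000000205000801000801000203000000000a07000801000800000205000905000801000801000905000801000000))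
 (.leaf (nat_lit 0x602000604000b00000b00000602000902000b00000b00000c03000b00000b01000c06000b00000902000602000b00000600000902000b01000b00000b01000000000602000000000000000000000000000b01)))))⟩
noncomputable def L1 : Lev := ⟨(nat_lit 1), (nat_lit 5), (nat_lit 0x1010505040102040502040505050103030205030101010405050000), (nat_lit 0x4040303040502020504040304030203040401020504030305060000),
 (.node (nat_lit 2) (.node (nat_lit 1) (.leaf (nat_lit 0x50002000e000000090004001c0003001900010013000100000004000300020001000300000000000000050005000f00000000))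
 (.leaf (nat_lit 0x1b0004000100010002000300000002001800000004000300010001000100060012000000010003000d0001000800030006001000000000)))
 (.node (nat_lit 3) (.leaf (nat_lit 0x50010000300040002000600010002001a000e0002000100110001000200000000001900010000000f0004000200070015001600000000))
 (.node (nat_lit 4) (.leaf (nat_lit 0x70010000500120000001b00030000001a00030000000100110002000100030005000300010003000f0006000800000017001400000000))
 (.leaf (nat_lit 0x6001200000000000c0011000100010000000b000100000000000000010001000a00130000000100010001000200120000000000010000))))),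
 (.node (nat_lit 2) (.node (nat_lit 1) (.leaf (nat_lit 0x200000000000000000000000000000000000102000000000000000000000000000000000000000000000101000000000000000000000000000000000103000200000200000000000000))
 (.leaf (nat_lit 0x301000001000001000001000301000001000000000301000206000000000301000001000001000001000001000001000301000000000001000301000506000001000301000301000001000001000000000000)))
 (.node (nat_lit 3) (.leaf (nat_lit 0x300000302000700000300000302000300000700000302000302000302000302000700000302000700000300000000000000000302000700000000000302000300000300000300000700000302000000000000))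
 (.node (nat_lit 4) (.leaf (nat_lit 0x701000701000701000701000000000701000701000000000701000701000000000701000701000204000701000701000701000701000701000701000701000701000701000000000701000204000000000000))
 (.leaf (nat_lit 0x505000800000000000000000800000203000800000801000000000207000800000000000000000000000801000801000203000800000000000801000800000801000505000207000000000000000801000000)))))⟩
noncomputable def L2 : Lev := ⟨(nat_lit 2), (nat_lit 4), (nat_lit 0x3000000), (nat_lit 0x1000000),
 (.node (nat_lit 2) (.node (nat_lit 1) (.leaf (nat_lit 0x3000000000000))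
 (.leaf (nat_lit 0x2000000000000)))
 (.node (nat_lit 3) (.leaf (nat_lit 0x100000000))
 (.leaf (nat_lit 0x2000100000000)))),
 (.node (nat_lit 2) (.node (nat_lit 1) (.leaf (nat_lit 0x0))
 (.leaf (nat_lit 0x301000000000000000000)))
 (.node (nat_lit 3) (.leaf (nat_lit 0x300000000000000))
 (.leaf (nat_lit 0x701000701000000000000))))⟩
noncomputable def L3 : Lev := ⟨(nat_lit 4), (nat_lit 2), (nat_lit 0x10000000000000002000000010000000000000000), (nat_lit 0x10000000000000001000000020000000000000000),
 (.node (nat_lit 1) (.leaf (nat_lit 0x2000000000000000000000000000000010000000000000000))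
 (.leaf (nat_lit 0x100000000000000000000000000000000000000000000000300000000000000010000000000000000))),
 (.node (nat_lit 1) (.leaf (nat_lit 0x102000000000000000000000000000000000000000000000000000000000000000000000000))
 (.leaf (nat_lit 0x1000000000000000000000000000000000000000000000000000000000000000000000001000000000000000000000001000000000000000000000000)))⟩
noncomputable def L : List Lev := [L0, L1, L2, L3]
noncomputable abbrev P := PG 28 (nat_lit 5) (nat_lit 31) G0 2
theorem gen : genChk 28 (nat_lit 5) (nat_lit 31) G0 2 = true := by decide +kernel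
theorem slp : slpChk 28 (nat_lit 5) (nat_lit 31) T' D 2 14 = true := by decide +kernel
theorem lets : Lets P 28 (nat_lit 5) (nat_lit 31) (Fin.ofNat 28) T := lets_PG (T' := T') D 14 gen (by decide +kernel) slp
theorem lev0 : levChk 28 (nat_lit 5) (nat_lit 31) T RL L0 L1.N = true := by decide +kernel
theorem lev1 : levChk 28 (nat_lit 5) (nat_lit 31) T RL L1 L2.N = true := by decide +kernel
theorem lev2 : levChk 28 (nat_lit 5) (nat_lit 31) T RL L2 L3.N = true := by decide +kernel
theorem lev3 : levChk 28 (nat_lit 5) (nat_lit 31) T RL L3 0 = true := by decide +kernel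
theorem chain : Chain 28 (nat_lit 5) (nat_lit 31) T RL L := chain_cons lev0 <| chain_cons lev1 <| chain_cons lev2 <| chain_one lev3
theorem rels : RL.all (fixAll 28 (nat_lit 5) (nat_lit 31) T) = true := by decide +kernel
noncomputable def E : Tr (List ℕ) := (.node (nat_lit 1) (.leaf [nat_lit 5, nat_lit 1, nat_lit 1, nat_lit 5, nat_lit 4, nat_lit 1, nat_lit 4, nat_lit 3, nat_lit 1, nat_lit 4, nat_lit 3])
 (.leaf [nat_lit 4, nat_lit 0, nat_lit 5, nat_lit 3, nat_lit 1, nat_lit 1]))
theorem std : Std P 28 (nat_lit 5) (nat_lit 31) (Fin.ofNat 28) T RL L := std_PG' gen lets chain rels E (allB_iff.1 (by decide +kernel))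
theorem card : Nat.card P = 6048 := std.card.trans (by decide +kernel)
def B : List ℕ := [nat_lit 0, nat_lit 1, nat_lit 2, nat_lit 4]
theorem base : IsB P 28 (Fin.ofNat 28) B := std.base

end H8.U33
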