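import Cfsg.Agent.H8.HoltC
import Cfsg.Agent.H8.PM

/-! H8.HoltD: a faster, splittable form of the check `Holt.linChk`: `H8.Holt.linChk_of`. -/

set_option autoImplicit false

noncomputable section
namespace H8

def nth (l : List ℕ) (i : ℕ) : ℕ :=
  List.rec (motive := fun _ => ℕ → ℕ) (fun _ => 0) (fun a _ r i => Nat.rec a (fun j _ => r j) i) l i

theorem nth_ext {l l' : List ℕ} (h : l.length = l'.length) (h' : ∀ i < l.length, nth l i = nth l' i) : l = l' := by
  induction l generalizing l' with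
  | nil => exact (List.length_eq_zero_iff.1 h.symm).symm
  | cons a l ih => cases l' with
    | nil => simp at h
    | cons b l' =>
      have e : a = b := h' 0 (by simp)
      rw [e, ih (by simpa using h) fun i hi => h' (i + 1) (by simpa using hi)]

def hmask (mm : ℕ) : ℕ := Nat.rec 0 (fun _ r => Nat.add 280375465082880 (Nat.shiftLeft r 48)) mm

theorem allDiv_of {M mm q : ℕ} (hM : M ≤ 256) (h : q &&& hmask mm = 0) : allDiv M mm (M * q) = true := by
  induction mm generalizing q with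
  | zero => rfl
  | succ mm ih =>
    have e : hmask (mm + 1) = 280375465082880 + hmask mm * 2 ^ 48 := by
      rw [← Nat.shiftLeft_eq]; rfl
    have h1 := congrArg (· / 2 ^ 48) h
    have h2 := congrArg (· % 2 ^ 48 / 2 ^ 40) h
    simp only [Nat.and_div_two_pow, Nat.and_mod_two_pow, e] at h1 h2
    rw [show (280375465082880 + hmask mm * 2 ^ 48) / 2 ^ 48 = hmask mm by omega] at h1
    rw [show (280375465082880 + hmask mm * 2 ^ 48) % 2 ^ 48 / 2 ^ 40 = 2 ^ 8 - 1 by omega,
      Nat.and_two_pow_sub_one_eq_mod] at h2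
    have h3 : q % 2 ^ 48 < 2 ^ 40 := by omega
    have h4 : M * (q % 2 ^ 48) < 2 ^ 48 := by nlinarith
    have h5 : M * q = M * (q % 2 ^ 48) + 2 ^ 48 * (M * (q / 2 ^ 48)) := by
      conv_lhs => rw [← Nat.mod_add_div q (2 ^ 48)]
      ring
    have e2 : allDiv M (mm + 1) (M * q) = frc (M * q) fun t => band (Nat.beq (t % 2 ^ 48 % M) 0)
      (allDiv M mm (t / 2 ^ 48)) := rfl
    rw [e2, frc_eq, band_eq_true, h5, Nat.add_mul_mod_self_left, Nat.mod_eq_of_lt h4, Nat.mul_mod_right,
      Nat.add_mul_div_left _ _ (by norm_num), Nat.div_eq_of_lt h4, Nat.zero_add]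
    exact ⟨rfl, ih (by simpa using h1)⟩

def fastDiv (M HM t : ℕ) : Bool :=
  frc t fun t => band (Nat.beq (Nat.mod t M) 0) (Nat.beq (Nat.land (Nat.div t M) HM) 0)

theorem fastDiv_spec {M mm t : ℕ} (hM : M ≤ 256) (h : fastDiv M (hmask mm) t = true) : allDiv M mm t = true := by
  simp only [fastDiv, frc_eq, band_eq_true, Nat.beq_eq] at h
  rw [← Nat.mul_div_cancel' (Nat.dvd_of_mod_eq_zero h.1)]
  exact allDiv_of hM h.2

def sumE (XE : Tr ℕ) (w : List ℕ) : ℕ := List.rec 0 (fun a _ r => Nat.add (XE.get a) r) w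

namespace Holt
variable (H : Holt)

def linRow' (CS : List ℕ) (XE : Tr ℕ) (AE : List ℕ) (HM bc j i : ℕ) : Bool :=
  band (Nat.ble (1 + 255 * len (H.lhs j i) + (H.M - 1) * (255 * len (H.rhs j i) +
      255 * 255 * len H.al) + bc + 1) 281474976710656)
    (fastDiv H.M HM (Nat.add (Nat.add (Nat.add (unitV (Nat.add (Nat.mul j H.nn) i))
      (sumE XE (H.lhs j i))) (Nat.mul (Nat.sub H.M 1) (Nat.add (sumE XE (H.rhs j i))
      (dot AE (H.D.get (Nat.add (Nat.mul j H.nn) i))))))
      (dot CS (H.Y.get (Nat.add (Nat.mul j H.nn) i)))))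

def csR (CS : List ℕ) (lo ln : ℕ) : Bool := allR lo ln fun i => Nat.beq (nth H.cs i) (nth CS i)

def rowR (CS : List ℕ) (XE : Tr ℕ) (AE : List ℕ) (HM bc lo ln : ℕ) : Bool :=
  allR lo ln fun j => allB (Nat.succ j) fun i => H.linRow' CS XE AE HM bc j i

def auxChk (CS : List ℕ) (XE : Tr ℕ) (AE : List ℕ) (HM bc N : ℕ) : Bool :=
  band (band (band (Nat.beq (len H.tA + len H.tB) N) (Nat.beq (len CS) N)) (band (Nat.beq HM (hmask H.mm))
    (band (Nat.beq bc H.bc) (Nat.ble H.M 256))))
  (band (band (H.X.all2 (fun x y => Nat.beq (expand H.mm x) y) XE)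
    (leq (List.rec [] (fun l _ r => expand H.mm l.2.1 :: r) H.al) AE))
    (allL H.al fun l => band (Nat.ble 1 l.1) (band (Nat.ble (l.1 * 255 + bc + 1) 281474976710656)
      (fastDiv H.M HM (Nat.add (Nat.mul l.1 (expand H.mm l.2.1)) (dot CS l.2.2))))))

theorem length_cs : H.cs.length = len H.tA + len H.tB := by
  rw [len_eq, len_eq, cs]
  induction H.tA with
  | nil => induction H.tB with
    | nil => rfl
    | cons _ _ ih => exact congrArg (· + 1) ih |>.trans (by simp)
  | cons _ _ ih => exact congrArg (· + 1) ih |>.trans (by simp only [List.length_cons]; omega)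

theorem linChk_of (CS : List ℕ) (XE : Tr ℕ) (AE : List ℕ) (HM bc N : ℕ) (h0 : H.auxChk CS XE AE HM bc N = true)
    (h1 : H.csR CS 0 N = true) (h2 : H.rowR CS XE AE HM bc 0 H.nn = true) : H.linChk = true := by
  simp only [auxChk, band_eq_true, Nat.beq_eq, Nat.ble_eq, allL_iff] at h0
  obtain ⟨⟨⟨a1, a2⟩, rfl, rfl, a3⟩, ⟨a4, a5⟩, a6⟩ := h0
  have e1 : H.cs = CS := nth_ext (by rw [length_cs, a1, ← a2, len_eq]) fun i hi =>
    Nat.eq_of_beq_eq_true (allR_iff.1 h1 i (Nat.zero_le _) (by rw [length_cs, a1] at hi; omega))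
  have e2 : ∀ w, H.sumX w = sumE XE w := fun w => by
    induction w with
    | nil => rfl
    | cons a w ih =>
      show expand H.mm (H.X.get a) + H.sumX w = XE.get a + sumE XE w
      rw [ih, Nat.eq_of_beq_eq_true (Tr.all2_get a4 a)]
  have e3 : ∀ d, H.sumD H.al d = dot AE d := by
    rw [← leq_spec a5]
    induction H.al with
    | nil => exact fun _ => rfl
    | cons l al ih =>
      intro d
      show d % 256 * expand H.mm l.2.1 + H.sumD al (d / 256) = frc d fun d => d % 256 * expand H.mm l.2.1 + dot _ (d / 256)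
      rw [frc_eq, ih]
  rw [linChk, frcL_eq, e1, band_eq_true, allB_iff, allL_iff]
  refine ⟨fun j hj => allB_iff.2 fun i hi => ?_, fun l hl => ?_⟩
  · have := allB_iff.1 (allR_iff.1 h2 j (Nat.zero_le _) (by omega)) i hi
    rw [linRow', band_eq_true] at this
    rw [linRow, band_eq_true, e2, e2, e3]
    exact ⟨this.1, fastDiv_spec a3 this.2⟩
  · simp only [band_eq_true, Nat.ble_eq]
    exact ⟨(a6 l hl).1, (a6 l hl).2.1, fastDiv_spec a3 (a6 l hl).2.2⟩

end Holt

end H8
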