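import Cfsg.Agent.H8.IcoE

/-! H8.IcoD: units, minimal vectors up to units (generated data and checks) -/

set_option autoImplicit false
set_option maxRecDepth 200000

namespace H8.Ico
open Q8

noncomputable def U : Tr Q8 := (.node (nat_lit 60) (.node (nat_lit 30) (.node (nat_lit 15) (.node (nat_lit 7) (.node (nat_lit 3) (.node (nat_lit 1) (.leaf ⟨(.ofNat (nat_lit 0)), (.ofNat (nat_lit 0)), (.negSucc (nat_lit 0)), (.ofNat (nat_lit 0)), (.ofNat (nat_lit 1)), (.negSucc (nat_lit 0)), (.ofNat (nat_lit 0)), (.negSucc (nat_lit 0))⟩) (.node (nat_lit 2) (.leaf ⟨(.ofNat (nat_lit 0)), (.ofNat (nat_lit 0)), (.ofNat (nat_lit 1)), (.ofNat (nat_lit 0)), (.ofNat (nat_lit 1)), (.negSucc (nat_lit 0)), (.ofNat (nat_lit 0)), (.negSucc (nat_lit 0))⟩) (.leaf ⟨(.ofNat (nat_lit 1)), (.negSucc (nat_lit 0)), (.ofNat (nat_lit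 0)), (.ofNat (nat_lit 0)), (.negSucc (nat_lit 0)), (.ofNat (nat_lit 0)), (.ofNat (nat_lit 0)), (.negSucc (nat_lit 0))⟩)))
 (.node (nat_lit 5) (.node (nat_lit 4) (.leaf ⟨(.negSucc (nat_lit 0)), (.ofNat (nat_lit 1)), (.ofNat (nat_lit 0)), (.ofNat (nat_lit 0)), (.negSucc (nat_lit 0)), (.ofNat (nat_lit 0)), (.ofNat (nat_lit 0)), (.negSucc (nat_lit 0))⟩) (.leaf ⟨(.negSucc (nat_lit 0)), (.ofNat (nat_lit 0)), (.ofNat (nat_lit 1)), (.negSucc (nat_lit 0)), (.ofNat (nat_lit 0)), (.ofNat (nat_lit 0)), (.ofNat (nat_lit 0)), (.negSucc (nat_lit 0))⟩)) (.node (nat_lit 6) (.leaf ⟨(.ofNat (nat_lit 1)), (.ofNat (nat_lit 0)), (.ofNat (nat_lit 1)), (.negSucc (nat_lit 0)), (.ofNat (nat_lit 0)), (.ofNat (nat_lit 0)), (.ofNat (nat_lit 0)), (.negSucc (nat_lit 0))⟩) (.leaf ⟨(.negSucc (nat_lit 0)), (.ofNat (nat_lit 0)), (.negSucc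 (nat_lit 0)), (.ofNat (nat_lit 1)), (.ofNat (nat_lit 0)), (.ofNat (nat_lit 0)), (.ofNat (nat_lit 0)), (.negSucc (nat_lit 0))⟩))))
 (.node (nat_lit 11) (.node (nat_lit 9) (.node (nat_lit 8) (.leaf ⟨(.ofNat (nat_lit 1)), (.ofNat (nat_lit 0)), (.negSucc (nat_lit 0)), (.ofNat (nat_lit 1)), (.ofNat (nat_lit 0)), (.ofNat (nat_lit 0)), (.ofNat (nat_lit 0)), (.negSucc (nat_lit 0))⟩) (.leaf ⟨(.ofNat (nat_lit 1)), (.negSucc (nat_lit 0)), (.ofNat (nat_lit 0)), (.ofNat (nat_lit 0)), (.ofNat (nat_lit 1)), (.ofNat (nat_lit 0)), (.ofNat (nat_lit 0)), (.negSucc (nat_lit 0))⟩)) (.node (nat_lit 10) (.leaf ⟨(.negSucc (nat_lit 0)), (.ofNat (nat_lit 1)), (.ofNat (nat_lit 0)), (.ofNat (nat_lit 0)), (.ofNat (nat_lit 1)), (.ofNat (nat_lit 0)), (.ofNat (nat_lit 0)), (.negSucc (nat_lit 0))⟩) (.leaf ⟨(.ofNat (nat_lit 0)),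 (.ofNat (nat_lit 0)), (.negSucc (nat_lit 0)), (.ofNat (nat_lit 0)), (.negSucc (nat_lit 0)), (.ofNat (nat_lit 1)), (.ofNat (nat_lit 0)), (.negSucc (nat_lit 0))⟩)))
 (.node (nat_lit 13) (.node (nat_lit 12) (.leaf ⟨(.ofNat (nat_lit 0)), (.ofNat (nat_lit 0)), (.ofNat (nat_lit 1)), (.ofNat (nat_lit 0)), (.negSucc (nat_lit 0)), (.ofNat (nat_lit 1)), (.ofNat (nat_lit 0)), (.negSucc (nat_lit 0))⟩) (.leaf ⟨(.negSucc (nat_lit 0)), (.ofNat (nat_lit 0)), (.ofNat (nat_lit 0)), (.ofNat (nat_lit 0)), (.ofNat (nat_lit 0)), (.negSucc (nat_lit 0)), (.ofNat (nat_lit 1)), (.negSucc (nat_lit 0))⟩)) (.node (nat_lit 14) (.leaf ⟨(.ofNat (nat_lit 1)), (.ofNat (nat_lit 0)), (.ofNat (nat_lit 0)), (.ofNat (nat_lit 0)), (.ofNat (nat_lit 0)), (.negSucc (nat_lit 0)), (.ofNat (nat_lit 1)), (.negSucc (nat_lit 0))⟩) (.leaf ⟨(.ofNat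 (nat_lit 0)), (.ofNat (nat_lit 0)), (.ofNat (nat_lit 0)), (.negSucc (nat_lit 0)), (.negSucc (nat_lit 0)), (.ofNat (nat_lit 0)), (.ofNat (nat_lit 1)), (.negSucc (nat_lit 0))⟩)))))
 (.node (nat_lit 22) (.node (nat_lit 18) (.node (nat_lit 16) (.leaf ⟨(.ofNat (nat_lit 0)), (.ofNat (nat_lit 0)), (.ofNat (nat_lit 0)), (.ofNat (nat_lit 1)), (.negSucc (nat_lit 0)), (.ofNat (nat_lit 0)), (.ofNat (nat_lit 1)), (.negSucc (nat_lit 0))⟩) (.node (nat_lit 17) (.leaf ⟨(.ofNat (nat_lit 0)), (.negSucc (nat_lit 0)), (.negSucc (nat_lit 0)), (.ofNat (nat_lit 0)), (.ofNat (nat_lit 0)), (.ofNat (nat_lit 0)), (.ofNat (nat_lit 1)), (.negSucc (nat_lit 0))⟩) (.leaf ⟨(.ofNat (nat_lit 0)), (.ofNat (nat_lit 1)), (.negSucc (nat_lit 0)), (.ofNat (nat_lit 0)), (.ofNat (nat_lit 0)), (.ofNat (nat_lit 0)), (.ofNat (nat_lit 1)), (.negSucc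 (nat_lit 0))⟩)))
 (.node (nat_lit 20) (.node (nat_lit 19) (.leaf ⟨(.ofNat (nat_lit 0)), (.negSucc (nat_lit 0)), (.ofNat (nat_lit 1)), (.ofNat (nat_lit 0)), (.ofNat (nat_lit 0)), (.ofNat (nat_lit 0)), (.ofNat (nat_lit 1)), (.negSucc (nat_lit 0))⟩) (.leaf ⟨(.ofNat (nat_lit 0)), (.ofNat (nat_lit 1)), (.ofNat (nat_lit 1)), (.ofNat (nat_lit 0)), (.ofNat (nat_lit 0)), (.ofNat (nat_lit 0)), (.ofNat (nat_lit 1)), (.negSucc (nat_lit 0))⟩)) (.node (nat_lit 21) (.leaf ⟨(.ofNat (nat_lit 0)), (.ofNat (nat_lit 0)), (.ofNat (nat_lit 0)), (.negSucc (nat_lit 0)), (.ofNat (nat_lit 1)), (.ofNat (nat_lit 0)), (.ofNat (nat_lit 1)), (.negSucc (nat_lit 0))⟩) (.leaf ⟨(.ofNat (nat_lit 0)), (.ofNat (nat_lit 0)), (.ofNat (nat_lit 0)), (.ofNat (nat_lit 1)), (.ofNat (nat_lit 1)), (.ofNat (nat_lit 0)), (.ofNat (nat_lit 1)), (.negSucc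 (nat_lit 0))⟩))))
 (.node (nat_lit 26) (.node (nat_lit 24) (.node (nat_lit 23) (.leaf ⟨(.negSucc (nat_lit 0)), (.ofNat (nat_lit 0)), (.ofNat (nat_lit 0)), (.ofNat (nat_lit 0)), (.ofNat (nat_lit 0)), (.ofNat (nat_lit 1)), (.ofNat (nat_lit 1)), (.negSucc (nat_lit 0))⟩) (.leaf ⟨(.ofNat (nat_lit 1)), (.ofNat (nat_lit 0)), (.ofNat (nat_lit 0)), (.ofNat (nat_lit 0)), (.ofNat (nat_lit 0)), (.ofNat (nat_lit 1)), (.ofNat (nat_lit 1)), (.negSucc (nat_lit 0))⟩)) (.node (nat_lit 25) (.leaf ⟨(.ofNat (nat_lit 0)), (.ofNat (nat_lit 0)), (.ofNat (nat_lit 0)), (.ofNat (nat_lit 0)), (.ofNat (nat_lit 0)), (.ofNat (nat_lit 0)), (.negSucc (nat_lit 1)), (.ofNat (nat_lit 0))⟩) (.leaf ⟨(.ofNat (nat_lit 0)), (.ofNat (nat_lit 0)), (.ofNat (nat_lit 1)), (.negSucc (nat_lit 0)), (.ofNat (nat_lit 0)), (.negSucc (nat_lit 0)),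 (.negSucc (nat_lit 0)), (.ofNat (nat_lit 0))⟩)))
 (.node (nat_lit 28) (.node (nat_lit 27) (.leaf ⟨(.ofNat (nat_lit 0)), (.ofNat (nat_lit 0)), (.negSucc (nat_lit 0)), (.ofNat (nat_lit 1)), (.ofNat (nat_lit 0)), (.negSucc (nat_lit 0)), (.negSucc (nat_lit 0)), (.ofNat (nat_lit 0))⟩) (.leaf ⟨(.ofNat (nat_lit 0)), (.negSucc (nat_lit 0)), (.ofNat (nat_lit 0)), (.ofNat (nat_lit 0)), (.ofNat (nat_lit 1)), (.negSucc (nat_lit 0)), (.negSucc (nat_lit 0)), (.ofNat (nat_lit 0))⟩)) (.node (nat_lit 29) (.leaf ⟨(.ofNat (nat_lit 0)), (.ofNat (nat_lit 1)), (.ofNat (nat_lit 0)), (.ofNat (nat_lit 0)), (.ofNat (nat_lit 1)), (.negSucc (nat_lit 0)), (.negSucc (nat_lit 0)), (.ofNat (nat_lit 0))⟩) (.leaf ⟨(.negSucc (nat_lit 0)), (.ofNat (nat_lit 0)), (.negSucc (nat_lit 0)), (.ofNat (nat_lit 0)), (.negSucc (nat_lit 0)), (.ofNat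 (nat_lit 0)), (.negSucc (nat_lit 0)), (.ofNat (nat_lit 0))⟩))))))
 (.node (nat_lit 45) (.node (nat_lit 37) (.node (nat_lit 33) (.node (nat_lit 31) (.leaf ⟨(.ofNat (nat_lit 1)), (.ofNat (nat_lit 0)), (.negSucc (nat_lit 0)), (.ofNat (nat_lit 0)), (.negSucc (nat_lit 0)), (.ofNat (nat_lit 0)), (.negSucc (nat_lit 0)), (.ofNat (nat_lit 0))⟩) (.node (nat_lit 32) (.leaf ⟨(.negSucc (nat_lit 0)), (.ofNat (nat_lit 0)), (.ofNat (nat_lit 1)), (.ofNat (nat_lit 0)), (.negSucc (nat_lit 0)), (.ofNat (nat_lit 0)), (.negSucc (nat_lit 0)), (.ofNat (nat_lit 0))⟩) (.leaf ⟨(.ofNat (nat_lit 1)), (.ofNat (nat_lit 0)), (.ofNat (nat_lit 1)), (.ofNat (nat_lit 0)), (.negSucc (nat_lit 0)), (.ofNat (nat_lit 0)), (.negSucc (nat_lit 0)), (.ofNat (nat_lit 0))⟩)))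
 (.node (nat_lit 35) (.node (nat_lit 34) (.leaf ⟨(.ofNat (nat_lit 1)), (.negSucc (nat_lit 0)), (.ofNat (nat_lit 0)), (.negSucc (nat_lit 0)), (.ofNat (nat_lit 0)), (.ofNat (nat_lit 0)), (.negSucc (nat_lit 0)), (.ofNat (nat_lit 0))⟩) (.leaf ⟨(.negSucc (nat_lit 0)), (.ofNat (nat_lit 1)), (.ofNat (nat_lit 0)), (.negSucc (nat_lit 0)), (.ofNat (nat_lit 0)), (.ofNat (nat_lit 0)), (.negSucc (nat_lit 0)), (.ofNat (nat_lit 0))⟩)) (.node (nat_lit 36) (.leaf ⟨(.ofNat (nat_lit 1)), (.negSucc (nat_lit 0)), (.ofNat (nat_lit 0)), (.ofNat (nat_lit 1)), (.ofNat (nat_lit 0)), (.ofNat (nat_lit 0)), (.negSucc (nat_lit 0)), (.ofNat (nat_lit 0))⟩) (.leaf ⟨(.negSucc (nat_lit 0)), (.ofNat (nat_lit 1)), (.ofNat (nat_lit 0)), (.ofNat (nat_lit 1)), (.ofNat (nat_lit 0)), (.ofNat (nat_lit 0)), (.negSucc (nat_lit 0)), (.ofNat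 (nat_lit 0))⟩))))
 (.node (nat_lit 41) (.node (nat_lit 39) (.node (nat_lit 38) (.leaf ⟨(.negSucc (nat_lit 0)), (.ofNat (nat_lit 0)), (.negSucc (nat_lit 0)), (.ofNat (nat_lit 0)), (.ofNat (nat_lit 1)), (.ofNat (nat_lit 0)), (.negSucc (nat_lit 0)), (.ofNat (nat_lit 0))⟩) (.leaf ⟨(.ofNat (nat_lit 1)), (.ofNat (nat_lit 0)), (.negSucc (nat_lit 0)), (.ofNat (nat_lit 0)), (.ofNat (nat_lit 1)), (.ofNat (nat_lit 0)), (.negSucc (nat_lit 0)), (.ofNat (nat_lit 0))⟩)) (.node (nat_lit 40) (.leaf ⟨(.negSucc (nat_lit 0)), (.ofNat (nat_lit 0)), (.ofNat (nat_lit 1)), (.ofNat (nat_lit 0)), (.ofNat (nat_lit 1)), (.ofNat (nat_lit 0)), (.negSucc (nat_lit 0)), (.ofNat (nat_lit 0))⟩) (.leaf ⟨(.ofNat (nat_lit 1)), (.ofNat (nat_lit 0)), (.ofNat (nat_lit 1)), (.ofNat (nat_lit 0)), (.ofNat (nat_lit 1)), (.ofNat (nat_lit 0)),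 (.negSucc (nat_lit 0)), (.ofNat (nat_lit 0))⟩)))
 (.node (nat_lit 43) (.node (nat_lit 42) (.leaf ⟨(.ofNat (nat_lit 0)), (.negSucc (nat_lit 0)), (.ofNat (nat_lit 0)), (.ofNat (nat_lit 0)), (.negSucc (nat_lit 0)), (.ofNat (nat_lit 1)), (.negSucc (nat_lit 0)), (.ofNat (nat_lit 0))⟩) (.leaf ⟨(.ofNat (nat_lit 0)), (.ofNat (nat_lit 1)), (.ofNat (nat_lit 0)), (.ofNat (nat_lit 0)), (.negSucc (nat_lit 0)), (.ofNat (nat_lit 1)), (.negSucc (nat_lit 0)), (.ofNat (nat_lit 0))⟩)) (.node (nat_lit 44) (.leaf ⟨(.ofNat (nat_lit 0)), (.ofNat (nat_lit 0)), (.ofNat (nat_lit 1)), (.negSucc (nat_lit 0)), (.ofNat (nat_lit 0)), (.ofNat (nat_lit 1)), (.negSucc (nat_lit 0)), (.ofNat (nat_lit 0))⟩) (.leaf ⟨(.ofNat (nat_lit 0)), (.ofNat (nat_lit 0)), (.negSucc (nat_lit 0)), (.ofNat (nat_lit 1)), (.ofNat (nat_lit 0)), (.ofNat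 (nat_lit 1)), (.negSucc (nat_lit 0)), (.ofNat (nat_lit 0))⟩)))))
 (.node (nat_lit 52) (.node (nat_lit 48) (.node (nat_lit 46) (.leaf ⟨(.ofNat (nat_lit 1)), (.negSucc (nat_lit 0)), (.negSucc (nat_lit 0)), (.ofNat (nat_lit 0)), (.ofNat (nat_lit 0)), (.negSucc (nat_lit 0)), (.ofNat (nat_lit 0)), (.ofNat (nat_lit 0))⟩) (.node (nat_lit 47) (.leaf ⟨(.negSucc (nat_lit 0)), (.ofNat (nat_lit 1)), (.negSucc (nat_lit 0)), (.ofNat (nat_lit 0)), (.ofNat (nat_lit 0)), (.negSucc (nat_lit 0)), (.ofNat (nat_lit 0)), (.ofNat (nat_lit 0))⟩) (.leaf ⟨(.ofNat (nat_lit 1)), (.negSucc (nat_lit 0)), (.ofNat (nat_lit 1)), (.ofNat (nat_lit 0)), (.ofNat (nat_lit 0)), (.negSucc (nat_lit 0)), (.ofNat (nat_lit 0)), (.ofNat (nat_lit 0))⟩)))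
 (.node (nat_lit 50) (.node (nat_lit 49) (.leaf ⟨(.negSucc (nat_lit 0)), (.ofNat (nat_lit 1)), (.ofNat (nat_lit 1)), (.ofNat (nat_lit 0)), (.ofNat (nat_lit 0)), (.negSucc (nat_lit 0)), (.ofNat (nat_lit 0)), (.ofNat (nat_lit 0))⟩) (.leaf ⟨(.negSucc (nat_lit 0)), (.ofNat (nat_lit 0)), (.ofNat (nat_lit 0)), (.negSucc (nat_lit 0)), (.ofNat (nat_lit 1)), (.negSucc (nat_lit 0)), (.ofNat (nat_lit 0)), (.ofNat (nat_lit 0))⟩)) (.node (nat_lit 51) (.leaf ⟨(.ofNat (nat_lit 1)), (.ofNat (nat_lit 0)), (.ofNat (nat_lit 0)), (.negSucc (nat_lit 0)), (.ofNat (nat_lit 1)), (.negSucc (nat_lit 0)), (.ofNat (nat_lit 0)), (.ofNat (nat_lit 0))⟩) (.leaf ⟨(.negSucc (nat_lit 0)), (.ofNat (nat_lit 0)), (.ofNat (nat_lit 0)), (.ofNat (nat_lit 1)), (.ofNat (nat_lit 1)), (.negSucc (nat_lit 0)), (.ofNat (nat_lit 0)), (.ofNat (nat_lit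 0))⟩))))
 (.node (nat_lit 56) (.node (nat_lit 54) (.node (nat_lit 53) (.leaf ⟨(.ofNat (nat_lit 1)), (.ofNat (nat_lit 0)), (.ofNat (nat_lit 0)), (.ofNat (nat_lit 1)), (.ofNat (nat_lit 1)), (.negSucc (nat_lit 0)), (.ofNat (nat_lit 0)), (.ofNat (nat_lit 0))⟩) (.leaf ⟨(.ofNat (nat_lit 0)), (.ofNat (nat_lit 0)), (.ofNat (nat_lit 0)), (.ofNat (nat_lit 0)), (.negSucc (nat_lit 1)), (.ofNat (nat_lit 0)), (.ofNat (nat_lit 0)), (.ofNat (nat_lit 0))⟩)) (.node (nat_lit 55) (.leaf ⟨(.ofNat (nat_lit 0)), (.negSucc (nat_lit 0)), (.ofNat (nat_lit 1)), (.negSucc (nat_lit 0)), (.negSucc (nat_lit 0)), (.ofNat (nat_lit 0)), (.ofNat (nat_lit 0)), (.ofNat (nat_lit 0))⟩) (.leaf ⟨(.ofNat (nat_lit 0)), (.ofNat (nat_lit 1)), (.ofNat (nat_lit 1)), (.negSucc (nat_lit 0)), (.negSucc (nat_lit 0)), (.ofNat (nat_lit 0)), (.ofNat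 (nat_lit 0)), (.ofNat (nat_lit 0))⟩)))
 (.node (nat_lit 58) (.node (nat_lit 57) (.leaf ⟨(.ofNat (nat_lit 0)), (.negSucc (nat_lit 0)), (.negSucc (nat_lit 0)), (.ofNat (nat_lit 1)), (.negSucc (nat_lit 0)), (.ofNat (nat_lit 0)), (.ofNat (nat_lit 0)), (.ofNat (nat_lit 0))⟩) (.leaf ⟨(.ofNat (nat_lit 0)), (.ofNat (nat_lit 1)), (.negSucc (nat_lit 0)), (.ofNat (nat_lit 1)), (.negSucc (nat_lit 0)), (.ofNat (nat_lit 0)), (.ofNat (nat_lit 0)), (.ofNat (nat_lit 0))⟩)) (.node (nat_lit 59) (.leaf ⟨(.ofNat (nat_lit 0)), (.ofNat (nat_lit 0)), (.negSucc (nat_lit 1)), (.ofNat (nat_lit 0)), (.ofNat (nat_lit 0)), (.ofNat (nat_lit 0)), (.ofNat (nat_lit 0)), (.ofNat (nat_lit 0))⟩) (.leaf ⟨(.negSucc (nat_lit 1)), (.ofNat (nat_lit 0)), (.ofNat (nat_lit 0)), (.ofNat (nat_lit 0)), (.ofNat (nat_lit 0)), (.ofNat (nat_lit 0)),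 (.ofNat (nat_lit 0)), (.ofNat (nat_lit 0))⟩)))))))
 (.node (nat_lit 90) (.node (nat_lit 75) (.node (nat_lit 67) (.node (nat_lit 63) (.node (nat_lit 61) (.leaf ⟨(.ofNat (nat_lit 2)), (.ofNat (nat_lit 0)), (.ofNat (nat_lit 0)), (.ofNat (nat_lit 0)), (.ofNat (nat_lit 0)), (.ofNat (nat_lit 0)), (.ofNat (nat_lit 0)), (.ofNat (nat_lit 0))⟩) (.node (nat_lit 62) (.leaf ⟨(.ofNat (nat_lit 0)), (.ofNat (nat_lit 0)), (.ofNat (nat_lit 2)), (.ofNat (nat_lit 0)), (.ofNat (nat_lit 0)), (.ofNat (nat_lit 0)), (.ofNat (nat_lit 0)), (.ofNat (nat_lit 0))⟩) (.leaf ⟨(.ofNat (nat_lit 0)), (.negSucc (nat_lit 0)), (.ofNat (nat_lit 1)), (.negSucc (nat_lit 0)), (.ofNat (nat_lit 1)), (.ofNat (nat_lit 0)), (.ofNat (nat_lit 0)), (.ofNat (nat_lit 0))⟩)))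
 (.node (nat_lit 65) (.node (nat_lit 64) (.leaf ⟨(.ofNat (nat_lit 0)), (.ofNat (nat_lit 1)), (.ofNat (nat_lit 1)), (.negSucc (nat_lit 0)), (.ofNat (nat_lit 1)), (.ofNat (nat_lit 0)), (.ofNat (nat_lit 0)), (.ofNat (nat_lit 0))⟩) (.leaf ⟨(.ofNat (nat_lit 0)), (.negSucc (nat_lit 0)), (.negSucc (nat_lit 0)), (.ofNat (nat_lit 1)), (.ofNat (nat_lit 1)), (.ofNat (nat_lit 0)), (.ofNat (nat_lit 0)), (.ofNat (nat_lit 0))⟩)) (.node (nat_lit 66) (.leaf ⟨(.ofNat (nat_lit 0)), (.ofNat (nat_lit 1)), (.negSucc (nat_lit 0)), (.ofNat (nat_lit 1)), (.ofNat (nat_lit 1)), (.ofNat (nat_lit 0)), (.ofNat (nat_lit 0)), (.ofNat (nat_lit 0))⟩) (.leaf ⟨(.ofNat (nat_lit 0)), (.ofNat (nat_lit 0)), (.ofNat (nat_lit 0)), (.ofNat (nat_lit 0)), (.ofNat (nat_lit 2)), (.ofNat (nat_lit 0)), (.ofNat (nat_lit 0)), (.ofNat (nat_lit 0))⟩))))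
 (.node (nat_lit 71) (.node (nat_lit 69) (.node (nat_lit 68) (.leaf ⟨(.negSucc (nat_lit 0)), (.ofNat (nat_lit 0)), (.ofNat (nat_lit 0)), (.negSucc (nat_lit 0)), (.negSucc (nat_lit 0)), (.ofNat (nat_lit 1)), (.ofNat (nat_lit 0)), (.ofNat (nat_lit 0))⟩) (.leaf ⟨(.ofNat (nat_lit 1)), (.ofNat (nat_lit 0)), (.ofNat (nat_lit 0)), (.negSucc (nat_lit 0)), (.negSucc (nat_lit 0)), (.ofNat (nat_lit 1)), (.ofNat (nat_lit 0)), (.ofNat (nat_lit 0))⟩)) (.node (nat_lit 70) (.leaf ⟨(.negSucc (nat_lit 0)), (.ofNat (nat_lit 0)), (.ofNat (nat_lit 0)), (.ofNat (nat_lit 1)), (.negSucc (nat_lit 0)), (.ofNat (nat_lit 1)), (.ofNat (nat_lit 0)), (.ofNat (nat_lit 0))⟩) (.leaf ⟨(.ofNat (nat_lit 1)), (.ofNat (nat_lit 0)), (.ofNat (nat_lit 0)), (.ofNat (nat_lit 1)), (.negSucc (nat_lit 0)), (.ofNat (nat_lit 1)), (.ofNat (nat_lit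 0)), (.ofNat (nat_lit 0))⟩)))
 (.node (nat_lit 73) (.node (nat_lit 72) (.leaf ⟨(.ofNat (nat_lit 1)), (.negSucc (nat_lit 0)), (.negSucc (nat_lit 0)), (.ofNat (nat_lit 0)), (.ofNat (nat_lit 0)), (.ofNat (nat_lit 1)), (.ofNat (nat_lit 0)), (.ofNat (nat_lit 0))⟩) (.leaf ⟨(.negSucc (nat_lit 0)), (.ofNat (nat_lit 1)), (.negSucc (nat_lit 0)), (.ofNat (nat_lit 0)), (.ofNat (nat_lit 0)), (.ofNat (nat_lit 1)), (.ofNat (nat_lit 0)), (.ofNat (nat_lit 0))⟩)) (.node (nat_lit 74) (.leaf ⟨(.ofNat (nat_lit 1)), (.negSucc (nat_lit 0)), (.ofNat (nat_lit 1)), (.ofNat (nat_lit 0)), (.ofNat (nat_lit 0)), (.ofNat (nat_lit 1)), (.ofNat (nat_lit 0)), (.ofNat (nat_lit 0))⟩) (.leaf ⟨(.negSucc (nat_lit 0)), (.ofNat (nat_lit 1)), (.ofNat (nat_lit 1)), (.ofNat (nat_lit 0)), (.ofNat (nat_lit 0)), (.ofNat (nat_lit 1)), (.ofNat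 (nat_lit 0)), (.ofNat (nat_lit 0))⟩)))))
 (.node (nat_lit 82) (.node (nat_lit 78) (.node (nat_lit 76) (.leaf ⟨(.ofNat (nat_lit 0)), (.ofNat (nat_lit 0)), (.ofNat (nat_lit 1)), (.negSucc (nat_lit 0)), (.ofNat (nat_lit 0)), (.negSucc (nat_lit 0)), (.ofNat (nat_lit 1)), (.ofNat (nat_lit 0))⟩) (.node (nat_lit 77) (.leaf ⟨(.ofNat (nat_lit 0)), (.ofNat (nat_lit 0)), (.negSucc (nat_lit 0)), (.ofNat (nat_lit 1)), (.ofNat (nat_lit 0)), (.negSucc (nat_lit 0)), (.ofNat (nat_lit 1)), (.ofNat (nat_lit 0))⟩) (.leaf ⟨(.ofNat (nat_lit 0)), (.negSucc (nat_lit 0)), (.ofNat (nat_lit 0)), (.ofNat (nat_lit 0)), (.ofNat (nat_lit 1)), (.negSucc (nat_lit 0)), (.ofNat (nat_lit 1)), (.ofNat (nat_lit 0))⟩)))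
 (.node (nat_lit 80) (.node (nat_lit 79) (.leaf ⟨(.ofNat (nat_lit 0)), (.ofNat (nat_lit 1)), (.ofNat (nat_lit 0)), (.ofNat (nat_lit 0)), (.ofNat (nat_lit 1)), (.negSucc (nat_lit 0)), (.ofNat (nat_lit 1)), (.ofNat (nat_lit 0))⟩) (.leaf ⟨(.negSucc (nat_lit 0)), (.ofNat (nat_lit 0)), (.negSucc (nat_lit 0)), (.ofNat (nat_lit 0)), (.negSucc (nat_lit 0)), (.ofNat (nat_lit 0)), (.ofNat (nat_lit 1)), (.ofNat (nat_lit 0))⟩)) (.node (nat_lit 81) (.leaf ⟨(.ofNat (nat_lit 1)), (.ofNat (nat_lit 0)), (.negSucc (nat_lit 0)), (.ofNat (nat_lit 0)), (.negSucc (nat_lit 0)), (.ofNat (nat_lit 0)), (.ofNat (nat_lit 1)), (.ofNat (nat_lit 0))⟩) (.leaf ⟨(.negSucc (nat_lit 0)), (.ofNat (nat_lit 0)), (.ofNat (nat_lit 1)), (.ofNat (nat_lit 0)), (.negSucc (nat_lit 0)), (.ofNat (nat_lit 0)), (.ofNat (nat_lit 1)), (.ofNat (nat_lit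 0))⟩))))
 (.node (nat_lit 86) (.node (nat_lit 84) (.node (nat_lit 83) (.leaf ⟨(.ofNat (nat_lit 1)), (.ofNat (nat_lit 0)), (.ofNat (nat_lit 1)), (.ofNat (nat_lit 0)), (.negSucc (nat_lit 0)), (.ofNat (nat_lit 0)), (.ofNat (nat_lit 1)), (.ofNat (nat_lit 0))⟩) (.leaf ⟨(.ofNat (nat_lit 1)), (.negSucc (nat_lit 0)), (.ofNat (nat_lit 0)), (.negSucc (nat_lit 0)), (.ofNat (nat_lit 0)), (.ofNat (nat_lit 0)), (.ofNat (nat_lit 1)), (.ofNat (nat_lit 0))⟩)) (.node (nat_lit 85) (.leaf ⟨(.negSucc (nat_lit 0)), (.ofNat (nat_lit 1)), (.ofNat (nat_lit 0)), (.negSucc (nat_lit 0)), (.ofNat (nat_lit 0)), (.ofNat (nat_lit 0)), (.ofNat (nat_lit 1)), (.ofNat (nat_lit 0))⟩) (.leaf ⟨(.ofNat (nat_lit 1)), (.negSucc (nat_lit 0)), (.ofNat (nat_lit 0)), (.ofNat (nat_lit 1)), (.ofNat (nat_lit 0)), (.ofNat (nat_lit 0)), (.ofNat (nat_lit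 1)), (.ofNat (nat_lit 0))⟩)))
 (.node (nat_lit 88) (.node (nat_lit 87) (.leaf ⟨(.negSucc (nat_lit 0)), (.ofNat (nat_lit 1)), (.ofNat (nat_lit 0)), (.ofNat (nat_lit 1)), (.ofNat (nat_lit 0)), (.ofNat (nat_lit 0)), (.ofNat (nat_lit 1)), (.ofNat (nat_lit 0))⟩) (.leaf ⟨(.negSucc (nat_lit 0)), (.ofNat (nat_lit 0)), (.negSucc (nat_lit 0)), (.ofNat (nat_lit 0)), (.ofNat (nat_lit 1)), (.ofNat (nat_lit 0)), (.ofNat (nat_lit 1)), (.ofNat (nat_lit 0))⟩)) (.node (nat_lit 89) (.leaf ⟨(.ofNat (nat_lit 1)), (.ofNat (nat_lit 0)), (.negSucc (nat_lit 0)), (.ofNat (nat_lit 0)), (.ofNat (nat_lit 1)), (.ofNat (nat_lit 0)), (.ofNat (nat_lit 1)), (.ofNat (nat_lit 0))⟩) (.leaf ⟨(.negSucc (nat_lit 0)), (.ofNat (nat_lit 0)), (.ofNat (nat_lit 1)), (.ofNat (nat_lit 0)), (.ofNat (nat_lit 1)), (.ofNat (nat_lit 0)), (.ofNat (nat_lit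 1)), (.ofNat (nat_lit 0))⟩))))))
 (.node (nat_lit 105) (.node (nat_lit 97) (.node (nat_lit 93) (.node (nat_lit 91) (.leaf ⟨(.ofNat (nat_lit 1)), (.ofNat (nat_lit 0)), (.ofNat (nat_lit 1)), (.ofNat (nat_lit 0)), (.ofNat (nat_lit 1)), (.ofNat (nat_lit 0)), (.ofNat (nat_lit 1)), (.ofNat (nat_lit 0))⟩) (.node (nat_lit 92) (.leaf ⟨(.ofNat (nat_lit 0)), (.negSucc (nat_lit 0)), (.ofNat (nat_lit 0)), (.ofNat (nat_lit 0)), (.negSucc (nat_lit 0)), (.ofNat (nat_lit 1)), (.ofNat (nat_lit 1)), (.ofNat (nat_lit 0))⟩) (.leaf ⟨(.ofNat (nat_lit 0)), (.ofNat (nat_lit 1)), (.ofNat (nat_lit 0)), (.ofNat (nat_lit 0)), (.negSucc (nat_lit 0)), (.ofNat (nat_lit 1)), (.ofNat (nat_lit 1)), (.ofNat (nat_lit 0))⟩)))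
 (.node (nat_lit 95) (.node (nat_lit 94) (.leaf ⟨(.ofNat (nat_lit 0)), (.ofNat (nat_lit 0)), (.ofNat (nat_lit 1)), (.negSucc (nat_lit 0)), (.ofNat (nat_lit 0)), (.ofNat (nat_lit 1)), (.ofNat (nat_lit 1)), (.ofNat (nat_lit 0))⟩) (.leaf ⟨(.ofNat (nat_lit 0)), (.ofNat (nat_lit 0)), (.negSucc (nat_lit 0)), (.ofNat (nat_lit 1)), (.ofNat (nat_lit 0)), (.ofNat (nat_lit 1)), (.ofNat (nat_lit 1)), (.ofNat (nat_lit 0))⟩)) (.node (nat_lit 96) (.leaf ⟨(.ofNat (nat_lit 0)), (.ofNat (nat_lit 0)), (.ofNat (nat_lit 0)), (.ofNat (nat_lit 0)), (.ofNat (nat_lit 0)), (.ofNat (nat_lit 0)), (.ofNat (nat_lit 2)), (.ofNat (nat_lit 0))⟩) (.leaf ⟨(.negSucc (nat_lit 0)), (.ofNat (nat_lit 0)), (.ofNat (nat_lit 0)), (.ofNat (nat_lit 0)), (.ofNat (nat_lit 0)), (.negSucc (nat_lit 0)), (.negSucc (nat_lit 0)), (.ofNat (nat_lit 1))⟩))))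
 (.node (nat_lit 101) (.node (nat_lit 99) (.node (nat_lit 98) (.leaf ⟨(.ofNat (nat_lit 1)), (.ofNat (nat_lit 0)), (.ofNat (nat_lit 0)), (.ofNat (nat_lit 0)), (.ofNat (nat_lit 0)), (.negSucc (nat_lit 0)), (.negSucc (nat_lit 0)), (.ofNat (nat_lit 1))⟩) (.leaf ⟨(.ofNat (nat_lit 0)), (.ofNat (nat_lit 0)), (.ofNat (nat_lit 0)), (.negSucc (nat_lit 0)), (.negSucc (nat_lit 0)), (.ofNat (nat_lit 0)), (.negSucc (nat_lit 0)), (.ofNat (nat_lit 1))⟩)) (.node (nat_lit 100) (.leaf ⟨(.ofNat (nat_lit 0)), (.ofNat (nat_lit 0)), (.ofNat (nat_lit 0)), (.ofNat (nat_lit 1)), (.negSucc (nat_lit 0)), (.ofNat (nat_lit 0)), (.negSucc (nat_lit 0)), (.ofNat (nat_lit 1))⟩) (.leaf ⟨(.ofNat (nat_lit 0)), (.negSucc (nat_lit 0)), (.negSucc (nat_lit 0)), (.ofNat (nat_lit 0)), (.ofNat (nat_lit 0)), (.ofNat (nat_lit 0)), (.negSucc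 (nat_lit 0)), (.ofNat (nat_lit 1))⟩)))
 (.node (nat_lit 103) (.node (nat_lit 102) (.leaf ⟨(.ofNat (nat_lit 0)), (.ofNat (nat_lit 1)), (.negSucc (nat_lit 0)), (.ofNat (nat_lit 0)), (.ofNat (nat_lit 0)), (.ofNat (nat_lit 0)), (.negSucc (nat_lit 0)), (.ofNat (nat_lit 1))⟩) (.leaf ⟨(.ofNat (nat_lit 0)), (.negSucc (nat_lit 0)), (.ofNat (nat_lit 1)), (.ofNat (nat_lit 0)), (.ofNat (nat_lit 0)), (.ofNat (nat_lit 0)), (.negSucc (nat_lit 0)), (.ofNat (nat_lit 1))⟩)) (.node (nat_lit 104) (.leaf ⟨(.ofNat (nat_lit 0)), (.ofNat (nat_lit 1)), (.ofNat (nat_lit 1)), (.ofNat (nat_lit 0)), (.ofNat (nat_lit 0)), (.ofNat (nat_lit 0)), (.negSucc (nat_lit 0)), (.ofNat (nat_lit 1))⟩) (.leaf ⟨(.ofNat (nat_lit 0)), (.ofNat (nat_lit 0)), (.ofNat (nat_lit 0)), (.negSucc (nat_lit 0)), (.ofNat (nat_lit 1)), (.ofNat (nat_lit 0)),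 (.negSucc (nat_lit 0)), (.ofNat (nat_lit 1))⟩)))))
 (.node (nat_lit 112) (.node (nat_lit 108) (.node (nat_lit 106) (.leaf ⟨(.ofNat (nat_lit 0)), (.ofNat (nat_lit 0)), (.ofNat (nat_lit 0)), (.ofNat (nat_lit 1)), (.ofNat (nat_lit 1)), (.ofNat (nat_lit 0)), (.negSucc (nat_lit 0)), (.ofNat (nat_lit 1))⟩) (.node (nat_lit 107) (.leaf ⟨(.negSucc (nat_lit 0)), (.ofNat (nat_lit 0)), (.ofNat (nat_lit 0)), (.ofNat (nat_lit 0)), (.ofNat (nat_lit 0)), (.ofNat (nat_lit 1)), (.negSucc (nat_lit 0)), (.ofNat (nat_lit 1))⟩) (.leaf ⟨(.ofNat (nat_lit 1)), (.ofNat (nat_lit 0)), (.ofNat (nat_lit 0)), (.ofNat (nat_lit 0)), (.ofNat (nat_lit 0)), (.ofNat (nat_lit 1)), (.negSucc (nat_lit 0)), (.ofNat (nat_lit 1))⟩)))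
 (.node (nat_lit 110) (.node (nat_lit 109) (.leaf ⟨(.ofNat (nat_lit 0)), (.ofNat (nat_lit 0)), (.negSucc (nat_lit 0)), (.ofNat (nat_lit 0)), (.ofNat (nat_lit 1)), (.negSucc (nat_lit 0)), (.ofNat (nat_lit 0)), (.ofNat (nat_lit 1))⟩) (.leaf ⟨(.ofNat (nat_lit 0)), (.ofNat (nat_lit 0)), (.ofNat (nat_lit 1)), (.ofNat (nat_lit 0)), (.ofNat (nat_lit 1)), (.negSucc (nat_lit 0)), (.ofNat (nat_lit 0)), (.ofNat (nat_lit 1))⟩)) (.node (nat_lit 111) (.leaf ⟨(.ofNat (nat_lit 1)), (.negSucc (nat_lit 0)), (.ofNat (nat_lit 0)), (.ofNat (nat_lit 0)), (.negSucc (nat_lit 0)), (.ofNat (nat_lit 0)), (.ofNat (nat_lit 0)), (.ofNat (nat_lit 1))⟩) (.leaf ⟨(.negSucc (nat_lit 0)), (.ofNat (nat_lit 1)), (.ofNat (nat_lit 0)), (.ofNat (nat_lit 0)), (.negSucc (nat_lit 0)), (.ofNat (nat_lit 0)), (.ofNat (nat_lit 0)), (.ofNat (nat_lit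 1))⟩))))
 (.node (nat_lit 116) (.node (nat_lit 114) (.node (nat_lit 113) (.leaf ⟨(.negSucc (nat_lit 0)), (.ofNat (nat_lit 0)), (.ofNat (nat_lit 1)), (.negSucc (nat_lit 0)), (.ofNat (nat_lit 0)), (.ofNat (nat_lit 0)), (.ofNat (nat_lit 0)), (.ofNat (nat_lit 1))⟩) (.leaf ⟨(.ofNat (nat_lit 1)), (.ofNat (nat_lit 0)), (.ofNat (nat_lit 1)), (.negSucc (nat_lit 0)), (.ofNat (nat_lit 0)), (.ofNat (nat_lit 0)), (.ofNat (nat_lit 0)), (.ofNat (nat_lit 1))⟩)) (.node (nat_lit 115) (.leaf ⟨(.negSucc (nat_lit 0)), (.ofNat (nat_lit 0)), (.negSucc (nat_lit 0)), (.ofNat (nat_lit 1)), (.ofNat (nat_lit 0)), (.ofNat (nat_lit 0)), (.ofNat (nat_lit 0)), (.ofNat (nat_lit 1))⟩) (.leaf ⟨(.ofNat (nat_lit 1)), (.ofNat (nat_lit 0)), (.negSucc (nat_lit 0)), (.ofNat (nat_lit 1)), (.ofNat (nat_lit 0)), (.ofNat (nat_lit 0)), (.ofNat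 (nat_lit 0)), (.ofNat (nat_lit 1))⟩)))
 (.node (nat_lit 118) (.node (nat_lit 117) (.leaf ⟨(.ofNat (nat_lit 1)), (.negSucc (nat_lit 0)), (.ofNat (nat_lit 0)), (.ofNat (nat_lit 0)), (.ofNat (nat_lit 1)), (.ofNat (nat_lit 0)), (.ofNat (nat_lit 0)), (.ofNat (nat_lit 1))⟩) (.leaf ⟨(.negSucc (nat_lit 0)), (.ofNat (nat_lit 1)), (.ofNat (nat_lit 0)), (.ofNat (nat_lit 0)), (.ofNat (nat_lit 1)), (.ofNat (nat_lit 0)), (.ofNat (nat_lit 0)), (.ofNat (nat_lit 1))⟩)) (.node (nat_lit 119) (.leaf ⟨(.ofNat (nat_lit 0)), (.ofNat (nat_lit 0)), (.negSucc (nat_lit 0)), (.ofNat (nat_lit 0)), (.negSucc (nat_lit 0)), (.ofNat (nat_lit 1)), (.ofNat (nat_lit 0)), (.ofNat (nat_lit 1))⟩) (.leaf ⟨(.ofNat (nat_lit 0)), (.ofNat (nat_lit 0)), (.ofNat (nat_lit 1)), (.ofNat (nat_lit 0)), (.negSucc (nat_lit 0)), (.ofNat (nat_lit 1)),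 (.ofNat (nat_lit 0)), (.ofNat (nat_lit 1))⟩))))))))
noncomputable def K0 : List Q8 := [⟨(.negSucc (nat_lit 1)), (.ofNat (nat_lit 0)), (.ofNat (nat_lit 0)), (.ofNat (nat_lit 0)), (.ofNat (nat_lit 0)), (.ofNat (nat_lit 0)), (.ofNat (nat_lit 0)), (.ofNat (nat_lit 0))⟩,
  ⟨(.negSucc (nat_lit 0)), (.ofNat (nat_lit 0)), (.negSucc (nat_lit 0)), (.ofNat (nat_lit 0)), (.negSucc (nat_lit 0)), (.ofNat (nat_lit 0)), (.ofNat (nat_lit 1)), (.negSucc (nat_lit 1))⟩,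
  ⟨(.negSucc (nat_lit 0)), (.ofNat (nat_lit 0)), (.negSucc (nat_lit 0)), (.ofNat (nat_lit 0)), (.negSucc (nat_lit 0)), (.ofNat (nat_lit 2)), (.ofNat (nat_lit 1)), (.ofNat (nat_lit 0))⟩,
  ⟨(.negSucc (nat_lit 0)), (.ofNat (nat_lit 0)), (.negSucc (nat_lit 0)), (.ofNat (nat_lit 0)), (.ofNat (nat_lit 1)), (.negSucc (nat_lit 1)), (.negSucc (nat_lit 0)), (.ofNat (nat_lit 0))⟩,
  ⟨(.negSucc (nat_lit 0)), (.ofNat (nat_lit 0)), (.negSucc (nat_lit 0)), (.ofNat (nat_lit 0)), (.ofNat (nat_lit 1)), (.ofNat (nat_lit 0)), (.negSucc (nat_lit 0)), (.ofNat (nat_lit 2))⟩,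
  ⟨(.negSucc (nat_lit 0)), (.ofNat (nat_lit 0)), (.negSucc (nat_lit 0)), (.ofNat (nat_lit 2)), (.negSucc (nat_lit 0)), (.ofNat (nat_lit 0)), (.ofNat (nat_lit 1)), (.ofNat (nat_lit 0))⟩,
  ⟨(.negSucc (nat_lit 0)), (.ofNat (nat_lit 0)), (.negSucc (nat_lit 0)), (.ofNat (nat_lit 2)), (.ofNat (nat_lit 1)), (.ofNat (nat_lit 0)), (.negSucc (nat_lit 0)), (.ofNat (nat_lit 0))⟩,
  ⟨(.negSucc (nat_lit 0)), (.ofNat (nat_lit 0)), (.ofNat (nat_lit 1)), (.negSucc (nat_lit 1)), (.negSucc (nat_lit 0)), (.ofNat (nat_lit 0)), (.negSucc (nat_lit 0)), (.ofNat (nat_lit 0))⟩,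
  ⟨(.negSucc (nat_lit 0)), (.ofNat (nat_lit 0)), (.ofNat (nat_lit 1)), (.negSucc (nat_lit 1)), (.ofNat (nat_lit 1)), (.ofNat (nat_lit 0)), (.ofNat (nat_lit 1)), (.ofNat (nat_lit 0))⟩,
  ⟨(.negSucc (nat_lit 0)), (.ofNat (nat_lit 0)), (.ofNat (nat_lit 1)), (.ofNat (nat_lit 0)), (.negSucc (nat_lit 0)), (.ofNat (nat_lit 0)), (.negSucc (nat_lit 0)), (.ofNat (nat_lit 2))⟩,
  ⟨(.negSucc (nat_lit 0)), (.ofNat (nat_lit 0)), (.ofNat (nat_lit 1)), (.ofNat (nat_lit 0)), (.negSucc (nat_lit 0)), (.ofNat (nat_lit 2)), (.negSucc (nat_lit 0)), (.ofNat (nat_lit 0))⟩,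
  ⟨(.negSucc (nat_lit 0)), (.ofNat (nat_lit 0)), (.ofNat (nat_lit 1)), (.ofNat (nat_lit 0)), (.ofNat (nat_lit 1)), (.negSucc (nat_lit 1)), (.ofNat (nat_lit 1)), (.ofNat (nat_lit 0))⟩,
  ⟨(.negSucc (nat_lit 0)), (.ofNat (nat_lit 0)), (.ofNat (nat_lit 1)), (.ofNat (nat_lit 0)), (.ofNat (nat_lit 1)), (.ofNat (nat_lit 0)), (.ofNat (nat_lit 1)), (.negSucc (nat_lit 1))⟩,
  ⟨(.negSucc (nat_lit 0)), (.ofNat (nat_lit 1)), (.negSucc (nat_lit 0)), (.ofNat (nat_lit 1)), (.negSucc (nat_lit 0)), (.ofNat (nat_lit 1)), (.negSucc (nat_lit 0)), (.ofNat (nat_lit 1))⟩]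
noncomputable def K1 : List Q8 := [⟨(.negSucc (nat_lit 0)), (.ofNat (nat_lit 1)), (.negSucc (nat_lit 0)), (.ofNat (nat_lit 1)), (.ofNat (nat_lit 1)), (.negSucc (nat_lit 0)), (.ofNat (nat_lit 1)), (.negSucc (nat_lit 0))⟩,
  ⟨(.negSucc (nat_lit 0)), (.ofNat (nat_lit 1)), (.ofNat (nat_lit 1)), (.negSucc (nat_lit 0)), (.negSucc (nat_lit 0)), (.ofNat (nat_lit 1)), (.ofNat (nat_lit 1)), (.negSucc (nat_lit 0))⟩,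
  ⟨(.negSucc (nat_lit 0)), (.ofNat (nat_lit 1)), (.ofNat (nat_lit 1)), (.negSucc (nat_lit 0)), (.ofNat (nat_lit 1)), (.negSucc (nat_lit 0)), (.negSucc (nat_lit 0)), (.ofNat (nat_lit 1))⟩,
  ⟨(.negSucc (nat_lit 0)), (.ofNat (nat_lit 2)), (.negSucc (nat_lit 0)), (.ofNat (nat_lit 0)), (.negSucc (nat_lit 0)), (.ofNat (nat_lit 0)), (.ofNat (nat_lit 1)), (.ofNat (nat_lit 0))⟩,
  ⟨(.negSucc (nat_lit 0)), (.ofNat (nat_lit 2)), (.negSucc (nat_lit 0)), (.ofNat (nat_lit 0)), (.ofNat (nat_lit 1)), (.ofNat (nat_lit 0)), (.negSucc (nat_lit 0)), (.ofNat (nat_lit 0))⟩,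
  ⟨(.negSucc (nat_lit 0)), (.ofNat (nat_lit 2)), (.ofNat (nat_lit 1)), (.ofNat (nat_lit 0)), (.negSucc (nat_lit 0)), (.ofNat (nat_lit 0)), (.negSucc (nat_lit 0)), (.ofNat (nat_lit 0))⟩,
  ⟨(.negSucc (nat_lit 0)), (.ofNat (nat_lit 2)), (.ofNat (nat_lit 1)), (.ofNat (nat_lit 0)), (.ofNat (nat_lit 1)), (.ofNat (nat_lit 0)), (.ofNat (nat_lit 1)), (.ofNat (nat_lit 0))⟩,
  ⟨(.ofNat (nat_lit 0)), (.negSucc (nat_lit 0)), (.ofNat (nat_lit 0)), (.negSucc (nat_lit 0)), (.ofNat (nat_lit 0)), (.negSucc (nat_lit 0)), (.ofNat (nat_lit 0)), (.ofNat (nat_lit 1))⟩,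
  ⟨(.ofNat (nat_lit 0)), (.negSucc (nat_lit 0)), (.ofNat (nat_lit 0)), (.negSucc (nat_lit 0)), (.ofNat (nat_lit 0)), (.ofNat (nat_lit 1)), (.ofNat (nat_lit 0)), (.negSucc (nat_lit 0))⟩,
  ⟨(.ofNat (nat_lit 0)), (.negSucc (nat_lit 0)), (.ofNat (nat_lit 0)), (.ofNat (nat_lit 1)), (.ofNat (nat_lit 0)), (.negSucc (nat_lit 0)), (.ofNat (nat_lit 0)), (.negSucc (nat_lit 0))⟩,
  ⟨(.ofNat (nat_lit 0)), (.negSucc (nat_lit 0)), (.ofNat (nat_lit 0)), (.ofNat (nat_lit 1)), (.ofNat (nat_lit 0)), (.ofNat (nat_lit 1)), (.ofNat (nat_lit 0)), (.ofNat (nat_lit 1))⟩,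
  ⟨(.ofNat (nat_lit 0)), (.ofNat (nat_lit 0)), (.negSucc (nat_lit 1)), (.ofNat (nat_lit 0)), (.ofNat (nat_lit 0)), (.ofNat (nat_lit 0)), (.ofNat (nat_lit 0)), (.ofNat (nat_lit 0))⟩,
  ⟨(.ofNat (nat_lit 0)), (.ofNat (nat_lit 0)), (.ofNat (nat_lit 0)), (.ofNat (nat_lit 0)), (.negSucc (nat_lit 1)), (.ofNat (nat_lit 0)), (.ofNat (nat_lit 0)), (.ofNat (nat_lit 0))⟩,
  ⟨(.ofNat (nat_lit 0)), (.ofNat (nat_lit 0)), (.ofNat (nat_lit 0)), (.ofNat (nat_lit 0)), (.ofNat (nat_lit 0)), (.ofNat (nat_lit 0)), (.negSucc (nat_lit 1)), (.ofNat (nat_lit 0))⟩]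
noncomputable def K2 : List Q8 := [⟨(.ofNat (nat_lit 0)), (.ofNat (nat_lit 0)), (.ofNat (nat_lit 0)), (.ofNat (nat_lit 0)), (.ofNat (nat_lit 0)), (.ofNat (nat_lit 0)), (.ofNat (nat_lit 2)), (.ofNat (nat_lit 0))⟩,
  ⟨(.ofNat (nat_lit 0)), (.ofNat (nat_lit 0)), (.ofNat (nat_lit 0)), (.ofNat (nat_lit 0)), (.ofNat (nat_lit 2)), (.ofNat (nat_lit 0)), (.ofNat (nat_lit 0)), (.ofNat (nat_lit 0))⟩,
  ⟨(.ofNat (nat_lit 0)), (.ofNat (nat_lit 0)), (.ofNat (nat_lit 2)), (.ofNat (nat_lit 0)), (.ofNat (nat_lit 0)), (.ofNat (nat_lit 0)), (.ofNat (nat_lit 0)), (.ofNat (nat_lit 0))⟩,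
  ⟨(.ofNat (nat_lit 0)), (.ofNat (nat_lit 1)), (.ofNat (nat_lit 0)), (.negSucc (nat_lit 0)), (.ofNat (nat_lit 0)), (.negSucc (nat_lit 0)), (.ofNat (nat_lit 0)), (.negSucc (nat_lit 0))⟩,
  ⟨(.ofNat (nat_lit 0)), (.ofNat (nat_lit 1)), (.ofNat (nat_lit 0)), (.negSucc (nat_lit 0)), (.ofNat (nat_lit 0)), (.ofNat (nat_lit 1)), (.ofNat (nat_lit 0)), (.ofNat (nat_lit 1))⟩,
  ⟨(.ofNat (nat_lit 0)), (.ofNat (nat_lit 1)), (.ofNat (nat_lit 0)), (.ofNat (nat_lit 1)), (.ofNat (nat_lit 0)), (.negSucc (nat_lit 0)), (.ofNat (nat_lit 0)), (.ofNat (nat_lit 1))⟩,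
  ⟨(.ofNat (nat_lit 0)), (.ofNat (nat_lit 1)), (.ofNat (nat_lit 0)), (.ofNat (nat_lit 1)), (.ofNat (nat_lit 0)), (.ofNat (nat_lit 1)), (.ofNat (nat_lit 0)), (.negSucc (nat_lit 0))⟩,
  ⟨(.ofNat (nat_lit 1)), (.negSucc (nat_lit 1)), (.negSucc (nat_lit 0)), (.ofNat (nat_lit 0)), (.negSucc (nat_lit 0)), (.ofNat (nat_lit 0)), (.negSucc (nat_lit 0)), (.ofNat (nat_lit 0))⟩,
  ⟨(.ofNat (nat_lit 1)), (.negSucc (nat_lit 1)), (.negSucc (nat_lit 0)), (.ofNat (nat_lit 0)), (.ofNat (nat_lit 1)), (.ofNat (nat_lit 0)), (.ofNat (nat_lit 1)), (.ofNat (nat_lit 0))⟩,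
  ⟨(.ofNat (nat_lit 1)), (.negSucc (nat_lit 1)), (.ofNat (nat_lit 1)), (.ofNat (nat_lit 0)), (.negSucc (nat_lit 0)), (.ofNat (nat_lit 0)), (.ofNat (nat_lit 1)), (.ofNat (nat_lit 0))⟩,
  ⟨(.ofNat (nat_lit 1)), (.negSucc (nat_lit 1)), (.ofNat (nat_lit 1)), (.ofNat (nat_lit 0)), (.ofNat (nat_lit 1)), (.ofNat (nat_lit 0)), (.negSucc (nat_lit 0)), (.ofNat (nat_lit 0))⟩,
  ⟨(.ofNat (nat_lit 1)), (.negSucc (nat_lit 0)), (.negSucc (nat_lit 0)), (.ofNat (nat_lit 1)), (.negSucc (nat_lit 0)), (.ofNat (nat_lit 1)), (.ofNat (nat_lit 1)), (.negSucc (nat_lit 0))⟩,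
  ⟨(.ofNat (nat_lit 1)), (.negSucc (nat_lit 0)), (.negSucc (nat_lit 0)), (.ofNat (nat_lit 1)), (.ofNat (nat_lit 1)), (.negSucc (nat_lit 0)), (.negSucc (nat_lit 0)), (.ofNat (nat_lit 1))⟩,
  ⟨(.ofNat (nat_lit 1)), (.negSucc (nat_lit 0)), (.ofNat (nat_lit 1)), (.negSucc (nat_lit 0)), (.negSucc (nat_lit 0)), (.ofNat (nat_lit 1)), (.negSucc (nat_lit 0)), (.ofNat (nat_lit 1))⟩]
noncomputable def K3 : List Q8 := [⟨(.ofNat (nat_lit 1)), (.negSucc (nat_lit 0)), (.ofNat (nat_lit 1)), (.negSucc (nat_lit 0)), (.ofNat (nat_lit 1)), (.negSucc (nat_lit 0)), (.ofNat (nat_lit 1)), (.negSucc (nat_lit 0))⟩,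
  ⟨(.ofNat (nat_lit 1)), (.ofNat (nat_lit 0)), (.negSucc (nat_lit 0)), (.ofNat (nat_lit 0)), (.negSucc (nat_lit 0)), (.ofNat (nat_lit 0)), (.negSucc (nat_lit 0)), (.ofNat (nat_lit 2))⟩,
  ⟨(.ofNat (nat_lit 1)), (.ofNat (nat_lit 0)), (.negSucc (nat_lit 0)), (.ofNat (nat_lit 0)), (.negSucc (nat_lit 0)), (.ofNat (nat_lit 2)), (.negSucc (nat_lit 0)), (.ofNat (nat_lit 0))⟩,
  ⟨(.ofNat (nat_lit 1)), (.ofNat (nat_lit 0)), (.negSucc (nat_lit 0)), (.ofNat (nat_lit 0)), (.ofNat (nat_lit 1)), (.negSucc (nat_lit 1)), (.ofNat (nat_lit 1)), (.ofNat (nat_lit 0))⟩,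
  ⟨(.ofNat (nat_lit 1)), (.ofNat (nat_lit 0)), (.negSucc (nat_lit 0)), (.ofNat (nat_lit 0)), (.ofNat (nat_lit 1)), (.ofNat (nat_lit 0)), (.ofNat (nat_lit 1)), (.negSucc (nat_lit 1))⟩,
  ⟨(.ofNat (nat_lit 1)), (.ofNat (nat_lit 0)), (.negSucc (nat_lit 0)), (.ofNat (nat_lit 2)), (.negSucc (nat_lit 0)), (.ofNat (nat_lit 0)), (.negSucc (nat_lit 0)), (.ofNat (nat_lit 0))⟩,
  ⟨(.ofNat (nat_lit 1)), (.ofNat (nat_lit 0)), (.negSucc (nat_lit 0)), (.ofNat (nat_lit 2)), (.ofNat (nat_lit 1)), (.ofNat (nat_lit 0)), (.ofNat (nat_lit 1)), (.ofNat (nat_lit 0))⟩,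
  ⟨(.ofNat (nat_lit 1)), (.ofNat (nat_lit 0)), (.ofNat (nat_lit 1)), (.negSucc (nat_lit 1)), (.negSucc (nat_lit 0)), (.ofNat (nat_lit 0)), (.ofNat (nat_lit 1)), (.ofNat (nat_lit 0))⟩,
  ⟨(.ofNat (nat_lit 1)), (.ofNat (nat_lit 0)), (.ofNat (nat_lit 1)), (.negSucc (nat_lit 1)), (.ofNat (nat_lit 1)), (.ofNat (nat_lit 0)), (.negSucc (nat_lit 0)), (.ofNat (nat_lit 0))⟩,
  ⟨(.ofNat (nat_lit 1)), (.ofNat (nat_lit 0)), (.ofNat (nat_lit 1)), (.ofNat (nat_lit 0)), (.negSucc (nat_lit 0)), (.ofNat (nat_lit 0)), (.ofNat (nat_lit 1)), (.negSucc (nat_lit 1))⟩,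
  ⟨(.ofNat (nat_lit 1)), (.ofNat (nat_lit 0)), (.ofNat (nat_lit 1)), (.ofNat (nat_lit 0)), (.negSucc (nat_lit 0)), (.ofNat (nat_lit 2)), (.ofNat (nat_lit 1)), (.ofNat (nat_lit 0))⟩,
  ⟨(.ofNat (nat_lit 1)), (.ofNat (nat_lit 0)), (.ofNat (nat_lit 1)), (.ofNat (nat_lit 0)), (.ofNat (nat_lit 1)), (.negSucc (nat_lit 1)), (.negSucc (nat_lit 0)), (.ofNat (nat_lit 0))⟩,
  ⟨(.ofNat (nat_lit 1)), (.ofNat (nat_lit 0)), (.ofNat (nat_lit 1)), (.ofNat (nat_lit 0)), (.ofNat (nat_lit 1)), (.ofNat (nat_lit 0)), (.negSucc (nat_lit 0)), (.ofNat (nat_lit 2))⟩,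
  ⟨(.ofNat (nat_lit 2)), (.ofNat (nat_lit 0)), (.ofNat (nat_lit 0)), (.ofNat (nat_lit 0)), (.ofNat (nat_lit 0)), (.ofNat (nat_lit 0)), (.ofNat (nat_lit 0)), (.ofNat (nat_lit 0))⟩]
noncomputable def K : List Q8 := [⟨(.negSucc (nat_lit 1)), (.ofNat (nat_lit 0)), (.ofNat (nat_lit 0)), (.ofNat (nat_lit 0)), (.ofNat (nat_lit 0)), (.ofNat (nat_lit 0)), (.ofNat (nat_lit 0)), (.ofNat (nat_lit 0))⟩,
  ⟨(.negSucc (nat_lit 0)), (.ofNat (nat_lit 0)), (.negSucc (nat_lit 0)), (.ofNat (nat_lit 0)), (.negSucc (nat_lit 0)), (.ofNat (nat_lit 0)), (.ofNat (nat_lit 1)), (.negSucc (nat_lit 1))⟩,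
  ⟨(.negSucc (nat_lit 0)), (.ofNat (nat_lit 0)), (.negSucc (nat_lit 0)), (.ofNat (nat_lit 0)), (.negSucc (nat_lit 0)), (.ofNat (nat_lit 2)), (.ofNat (nat_lit 1)), (.ofNat (nat_lit 0))⟩,
  ⟨(.negSucc (nat_lit 0)), (.ofNat (nat_lit 0)), (.negSucc (nat_lit 0)), (.ofNat (nat_lit 0)), (.ofNat (nat_lit 1)), (.negSucc (nat_lit 1)), (.negSucc (nat_lit 0)), (.ofNat (nat_lit 0))⟩,
  ⟨(.negSucc (nat_lit 0)), (.ofNat (nat_lit 0)), (.negSucc (nat_lit 0)), (.ofNat (nat_lit 0)), (.ofNat (nat_lit 1)), (.ofNat (nat_lit 0)), (.negSucc (nat_lit 0)), (.ofNat (nat_lit 2))⟩,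
  ⟨(.negSucc (nat_lit 0)), (.ofNat (nat_lit 0)), (.negSucc (nat_lit 0)), (.ofNat (nat_lit 2)), (.negSucc (nat_lit 0)), (.ofNat (nat_lit 0)), (.ofNat (nat_lit 1)), (.ofNat (nat_lit 0))⟩,
  ⟨(.negSucc (nat_lit 0)), (.ofNat (nat_lit 0)), (.negSucc (nat_lit 0)), (.ofNat (nat_lit 2)), (.ofNat (nat_lit 1)), (.ofNat (nat_lit 0)), (.negSucc (nat_lit 0)), (.ofNat (nat_lit 0))⟩,
  ⟨(.negSucc (nat_lit 0)), (.ofNat (nat_lit 0)), (.ofNat (nat_lit 1)), (.negSucc (nat_lit 1)), (.negSucc (nat_lit 0)), (.ofNat (nat_lit 0)), (.negSucc (nat_lit 0)), (.ofNat (nat_lit 0))⟩,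
  ⟨(.negSucc (nat_lit 0)), (.ofNat (nat_lit 0)), (.ofNat (nat_lit 1)), (.negSucc (nat_lit 1)), (.ofNat (nat_lit 1)), (.ofNat (nat_lit 0)), (.ofNat (nat_lit 1)), (.ofNat (nat_lit 0))⟩,
  ⟨(.negSucc (nat_lit 0)), (.ofNat (nat_lit 0)), (.ofNat (nat_lit 1)), (.ofNat (nat_lit 0)), (.negSucc (nat_lit 0)), (.ofNat (nat_lit 0)), (.negSucc (nat_lit 0)), (.ofNat (nat_lit 2))⟩,
  ⟨(.negSucc (nat_lit 0)), (.ofNat (nat_lit 0)), (.ofNat (nat_lit 1)), (.ofNat (nat_lit 0)), (.negSucc (nat_lit 0)), (.ofNat (nat_lit 2)), (.negSucc (nat_lit 0)), (.ofNat (nat_lit 0))⟩,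
  ⟨(.negSucc (nat_lit 0)), (.ofNat (nat_lit 0)), (.ofNat (nat_lit 1)), (.ofNat (nat_lit 0)), (.ofNat (nat_lit 1)), (.negSucc (nat_lit 1)), (.ofNat (nat_lit 1)), (.ofNat (nat_lit 0))⟩,
  ⟨(.negSucc (nat_lit 0)), (.ofNat (nat_lit 0)), (.ofNat (nat_lit 1)), (.ofNat (nat_lit 0)), (.ofNat (nat_lit 1)), (.ofNat (nat_lit 0)), (.ofNat (nat_lit 1)), (.negSucc (nat_lit 1))⟩,
  ⟨(.negSucc (nat_lit 0)), (.ofNat (nat_lit 1)), (.negSucc (nat_lit 0)), (.ofNat (nat_lit 1)), (.negSucc (nat_lit 0)), (.ofNat (nat_lit 1)), (.negSucc (nat_lit 0)), (.ofNat (nat_lit 1))⟩,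
  ⟨(.negSucc (nat_lit 0)), (.ofNat (nat_lit 1)), (.negSucc (nat_lit 0)), (.ofNat (nat_lit 1)), (.ofNat (nat_lit 1)), (.negSucc (nat_lit 0)), (.ofNat (nat_lit 1)), (.negSucc (nat_lit 0))⟩,
  ⟨(.negSucc (nat_lit 0)), (.ofNat (nat_lit 1)), (.ofNat (nat_lit 1)), (.negSucc (nat_lit 0)), (.negSucc (nat_lit 0)), (.ofNat (nat_lit 1)), (.ofNat (nat_lit 1)), (.negSucc (nat_lit 0))⟩,
  ⟨(.negSucc (nat_lit 0)), (.ofNat (nat_lit 1)), (.ofNat (nat_lit 1)), (.negSucc (nat_lit 0)), (.ofNat (nat_lit 1)), (.negSucc (nat_lit 0)), (.negSucc (nat_lit 0)), (.ofNat (nat_lit 1))⟩,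
  ⟨(.negSucc (nat_lit 0)), (.ofNat (nat_lit 2)), (.negSucc (nat_lit 0)), (.ofNat (nat_lit 0)), (.negSucc (nat_lit 0)), (.ofNat (nat_lit 0)), (.ofNat (nat_lit 1)), (.ofNat (nat_lit 0))⟩,
  ⟨(.negSucc (nat_lit 0)), (.ofNat (nat_lit 2)), (.negSucc (nat_lit 0)), (.ofNat (nat_lit 0)), (.ofNat (nat_lit 1)), (.ofNat (nat_lit 0)), (.negSucc (nat_lit 0)), (.ofNat (nat_lit 0))⟩,
  ⟨(.negSucc (nat_lit 0)), (.ofNat (nat_lit 2)), (.ofNat (nat_lit 1)), (.ofNat (nat_lit 0)), (.negSucc (nat_lit 0)), (.ofNat (nat_lit 0)), (.negSucc (nat_lit 0)), (.ofNat (nat_lit 0))⟩,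
  ⟨(.negSucc (nat_lit 0)), (.ofNat (nat_lit 2)), (.ofNat (nat_lit 1)), (.ofNat (nat_lit 0)), (.ofNat (nat_lit 1)), (.ofNat (nat_lit 0)), (.ofNat (nat_lit 1)), (.ofNat (nat_lit 0))⟩,
  ⟨(.ofNat (nat_lit 0)), (.negSucc (nat_lit 0)), (.ofNat (nat_lit 0)), (.negSucc (nat_lit 0)), (.ofNat (nat_lit 0)), (.negSucc (nat_lit 0)), (.ofNat (nat_lit 0)), (.ofNat (nat_lit 1))⟩,
  ⟨(.ofNat (nat_lit 0)), (.negSucc (nat_lit 0)), (.ofNat (nat_lit 0)), (.negSucc (nat_lit 0)), (.ofNat (nat_lit 0)), (.ofNat (nat_lit 1)), (.ofNat (nat_lit 0)), (.negSucc (nat_lit 0))⟩,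
  ⟨(.ofNat (nat_lit 0)), (.negSucc (nat_lit 0)), (.ofNat (nat_lit 0)), (.ofNat (nat_lit 1)), (.ofNat (nat_lit 0)), (.negSucc (nat_lit 0)), (.ofNat (nat_lit 0)), (.negSucc (nat_lit 0))⟩,
  ⟨(.ofNat (nat_lit 0)), (.negSucc (nat_lit 0)), (.ofNat (nat_lit 0)), (.ofNat (nat_lit 1)), (.ofNat (nat_lit 0)), (.ofNat (nat_lit 1)), (.ofNat (nat_lit 0)), (.ofNat (nat_lit 1))⟩,
  ⟨(.ofNat (nat_lit 0)), (.ofNat (nat_lit 0)), (.negSucc (nat_lit 1)), (.ofNat (nat_lit 0)), (.ofNat (nat_lit 0)), (.ofNat (nat_lit 0)), (.ofNat (nat_lit 0)), (.ofNat (nat_lit 0))⟩,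
  ⟨(.ofNat (nat_lit 0)), (.ofNat (nat_lit 0)), (.ofNat (nat_lit 0)), (.ofNat (nat_lit 0)), (.negSucc (nat_lit 1)), (.ofNat (nat_lit 0)), (.ofNat (nat_lit 0)), (.ofNat (nat_lit 0))⟩,
  ⟨(.ofNat (nat_lit 0)), (.ofNat (nat_lit 0)), (.ofNat (nat_lit 0)), (.ofNat (nat_lit 0)), (.ofNat (nat_lit 0)), (.ofNat (nat_lit 0)), (.negSucc (nat_lit 1)), (.ofNat (nat_lit 0))⟩,
  ⟨(.ofNat (nat_lit 0)), (.ofNat (nat_lit 0)), (.ofNat (nat_lit 0)), (.ofNat (nat_lit 0)), (.ofNat (nat_lit 0)), (.ofNat (nat_lit 0)), (.ofNat (nat_lit 2)), (.ofNat (nat_lit 0))⟩,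
  ⟨(.ofNat (nat_lit 0)), (.ofNat (nat_lit 0)), (.ofNat (nat_lit 0)), (.ofNat (nat_lit 0)), (.ofNat (nat_lit 2)), (.ofNat (nat_lit 0)), (.ofNat (nat_lit 0)), (.ofNat (nat_lit 0))⟩,
  ⟨(.ofNat (nat_lit 0)), (.ofNat (nat_lit 0)), (.ofNat (nat_lit 2)), (.ofNat (nat_lit 0)), (.ofNat (nat_lit 0)), (.ofNat (nat_lit 0)), (.ofNat (nat_lit 0)), (.ofNat (nat_lit 0))⟩,
  ⟨(.ofNat (nat_lit 0)), (.ofNat (nat_lit 1)), (.ofNat (nat_lit 0)), (.negSucc (nat_lit 0)), (.ofNat (nat_lit 0)), (.negSucc (nat_lit 0)), (.ofNat (nat_lit 0)), (.negSucc (nat_lit 0))⟩,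
  ⟨(.ofNat (nat_lit 0)), (.ofNat (nat_lit 1)), (.ofNat (nat_lit 0)), (.negSucc (nat_lit 0)), (.ofNat (nat_lit 0)), (.ofNat (nat_lit 1)), (.ofNat (nat_lit 0)), (.ofNat (nat_lit 1))⟩,
  ⟨(.ofNat (nat_lit 0)), (.ofNat (nat_lit 1)), (.ofNat (nat_lit 0)), (.ofNat (nat_lit 1)), (.ofNat (nat_lit 0)), (.negSucc (nat_lit 0)), (.ofNat (nat_lit 0)), (.ofNat (nat_lit 1))⟩,
  ⟨(.ofNat (nat_lit 0)), (.ofNat (nat_lit 1)), (.ofNat (nat_lit 0)), (.ofNat (nat_lit 1)), (.ofNat (nat_lit 0)), (.ofNat (nat_lit 1)), (.ofNat (nat_lit 0)), (.negSucc (nat_lit 0))⟩,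
  ⟨(.ofNat (nat_lit 1)), (.negSucc (nat_lit 1)), (.negSucc (nat_lit 0)), (.ofNat (nat_lit 0)), (.negSucc (nat_lit 0)), (.ofNat (nat_lit 0)), (.negSucc (nat_lit 0)), (.ofNat (nat_lit 0))⟩,
  ⟨(.ofNat (nat_lit 1)), (.negSucc (nat_lit 1)), (.negSucc (nat_lit 0)), (.ofNat (nat_lit 0)), (.ofNat (nat_lit 1)), (.ofNat (nat_lit 0)), (.ofNat (nat_lit 1)), (.ofNat (nat_lit 0))⟩,
  ⟨(.ofNat (nat_lit 1)), (.negSucc (nat_lit 1)), (.ofNat (nat_lit 1)), (.ofNat (nat_lit 0)), (.negSucc (nat_lit 0)), (.ofNat (nat_lit 0)), (.ofNat (nat_lit 1)), (.ofNat (nat_lit 0))⟩,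
  ⟨(.ofNat (nat_lit 1)), (.negSucc (nat_lit 1)), (.ofNat (nat_lit 1)), (.ofNat (nat_lit 0)), (.ofNat (nat_lit 1)), (.ofNat (nat_lit 0)), (.negSucc (nat_lit 0)), (.ofNat (nat_lit 0))⟩,
  ⟨(.ofNat (nat_lit 1)), (.negSucc (nat_lit 0)), (.negSucc (nat_lit 0)), (.ofNat (nat_lit 1)), (.negSucc (nat_lit 0)), (.ofNat (nat_lit 1)), (.ofNat (nat_lit 1)), (.negSucc (nat_lit 0))⟩,
  ⟨(.ofNat (nat_lit 1)), (.negSucc (nat_lit 0)), (.negSucc (nat_lit 0)), (.ofNat (nat_lit 1)), (.ofNat (nat_lit 1)), (.negSucc (nat_lit 0)), (.negSucc (nat_lit 0)), (.ofNat (nat_lit 1))⟩,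
  ⟨(.ofNat (nat_lit 1)), (.negSucc (nat_lit 0)), (.ofNat (nat_lit 1)), (.negSucc (nat_lit 0)), (.negSucc (nat_lit 0)), (.ofNat (nat_lit 1)), (.negSucc (nat_lit 0)), (.ofNat (nat_lit 1))⟩,
  ⟨(.ofNat (nat_lit 1)), (.negSucc (nat_lit 0)), (.ofNat (nat_lit 1)), (.negSucc (nat_lit 0)), (.ofNat (nat_lit 1)), (.negSucc (nat_lit 0)), (.ofNat (nat_lit 1)), (.negSucc (nat_lit 0))⟩,
  ⟨(.ofNat (nat_lit 1)), (.ofNat (nat_lit 0)), (.negSucc (nat_lit 0)), (.ofNat (nat_lit 0)), (.negSucc (nat_lit 0)), (.ofNat (nat_lit 0)), (.negSucc (nat_lit 0)), (.ofNat (nat_lit 2))⟩,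
  ⟨(.ofNat (nat_lit 1)), (.ofNat (nat_lit 0)), (.negSucc (nat_lit 0)), (.ofNat (nat_lit 0)), (.negSucc (nat_lit 0)), (.ofNat (nat_lit 2)), (.negSucc (nat_lit 0)), (.ofNat (nat_lit 0))⟩,
  ⟨(.ofNat (nat_lit 1)), (.ofNat (nat_lit 0)), (.negSucc (nat_lit 0)), (.ofNat (nat_lit 0)), (.ofNat (nat_lit 1)), (.negSucc (nat_lit 1)), (.ofNat (nat_lit 1)), (.ofNat (nat_lit 0))⟩,
  ⟨(.ofNat (nat_lit 1)), (.ofNat (nat_lit 0)), (.negSucc (nat_lit 0)), (.ofNat (nat_lit 0)), (.ofNat (nat_lit 1)), (.ofNat (nat_lit 0)), (.ofNat (nat_lit 1)), (.negSucc (nat_lit 1))⟩,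
  ⟨(.ofNat (nat_lit 1)), (.ofNat (nat_lit 0)), (.negSucc (nat_lit 0)), (.ofNat (nat_lit 2)), (.negSucc (nat_lit 0)), (.ofNat (nat_lit 0)), (.negSucc (nat_lit 0)), (.ofNat (nat_lit 0))⟩,
  ⟨(.ofNat (nat_lit 1)), (.ofNat (nat_lit 0)), (.negSucc (nat_lit 0)), (.ofNat (nat_lit 2)), (.ofNat (nat_lit 1)), (.ofNat (nat_lit 0)), (.ofNat (nat_lit 1)), (.ofNat (nat_lit 0))⟩,
  ⟨(.ofNat (nat_lit 1)), (.ofNat (nat_lit 0)), (.ofNat (nat_lit 1)), (.negSucc (nat_lit 1)), (.negSucc (nat_lit 0)), (.ofNat (nat_lit 0)), (.ofNat (nat_lit 1)), (.ofNat (nat_lit 0))⟩,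
  ⟨(.ofNat (nat_lit 1)), (.ofNat (nat_lit 0)), (.ofNat (nat_lit 1)), (.negSucc (nat_lit 1)), (.ofNat (nat_lit 1)), (.ofNat (nat_lit 0)), (.negSucc (nat_lit 0)), (.ofNat (nat_lit 0))⟩,
  ⟨(.ofNat (nat_lit 1)), (.ofNat (nat_lit 0)), (.ofNat (nat_lit 1)), (.ofNat (nat_lit 0)), (.negSucc (nat_lit 0)), (.ofNat (nat_lit 0)), (.ofNat (nat_lit 1)), (.negSucc (nat_lit 1))⟩,
  ⟨(.ofNat (nat_lit 1)), (.ofNat (nat_lit 0)), (.ofNat (nat_lit 1)), (.ofNat (nat_lit 0)), (.negSucc (nat_lit 0)), (.ofNat (nat_lit 2)), (.ofNat (nat_lit 1)), (.ofNat (nat_lit 0))⟩,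
  ⟨(.ofNat (nat_lit 1)), (.ofNat (nat_lit 0)), (.ofNat (nat_lit 1)), (.ofNat (nat_lit 0)), (.ofNat (nat_lit 1)), (.negSucc (nat_lit 1)), (.negSucc (nat_lit 0)), (.ofNat (nat_lit 0))⟩,
  ⟨(.ofNat (nat_lit 1)), (.ofNat (nat_lit 0)), (.ofNat (nat_lit 1)), (.ofNat (nat_lit 0)), (.ofNat (nat_lit 1)), (.ofNat (nat_lit 0)), (.negSucc (nat_lit 0)), (.ofNat (nat_lit 2))⟩,
  ⟨(.ofNat (nat_lit 2)), (.ofNat (nat_lit 0)), (.ofNat (nat_lit 0)), (.ofNat (nat_lit 0)), (.ofNat (nat_lit 0)), (.ofNat (nat_lit 0)), (.ofNat (nat_lit 0)), (.ofNat (nat_lit 0))⟩]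
noncomputable def R : Tr V3 := (.node (nat_lit 157) (.node (nat_lit 78) (.node (nat_lit 39) (.node (nat_lit 19) (.node (nat_lit 9) (.node (nat_lit 4) (.node (nat_lit 2) (.node (nat_lit 1) (.leaf ⟨⟨(.ofNat (nat_lit 2)), (.ofNat (nat_lit 0)), (.ofNat (nat_lit 0)), (.ofNat (nat_lit 0)), (.ofNat (nat_lit 0)), (.ofNat (nat_lit 0)), (.ofNat (nat_lit 0)), (.ofNat (nat_lit 0))⟩, ⟨(.ofNat (nat_lit 0)), (.ofNat (nat_lit 0)), (.ofNat (nat_lit 2)), (.ofNat (nat_lit 0)), (.ofNat (nat_lit 0)), (.ofNat (nat_lit 0)), (.ofNat (nat_lit 0)), (.ofNat (nat_lit 0))⟩, ⟨(.ofNat (nat_lit 1)), (.ofNat (nat_lit 0)), (.negSucc (nat_lit 0)), (.ofNat (nat_lit 0)), (.negSucc (nat_lit 0)), (.ofNat (nat_lit 2)), (.negSucc (nat_lit 0)), (.ofNat (nat_lit 0))⟩⟩) (.leaf ⟨⟨(.ofNat (nat_lit 2)), (.ofNat (nat_lit 0)), (.ofNat (nat_lit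 0)), (.ofNat (nat_lit 0)), (.ofNat (nat_lit 0)), (.ofNat (nat_lit 0)), (.ofNat (nat_lit 0)), (.ofNat (nat_lit 0))⟩, ⟨(.ofNat (nat_lit 0)), (.ofNat (nat_lit 0)), (.negSucc (nat_lit 1)), (.ofNat (nat_lit 0)), (.ofNat (nat_lit 0)), (.ofNat (nat_lit 0)), (.ofNat (nat_lit 0)), (.ofNat (nat_lit 0))⟩, ⟨(.negSucc (nat_lit 0)), (.ofNat (nat_lit 0)), (.ofNat (nat_lit 1)), (.ofNat (nat_lit 0)), (.ofNat (nat_lit 1)), (.negSucc (nat_lit 1)), (.ofNat (nat_lit 1)), (.ofNat (nat_lit 0))⟩⟩)) (.node (nat_lit 3) (.leaf ⟨⟨(.ofNat (nat_lit 2)), (.ofNat (nat_lit 0)), (.ofNat (nat_lit 0)), (.ofNat (nat_lit 0)), (.ofNat (nat_lit 0)), (.ofNat (nat_lit 0)), (.ofNat (nat_lit 0)), (.ofNat (nat_lit 0))⟩, ⟨(.ofNat (nat_lit 1)), (.ofNat (nat_lit 0)), (.negSucc (nat_lit 0)), (.ofNat (nat_lit 0)), (.negSucc (nat_lit 0)), (.ofNat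 (nat_lit 2)), (.negSucc (nat_lit 0)), (.ofNat (nat_lit 0))⟩, ⟨(.ofNat (nat_lit 0)), (.ofNat (nat_lit 0)), (.negSucc (nat_lit 1)), (.ofNat (nat_lit 0)), (.ofNat (nat_lit 0)), (.ofNat (nat_lit 0)), (.ofNat (nat_lit 0)), (.ofNat (nat_lit 0))⟩⟩) (.leaf ⟨⟨(.ofNat (nat_lit 2)), (.ofNat (nat_lit 0)), (.ofNat (nat_lit 0)), (.ofNat (nat_lit 0)), (.ofNat (nat_lit 0)), (.ofNat (nat_lit 0)), (.ofNat (nat_lit 0)), (.ofNat (nat_lit 0))⟩, ⟨(.negSucc (nat_lit 0)), (.ofNat (nat_lit 0)), (.ofNat (nat_lit 1)), (.ofNat (nat_lit 0)), (.ofNat (nat_lit 1)), (.negSucc (nat_lit 1)), (.ofNat (nat_lit 1)), (.ofNat (nat_lit 0))⟩, ⟨(.ofNat (nat_lit 0)), (.ofNat (nat_lit 0)), (.ofNat (nat_lit 2)), (.ofNat (nat_lit 0)), (.ofNat (nat_lit 0)), (.ofNat (nat_lit 0)), (.ofNat (nat_lit 0)), (.ofNat (nat_lit 0))⟩⟩)))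
 (.node (nat_lit 6) (.node (nat_lit 5) (.leaf ⟨⟨(.ofNat (nat_lit 2)), (.ofNat (nat_lit 0)), (.ofNat (nat_lit 0)), (.ofNat (nat_lit 0)), (.ofNat (nat_lit 0)), (.ofNat (nat_lit 0)), (.ofNat (nat_lit 0)), (.ofNat (nat_lit 0))⟩, ⟨(.ofNat (nat_lit 1)), (.ofNat (nat_lit 0)), (.ofNat (nat_lit 1)), (.ofNat (nat_lit 0)), (.negSucc (nat_lit 0)), (.ofNat (nat_lit 0)), (.ofNat (nat_lit 1)), (.negSucc (nat_lit 1))⟩, ⟨(.negSucc (nat_lit 1)), (.ofNat (nat_lit 0)), (.ofNat (nat_lit 0)), (.ofNat (nat_lit 0)), (.ofNat (nat_lit 0)), (.ofNat (nat_lit 0)), (.ofNat (nat_lit 0)), (.ofNat (nat_lit 0))⟩⟩) (.leaf ⟨⟨(.ofNat (nat_lit 2)), (.ofNat (nat_lit 0)), (.ofNat (nat_lit 0)), (.ofNat (nat_lit 0)), (.ofNat (nat_lit 0)), (.ofNat (nat_lit 0)), (.ofNat (nat_lit 0)), (.ofNat (nat_lit 0))⟩, ⟨(.negSucc (nat_lit 0)), (.ofNat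 (nat_lit 0)), (.negSucc (nat_lit 0)), (.ofNat (nat_lit 0)), (.ofNat (nat_lit 1)), (.ofNat (nat_lit 0)), (.negSucc (nat_lit 0)), (.ofNat (nat_lit 2))⟩, ⟨(.ofNat (nat_lit 2)), (.ofNat (nat_lit 0)), (.ofNat (nat_lit 0)), (.ofNat (nat_lit 0)), (.ofNat (nat_lit 0)), (.ofNat (nat_lit 0)), (.ofNat (nat_lit 0)), (.ofNat (nat_lit 0))⟩⟩)) (.node (nat_lit 7) (.leaf ⟨⟨(.ofNat (nat_lit 2)), (.ofNat (nat_lit 0)), (.ofNat (nat_lit 0)), (.ofNat (nat_lit 0)), (.ofNat (nat_lit 0)), (.ofNat (nat_lit 0)), (.ofNat (nat_lit 0)), (.ofNat (nat_lit 0))⟩, ⟨(.ofNat (nat_lit 2)), (.ofNat (nat_lit 0)), (.ofNat (nat_lit 0)), (.ofNat (nat_lit 0)), (.ofNat (nat_lit 0)), (.ofNat (nat_lit 0)), (.ofNat (nat_lit 0)), (.ofNat (nat_lit 0))⟩, ⟨(.ofNat (nat_lit 1)), (.ofNat (nat_lit 0)), (.ofNat (nat_lit 1)), (.ofNat (nat_lit 0)), (.negSucc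 (nat_lit 0)), (.ofNat (nat_lit 0)), (.ofNat (nat_lit 1)), (.negSucc (nat_lit 1))⟩⟩) (.node (nat_lit 8) (.leaf ⟨⟨(.ofNat (nat_lit 2)), (.ofNat (nat_lit 0)), (.ofNat (nat_lit 0)), (.ofNat (nat_lit 0)), (.ofNat (nat_lit 0)), (.ofNat (nat_lit 0)), (.ofNat (nat_lit 0)), (.ofNat (nat_lit 0))⟩, ⟨(.negSucc (nat_lit 1)), (.ofNat (nat_lit 0)), (.ofNat (nat_lit 0)), (.ofNat (nat_lit 0)), (.ofNat (nat_lit 0)), (.ofNat (nat_lit 0)), (.ofNat (nat_lit 0)), (.ofNat (nat_lit 0))⟩, ⟨(.negSucc (nat_lit 0)), (.ofNat (nat_lit 0)), (.negSucc (nat_lit 0)), (.ofNat (nat_lit 0)), (.ofNat (nat_lit 1)), (.ofNat (nat_lit 0)), (.negSucc (nat_lit 0)), (.ofNat (nat_lit 2))⟩⟩) (.leaf ⟨⟨(.ofNat (nat_lit 2)), (.ofNat (nat_lit 0)), (.ofNat (nat_lit 0)), (.ofNat (nat_lit 0)), (.ofNat (nat_lit 0)), (.ofNat (nat_lit 0)), (.ofNat (nat_lit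 0)), (.ofNat (nat_lit 0))⟩, ⟨(.negSucc (nat_lit 0)), (.ofNat (nat_lit 2)), (.negSucc (nat_lit 0)), (.ofNat (nat_lit 0)), (.negSucc (nat_lit 0)), (.ofNat (nat_lit 0)), (.ofNat (nat_lit 1)), (.ofNat (nat_lit 0))⟩, ⟨(.ofNat (nat_lit 0)), (.ofNat (nat_lit 0)), (.ofNat (nat_lit 0)), (.ofNat (nat_lit 0)), (.ofNat (nat_lit 0)), (.ofNat (nat_lit 0)), (.negSucc (nat_lit 1)), (.ofNat (nat_lit 0))⟩⟩)))))
 (.node (nat_lit 14) (.node (nat_lit 11) (.node (nat_lit 10) (.leaf ⟨⟨(.ofNat (nat_lit 2)), (.ofNat (nat_lit 0)), (.ofNat (nat_lit 0)), (.ofNat (nat_lit 0)), (.ofNat (nat_lit 0)), (.ofNat (nat_lit 0)), (.ofNat (nat_lit 0)), (.ofNat (nat_lit 0))⟩, ⟨(.ofNat (nat_lit 1)), (.negSucc (nat_lit 1)), (.ofNat (nat_lit 1)), (.ofNat (nat_lit 0)), (.ofNat (nat_lit 1)), (.ofNat (nat_lit 0)), (.negSucc (nat_lit 0)), (.ofNat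 (nat_lit 0))⟩, ⟨(.ofNat (nat_lit 0)), (.ofNat (nat_lit 0)), (.ofNat (nat_lit 0)), (.ofNat (nat_lit 0)), (.ofNat (nat_lit 0)), (.ofNat (nat_lit 0)), (.ofNat (nat_lit 2)), (.ofNat (nat_lit 0))⟩⟩) (.leaf ⟨⟨(.ofNat (nat_lit 2)), (.ofNat (nat_lit 0)), (.ofNat (nat_lit 0)), (.ofNat (nat_lit 0)), (.ofNat (nat_lit 0)), (.ofNat (nat_lit 0)), (.ofNat (nat_lit 0)), (.ofNat (nat_lit 0))⟩, ⟨(.ofNat (nat_lit 0)), (.ofNat (nat_lit 0)), (.ofNat (nat_lit 0)), (.ofNat (nat_lit 0)), (.ofNat (nat_lit 0)), (.ofNat (nat_lit 0)), (.negSucc (nat_lit 1)), (.ofNat (nat_lit 0))⟩, ⟨(.ofNat (nat_lit 1)), (.negSucc (nat_lit 1)), (.ofNat (nat_lit 1)), (.ofNat (nat_lit 0)), (.ofNat (nat_lit 1)), (.ofNat (nat_lit 0)), (.negSucc (nat_lit 0)), (.ofNat (nat_lit 0))⟩⟩)) (.node (nat_lit 12) (.leaf ⟨⟨(.ofNat (nat_lit 2)), (.ofNat (nat_lit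 0)), (.ofNat (nat_lit 0)), (.ofNat (nat_lit 0)), (.ofNat (nat_lit 0)), (.ofNat (nat_lit 0)), (.ofNat (nat_lit 0)), (.ofNat (nat_lit 0))⟩, ⟨(.ofNat (nat_lit 0)), (.ofNat (nat_lit 0)), (.ofNat (nat_lit 0)), (.ofNat (nat_lit 0)), (.ofNat (nat_lit 0)), (.ofNat (nat_lit 0)), (.ofNat (nat_lit 2)), (.ofNat (nat_lit 0))⟩, ⟨(.negSucc (nat_lit 0)), (.ofNat (nat_lit 2)), (.negSucc (nat_lit 0)), (.ofNat (nat_lit 0)), (.negSucc (nat_lit 0)), (.ofNat (nat_lit 0)), (.ofNat (nat_lit 1)), (.ofNat (nat_lit 0))⟩⟩) (.node (nat_lit 13) (.leaf ⟨⟨(.ofNat (nat_lit 2)), (.ofNat (nat_lit 0)), (.ofNat (nat_lit 0)), (.ofNat (nat_lit 0)), (.ofNat (nat_lit 0)), (.ofNat (nat_lit 0)), (.ofNat (nat_lit 0)), (.ofNat (nat_lit 0))⟩, ⟨(.ofNat (nat_lit 0)), (.ofNat (nat_lit 0)), (.ofNat (nat_lit 0)), (.ofNat (nat_lit 0)), (.ofNat (nat_lit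 2)), (.ofNat (nat_lit 0)), (.ofNat (nat_lit 0)), (.ofNat (nat_lit 0))⟩, ⟨(.negSucc (nat_lit 0)), (.ofNat (nat_lit 0)), (.ofNat (nat_lit 1)), (.negSucc (nat_lit 1)), (.negSucc (nat_lit 0)), (.ofNat (nat_lit 0)), (.negSucc (nat_lit 0)), (.ofNat (nat_lit 0))⟩⟩) (.leaf ⟨⟨(.ofNat (nat_lit 2)), (.ofNat (nat_lit 0)), (.ofNat (nat_lit 0)), (.ofNat (nat_lit 0)), (.ofNat (nat_lit 0)), (.ofNat (nat_lit 0)), (.ofNat (nat_lit 0)), (.ofNat (nat_lit 0))⟩, ⟨(.ofNat (nat_lit 0)), (.ofNat (nat_lit 0)), (.ofNat (nat_lit 0)), (.ofNat (nat_lit 0)), (.negSucc (nat_lit 1)), (.ofNat (nat_lit 0)), (.ofNat (nat_lit 0)), (.ofNat (nat_lit 0))⟩, ⟨(.ofNat (nat_lit 1)), (.ofNat (nat_lit 0)), (.negSucc (nat_lit 0)), (.ofNat (nat_lit 2)), (.ofNat (nat_lit 1)), (.ofNat (nat_lit 0)), (.ofNat (nat_lit 1)), (.ofNat (nat_lit 0))⟩⟩))))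
 (.node (nat_lit 16) (.node (nat_lit 15) (.leaf ⟨⟨(.ofNat (nat_lit 2)), (.ofNat (nat_lit 0)), (.ofNat (nat_lit 0)), (.ofNat (nat_lit 0)), (.ofNat (nat_lit 0)), (.ofNat (nat_lit 0)), (.ofNat (nat_lit 0)), (.ofNat (nat_lit 0))⟩, ⟨(.negSucc (nat_lit 0)), (.ofNat (nat_lit 0)), (.ofNat (nat_lit 1)), (.negSucc (nat_lit 1)), (.negSucc (nat_lit 0)), (.ofNat (nat_lit 0)), (.negSucc (nat_lit 0)), (.ofNat (nat_lit 0))⟩, ⟨(.ofNat (nat_lit 0)), (.ofNat (nat_lit 0)), (.ofNat (nat_lit 0)), (.ofNat (nat_lit 0)), (.negSucc (nat_lit 1)), (.ofNat (nat_lit 0)), (.ofNat (nat_lit 0)), (.ofNat (nat_lit 0))⟩⟩) (.leaf ⟨⟨(.ofNat (nat_lit 2)), (.ofNat (nat_lit 0)), (.ofNat (nat_lit 0)), (.ofNat (nat_lit 0)), (.ofNat (nat_lit 0)), (.ofNat (nat_lit 0)), (.ofNat (nat_lit 0)), (.ofNat (nat_lit 0))⟩, ⟨(.ofNat (nat_lit 1)), (.ofNat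 (nat_lit 0)), (.negSucc (nat_lit 0)), (.ofNat (nat_lit 2)), (.ofNat (nat_lit 1)), (.ofNat (nat_lit 0)), (.ofNat (nat_lit 1)), (.ofNat (nat_lit 0))⟩, ⟨(.ofNat (nat_lit 0)), (.ofNat (nat_lit 0)), (.ofNat (nat_lit 0)), (.ofNat (nat_lit 0)), (.ofNat (nat_lit 2)), (.ofNat (nat_lit 0)), (.ofNat (nat_lit 0)), (.ofNat (nat_lit 0))⟩⟩)) (.node (nat_lit 17) (.leaf ⟨⟨(.negSucc (nat_lit 0)), (.ofNat (nat_lit 1)), (.negSucc (nat_lit 0)), (.ofNat (nat_lit 1)), (.negSucc (nat_lit 0)), (.ofNat (nat_lit 1)), (.negSucc (nat_lit 0)), (.ofNat (nat_lit 1))⟩, ⟨(.ofNat (nat_lit 0)), (.negSucc (nat_lit 0)), (.ofNat (nat_lit 0)), (.ofNat (nat_lit 1)), (.ofNat (nat_lit 0)), (.ofNat (nat_lit 1)), (.ofNat (nat_lit 0)), (.ofNat (nat_lit 1))⟩, ⟨(.ofNat (nat_lit 2)), (.ofNat (nat_lit 0)), (.ofNat (nat_lit 0)), (.ofNat (nat_lit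 0)), (.ofNat (nat_lit 0)), (.ofNat (nat_lit 0)), (.ofNat (nat_lit 0)), (.ofNat (nat_lit 0))⟩⟩) (.node (nat_lit 18) (.leaf ⟨⟨(.ofNat (nat_lit 1)), (.negSucc (nat_lit 0)), (.ofNat (nat_lit 1)), (.negSucc (nat_lit 0)), (.ofNat (nat_lit 1)), (.negSucc (nat_lit 0)), (.ofNat (nat_lit 1)), (.negSucc (nat_lit 0))⟩, ⟨(.ofNat (nat_lit 0)), (.negSucc (nat_lit 0)), (.ofNat (nat_lit 0)), (.ofNat (nat_lit 1)), (.ofNat (nat_lit 0)), (.ofNat (nat_lit 1)), (.ofNat (nat_lit 0)), (.ofNat (nat_lit 1))⟩, ⟨(.ofNat (nat_lit 2)), (.ofNat (nat_lit 0)), (.ofNat (nat_lit 0)), (.ofNat (nat_lit 0)), (.ofNat (nat_lit 0)), (.ofNat (nat_lit 0)), (.ofNat (nat_lit 0)), (.ofNat (nat_lit 0))⟩⟩) (.leaf ⟨⟨(.negSucc (nat_lit 0)), (.ofNat (nat_lit 1)), (.negSucc (nat_lit 0)), (.ofNat (nat_lit 1)), (.negSucc (nat_lit 0)), (.ofNat (nat_lit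 1)), (.negSucc (nat_lit 0)), (.ofNat (nat_lit 1))⟩, ⟨(.ofNat (nat_lit 2)), (.ofNat (nat_lit 0)), (.ofNat (nat_lit 0)), (.ofNat (nat_lit 0)), (.ofNat (nat_lit 0)), (.ofNat (nat_lit 0)), (.ofNat (nat_lit 0)), (.ofNat (nat_lit 0))⟩, ⟨(.ofNat (nat_lit 0)), (.ofNat (nat_lit 1)), (.ofNat (nat_lit 0)), (.negSucc (nat_lit 0)), (.ofNat (nat_lit 0)), (.negSucc (nat_lit 0)), (.ofNat (nat_lit 0)), (.negSucc (nat_lit 0))⟩⟩))))))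
 (.node (nat_lit 29) (.node (nat_lit 24) (.node (nat_lit 21) (.node (nat_lit 20) (.leaf ⟨⟨(.ofNat (nat_lit 1)), (.negSucc (nat_lit 0)), (.ofNat (nat_lit 1)), (.negSucc (nat_lit 0)), (.ofNat (nat_lit 1)), (.negSucc (nat_lit 0)), (.ofNat (nat_lit 1)), (.negSucc (nat_lit 0))⟩, ⟨(.ofNat (nat_lit 2)), (.ofNat (nat_lit 0)), (.ofNat (nat_lit 0)), (.ofNat (nat_lit 0)), (.ofNat (nat_lit 0)), (.ofNat (nat_lit 0)), (.ofNat (nat_lit 0)), (.ofNat (nat_lit 0))⟩, ⟨(.ofNat (nat_lit 0)), (.ofNat (nat_lit 1)), (.ofNat (nat_lit 0)), (.negSucc (nat_lit 0)), (.ofNat (nat_lit 0)), (.negSucc (nat_lit 0)), (.ofNat (nat_lit 0)), (.negSucc (nat_lit 0))⟩⟩) (.leaf ⟨⟨(.negSucc (nat_lit 0)), (.ofNat (nat_lit 1)), (.ofNat (nat_lit 1)), (.negSucc (nat_lit 0)), (.negSucc (nat_lit 0)), (.ofNat (nat_lit 1)), (.ofNat (nat_lit 1)),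 (.negSucc (nat_lit 0))⟩, ⟨(.ofNat (nat_lit 2)), (.ofNat (nat_lit 0)), (.ofNat (nat_lit 0)), (.ofNat (nat_lit 0)), (.ofNat (nat_lit 0)), (.ofNat (nat_lit 0)), (.ofNat (nat_lit 0)), (.ofNat (nat_lit 0))⟩, ⟨(.ofNat (nat_lit 0)), (.negSucc (nat_lit 0)), (.ofNat (nat_lit 0)), (.ofNat (nat_lit 1)), (.ofNat (nat_lit 0)), (.negSucc (nat_lit 0)), (.ofNat (nat_lit 0)), (.negSucc (nat_lit 0))⟩⟩)) (.node (nat_lit 22) (.leaf ⟨⟨(.ofNat (nat_lit 1)), (.negSucc (nat_lit 0)), (.negSucc (nat_lit 0)), (.ofNat (nat_lit 1)), (.ofNat (nat_lit 1)), (.negSucc (nat_lit 0)), (.negSucc (nat_lit 0)), (.ofNat (nat_lit 1))⟩, ⟨(.ofNat (nat_lit 2)), (.ofNat (nat_lit 0)), (.ofNat (nat_lit 0)), (.ofNat (nat_lit 0)), (.ofNat (nat_lit 0)), (.ofNat (nat_lit 0)), (.ofNat (nat_lit 0)), (.ofNat (nat_lit 0))⟩, ⟨(.ofNat (nat_lit 0)), (.negSucc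 (nat_lit 0)), (.ofNat (nat_lit 0)), (.ofNat (nat_lit 1)), (.ofNat (nat_lit 0)), (.negSucc (nat_lit 0)), (.ofNat (nat_lit 0)), (.negSucc (nat_lit 0))⟩⟩) (.node (nat_lit 23) (.leaf ⟨⟨(.ofNat (nat_lit 1)), (.negSucc (nat_lit 0)), (.negSucc (nat_lit 0)), (.ofNat (nat_lit 1)), (.ofNat (nat_lit 1)), (.negSucc (nat_lit 0)), (.negSucc (nat_lit 0)), (.ofNat (nat_lit 1))⟩, ⟨(.ofNat (nat_lit 0)), (.ofNat (nat_lit 1)), (.ofNat (nat_lit 0)), (.negSucc (nat_lit 0)), (.ofNat (nat_lit 0)), (.ofNat (nat_lit 1)), (.ofNat (nat_lit 0)), (.ofNat (nat_lit 1))⟩, ⟨(.ofNat (nat_lit 2)), (.ofNat (nat_lit 0)), (.ofNat (nat_lit 0)), (.ofNat (nat_lit 0)), (.ofNat (nat_lit 0)), (.ofNat (nat_lit 0)), (.ofNat (nat_lit 0)), (.ofNat (nat_lit 0))⟩⟩) (.leaf ⟨⟨(.negSucc (nat_lit 0)), (.ofNat (nat_lit 1)), (.ofNat (nat_lit 1)), (.negSucc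 (nat_lit 0)), (.negSucc (nat_lit 0)), (.ofNat (nat_lit 1)), (.ofNat (nat_lit 1)), (.negSucc (nat_lit 0))⟩, ⟨(.ofNat (nat_lit 0)), (.ofNat (nat_lit 1)), (.ofNat (nat_lit 0)), (.negSucc (nat_lit 0)), (.ofNat (nat_lit 0)), (.ofNat (nat_lit 1)), (.ofNat (nat_lit 0)), (.ofNat (nat_lit 1))⟩, ⟨(.ofNat (nat_lit 2)), (.ofNat (nat_lit 0)), (.ofNat (nat_lit 0)), (.ofNat (nat_lit 0)), (.ofNat (nat_lit 0)), (.ofNat (nat_lit 0)), (.ofNat (nat_lit 0)), (.ofNat (nat_lit 0))⟩⟩))))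
 (.node (nat_lit 26) (.node (nat_lit 25) (.leaf ⟨⟨(.ofNat (nat_lit 1)), (.negSucc (nat_lit 0)), (.negSucc (nat_lit 0)), (.ofNat (nat_lit 1)), (.negSucc (nat_lit 0)), (.ofNat (nat_lit 1)), (.ofNat (nat_lit 1)), (.negSucc (nat_lit 0))⟩, ⟨(.ofNat (nat_lit 2)), (.ofNat (nat_lit 0)), (.ofNat (nat_lit 0)), (.ofNat (nat_lit 0)), (.ofNat (nat_lit 0)), (.ofNat (nat_lit 0)), (.ofNat (nat_lit 0)), (.ofNat (nat_lit 0))⟩, ⟨(.ofNat (nat_lit 0)), (.negSucc (nat_lit 0)), (.ofNat (nat_lit 0)), (.negSucc (nat_lit 0)), (.ofNat (nat_lit 0)), (.ofNat (nat_lit 1)), (.ofNat (nat_lit 0)), (.negSucc (nat_lit 0))⟩⟩) (.leaf ⟨⟨(.negSucc (nat_lit 0)), (.ofNat (nat_lit 1)), (.ofNat (nat_lit 1)), (.negSucc (nat_lit 0)), (.ofNat (nat_lit 1)), (.negSucc (nat_lit 0)), (.negSucc (nat_lit 0)), (.ofNat (nat_lit 1))⟩, ⟨(.ofNat (nat_lit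 2)), (.ofNat (nat_lit 0)), (.ofNat (nat_lit 0)), (.ofNat (nat_lit 0)), (.ofNat (nat_lit 0)), (.ofNat (nat_lit 0)), (.ofNat (nat_lit 0)), (.ofNat (nat_lit 0))⟩, ⟨(.ofNat (nat_lit 0)), (.negSucc (nat_lit 0)), (.ofNat (nat_lit 0)), (.negSucc (nat_lit 0)), (.ofNat (nat_lit 0)), (.ofNat (nat_lit 1)), (.ofNat (nat_lit 0)), (.negSucc (nat_lit 0))⟩⟩)) (.node (nat_lit 27) (.leaf ⟨⟨(.negSucc (nat_lit 0)), (.ofNat (nat_lit 1)), (.ofNat (nat_lit 1)), (.negSucc (nat_lit 0)), (.ofNat (nat_lit 1)), (.negSucc (nat_lit 0)), (.negSucc (nat_lit 0)), (.ofNat (nat_lit 1))⟩, ⟨(.ofNat (nat_lit 0)), (.ofNat (nat_lit 1)), (.ofNat (nat_lit 0)), (.ofNat (nat_lit 1)), (.ofNat (nat_lit 0)), (.negSucc (nat_lit 0)), (.ofNat (nat_lit 0)), (.ofNat (nat_lit 1))⟩, ⟨(.ofNat (nat_lit 2)), (.ofNat (nat_lit 0)), (.ofNat (nat_lit 0)),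 (.ofNat (nat_lit 0)), (.ofNat (nat_lit 0)), (.ofNat (nat_lit 0)), (.ofNat (nat_lit 0)), (.ofNat (nat_lit 0))⟩⟩) (.node (nat_lit 28) (.leaf ⟨⟨(.ofNat (nat_lit 1)), (.negSucc (nat_lit 0)), (.negSucc (nat_lit 0)), (.ofNat (nat_lit 1)), (.negSucc (nat_lit 0)), (.ofNat (nat_lit 1)), (.ofNat (nat_lit 1)), (.negSucc (nat_lit 0))⟩, ⟨(.ofNat (nat_lit 0)), (.ofNat (nat_lit 1)), (.ofNat (nat_lit 0)), (.ofNat (nat_lit 1)), (.ofNat (nat_lit 0)), (.negSucc (nat_lit 0)), (.ofNat (nat_lit 0)), (.ofNat (nat_lit 1))⟩, ⟨(.ofNat (nat_lit 2)), (.ofNat (nat_lit 0)), (.ofNat (nat_lit 0)), (.ofNat (nat_lit 0)), (.ofNat (nat_lit 0)), (.ofNat (nat_lit 0)), (.ofNat (nat_lit 0)), (.ofNat (nat_lit 0))⟩⟩) (.leaf ⟨⟨(.ofNat (nat_lit 1)), (.negSucc (nat_lit 0)), (.ofNat (nat_lit 1)), (.negSucc (nat_lit 0)), (.negSucc (nat_lit 0)),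 (.ofNat (nat_lit 1)), (.negSucc (nat_lit 0)), (.ofNat (nat_lit 1))⟩, ⟨(.ofNat (nat_lit 0)), (.negSucc (nat_lit 0)), (.ofNat (nat_lit 0)), (.negSucc (nat_lit 0)), (.ofNat (nat_lit 0)), (.negSucc (nat_lit 0)), (.ofNat (nat_lit 0)), (.ofNat (nat_lit 1))⟩, ⟨(.ofNat (nat_lit 2)), (.ofNat (nat_lit 0)), (.ofNat (nat_lit 0)), (.ofNat (nat_lit 0)), (.ofNat (nat_lit 0)), (.ofNat (nat_lit 0)), (.ofNat (nat_lit 0)), (.ofNat (nat_lit 0))⟩⟩)))))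
 (.node (nat_lit 34) (.node (nat_lit 31) (.node (nat_lit 30) (.leaf ⟨⟨(.negSucc (nat_lit 0)), (.ofNat (nat_lit 1)), (.negSucc (nat_lit 0)), (.ofNat (nat_lit 1)), (.ofNat (nat_lit 1)), (.negSucc (nat_lit 0)), (.ofNat (nat_lit 1)), (.negSucc (nat_lit 0))⟩, ⟨(.ofNat (nat_lit 0)), (.negSucc (nat_lit 0)), (.ofNat (nat_lit 0)), (.negSucc (nat_lit 0)), (.ofNat (nat_lit 0)), (.negSucc (nat_lit 0)), (.ofNat (nat_lit 0)), (.ofNat (nat_lit 1))⟩, ⟨(.ofNat (nat_lit 2)), (.ofNat (nat_lit 0)), (.ofNat (nat_lit 0)), (.ofNat (nat_lit 0)), (.ofNat (nat_lit 0)), (.ofNat (nat_lit 0)), (.ofNat (nat_lit 0)), (.ofNat (nat_lit 0))⟩⟩) (.leaf ⟨⟨(.negSucc (nat_lit 0)), (.ofNat (nat_lit 1)), (.negSucc (nat_lit 0)), (.ofNat (nat_lit 1)), (.ofNat (nat_lit 1)), (.negSucc (nat_lit 0)), (.ofNat (nat_lit 1)), (.negSucc (nat_lit 0))⟩,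 ⟨(.ofNat (nat_lit 2)), (.ofNat (nat_lit 0)), (.ofNat (nat_lit 0)), (.ofNat (nat_lit 0)), (.ofNat (nat_lit 0)), (.ofNat (nat_lit 0)), (.ofNat (nat_lit 0)), (.ofNat (nat_lit 0))⟩, ⟨(.ofNat (nat_lit 0)), (.ofNat (nat_lit 1)), (.ofNat (nat_lit 0)), (.ofNat (nat_lit 1)), (.ofNat (nat_lit 0)), (.ofNat (nat_lit 1)), (.ofNat (nat_lit 0)), (.negSucc (nat_lit 0))⟩⟩)) (.node (nat_lit 32) (.leaf ⟨⟨(.ofNat (nat_lit 1)), (.negSucc (nat_lit 0)), (.ofNat (nat_lit 1)), (.negSucc (nat_lit 0)), (.negSucc (nat_lit 0)), (.ofNat (nat_lit 1)), (.negSucc (nat_lit 0)), (.ofNat (nat_lit 1))⟩, ⟨(.ofNat (nat_lit 2)), (.ofNat (nat_lit 0)), (.ofNat (nat_lit 0)), (.ofNat (nat_lit 0)), (.ofNat (nat_lit 0)), (.ofNat (nat_lit 0)), (.ofNat (nat_lit 0)), (.ofNat (nat_lit 0))⟩, ⟨(.ofNat (nat_lit 0)), (.ofNat (nat_lit 1)), (.ofNat (nat_lit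 0)), (.ofNat (nat_lit 1)), (.ofNat (nat_lit 0)), (.ofNat (nat_lit 1)), (.ofNat (nat_lit 0)), (.negSucc (nat_lit 0))⟩⟩) (.node (nat_lit 33) (.leaf ⟨⟨(.ofNat (nat_lit 0)), (.ofNat (nat_lit 1)), (.ofNat (nat_lit 0)), (.negSucc (nat_lit 0)), (.ofNat (nat_lit 0)), (.negSucc (nat_lit 0)), (.ofNat (nat_lit 0)), (.negSucc (nat_lit 0))⟩, ⟨(.ofNat (nat_lit 2)), (.ofNat (nat_lit 0)), (.ofNat (nat_lit 0)), (.ofNat (nat_lit 0)), (.ofNat (nat_lit 0)), (.ofNat (nat_lit 0)), (.ofNat (nat_lit 0)), (.ofNat (nat_lit 0))⟩, ⟨(.ofNat (nat_lit 1)), (.negSucc (nat_lit 0)), (.ofNat (nat_lit 1)), (.negSucc (nat_lit 0)), (.ofNat (nat_lit 1)), (.negSucc (nat_lit 0)), (.ofNat (nat_lit 1)), (.negSucc (nat_lit 0))⟩⟩) (.leaf ⟨⟨(.ofNat (nat_lit 0)), (.negSucc (nat_lit 0)), (.ofNat (nat_lit 0)), (.ofNat (nat_lit 1)), (.ofNat (nat_lit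 0)), (.ofNat (nat_lit 1)), (.ofNat (nat_lit 0)), (.ofNat (nat_lit 1))⟩, ⟨(.ofNat (nat_lit 2)), (.ofNat (nat_lit 0)), (.ofNat (nat_lit 0)), (.ofNat (nat_lit 0)), (.ofNat (nat_lit 0)), (.ofNat (nat_lit 0)), (.ofNat (nat_lit 0)), (.ofNat (nat_lit 0))⟩, ⟨(.ofNat (nat_lit 1)), (.negSucc (nat_lit 0)), (.ofNat (nat_lit 1)), (.negSucc (nat_lit 0)), (.ofNat (nat_lit 1)), (.negSucc (nat_lit 0)), (.ofNat (nat_lit 1)), (.negSucc (nat_lit 0))⟩⟩))))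
 (.node (nat_lit 36) (.node (nat_lit 35) (.leaf ⟨⟨(.ofNat (nat_lit 0)), (.negSucc (nat_lit 0)), (.ofNat (nat_lit 0)), (.ofNat (nat_lit 1)), (.ofNat (nat_lit 0)), (.ofNat (nat_lit 1)), (.ofNat (nat_lit 0)), (.ofNat (nat_lit 1))⟩, ⟨(.negSucc (nat_lit 0)), (.ofNat (nat_lit 1)), (.negSucc (nat_lit 0)), (.ofNat (nat_lit 1)), (.negSucc (nat_lit 0)), (.ofNat (nat_lit 1)), (.negSucc (nat_lit 0)), (.ofNat (nat_lit 1))⟩, ⟨(.ofNat (nat_lit 2)), (.ofNat (nat_lit 0)), (.ofNat (nat_lit 0)), (.ofNat (nat_lit 0)), (.ofNat (nat_lit 0)), (.ofNat (nat_lit 0)), (.ofNat (nat_lit 0)), (.ofNat (nat_lit 0))⟩⟩) (.leaf ⟨⟨(.ofNat (nat_lit 0)), (.ofNat (nat_lit 1)), (.ofNat (nat_lit 0)), (.negSucc (nat_lit 0)), (.ofNat (nat_lit 0)), (.negSucc (nat_lit 0)), (.ofNat (nat_lit 0)), (.negSucc (nat_lit 0))⟩, ⟨(.negSucc (nat_lit 0)),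 (.ofNat (nat_lit 1)), (.negSucc (nat_lit 0)), (.ofNat (nat_lit 1)), (.negSucc (nat_lit 0)), (.ofNat (nat_lit 1)), (.negSucc (nat_lit 0)), (.ofNat (nat_lit 1))⟩, ⟨(.ofNat (nat_lit 2)), (.ofNat (nat_lit 0)), (.ofNat (nat_lit 0)), (.ofNat (nat_lit 0)), (.ofNat (nat_lit 0)), (.ofNat (nat_lit 0)), (.ofNat (nat_lit 0)), (.ofNat (nat_lit 0))⟩⟩)) (.node (nat_lit 37) (.leaf ⟨⟨(.ofNat (nat_lit 0)), (.negSucc (nat_lit 0)), (.ofNat (nat_lit 0)), (.negSucc (nat_lit 0)), (.ofNat (nat_lit 0)), (.negSucc (nat_lit 0)), (.ofNat (nat_lit 0)), (.ofNat (nat_lit 1))⟩, ⟨(.ofNat (nat_lit 1)), (.negSucc (nat_lit 0)), (.ofNat (nat_lit 1)), (.negSucc (nat_lit 0)), (.negSucc (nat_lit 0)), (.ofNat (nat_lit 1)), (.negSucc (nat_lit 0)), (.ofNat (nat_lit 1))⟩, ⟨(.ofNat (nat_lit 2)), (.ofNat (nat_lit 0)), (.ofNat (nat_lit 0)), (.ofNat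 (nat_lit 0)), (.ofNat (nat_lit 0)), (.ofNat (nat_lit 0)), (.ofNat (nat_lit 0)), (.ofNat (nat_lit 0))⟩⟩) (.node (nat_lit 38) (.leaf ⟨⟨(.ofNat (nat_lit 0)), (.ofNat (nat_lit 1)), (.ofNat (nat_lit 0)), (.ofNat (nat_lit 1)), (.ofNat (nat_lit 0)), (.ofNat (nat_lit 1)), (.ofNat (nat_lit 0)), (.negSucc (nat_lit 0))⟩, ⟨(.ofNat (nat_lit 1)), (.negSucc (nat_lit 0)), (.ofNat (nat_lit 1)), (.negSucc (nat_lit 0)), (.negSucc (nat_lit 0)), (.ofNat (nat_lit 1)), (.negSucc (nat_lit 0)), (.ofNat (nat_lit 1))⟩, ⟨(.ofNat (nat_lit 2)), (.ofNat (nat_lit 0)), (.ofNat (nat_lit 0)), (.ofNat (nat_lit 0)), (.ofNat (nat_lit 0)), (.ofNat (nat_lit 0)), (.ofNat (nat_lit 0)), (.ofNat (nat_lit 0))⟩⟩) (.leaf ⟨⟨(.ofNat (nat_lit 0)), (.negSucc (nat_lit 0)), (.ofNat (nat_lit 0)), (.negSucc (nat_lit 0)), (.ofNat (nat_lit 0)), (.negSucc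 (nat_lit 0)), (.ofNat (nat_lit 0)), (.ofNat (nat_lit 1))⟩, ⟨(.ofNat (nat_lit 2)), (.ofNat (nat_lit 0)), (.ofNat (nat_lit 0)), (.ofNat (nat_lit 0)), (.ofNat (nat_lit 0)), (.ofNat (nat_lit 0)), (.ofNat (nat_lit 0)), (.ofNat (nat_lit 0))⟩, ⟨(.negSucc (nat_lit 0)), (.ofNat (nat_lit 1)), (.negSucc (nat_lit 0)), (.ofNat (nat_lit 1)), (.ofNat (nat_lit 1)), (.negSucc (nat_lit 0)), (.ofNat (nat_lit 1)), (.negSucc (nat_lit 0))⟩⟩)))))))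
 (.node (nat_lit 58) (.node (nat_lit 48) (.node (nat_lit 43) (.node (nat_lit 41) (.node (nat_lit 40) (.leaf ⟨⟨(.ofNat (nat_lit 0)), (.ofNat (nat_lit 1)), (.ofNat (nat_lit 0)), (.ofNat (nat_lit 1)), (.ofNat (nat_lit 0)), (.ofNat (nat_lit 1)), (.ofNat (nat_lit 0)), (.negSucc (nat_lit 0))⟩, ⟨(.ofNat (nat_lit 2)), (.ofNat (nat_lit 0)), (.ofNat (nat_lit 0)), (.ofNat (nat_lit 0)), (.ofNat (nat_lit 0)), (.ofNat (nat_lit 0)), (.ofNat (nat_lit 0)), (.ofNat (nat_lit 0))⟩, ⟨(.negSucc (nat_lit 0)), (.ofNat (nat_lit 1)), (.negSucc (nat_lit 0)), (.ofNat (nat_lit 1)), (.ofNat (nat_lit 1)), (.negSucc (nat_lit 0)), (.ofNat (nat_lit 1)), (.negSucc (nat_lit 0))⟩⟩) (.leaf ⟨⟨(.ofNat (nat_lit 0)), (.ofNat (nat_lit 1)), (.ofNat (nat_lit 0)), (.negSucc (nat_lit 0)), (.ofNat (nat_lit 0)), (.ofNat (nat_lit 1)), (.ofNat (nat_lit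 0)), (.ofNat (nat_lit 1))⟩, ⟨(.ofNat (nat_lit 1)), (.negSucc (nat_lit 0)), (.negSucc (nat_lit 0)), (.ofNat (nat_lit 1)), (.ofNat (nat_lit 1)), (.negSucc (nat_lit 0)), (.negSucc (nat_lit 0)), (.ofNat (nat_lit 1))⟩, ⟨(.ofNat (nat_lit 2)), (.ofNat (nat_lit 0)), (.ofNat (nat_lit 0)), (.ofNat (nat_lit 0)), (.ofNat (nat_lit 0)), (.ofNat (nat_lit 0)), (.ofNat (nat_lit 0)), (.ofNat (nat_lit 0))⟩⟩)) (.node (nat_lit 42) (.leaf ⟨⟨(.ofNat (nat_lit 0)), (.negSucc (nat_lit 0)), (.ofNat (nat_lit 0)), (.ofNat (nat_lit 1)), (.ofNat (nat_lit 0)), (.negSucc (nat_lit 0)), (.ofNat (nat_lit 0)), (.negSucc (nat_lit 0))⟩, ⟨(.ofNat (nat_lit 1)), (.negSucc (nat_lit 0)), (.negSucc (nat_lit 0)), (.ofNat (nat_lit 1)), (.ofNat (nat_lit 1)), (.negSucc (nat_lit 0)), (.negSucc (nat_lit 0)), (.ofNat (nat_lit 1))⟩, ⟨(.ofNat (nat_lit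 2)), (.ofNat (nat_lit 0)), (.ofNat (nat_lit 0)), (.ofNat (nat_lit 0)), (.ofNat (nat_lit 0)), (.ofNat (nat_lit 0)), (.ofNat (nat_lit 0)), (.ofNat (nat_lit 0))⟩⟩) (.leaf ⟨⟨(.ofNat (nat_lit 0)), (.ofNat (nat_lit 1)), (.ofNat (nat_lit 0)), (.negSucc (nat_lit 0)), (.ofNat (nat_lit 0)), (.ofNat (nat_lit 1)), (.ofNat (nat_lit 0)), (.ofNat (nat_lit 1))⟩, ⟨(.ofNat (nat_lit 2)), (.ofNat (nat_lit 0)), (.ofNat (nat_lit 0)), (.ofNat (nat_lit 0)), (.ofNat (nat_lit 0)), (.ofNat (nat_lit 0)), (.ofNat (nat_lit 0)), (.ofNat (nat_lit 0))⟩, ⟨(.negSucc (nat_lit 0)), (.ofNat (nat_lit 1)), (.ofNat (nat_lit 1)), (.negSucc (nat_lit 0)), (.negSucc (nat_lit 0)), (.ofNat (nat_lit 1)), (.ofNat (nat_lit 1)), (.negSucc (nat_lit 0))⟩⟩)))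
 (.node (nat_lit 45) (.node (nat_lit 44) (.leaf ⟨⟨(.ofNat (nat_lit 0)), (.negSucc (nat_lit 0)), (.ofNat (nat_lit 0)), (.ofNat (nat_lit 1)), (.ofNat (nat_lit 0)), (.negSucc (nat_lit 0)), (.ofNat (nat_lit 0)), (.negSucc (nat_lit 0))⟩, ⟨(.ofNat (nat_lit 2)), (.ofNat (nat_lit 0)), (.ofNat (nat_lit 0)), (.ofNat (nat_lit 0)), (.ofNat (nat_lit 0)), (.ofNat (nat_lit 0)), (.ofNat (nat_lit 0)), (.ofNat (nat_lit 0))⟩, ⟨(.negSucc (nat_lit 0)), (.ofNat (nat_lit 1)), (.ofNat (nat_lit 1)), (.negSucc (nat_lit 0)), (.negSucc (nat_lit 0)), (.ofNat (nat_lit 1)), (.ofNat (nat_lit 1)), (.negSucc (nat_lit 0))⟩⟩) (.leaf ⟨⟨(.ofNat (nat_lit 0)), (.ofNat (nat_lit 1)), (.ofNat (nat_lit 0)), (.ofNat (nat_lit 1)), (.ofNat (nat_lit 0)), (.negSucc (nat_lit 0)), (.ofNat (nat_lit 0)), (.ofNat (nat_lit 1))⟩, ⟨(.ofNat (nat_lit 2)),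 (.ofNat (nat_lit 0)), (.ofNat (nat_lit 0)), (.ofNat (nat_lit 0)), (.ofNat (nat_lit 0)), (.ofNat (nat_lit 0)), (.ofNat (nat_lit 0)), (.ofNat (nat_lit 0))⟩, ⟨(.ofNat (nat_lit 1)), (.negSucc (nat_lit 0)), (.negSucc (nat_lit 0)), (.ofNat (nat_lit 1)), (.negSucc (nat_lit 0)), (.ofNat (nat_lit 1)), (.ofNat (nat_lit 1)), (.negSucc (nat_lit 0))⟩⟩)) (.node (nat_lit 46) (.leaf ⟨⟨(.ofNat (nat_lit 0)), (.negSucc (nat_lit 0)), (.ofNat (nat_lit 0)), (.negSucc (nat_lit 0)), (.ofNat (nat_lit 0)), (.ofNat (nat_lit 1)), (.ofNat (nat_lit 0)), (.negSucc (nat_lit 0))⟩, ⟨(.ofNat (nat_lit 2)), (.ofNat (nat_lit 0)), (.ofNat (nat_lit 0)), (.ofNat (nat_lit 0)), (.ofNat (nat_lit 0)), (.ofNat (nat_lit 0)), (.ofNat (nat_lit 0)), (.ofNat (nat_lit 0))⟩, ⟨(.ofNat (nat_lit 1)), (.negSucc (nat_lit 0)), (.negSucc (nat_lit 0)), (.ofNat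 (nat_lit 1)), (.negSucc (nat_lit 0)), (.ofNat (nat_lit 1)), (.ofNat (nat_lit 1)), (.negSucc (nat_lit 0))⟩⟩) (.node (nat_lit 47) (.leaf ⟨⟨(.ofNat (nat_lit 0)), (.ofNat (nat_lit 1)), (.ofNat (nat_lit 0)), (.ofNat (nat_lit 1)), (.ofNat (nat_lit 0)), (.negSucc (nat_lit 0)), (.ofNat (nat_lit 0)), (.ofNat (nat_lit 1))⟩, ⟨(.negSucc (nat_lit 0)), (.ofNat (nat_lit 1)), (.ofNat (nat_lit 1)), (.negSucc (nat_lit 0)), (.ofNat (nat_lit 1)), (.negSucc (nat_lit 0)), (.negSucc (nat_lit 0)), (.ofNat (nat_lit 1))⟩, ⟨(.ofNat (nat_lit 2)), (.ofNat (nat_lit 0)), (.ofNat (nat_lit 0)), (.ofNat (nat_lit 0)), (.ofNat (nat_lit 0)), (.ofNat (nat_lit 0)), (.ofNat (nat_lit 0)), (.ofNat (nat_lit 0))⟩⟩) (.leaf ⟨⟨(.ofNat (nat_lit 0)), (.negSucc (nat_lit 0)), (.ofNat (nat_lit 0)), (.negSucc (nat_lit 0)), (.ofNat (nat_lit 0)), (.ofNat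 (nat_lit 1)), (.ofNat (nat_lit 0)), (.negSucc (nat_lit 0))⟩, ⟨(.negSucc (nat_lit 0)), (.ofNat (nat_lit 1)), (.ofNat (nat_lit 1)), (.negSucc (nat_lit 0)), (.ofNat (nat_lit 1)), (.negSucc (nat_lit 0)), (.negSucc (nat_lit 0)), (.ofNat (nat_lit 1))⟩, ⟨(.ofNat (nat_lit 2)), (.ofNat (nat_lit 0)), (.ofNat (nat_lit 0)), (.ofNat (nat_lit 0)), (.ofNat (nat_lit 0)), (.ofNat (nat_lit 0)), (.ofNat (nat_lit 0)), (.ofNat (nat_lit 0))⟩⟩)))))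
 (.node (nat_lit 53) (.node (nat_lit 50) (.node (nat_lit 49) (.leaf ⟨⟨(.ofNat (nat_lit 0)), (.ofNat (nat_lit 0)), (.ofNat (nat_lit 0)), (.ofNat (nat_lit 0)), (.ofNat (nat_lit 0)), (.ofNat (nat_lit 0)), (.ofNat (nat_lit 0)), (.ofNat (nat_lit 0))⟩, ⟨(.ofNat (nat_lit 1)), (.negSucc (nat_lit 1)), (.ofNat (nat_lit 1)), (.ofNat (nat_lit 0)), (.ofNat (nat_lit 1)), (.ofNat (nat_lit 0)), (.ofNat (nat_lit 1)), (.ofNat (nat_lit 0))⟩, ⟨(.ofNat (nat_lit 1)), (.ofNat (nat_lit 0)), (.negSucc (nat_lit 0)), (.ofNat (nat_lit 0)), (.ofNat (nat_lit 1)), (.ofNat (nat_lit 0)), (.negSucc (nat_lit 0)), (.ofNat (nat_lit 2))⟩⟩) (.leaf ⟨⟨(.negSucc (nat_lit 0)), (.ofNat (nat_lit 2)), (.negSucc (nat_lit 0)), (.ofNat (nat_lit 0)), (.negSucc (nat_lit 0)), (.ofNat (nat_lit 0)), (.ofNat (nat_lit 1)), (.ofNat (nat_lit 0))⟩, ⟨(.ofNat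 (nat_lit 2)), (.ofNat (nat_lit 0)), (.ofNat (nat_lit 0)), (.ofNat (nat_lit 0)), (.ofNat (nat_lit 0)), (.ofNat (nat_lit 0)), (.ofNat (nat_lit 0)), (.ofNat (nat_lit 0))⟩, ⟨(.ofNat (nat_lit 0)), (.ofNat (nat_lit 0)), (.ofNat (nat_lit 0)), (.ofNat (nat_lit 0)), (.ofNat (nat_lit 0)), (.ofNat (nat_lit 0)), (.negSucc (nat_lit 1)), (.ofNat (nat_lit 0))⟩⟩)) (.node (nat_lit 51) (.leaf ⟨⟨(.ofNat (nat_lit 1)), (.ofNat (nat_lit 0)), (.negSucc (nat_lit 0)), (.ofNat (nat_lit 2)), (.negSucc (nat_lit 0)), (.ofNat (nat_lit 0)), (.negSucc (nat_lit 0)), (.ofNat (nat_lit 0))⟩, ⟨(.ofNat (nat_lit 2)), (.ofNat (nat_lit 0)), (.ofNat (nat_lit 0)), (.ofNat (nat_lit 0)), (.ofNat (nat_lit 0)), (.ofNat (nat_lit 0)), (.ofNat (nat_lit 0)), (.ofNat (nat_lit 0))⟩, ⟨(.ofNat (nat_lit 0)), (.ofNat (nat_lit 0)), (.ofNat (nat_lit 0)),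 (.ofNat (nat_lit 0)), (.ofNat (nat_lit 0)), (.ofNat (nat_lit 0)), (.negSucc (nat_lit 1)), (.ofNat (nat_lit 0))⟩⟩) (.node (nat_lit 52) (.leaf ⟨⟨(.ofNat (nat_lit 1)), (.ofNat (nat_lit 0)), (.ofNat (nat_lit 1)), (.ofNat (nat_lit 0)), (.negSucc (nat_lit 0)), (.ofNat (nat_lit 2)), (.ofNat (nat_lit 1)), (.ofNat (nat_lit 0))⟩, ⟨(.ofNat (nat_lit 2)), (.ofNat (nat_lit 0)), (.ofNat (nat_lit 0)), (.ofNat (nat_lit 0)), (.ofNat (nat_lit 0)), (.ofNat (nat_lit 0)), (.ofNat (nat_lit 0)), (.ofNat (nat_lit 0))⟩, ⟨(.ofNat (nat_lit 0)), (.ofNat (nat_lit 0)), (.ofNat (nat_lit 0)), (.ofNat (nat_lit 0)), (.ofNat (nat_lit 0)), (.ofNat (nat_lit 0)), (.negSucc (nat_lit 1)), (.ofNat (nat_lit 0))⟩⟩) (.leaf ⟨⟨(.ofNat (nat_lit 1)), (.ofNat (nat_lit 0)), (.negSucc (nat_lit 0)), (.ofNat (nat_lit 0)), (.ofNat (nat_lit 1)), (.ofNat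 (nat_lit 0)), (.ofNat (nat_lit 1)), (.negSucc (nat_lit 1))⟩, ⟨(.ofNat (nat_lit 2)), (.ofNat (nat_lit 0)), (.ofNat (nat_lit 0)), (.ofNat (nat_lit 0)), (.ofNat (nat_lit 0)), (.ofNat (nat_lit 0)), (.ofNat (nat_lit 0)), (.ofNat (nat_lit 0))⟩, ⟨(.ofNat (nat_lit 0)), (.ofNat (nat_lit 0)), (.ofNat (nat_lit 0)), (.ofNat (nat_lit 0)), (.ofNat (nat_lit 0)), (.ofNat (nat_lit 0)), (.negSucc (nat_lit 1)), (.ofNat (nat_lit 0))⟩⟩))))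
 (.node (nat_lit 55) (.node (nat_lit 54) (.leaf ⟨⟨(.negSucc (nat_lit 0)), (.ofNat (nat_lit 0)), (.ofNat (nat_lit 1)), (.ofNat (nat_lit 0)), (.negSucc (nat_lit 0)), (.ofNat (nat_lit 0)), (.negSucc (nat_lit 0)), (.ofNat (nat_lit 2))⟩, ⟨(.ofNat (nat_lit 2)), (.ofNat (nat_lit 0)), (.ofNat (nat_lit 0)), (.ofNat (nat_lit 0)), (.ofNat (nat_lit 0)), (.ofNat (nat_lit 0)), (.ofNat (nat_lit 0)), (.ofNat (nat_lit 0))⟩, ⟨(.ofNat (nat_lit 0)), (.ofNat (nat_lit 0)), (.ofNat (nat_lit 0)), (.ofNat (nat_lit 0)), (.ofNat (nat_lit 0)), (.ofNat (nat_lit 0)), (.negSucc (nat_lit 1)), (.ofNat (nat_lit 0))⟩⟩) (.leaf ⟨⟨(.negSucc (nat_lit 0)), (.ofNat (nat_lit 0)), (.negSucc (nat_lit 0)), (.ofNat (nat_lit 0)), (.ofNat (nat_lit 1)), (.negSucc (nat_lit 1)), (.negSucc (nat_lit 0)), (.ofNat (nat_lit 0))⟩, ⟨(.ofNat (nat_lit 2)),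 (.ofNat (nat_lit 0)), (.ofNat (nat_lit 0)), (.ofNat (nat_lit 0)), (.ofNat (nat_lit 0)), (.ofNat (nat_lit 0)), (.ofNat (nat_lit 0)), (.ofNat (nat_lit 0))⟩, ⟨(.ofNat (nat_lit 0)), (.ofNat (nat_lit 0)), (.ofNat (nat_lit 0)), (.ofNat (nat_lit 0)), (.ofNat (nat_lit 0)), (.ofNat (nat_lit 0)), (.negSucc (nat_lit 1)), (.ofNat (nat_lit 0))⟩⟩)) (.node (nat_lit 56) (.leaf ⟨⟨(.negSucc (nat_lit 0)), (.ofNat (nat_lit 0)), (.ofNat (nat_lit 1)), (.negSucc (nat_lit 1)), (.ofNat (nat_lit 1)), (.ofNat (nat_lit 0)), (.ofNat (nat_lit 1)), (.ofNat (nat_lit 0))⟩, ⟨(.ofNat (nat_lit 2)), (.ofNat (nat_lit 0)), (.ofNat (nat_lit 0)), (.ofNat (nat_lit 0)), (.ofNat (nat_lit 0)), (.ofNat (nat_lit 0)), (.ofNat (nat_lit 0)), (.ofNat (nat_lit 0))⟩, ⟨(.ofNat (nat_lit 0)), (.ofNat (nat_lit 0)), (.ofNat (nat_lit 0)), (.ofNat (nat_lit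 0)), (.ofNat (nat_lit 0)), (.ofNat (nat_lit 0)), (.negSucc (nat_lit 1)), (.ofNat (nat_lit 0))⟩⟩) (.node (nat_lit 57) (.leaf ⟨⟨(.ofNat (nat_lit 1)), (.negSucc (nat_lit 1)), (.ofNat (nat_lit 1)), (.ofNat (nat_lit 0)), (.ofNat (nat_lit 1)), (.ofNat (nat_lit 0)), (.negSucc (nat_lit 0)), (.ofNat (nat_lit 0))⟩, ⟨(.ofNat (nat_lit 2)), (.ofNat (nat_lit 0)), (.ofNat (nat_lit 0)), (.ofNat (nat_lit 0)), (.ofNat (nat_lit 0)), (.ofNat (nat_lit 0)), (.ofNat (nat_lit 0)), (.ofNat (nat_lit 0))⟩, ⟨(.ofNat (nat_lit 0)), (.ofNat (nat_lit 0)), (.ofNat (nat_lit 0)), (.ofNat (nat_lit 0)), (.ofNat (nat_lit 0)), (.ofNat (nat_lit 0)), (.negSucc (nat_lit 1)), (.ofNat (nat_lit 0))⟩⟩) (.leaf ⟨⟨(.ofNat (nat_lit 2)), (.ofNat (nat_lit 0)), (.ofNat (nat_lit 0)), (.ofNat (nat_lit 0)), (.ofNat (nat_lit 0)), (.ofNat (nat_lit 0)),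 (.ofNat (nat_lit 0)), (.ofNat (nat_lit 0))⟩, ⟨(.ofNat (nat_lit 0)), (.ofNat (nat_lit 0)), (.ofNat (nat_lit 0)), (.ofNat (nat_lit 0)), (.ofNat (nat_lit 0)), (.ofNat (nat_lit 0)), (.ofNat (nat_lit 2)), (.ofNat (nat_lit 0))⟩, ⟨(.ofNat (nat_lit 1)), (.ofNat (nat_lit 0)), (.negSucc (nat_lit 0)), (.ofNat (nat_lit 2)), (.negSucc (nat_lit 0)), (.ofNat (nat_lit 0)), (.negSucc (nat_lit 0)), (.ofNat (nat_lit 0))⟩⟩))))))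
 (.node (nat_lit 68) (.node (nat_lit 63) (.node (nat_lit 60) (.node (nat_lit 59) (.leaf ⟨⟨(.ofNat (nat_lit 2)), (.ofNat (nat_lit 0)), (.ofNat (nat_lit 0)), (.ofNat (nat_lit 0)), (.ofNat (nat_lit 0)), (.ofNat (nat_lit 0)), (.ofNat (nat_lit 0)), (.ofNat (nat_lit 0))⟩, ⟨(.ofNat (nat_lit 0)), (.ofNat (nat_lit 0)), (.ofNat (nat_lit 0)), (.ofNat (nat_lit 0)), (.ofNat (nat_lit 0)), (.ofNat (nat_lit 0)), (.negSucc (nat_lit 1)), (.ofNat (nat_lit 0))⟩, ⟨(.negSucc (nat_lit 0)), (.ofNat (nat_lit 0)), (.ofNat (nat_lit 1)), (.negSucc (nat_lit 1)), (.ofNat (nat_lit 1)), (.ofNat (nat_lit 0)), (.ofNat (nat_lit 1)), (.ofNat (nat_lit 0))⟩⟩) (.leaf ⟨⟨(.ofNat (nat_lit 2)), (.ofNat (nat_lit 0)), (.ofNat (nat_lit 0)), (.ofNat (nat_lit 0)), (.ofNat (nat_lit 0)), (.ofNat (nat_lit 0)), (.ofNat (nat_lit 0)), (.ofNat (nat_lit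 0))⟩, ⟨(.ofNat (nat_lit 1)), (.ofNat (nat_lit 0)), (.negSucc (nat_lit 0)), (.ofNat (nat_lit 2)), (.negSucc (nat_lit 0)), (.ofNat (nat_lit 0)), (.negSucc (nat_lit 0)), (.ofNat (nat_lit 0))⟩, ⟨(.ofNat (nat_lit 0)), (.ofNat (nat_lit 0)), (.ofNat (nat_lit 0)), (.ofNat (nat_lit 0)), (.ofNat (nat_lit 0)), (.ofNat (nat_lit 0)), (.negSucc (nat_lit 1)), (.ofNat (nat_lit 0))⟩⟩)) (.node (nat_lit 61) (.leaf ⟨⟨(.ofNat (nat_lit 2)), (.ofNat (nat_lit 0)), (.ofNat (nat_lit 0)), (.ofNat (nat_lit 0)), (.ofNat (nat_lit 0)), (.ofNat (nat_lit 0)), (.ofNat (nat_lit 0)), (.ofNat (nat_lit 0))⟩, ⟨(.negSucc (nat_lit 0)), (.ofNat (nat_lit 0)), (.ofNat (nat_lit 1)), (.negSucc (nat_lit 1)), (.ofNat (nat_lit 1)), (.ofNat (nat_lit 0)), (.ofNat (nat_lit 1)), (.ofNat (nat_lit 0))⟩, ⟨(.ofNat (nat_lit 0)), (.ofNat (nat_lit 0)), (.ofNat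 (nat_lit 0)), (.ofNat (nat_lit 0)), (.ofNat (nat_lit 0)), (.ofNat (nat_lit 0)), (.ofNat (nat_lit 2)), (.ofNat (nat_lit 0))⟩⟩) (.node (nat_lit 62) (.leaf ⟨⟨(.ofNat (nat_lit 2)), (.ofNat (nat_lit 0)), (.ofNat (nat_lit 0)), (.ofNat (nat_lit 0)), (.ofNat (nat_lit 0)), (.ofNat (nat_lit 0)), (.ofNat (nat_lit 0)), (.ofNat (nat_lit 0))⟩, ⟨(.negSucc (nat_lit 0)), (.ofNat (nat_lit 2)), (.negSucc (nat_lit 0)), (.ofNat (nat_lit 0)), (.ofNat (nat_lit 1)), (.ofNat (nat_lit 0)), (.negSucc (nat_lit 0)), (.ofNat (nat_lit 0))⟩, ⟨(.ofNat (nat_lit 0)), (.ofNat (nat_lit 0)), (.ofNat (nat_lit 0)), (.ofNat (nat_lit 0)), (.negSucc (nat_lit 1)), (.ofNat (nat_lit 0)), (.ofNat (nat_lit 0)), (.ofNat (nat_lit 0))⟩⟩) (.leaf ⟨⟨(.ofNat (nat_lit 2)), (.ofNat (nat_lit 0)), (.ofNat (nat_lit 0)), (.ofNat (nat_lit 0)), (.ofNat (nat_lit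 0)), (.ofNat (nat_lit 0)), (.ofNat (nat_lit 0)), (.ofNat (nat_lit 0))⟩, ⟨(.ofNat (nat_lit 1)), (.negSucc (nat_lit 1)), (.ofNat (nat_lit 1)), (.ofNat (nat_lit 0)), (.negSucc (nat_lit 0)), (.ofNat (nat_lit 0)), (.ofNat (nat_lit 1)), (.ofNat (nat_lit 0))⟩, ⟨(.ofNat (nat_lit 0)), (.ofNat (nat_lit 0)), (.ofNat (nat_lit 0)), (.ofNat (nat_lit 0)), (.ofNat (nat_lit 2)), (.ofNat (nat_lit 0)), (.ofNat (nat_lit 0)), (.ofNat (nat_lit 0))⟩⟩))))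
 (.node (nat_lit 65) (.node (nat_lit 64) (.leaf ⟨⟨(.ofNat (nat_lit 2)), (.ofNat (nat_lit 0)), (.ofNat (nat_lit 0)), (.ofNat (nat_lit 0)), (.ofNat (nat_lit 0)), (.ofNat (nat_lit 0)), (.ofNat (nat_lit 0)), (.ofNat (nat_lit 0))⟩, ⟨(.ofNat (nat_lit 0)), (.ofNat (nat_lit 0)), (.ofNat (nat_lit 0)), (.ofNat (nat_lit 0)), (.ofNat (nat_lit 2)), (.ofNat (nat_lit 0)), (.ofNat (nat_lit 0)), (.ofNat (nat_lit 0))⟩, ⟨(.negSucc (nat_lit 0)), (.ofNat (nat_lit 2)), (.negSucc (nat_lit 0)), (.ofNat (nat_lit 0)), (.ofNat (nat_lit 1)), (.ofNat (nat_lit 0)), (.negSucc (nat_lit 0)), (.ofNat (nat_lit 0))⟩⟩) (.leaf ⟨⟨(.ofNat (nat_lit 2)), (.ofNat (nat_lit 0)), (.ofNat (nat_lit 0)), (.ofNat (nat_lit 0)), (.ofNat (nat_lit 0)), (.ofNat (nat_lit 0)), (.ofNat (nat_lit 0)), (.ofNat (nat_lit 0))⟩, ⟨(.ofNat (nat_lit 0)), (.ofNat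 (nat_lit 0)), (.ofNat (nat_lit 0)), (.ofNat (nat_lit 0)), (.negSucc (nat_lit 1)), (.ofNat (nat_lit 0)), (.ofNat (nat_lit 0)), (.ofNat (nat_lit 0))⟩, ⟨(.ofNat (nat_lit 1)), (.negSucc (nat_lit 1)), (.ofNat (nat_lit 1)), (.ofNat (nat_lit 0)), (.negSucc (nat_lit 0)), (.ofNat (nat_lit 0)), (.ofNat (nat_lit 1)), (.ofNat (nat_lit 0))⟩⟩)) (.node (nat_lit 66) (.leaf ⟨⟨(.ofNat (nat_lit 2)), (.ofNat (nat_lit 0)), (.ofNat (nat_lit 0)), (.ofNat (nat_lit 0)), (.ofNat (nat_lit 0)), (.ofNat (nat_lit 0)), (.ofNat (nat_lit 0)), (.ofNat (nat_lit 0))⟩, ⟨(.ofNat (nat_lit 0)), (.ofNat (nat_lit 0)), (.ofNat (nat_lit 0)), (.ofNat (nat_lit 0)), (.negSucc (nat_lit 1)), (.ofNat (nat_lit 0)), (.ofNat (nat_lit 0)), (.ofNat (nat_lit 0))⟩, ⟨(.negSucc (nat_lit 0)), (.ofNat (nat_lit 0)), (.ofNat (nat_lit 1)), (.ofNat (nat_lit 0)),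 (.ofNat (nat_lit 1)), (.ofNat (nat_lit 0)), (.ofNat (nat_lit 1)), (.negSucc (nat_lit 1))⟩⟩) (.node (nat_lit 67) (.leaf ⟨⟨(.ofNat (nat_lit 2)), (.ofNat (nat_lit 0)), (.ofNat (nat_lit 0)), (.ofNat (nat_lit 0)), (.ofNat (nat_lit 0)), (.ofNat (nat_lit 0)), (.ofNat (nat_lit 0)), (.ofNat (nat_lit 0))⟩, ⟨(.ofNat (nat_lit 0)), (.ofNat (nat_lit 0)), (.ofNat (nat_lit 0)), (.ofNat (nat_lit 0)), (.ofNat (nat_lit 2)), (.ofNat (nat_lit 0)), (.ofNat (nat_lit 0)), (.ofNat (nat_lit 0))⟩, ⟨(.ofNat (nat_lit 1)), (.ofNat (nat_lit 0)), (.negSucc (nat_lit 0)), (.ofNat (nat_lit 0)), (.negSucc (nat_lit 0)), (.ofNat (nat_lit 0)), (.negSucc (nat_lit 0)), (.ofNat (nat_lit 2))⟩⟩) (.leaf ⟨⟨(.ofNat (nat_lit 2)), (.ofNat (nat_lit 0)), (.ofNat (nat_lit 0)), (.ofNat (nat_lit 0)), (.ofNat (nat_lit 0)), (.ofNat (nat_lit 0)), (.ofNat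 (nat_lit 0)), (.ofNat (nat_lit 0))⟩, ⟨(.ofNat (nat_lit 1)), (.ofNat (nat_lit 0)), (.negSucc (nat_lit 0)), (.ofNat (nat_lit 0)), (.negSucc (nat_lit 0)), (.ofNat (nat_lit 0)), (.negSucc (nat_lit 0)), (.ofNat (nat_lit 2))⟩, ⟨(.ofNat (nat_lit 0)), (.ofNat (nat_lit 0)), (.ofNat (nat_lit 0)), (.ofNat (nat_lit 0)), (.negSucc (nat_lit 1)), (.ofNat (nat_lit 0)), (.ofNat (nat_lit 0)), (.ofNat (nat_lit 0))⟩⟩)))))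
 (.node (nat_lit 73) (.node (nat_lit 70) (.node (nat_lit 69) (.leaf ⟨⟨(.ofNat (nat_lit 2)), (.ofNat (nat_lit 0)), (.ofNat (nat_lit 0)), (.ofNat (nat_lit 0)), (.ofNat (nat_lit 0)), (.ofNat (nat_lit 0)), (.ofNat (nat_lit 0)), (.ofNat (nat_lit 0))⟩, ⟨(.negSucc (nat_lit 0)), (.ofNat (nat_lit 0)), (.ofNat (nat_lit 1)), (.ofNat (nat_lit 0)), (.ofNat (nat_lit 1)), (.ofNat (nat_lit 0)), (.ofNat (nat_lit 1)), (.negSucc (nat_lit 1))⟩, ⟨(.ofNat (nat_lit 0)), (.ofNat (nat_lit 0)), (.ofNat (nat_lit 0)), (.ofNat (nat_lit 0)), (.ofNat (nat_lit 2)), (.ofNat (nat_lit 0)), (.ofNat (nat_lit 0)), (.ofNat (nat_lit 0))⟩⟩) (.leaf ⟨⟨(.ofNat (nat_lit 2)), (.ofNat (nat_lit 0)), (.ofNat (nat_lit 0)), (.ofNat (nat_lit 0)), (.ofNat (nat_lit 0)), (.ofNat (nat_lit 0)), (.ofNat (nat_lit 0)), (.ofNat (nat_lit 0))⟩, ⟨(.ofNat (nat_lit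 2)), (.ofNat (nat_lit 0)), (.ofNat (nat_lit 0)), (.ofNat (nat_lit 0)), (.ofNat (nat_lit 0)), (.ofNat (nat_lit 0)), (.ofNat (nat_lit 0)), (.ofNat (nat_lit 0))⟩, ⟨(.ofNat (nat_lit 1)), (.negSucc (nat_lit 1)), (.negSucc (nat_lit 0)), (.ofNat (nat_lit 0)), (.negSucc (nat_lit 0)), (.ofNat (nat_lit 0)), (.negSucc (nat_lit 0)), (.ofNat (nat_lit 0))⟩⟩)) (.node (nat_lit 71) (.leaf ⟨⟨(.ofNat (nat_lit 2)), (.ofNat (nat_lit 0)), (.ofNat (nat_lit 0)), (.ofNat (nat_lit 0)), (.ofNat (nat_lit 0)), (.ofNat (nat_lit 0)), (.ofNat (nat_lit 0)), (.ofNat (nat_lit 0))⟩, ⟨(.negSucc (nat_lit 1)), (.ofNat (nat_lit 0)), (.ofNat (nat_lit 0)), (.ofNat (nat_lit 0)), (.ofNat (nat_lit 0)), (.ofNat (nat_lit 0)), (.ofNat (nat_lit 0)), (.ofNat (nat_lit 0))⟩, ⟨(.negSucc (nat_lit 0)), (.ofNat (nat_lit 2)), (.ofNat (nat_lit 1)), (.ofNat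 (nat_lit 0)), (.ofNat (nat_lit 1)), (.ofNat (nat_lit 0)), (.ofNat (nat_lit 1)), (.ofNat (nat_lit 0))⟩⟩) (.node (nat_lit 72) (.leaf ⟨⟨(.ofNat (nat_lit 2)), (.ofNat (nat_lit 0)), (.ofNat (nat_lit 0)), (.ofNat (nat_lit 0)), (.ofNat (nat_lit 0)), (.ofNat (nat_lit 0)), (.ofNat (nat_lit 0)), (.ofNat (nat_lit 0))⟩, ⟨(.negSucc (nat_lit 0)), (.ofNat (nat_lit 1)), (.negSucc (nat_lit 0)), (.ofNat (nat_lit 1)), (.negSucc (nat_lit 0)), (.ofNat (nat_lit 1)), (.negSucc (nat_lit 0)), (.ofNat (nat_lit 1))⟩, ⟨(.ofNat (nat_lit 0)), (.ofNat (nat_lit 1)), (.ofNat (nat_lit 0)), (.negSucc (nat_lit 0)), (.ofNat (nat_lit 0)), (.negSucc (nat_lit 0)), (.ofNat (nat_lit 0)), (.negSucc (nat_lit 0))⟩⟩) (.leaf ⟨⟨(.ofNat (nat_lit 2)), (.ofNat (nat_lit 0)), (.ofNat (nat_lit 0)), (.ofNat (nat_lit 0)), (.ofNat (nat_lit 0)), (.ofNat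 (nat_lit 0)), (.ofNat (nat_lit 0)), (.ofNat (nat_lit 0))⟩, ⟨(.ofNat (nat_lit 1)), (.negSucc (nat_lit 0)), (.ofNat (nat_lit 1)), (.negSucc (nat_lit 0)), (.ofNat (nat_lit 1)), (.negSucc (nat_lit 0)), (.ofNat (nat_lit 1)), (.negSucc (nat_lit 0))⟩, ⟨(.ofNat (nat_lit 0)), (.negSucc (nat_lit 0)), (.ofNat (nat_lit 0)), (.ofNat (nat_lit 1)), (.ofNat (nat_lit 0)), (.ofNat (nat_lit 1)), (.ofNat (nat_lit 0)), (.ofNat (nat_lit 1))⟩⟩))))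
 (.node (nat_lit 75) (.node (nat_lit 74) (.leaf ⟨⟨(.ofNat (nat_lit 2)), (.ofNat (nat_lit 0)), (.ofNat (nat_lit 0)), (.ofNat (nat_lit 0)), (.ofNat (nat_lit 0)), (.ofNat (nat_lit 0)), (.ofNat (nat_lit 0)), (.ofNat (nat_lit 0))⟩, ⟨(.ofNat (nat_lit 0)), (.ofNat (nat_lit 1)), (.ofNat (nat_lit 0)), (.negSucc (nat_lit 0)), (.ofNat (nat_lit 0)), (.negSucc (nat_lit 0)), (.ofNat (nat_lit 0)), (.negSucc (nat_lit 0))⟩, ⟨(.ofNat (nat_lit 1)), (.negSucc (nat_lit 0)), (.ofNat (nat_lit 1)), (.negSucc (nat_lit 0)), (.ofNat (nat_lit 1)), (.negSucc (nat_lit 0)), (.ofNat (nat_lit 1)), (.negSucc (nat_lit 0))⟩⟩) (.leaf ⟨⟨(.ofNat (nat_lit 2)), (.ofNat (nat_lit 0)), (.ofNat (nat_lit 0)), (.ofNat (nat_lit 0)), (.ofNat (nat_lit 0)), (.ofNat (nat_lit 0)), (.ofNat (nat_lit 0)), (.ofNat (nat_lit 0))⟩, ⟨(.ofNat (nat_lit 0)),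 (.negSucc (nat_lit 0)), (.ofNat (nat_lit 0)), (.ofNat (nat_lit 1)), (.ofNat (nat_lit 0)), (.ofNat (nat_lit 1)), (.ofNat (nat_lit 0)), (.ofNat (nat_lit 1))⟩, ⟨(.negSucc (nat_lit 0)), (.ofNat (nat_lit 1)), (.negSucc (nat_lit 0)), (.ofNat (nat_lit 1)), (.negSucc (nat_lit 0)), (.ofNat (nat_lit 1)), (.negSucc (nat_lit 0)), (.ofNat (nat_lit 1))⟩⟩)) (.node (nat_lit 76) (.leaf ⟨⟨(.ofNat (nat_lit 2)), (.ofNat (nat_lit 0)), (.ofNat (nat_lit 0)), (.ofNat (nat_lit 0)), (.ofNat (nat_lit 0)), (.ofNat (nat_lit 0)), (.ofNat (nat_lit 0)), (.ofNat (nat_lit 0))⟩, ⟨(.ofNat (nat_lit 1)), (.negSucc (nat_lit 1)), (.negSucc (nat_lit 0)), (.ofNat (nat_lit 0)), (.negSucc (nat_lit 0)), (.ofNat (nat_lit 0)), (.negSucc (nat_lit 0)), (.ofNat (nat_lit 0))⟩, ⟨(.negSucc (nat_lit 1)), (.ofNat (nat_lit 0)), (.ofNat (nat_lit 0)), (.ofNat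 (nat_lit 0)), (.ofNat (nat_lit 0)), (.ofNat (nat_lit 0)), (.ofNat (nat_lit 0)), (.ofNat (nat_lit 0))⟩⟩) (.node (nat_lit 77) (.leaf ⟨⟨(.ofNat (nat_lit 2)), (.ofNat (nat_lit 0)), (.ofNat (nat_lit 0)), (.ofNat (nat_lit 0)), (.ofNat (nat_lit 0)), (.ofNat (nat_lit 0)), (.ofNat (nat_lit 0)), (.ofNat (nat_lit 0))⟩, ⟨(.negSucc (nat_lit 0)), (.ofNat (nat_lit 2)), (.ofNat (nat_lit 1)), (.ofNat (nat_lit 0)), (.ofNat (nat_lit 1)), (.ofNat (nat_lit 0)), (.ofNat (nat_lit 1)), (.ofNat (nat_lit 0))⟩, ⟨(.ofNat (nat_lit 2)), (.ofNat (nat_lit 0)), (.ofNat (nat_lit 0)), (.ofNat (nat_lit 0)), (.ofNat (nat_lit 0)), (.ofNat (nat_lit 0)), (.ofNat (nat_lit 0)), (.ofNat (nat_lit 0))⟩⟩) (.leaf ⟨⟨(.ofNat (nat_lit 2)), (.ofNat (nat_lit 0)), (.ofNat (nat_lit 0)), (.ofNat (nat_lit 0)), (.ofNat (nat_lit 0)), (.ofNat (nat_lit 0)),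 (.ofNat (nat_lit 0)), (.ofNat (nat_lit 0))⟩, ⟨(.negSucc (nat_lit 0)), (.ofNat (nat_lit 0)), (.negSucc (nat_lit 0)), (.ofNat (nat_lit 2)), (.ofNat (nat_lit 1)), (.ofNat (nat_lit 0)), (.negSucc (nat_lit 0)), (.ofNat (nat_lit 0))⟩, ⟨(.ofNat (nat_lit 0)), (.ofNat (nat_lit 0)), (.negSucc (nat_lit 1)), (.ofNat (nat_lit 0)), (.ofNat (nat_lit 0)), (.ofNat (nat_lit 0)), (.ofNat (nat_lit 0)), (.ofNat (nat_lit 0))⟩⟩))))))))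
 (.node (nat_lit 117) (.node (nat_lit 97) (.node (nat_lit 87) (.node (nat_lit 82) (.node (nat_lit 80) (.node (nat_lit 79) (.leaf ⟨⟨(.ofNat (nat_lit 2)), (.ofNat (nat_lit 0)), (.ofNat (nat_lit 0)), (.ofNat (nat_lit 0)), (.ofNat (nat_lit 0)), (.ofNat (nat_lit 0)), (.ofNat (nat_lit 0)), (.ofNat (nat_lit 0))⟩, ⟨(.ofNat (nat_lit 1)), (.ofNat (nat_lit 0)), (.ofNat (nat_lit 1)), (.negSucc (nat_lit 1)), (.negSucc (nat_lit 0)), (.ofNat (nat_lit 0)), (.ofNat (nat_lit 1)), (.ofNat (nat_lit 0))⟩, ⟨(.ofNat (nat_lit 0)), (.ofNat (nat_lit 0)), (.ofNat (nat_lit 2)), (.ofNat (nat_lit 0)), (.ofNat (nat_lit 0)), (.ofNat (nat_lit 0)), (.ofNat (nat_lit 0)), (.ofNat (nat_lit 0))⟩⟩) (.leaf ⟨⟨(.ofNat (nat_lit 2)), (.ofNat (nat_lit 0)), (.ofNat (nat_lit 0)), (.ofNat (nat_lit 0)), (.ofNat (nat_lit 0)), (.ofNat (nat_lit 0)),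 (.ofNat (nat_lit 0)), (.ofNat (nat_lit 0))⟩, ⟨(.ofNat (nat_lit 0)), (.ofNat (nat_lit 1)), (.ofNat (nat_lit 0)), (.ofNat (nat_lit 1)), (.ofNat (nat_lit 0)), (.negSucc (nat_lit 0)), (.ofNat (nat_lit 0)), (.ofNat (nat_lit 1))⟩, ⟨(.ofNat (nat_lit 1)), (.negSucc (nat_lit 0)), (.negSucc (nat_lit 0)), (.ofNat (nat_lit 1)), (.negSucc (nat_lit 0)), (.ofNat (nat_lit 1)), (.ofNat (nat_lit 1)), (.negSucc (nat_lit 0))⟩⟩)) (.node (nat_lit 81) (.leaf ⟨⟨(.ofNat (nat_lit 2)), (.ofNat (nat_lit 0)), (.ofNat (nat_lit 0)), (.ofNat (nat_lit 0)), (.ofNat (nat_lit 0)), (.ofNat (nat_lit 0)), (.ofNat (nat_lit 0)), (.ofNat (nat_lit 0))⟩, ⟨(.ofNat (nat_lit 0)), (.negSucc (nat_lit 0)), (.ofNat (nat_lit 0)), (.negSucc (nat_lit 0)), (.ofNat (nat_lit 0)), (.ofNat (nat_lit 1)), (.ofNat (nat_lit 0)), (.negSucc (nat_lit 0))⟩, ⟨(.negSucc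 (nat_lit 0)), (.ofNat (nat_lit 1)), (.ofNat (nat_lit 1)), (.negSucc (nat_lit 0)), (.ofNat (nat_lit 1)), (.negSucc (nat_lit 0)), (.negSucc (nat_lit 0)), (.ofNat (nat_lit 1))⟩⟩) (.leaf ⟨⟨(.ofNat (nat_lit 2)), (.ofNat (nat_lit 0)), (.ofNat (nat_lit 0)), (.ofNat (nat_lit 0)), (.ofNat (nat_lit 0)), (.ofNat (nat_lit 0)), (.ofNat (nat_lit 0)), (.ofNat (nat_lit 0))⟩, ⟨(.ofNat (nat_lit 1)), (.negSucc (nat_lit 0)), (.negSucc (nat_lit 0)), (.ofNat (nat_lit 1)), (.negSucc (nat_lit 0)), (.ofNat (nat_lit 1)), (.ofNat (nat_lit 1)), (.negSucc (nat_lit 0))⟩, ⟨(.ofNat (nat_lit 0)), (.negSucc (nat_lit 0)), (.ofNat (nat_lit 0)), (.negSucc (nat_lit 0)), (.ofNat (nat_lit 0)), (.ofNat (nat_lit 1)), (.ofNat (nat_lit 0)), (.negSucc (nat_lit 0))⟩⟩)))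
 (.node (nat_lit 84) (.node (nat_lit 83) (.leaf ⟨⟨(.ofNat (nat_lit 2)), (.ofNat (nat_lit 0)), (.ofNat (nat_lit 0)), (.ofNat (nat_lit 0)), (.ofNat (nat_lit 0)), (.ofNat (nat_lit 0)), (.ofNat (nat_lit 0)), (.ofNat (nat_lit 0))⟩, ⟨(.negSucc (nat_lit 0)), (.ofNat (nat_lit 1)), (.ofNat (nat_lit 1)), (.negSucc (nat_lit 0)), (.ofNat (nat_lit 1)), (.negSucc (nat_lit 0)), (.negSucc (nat_lit 0)), (.ofNat (nat_lit 1))⟩, ⟨(.ofNat (nat_lit 0)), (.ofNat (nat_lit 1)), (.ofNat (nat_lit 0)), (.ofNat (nat_lit 1)), (.ofNat (nat_lit 0)), (.negSucc (nat_lit 0)), (.ofNat (nat_lit 0)), (.ofNat (nat_lit 1))⟩⟩) (.leaf ⟨⟨(.ofNat (nat_lit 2)), (.ofNat (nat_lit 0)), (.ofNat (nat_lit 0)), (.ofNat (nat_lit 0)), (.ofNat (nat_lit 0)), (.ofNat (nat_lit 0)), (.ofNat (nat_lit 0)), (.ofNat (nat_lit 0))⟩, ⟨(.ofNat (nat_lit 0)), (.ofNat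 (nat_lit 0)), (.ofNat (nat_lit 2)), (.ofNat (nat_lit 0)), (.ofNat (nat_lit 0)), (.ofNat (nat_lit 0)), (.ofNat (nat_lit 0)), (.ofNat (nat_lit 0))⟩, ⟨(.negSucc (nat_lit 0)), (.ofNat (nat_lit 0)), (.negSucc (nat_lit 0)), (.ofNat (nat_lit 2)), (.ofNat (nat_lit 1)), (.ofNat (nat_lit 0)), (.negSucc (nat_lit 0)), (.ofNat (nat_lit 0))⟩⟩)) (.node (nat_lit 85) (.leaf ⟨⟨(.ofNat (nat_lit 2)), (.ofNat (nat_lit 0)), (.ofNat (nat_lit 0)), (.ofNat (nat_lit 0)), (.ofNat (nat_lit 0)), (.ofNat (nat_lit 0)), (.ofNat (nat_lit 0)), (.ofNat (nat_lit 0))⟩, ⟨(.ofNat (nat_lit 0)), (.ofNat (nat_lit 0)), (.negSucc (nat_lit 1)), (.ofNat (nat_lit 0)), (.ofNat (nat_lit 0)), (.ofNat (nat_lit 0)), (.ofNat (nat_lit 0)), (.ofNat (nat_lit 0))⟩, ⟨(.ofNat (nat_lit 1)), (.ofNat (nat_lit 0)), (.ofNat (nat_lit 1)), (.negSucc (nat_lit 1)),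 (.negSucc (nat_lit 0)), (.ofNat (nat_lit 0)), (.ofNat (nat_lit 1)), (.ofNat (nat_lit 0))⟩⟩) (.node (nat_lit 86) (.leaf ⟨⟨(.ofNat (nat_lit 2)), (.ofNat (nat_lit 0)), (.ofNat (nat_lit 0)), (.ofNat (nat_lit 0)), (.ofNat (nat_lit 0)), (.ofNat (nat_lit 0)), (.ofNat (nat_lit 0)), (.ofNat (nat_lit 0))⟩, ⟨(.ofNat (nat_lit 1)), (.ofNat (nat_lit 0)), (.ofNat (nat_lit 1)), (.ofNat (nat_lit 0)), (.negSucc (nat_lit 0)), (.ofNat (nat_lit 2)), (.ofNat (nat_lit 1)), (.ofNat (nat_lit 0))⟩, ⟨(.ofNat (nat_lit 0)), (.ofNat (nat_lit 0)), (.ofNat (nat_lit 0)), (.ofNat (nat_lit 0)), (.ofNat (nat_lit 0)), (.ofNat (nat_lit 0)), (.negSucc (nat_lit 1)), (.ofNat (nat_lit 0))⟩⟩) (.leaf ⟨⟨(.ofNat (nat_lit 2)), (.ofNat (nat_lit 0)), (.ofNat (nat_lit 0)), (.ofNat (nat_lit 0)), (.ofNat (nat_lit 0)), (.ofNat (nat_lit 0)), (.ofNat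 (nat_lit 0)), (.ofNat (nat_lit 0))⟩, ⟨(.negSucc (nat_lit 0)), (.ofNat (nat_lit 0)), (.negSucc (nat_lit 0)), (.ofNat (nat_lit 0)), (.ofNat (nat_lit 1)), (.negSucc (nat_lit 1)), (.negSucc (nat_lit 0)), (.ofNat (nat_lit 0))⟩, ⟨(.ofNat (nat_lit 0)), (.ofNat (nat_lit 0)), (.ofNat (nat_lit 0)), (.ofNat (nat_lit 0)), (.ofNat (nat_lit 0)), (.ofNat (nat_lit 0)), (.ofNat (nat_lit 2)), (.ofNat (nat_lit 0))⟩⟩)))))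
 (.node (nat_lit 92) (.node (nat_lit 89) (.node (nat_lit 88) (.leaf ⟨⟨(.ofNat (nat_lit 2)), (.ofNat (nat_lit 0)), (.ofNat (nat_lit 0)), (.ofNat (nat_lit 0)), (.ofNat (nat_lit 0)), (.ofNat (nat_lit 0)), (.ofNat (nat_lit 0)), (.ofNat (nat_lit 0))⟩, ⟨(.ofNat (nat_lit 0)), (.ofNat (nat_lit 0)), (.ofNat (nat_lit 0)), (.ofNat (nat_lit 0)), (.ofNat (nat_lit 0)), (.ofNat (nat_lit 0)), (.negSucc (nat_lit 1)), (.ofNat (nat_lit 0))⟩, ⟨(.negSucc (nat_lit 0)), (.ofNat (nat_lit 0)), (.negSucc (nat_lit 0)), (.ofNat (nat_lit 0)), (.ofNat (nat_lit 1)), (.negSucc (nat_lit 1)), (.negSucc (nat_lit 0)), (.ofNat (nat_lit 0))⟩⟩) (.leaf ⟨⟨(.ofNat (nat_lit 2)), (.ofNat (nat_lit 0)), (.ofNat (nat_lit 0)), (.ofNat (nat_lit 0)), (.ofNat (nat_lit 0)), (.ofNat (nat_lit 0)), (.ofNat (nat_lit 0)), (.ofNat (nat_lit 0))⟩, ⟨(.ofNat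 (nat_lit 0)), (.ofNat (nat_lit 0)), (.ofNat (nat_lit 0)), (.ofNat (nat_lit 0)), (.ofNat (nat_lit 0)), (.ofNat (nat_lit 0)), (.ofNat (nat_lit 2)), (.ofNat (nat_lit 0))⟩, ⟨(.ofNat (nat_lit 1)), (.ofNat (nat_lit 0)), (.ofNat (nat_lit 1)), (.ofNat (nat_lit 0)), (.negSucc (nat_lit 0)), (.ofNat (nat_lit 2)), (.ofNat (nat_lit 1)), (.ofNat (nat_lit 0))⟩⟩)) (.node (nat_lit 90) (.leaf ⟨⟨(.ofNat (nat_lit 2)), (.ofNat (nat_lit 0)), (.ofNat (nat_lit 0)), (.ofNat (nat_lit 0)), (.ofNat (nat_lit 0)), (.ofNat (nat_lit 0)), (.ofNat (nat_lit 0)), (.ofNat (nat_lit 0))⟩, ⟨(.ofNat (nat_lit 1)), (.ofNat (nat_lit 0)), (.ofNat (nat_lit 1)), (.negSucc (nat_lit 1)), (.ofNat (nat_lit 1)), (.ofNat (nat_lit 0)), (.negSucc (nat_lit 0)), (.ofNat (nat_lit 0))⟩, ⟨(.negSucc (nat_lit 1)), (.ofNat (nat_lit 0)), (.ofNat (nat_lit 0)),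 (.ofNat (nat_lit 0)), (.ofNat (nat_lit 0)), (.ofNat (nat_lit 0)), (.ofNat (nat_lit 0)), (.ofNat (nat_lit 0))⟩⟩) (.node (nat_lit 91) (.leaf ⟨⟨(.ofNat (nat_lit 2)), (.ofNat (nat_lit 0)), (.ofNat (nat_lit 0)), (.ofNat (nat_lit 0)), (.ofNat (nat_lit 0)), (.ofNat (nat_lit 0)), (.ofNat (nat_lit 0)), (.ofNat (nat_lit 0))⟩, ⟨(.negSucc (nat_lit 0)), (.ofNat (nat_lit 0)), (.negSucc (nat_lit 0)), (.ofNat (nat_lit 2)), (.negSucc (nat_lit 0)), (.ofNat (nat_lit 0)), (.ofNat (nat_lit 1)), (.ofNat (nat_lit 0))⟩, ⟨(.ofNat (nat_lit 2)), (.ofNat (nat_lit 0)), (.ofNat (nat_lit 0)), (.ofNat (nat_lit 0)), (.ofNat (nat_lit 0)), (.ofNat (nat_lit 0)), (.ofNat (nat_lit 0)), (.ofNat (nat_lit 0))⟩⟩) (.leaf ⟨⟨(.ofNat (nat_lit 2)), (.ofNat (nat_lit 0)), (.ofNat (nat_lit 0)), (.ofNat (nat_lit 0)), (.ofNat (nat_lit 0)), (.ofNat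 (nat_lit 0)), (.ofNat (nat_lit 0)), (.ofNat (nat_lit 0))⟩, ⟨(.ofNat (nat_lit 2)), (.ofNat (nat_lit 0)), (.ofNat (nat_lit 0)), (.ofNat (nat_lit 0)), (.ofNat (nat_lit 0)), (.ofNat (nat_lit 0)), (.ofNat (nat_lit 0)), (.ofNat (nat_lit 0))⟩, ⟨(.ofNat (nat_lit 1)), (.ofNat (nat_lit 0)), (.ofNat (nat_lit 1)), (.negSucc (nat_lit 1)), (.ofNat (nat_lit 1)), (.ofNat (nat_lit 0)), (.negSucc (nat_lit 0)), (.ofNat (nat_lit 0))⟩⟩))))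
 (.node (nat_lit 94) (.node (nat_lit 93) (.leaf ⟨⟨(.ofNat (nat_lit 2)), (.ofNat (nat_lit 0)), (.ofNat (nat_lit 0)), (.ofNat (nat_lit 0)), (.ofNat (nat_lit 0)), (.ofNat (nat_lit 0)), (.ofNat (nat_lit 0)), (.ofNat (nat_lit 0))⟩, ⟨(.negSucc (nat_lit 1)), (.ofNat (nat_lit 0)), (.ofNat (nat_lit 0)), (.ofNat (nat_lit 0)), (.ofNat (nat_lit 0)), (.ofNat (nat_lit 0)), (.ofNat (nat_lit 0)), (.ofNat (nat_lit 0))⟩, ⟨(.negSucc (nat_lit 0)), (.ofNat (nat_lit 0)), (.negSucc (nat_lit 0)), (.ofNat (nat_lit 2)), (.negSucc (nat_lit 0)), (.ofNat (nat_lit 0)), (.ofNat (nat_lit 1)), (.ofNat (nat_lit 0))⟩⟩) (.leaf ⟨⟨(.ofNat (nat_lit 2)), (.ofNat (nat_lit 0)), (.ofNat (nat_lit 0)), (.ofNat (nat_lit 0)), (.ofNat (nat_lit 0)), (.ofNat (nat_lit 0)), (.ofNat (nat_lit 0)), (.ofNat (nat_lit 0))⟩, ⟨(.negSucc (nat_lit 0)), (.ofNat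 (nat_lit 0)), (.negSucc (nat_lit 0)), (.ofNat (nat_lit 0)), (.negSucc (nat_lit 0)), (.ofNat (nat_lit 2)), (.ofNat (nat_lit 1)), (.ofNat (nat_lit 0))⟩, ⟨(.ofNat (nat_lit 0)), (.ofNat (nat_lit 0)), (.ofNat (nat_lit 0)), (.ofNat (nat_lit 0)), (.negSucc (nat_lit 1)), (.ofNat (nat_lit 0)), (.ofNat (nat_lit 0)), (.ofNat (nat_lit 0))⟩⟩)) (.node (nat_lit 95) (.leaf ⟨⟨(.ofNat (nat_lit 2)), (.ofNat (nat_lit 0)), (.ofNat (nat_lit 0)), (.ofNat (nat_lit 0)), (.ofNat (nat_lit 0)), (.ofNat (nat_lit 0)), (.ofNat (nat_lit 0)), (.ofNat (nat_lit 0))⟩, ⟨(.ofNat (nat_lit 1)), (.ofNat (nat_lit 0)), (.ofNat (nat_lit 1)), (.ofNat (nat_lit 0)), (.ofNat (nat_lit 1)), (.negSucc (nat_lit 1)), (.negSucc (nat_lit 0)), (.ofNat (nat_lit 0))⟩, ⟨(.ofNat (nat_lit 0)), (.ofNat (nat_lit 0)), (.ofNat (nat_lit 0)), (.ofNat (nat_lit 0)),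 (.ofNat (nat_lit 2)), (.ofNat (nat_lit 0)), (.ofNat (nat_lit 0)), (.ofNat (nat_lit 0))⟩⟩) (.node (nat_lit 96) (.leaf ⟨⟨(.ofNat (nat_lit 2)), (.ofNat (nat_lit 0)), (.ofNat (nat_lit 0)), (.ofNat (nat_lit 0)), (.ofNat (nat_lit 0)), (.ofNat (nat_lit 0)), (.ofNat (nat_lit 0)), (.ofNat (nat_lit 0))⟩, ⟨(.ofNat (nat_lit 0)), (.negSucc (nat_lit 0)), (.ofNat (nat_lit 0)), (.negSucc (nat_lit 0)), (.ofNat (nat_lit 0)), (.negSucc (nat_lit 0)), (.ofNat (nat_lit 0)), (.ofNat (nat_lit 1))⟩, ⟨(.negSucc (nat_lit 0)), (.ofNat (nat_lit 1)), (.negSucc (nat_lit 0)), (.ofNat (nat_lit 1)), (.ofNat (nat_lit 1)), (.negSucc (nat_lit 0)), (.ofNat (nat_lit 1)), (.negSucc (nat_lit 0))⟩⟩) (.leaf ⟨⟨(.ofNat (nat_lit 2)), (.ofNat (nat_lit 0)), (.ofNat (nat_lit 0)), (.ofNat (nat_lit 0)), (.ofNat (nat_lit 0)), (.ofNat (nat_lit 0)),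 (.ofNat (nat_lit 0)), (.ofNat (nat_lit 0))⟩, ⟨(.ofNat (nat_lit 0)), (.ofNat (nat_lit 1)), (.ofNat (nat_lit 0)), (.ofNat (nat_lit 1)), (.ofNat (nat_lit 0)), (.ofNat (nat_lit 1)), (.ofNat (nat_lit 0)), (.negSucc (nat_lit 0))⟩, ⟨(.ofNat (nat_lit 1)), (.negSucc (nat_lit 0)), (.ofNat (nat_lit 1)), (.negSucc (nat_lit 0)), (.negSucc (nat_lit 0)), (.ofNat (nat_lit 1)), (.negSucc (nat_lit 0)), (.ofNat (nat_lit 1))⟩⟩))))))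
 (.node (nat_lit 107) (.node (nat_lit 102) (.node (nat_lit 99) (.node (nat_lit 98) (.leaf ⟨⟨(.ofNat (nat_lit 2)), (.ofNat (nat_lit 0)), (.ofNat (nat_lit 0)), (.ofNat (nat_lit 0)), (.ofNat (nat_lit 0)), (.ofNat (nat_lit 0)), (.ofNat (nat_lit 0)), (.ofNat (nat_lit 0))⟩, ⟨(.negSucc (nat_lit 0)), (.ofNat (nat_lit 1)), (.negSucc (nat_lit 0)), (.ofNat (nat_lit 1)), (.ofNat (nat_lit 1)), (.negSucc (nat_lit 0)), (.ofNat (nat_lit 1)), (.negSucc (nat_lit 0))⟩, ⟨(.ofNat (nat_lit 0)), (.ofNat (nat_lit 1)), (.ofNat (nat_lit 0)), (.ofNat (nat_lit 1)), (.ofNat (nat_lit 0)), (.ofNat (nat_lit 1)), (.ofNat (nat_lit 0)), (.negSucc (nat_lit 0))⟩⟩) (.leaf ⟨⟨(.ofNat (nat_lit 2)), (.ofNat (nat_lit 0)), (.ofNat (nat_lit 0)), (.ofNat (nat_lit 0)), (.ofNat (nat_lit 0)), (.ofNat (nat_lit 0)), (.ofNat (nat_lit 0)), (.ofNat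 (nat_lit 0))⟩, ⟨(.ofNat (nat_lit 1)), (.negSucc (nat_lit 0)), (.ofNat (nat_lit 1)), (.negSucc (nat_lit 0)), (.negSucc (nat_lit 0)), (.ofNat (nat_lit 1)), (.negSucc (nat_lit 0)), (.ofNat (nat_lit 1))⟩, ⟨(.ofNat (nat_lit 0)), (.negSucc (nat_lit 0)), (.ofNat (nat_lit 0)), (.negSucc (nat_lit 0)), (.ofNat (nat_lit 0)), (.negSucc (nat_lit 0)), (.ofNat (nat_lit 0)), (.ofNat (nat_lit 1))⟩⟩)) (.node (nat_lit 100) (.leaf ⟨⟨(.ofNat (nat_lit 2)), (.ofNat (nat_lit 0)), (.ofNat (nat_lit 0)), (.ofNat (nat_lit 0)), (.ofNat (nat_lit 0)), (.ofNat (nat_lit 0)), (.ofNat (nat_lit 0)), (.ofNat (nat_lit 0))⟩, ⟨(.ofNat (nat_lit 0)), (.ofNat (nat_lit 0)), (.ofNat (nat_lit 0)), (.ofNat (nat_lit 0)), (.negSucc (nat_lit 1)), (.ofNat (nat_lit 0)), (.ofNat (nat_lit 0)), (.ofNat (nat_lit 0))⟩, ⟨(.ofNat (nat_lit 1)), (.ofNat (nat_lit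 0)), (.ofNat (nat_lit 1)), (.ofNat (nat_lit 0)), (.ofNat (nat_lit 1)), (.negSucc (nat_lit 1)), (.negSucc (nat_lit 0)), (.ofNat (nat_lit 0))⟩⟩) (.node (nat_lit 101) (.leaf ⟨⟨(.ofNat (nat_lit 2)), (.ofNat (nat_lit 0)), (.ofNat (nat_lit 0)), (.ofNat (nat_lit 0)), (.ofNat (nat_lit 0)), (.ofNat (nat_lit 0)), (.ofNat (nat_lit 0)), (.ofNat (nat_lit 0))⟩, ⟨(.ofNat (nat_lit 0)), (.ofNat (nat_lit 0)), (.ofNat (nat_lit 0)), (.ofNat (nat_lit 0)), (.ofNat (nat_lit 2)), (.ofNat (nat_lit 0)), (.ofNat (nat_lit 0)), (.ofNat (nat_lit 0))⟩, ⟨(.negSucc (nat_lit 0)), (.ofNat (nat_lit 0)), (.negSucc (nat_lit 0)), (.ofNat (nat_lit 0)), (.negSucc (nat_lit 0)), (.ofNat (nat_lit 2)), (.ofNat (nat_lit 1)), (.ofNat (nat_lit 0))⟩⟩) (.leaf ⟨⟨(.ofNat (nat_lit 2)), (.ofNat (nat_lit 0)), (.ofNat (nat_lit 0)), (.ofNat (nat_lit 0)),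 (.ofNat (nat_lit 0)), (.ofNat (nat_lit 0)), (.ofNat (nat_lit 0)), (.ofNat (nat_lit 0))⟩, ⟨(.ofNat (nat_lit 0)), (.ofNat (nat_lit 0)), (.ofNat (nat_lit 0)), (.ofNat (nat_lit 0)), (.ofNat (nat_lit 0)), (.ofNat (nat_lit 0)), (.ofNat (nat_lit 2)), (.ofNat (nat_lit 0))⟩, ⟨(.ofNat (nat_lit 1)), (.ofNat (nat_lit 0)), (.negSucc (nat_lit 0)), (.ofNat (nat_lit 0)), (.ofNat (nat_lit 1)), (.ofNat (nat_lit 0)), (.ofNat (nat_lit 1)), (.negSucc (nat_lit 1))⟩⟩))))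
 (.node (nat_lit 104) (.node (nat_lit 103) (.leaf ⟨⟨(.ofNat (nat_lit 2)), (.ofNat (nat_lit 0)), (.ofNat (nat_lit 0)), (.ofNat (nat_lit 0)), (.ofNat (nat_lit 0)), (.ofNat (nat_lit 0)), (.ofNat (nat_lit 0)), (.ofNat (nat_lit 0))⟩, ⟨(.ofNat (nat_lit 0)), (.ofNat (nat_lit 0)), (.ofNat (nat_lit 0)), (.ofNat (nat_lit 0)), (.ofNat (nat_lit 0)), (.ofNat (nat_lit 0)), (.negSucc (nat_lit 1)), (.ofNat (nat_lit 0))⟩, ⟨(.negSucc (nat_lit 0)), (.ofNat (nat_lit 0)), (.ofNat (nat_lit 1)), (.ofNat (nat_lit 0)), (.negSucc (nat_lit 0)), (.ofNat (nat_lit 0)), (.negSucc (nat_lit 0)), (.ofNat (nat_lit 2))⟩⟩) (.leaf ⟨⟨(.ofNat (nat_lit 2)), (.ofNat (nat_lit 0)), (.ofNat (nat_lit 0)), (.ofNat (nat_lit 0)), (.ofNat (nat_lit 0)), (.ofNat (nat_lit 0)), (.ofNat (nat_lit 0)), (.ofNat (nat_lit 0))⟩, ⟨(.negSucc (nat_lit 0)), (.ofNat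 (nat_lit 1)), (.ofNat (nat_lit 1)), (.negSucc (nat_lit 0)), (.negSucc (nat_lit 0)), (.ofNat (nat_lit 1)), (.ofNat (nat_lit 1)), (.negSucc (nat_lit 0))⟩, ⟨(.ofNat (nat_lit 0)), (.negSucc (nat_lit 0)), (.ofNat (nat_lit 0)), (.ofNat (nat_lit 1)), (.ofNat (nat_lit 0)), (.negSucc (nat_lit 0)), (.ofNat (nat_lit 0)), (.negSucc (nat_lit 0))⟩⟩)) (.node (nat_lit 105) (.leaf ⟨⟨(.ofNat (nat_lit 2)), (.ofNat (nat_lit 0)), (.ofNat (nat_lit 0)), (.ofNat (nat_lit 0)), (.ofNat (nat_lit 0)), (.ofNat (nat_lit 0)), (.ofNat (nat_lit 0)), (.ofNat (nat_lit 0))⟩, ⟨(.ofNat (nat_lit 1)), (.negSucc (nat_lit 0)), (.negSucc (nat_lit 0)), (.ofNat (nat_lit 1)), (.ofNat (nat_lit 1)), (.negSucc (nat_lit 0)), (.negSucc (nat_lit 0)), (.ofNat (nat_lit 1))⟩, ⟨(.ofNat (nat_lit 0)), (.ofNat (nat_lit 1)), (.ofNat (nat_lit 0)), (.negSucc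 (nat_lit 0)), (.ofNat (nat_lit 0)), (.ofNat (nat_lit 1)), (.ofNat (nat_lit 0)), (.ofNat (nat_lit 1))⟩⟩) (.node (nat_lit 106) (.leaf ⟨⟨(.ofNat (nat_lit 2)), (.ofNat (nat_lit 0)), (.ofNat (nat_lit 0)), (.ofNat (nat_lit 0)), (.ofNat (nat_lit 0)), (.ofNat (nat_lit 0)), (.ofNat (nat_lit 0)), (.ofNat (nat_lit 0))⟩, ⟨(.ofNat (nat_lit 0)), (.ofNat (nat_lit 1)), (.ofNat (nat_lit 0)), (.negSucc (nat_lit 0)), (.ofNat (nat_lit 0)), (.ofNat (nat_lit 1)), (.ofNat (nat_lit 0)), (.ofNat (nat_lit 1))⟩, ⟨(.negSucc (nat_lit 0)), (.ofNat (nat_lit 1)), (.ofNat (nat_lit 1)), (.negSucc (nat_lit 0)), (.negSucc (nat_lit 0)), (.ofNat (nat_lit 1)), (.ofNat (nat_lit 1)), (.negSucc (nat_lit 0))⟩⟩) (.leaf ⟨⟨(.ofNat (nat_lit 2)), (.ofNat (nat_lit 0)), (.ofNat (nat_lit 0)), (.ofNat (nat_lit 0)), (.ofNat (nat_lit 0)), (.ofNat (nat_lit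 0)), (.ofNat (nat_lit 0)), (.ofNat (nat_lit 0))⟩, ⟨(.ofNat (nat_lit 0)), (.negSucc (nat_lit 0)), (.ofNat (nat_lit 0)), (.ofNat (nat_lit 1)), (.ofNat (nat_lit 0)), (.negSucc (nat_lit 0)), (.ofNat (nat_lit 0)), (.negSucc (nat_lit 0))⟩, ⟨(.ofNat (nat_lit 1)), (.negSucc (nat_lit 0)), (.negSucc (nat_lit 0)), (.ofNat (nat_lit 1)), (.ofNat (nat_lit 1)), (.negSucc (nat_lit 0)), (.negSucc (nat_lit 0)), (.ofNat (nat_lit 1))⟩⟩)))))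
 (.node (nat_lit 112) (.node (nat_lit 109) (.node (nat_lit 108) (.leaf ⟨⟨(.ofNat (nat_lit 2)), (.ofNat (nat_lit 0)), (.ofNat (nat_lit 0)), (.ofNat (nat_lit 0)), (.ofNat (nat_lit 0)), (.ofNat (nat_lit 0)), (.ofNat (nat_lit 0)), (.ofNat (nat_lit 0))⟩, ⟨(.ofNat (nat_lit 1)), (.ofNat (nat_lit 0)), (.negSucc (nat_lit 0)), (.ofNat (nat_lit 0)), (.ofNat (nat_lit 1)), (.ofNat (nat_lit 0)), (.ofNat (nat_lit 1)), (.negSucc (nat_lit 1))⟩, ⟨(.ofNat (nat_lit 0)), (.ofNat (nat_lit 0)), (.ofNat (nat_lit 0)), (.ofNat (nat_lit 0)), (.ofNat (nat_lit 0)), (.ofNat (nat_lit 0)), (.negSucc (nat_lit 1)), (.ofNat (nat_lit 0))⟩⟩) (.leaf ⟨⟨(.ofNat (nat_lit 2)), (.ofNat (nat_lit 0)), (.ofNat (nat_lit 0)), (.ofNat (nat_lit 0)), (.ofNat (nat_lit 0)), (.ofNat (nat_lit 0)), (.ofNat (nat_lit 0)), (.ofNat (nat_lit 0))⟩, ⟨(.negSucc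 (nat_lit 0)), (.ofNat (nat_lit 0)), (.ofNat (nat_lit 1)), (.ofNat (nat_lit 0)), (.negSucc (nat_lit 0)), (.ofNat (nat_lit 0)), (.negSucc (nat_lit 0)), (.ofNat (nat_lit 2))⟩, ⟨(.ofNat (nat_lit 0)), (.ofNat (nat_lit 0)), (.ofNat (nat_lit 0)), (.ofNat (nat_lit 0)), (.ofNat (nat_lit 0)), (.ofNat (nat_lit 0)), (.ofNat (nat_lit 2)), (.ofNat (nat_lit 0))⟩⟩)) (.node (nat_lit 110) (.leaf ⟨⟨(.ofNat (nat_lit 2)), (.ofNat (nat_lit 0)), (.ofNat (nat_lit 0)), (.ofNat (nat_lit 0)), (.ofNat (nat_lit 0)), (.ofNat (nat_lit 0)), (.ofNat (nat_lit 0)), (.ofNat (nat_lit 0))⟩, ⟨(.ofNat (nat_lit 0)), (.ofNat (nat_lit 0)), (.negSucc (nat_lit 1)), (.ofNat (nat_lit 0)), (.ofNat (nat_lit 0)), (.ofNat (nat_lit 0)), (.ofNat (nat_lit 0)), (.ofNat (nat_lit 0))⟩, ⟨(.negSucc (nat_lit 0)), (.ofNat (nat_lit 2)), (.ofNat (nat_lit 1)),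 (.ofNat (nat_lit 0)), (.negSucc (nat_lit 0)), (.ofNat (nat_lit 0)), (.negSucc (nat_lit 0)), (.ofNat (nat_lit 0))⟩⟩) (.node (nat_lit 111) (.leaf ⟨⟨(.ofNat (nat_lit 2)), (.ofNat (nat_lit 0)), (.ofNat (nat_lit 0)), (.ofNat (nat_lit 0)), (.ofNat (nat_lit 0)), (.ofNat (nat_lit 0)), (.ofNat (nat_lit 0)), (.ofNat (nat_lit 0))⟩, ⟨(.ofNat (nat_lit 0)), (.ofNat (nat_lit 0)), (.ofNat (nat_lit 2)), (.ofNat (nat_lit 0)), (.ofNat (nat_lit 0)), (.ofNat (nat_lit 0)), (.ofNat (nat_lit 0)), (.ofNat (nat_lit 0))⟩, ⟨(.ofNat (nat_lit 1)), (.negSucc (nat_lit 1)), (.negSucc (nat_lit 0)), (.ofNat (nat_lit 0)), (.ofNat (nat_lit 1)), (.ofNat (nat_lit 0)), (.ofNat (nat_lit 1)), (.ofNat (nat_lit 0))⟩⟩) (.leaf ⟨⟨(.ofNat (nat_lit 2)), (.ofNat (nat_lit 0)), (.ofNat (nat_lit 0)), (.ofNat (nat_lit 0)), (.ofNat (nat_lit 0)), (.ofNat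 (nat_lit 0)), (.ofNat (nat_lit 0)), (.ofNat (nat_lit 0))⟩, ⟨(.ofNat (nat_lit 1)), (.negSucc (nat_lit 1)), (.negSucc (nat_lit 0)), (.ofNat (nat_lit 0)), (.ofNat (nat_lit 1)), (.ofNat (nat_lit 0)), (.ofNat (nat_lit 1)), (.ofNat (nat_lit 0))⟩, ⟨(.ofNat (nat_lit 0)), (.ofNat (nat_lit 0)), (.negSucc (nat_lit 1)), (.ofNat (nat_lit 0)), (.ofNat (nat_lit 0)), (.ofNat (nat_lit 0)), (.ofNat (nat_lit 0)), (.ofNat (nat_lit 0))⟩⟩))))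
 (.node (nat_lit 114) (.node (nat_lit 113) (.leaf ⟨⟨(.ofNat (nat_lit 2)), (.ofNat (nat_lit 0)), (.ofNat (nat_lit 0)), (.ofNat (nat_lit 0)), (.ofNat (nat_lit 0)), (.ofNat (nat_lit 0)), (.ofNat (nat_lit 0)), (.ofNat (nat_lit 0))⟩, ⟨(.negSucc (nat_lit 0)), (.ofNat (nat_lit 2)), (.ofNat (nat_lit 1)), (.ofNat (nat_lit 0)), (.negSucc (nat_lit 0)), (.ofNat (nat_lit 0)), (.negSucc (nat_lit 0)), (.ofNat (nat_lit 0))⟩, ⟨(.ofNat (nat_lit 0)), (.ofNat (nat_lit 0)), (.ofNat (nat_lit 2)), (.ofNat (nat_lit 0)), (.ofNat (nat_lit 0)), (.ofNat (nat_lit 0)), (.ofNat (nat_lit 0)), (.ofNat (nat_lit 0))⟩⟩) (.leaf ⟨⟨(.ofNat (nat_lit 2)), (.ofNat (nat_lit 0)), (.ofNat (nat_lit 0)), (.ofNat (nat_lit 0)), (.ofNat (nat_lit 0)), (.ofNat (nat_lit 0)), (.ofNat (nat_lit 0)), (.ofNat (nat_lit 0))⟩, ⟨(.ofNat (nat_lit 1)), (.ofNat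 (nat_lit 0)), (.ofNat (nat_lit 1)), (.ofNat (nat_lit 0)), (.ofNat (nat_lit 1)), (.ofNat (nat_lit 0)), (.negSucc (nat_lit 0)), (.ofNat (nat_lit 2))⟩, ⟨(.ofNat (nat_lit 0)), (.ofNat (nat_lit 0)), (.negSucc (nat_lit 1)), (.ofNat (nat_lit 0)), (.ofNat (nat_lit 0)), (.ofNat (nat_lit 0)), (.ofNat (nat_lit 0)), (.ofNat (nat_lit 0))⟩⟩)) (.node (nat_lit 115) (.leaf ⟨⟨(.ofNat (nat_lit 2)), (.ofNat (nat_lit 0)), (.ofNat (nat_lit 0)), (.ofNat (nat_lit 0)), (.ofNat (nat_lit 0)), (.ofNat (nat_lit 0)), (.ofNat (nat_lit 0)), (.ofNat (nat_lit 0))⟩, ⟨(.negSucc (nat_lit 0)), (.ofNat (nat_lit 0)), (.negSucc (nat_lit 0)), (.ofNat (nat_lit 0)), (.negSucc (nat_lit 0)), (.ofNat (nat_lit 0)), (.ofNat (nat_lit 1)), (.negSucc (nat_lit 1))⟩, ⟨(.ofNat (nat_lit 0)), (.ofNat (nat_lit 0)), (.ofNat (nat_lit 2)), (.ofNat (nat_lit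 0)), (.ofNat (nat_lit 0)), (.ofNat (nat_lit 0)), (.ofNat (nat_lit 0)), (.ofNat (nat_lit 0))⟩⟩) (.node (nat_lit 116) (.leaf ⟨⟨(.ofNat (nat_lit 2)), (.ofNat (nat_lit 0)), (.ofNat (nat_lit 0)), (.ofNat (nat_lit 0)), (.ofNat (nat_lit 0)), (.ofNat (nat_lit 0)), (.ofNat (nat_lit 0)), (.ofNat (nat_lit 0))⟩, ⟨(.ofNat (nat_lit 0)), (.ofNat (nat_lit 0)), (.negSucc (nat_lit 1)), (.ofNat (nat_lit 0)), (.ofNat (nat_lit 0)), (.ofNat (nat_lit 0)), (.ofNat (nat_lit 0)), (.ofNat (nat_lit 0))⟩, ⟨(.negSucc (nat_lit 0)), (.ofNat (nat_lit 0)), (.negSucc (nat_lit 0)), (.ofNat (nat_lit 0)), (.negSucc (nat_lit 0)), (.ofNat (nat_lit 0)), (.ofNat (nat_lit 1)), (.negSucc (nat_lit 1))⟩⟩) (.leaf ⟨⟨(.ofNat (nat_lit 2)), (.ofNat (nat_lit 0)), (.ofNat (nat_lit 0)), (.ofNat (nat_lit 0)), (.ofNat (nat_lit 0)), (.ofNat (nat_lit 0)),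 (.ofNat (nat_lit 0)), (.ofNat (nat_lit 0))⟩, ⟨(.ofNat (nat_lit 0)), (.ofNat (nat_lit 0)), (.ofNat (nat_lit 2)), (.ofNat (nat_lit 0)), (.ofNat (nat_lit 0)), (.ofNat (nat_lit 0)), (.ofNat (nat_lit 0)), (.ofNat (nat_lit 0))⟩, ⟨(.ofNat (nat_lit 1)), (.ofNat (nat_lit 0)), (.ofNat (nat_lit 1)), (.ofNat (nat_lit 0)), (.ofNat (nat_lit 1)), (.ofNat (nat_lit 0)), (.negSucc (nat_lit 0)), (.ofNat (nat_lit 2))⟩⟩)))))))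
 (.node (nat_lit 137) (.node (nat_lit 127) (.node (nat_lit 122) (.node (nat_lit 119) (.node (nat_lit 118) (.leaf ⟨⟨(.ofNat (nat_lit 2)), (.ofNat (nat_lit 0)), (.ofNat (nat_lit 0)), (.ofNat (nat_lit 0)), (.ofNat (nat_lit 0)), (.ofNat (nat_lit 0)), (.ofNat (nat_lit 0)), (.ofNat (nat_lit 0))⟩, ⟨(.ofNat (nat_lit 2)), (.ofNat (nat_lit 0)), (.ofNat (nat_lit 0)), (.ofNat (nat_lit 0)), (.ofNat (nat_lit 0)), (.ofNat (nat_lit 0)), (.ofNat (nat_lit 0)), (.ofNat (nat_lit 0))⟩, ⟨(.negSucc (nat_lit 0)), (.ofNat (nat_lit 0)), (.ofNat (nat_lit 1)), (.ofNat (nat_lit 0)), (.negSucc (nat_lit 0)), (.ofNat (nat_lit 2)), (.negSucc (nat_lit 0)), (.ofNat (nat_lit 0))⟩⟩) (.leaf ⟨⟨(.ofNat (nat_lit 2)), (.ofNat (nat_lit 0)), (.ofNat (nat_lit 0)), (.ofNat (nat_lit 0)), (.ofNat (nat_lit 0)), (.ofNat (nat_lit 0)), (.ofNat (nat_lit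 0)), (.ofNat (nat_lit 0))⟩, ⟨(.negSucc (nat_lit 1)), (.ofNat (nat_lit 0)), (.ofNat (nat_lit 0)), (.ofNat (nat_lit 0)), (.ofNat (nat_lit 0)), (.ofNat (nat_lit 0)), (.ofNat (nat_lit 0)), (.ofNat (nat_lit 0))⟩, ⟨(.ofNat (nat_lit 1)), (.ofNat (nat_lit 0)), (.negSucc (nat_lit 0)), (.ofNat (nat_lit 0)), (.ofNat (nat_lit 1)), (.negSucc (nat_lit 1)), (.ofNat (nat_lit 1)), (.ofNat (nat_lit 0))⟩⟩)) (.node (nat_lit 120) (.leaf ⟨⟨(.ofNat (nat_lit 2)), (.ofNat (nat_lit 0)), (.ofNat (nat_lit 0)), (.ofNat (nat_lit 0)), (.ofNat (nat_lit 0)), (.ofNat (nat_lit 0)), (.ofNat (nat_lit 0)), (.ofNat (nat_lit 0))⟩, ⟨(.negSucc (nat_lit 0)), (.ofNat (nat_lit 0)), (.ofNat (nat_lit 1)), (.ofNat (nat_lit 0)), (.negSucc (nat_lit 0)), (.ofNat (nat_lit 2)), (.negSucc (nat_lit 0)), (.ofNat (nat_lit 0))⟩, ⟨(.negSucc (nat_lit 1)),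 (.ofNat (nat_lit 0)), (.ofNat (nat_lit 0)), (.ofNat (nat_lit 0)), (.ofNat (nat_lit 0)), (.ofNat (nat_lit 0)), (.ofNat (nat_lit 0)), (.ofNat (nat_lit 0))⟩⟩) (.node (nat_lit 121) (.leaf ⟨⟨(.ofNat (nat_lit 2)), (.ofNat (nat_lit 0)), (.ofNat (nat_lit 0)), (.ofNat (nat_lit 0)), (.ofNat (nat_lit 0)), (.ofNat (nat_lit 0)), (.ofNat (nat_lit 0)), (.ofNat (nat_lit 0))⟩, ⟨(.ofNat (nat_lit 1)), (.ofNat (nat_lit 0)), (.negSucc (nat_lit 0)), (.ofNat (nat_lit 0)), (.ofNat (nat_lit 1)), (.negSucc (nat_lit 1)), (.ofNat (nat_lit 1)), (.ofNat (nat_lit 0))⟩, ⟨(.ofNat (nat_lit 2)), (.ofNat (nat_lit 0)), (.ofNat (nat_lit 0)), (.ofNat (nat_lit 0)), (.ofNat (nat_lit 0)), (.ofNat (nat_lit 0)), (.ofNat (nat_lit 0)), (.ofNat (nat_lit 0))⟩⟩) (.leaf ⟨⟨(.ofNat (nat_lit 0)), (.ofNat (nat_lit 0)), (.ofNat (nat_lit 0)), (.ofNat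 (nat_lit 0)), (.ofNat (nat_lit 0)), (.ofNat (nat_lit 0)), (.ofNat (nat_lit 0)), (.ofNat (nat_lit 0))⟩, ⟨(.ofNat (nat_lit 1)), (.negSucc (nat_lit 1)), (.ofNat (nat_lit 1)), (.ofNat (nat_lit 0)), (.ofNat (nat_lit 1)), (.ofNat (nat_lit 0)), (.ofNat (nat_lit 1)), (.ofNat (nat_lit 0))⟩, ⟨(.ofNat (nat_lit 1)), (.ofNat (nat_lit 0)), (.ofNat (nat_lit 1)), (.ofNat (nat_lit 0)), (.negSucc (nat_lit 0)), (.ofNat (nat_lit 2)), (.negSucc (nat_lit 0)), (.ofNat (nat_lit 0))⟩⟩))))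
 (.node (nat_lit 124) (.node (nat_lit 123) (.leaf ⟨⟨(.negSucc (nat_lit 0)), (.ofNat (nat_lit 0)), (.ofNat (nat_lit 1)), (.negSucc (nat_lit 1)), (.negSucc (nat_lit 0)), (.ofNat (nat_lit 0)), (.negSucc (nat_lit 0)), (.ofNat (nat_lit 0))⟩, ⟨(.ofNat (nat_lit 2)), (.ofNat (nat_lit 0)), (.ofNat (nat_lit 0)), (.ofNat (nat_lit 0)), (.ofNat (nat_lit 0)), (.ofNat (nat_lit 0)), (.ofNat (nat_lit 0)), (.ofNat (nat_lit 0))⟩, ⟨(.ofNat (nat_lit 0)), (.ofNat (nat_lit 0)), (.ofNat (nat_lit 0)), (.ofNat (nat_lit 0)), (.negSucc (nat_lit 1)), (.ofNat (nat_lit 0)), (.ofNat (nat_lit 0)), (.ofNat (nat_lit 0))⟩⟩) (.leaf ⟨⟨(.negSucc (nat_lit 0)), (.ofNat (nat_lit 2)), (.negSucc (nat_lit 0)), (.ofNat (nat_lit 0)), (.ofNat (nat_lit 1)), (.ofNat (nat_lit 0)), (.negSucc (nat_lit 0)), (.ofNat (nat_lit 0))⟩, ⟨(.ofNat (nat_lit 2)),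 (.ofNat (nat_lit 0)), (.ofNat (nat_lit 0)), (.ofNat (nat_lit 0)), (.ofNat (nat_lit 0)), (.ofNat (nat_lit 0)), (.ofNat (nat_lit 0)), (.ofNat (nat_lit 0))⟩, ⟨(.ofNat (nat_lit 0)), (.ofNat (nat_lit 0)), (.ofNat (nat_lit 0)), (.ofNat (nat_lit 0)), (.negSucc (nat_lit 1)), (.ofNat (nat_lit 0)), (.ofNat (nat_lit 0)), (.ofNat (nat_lit 0))⟩⟩)) (.node (nat_lit 125) (.leaf ⟨⟨(.ofNat (nat_lit 1)), (.ofNat (nat_lit 0)), (.negSucc (nat_lit 0)), (.ofNat (nat_lit 0)), (.negSucc (nat_lit 0)), (.ofNat (nat_lit 0)), (.negSucc (nat_lit 0)), (.ofNat (nat_lit 2))⟩, ⟨(.ofNat (nat_lit 2)), (.ofNat (nat_lit 0)), (.ofNat (nat_lit 0)), (.ofNat (nat_lit 0)), (.ofNat (nat_lit 0)), (.ofNat (nat_lit 0)), (.ofNat (nat_lit 0)), (.ofNat (nat_lit 0))⟩, ⟨(.ofNat (nat_lit 0)), (.ofNat (nat_lit 0)), (.ofNat (nat_lit 0)), (.ofNat (nat_lit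 0)), (.negSucc (nat_lit 1)), (.ofNat (nat_lit 0)), (.ofNat (nat_lit 0)), (.ofNat (nat_lit 0))⟩⟩) (.node (nat_lit 126) (.leaf ⟨⟨(.negSucc (nat_lit 0)), (.ofNat (nat_lit 0)), (.negSucc (nat_lit 0)), (.ofNat (nat_lit 0)), (.negSucc (nat_lit 0)), (.ofNat (nat_lit 2)), (.ofNat (nat_lit 1)), (.ofNat (nat_lit 0))⟩, ⟨(.ofNat (nat_lit 2)), (.ofNat (nat_lit 0)), (.ofNat (nat_lit 0)), (.ofNat (nat_lit 0)), (.ofNat (nat_lit 0)), (.ofNat (nat_lit 0)), (.ofNat (nat_lit 0)), (.ofNat (nat_lit 0))⟩, ⟨(.ofNat (nat_lit 0)), (.ofNat (nat_lit 0)), (.ofNat (nat_lit 0)), (.ofNat (nat_lit 0)), (.negSucc (nat_lit 1)), (.ofNat (nat_lit 0)), (.ofNat (nat_lit 0)), (.ofNat (nat_lit 0))⟩⟩) (.leaf ⟨⟨(.ofNat (nat_lit 1)), (.ofNat (nat_lit 0)), (.ofNat (nat_lit 1)), (.ofNat (nat_lit 0)), (.ofNat (nat_lit 1)), (.negSucc (nat_lit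 1)), (.negSucc (nat_lit 0)), (.ofNat (nat_lit 0))⟩, ⟨(.ofNat (nat_lit 2)), (.ofNat (nat_lit 0)), (.ofNat (nat_lit 0)), (.ofNat (nat_lit 0)), (.ofNat (nat_lit 0)), (.ofNat (nat_lit 0)), (.ofNat (nat_lit 0)), (.ofNat (nat_lit 0))⟩, ⟨(.ofNat (nat_lit 0)), (.ofNat (nat_lit 0)), (.ofNat (nat_lit 0)), (.ofNat (nat_lit 0)), (.negSucc (nat_lit 1)), (.ofNat (nat_lit 0)), (.ofNat (nat_lit 0)), (.ofNat (nat_lit 0))⟩⟩)))))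
 (.node (nat_lit 132) (.node (nat_lit 129) (.node (nat_lit 128) (.leaf ⟨⟨(.negSucc (nat_lit 0)), (.ofNat (nat_lit 0)), (.ofNat (nat_lit 1)), (.ofNat (nat_lit 0)), (.ofNat (nat_lit 1)), (.ofNat (nat_lit 0)), (.ofNat (nat_lit 1)), (.negSucc (nat_lit 1))⟩, ⟨(.ofNat (nat_lit 2)), (.ofNat (nat_lit 0)), (.ofNat (nat_lit 0)), (.ofNat (nat_lit 0)), (.ofNat (nat_lit 0)), (.ofNat (nat_lit 0)), (.ofNat (nat_lit 0)), (.ofNat (nat_lit 0))⟩, ⟨(.ofNat (nat_lit 0)), (.ofNat (nat_lit 0)), (.ofNat (nat_lit 0)), (.ofNat (nat_lit 0)), (.negSucc (nat_lit 1)), (.ofNat (nat_lit 0)), (.ofNat (nat_lit 0)), (.ofNat (nat_lit 0))⟩⟩) (.leaf ⟨⟨(.ofNat (nat_lit 1)), (.negSucc (nat_lit 1)), (.ofNat (nat_lit 1)), (.ofNat (nat_lit 0)), (.negSucc (nat_lit 0)), (.ofNat (nat_lit 0)), (.ofNat (nat_lit 1)), (.ofNat (nat_lit 0))⟩, ⟨(.ofNat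 (nat_lit 2)), (.ofNat (nat_lit 0)), (.ofNat (nat_lit 0)), (.ofNat (nat_lit 0)), (.ofNat (nat_lit 0)), (.ofNat (nat_lit 0)), (.ofNat (nat_lit 0)), (.ofNat (nat_lit 0))⟩, ⟨(.ofNat (nat_lit 0)), (.ofNat (nat_lit 0)), (.ofNat (nat_lit 0)), (.ofNat (nat_lit 0)), (.negSucc (nat_lit 1)), (.ofNat (nat_lit 0)), (.ofNat (nat_lit 0)), (.ofNat (nat_lit 0))⟩⟩)) (.node (nat_lit 130) (.leaf ⟨⟨(.ofNat (nat_lit 1)), (.ofNat (nat_lit 0)), (.negSucc (nat_lit 0)), (.ofNat (nat_lit 2)), (.ofNat (nat_lit 1)), (.ofNat (nat_lit 0)), (.ofNat (nat_lit 1)), (.ofNat (nat_lit 0))⟩, ⟨(.ofNat (nat_lit 2)), (.ofNat (nat_lit 0)), (.ofNat (nat_lit 0)), (.ofNat (nat_lit 0)), (.ofNat (nat_lit 0)), (.ofNat (nat_lit 0)), (.ofNat (nat_lit 0)), (.ofNat (nat_lit 0))⟩, ⟨(.ofNat (nat_lit 0)), (.ofNat (nat_lit 0)), (.ofNat (nat_lit 0)), (.ofNat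 (nat_lit 0)), (.negSucc (nat_lit 1)), (.ofNat (nat_lit 0)), (.ofNat (nat_lit 0)), (.ofNat (nat_lit 0))⟩⟩) (.node (nat_lit 131) (.leaf ⟨⟨(.ofNat (nat_lit 0)), (.ofNat (nat_lit 0)), (.ofNat (nat_lit 0)), (.ofNat (nat_lit 0)), (.ofNat (nat_lit 0)), (.ofNat (nat_lit 0)), (.ofNat (nat_lit 0)), (.ofNat (nat_lit 0))⟩, ⟨(.ofNat (nat_lit 1)), (.negSucc (nat_lit 1)), (.ofNat (nat_lit 1)), (.ofNat (nat_lit 0)), (.ofNat (nat_lit 1)), (.ofNat (nat_lit 0)), (.ofNat (nat_lit 1)), (.ofNat (nat_lit 0))⟩, ⟨(.ofNat (nat_lit 1)), (.ofNat (nat_lit 0)), (.negSucc (nat_lit 0)), (.ofNat (nat_lit 2)), (.negSucc (nat_lit 0)), (.ofNat (nat_lit 0)), (.ofNat (nat_lit 1)), (.ofNat (nat_lit 0))⟩⟩) (.leaf ⟨⟨(.ofNat (nat_lit 1)), (.ofNat (nat_lit 0)), (.negSucc (nat_lit 0)), (.ofNat (nat_lit 0)), (.negSucc (nat_lit 0)), (.ofNat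 (nat_lit 2)), (.negSucc (nat_lit 0)), (.ofNat (nat_lit 0))⟩, ⟨(.ofNat (nat_lit 2)), (.ofNat (nat_lit 0)), (.ofNat (nat_lit 0)), (.ofNat (nat_lit 0)), (.ofNat (nat_lit 0)), (.ofNat (nat_lit 0)), (.ofNat (nat_lit 0)), (.ofNat (nat_lit 0))⟩, ⟨(.ofNat (nat_lit 0)), (.ofNat (nat_lit 0)), (.negSucc (nat_lit 1)), (.ofNat (nat_lit 0)), (.ofNat (nat_lit 0)), (.ofNat (nat_lit 0)), (.ofNat (nat_lit 0)), (.ofNat (nat_lit 0))⟩⟩))))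
 (.node (nat_lit 134) (.node (nat_lit 133) (.leaf ⟨⟨(.negSucc (nat_lit 0)), (.ofNat (nat_lit 0)), (.negSucc (nat_lit 0)), (.ofNat (nat_lit 2)), (.ofNat (nat_lit 1)), (.ofNat (nat_lit 0)), (.negSucc (nat_lit 0)), (.ofNat (nat_lit 0))⟩, ⟨(.ofNat (nat_lit 2)), (.ofNat (nat_lit 0)), (.ofNat (nat_lit 0)), (.ofNat (nat_lit 0)), (.ofNat (nat_lit 0)), (.ofNat (nat_lit 0)), (.ofNat (nat_lit 0)), (.ofNat (nat_lit 0))⟩, ⟨(.ofNat (nat_lit 0)), (.ofNat (nat_lit 0)), (.negSucc (nat_lit 1)), (.ofNat (nat_lit 0)), (.ofNat (nat_lit 0)), (.ofNat (nat_lit 0)), (.ofNat (nat_lit 0)), (.ofNat (nat_lit 0))⟩⟩) (.leaf ⟨⟨(.ofNat (nat_lit 1)), (.negSucc (nat_lit 1)), (.negSucc (nat_lit 0)), (.ofNat (nat_lit 0)), (.ofNat (nat_lit 1)), (.ofNat (nat_lit 0)), (.ofNat (nat_lit 1)), (.ofNat (nat_lit 0))⟩, ⟨(.ofNat (nat_lit 2)),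 (.ofNat (nat_lit 0)), (.ofNat (nat_lit 0)), (.ofNat (nat_lit 0)), (.ofNat (nat_lit 0)), (.ofNat (nat_lit 0)), (.ofNat (nat_lit 0)), (.ofNat (nat_lit 0))⟩, ⟨(.ofNat (nat_lit 0)), (.ofNat (nat_lit 0)), (.negSucc (nat_lit 1)), (.ofNat (nat_lit 0)), (.ofNat (nat_lit 0)), (.ofNat (nat_lit 0)), (.ofNat (nat_lit 0)), (.ofNat (nat_lit 0))⟩⟩)) (.node (nat_lit 135) (.leaf ⟨⟨(.ofNat (nat_lit 1)), (.ofNat (nat_lit 0)), (.ofNat (nat_lit 1)), (.ofNat (nat_lit 0)), (.ofNat (nat_lit 1)), (.ofNat (nat_lit 0)), (.negSucc (nat_lit 0)), (.ofNat (nat_lit 2))⟩, ⟨(.ofNat (nat_lit 2)), (.ofNat (nat_lit 0)), (.ofNat (nat_lit 0)), (.ofNat (nat_lit 0)), (.ofNat (nat_lit 0)), (.ofNat (nat_lit 0)), (.ofNat (nat_lit 0)), (.ofNat (nat_lit 0))⟩, ⟨(.ofNat (nat_lit 0)), (.ofNat (nat_lit 0)), (.negSucc (nat_lit 1)), (.ofNat (nat_lit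 0)), (.ofNat (nat_lit 0)), (.ofNat (nat_lit 0)), (.ofNat (nat_lit 0)), (.ofNat (nat_lit 0))⟩⟩) (.node (nat_lit 136) (.leaf ⟨⟨(.negSucc (nat_lit 0)), (.ofNat (nat_lit 0)), (.negSucc (nat_lit 0)), (.ofNat (nat_lit 0)), (.negSucc (nat_lit 0)), (.ofNat (nat_lit 0)), (.ofNat (nat_lit 1)), (.negSucc (nat_lit 1))⟩, ⟨(.ofNat (nat_lit 2)), (.ofNat (nat_lit 0)), (.ofNat (nat_lit 0)), (.ofNat (nat_lit 0)), (.ofNat (nat_lit 0)), (.ofNat (nat_lit 0)), (.ofNat (nat_lit 0)), (.ofNat (nat_lit 0))⟩, ⟨(.ofNat (nat_lit 0)), (.ofNat (nat_lit 0)), (.negSucc (nat_lit 1)), (.ofNat (nat_lit 0)), (.ofNat (nat_lit 0)), (.ofNat (nat_lit 0)), (.ofNat (nat_lit 0)), (.ofNat (nat_lit 0))⟩⟩) (.leaf ⟨⟨(.negSucc (nat_lit 0)), (.ofNat (nat_lit 2)), (.ofNat (nat_lit 1)), (.ofNat (nat_lit 0)), (.negSucc (nat_lit 0)), (.ofNat (nat_lit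 0)), (.negSucc (nat_lit 0)), (.ofNat (nat_lit 0))⟩, ⟨(.ofNat (nat_lit 2)), (.ofNat (nat_lit 0)), (.ofNat (nat_lit 0)), (.ofNat (nat_lit 0)), (.ofNat (nat_lit 0)), (.ofNat (nat_lit 0)), (.ofNat (nat_lit 0)), (.ofNat (nat_lit 0))⟩, ⟨(.ofNat (nat_lit 0)), (.ofNat (nat_lit 0)), (.negSucc (nat_lit 1)), (.ofNat (nat_lit 0)), (.ofNat (nat_lit 0)), (.ofNat (nat_lit 0)), (.ofNat (nat_lit 0)), (.ofNat (nat_lit 0))⟩⟩))))))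
 (.node (nat_lit 147) (.node (nat_lit 142) (.node (nat_lit 139) (.node (nat_lit 138) (.leaf ⟨⟨(.ofNat (nat_lit 1)), (.ofNat (nat_lit 0)), (.ofNat (nat_lit 1)), (.negSucc (nat_lit 1)), (.negSucc (nat_lit 0)), (.ofNat (nat_lit 0)), (.ofNat (nat_lit 1)), (.ofNat (nat_lit 0))⟩, ⟨(.ofNat (nat_lit 2)), (.ofNat (nat_lit 0)), (.ofNat (nat_lit 0)), (.ofNat (nat_lit 0)), (.ofNat (nat_lit 0)), (.ofNat (nat_lit 0)), (.ofNat (nat_lit 0)), (.ofNat (nat_lit 0))⟩, ⟨(.ofNat (nat_lit 0)), (.ofNat (nat_lit 0)), (.negSucc (nat_lit 1)), (.ofNat (nat_lit 0)), (.ofNat (nat_lit 0)), (.ofNat (nat_lit 0)), (.ofNat (nat_lit 0)), (.ofNat (nat_lit 0))⟩⟩) (.leaf ⟨⟨(.negSucc (nat_lit 0)), (.ofNat (nat_lit 0)), (.ofNat (nat_lit 1)), (.ofNat (nat_lit 0)), (.ofNat (nat_lit 1)), (.negSucc (nat_lit 1)), (.ofNat (nat_lit 1)), (.ofNat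 (nat_lit 0))⟩, ⟨(.ofNat (nat_lit 2)), (.ofNat (nat_lit 0)), (.ofNat (nat_lit 0)), (.ofNat (nat_lit 0)), (.ofNat (nat_lit 0)), (.ofNat (nat_lit 0)), (.ofNat (nat_lit 0)), (.ofNat (nat_lit 0))⟩, ⟨(.ofNat (nat_lit 0)), (.ofNat (nat_lit 0)), (.negSucc (nat_lit 1)), (.ofNat (nat_lit 0)), (.ofNat (nat_lit 0)), (.ofNat (nat_lit 0)), (.ofNat (nat_lit 0)), (.ofNat (nat_lit 0))⟩⟩)) (.node (nat_lit 140) (.leaf ⟨⟨(.ofNat (nat_lit 0)), (.ofNat (nat_lit 0)), (.ofNat (nat_lit 0)), (.ofNat (nat_lit 0)), (.ofNat (nat_lit 0)), (.ofNat (nat_lit 0)), (.ofNat (nat_lit 0)), (.ofNat (nat_lit 0))⟩, ⟨(.ofNat (nat_lit 1)), (.negSucc (nat_lit 1)), (.ofNat (nat_lit 1)), (.ofNat (nat_lit 0)), (.ofNat (nat_lit 1)), (.ofNat (nat_lit 0)), (.ofNat (nat_lit 1)), (.ofNat (nat_lit 0))⟩, ⟨(.negSucc (nat_lit 0)), (.ofNat (nat_lit 2)),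 (.negSucc (nat_lit 0)), (.ofNat (nat_lit 0)), (.negSucc (nat_lit 0)), (.ofNat (nat_lit 0)), (.negSucc (nat_lit 0)), (.ofNat (nat_lit 0))⟩⟩) (.node (nat_lit 141) (.leaf ⟨⟨(.ofNat (nat_lit 1)), (.ofNat (nat_lit 0)), (.ofNat (nat_lit 1)), (.ofNat (nat_lit 0)), (.negSucc (nat_lit 0)), (.ofNat (nat_lit 0)), (.ofNat (nat_lit 1)), (.negSucc (nat_lit 1))⟩, ⟨(.ofNat (nat_lit 2)), (.ofNat (nat_lit 0)), (.ofNat (nat_lit 0)), (.ofNat (nat_lit 0)), (.ofNat (nat_lit 0)), (.ofNat (nat_lit 0)), (.ofNat (nat_lit 0)), (.ofNat (nat_lit 0))⟩, ⟨(.negSucc (nat_lit 1)), (.ofNat (nat_lit 0)), (.ofNat (nat_lit 0)), (.ofNat (nat_lit 0)), (.ofNat (nat_lit 0)), (.ofNat (nat_lit 0)), (.ofNat (nat_lit 0)), (.ofNat (nat_lit 0))⟩⟩) (.leaf ⟨⟨(.ofNat (nat_lit 1)), (.negSucc (nat_lit 1)), (.negSucc (nat_lit 0)), (.ofNat (nat_lit 0)),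 (.negSucc (nat_lit 0)), (.ofNat (nat_lit 0)), (.negSucc (nat_lit 0)), (.ofNat (nat_lit 0))⟩, ⟨(.ofNat (nat_lit 2)), (.ofNat (nat_lit 0)), (.ofNat (nat_lit 0)), (.ofNat (nat_lit 0)), (.ofNat (nat_lit 0)), (.ofNat (nat_lit 0)), (.ofNat (nat_lit 0)), (.ofNat (nat_lit 0))⟩, ⟨(.negSucc (nat_lit 1)), (.ofNat (nat_lit 0)), (.ofNat (nat_lit 0)), (.ofNat (nat_lit 0)), (.ofNat (nat_lit 0)), (.ofNat (nat_lit 0)), (.ofNat (nat_lit 0)), (.ofNat (nat_lit 0))⟩⟩))))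
 (.node (nat_lit 144) (.node (nat_lit 143) (.leaf ⟨⟨(.ofNat (nat_lit 1)), (.ofNat (nat_lit 0)), (.ofNat (nat_lit 1)), (.negSucc (nat_lit 1)), (.ofNat (nat_lit 1)), (.ofNat (nat_lit 0)), (.negSucc (nat_lit 0)), (.ofNat (nat_lit 0))⟩, ⟨(.ofNat (nat_lit 2)), (.ofNat (nat_lit 0)), (.ofNat (nat_lit 0)), (.ofNat (nat_lit 0)), (.ofNat (nat_lit 0)), (.ofNat (nat_lit 0)), (.ofNat (nat_lit 0)), (.ofNat (nat_lit 0))⟩, ⟨(.negSucc (nat_lit 1)), (.ofNat (nat_lit 0)), (.ofNat (nat_lit 0)), (.ofNat (nat_lit 0)), (.ofNat (nat_lit 0)), (.ofNat (nat_lit 0)), (.ofNat (nat_lit 0)), (.ofNat (nat_lit 0))⟩⟩) (.leaf ⟨⟨(.negSucc (nat_lit 0)), (.ofNat (nat_lit 0)), (.ofNat (nat_lit 1)), (.ofNat (nat_lit 0)), (.negSucc (nat_lit 0)), (.ofNat (nat_lit 2)), (.negSucc (nat_lit 0)), (.ofNat (nat_lit 0))⟩, ⟨(.ofNat (nat_lit 2)),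 (.ofNat (nat_lit 0)), (.ofNat (nat_lit 0)), (.ofNat (nat_lit 0)), (.ofNat (nat_lit 0)), (.ofNat (nat_lit 0)), (.ofNat (nat_lit 0)), (.ofNat (nat_lit 0))⟩, ⟨(.negSucc (nat_lit 1)), (.ofNat (nat_lit 0)), (.ofNat (nat_lit 0)), (.ofNat (nat_lit 0)), (.ofNat (nat_lit 0)), (.ofNat (nat_lit 0)), (.ofNat (nat_lit 0)), (.ofNat (nat_lit 0))⟩⟩)) (.node (nat_lit 145) (.leaf ⟨⟨(.ofNat (nat_lit 1)), (.ofNat (nat_lit 0)), (.negSucc (nat_lit 0)), (.ofNat (nat_lit 0)), (.ofNat (nat_lit 1)), (.negSucc (nat_lit 1)), (.ofNat (nat_lit 1)), (.ofNat (nat_lit 0))⟩, ⟨(.ofNat (nat_lit 2)), (.ofNat (nat_lit 0)), (.ofNat (nat_lit 0)), (.ofNat (nat_lit 0)), (.ofNat (nat_lit 0)), (.ofNat (nat_lit 0)), (.ofNat (nat_lit 0)), (.ofNat (nat_lit 0))⟩, ⟨(.negSucc (nat_lit 1)), (.ofNat (nat_lit 0)), (.ofNat (nat_lit 0)), (.ofNat (nat_lit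 0)), (.ofNat (nat_lit 0)), (.ofNat (nat_lit 0)), (.ofNat (nat_lit 0)), (.ofNat (nat_lit 0))⟩⟩) (.node (nat_lit 146) (.leaf ⟨⟨(.negSucc (nat_lit 0)), (.ofNat (nat_lit 0)), (.negSucc (nat_lit 0)), (.ofNat (nat_lit 2)), (.negSucc (nat_lit 0)), (.ofNat (nat_lit 0)), (.ofNat (nat_lit 1)), (.ofNat (nat_lit 0))⟩, ⟨(.ofNat (nat_lit 2)), (.ofNat (nat_lit 0)), (.ofNat (nat_lit 0)), (.ofNat (nat_lit 0)), (.ofNat (nat_lit 0)), (.ofNat (nat_lit 0)), (.ofNat (nat_lit 0)), (.ofNat (nat_lit 0))⟩, ⟨(.negSucc (nat_lit 1)), (.ofNat (nat_lit 0)), (.ofNat (nat_lit 0)), (.ofNat (nat_lit 0)), (.ofNat (nat_lit 0)), (.ofNat (nat_lit 0)), (.ofNat (nat_lit 0)), (.ofNat (nat_lit 0))⟩⟩) (.leaf ⟨⟨(.negSucc (nat_lit 0)), (.ofNat (nat_lit 2)), (.ofNat (nat_lit 1)), (.ofNat (nat_lit 0)), (.ofNat (nat_lit 1)), (.ofNat (nat_lit 0)),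 (.ofNat (nat_lit 1)), (.ofNat (nat_lit 0))⟩, ⟨(.ofNat (nat_lit 2)), (.ofNat (nat_lit 0)), (.ofNat (nat_lit 0)), (.ofNat (nat_lit 0)), (.ofNat (nat_lit 0)), (.ofNat (nat_lit 0)), (.ofNat (nat_lit 0)), (.ofNat (nat_lit 0))⟩, ⟨(.negSucc (nat_lit 1)), (.ofNat (nat_lit 0)), (.ofNat (nat_lit 0)), (.ofNat (nat_lit 0)), (.ofNat (nat_lit 0)), (.ofNat (nat_lit 0)), (.ofNat (nat_lit 0)), (.ofNat (nat_lit 0))⟩⟩)))))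
 (.node (nat_lit 152) (.node (nat_lit 149) (.node (nat_lit 148) (.leaf ⟨⟨(.negSucc (nat_lit 0)), (.ofNat (nat_lit 0)), (.negSucc (nat_lit 0)), (.ofNat (nat_lit 0)), (.ofNat (nat_lit 1)), (.ofNat (nat_lit 0)), (.negSucc (nat_lit 0)), (.ofNat (nat_lit 2))⟩, ⟨(.ofNat (nat_lit 2)), (.ofNat (nat_lit 0)), (.ofNat (nat_lit 0)), (.ofNat (nat_lit 0)), (.ofNat (nat_lit 0)), (.ofNat (nat_lit 0)), (.ofNat (nat_lit 0)), (.ofNat (nat_lit 0))⟩, ⟨(.negSucc (nat_lit 1)), (.ofNat (nat_lit 0)), (.ofNat (nat_lit 0)), (.ofNat (nat_lit 0)), (.ofNat (nat_lit 0)), (.ofNat (nat_lit 0)), (.ofNat (nat_lit 0)), (.ofNat (nat_lit 0))⟩⟩) (.leaf ⟨⟨(.ofNat (nat_lit 1)), (.negSucc (nat_lit 1)), (.ofNat (nat_lit 1)), (.ofNat (nat_lit 0)), (.ofNat (nat_lit 1)), (.ofNat (nat_lit 0)), (.ofNat (nat_lit 1)), (.ofNat (nat_lit 0))⟩, ⟨(.ofNat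 (nat_lit 0)), (.ofNat (nat_lit 0)), (.ofNat (nat_lit 0)), (.ofNat (nat_lit 0)), (.ofNat (nat_lit 0)), (.ofNat (nat_lit 0)), (.ofNat (nat_lit 0)), (.ofNat (nat_lit 0))⟩, ⟨(.ofNat (nat_lit 1)), (.ofNat (nat_lit 0)), (.negSucc (nat_lit 0)), (.ofNat (nat_lit 0)), (.ofNat (nat_lit 1)), (.ofNat (nat_lit 0)), (.negSucc (nat_lit 0)), (.ofNat (nat_lit 2))⟩⟩)) (.node (nat_lit 150) (.leaf ⟨⟨(.ofNat (nat_lit 1)), (.negSucc (nat_lit 1)), (.ofNat (nat_lit 1)), (.ofNat (nat_lit 0)), (.ofNat (nat_lit 1)), (.ofNat (nat_lit 0)), (.ofNat (nat_lit 1)), (.ofNat (nat_lit 0))⟩, ⟨(.ofNat (nat_lit 0)), (.ofNat (nat_lit 0)), (.ofNat (nat_lit 0)), (.ofNat (nat_lit 0)), (.ofNat (nat_lit 0)), (.ofNat (nat_lit 0)), (.ofNat (nat_lit 0)), (.ofNat (nat_lit 0))⟩, ⟨(.ofNat (nat_lit 1)), (.ofNat (nat_lit 0)), (.ofNat (nat_lit 1)),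 (.ofNat (nat_lit 0)), (.negSucc (nat_lit 0)), (.ofNat (nat_lit 2)), (.negSucc (nat_lit 0)), (.ofNat (nat_lit 0))⟩⟩) (.node (nat_lit 151) (.leaf ⟨⟨(.ofNat (nat_lit 1)), (.negSucc (nat_lit 1)), (.ofNat (nat_lit 1)), (.ofNat (nat_lit 0)), (.ofNat (nat_lit 1)), (.ofNat (nat_lit 0)), (.ofNat (nat_lit 1)), (.ofNat (nat_lit 0))⟩, ⟨(.ofNat (nat_lit 0)), (.ofNat (nat_lit 0)), (.ofNat (nat_lit 0)), (.ofNat (nat_lit 0)), (.ofNat (nat_lit 0)), (.ofNat (nat_lit 0)), (.ofNat (nat_lit 0)), (.ofNat (nat_lit 0))⟩, ⟨(.ofNat (nat_lit 1)), (.ofNat (nat_lit 0)), (.negSucc (nat_lit 0)), (.ofNat (nat_lit 2)), (.negSucc (nat_lit 0)), (.ofNat (nat_lit 0)), (.ofNat (nat_lit 1)), (.ofNat (nat_lit 0))⟩⟩) (.leaf ⟨⟨(.ofNat (nat_lit 1)), (.negSucc (nat_lit 1)), (.ofNat (nat_lit 1)), (.ofNat (nat_lit 0)), (.ofNat (nat_lit 1)),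 (.ofNat (nat_lit 0)), (.ofNat (nat_lit 1)), (.ofNat (nat_lit 0))⟩, ⟨(.ofNat (nat_lit 0)), (.ofNat (nat_lit 0)), (.ofNat (nat_lit 0)), (.ofNat (nat_lit 0)), (.ofNat (nat_lit 0)), (.ofNat (nat_lit 0)), (.ofNat (nat_lit 0)), (.ofNat (nat_lit 0))⟩, ⟨(.negSucc (nat_lit 0)), (.ofNat (nat_lit 2)), (.negSucc (nat_lit 0)), (.ofNat (nat_lit 0)), (.negSucc (nat_lit 0)), (.ofNat (nat_lit 0)), (.negSucc (nat_lit 0)), (.ofNat (nat_lit 0))⟩⟩))))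
 (.node (nat_lit 154) (.node (nat_lit 153) (.leaf ⟨⟨(.ofNat (nat_lit 1)), (.negSucc (nat_lit 1)), (.ofNat (nat_lit 1)), (.ofNat (nat_lit 0)), (.ofNat (nat_lit 1)), (.ofNat (nat_lit 0)), (.ofNat (nat_lit 1)), (.ofNat (nat_lit 0))⟩, ⟨(.ofNat (nat_lit 1)), (.ofNat (nat_lit 0)), (.negSucc (nat_lit 0)), (.ofNat (nat_lit 0)), (.ofNat (nat_lit 1)), (.ofNat (nat_lit 0)), (.negSucc (nat_lit 0)), (.ofNat (nat_lit 2))⟩, ⟨(.ofNat (nat_lit 0)), (.ofNat (nat_lit 0)), (.ofNat (nat_lit 0)), (.ofNat (nat_lit 0)), (.ofNat (nat_lit 0)), (.ofNat (nat_lit 0)), (.ofNat (nat_lit 0)), (.ofNat (nat_lit 0))⟩⟩) (.leaf ⟨⟨(.ofNat (nat_lit 1)), (.negSucc (nat_lit 1)), (.ofNat (nat_lit 1)), (.ofNat (nat_lit 0)), (.ofNat (nat_lit 1)), (.ofNat (nat_lit 0)), (.ofNat (nat_lit 1)), (.ofNat (nat_lit 0))⟩, ⟨(.ofNat (nat_lit 1)), (.ofNat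 (nat_lit 0)), (.ofNat (nat_lit 1)), (.ofNat (nat_lit 0)), (.negSucc (nat_lit 0)), (.ofNat (nat_lit 2)), (.negSucc (nat_lit 0)), (.ofNat (nat_lit 0))⟩, ⟨(.ofNat (nat_lit 0)), (.ofNat (nat_lit 0)), (.ofNat (nat_lit 0)), (.ofNat (nat_lit 0)), (.ofNat (nat_lit 0)), (.ofNat (nat_lit 0)), (.ofNat (nat_lit 0)), (.ofNat (nat_lit 0))⟩⟩)) (.node (nat_lit 155) (.leaf ⟨⟨(.ofNat (nat_lit 1)), (.negSucc (nat_lit 1)), (.ofNat (nat_lit 1)), (.ofNat (nat_lit 0)), (.ofNat (nat_lit 1)), (.ofNat (nat_lit 0)), (.ofNat (nat_lit 1)), (.ofNat (nat_lit 0))⟩, ⟨(.ofNat (nat_lit 1)), (.ofNat (nat_lit 0)), (.negSucc (nat_lit 0)), (.ofNat (nat_lit 2)), (.negSucc (nat_lit 0)), (.ofNat (nat_lit 0)), (.ofNat (nat_lit 1)), (.ofNat (nat_lit 0))⟩, ⟨(.ofNat (nat_lit 0)), (.ofNat (nat_lit 0)), (.ofNat (nat_lit 0)), (.ofNat (nat_lit 0)),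 (.ofNat (nat_lit 0)), (.ofNat (nat_lit 0)), (.ofNat (nat_lit 0)), (.ofNat (nat_lit 0))⟩⟩) (.node (nat_lit 156) (.leaf ⟨⟨(.ofNat (nat_lit 1)), (.negSucc (nat_lit 1)), (.ofNat (nat_lit 1)), (.ofNat (nat_lit 0)), (.ofNat (nat_lit 1)), (.ofNat (nat_lit 0)), (.ofNat (nat_lit 1)), (.ofNat (nat_lit 0))⟩, ⟨(.negSucc (nat_lit 0)), (.ofNat (nat_lit 2)), (.negSucc (nat_lit 0)), (.ofNat (nat_lit 0)), (.negSucc (nat_lit 0)), (.ofNat (nat_lit 0)), (.negSucc (nat_lit 0)), (.ofNat (nat_lit 0))⟩, ⟨(.ofNat (nat_lit 0)), (.ofNat (nat_lit 0)), (.ofNat (nat_lit 0)), (.ofNat (nat_lit 0)), (.ofNat (nat_lit 0)), (.ofNat (nat_lit 0)), (.ofNat (nat_lit 0)), (.ofNat (nat_lit 0))⟩⟩) (.leaf ⟨⟨(.ofNat (nat_lit 0)), (.ofNat (nat_lit 0)), (.ofNat (nat_lit 0)), (.ofNat (nat_lit 0)), (.ofNat (nat_lit 0)), (.ofNat (nat_lit 0)), (.ofNat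 (nat_lit 0)), (.ofNat (nat_lit 0))⟩, ⟨(.ofNat (nat_lit 0)), (.ofNat (nat_lit 0)), (.ofNat (nat_lit 0)), (.ofNat (nat_lit 0)), (.ofNat (nat_lit 0)), (.ofNat (nat_lit 0)), (.ofNat (nat_lit 0)), (.ofNat (nat_lit 0))⟩, ⟨(.ofNat (nat_lit 4)), (.ofNat (nat_lit 0)), (.ofNat (nat_lit 0)), (.ofNat (nat_lit 0)), (.ofNat (nat_lit 0)), (.ofNat (nat_lit 0)), (.ofNat (nat_lit 0)), (.ofNat (nat_lit 0))⟩⟩)))))))))
 (.node (nat_lit 236) (.node (nat_lit 196) (.node (nat_lit 176) (.node (nat_lit 166) (.node (nat_lit 161) (.node (nat_lit 159) (.node (nat_lit 158) (.leaf ⟨⟨(.ofNat (nat_lit 4)), (.ofNat (nat_lit 0)), (.ofNat (nat_lit 0)), (.ofNat (nat_lit 0)), (.ofNat (nat_lit 0)), (.ofNat (nat_lit 0)), (.ofNat (nat_lit 0)), (.ofNat (nat_lit 0))⟩, ⟨(.ofNat (nat_lit 0)), (.ofNat (nat_lit 0)), (.ofNat (nat_lit 0)), (.ofNat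 (nat_lit 0)), (.ofNat (nat_lit 0)), (.ofNat (nat_lit 0)), (.ofNat (nat_lit 0)), (.ofNat (nat_lit 0))⟩, ⟨(.ofNat (nat_lit 0)), (.ofNat (nat_lit 0)), (.ofNat (nat_lit 0)), (.ofNat (nat_lit 0)), (.ofNat (nat_lit 0)), (.ofNat (nat_lit 0)), (.ofNat (nat_lit 0)), (.ofNat (nat_lit 0))⟩⟩) (.leaf ⟨⟨(.ofNat (nat_lit 0)), (.ofNat (nat_lit 0)), (.ofNat (nat_lit 0)), (.ofNat (nat_lit 0)), (.ofNat (nat_lit 0)), (.ofNat (nat_lit 0)), (.ofNat (nat_lit 0)), (.ofNat (nat_lit 0))⟩, ⟨(.ofNat (nat_lit 4)), (.ofNat (nat_lit 0)), (.ofNat (nat_lit 0)), (.ofNat (nat_lit 0)), (.ofNat (nat_lit 0)), (.ofNat (nat_lit 0)), (.ofNat (nat_lit 0)), (.ofNat (nat_lit 0))⟩, ⟨(.ofNat (nat_lit 0)), (.ofNat (nat_lit 0)), (.ofNat (nat_lit 0)), (.ofNat (nat_lit 0)), (.ofNat (nat_lit 0)), (.ofNat (nat_lit 0)), (.ofNat (nat_lit 0)), (.ofNat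 (nat_lit 0))⟩⟩)) (.node (nat_lit 160) (.leaf ⟨⟨(.ofNat (nat_lit 1)), (.negSucc (nat_lit 1)), (.ofNat (nat_lit 1)), (.ofNat (nat_lit 0)), (.ofNat (nat_lit 1)), (.ofNat (nat_lit 0)), (.ofNat (nat_lit 1)), (.ofNat (nat_lit 0))⟩, ⟨(.ofNat (nat_lit 1)), (.negSucc (nat_lit 1)), (.ofNat (nat_lit 1)), (.ofNat (nat_lit 0)), (.ofNat (nat_lit 1)), (.ofNat (nat_lit 0)), (.ofNat (nat_lit 1)), (.ofNat (nat_lit 0))⟩, ⟨(.ofNat (nat_lit 0)), (.ofNat (nat_lit 0)), (.ofNat (nat_lit 0)), (.ofNat (nat_lit 0)), (.ofNat (nat_lit 0)), (.ofNat (nat_lit 0)), (.ofNat (nat_lit 0)), (.ofNat (nat_lit 0))⟩⟩) (.leaf ⟨⟨(.ofNat (nat_lit 1)), (.negSucc (nat_lit 1)), (.ofNat (nat_lit 1)), (.ofNat (nat_lit 0)), (.ofNat (nat_lit 1)), (.ofNat (nat_lit 0)), (.ofNat (nat_lit 1)), (.ofNat (nat_lit 0))⟩, ⟨(.negSucc (nat_lit 0)), (.ofNat (nat_lit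 0)), (.ofNat (nat_lit 1)), (.negSucc (nat_lit 1)), (.ofNat (nat_lit 1)), (.ofNat (nat_lit 0)), (.negSucc (nat_lit 0)), (.ofNat (nat_lit 0))⟩, ⟨(.ofNat (nat_lit 0)), (.ofNat (nat_lit 0)), (.ofNat (nat_lit 0)), (.ofNat (nat_lit 0)), (.ofNat (nat_lit 0)), (.ofNat (nat_lit 0)), (.ofNat (nat_lit 0)), (.ofNat (nat_lit 0))⟩⟩)))
 (.node (nat_lit 163) (.node (nat_lit 162) (.leaf ⟨⟨(.ofNat (nat_lit 1)), (.negSucc (nat_lit 1)), (.ofNat (nat_lit 1)), (.ofNat (nat_lit 0)), (.ofNat (nat_lit 1)), (.ofNat (nat_lit 0)), (.ofNat (nat_lit 1)), (.ofNat (nat_lit 0))⟩, ⟨(.negSucc (nat_lit 0)), (.ofNat (nat_lit 0)), (.negSucc (nat_lit 0)), (.ofNat (nat_lit 0)), (.ofNat (nat_lit 1)), (.negSucc (nat_lit 1)), (.ofNat (nat_lit 1)), (.ofNat (nat_lit 0))⟩, ⟨(.ofNat (nat_lit 0)), (.ofNat (nat_lit 0)), (.ofNat (nat_lit 0)), (.ofNat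 (nat_lit 0)), (.ofNat (nat_lit 0)), (.ofNat (nat_lit 0)), (.ofNat (nat_lit 0)), (.ofNat (nat_lit 0))⟩⟩) (.leaf ⟨⟨(.ofNat (nat_lit 1)), (.negSucc (nat_lit 1)), (.ofNat (nat_lit 1)), (.ofNat (nat_lit 0)), (.ofNat (nat_lit 1)), (.ofNat (nat_lit 0)), (.ofNat (nat_lit 1)), (.ofNat (nat_lit 0))⟩, ⟨(.negSucc (nat_lit 0)), (.ofNat (nat_lit 0)), (.ofNat (nat_lit 1)), (.ofNat (nat_lit 0)), (.negSucc (nat_lit 0)), (.ofNat (nat_lit 0)), (.ofNat (nat_lit 1)), (.negSucc (nat_lit 1))⟩, ⟨(.ofNat (nat_lit 0)), (.ofNat (nat_lit 0)), (.ofNat (nat_lit 0)), (.ofNat (nat_lit 0)), (.ofNat (nat_lit 0)), (.ofNat (nat_lit 0)), (.ofNat (nat_lit 0)), (.ofNat (nat_lit 0))⟩⟩)) (.node (nat_lit 164) (.leaf ⟨⟨(.ofNat (nat_lit 1)), (.negSucc (nat_lit 1)), (.ofNat (nat_lit 1)), (.ofNat (nat_lit 0)), (.ofNat (nat_lit 1)), (.ofNat (nat_lit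 0)), (.ofNat (nat_lit 1)), (.ofNat (nat_lit 0))⟩, ⟨(.ofNat (nat_lit 0)), (.ofNat (nat_lit 0)), (.ofNat (nat_lit 0)), (.ofNat (nat_lit 0)), (.ofNat (nat_lit 0)), (.ofNat (nat_lit 0)), (.ofNat (nat_lit 0)), (.ofNat (nat_lit 0))⟩, ⟨(.ofNat (nat_lit 1)), (.negSucc (nat_lit 1)), (.ofNat (nat_lit 1)), (.ofNat (nat_lit 0)), (.ofNat (nat_lit 1)), (.ofNat (nat_lit 0)), (.ofNat (nat_lit 1)), (.ofNat (nat_lit 0))⟩⟩) (.node (nat_lit 165) (.leaf ⟨⟨(.ofNat (nat_lit 1)), (.negSucc (nat_lit 1)), (.ofNat (nat_lit 1)), (.ofNat (nat_lit 0)), (.ofNat (nat_lit 1)), (.ofNat (nat_lit 0)), (.ofNat (nat_lit 1)), (.ofNat (nat_lit 0))⟩, ⟨(.ofNat (nat_lit 0)), (.ofNat (nat_lit 0)), (.ofNat (nat_lit 0)), (.ofNat (nat_lit 0)), (.ofNat (nat_lit 0)), (.ofNat (nat_lit 0)), (.ofNat (nat_lit 0)), (.ofNat (nat_lit 0))⟩, ⟨(.negSucc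 (nat_lit 0)), (.ofNat (nat_lit 0)), (.ofNat (nat_lit 1)), (.negSucc (nat_lit 1)), (.ofNat (nat_lit 1)), (.ofNat (nat_lit 0)), (.negSucc (nat_lit 0)), (.ofNat (nat_lit 0))⟩⟩) (.leaf ⟨⟨(.ofNat (nat_lit 1)), (.negSucc (nat_lit 1)), (.ofNat (nat_lit 1)), (.ofNat (nat_lit 0)), (.ofNat (nat_lit 1)), (.ofNat (nat_lit 0)), (.ofNat (nat_lit 1)), (.ofNat (nat_lit 0))⟩, ⟨(.ofNat (nat_lit 0)), (.ofNat (nat_lit 0)), (.ofNat (nat_lit 0)), (.ofNat (nat_lit 0)), (.ofNat (nat_lit 0)), (.ofNat (nat_lit 0)), (.ofNat (nat_lit 0)), (.ofNat (nat_lit 0))⟩, ⟨(.negSucc (nat_lit 0)), (.ofNat (nat_lit 0)), (.negSucc (nat_lit 0)), (.ofNat (nat_lit 0)), (.ofNat (nat_lit 1)), (.negSucc (nat_lit 1)), (.ofNat (nat_lit 1)), (.ofNat (nat_lit 0))⟩⟩)))))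
 (.node (nat_lit 171) (.node (nat_lit 168) (.node (nat_lit 167) (.leaf ⟨⟨(.ofNat (nat_lit 1)), (.negSucc (nat_lit 1)), (.ofNat (nat_lit 1)), (.ofNat (nat_lit 0)), (.ofNat (nat_lit 1)), (.ofNat (nat_lit 0)), (.ofNat (nat_lit 1)), (.ofNat (nat_lit 0))⟩, ⟨(.ofNat (nat_lit 0)), (.ofNat (nat_lit 0)), (.ofNat (nat_lit 0)), (.ofNat (nat_lit 0)), (.ofNat (nat_lit 0)), (.ofNat (nat_lit 0)), (.ofNat (nat_lit 0)), (.ofNat (nat_lit 0))⟩, ⟨(.negSucc (nat_lit 0)), (.ofNat (nat_lit 0)), (.ofNat (nat_lit 1)), (.ofNat (nat_lit 0)), (.negSucc (nat_lit 0)), (.ofNat (nat_lit 0)), (.ofNat (nat_lit 1)), (.negSucc (nat_lit 1))⟩⟩) (.leaf ⟨⟨(.negSucc (nat_lit 0)), (.ofNat (nat_lit 0)), (.negSucc (nat_lit 0)), (.ofNat (nat_lit 0)), (.ofNat (nat_lit 1)), (.ofNat (nat_lit 0)), (.negSucc (nat_lit 0)), (.ofNat (nat_lit 2))⟩,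 ⟨(.ofNat (nat_lit 2)), (.ofNat (nat_lit 0)), (.ofNat (nat_lit 0)), (.ofNat (nat_lit 0)), (.ofNat (nat_lit 0)), (.ofNat (nat_lit 0)), (.ofNat (nat_lit 0)), (.ofNat (nat_lit 0))⟩, ⟨(.ofNat (nat_lit 2)), (.ofNat (nat_lit 0)), (.ofNat (nat_lit 0)), (.ofNat (nat_lit 0)), (.ofNat (nat_lit 0)), (.ofNat (nat_lit 0)), (.ofNat (nat_lit 0)), (.ofNat (nat_lit 0))⟩⟩)) (.node (nat_lit 169) (.leaf ⟨⟨(.negSucc (nat_lit 0)), (.ofNat (nat_lit 2)), (.ofNat (nat_lit 1)), (.ofNat (nat_lit 0)), (.ofNat (nat_lit 1)), (.ofNat (nat_lit 0)), (.ofNat (nat_lit 1)), (.ofNat (nat_lit 0))⟩, ⟨(.ofNat (nat_lit 2)), (.ofNat (nat_lit 0)), (.ofNat (nat_lit 0)), (.ofNat (nat_lit 0)), (.ofNat (nat_lit 0)), (.ofNat (nat_lit 0)), (.ofNat (nat_lit 0)), (.ofNat (nat_lit 0))⟩, ⟨(.ofNat (nat_lit 2)), (.ofNat (nat_lit 0)), (.ofNat (nat_lit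 0)), (.ofNat (nat_lit 0)), (.ofNat (nat_lit 0)), (.ofNat (nat_lit 0)), (.ofNat (nat_lit 0)), (.ofNat (nat_lit 0))⟩⟩) (.node (nat_lit 170) (.leaf ⟨⟨(.negSucc (nat_lit 0)), (.ofNat (nat_lit 0)), (.negSucc (nat_lit 0)), (.ofNat (nat_lit 2)), (.negSucc (nat_lit 0)), (.ofNat (nat_lit 0)), (.ofNat (nat_lit 1)), (.ofNat (nat_lit 0))⟩, ⟨(.ofNat (nat_lit 2)), (.ofNat (nat_lit 0)), (.ofNat (nat_lit 0)), (.ofNat (nat_lit 0)), (.ofNat (nat_lit 0)), (.ofNat (nat_lit 0)), (.ofNat (nat_lit 0)), (.ofNat (nat_lit 0))⟩, ⟨(.ofNat (nat_lit 2)), (.ofNat (nat_lit 0)), (.ofNat (nat_lit 0)), (.ofNat (nat_lit 0)), (.ofNat (nat_lit 0)), (.ofNat (nat_lit 0)), (.ofNat (nat_lit 0)), (.ofNat (nat_lit 0))⟩⟩) (.leaf ⟨⟨(.ofNat (nat_lit 1)), (.ofNat (nat_lit 0)), (.negSucc (nat_lit 0)), (.ofNat (nat_lit 0)), (.ofNat (nat_lit 1)),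 (.negSucc (nat_lit 1)), (.ofNat (nat_lit 1)), (.ofNat (nat_lit 0))⟩, ⟨(.ofNat (nat_lit 2)), (.ofNat (nat_lit 0)), (.ofNat (nat_lit 0)), (.ofNat (nat_lit 0)), (.ofNat (nat_lit 0)), (.ofNat (nat_lit 0)), (.ofNat (nat_lit 0)), (.ofNat (nat_lit 0))⟩, ⟨(.ofNat (nat_lit 2)), (.ofNat (nat_lit 0)), (.ofNat (nat_lit 0)), (.ofNat (nat_lit 0)), (.ofNat (nat_lit 0)), (.ofNat (nat_lit 0)), (.ofNat (nat_lit 0)), (.ofNat (nat_lit 0))⟩⟩))))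
 (.node (nat_lit 173) (.node (nat_lit 172) (.leaf ⟨⟨(.negSucc (nat_lit 0)), (.ofNat (nat_lit 0)), (.ofNat (nat_lit 1)), (.ofNat (nat_lit 0)), (.negSucc (nat_lit 0)), (.ofNat (nat_lit 2)), (.negSucc (nat_lit 0)), (.ofNat (nat_lit 0))⟩, ⟨(.ofNat (nat_lit 2)), (.ofNat (nat_lit 0)), (.ofNat (nat_lit 0)), (.ofNat (nat_lit 0)), (.ofNat (nat_lit 0)), (.ofNat (nat_lit 0)), (.ofNat (nat_lit 0)), (.ofNat (nat_lit 0))⟩, ⟨(.ofNat (nat_lit 2)), (.ofNat (nat_lit 0)), (.ofNat (nat_lit 0)), (.ofNat (nat_lit 0)), (.ofNat (nat_lit 0)), (.ofNat (nat_lit 0)), (.ofNat (nat_lit 0)), (.ofNat (nat_lit 0))⟩⟩) (.leaf ⟨⟨(.ofNat (nat_lit 1)), (.ofNat (nat_lit 0)), (.ofNat (nat_lit 1)), (.negSucc (nat_lit 1)), (.ofNat (nat_lit 1)), (.ofNat (nat_lit 0)), (.negSucc (nat_lit 0)), (.ofNat (nat_lit 0))⟩, ⟨(.ofNat (nat_lit 2)), (.ofNat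 (nat_lit 0)), (.ofNat (nat_lit 0)), (.ofNat (nat_lit 0)), (.ofNat (nat_lit 0)), (.ofNat (nat_lit 0)), (.ofNat (nat_lit 0)), (.ofNat (nat_lit 0))⟩, ⟨(.ofNat (nat_lit 2)), (.ofNat (nat_lit 0)), (.ofNat (nat_lit 0)), (.ofNat (nat_lit 0)), (.ofNat (nat_lit 0)), (.ofNat (nat_lit 0)), (.ofNat (nat_lit 0)), (.ofNat (nat_lit 0))⟩⟩)) (.node (nat_lit 174) (.leaf ⟨⟨(.ofNat (nat_lit 1)), (.negSucc (nat_lit 1)), (.negSucc (nat_lit 0)), (.ofNat (nat_lit 0)), (.negSucc (nat_lit 0)), (.ofNat (nat_lit 0)), (.negSucc (nat_lit 0)), (.ofNat (nat_lit 0))⟩, ⟨(.ofNat (nat_lit 2)), (.ofNat (nat_lit 0)), (.ofNat (nat_lit 0)), (.ofNat (nat_lit 0)), (.ofNat (nat_lit 0)), (.ofNat (nat_lit 0)), (.ofNat (nat_lit 0)), (.ofNat (nat_lit 0))⟩, ⟨(.ofNat (nat_lit 2)), (.ofNat (nat_lit 0)), (.ofNat (nat_lit 0)), (.ofNat (nat_lit 0)),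 (.ofNat (nat_lit 0)), (.ofNat (nat_lit 0)), (.ofNat (nat_lit 0)), (.ofNat (nat_lit 0))⟩⟩) (.node (nat_lit 175) (.leaf ⟨⟨(.ofNat (nat_lit 1)), (.ofNat (nat_lit 0)), (.ofNat (nat_lit 1)), (.ofNat (nat_lit 0)), (.negSucc (nat_lit 0)), (.ofNat (nat_lit 0)), (.ofNat (nat_lit 1)), (.negSucc (nat_lit 1))⟩, ⟨(.ofNat (nat_lit 2)), (.ofNat (nat_lit 0)), (.ofNat (nat_lit 0)), (.ofNat (nat_lit 0)), (.ofNat (nat_lit 0)), (.ofNat (nat_lit 0)), (.ofNat (nat_lit 0)), (.ofNat (nat_lit 0))⟩, ⟨(.ofNat (nat_lit 2)), (.ofNat (nat_lit 0)), (.ofNat (nat_lit 0)), (.ofNat (nat_lit 0)), (.ofNat (nat_lit 0)), (.ofNat (nat_lit 0)), (.ofNat (nat_lit 0)), (.ofNat (nat_lit 0))⟩⟩) (.leaf ⟨⟨(.ofNat (nat_lit 0)), (.ofNat (nat_lit 0)), (.ofNat (nat_lit 0)), (.ofNat (nat_lit 0)), (.ofNat (nat_lit 0)), (.ofNat (nat_lit 0)), (.ofNat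 (nat_lit 0)), (.ofNat (nat_lit 0))⟩, ⟨(.ofNat (nat_lit 1)), (.negSucc (nat_lit 1)), (.ofNat (nat_lit 1)), (.ofNat (nat_lit 0)), (.ofNat (nat_lit 1)), (.ofNat (nat_lit 0)), (.ofNat (nat_lit 1)), (.ofNat (nat_lit 0))⟩, ⟨(.ofNat (nat_lit 1)), (.negSucc (nat_lit 1)), (.ofNat (nat_lit 1)), (.ofNat (nat_lit 0)), (.ofNat (nat_lit 1)), (.ofNat (nat_lit 0)), (.ofNat (nat_lit 1)), (.ofNat (nat_lit 0))⟩⟩))))))
 (.node (nat_lit 186) (.node (nat_lit 181) (.node (nat_lit 178) (.node (nat_lit 177) (.leaf ⟨⟨(.negSucc (nat_lit 0)), (.ofNat (nat_lit 0)), (.ofNat (nat_lit 1)), (.ofNat (nat_lit 0)), (.ofNat (nat_lit 1)), (.negSucc (nat_lit 1)), (.ofNat (nat_lit 1)), (.ofNat (nat_lit 0))⟩, ⟨(.ofNat (nat_lit 2)), (.ofNat (nat_lit 0)), (.ofNat (nat_lit 0)), (.ofNat (nat_lit 0)), (.ofNat (nat_lit 0)), (.ofNat (nat_lit 0)),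 (.ofNat (nat_lit 0)), (.ofNat (nat_lit 0))⟩, ⟨(.ofNat (nat_lit 0)), (.ofNat (nat_lit 0)), (.ofNat (nat_lit 2)), (.ofNat (nat_lit 0)), (.ofNat (nat_lit 0)), (.ofNat (nat_lit 0)), (.ofNat (nat_lit 0)), (.ofNat (nat_lit 0))⟩⟩) (.leaf ⟨⟨(.ofNat (nat_lit 1)), (.ofNat (nat_lit 0)), (.ofNat (nat_lit 1)), (.negSucc (nat_lit 1)), (.negSucc (nat_lit 0)), (.ofNat (nat_lit 0)), (.ofNat (nat_lit 1)), (.ofNat (nat_lit 0))⟩, ⟨(.ofNat (nat_lit 2)), (.ofNat (nat_lit 0)), (.ofNat (nat_lit 0)), (.ofNat (nat_lit 0)), (.ofNat (nat_lit 0)), (.ofNat (nat_lit 0)), (.ofNat (nat_lit 0)), (.ofNat (nat_lit 0))⟩, ⟨(.ofNat (nat_lit 0)), (.ofNat (nat_lit 0)), (.ofNat (nat_lit 2)), (.ofNat (nat_lit 0)), (.ofNat (nat_lit 0)), (.ofNat (nat_lit 0)), (.ofNat (nat_lit 0)), (.ofNat (nat_lit 0))⟩⟩)) (.node (nat_lit 179) (.leaf ⟨⟨(.negSucc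 (nat_lit 0)), (.ofNat (nat_lit 2)), (.ofNat (nat_lit 1)), (.ofNat (nat_lit 0)), (.negSucc (nat_lit 0)), (.ofNat (nat_lit 0)), (.negSucc (nat_lit 0)), (.ofNat (nat_lit 0))⟩, ⟨(.ofNat (nat_lit 2)), (.ofNat (nat_lit 0)), (.ofNat (nat_lit 0)), (.ofNat (nat_lit 0)), (.ofNat (nat_lit 0)), (.ofNat (nat_lit 0)), (.ofNat (nat_lit 0)), (.ofNat (nat_lit 0))⟩, ⟨(.ofNat (nat_lit 0)), (.ofNat (nat_lit 0)), (.ofNat (nat_lit 2)), (.ofNat (nat_lit 0)), (.ofNat (nat_lit 0)), (.ofNat (nat_lit 0)), (.ofNat (nat_lit 0)), (.ofNat (nat_lit 0))⟩⟩) (.node (nat_lit 180) (.leaf ⟨⟨(.negSucc (nat_lit 0)), (.ofNat (nat_lit 0)), (.negSucc (nat_lit 0)), (.ofNat (nat_lit 0)), (.negSucc (nat_lit 0)), (.ofNat (nat_lit 0)), (.ofNat (nat_lit 1)), (.negSucc (nat_lit 1))⟩, ⟨(.ofNat (nat_lit 2)), (.ofNat (nat_lit 0)), (.ofNat (nat_lit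 0)), (.ofNat (nat_lit 0)), (.ofNat (nat_lit 0)), (.ofNat (nat_lit 0)), (.ofNat (nat_lit 0)), (.ofNat (nat_lit 0))⟩, ⟨(.ofNat (nat_lit 0)), (.ofNat (nat_lit 0)), (.ofNat (nat_lit 2)), (.ofNat (nat_lit 0)), (.ofNat (nat_lit 0)), (.ofNat (nat_lit 0)), (.ofNat (nat_lit 0)), (.ofNat (nat_lit 0))⟩⟩) (.leaf ⟨⟨(.ofNat (nat_lit 1)), (.ofNat (nat_lit 0)), (.ofNat (nat_lit 1)), (.ofNat (nat_lit 0)), (.ofNat (nat_lit 1)), (.ofNat (nat_lit 0)), (.negSucc (nat_lit 0)), (.ofNat (nat_lit 2))⟩, ⟨(.ofNat (nat_lit 2)), (.ofNat (nat_lit 0)), (.ofNat (nat_lit 0)), (.ofNat (nat_lit 0)), (.ofNat (nat_lit 0)), (.ofNat (nat_lit 0)), (.ofNat (nat_lit 0)), (.ofNat (nat_lit 0))⟩, ⟨(.ofNat (nat_lit 0)), (.ofNat (nat_lit 0)), (.ofNat (nat_lit 2)), (.ofNat (nat_lit 0)), (.ofNat (nat_lit 0)), (.ofNat (nat_lit 0)), (.ofNat (nat_lit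 0)), (.ofNat (nat_lit 0))⟩⟩))))
 (.node (nat_lit 183) (.node (nat_lit 182) (.leaf ⟨⟨(.ofNat (nat_lit 1)), (.negSucc (nat_lit 1)), (.negSucc (nat_lit 0)), (.ofNat (nat_lit 0)), (.ofNat (nat_lit 1)), (.ofNat (nat_lit 0)), (.ofNat (nat_lit 1)), (.ofNat (nat_lit 0))⟩, ⟨(.ofNat (nat_lit 2)), (.ofNat (nat_lit 0)), (.ofNat (nat_lit 0)), (.ofNat (nat_lit 0)), (.ofNat (nat_lit 0)), (.ofNat (nat_lit 0)), (.ofNat (nat_lit 0)), (.ofNat (nat_lit 0))⟩, ⟨(.ofNat (nat_lit 0)), (.ofNat (nat_lit 0)), (.ofNat (nat_lit 2)), (.ofNat (nat_lit 0)), (.ofNat (nat_lit 0)), (.ofNat (nat_lit 0)), (.ofNat (nat_lit 0)), (.ofNat (nat_lit 0))⟩⟩) (.leaf ⟨⟨(.negSucc (nat_lit 0)), (.ofNat (nat_lit 0)), (.negSucc (nat_lit 0)), (.ofNat (nat_lit 2)), (.ofNat (nat_lit 1)), (.ofNat (nat_lit 0)), (.negSucc (nat_lit 0)), (.ofNat (nat_lit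 0))⟩, ⟨(.ofNat (nat_lit 2)), (.ofNat (nat_lit 0)), (.ofNat (nat_lit 0)), (.ofNat (nat_lit 0)), (.ofNat (nat_lit 0)), (.ofNat (nat_lit 0)), (.ofNat (nat_lit 0)), (.ofNat (nat_lit 0))⟩, ⟨(.ofNat (nat_lit 0)), (.ofNat (nat_lit 0)), (.ofNat (nat_lit 2)), (.ofNat (nat_lit 0)), (.ofNat (nat_lit 0)), (.ofNat (nat_lit 0)), (.ofNat (nat_lit 0)), (.ofNat (nat_lit 0))⟩⟩)) (.node (nat_lit 184) (.leaf ⟨⟨(.ofNat (nat_lit 1)), (.ofNat (nat_lit 0)), (.negSucc (nat_lit 0)), (.ofNat (nat_lit 0)), (.negSucc (nat_lit 0)), (.ofNat (nat_lit 2)), (.negSucc (nat_lit 0)), (.ofNat (nat_lit 0))⟩, ⟨(.ofNat (nat_lit 2)), (.ofNat (nat_lit 0)), (.ofNat (nat_lit 0)), (.ofNat (nat_lit 0)), (.ofNat (nat_lit 0)), (.ofNat (nat_lit 0)), (.ofNat (nat_lit 0)), (.ofNat (nat_lit 0))⟩, ⟨(.ofNat (nat_lit 0)), (.ofNat (nat_lit 0)), (.ofNat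 (nat_lit 2)), (.ofNat (nat_lit 0)), (.ofNat (nat_lit 0)), (.ofNat (nat_lit 0)), (.ofNat (nat_lit 0)), (.ofNat (nat_lit 0))⟩⟩) (.node (nat_lit 185) (.leaf ⟨⟨(.ofNat (nat_lit 0)), (.ofNat (nat_lit 0)), (.ofNat (nat_lit 0)), (.ofNat (nat_lit 0)), (.ofNat (nat_lit 0)), (.ofNat (nat_lit 0)), (.ofNat (nat_lit 0)), (.ofNat (nat_lit 0))⟩, ⟨(.ofNat (nat_lit 1)), (.negSucc (nat_lit 1)), (.ofNat (nat_lit 1)), (.ofNat (nat_lit 0)), (.ofNat (nat_lit 1)), (.ofNat (nat_lit 0)), (.ofNat (nat_lit 1)), (.ofNat (nat_lit 0))⟩, ⟨(.negSucc (nat_lit 0)), (.ofNat (nat_lit 0)), (.ofNat (nat_lit 1)), (.negSucc (nat_lit 1)), (.ofNat (nat_lit 1)), (.ofNat (nat_lit 0)), (.negSucc (nat_lit 0)), (.ofNat (nat_lit 0))⟩⟩) (.leaf ⟨⟨(.ofNat (nat_lit 1)), (.ofNat (nat_lit 0)), (.negSucc (nat_lit 0)), (.ofNat (nat_lit 2)), (.ofNat (nat_lit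 1)), (.ofNat (nat_lit 0)), (.ofNat (nat_lit 1)), (.ofNat (nat_lit 0))⟩, ⟨(.ofNat (nat_lit 2)), (.ofNat (nat_lit 0)), (.ofNat (nat_lit 0)), (.ofNat (nat_lit 0)), (.ofNat (nat_lit 0)), (.ofNat (nat_lit 0)), (.ofNat (nat_lit 0)), (.ofNat (nat_lit 0))⟩, ⟨(.ofNat (nat_lit 0)), (.ofNat (nat_lit 0)), (.ofNat (nat_lit 0)), (.ofNat (nat_lit 0)), (.ofNat (nat_lit 2)), (.ofNat (nat_lit 0)), (.ofNat (nat_lit 0)), (.ofNat (nat_lit 0))⟩⟩)))))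
 (.node (nat_lit 191) (.node (nat_lit 188) (.node (nat_lit 187) (.leaf ⟨⟨(.ofNat (nat_lit 1)), (.negSucc (nat_lit 1)), (.ofNat (nat_lit 1)), (.ofNat (nat_lit 0)), (.negSucc (nat_lit 0)), (.ofNat (nat_lit 0)), (.ofNat (nat_lit 1)), (.ofNat (nat_lit 0))⟩, ⟨(.ofNat (nat_lit 2)), (.ofNat (nat_lit 0)), (.ofNat (nat_lit 0)), (.ofNat (nat_lit 0)), (.ofNat (nat_lit 0)), (.ofNat (nat_lit 0)), (.ofNat (nat_lit 0)), (.ofNat (nat_lit 0))⟩, ⟨(.ofNat (nat_lit 0)), (.ofNat (nat_lit 0)), (.ofNat (nat_lit 0)), (.ofNat (nat_lit 0)), (.ofNat (nat_lit 2)), (.ofNat (nat_lit 0)), (.ofNat (nat_lit 0)), (.ofNat (nat_lit 0))⟩⟩) (.leaf ⟨⟨(.negSucc (nat_lit 0)), (.ofNat (nat_lit 0)), (.ofNat (nat_lit 1)), (.ofNat (nat_lit 0)), (.ofNat (nat_lit 1)), (.ofNat (nat_lit 0)), (.ofNat (nat_lit 1)), (.negSucc (nat_lit 1))⟩, ⟨(.ofNat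 (nat_lit 2)), (.ofNat (nat_lit 0)), (.ofNat (nat_lit 0)), (.ofNat (nat_lit 0)), (.ofNat (nat_lit 0)), (.ofNat (nat_lit 0)), (.ofNat (nat_lit 0)), (.ofNat (nat_lit 0))⟩, ⟨(.ofNat (nat_lit 0)), (.ofNat (nat_lit 0)), (.ofNat (nat_lit 0)), (.ofNat (nat_lit 0)), (.ofNat (nat_lit 2)), (.ofNat (nat_lit 0)), (.ofNat (nat_lit 0)), (.ofNat (nat_lit 0))⟩⟩)) (.node (nat_lit 189) (.leaf ⟨⟨(.ofNat (nat_lit 1)), (.ofNat (nat_lit 0)), (.ofNat (nat_lit 1)), (.ofNat (nat_lit 0)), (.ofNat (nat_lit 1)), (.negSucc (nat_lit 1)), (.negSucc (nat_lit 0)), (.ofNat (nat_lit 0))⟩, ⟨(.ofNat (nat_lit 2)), (.ofNat (nat_lit 0)), (.ofNat (nat_lit 0)), (.ofNat (nat_lit 0)), (.ofNat (nat_lit 0)), (.ofNat (nat_lit 0)), (.ofNat (nat_lit 0)), (.ofNat (nat_lit 0))⟩, ⟨(.ofNat (nat_lit 0)), (.ofNat (nat_lit 0)), (.ofNat (nat_lit 0)), (.ofNat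 (nat_lit 0)), (.ofNat (nat_lit 2)), (.ofNat (nat_lit 0)), (.ofNat (nat_lit 0)), (.ofNat (nat_lit 0))⟩⟩) (.node (nat_lit 190) (.leaf ⟨⟨(.negSucc (nat_lit 0)), (.ofNat (nat_lit 0)), (.negSucc (nat_lit 0)), (.ofNat (nat_lit 0)), (.negSucc (nat_lit 0)), (.ofNat (nat_lit 2)), (.ofNat (nat_lit 1)), (.ofNat (nat_lit 0))⟩, ⟨(.ofNat (nat_lit 2)), (.ofNat (nat_lit 0)), (.ofNat (nat_lit 0)), (.ofNat (nat_lit 0)), (.ofNat (nat_lit 0)), (.ofNat (nat_lit 0)), (.ofNat (nat_lit 0)), (.ofNat (nat_lit 0))⟩, ⟨(.ofNat (nat_lit 0)), (.ofNat (nat_lit 0)), (.ofNat (nat_lit 0)), (.ofNat (nat_lit 0)), (.ofNat (nat_lit 2)), (.ofNat (nat_lit 0)), (.ofNat (nat_lit 0)), (.ofNat (nat_lit 0))⟩⟩) (.leaf ⟨⟨(.ofNat (nat_lit 1)), (.ofNat (nat_lit 0)), (.negSucc (nat_lit 0)), (.ofNat (nat_lit 0)), (.negSucc (nat_lit 0)), (.ofNat (nat_lit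 0)), (.negSucc (nat_lit 0)), (.ofNat (nat_lit 2))⟩, ⟨(.ofNat (nat_lit 2)), (.ofNat (nat_lit 0)), (.ofNat (nat_lit 0)), (.ofNat (nat_lit 0)), (.ofNat (nat_lit 0)), (.ofNat (nat_lit 0)), (.ofNat (nat_lit 0)), (.ofNat (nat_lit 0))⟩, ⟨(.ofNat (nat_lit 0)), (.ofNat (nat_lit 0)), (.ofNat (nat_lit 0)), (.ofNat (nat_lit 0)), (.ofNat (nat_lit 2)), (.ofNat (nat_lit 0)), (.ofNat (nat_lit 0)), (.ofNat (nat_lit 0))⟩⟩))))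
 (.node (nat_lit 193) (.node (nat_lit 192) (.leaf ⟨⟨(.negSucc (nat_lit 0)), (.ofNat (nat_lit 2)), (.negSucc (nat_lit 0)), (.ofNat (nat_lit 0)), (.ofNat (nat_lit 1)), (.ofNat (nat_lit 0)), (.negSucc (nat_lit 0)), (.ofNat (nat_lit 0))⟩, ⟨(.ofNat (nat_lit 2)), (.ofNat (nat_lit 0)), (.ofNat (nat_lit 0)), (.ofNat (nat_lit 0)), (.ofNat (nat_lit 0)), (.ofNat (nat_lit 0)), (.ofNat (nat_lit 0)), (.ofNat (nat_lit 0))⟩, ⟨(.ofNat (nat_lit 0)), (.ofNat (nat_lit 0)), (.ofNat (nat_lit 0)), (.ofNat (nat_lit 0)), (.ofNat (nat_lit 2)), (.ofNat (nat_lit 0)), (.ofNat (nat_lit 0)), (.ofNat (nat_lit 0))⟩⟩) (.leaf ⟨⟨(.negSucc (nat_lit 0)), (.ofNat (nat_lit 0)), (.ofNat (nat_lit 1)), (.negSucc (nat_lit 1)), (.negSucc (nat_lit 0)), (.ofNat (nat_lit 0)), (.negSucc (nat_lit 0)), (.ofNat (nat_lit 0))⟩, ⟨(.ofNat (nat_lit 2)),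 (.ofNat (nat_lit 0)), (.ofNat (nat_lit 0)), (.ofNat (nat_lit 0)), (.ofNat (nat_lit 0)), (.ofNat (nat_lit 0)), (.ofNat (nat_lit 0)), (.ofNat (nat_lit 0))⟩, ⟨(.ofNat (nat_lit 0)), (.ofNat (nat_lit 0)), (.ofNat (nat_lit 0)), (.ofNat (nat_lit 0)), (.ofNat (nat_lit 2)), (.ofNat (nat_lit 0)), (.ofNat (nat_lit 0)), (.ofNat (nat_lit 0))⟩⟩)) (.node (nat_lit 194) (.leaf ⟨⟨(.ofNat (nat_lit 0)), (.ofNat (nat_lit 0)), (.ofNat (nat_lit 0)), (.ofNat (nat_lit 0)), (.ofNat (nat_lit 0)), (.ofNat (nat_lit 0)), (.ofNat (nat_lit 0)), (.ofNat (nat_lit 0))⟩, ⟨(.ofNat (nat_lit 1)), (.negSucc (nat_lit 1)), (.ofNat (nat_lit 1)), (.ofNat (nat_lit 0)), (.ofNat (nat_lit 1)), (.ofNat (nat_lit 0)), (.ofNat (nat_lit 1)), (.ofNat (nat_lit 0))⟩, ⟨(.negSucc (nat_lit 0)), (.ofNat (nat_lit 0)), (.negSucc (nat_lit 0)), (.ofNat (nat_lit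 0)), (.ofNat (nat_lit 1)), (.negSucc (nat_lit 1)), (.ofNat (nat_lit 1)), (.ofNat (nat_lit 0))⟩⟩) (.node (nat_lit 195) (.leaf ⟨⟨(.ofNat (nat_lit 2)), (.ofNat (nat_lit 0)), (.ofNat (nat_lit 0)), (.ofNat (nat_lit 0)), (.ofNat (nat_lit 0)), (.ofNat (nat_lit 0)), (.ofNat (nat_lit 0)), (.ofNat (nat_lit 0))⟩, ⟨(.ofNat (nat_lit 1)), (.ofNat (nat_lit 0)), (.negSucc (nat_lit 0)), (.ofNat (nat_lit 0)), (.ofNat (nat_lit 1)), (.negSucc (nat_lit 1)), (.ofNat (nat_lit 1)), (.ofNat (nat_lit 0))⟩, ⟨(.negSucc (nat_lit 1)), (.ofNat (nat_lit 0)), (.ofNat (nat_lit 0)), (.ofNat (nat_lit 0)), (.ofNat (nat_lit 0)), (.ofNat (nat_lit 0)), (.ofNat (nat_lit 0)), (.ofNat (nat_lit 0))⟩⟩) (.leaf ⟨⟨(.ofNat (nat_lit 2)), (.ofNat (nat_lit 0)), (.ofNat (nat_lit 0)), (.ofNat (nat_lit 0)), (.ofNat (nat_lit 0)), (.ofNat (nat_lit 0)),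 (.ofNat (nat_lit 0)), (.ofNat (nat_lit 0))⟩, ⟨(.negSucc (nat_lit 0)), (.ofNat (nat_lit 0)), (.ofNat (nat_lit 1)), (.ofNat (nat_lit 0)), (.negSucc (nat_lit 0)), (.ofNat (nat_lit 2)), (.negSucc (nat_lit 0)), (.ofNat (nat_lit 0))⟩, ⟨(.ofNat (nat_lit 2)), (.ofNat (nat_lit 0)), (.ofNat (nat_lit 0)), (.ofNat (nat_lit 0)), (.ofNat (nat_lit 0)), (.ofNat (nat_lit 0)), (.ofNat (nat_lit 0)), (.ofNat (nat_lit 0))⟩⟩)))))))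
 (.node (nat_lit 216) (.node (nat_lit 206) (.node (nat_lit 201) (.node (nat_lit 198) (.node (nat_lit 197) (.leaf ⟨⟨(.ofNat (nat_lit 2)), (.ofNat (nat_lit 0)), (.ofNat (nat_lit 0)), (.ofNat (nat_lit 0)), (.ofNat (nat_lit 0)), (.ofNat (nat_lit 0)), (.ofNat (nat_lit 0)), (.ofNat (nat_lit 0))⟩, ⟨(.negSucc (nat_lit 1)), (.ofNat (nat_lit 0)), (.ofNat (nat_lit 0)), (.ofNat (nat_lit 0)), (.ofNat (nat_lit 0)), (.ofNat (nat_lit 0)), (.ofNat (nat_lit 0)), (.ofNat (nat_lit 0))⟩, ⟨(.negSucc (nat_lit 0)), (.ofNat (nat_lit 0)), (.ofNat (nat_lit 1)), (.ofNat (nat_lit 0)), (.negSucc (nat_lit 0)), (.ofNat (nat_lit 2)), (.negSucc (nat_lit 0)), (.ofNat (nat_lit 0))⟩⟩) (.leaf ⟨⟨(.ofNat (nat_lit 2)), (.ofNat (nat_lit 0)), (.ofNat (nat_lit 0)), (.ofNat (nat_lit 0)), (.ofNat (nat_lit 0)), (.ofNat (nat_lit 0)), (.ofNat (nat_lit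 0)), (.ofNat (nat_lit 0))⟩, ⟨(.ofNat (nat_lit 2)), (.ofNat (nat_lit 0)), (.ofNat (nat_lit 0)), (.ofNat (nat_lit 0)), (.ofNat (nat_lit 0)), (.ofNat (nat_lit 0)), (.ofNat (nat_lit 0)), (.ofNat (nat_lit 0))⟩, ⟨(.ofNat (nat_lit 1)), (.ofNat (nat_lit 0)), (.negSucc (nat_lit 0)), (.ofNat (nat_lit 0)), (.ofNat (nat_lit 1)), (.negSucc (nat_lit 1)), (.ofNat (nat_lit 1)), (.ofNat (nat_lit 0))⟩⟩)) (.node (nat_lit 199) (.leaf ⟨⟨(.ofNat (nat_lit 2)), (.ofNat (nat_lit 0)), (.ofNat (nat_lit 0)), (.ofNat (nat_lit 0)), (.ofNat (nat_lit 0)), (.ofNat (nat_lit 0)), (.ofNat (nat_lit 0)), (.ofNat (nat_lit 0))⟩, ⟨(.ofNat (nat_lit 0)), (.ofNat (nat_lit 0)), (.ofNat (nat_lit 2)), (.ofNat (nat_lit 0)), (.ofNat (nat_lit 0)), (.ofNat (nat_lit 0)), (.ofNat (nat_lit 0)), (.ofNat (nat_lit 0))⟩, ⟨(.negSucc (nat_lit 0)), (.ofNat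 (nat_lit 0)), (.negSucc (nat_lit 0)), (.ofNat (nat_lit 0)), (.negSucc (nat_lit 0)), (.ofNat (nat_lit 0)), (.ofNat (nat_lit 1)), (.negSucc (nat_lit 1))⟩⟩) (.node (nat_lit 200) (.leaf ⟨⟨(.ofNat (nat_lit 2)), (.ofNat (nat_lit 0)), (.ofNat (nat_lit 0)), (.ofNat (nat_lit 0)), (.ofNat (nat_lit 0)), (.ofNat (nat_lit 0)), (.ofNat (nat_lit 0)), (.ofNat (nat_lit 0))⟩, ⟨(.ofNat (nat_lit 0)), (.ofNat (nat_lit 0)), (.negSucc (nat_lit 1)), (.ofNat (nat_lit 0)), (.ofNat (nat_lit 0)), (.ofNat (nat_lit 0)), (.ofNat (nat_lit 0)), (.ofNat (nat_lit 0))⟩, ⟨(.ofNat (nat_lit 1)), (.ofNat (nat_lit 0)), (.ofNat (nat_lit 1)), (.ofNat (nat_lit 0)), (.ofNat (nat_lit 1)), (.ofNat (nat_lit 0)), (.negSucc (nat_lit 0)), (.ofNat (nat_lit 2))⟩⟩) (.leaf ⟨⟨(.ofNat (nat_lit 2)), (.ofNat (nat_lit 0)), (.ofNat (nat_lit 0)), (.ofNat (nat_lit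 0)), (.ofNat (nat_lit 0)), (.ofNat (nat_lit 0)), (.ofNat (nat_lit 0)), (.ofNat (nat_lit 0))⟩, ⟨(.negSucc (nat_lit 0)), (.ofNat (nat_lit 0)), (.negSucc (nat_lit 0)), (.ofNat (nat_lit 0)), (.negSucc (nat_lit 0)), (.ofNat (nat_lit 0)), (.ofNat (nat_lit 1)), (.negSucc (nat_lit 1))⟩, ⟨(.ofNat (nat_lit 0)), (.ofNat (nat_lit 0)), (.negSucc (nat_lit 1)), (.ofNat (nat_lit 0)), (.ofNat (nat_lit 0)), (.ofNat (nat_lit 0)), (.ofNat (nat_lit 0)), (.ofNat (nat_lit 0))⟩⟩))))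
 (.node (nat_lit 203) (.node (nat_lit 202) (.leaf ⟨⟨(.ofNat (nat_lit 2)), (.ofNat (nat_lit 0)), (.ofNat (nat_lit 0)), (.ofNat (nat_lit 0)), (.ofNat (nat_lit 0)), (.ofNat (nat_lit 0)), (.ofNat (nat_lit 0)), (.ofNat (nat_lit 0))⟩, ⟨(.ofNat (nat_lit 1)), (.ofNat (nat_lit 0)), (.ofNat (nat_lit 1)), (.ofNat (nat_lit 0)), (.ofNat (nat_lit 1)), (.ofNat (nat_lit 0)), (.negSucc (nat_lit 0)), (.ofNat (nat_lit 2))⟩, ⟨(.ofNat (nat_lit 0)), (.ofNat (nat_lit 0)), (.ofNat (nat_lit 2)), (.ofNat (nat_lit 0)), (.ofNat (nat_lit 0)), (.ofNat (nat_lit 0)), (.ofNat (nat_lit 0)), (.ofNat (nat_lit 0))⟩⟩) (.leaf ⟨⟨(.ofNat (nat_lit 2)), (.ofNat (nat_lit 0)), (.ofNat (nat_lit 0)), (.ofNat (nat_lit 0)), (.ofNat (nat_lit 0)), (.ofNat (nat_lit 0)), (.ofNat (nat_lit 0)), (.ofNat (nat_lit 0))⟩, ⟨(.negSucc (nat_lit 0)), (.ofNat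 (nat_lit 2)), (.ofNat (nat_lit 1)), (.ofNat (nat_lit 0)), (.negSucc (nat_lit 0)), (.ofNat (nat_lit 0)), (.negSucc (nat_lit 0)), (.ofNat (nat_lit 0))⟩, ⟨(.ofNat (nat_lit 0)), (.ofNat (nat_lit 0)), (.negSucc (nat_lit 1)), (.ofNat (nat_lit 0)), (.ofNat (nat_lit 0)), (.ofNat (nat_lit 0)), (.ofNat (nat_lit 0)), (.ofNat (nat_lit 0))⟩⟩)) (.node (nat_lit 204) (.leaf ⟨⟨(.ofNat (nat_lit 2)), (.ofNat (nat_lit 0)), (.ofNat (nat_lit 0)), (.ofNat (nat_lit 0)), (.ofNat (nat_lit 0)), (.ofNat (nat_lit 0)), (.ofNat (nat_lit 0)), (.ofNat (nat_lit 0))⟩, ⟨(.ofNat (nat_lit 1)), (.negSucc (nat_lit 1)), (.negSucc (nat_lit 0)), (.ofNat (nat_lit 0)), (.ofNat (nat_lit 1)), (.ofNat (nat_lit 0)), (.ofNat (nat_lit 1)), (.ofNat (nat_lit 0))⟩, ⟨(.ofNat (nat_lit 0)), (.ofNat (nat_lit 0)), (.ofNat (nat_lit 2)), (.ofNat (nat_lit 0)),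 (.ofNat (nat_lit 0)), (.ofNat (nat_lit 0)), (.ofNat (nat_lit 0)), (.ofNat (nat_lit 0))⟩⟩) (.node (nat_lit 205) (.leaf ⟨⟨(.ofNat (nat_lit 2)), (.ofNat (nat_lit 0)), (.ofNat (nat_lit 0)), (.ofNat (nat_lit 0)), (.ofNat (nat_lit 0)), (.ofNat (nat_lit 0)), (.ofNat (nat_lit 0)), (.ofNat (nat_lit 0))⟩, ⟨(.ofNat (nat_lit 0)), (.ofNat (nat_lit 0)), (.ofNat (nat_lit 2)), (.ofNat (nat_lit 0)), (.ofNat (nat_lit 0)), (.ofNat (nat_lit 0)), (.ofNat (nat_lit 0)), (.ofNat (nat_lit 0))⟩, ⟨(.negSucc (nat_lit 0)), (.ofNat (nat_lit 2)), (.ofNat (nat_lit 1)), (.ofNat (nat_lit 0)), (.negSucc (nat_lit 0)), (.ofNat (nat_lit 0)), (.negSucc (nat_lit 0)), (.ofNat (nat_lit 0))⟩⟩) (.leaf ⟨⟨(.ofNat (nat_lit 2)), (.ofNat (nat_lit 0)), (.ofNat (nat_lit 0)), (.ofNat (nat_lit 0)), (.ofNat (nat_lit 0)), (.ofNat (nat_lit 0)), (.ofNat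 (nat_lit 0)), (.ofNat (nat_lit 0))⟩, ⟨(.ofNat (nat_lit 0)), (.ofNat (nat_lit 0)), (.negSucc (nat_lit 1)), (.ofNat (nat_lit 0)), (.ofNat (nat_lit 0)), (.ofNat (nat_lit 0)), (.ofNat (nat_lit 0)), (.ofNat (nat_lit 0))⟩, ⟨(.ofNat (nat_lit 1)), (.negSucc (nat_lit 1)), (.negSucc (nat_lit 0)), (.ofNat (nat_lit 0)), (.ofNat (nat_lit 1)), (.ofNat (nat_lit 0)), (.ofNat (nat_lit 1)), (.ofNat (nat_lit 0))⟩⟩)))))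
 (.node (nat_lit 211) (.node (nat_lit 208) (.node (nat_lit 207) (.leaf ⟨⟨(.ofNat (nat_lit 2)), (.ofNat (nat_lit 0)), (.ofNat (nat_lit 0)), (.ofNat (nat_lit 0)), (.ofNat (nat_lit 0)), (.ofNat (nat_lit 0)), (.ofNat (nat_lit 0)), (.ofNat (nat_lit 0))⟩, ⟨(.negSucc (nat_lit 0)), (.ofNat (nat_lit 0)), (.ofNat (nat_lit 1)), (.ofNat (nat_lit 0)), (.negSucc (nat_lit 0)), (.ofNat (nat_lit 0)), (.negSucc (nat_lit 0)), (.ofNat (nat_lit 2))⟩, ⟨(.ofNat (nat_lit 0)), (.ofNat (nat_lit 0)), (.ofNat (nat_lit 0)), (.ofNat (nat_lit 0)), (.ofNat (nat_lit 0)), (.ofNat (nat_lit 0)), (.negSucc (nat_lit 1)), (.ofNat (nat_lit 0))⟩⟩) (.leaf ⟨⟨(.ofNat (nat_lit 2)), (.ofNat (nat_lit 0)), (.ofNat (nat_lit 0)), (.ofNat (nat_lit 0)), (.ofNat (nat_lit 0)), (.ofNat (nat_lit 0)), (.ofNat (nat_lit 0)), (.ofNat (nat_lit 0))⟩, ⟨(.ofNat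 (nat_lit 1)), (.ofNat (nat_lit 0)), (.negSucc (nat_lit 0)), (.ofNat (nat_lit 0)), (.ofNat (nat_lit 1)), (.ofNat (nat_lit 0)), (.ofNat (nat_lit 1)), (.negSucc (nat_lit 1))⟩, ⟨(.ofNat (nat_lit 0)), (.ofNat (nat_lit 0)), (.ofNat (nat_lit 0)), (.ofNat (nat_lit 0)), (.ofNat (nat_lit 0)), (.ofNat (nat_lit 0)), (.ofNat (nat_lit 2)), (.ofNat (nat_lit 0))⟩⟩)) (.node (nat_lit 209) (.leaf ⟨⟨(.ofNat (nat_lit 2)), (.ofNat (nat_lit 0)), (.ofNat (nat_lit 0)), (.ofNat (nat_lit 0)), (.ofNat (nat_lit 0)), (.ofNat (nat_lit 0)), (.ofNat (nat_lit 0)), (.ofNat (nat_lit 0))⟩, ⟨(.ofNat (nat_lit 0)), (.negSucc (nat_lit 0)), (.ofNat (nat_lit 0)), (.ofNat (nat_lit 1)), (.ofNat (nat_lit 0)), (.negSucc (nat_lit 0)), (.ofNat (nat_lit 0)), (.negSucc (nat_lit 0))⟩, ⟨(.negSucc (nat_lit 0)), (.ofNat (nat_lit 1)), (.ofNat (nat_lit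 1)), (.negSucc (nat_lit 0)), (.negSucc (nat_lit 0)), (.ofNat (nat_lit 1)), (.ofNat (nat_lit 1)), (.negSucc (nat_lit 0))⟩⟩) (.node (nat_lit 210) (.leaf ⟨⟨(.ofNat (nat_lit 2)), (.ofNat (nat_lit 0)), (.ofNat (nat_lit 0)), (.ofNat (nat_lit 0)), (.ofNat (nat_lit 0)), (.ofNat (nat_lit 0)), (.ofNat (nat_lit 0)), (.ofNat (nat_lit 0))⟩, ⟨(.ofNat (nat_lit 0)), (.ofNat (nat_lit 1)), (.ofNat (nat_lit 0)), (.negSucc (nat_lit 0)), (.ofNat (nat_lit 0)), (.ofNat (nat_lit 1)), (.ofNat (nat_lit 0)), (.ofNat (nat_lit 1))⟩, ⟨(.ofNat (nat_lit 1)), (.negSucc (nat_lit 0)), (.negSucc (nat_lit 0)), (.ofNat (nat_lit 1)), (.ofNat (nat_lit 1)), (.negSucc (nat_lit 0)), (.negSucc (nat_lit 0)), (.ofNat (nat_lit 1))⟩⟩) (.leaf ⟨⟨(.ofNat (nat_lit 2)), (.ofNat (nat_lit 0)), (.ofNat (nat_lit 0)), (.ofNat (nat_lit 0)), (.ofNat (nat_lit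 0)), (.ofNat (nat_lit 0)), (.ofNat (nat_lit 0)), (.ofNat (nat_lit 0))⟩, ⟨(.ofNat (nat_lit 1)), (.negSucc (nat_lit 0)), (.negSucc (nat_lit 0)), (.ofNat (nat_lit 1)), (.ofNat (nat_lit 1)), (.negSucc (nat_lit 0)), (.negSucc (nat_lit 0)), (.ofNat (nat_lit 1))⟩, ⟨(.ofNat (nat_lit 0)), (.negSucc (nat_lit 0)), (.ofNat (nat_lit 0)), (.ofNat (nat_lit 1)), (.ofNat (nat_lit 0)), (.negSucc (nat_lit 0)), (.ofNat (nat_lit 0)), (.negSucc (nat_lit 0))⟩⟩))))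
 (.node (nat_lit 213) (.node (nat_lit 212) (.leaf ⟨⟨(.ofNat (nat_lit 2)), (.ofNat (nat_lit 0)), (.ofNat (nat_lit 0)), (.ofNat (nat_lit 0)), (.ofNat (nat_lit 0)), (.ofNat (nat_lit 0)), (.ofNat (nat_lit 0)), (.ofNat (nat_lit 0))⟩, ⟨(.negSucc (nat_lit 0)), (.ofNat (nat_lit 1)), (.ofNat (nat_lit 1)), (.negSucc (nat_lit 0)), (.negSucc (nat_lit 0)), (.ofNat (nat_lit 1)), (.ofNat (nat_lit 1)), (.negSucc (nat_lit 0))⟩, ⟨(.ofNat (nat_lit 0)), (.ofNat (nat_lit 1)), (.ofNat (nat_lit 0)), (.negSucc (nat_lit 0)), (.ofNat (nat_lit 0)), (.ofNat (nat_lit 1)), (.ofNat (nat_lit 0)), (.ofNat (nat_lit 1))⟩⟩) (.leaf ⟨⟨(.ofNat (nat_lit 2)), (.ofNat (nat_lit 0)), (.ofNat (nat_lit 0)), (.ofNat (nat_lit 0)), (.ofNat (nat_lit 0)), (.ofNat (nat_lit 0)), (.ofNat (nat_lit 0)), (.ofNat (nat_lit 0))⟩, ⟨(.ofNat (nat_lit 0)), (.ofNat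 (nat_lit 0)), (.ofNat (nat_lit 0)), (.ofNat (nat_lit 0)), (.ofNat (nat_lit 0)), (.ofNat (nat_lit 0)), (.negSucc (nat_lit 1)), (.ofNat (nat_lit 0))⟩, ⟨(.ofNat (nat_lit 1)), (.ofNat (nat_lit 0)), (.negSucc (nat_lit 0)), (.ofNat (nat_lit 0)), (.ofNat (nat_lit 1)), (.ofNat (nat_lit 0)), (.ofNat (nat_lit 1)), (.negSucc (nat_lit 1))⟩⟩)) (.node (nat_lit 214) (.leaf ⟨⟨(.ofNat (nat_lit 2)), (.ofNat (nat_lit 0)), (.ofNat (nat_lit 0)), (.ofNat (nat_lit 0)), (.ofNat (nat_lit 0)), (.ofNat (nat_lit 0)), (.ofNat (nat_lit 0)), (.ofNat (nat_lit 0))⟩, ⟨(.ofNat (nat_lit 0)), (.ofNat (nat_lit 0)), (.ofNat (nat_lit 0)), (.ofNat (nat_lit 0)), (.ofNat (nat_lit 0)), (.ofNat (nat_lit 0)), (.ofNat (nat_lit 2)), (.ofNat (nat_lit 0))⟩, ⟨(.negSucc (nat_lit 0)), (.ofNat (nat_lit 0)), (.ofNat (nat_lit 1)), (.ofNat (nat_lit 0)),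 (.negSucc (nat_lit 0)), (.ofNat (nat_lit 0)), (.negSucc (nat_lit 0)), (.ofNat (nat_lit 2))⟩⟩) (.node (nat_lit 215) (.leaf ⟨⟨(.ofNat (nat_lit 2)), (.ofNat (nat_lit 0)), (.ofNat (nat_lit 0)), (.ofNat (nat_lit 0)), (.ofNat (nat_lit 0)), (.ofNat (nat_lit 0)), (.ofNat (nat_lit 0)), (.ofNat (nat_lit 0))⟩, ⟨(.ofNat (nat_lit 0)), (.ofNat (nat_lit 0)), (.ofNat (nat_lit 0)), (.ofNat (nat_lit 0)), (.ofNat (nat_lit 2)), (.ofNat (nat_lit 0)), (.ofNat (nat_lit 0)), (.ofNat (nat_lit 0))⟩, ⟨(.ofNat (nat_lit 1)), (.ofNat (nat_lit 0)), (.ofNat (nat_lit 1)), (.ofNat (nat_lit 0)), (.ofNat (nat_lit 1)), (.negSucc (nat_lit 1)), (.negSucc (nat_lit 0)), (.ofNat (nat_lit 0))⟩⟩) (.leaf ⟨⟨(.ofNat (nat_lit 2)), (.ofNat (nat_lit 0)), (.ofNat (nat_lit 0)), (.ofNat (nat_lit 0)), (.ofNat (nat_lit 0)), (.ofNat (nat_lit 0)), (.ofNat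 (nat_lit 0)), (.ofNat (nat_lit 0))⟩, ⟨(.ofNat (nat_lit 0)), (.ofNat (nat_lit 0)), (.ofNat (nat_lit 0)), (.ofNat (nat_lit 0)), (.negSucc (nat_lit 1)), (.ofNat (nat_lit 0)), (.ofNat (nat_lit 0)), (.ofNat (nat_lit 0))⟩, ⟨(.negSucc (nat_lit 0)), (.ofNat (nat_lit 0)), (.negSucc (nat_lit 0)), (.ofNat (nat_lit 0)), (.negSucc (nat_lit 0)), (.ofNat (nat_lit 2)), (.ofNat (nat_lit 1)), (.ofNat (nat_lit 0))⟩⟩))))))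
 (.node (nat_lit 226) (.node (nat_lit 221) (.node (nat_lit 218) (.node (nat_lit 217) (.leaf ⟨⟨(.ofNat (nat_lit 2)), (.ofNat (nat_lit 0)), (.ofNat (nat_lit 0)), (.ofNat (nat_lit 0)), (.ofNat (nat_lit 0)), (.ofNat (nat_lit 0)), (.ofNat (nat_lit 0)), (.ofNat (nat_lit 0))⟩, ⟨(.ofNat (nat_lit 1)), (.negSucc (nat_lit 0)), (.ofNat (nat_lit 1)), (.negSucc (nat_lit 0)), (.negSucc (nat_lit 0)), (.ofNat (nat_lit 1)), (.negSucc (nat_lit 0)), (.ofNat (nat_lit 1))⟩, ⟨(.ofNat (nat_lit 0)), (.ofNat (nat_lit 1)), (.ofNat (nat_lit 0)), (.ofNat (nat_lit 1)), (.ofNat (nat_lit 0)), (.ofNat (nat_lit 1)), (.ofNat (nat_lit 0)), (.negSucc (nat_lit 0))⟩⟩) (.leaf ⟨⟨(.ofNat (nat_lit 2)), (.ofNat (nat_lit 0)), (.ofNat (nat_lit 0)), (.ofNat (nat_lit 0)), (.ofNat (nat_lit 0)), (.ofNat (nat_lit 0)), (.ofNat (nat_lit 0)), (.ofNat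 (nat_lit 0))⟩, ⟨(.negSucc (nat_lit 0)), (.ofNat (nat_lit 1)), (.negSucc (nat_lit 0)), (.ofNat (nat_lit 1)), (.ofNat (nat_lit 1)), (.negSucc (nat_lit 0)), (.ofNat (nat_lit 1)), (.negSucc (nat_lit 0))⟩, ⟨(.ofNat (nat_lit 0)), (.negSucc (nat_lit 0)), (.ofNat (nat_lit 0)), (.negSucc (nat_lit 0)), (.ofNat (nat_lit 0)), (.negSucc (nat_lit 0)), (.ofNat (nat_lit 0)), (.ofNat (nat_lit 1))⟩⟩)) (.node (nat_lit 219) (.leaf ⟨⟨(.ofNat (nat_lit 2)), (.ofNat (nat_lit 0)), (.ofNat (nat_lit 0)), (.ofNat (nat_lit 0)), (.ofNat (nat_lit 0)), (.ofNat (nat_lit 0)), (.ofNat (nat_lit 0)), (.ofNat (nat_lit 0))⟩, ⟨(.ofNat (nat_lit 0)), (.ofNat (nat_lit 1)), (.ofNat (nat_lit 0)), (.ofNat (nat_lit 1)), (.ofNat (nat_lit 0)), (.ofNat (nat_lit 1)), (.ofNat (nat_lit 0)), (.negSucc (nat_lit 0))⟩, ⟨(.negSucc (nat_lit 0)), (.ofNat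 (nat_lit 1)), (.negSucc (nat_lit 0)), (.ofNat (nat_lit 1)), (.ofNat (nat_lit 1)), (.negSucc (nat_lit 0)), (.ofNat (nat_lit 1)), (.negSucc (nat_lit 0))⟩⟩) (.node (nat_lit 220) (.leaf ⟨⟨(.ofNat (nat_lit 2)), (.ofNat (nat_lit 0)), (.ofNat (nat_lit 0)), (.ofNat (nat_lit 0)), (.ofNat (nat_lit 0)), (.ofNat (nat_lit 0)), (.ofNat (nat_lit 0)), (.ofNat (nat_lit 0))⟩, ⟨(.ofNat (nat_lit 0)), (.negSucc (nat_lit 0)), (.ofNat (nat_lit 0)), (.negSucc (nat_lit 0)), (.ofNat (nat_lit 0)), (.negSucc (nat_lit 0)), (.ofNat (nat_lit 0)), (.ofNat (nat_lit 1))⟩, ⟨(.ofNat (nat_lit 1)), (.negSucc (nat_lit 0)), (.ofNat (nat_lit 1)), (.negSucc (nat_lit 0)), (.negSucc (nat_lit 0)), (.ofNat (nat_lit 1)), (.negSucc (nat_lit 0)), (.ofNat (nat_lit 1))⟩⟩) (.leaf ⟨⟨(.ofNat (nat_lit 2)), (.ofNat (nat_lit 0)), (.ofNat (nat_lit 0)),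 (.ofNat (nat_lit 0)), (.ofNat (nat_lit 0)), (.ofNat (nat_lit 0)), (.ofNat (nat_lit 0)), (.ofNat (nat_lit 0))⟩, ⟨(.ofNat (nat_lit 1)), (.ofNat (nat_lit 0)), (.ofNat (nat_lit 1)), (.ofNat (nat_lit 0)), (.ofNat (nat_lit 1)), (.negSucc (nat_lit 1)), (.negSucc (nat_lit 0)), (.ofNat (nat_lit 0))⟩, ⟨(.ofNat (nat_lit 0)), (.ofNat (nat_lit 0)), (.ofNat (nat_lit 0)), (.ofNat (nat_lit 0)), (.negSucc (nat_lit 1)), (.ofNat (nat_lit 0)), (.ofNat (nat_lit 0)), (.ofNat (nat_lit 0))⟩⟩))))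
 (.node (nat_lit 223) (.node (nat_lit 222) (.leaf ⟨⟨(.ofNat (nat_lit 2)), (.ofNat (nat_lit 0)), (.ofNat (nat_lit 0)), (.ofNat (nat_lit 0)), (.ofNat (nat_lit 0)), (.ofNat (nat_lit 0)), (.ofNat (nat_lit 0)), (.ofNat (nat_lit 0))⟩, ⟨(.negSucc (nat_lit 0)), (.ofNat (nat_lit 0)), (.negSucc (nat_lit 0)), (.ofNat (nat_lit 0)), (.negSucc (nat_lit 0)), (.ofNat (nat_lit 2)), (.ofNat (nat_lit 1)), (.ofNat (nat_lit 0))⟩, ⟨(.ofNat (nat_lit 0)), (.ofNat (nat_lit 0)), (.ofNat (nat_lit 0)), (.ofNat (nat_lit 0)), (.ofNat (nat_lit 2)), (.ofNat (nat_lit 0)), (.ofNat (nat_lit 0)), (.ofNat (nat_lit 0))⟩⟩) (.leaf ⟨⟨(.ofNat (nat_lit 2)), (.ofNat (nat_lit 0)), (.ofNat (nat_lit 0)), (.ofNat (nat_lit 0)), (.ofNat (nat_lit 0)), (.ofNat (nat_lit 0)), (.ofNat (nat_lit 0)), (.ofNat (nat_lit 0))⟩, ⟨(.negSucc (nat_lit 1)), (.ofNat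 (nat_lit 0)), (.ofNat (nat_lit 0)), (.ofNat (nat_lit 0)), (.ofNat (nat_lit 0)), (.ofNat (nat_lit 0)), (.ofNat (nat_lit 0)), (.ofNat (nat_lit 0))⟩, ⟨(.ofNat (nat_lit 1)), (.ofNat (nat_lit 0)), (.ofNat (nat_lit 1)), (.negSucc (nat_lit 1)), (.ofNat (nat_lit 1)), (.ofNat (nat_lit 0)), (.negSucc (nat_lit 0)), (.ofNat (nat_lit 0))⟩⟩)) (.node (nat_lit 224) (.leaf ⟨⟨(.ofNat (nat_lit 2)), (.ofNat (nat_lit 0)), (.ofNat (nat_lit 0)), (.ofNat (nat_lit 0)), (.ofNat (nat_lit 0)), (.ofNat (nat_lit 0)), (.ofNat (nat_lit 0)), (.ofNat (nat_lit 0))⟩, ⟨(.ofNat (nat_lit 2)), (.ofNat (nat_lit 0)), (.ofNat (nat_lit 0)), (.ofNat (nat_lit 0)), (.ofNat (nat_lit 0)), (.ofNat (nat_lit 0)), (.ofNat (nat_lit 0)), (.ofNat (nat_lit 0))⟩, ⟨(.negSucc (nat_lit 0)), (.ofNat (nat_lit 0)), (.negSucc (nat_lit 0)), (.ofNat (nat_lit 2)),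 (.negSucc (nat_lit 0)), (.ofNat (nat_lit 0)), (.ofNat (nat_lit 1)), (.ofNat (nat_lit 0))⟩⟩) (.node (nat_lit 225) (.leaf ⟨⟨(.ofNat (nat_lit 2)), (.ofNat (nat_lit 0)), (.ofNat (nat_lit 0)), (.ofNat (nat_lit 0)), (.ofNat (nat_lit 0)), (.ofNat (nat_lit 0)), (.ofNat (nat_lit 0)), (.ofNat (nat_lit 0))⟩, ⟨(.negSucc (nat_lit 0)), (.ofNat (nat_lit 0)), (.negSucc (nat_lit 0)), (.ofNat (nat_lit 2)), (.negSucc (nat_lit 0)), (.ofNat (nat_lit 0)), (.ofNat (nat_lit 1)), (.ofNat (nat_lit 0))⟩, ⟨(.negSucc (nat_lit 1)), (.ofNat (nat_lit 0)), (.ofNat (nat_lit 0)), (.ofNat (nat_lit 0)), (.ofNat (nat_lit 0)), (.ofNat (nat_lit 0)), (.ofNat (nat_lit 0)), (.ofNat (nat_lit 0))⟩⟩) (.leaf ⟨⟨(.ofNat (nat_lit 2)), (.ofNat (nat_lit 0)), (.ofNat (nat_lit 0)), (.ofNat (nat_lit 0)), (.ofNat (nat_lit 0)), (.ofNat (nat_lit 0)), (.ofNat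 (nat_lit 0)), (.ofNat (nat_lit 0))⟩, ⟨(.ofNat (nat_lit 1)), (.ofNat (nat_lit 0)), (.ofNat (nat_lit 1)), (.negSucc (nat_lit 1)), (.ofNat (nat_lit 1)), (.ofNat (nat_lit 0)), (.negSucc (nat_lit 0)), (.ofNat (nat_lit 0))⟩, ⟨(.ofNat (nat_lit 2)), (.ofNat (nat_lit 0)), (.ofNat (nat_lit 0)), (.ofNat (nat_lit 0)), (.ofNat (nat_lit 0)), (.ofNat (nat_lit 0)), (.ofNat (nat_lit 0)), (.ofNat (nat_lit 0))⟩⟩)))))
 (.node (nat_lit 231) (.node (nat_lit 228) (.node (nat_lit 227) (.leaf ⟨⟨(.ofNat (nat_lit 2)), (.ofNat (nat_lit 0)), (.ofNat (nat_lit 0)), (.ofNat (nat_lit 0)), (.ofNat (nat_lit 0)), (.ofNat (nat_lit 0)), (.ofNat (nat_lit 0)), (.ofNat (nat_lit 0))⟩, ⟨(.ofNat (nat_lit 0)), (.ofNat (nat_lit 0)), (.ofNat (nat_lit 0)), (.ofNat (nat_lit 0)), (.ofNat (nat_lit 0)), (.ofNat (nat_lit 0)), (.ofNat (nat_lit 2)),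 (.ofNat (nat_lit 0))⟩, ⟨(.negSucc (nat_lit 0)), (.ofNat (nat_lit 0)), (.negSucc (nat_lit 0)), (.ofNat (nat_lit 0)), (.ofNat (nat_lit 1)), (.negSucc (nat_lit 1)), (.negSucc (nat_lit 0)), (.ofNat (nat_lit 0))⟩⟩) (.leaf ⟨⟨(.ofNat (nat_lit 2)), (.ofNat (nat_lit 0)), (.ofNat (nat_lit 0)), (.ofNat (nat_lit 0)), (.ofNat (nat_lit 0)), (.ofNat (nat_lit 0)), (.ofNat (nat_lit 0)), (.ofNat (nat_lit 0))⟩, ⟨(.ofNat (nat_lit 0)), (.ofNat (nat_lit 0)), (.ofNat (nat_lit 0)), (.ofNat (nat_lit 0)), (.ofNat (nat_lit 0)), (.ofNat (nat_lit 0)), (.negSucc (nat_lit 1)), (.ofNat (nat_lit 0))⟩, ⟨(.ofNat (nat_lit 1)), (.ofNat (nat_lit 0)), (.ofNat (nat_lit 1)), (.ofNat (nat_lit 0)), (.negSucc (nat_lit 0)), (.ofNat (nat_lit 2)), (.ofNat (nat_lit 1)), (.ofNat (nat_lit 0))⟩⟩)) (.node (nat_lit 229) (.leaf ⟨⟨(.ofNat (nat_lit 2)),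 (.ofNat (nat_lit 0)), (.ofNat (nat_lit 0)), (.ofNat (nat_lit 0)), (.ofNat (nat_lit 0)), (.ofNat (nat_lit 0)), (.ofNat (nat_lit 0)), (.ofNat (nat_lit 0))⟩, ⟨(.negSucc (nat_lit 0)), (.ofNat (nat_lit 0)), (.negSucc (nat_lit 0)), (.ofNat (nat_lit 0)), (.ofNat (nat_lit 1)), (.negSucc (nat_lit 1)), (.negSucc (nat_lit 0)), (.ofNat (nat_lit 0))⟩, ⟨(.ofNat (nat_lit 0)), (.ofNat (nat_lit 0)), (.ofNat (nat_lit 0)), (.ofNat (nat_lit 0)), (.ofNat (nat_lit 0)), (.ofNat (nat_lit 0)), (.negSucc (nat_lit 1)), (.ofNat (nat_lit 0))⟩⟩) (.node (nat_lit 230) (.leaf ⟨⟨(.ofNat (nat_lit 2)), (.ofNat (nat_lit 0)), (.ofNat (nat_lit 0)), (.ofNat (nat_lit 0)), (.ofNat (nat_lit 0)), (.ofNat (nat_lit 0)), (.ofNat (nat_lit 0)), (.ofNat (nat_lit 0))⟩, ⟨(.ofNat (nat_lit 1)), (.ofNat (nat_lit 0)), (.ofNat (nat_lit 1)), (.ofNat (nat_lit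 0)), (.negSucc (nat_lit 0)), (.ofNat (nat_lit 2)), (.ofNat (nat_lit 1)), (.ofNat (nat_lit 0))⟩, ⟨(.ofNat (nat_lit 0)), (.ofNat (nat_lit 0)), (.ofNat (nat_lit 0)), (.ofNat (nat_lit 0)), (.ofNat (nat_lit 0)), (.ofNat (nat_lit 0)), (.ofNat (nat_lit 2)), (.ofNat (nat_lit 0))⟩⟩) (.leaf ⟨⟨(.ofNat (nat_lit 2)), (.ofNat (nat_lit 0)), (.ofNat (nat_lit 0)), (.ofNat (nat_lit 0)), (.ofNat (nat_lit 0)), (.ofNat (nat_lit 0)), (.ofNat (nat_lit 0)), (.ofNat (nat_lit 0))⟩, ⟨(.ofNat (nat_lit 0)), (.ofNat (nat_lit 0)), (.negSucc (nat_lit 1)), (.ofNat (nat_lit 0)), (.ofNat (nat_lit 0)), (.ofNat (nat_lit 0)), (.ofNat (nat_lit 0)), (.ofNat (nat_lit 0))⟩, ⟨(.negSucc (nat_lit 0)), (.ofNat (nat_lit 0)), (.negSucc (nat_lit 0)), (.ofNat (nat_lit 2)), (.ofNat (nat_lit 1)), (.ofNat (nat_lit 0)), (.negSucc (nat_lit 0)), (.ofNat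 (nat_lit 0))⟩⟩))))
 (.node (nat_lit 233) (.node (nat_lit 232) (.leaf ⟨⟨(.ofNat (nat_lit 2)), (.ofNat (nat_lit 0)), (.ofNat (nat_lit 0)), (.ofNat (nat_lit 0)), (.ofNat (nat_lit 0)), (.ofNat (nat_lit 0)), (.ofNat (nat_lit 0)), (.ofNat (nat_lit 0))⟩, ⟨(.ofNat (nat_lit 0)), (.ofNat (nat_lit 0)), (.ofNat (nat_lit 2)), (.ofNat (nat_lit 0)), (.ofNat (nat_lit 0)), (.ofNat (nat_lit 0)), (.ofNat (nat_lit 0)), (.ofNat (nat_lit 0))⟩, ⟨(.ofNat (nat_lit 1)), (.ofNat (nat_lit 0)), (.ofNat (nat_lit 1)), (.negSucc (nat_lit 1)), (.negSucc (nat_lit 0)), (.ofNat (nat_lit 0)), (.ofNat (nat_lit 1)), (.ofNat (nat_lit 0))⟩⟩) (.leaf ⟨⟨(.ofNat (nat_lit 2)), (.ofNat (nat_lit 0)), (.ofNat (nat_lit 0)), (.ofNat (nat_lit 0)), (.ofNat (nat_lit 0)), (.ofNat (nat_lit 0)), (.ofNat (nat_lit 0)), (.ofNat (nat_lit 0))⟩, ⟨(.negSucc (nat_lit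 0)), (.ofNat (nat_lit 1)), (.ofNat (nat_lit 1)), (.negSucc (nat_lit 0)), (.ofNat (nat_lit 1)), (.negSucc (nat_lit 0)), (.negSucc (nat_lit 0)), (.ofNat (nat_lit 1))⟩, ⟨(.ofNat (nat_lit 0)), (.negSucc (nat_lit 0)), (.ofNat (nat_lit 0)), (.negSucc (nat_lit 0)), (.ofNat (nat_lit 0)), (.ofNat (nat_lit 1)), (.ofNat (nat_lit 0)), (.negSucc (nat_lit 0))⟩⟩)) (.node (nat_lit 234) (.leaf ⟨⟨(.ofNat (nat_lit 2)), (.ofNat (nat_lit 0)), (.ofNat (nat_lit 0)), (.ofNat (nat_lit 0)), (.ofNat (nat_lit 0)), (.ofNat (nat_lit 0)), (.ofNat (nat_lit 0)), (.ofNat (nat_lit 0))⟩, ⟨(.ofNat (nat_lit 1)), (.negSucc (nat_lit 0)), (.negSucc (nat_lit 0)), (.ofNat (nat_lit 1)), (.negSucc (nat_lit 0)), (.ofNat (nat_lit 1)), (.ofNat (nat_lit 1)), (.negSucc (nat_lit 0))⟩, ⟨(.ofNat (nat_lit 0)), (.ofNat (nat_lit 1)), (.ofNat (nat_lit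 0)), (.ofNat (nat_lit 1)), (.ofNat (nat_lit 0)), (.negSucc (nat_lit 0)), (.ofNat (nat_lit 0)), (.ofNat (nat_lit 1))⟩⟩) (.node (nat_lit 235) (.leaf ⟨⟨(.ofNat (nat_lit 2)), (.ofNat (nat_lit 0)), (.ofNat (nat_lit 0)), (.ofNat (nat_lit 0)), (.ofNat (nat_lit 0)), (.ofNat (nat_lit 0)), (.ofNat (nat_lit 0)), (.ofNat (nat_lit 0))⟩, ⟨(.ofNat (nat_lit 0)), (.negSucc (nat_lit 0)), (.ofNat (nat_lit 0)), (.negSucc (nat_lit 0)), (.ofNat (nat_lit 0)), (.ofNat (nat_lit 1)), (.ofNat (nat_lit 0)), (.negSucc (nat_lit 0))⟩, ⟨(.ofNat (nat_lit 1)), (.negSucc (nat_lit 0)), (.negSucc (nat_lit 0)), (.ofNat (nat_lit 1)), (.negSucc (nat_lit 0)), (.ofNat (nat_lit 1)), (.ofNat (nat_lit 1)), (.negSucc (nat_lit 0))⟩⟩) (.leaf ⟨⟨(.ofNat (nat_lit 2)), (.ofNat (nat_lit 0)), (.ofNat (nat_lit 0)), (.ofNat (nat_lit 0)), (.ofNat (nat_lit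 0)), (.ofNat (nat_lit 0)), (.ofNat (nat_lit 0)), (.ofNat (nat_lit 0))⟩, ⟨(.ofNat (nat_lit 0)), (.ofNat (nat_lit 1)), (.ofNat (nat_lit 0)), (.ofNat (nat_lit 1)), (.ofNat (nat_lit 0)), (.negSucc (nat_lit 0)), (.ofNat (nat_lit 0)), (.ofNat (nat_lit 1))⟩, ⟨(.negSucc (nat_lit 0)), (.ofNat (nat_lit 1)), (.ofNat (nat_lit 1)), (.negSucc (nat_lit 0)), (.ofNat (nat_lit 1)), (.negSucc (nat_lit 0)), (.negSucc (nat_lit 0)), (.ofNat (nat_lit 1))⟩⟩))))))))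
 (.node (nat_lit 275) (.node (nat_lit 255) (.node (nat_lit 245) (.node (nat_lit 240) (.node (nat_lit 238) (.node (nat_lit 237) (.leaf ⟨⟨(.ofNat (nat_lit 2)), (.ofNat (nat_lit 0)), (.ofNat (nat_lit 0)), (.ofNat (nat_lit 0)), (.ofNat (nat_lit 0)), (.ofNat (nat_lit 0)), (.ofNat (nat_lit 0)), (.ofNat (nat_lit 0))⟩, ⟨(.ofNat (nat_lit 1)), (.ofNat (nat_lit 0)), (.ofNat (nat_lit 1)), (.negSucc (nat_lit 1)), (.negSucc (nat_lit 0)), (.ofNat (nat_lit 0)), (.ofNat (nat_lit 1)), (.ofNat (nat_lit 0))⟩, ⟨(.ofNat (nat_lit 0)), (.ofNat (nat_lit 0)), (.negSucc (nat_lit 1)), (.ofNat (nat_lit 0)), (.ofNat (nat_lit 0)), (.ofNat (nat_lit 0)), (.ofNat (nat_lit 0)), (.ofNat (nat_lit 0))⟩⟩) (.leaf ⟨⟨(.ofNat (nat_lit 2)), (.ofNat (nat_lit 0)), (.ofNat (nat_lit 0)), (.ofNat (nat_lit 0)), (.ofNat (nat_lit 0)), (.ofNat (nat_lit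 0)), (.ofNat (nat_lit 0)), (.ofNat (nat_lit 0))⟩, ⟨(.negSucc (nat_lit 0)), (.ofNat (nat_lit 0)), (.negSucc (nat_lit 0)), (.ofNat (nat_lit 2)), (.ofNat (nat_lit 1)), (.ofNat (nat_lit 0)), (.negSucc (nat_lit 0)), (.ofNat (nat_lit 0))⟩, ⟨(.ofNat (nat_lit 0)), (.ofNat (nat_lit 0)), (.ofNat (nat_lit 2)), (.ofNat (nat_lit 0)), (.ofNat (nat_lit 0)), (.ofNat (nat_lit 0)), (.ofNat (nat_lit 0)), (.ofNat (nat_lit 0))⟩⟩)) (.node (nat_lit 239) (.leaf ⟨⟨(.ofNat (nat_lit 2)), (.ofNat (nat_lit 0)), (.ofNat (nat_lit 0)), (.ofNat (nat_lit 0)), (.ofNat (nat_lit 0)), (.ofNat (nat_lit 0)), (.ofNat (nat_lit 0)), (.ofNat (nat_lit 0))⟩, ⟨(.negSucc (nat_lit 0)), (.ofNat (nat_lit 2)), (.ofNat (nat_lit 1)), (.ofNat (nat_lit 0)), (.ofNat (nat_lit 1)), (.ofNat (nat_lit 0)), (.ofNat (nat_lit 1)), (.ofNat (nat_lit 0))⟩, ⟨(.negSucc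 (nat_lit 1)), (.ofNat (nat_lit 0)), (.ofNat (nat_lit 0)), (.ofNat (nat_lit 0)), (.ofNat (nat_lit 0)), (.ofNat (nat_lit 0)), (.ofNat (nat_lit 0)), (.ofNat (nat_lit 0))⟩⟩) (.leaf ⟨⟨(.ofNat (nat_lit 2)), (.ofNat (nat_lit 0)), (.ofNat (nat_lit 0)), (.ofNat (nat_lit 0)), (.ofNat (nat_lit 0)), (.ofNat (nat_lit 0)), (.ofNat (nat_lit 0)), (.ofNat (nat_lit 0))⟩, ⟨(.ofNat (nat_lit 1)), (.negSucc (nat_lit 1)), (.negSucc (nat_lit 0)), (.ofNat (nat_lit 0)), (.negSucc (nat_lit 0)), (.ofNat (nat_lit 0)), (.negSucc (nat_lit 0)), (.ofNat (nat_lit 0))⟩, ⟨(.ofNat (nat_lit 2)), (.ofNat (nat_lit 0)), (.ofNat (nat_lit 0)), (.ofNat (nat_lit 0)), (.ofNat (nat_lit 0)), (.ofNat (nat_lit 0)), (.ofNat (nat_lit 0)), (.ofNat (nat_lit 0))⟩⟩)))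
 (.node (nat_lit 242) (.node (nat_lit 241) (.leaf ⟨⟨(.ofNat (nat_lit 2)), (.ofNat (nat_lit 0)), (.ofNat (nat_lit 0)), (.ofNat (nat_lit 0)), (.ofNat (nat_lit 0)), (.ofNat (nat_lit 0)), (.ofNat (nat_lit 0)), (.ofNat (nat_lit 0))⟩, ⟨(.ofNat (nat_lit 0)), (.negSucc (nat_lit 0)), (.ofNat (nat_lit 0)), (.ofNat (nat_lit 1)), (.ofNat (nat_lit 0)), (.ofNat (nat_lit 1)), (.ofNat (nat_lit 0)), (.ofNat (nat_lit 1))⟩, ⟨(.ofNat (nat_lit 1)), (.negSucc (nat_lit 0)), (.ofNat (nat_lit 1)), (.negSucc (nat_lit 0)), (.ofNat (nat_lit 1)), (.negSucc (nat_lit 0)), (.ofNat (nat_lit 1)), (.negSucc (nat_lit 0))⟩⟩) (.leaf ⟨⟨(.ofNat (nat_lit 2)), (.ofNat (nat_lit 0)), (.ofNat (nat_lit 0)), (.ofNat (nat_lit 0)), (.ofNat (nat_lit 0)), (.ofNat (nat_lit 0)), (.ofNat (nat_lit 0)), (.ofNat (nat_lit 0))⟩, ⟨(.ofNat (nat_lit 0)), (.ofNat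 (nat_lit 1)), (.ofNat (nat_lit 0)), (.negSucc (nat_lit 0)), (.ofNat (nat_lit 0)), (.negSucc (nat_lit 0)), (.ofNat (nat_lit 0)), (.negSucc (nat_lit 0))⟩, ⟨(.negSucc (nat_lit 0)), (.ofNat (nat_lit 1)), (.negSucc (nat_lit 0)), (.ofNat (nat_lit 1)), (.negSucc (nat_lit 0)), (.ofNat (nat_lit 1)), (.negSucc (nat_lit 0)), (.ofNat (nat_lit 1))⟩⟩)) (.node (nat_lit 243) (.leaf ⟨⟨(.ofNat (nat_lit 2)), (.ofNat (nat_lit 0)), (.ofNat (nat_lit 0)), (.ofNat (nat_lit 0)), (.ofNat (nat_lit 0)), (.ofNat (nat_lit 0)), (.ofNat (nat_lit 0)), (.ofNat (nat_lit 0))⟩, ⟨(.ofNat (nat_lit 1)), (.negSucc (nat_lit 0)), (.ofNat (nat_lit 1)), (.negSucc (nat_lit 0)), (.ofNat (nat_lit 1)), (.negSucc (nat_lit 0)), (.ofNat (nat_lit 1)), (.negSucc (nat_lit 0))⟩, ⟨(.ofNat (nat_lit 0)), (.ofNat (nat_lit 1)), (.ofNat (nat_lit 0)), (.negSucc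 (nat_lit 0)), (.ofNat (nat_lit 0)), (.negSucc (nat_lit 0)), (.ofNat (nat_lit 0)), (.negSucc (nat_lit 0))⟩⟩) (.node (nat_lit 244) (.leaf ⟨⟨(.ofNat (nat_lit 2)), (.ofNat (nat_lit 0)), (.ofNat (nat_lit 0)), (.ofNat (nat_lit 0)), (.ofNat (nat_lit 0)), (.ofNat (nat_lit 0)), (.ofNat (nat_lit 0)), (.ofNat (nat_lit 0))⟩, ⟨(.negSucc (nat_lit 0)), (.ofNat (nat_lit 1)), (.negSucc (nat_lit 0)), (.ofNat (nat_lit 1)), (.negSucc (nat_lit 0)), (.ofNat (nat_lit 1)), (.negSucc (nat_lit 0)), (.ofNat (nat_lit 1))⟩, ⟨(.ofNat (nat_lit 0)), (.negSucc (nat_lit 0)), (.ofNat (nat_lit 0)), (.ofNat (nat_lit 1)), (.ofNat (nat_lit 0)), (.ofNat (nat_lit 1)), (.ofNat (nat_lit 0)), (.ofNat (nat_lit 1))⟩⟩) (.leaf ⟨⟨(.ofNat (nat_lit 2)), (.ofNat (nat_lit 0)), (.ofNat (nat_lit 0)), (.ofNat (nat_lit 0)), (.ofNat (nat_lit 0)), (.ofNat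 (nat_lit 0)), (.ofNat (nat_lit 0)), (.ofNat (nat_lit 0))⟩, ⟨(.negSucc (nat_lit 1)), (.ofNat (nat_lit 0)), (.ofNat (nat_lit 0)), (.ofNat (nat_lit 0)), (.ofNat (nat_lit 0)), (.ofNat (nat_lit 0)), (.ofNat (nat_lit 0)), (.ofNat (nat_lit 0))⟩, ⟨(.ofNat (nat_lit 1)), (.negSucc (nat_lit 1)), (.negSucc (nat_lit 0)), (.ofNat (nat_lit 0)), (.negSucc (nat_lit 0)), (.ofNat (nat_lit 0)), (.negSucc (nat_lit 0)), (.ofNat (nat_lit 0))⟩⟩)))))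
 (.node (nat_lit 250) (.node (nat_lit 247) (.node (nat_lit 246) (.leaf ⟨⟨(.ofNat (nat_lit 2)), (.ofNat (nat_lit 0)), (.ofNat (nat_lit 0)), (.ofNat (nat_lit 0)), (.ofNat (nat_lit 0)), (.ofNat (nat_lit 0)), (.ofNat (nat_lit 0)), (.ofNat (nat_lit 0))⟩, ⟨(.ofNat (nat_lit 2)), (.ofNat (nat_lit 0)), (.ofNat (nat_lit 0)), (.ofNat (nat_lit 0)), (.ofNat (nat_lit 0)), (.ofNat (nat_lit 0)), (.ofNat (nat_lit 0)), (.ofNat (nat_lit 0))⟩, ⟨(.negSucc (nat_lit 0)), (.ofNat (nat_lit 2)), (.ofNat (nat_lit 1)), (.ofNat (nat_lit 0)), (.ofNat (nat_lit 1)), (.ofNat (nat_lit 0)), (.ofNat (nat_lit 1)), (.ofNat (nat_lit 0))⟩⟩) (.leaf ⟨⟨(.ofNat (nat_lit 2)), (.ofNat (nat_lit 0)), (.ofNat (nat_lit 0)), (.ofNat (nat_lit 0)), (.ofNat (nat_lit 0)), (.ofNat (nat_lit 0)), (.ofNat (nat_lit 0)), (.ofNat (nat_lit 0))⟩, ⟨(.negSucc (nat_lit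 0)), (.ofNat (nat_lit 0)), (.ofNat (nat_lit 1)), (.ofNat (nat_lit 0)), (.ofNat (nat_lit 1)), (.ofNat (nat_lit 0)), (.ofNat (nat_lit 1)), (.negSucc (nat_lit 1))⟩, ⟨(.ofNat (nat_lit 0)), (.ofNat (nat_lit 0)), (.ofNat (nat_lit 0)), (.ofNat (nat_lit 0)), (.negSucc (nat_lit 1)), (.ofNat (nat_lit 0)), (.ofNat (nat_lit 0)), (.ofNat (nat_lit 0))⟩⟩)) (.node (nat_lit 248) (.leaf ⟨⟨(.ofNat (nat_lit 2)), (.ofNat (nat_lit 0)), (.ofNat (nat_lit 0)), (.ofNat (nat_lit 0)), (.ofNat (nat_lit 0)), (.ofNat (nat_lit 0)), (.ofNat (nat_lit 0)), (.ofNat (nat_lit 0))⟩, ⟨(.ofNat (nat_lit 1)), (.ofNat (nat_lit 0)), (.negSucc (nat_lit 0)), (.ofNat (nat_lit 0)), (.negSucc (nat_lit 0)), (.ofNat (nat_lit 0)), (.negSucc (nat_lit 0)), (.ofNat (nat_lit 2))⟩, ⟨(.ofNat (nat_lit 0)), (.ofNat (nat_lit 0)), (.ofNat (nat_lit 0)), (.ofNat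 (nat_lit 0)), (.ofNat (nat_lit 2)), (.ofNat (nat_lit 0)), (.ofNat (nat_lit 0)), (.ofNat (nat_lit 0))⟩⟩) (.node (nat_lit 249) (.leaf ⟨⟨(.ofNat (nat_lit 2)), (.ofNat (nat_lit 0)), (.ofNat (nat_lit 0)), (.ofNat (nat_lit 0)), (.ofNat (nat_lit 0)), (.ofNat (nat_lit 0)), (.ofNat (nat_lit 0)), (.ofNat (nat_lit 0))⟩, ⟨(.ofNat (nat_lit 0)), (.ofNat (nat_lit 0)), (.ofNat (nat_lit 0)), (.ofNat (nat_lit 0)), (.ofNat (nat_lit 2)), (.ofNat (nat_lit 0)), (.ofNat (nat_lit 0)), (.ofNat (nat_lit 0))⟩, ⟨(.negSucc (nat_lit 0)), (.ofNat (nat_lit 0)), (.ofNat (nat_lit 1)), (.ofNat (nat_lit 0)), (.ofNat (nat_lit 1)), (.ofNat (nat_lit 0)), (.ofNat (nat_lit 1)), (.negSucc (nat_lit 1))⟩⟩) (.leaf ⟨⟨(.ofNat (nat_lit 2)), (.ofNat (nat_lit 0)), (.ofNat (nat_lit 0)), (.ofNat (nat_lit 0)), (.ofNat (nat_lit 0)), (.ofNat (nat_lit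 0)), (.ofNat (nat_lit 0)), (.ofNat (nat_lit 0))⟩, ⟨(.ofNat (nat_lit 0)), (.ofNat (nat_lit 0)), (.ofNat (nat_lit 0)), (.ofNat (nat_lit 0)), (.negSucc (nat_lit 1)), (.ofNat (nat_lit 0)), (.ofNat (nat_lit 0)), (.ofNat (nat_lit 0))⟩, ⟨(.ofNat (nat_lit 1)), (.ofNat (nat_lit 0)), (.negSucc (nat_lit 0)), (.ofNat (nat_lit 0)), (.negSucc (nat_lit 0)), (.ofNat (nat_lit 0)), (.negSucc (nat_lit 0)), (.ofNat (nat_lit 2))⟩⟩))))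
 (.node (nat_lit 252) (.node (nat_lit 251) (.leaf ⟨⟨(.ofNat (nat_lit 2)), (.ofNat (nat_lit 0)), (.ofNat (nat_lit 0)), (.ofNat (nat_lit 0)), (.ofNat (nat_lit 0)), (.ofNat (nat_lit 0)), (.ofNat (nat_lit 0)), (.ofNat (nat_lit 0))⟩, ⟨(.ofNat (nat_lit 0)), (.ofNat (nat_lit 0)), (.ofNat (nat_lit 0)), (.ofNat (nat_lit 0)), (.negSucc (nat_lit 1)), (.ofNat (nat_lit 0)), (.ofNat (nat_lit 0)), (.ofNat (nat_lit 0))⟩, ⟨(.negSucc (nat_lit 0)), (.ofNat (nat_lit 2)), (.negSucc (nat_lit 0)), (.ofNat (nat_lit 0)), (.ofNat (nat_lit 1)), (.ofNat (nat_lit 0)), (.negSucc (nat_lit 0)), (.ofNat (nat_lit 0))⟩⟩) (.leaf ⟨⟨(.ofNat (nat_lit 2)), (.ofNat (nat_lit 0)), (.ofNat (nat_lit 0)), (.ofNat (nat_lit 0)), (.ofNat (nat_lit 0)), (.ofNat (nat_lit 0)), (.ofNat (nat_lit 0)), (.ofNat (nat_lit 0))⟩, ⟨(.ofNat (nat_lit 0)), (.ofNat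 (nat_lit 0)), (.ofNat (nat_lit 0)), (.ofNat (nat_lit 0)), (.ofNat (nat_lit 2)), (.ofNat (nat_lit 0)), (.ofNat (nat_lit 0)), (.ofNat (nat_lit 0))⟩, ⟨(.ofNat (nat_lit 1)), (.negSucc (nat_lit 1)), (.ofNat (nat_lit 1)), (.ofNat (nat_lit 0)), (.negSucc (nat_lit 0)), (.ofNat (nat_lit 0)), (.ofNat (nat_lit 1)), (.ofNat (nat_lit 0))⟩⟩)) (.node (nat_lit 253) (.leaf ⟨⟨(.ofNat (nat_lit 2)), (.ofNat (nat_lit 0)), (.ofNat (nat_lit 0)), (.ofNat (nat_lit 0)), (.ofNat (nat_lit 0)), (.ofNat (nat_lit 0)), (.ofNat (nat_lit 0)), (.ofNat (nat_lit 0))⟩, ⟨(.ofNat (nat_lit 1)), (.negSucc (nat_lit 1)), (.ofNat (nat_lit 1)), (.ofNat (nat_lit 0)), (.negSucc (nat_lit 0)), (.ofNat (nat_lit 0)), (.ofNat (nat_lit 1)), (.ofNat (nat_lit 0))⟩, ⟨(.ofNat (nat_lit 0)), (.ofNat (nat_lit 0)), (.ofNat (nat_lit 0)), (.ofNat (nat_lit 0)),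 (.negSucc (nat_lit 1)), (.ofNat (nat_lit 0)), (.ofNat (nat_lit 0)), (.ofNat (nat_lit 0))⟩⟩) (.node (nat_lit 254) (.leaf ⟨⟨(.ofNat (nat_lit 2)), (.ofNat (nat_lit 0)), (.ofNat (nat_lit 0)), (.ofNat (nat_lit 0)), (.ofNat (nat_lit 0)), (.ofNat (nat_lit 0)), (.ofNat (nat_lit 0)), (.ofNat (nat_lit 0))⟩, ⟨(.negSucc (nat_lit 0)), (.ofNat (nat_lit 2)), (.negSucc (nat_lit 0)), (.ofNat (nat_lit 0)), (.ofNat (nat_lit 1)), (.ofNat (nat_lit 0)), (.negSucc (nat_lit 0)), (.ofNat (nat_lit 0))⟩, ⟨(.ofNat (nat_lit 0)), (.ofNat (nat_lit 0)), (.ofNat (nat_lit 0)), (.ofNat (nat_lit 0)), (.ofNat (nat_lit 2)), (.ofNat (nat_lit 0)), (.ofNat (nat_lit 0)), (.ofNat (nat_lit 0))⟩⟩) (.leaf ⟨⟨(.ofNat (nat_lit 2)), (.ofNat (nat_lit 0)), (.ofNat (nat_lit 0)), (.ofNat (nat_lit 0)), (.ofNat (nat_lit 0)), (.ofNat (nat_lit 0)), (.ofNat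 (nat_lit 0)), (.ofNat (nat_lit 0))⟩, ⟨(.negSucc (nat_lit 0)), (.ofNat (nat_lit 0)), (.ofNat (nat_lit 1)), (.negSucc (nat_lit 1)), (.ofNat (nat_lit 1)), (.ofNat (nat_lit 0)), (.ofNat (nat_lit 1)), (.ofNat (nat_lit 0))⟩, ⟨(.ofNat (nat_lit 0)), (.ofNat (nat_lit 0)), (.ofNat (nat_lit 0)), (.ofNat (nat_lit 0)), (.ofNat (nat_lit 0)), (.ofNat (nat_lit 0)), (.negSucc (nat_lit 1)), (.ofNat (nat_lit 0))⟩⟩))))))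
 (.node (nat_lit 265) (.node (nat_lit 260) (.node (nat_lit 257) (.node (nat_lit 256) (.leaf ⟨⟨(.ofNat (nat_lit 2)), (.ofNat (nat_lit 0)), (.ofNat (nat_lit 0)), (.ofNat (nat_lit 0)), (.ofNat (nat_lit 0)), (.ofNat (nat_lit 0)), (.ofNat (nat_lit 0)), (.ofNat (nat_lit 0))⟩, ⟨(.ofNat (nat_lit 1)), (.ofNat (nat_lit 0)), (.negSucc (nat_lit 0)), (.ofNat (nat_lit 2)), (.negSucc (nat_lit 0)), (.ofNat (nat_lit 0)), (.negSucc (nat_lit 0)), (.ofNat (nat_lit 0))⟩, ⟨(.ofNat (nat_lit 0)), (.ofNat (nat_lit 0)), (.ofNat (nat_lit 0)), (.ofNat (nat_lit 0)), (.ofNat (nat_lit 0)), (.ofNat (nat_lit 0)), (.ofNat (nat_lit 2)), (.ofNat (nat_lit 0))⟩⟩) (.leaf ⟨⟨(.ofNat (nat_lit 2)), (.ofNat (nat_lit 0)), (.ofNat (nat_lit 0)), (.ofNat (nat_lit 0)), (.ofNat (nat_lit 0)), (.ofNat (nat_lit 0)), (.ofNat (nat_lit 0)), (.ofNat (nat_lit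 0))⟩, ⟨(.ofNat (nat_lit 0)), (.ofNat (nat_lit 0)), (.ofNat (nat_lit 0)), (.ofNat (nat_lit 0)), (.ofNat (nat_lit 0)), (.ofNat (nat_lit 0)), (.negSucc (nat_lit 1)), (.ofNat (nat_lit 0))⟩, ⟨(.ofNat (nat_lit 1)), (.ofNat (nat_lit 0)), (.negSucc (nat_lit 0)), (.ofNat (nat_lit 2)), (.negSucc (nat_lit 0)), (.ofNat (nat_lit 0)), (.negSucc (nat_lit 0)), (.ofNat (nat_lit 0))⟩⟩)) (.node (nat_lit 258) (.leaf ⟨⟨(.ofNat (nat_lit 2)), (.ofNat (nat_lit 0)), (.ofNat (nat_lit 0)), (.ofNat (nat_lit 0)), (.ofNat (nat_lit 0)), (.ofNat (nat_lit 0)), (.ofNat (nat_lit 0)), (.ofNat (nat_lit 0))⟩, ⟨(.ofNat (nat_lit 0)), (.ofNat (nat_lit 0)), (.ofNat (nat_lit 0)), (.ofNat (nat_lit 0)), (.ofNat (nat_lit 0)), (.ofNat (nat_lit 0)), (.ofNat (nat_lit 2)), (.ofNat (nat_lit 0))⟩, ⟨(.negSucc (nat_lit 0)), (.ofNat (nat_lit 0)), (.ofNat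 (nat_lit 1)), (.negSucc (nat_lit 1)), (.ofNat (nat_lit 1)), (.ofNat (nat_lit 0)), (.ofNat (nat_lit 1)), (.ofNat (nat_lit 0))⟩⟩) (.node (nat_lit 259) (.leaf ⟨⟨(.ofNat (nat_lit 1)), (.negSucc (nat_lit 1)), (.ofNat (nat_lit 1)), (.ofNat (nat_lit 0)), (.ofNat (nat_lit 1)), (.ofNat (nat_lit 0)), (.negSucc (nat_lit 0)), (.ofNat (nat_lit 0))⟩, ⟨(.ofNat (nat_lit 2)), (.ofNat (nat_lit 0)), (.ofNat (nat_lit 0)), (.ofNat (nat_lit 0)), (.ofNat (nat_lit 0)), (.ofNat (nat_lit 0)), (.ofNat (nat_lit 0)), (.ofNat (nat_lit 0))⟩, ⟨(.ofNat (nat_lit 0)), (.ofNat (nat_lit 0)), (.ofNat (nat_lit 0)), (.ofNat (nat_lit 0)), (.ofNat (nat_lit 0)), (.ofNat (nat_lit 0)), (.ofNat (nat_lit 2)), (.ofNat (nat_lit 0))⟩⟩) (.leaf ⟨⟨(.negSucc (nat_lit 0)), (.ofNat (nat_lit 0)), (.ofNat (nat_lit 1)), (.negSucc (nat_lit 1)), (.ofNat (nat_lit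 1)), (.ofNat (nat_lit 0)), (.ofNat (nat_lit 1)), (.ofNat (nat_lit 0))⟩, ⟨(.ofNat (nat_lit 2)), (.ofNat (nat_lit 0)), (.ofNat (nat_lit 0)), (.ofNat (nat_lit 0)), (.ofNat (nat_lit 0)), (.ofNat (nat_lit 0)), (.ofNat (nat_lit 0)), (.ofNat (nat_lit 0))⟩, ⟨(.ofNat (nat_lit 0)), (.ofNat (nat_lit 0)), (.ofNat (nat_lit 0)), (.ofNat (nat_lit 0)), (.ofNat (nat_lit 0)), (.ofNat (nat_lit 0)), (.ofNat (nat_lit 2)), (.ofNat (nat_lit 0))⟩⟩))))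
 (.node (nat_lit 262) (.node (nat_lit 261) (.leaf ⟨⟨(.negSucc (nat_lit 0)), (.ofNat (nat_lit 0)), (.negSucc (nat_lit 0)), (.ofNat (nat_lit 0)), (.ofNat (nat_lit 1)), (.negSucc (nat_lit 1)), (.negSucc (nat_lit 0)), (.ofNat (nat_lit 0))⟩, ⟨(.ofNat (nat_lit 2)), (.ofNat (nat_lit 0)), (.ofNat (nat_lit 0)), (.ofNat (nat_lit 0)), (.ofNat (nat_lit 0)), (.ofNat (nat_lit 0)), (.ofNat (nat_lit 0)), (.ofNat (nat_lit 0))⟩, ⟨(.ofNat (nat_lit 0)), (.ofNat (nat_lit 0)), (.ofNat (nat_lit 0)), (.ofNat (nat_lit 0)), (.ofNat (nat_lit 0)), (.ofNat (nat_lit 0)), (.ofNat (nat_lit 2)), (.ofNat (nat_lit 0))⟩⟩) (.leaf ⟨⟨(.negSucc (nat_lit 0)), (.ofNat (nat_lit 0)), (.ofNat (nat_lit 1)), (.ofNat (nat_lit 0)), (.negSucc (nat_lit 0)), (.ofNat (nat_lit 0)), (.negSucc (nat_lit 0)), (.ofNat (nat_lit 2))⟩, ⟨(.ofNat (nat_lit 2)),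 (.ofNat (nat_lit 0)), (.ofNat (nat_lit 0)), (.ofNat (nat_lit 0)), (.ofNat (nat_lit 0)), (.ofNat (nat_lit 0)), (.ofNat (nat_lit 0)), (.ofNat (nat_lit 0))⟩, ⟨(.ofNat (nat_lit 0)), (.ofNat (nat_lit 0)), (.ofNat (nat_lit 0)), (.ofNat (nat_lit 0)), (.ofNat (nat_lit 0)), (.ofNat (nat_lit 0)), (.ofNat (nat_lit 2)), (.ofNat (nat_lit 0))⟩⟩)) (.node (nat_lit 263) (.leaf ⟨⟨(.ofNat (nat_lit 1)), (.ofNat (nat_lit 0)), (.negSucc (nat_lit 0)), (.ofNat (nat_lit 0)), (.ofNat (nat_lit 1)), (.ofNat (nat_lit 0)), (.ofNat (nat_lit 1)), (.negSucc (nat_lit 1))⟩, ⟨(.ofNat (nat_lit 2)), (.ofNat (nat_lit 0)), (.ofNat (nat_lit 0)), (.ofNat (nat_lit 0)), (.ofNat (nat_lit 0)), (.ofNat (nat_lit 0)), (.ofNat (nat_lit 0)), (.ofNat (nat_lit 0))⟩, ⟨(.ofNat (nat_lit 0)), (.ofNat (nat_lit 0)), (.ofNat (nat_lit 0)), (.ofNat (nat_lit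 0)), (.ofNat (nat_lit 0)), (.ofNat (nat_lit 0)), (.ofNat (nat_lit 2)), (.ofNat (nat_lit 0))⟩⟩) (.node (nat_lit 264) (.leaf ⟨⟨(.ofNat (nat_lit 1)), (.ofNat (nat_lit 0)), (.ofNat (nat_lit 1)), (.ofNat (nat_lit 0)), (.negSucc (nat_lit 0)), (.ofNat (nat_lit 2)), (.ofNat (nat_lit 1)), (.ofNat (nat_lit 0))⟩, ⟨(.ofNat (nat_lit 2)), (.ofNat (nat_lit 0)), (.ofNat (nat_lit 0)), (.ofNat (nat_lit 0)), (.ofNat (nat_lit 0)), (.ofNat (nat_lit 0)), (.ofNat (nat_lit 0)), (.ofNat (nat_lit 0))⟩, ⟨(.ofNat (nat_lit 0)), (.ofNat (nat_lit 0)), (.ofNat (nat_lit 0)), (.ofNat (nat_lit 0)), (.ofNat (nat_lit 0)), (.ofNat (nat_lit 0)), (.ofNat (nat_lit 2)), (.ofNat (nat_lit 0))⟩⟩) (.leaf ⟨⟨(.ofNat (nat_lit 1)), (.ofNat (nat_lit 0)), (.negSucc (nat_lit 0)), (.ofNat (nat_lit 2)), (.negSucc (nat_lit 0)), (.ofNat (nat_lit 0)), (.negSucc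 (nat_lit 0)), (.ofNat (nat_lit 0))⟩, ⟨(.ofNat (nat_lit 2)), (.ofNat (nat_lit 0)), (.ofNat (nat_lit 0)), (.ofNat (nat_lit 0)), (.ofNat (nat_lit 0)), (.ofNat (nat_lit 0)), (.ofNat (nat_lit 0)), (.ofNat (nat_lit 0))⟩, ⟨(.ofNat (nat_lit 0)), (.ofNat (nat_lit 0)), (.ofNat (nat_lit 0)), (.ofNat (nat_lit 0)), (.ofNat (nat_lit 0)), (.ofNat (nat_lit 0)), (.ofNat (nat_lit 2)), (.ofNat (nat_lit 0))⟩⟩)))))
 (.node (nat_lit 270) (.node (nat_lit 267) (.node (nat_lit 266) (.leaf ⟨⟨(.negSucc (nat_lit 0)), (.ofNat (nat_lit 2)), (.negSucc (nat_lit 0)), (.ofNat (nat_lit 0)), (.negSucc (nat_lit 0)), (.ofNat (nat_lit 0)), (.ofNat (nat_lit 1)), (.ofNat (nat_lit 0))⟩, ⟨(.ofNat (nat_lit 2)), (.ofNat (nat_lit 0)), (.ofNat (nat_lit 0)), (.ofNat (nat_lit 0)), (.ofNat (nat_lit 0)), (.ofNat (nat_lit 0)), (.ofNat (nat_lit 0)),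 (.ofNat (nat_lit 0))⟩, ⟨(.ofNat (nat_lit 0)), (.ofNat (nat_lit 0)), (.ofNat (nat_lit 0)), (.ofNat (nat_lit 0)), (.ofNat (nat_lit 0)), (.ofNat (nat_lit 0)), (.ofNat (nat_lit 2)), (.ofNat (nat_lit 0))⟩⟩) (.leaf ⟨⟨(.ofNat (nat_lit 0)), (.ofNat (nat_lit 0)), (.ofNat (nat_lit 0)), (.ofNat (nat_lit 0)), (.ofNat (nat_lit 0)), (.ofNat (nat_lit 0)), (.ofNat (nat_lit 0)), (.ofNat (nat_lit 0))⟩, ⟨(.ofNat (nat_lit 1)), (.negSucc (nat_lit 1)), (.ofNat (nat_lit 1)), (.ofNat (nat_lit 0)), (.ofNat (nat_lit 1)), (.ofNat (nat_lit 0)), (.ofNat (nat_lit 1)), (.ofNat (nat_lit 0))⟩, ⟨(.negSucc (nat_lit 0)), (.ofNat (nat_lit 0)), (.ofNat (nat_lit 1)), (.ofNat (nat_lit 0)), (.negSucc (nat_lit 0)), (.ofNat (nat_lit 0)), (.ofNat (nat_lit 1)), (.negSucc (nat_lit 1))⟩⟩)) (.node (nat_lit 268) (.leaf ⟨⟨(.ofNat (nat_lit 0)), (.ofNat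 (nat_lit 1)), (.ofNat (nat_lit 0)), (.ofNat (nat_lit 1)), (.ofNat (nat_lit 0)), (.negSucc (nat_lit 0)), (.ofNat (nat_lit 0)), (.ofNat (nat_lit 1))⟩, ⟨(.ofNat (nat_lit 1)), (.negSucc (nat_lit 0)), (.negSucc (nat_lit 0)), (.ofNat (nat_lit 1)), (.negSucc (nat_lit 0)), (.ofNat (nat_lit 1)), (.ofNat (nat_lit 1)), (.negSucc (nat_lit 0))⟩, ⟨(.ofNat (nat_lit 2)), (.ofNat (nat_lit 0)), (.ofNat (nat_lit 0)), (.ofNat (nat_lit 0)), (.ofNat (nat_lit 0)), (.ofNat (nat_lit 0)), (.ofNat (nat_lit 0)), (.ofNat (nat_lit 0))⟩⟩) (.node (nat_lit 269) (.leaf ⟨⟨(.ofNat (nat_lit 0)), (.negSucc (nat_lit 0)), (.ofNat (nat_lit 0)), (.negSucc (nat_lit 0)), (.ofNat (nat_lit 0)), (.ofNat (nat_lit 1)), (.ofNat (nat_lit 0)), (.negSucc (nat_lit 0))⟩, ⟨(.ofNat (nat_lit 1)), (.negSucc (nat_lit 0)), (.negSucc (nat_lit 0)), (.ofNat (nat_lit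 1)), (.negSucc (nat_lit 0)), (.ofNat (nat_lit 1)), (.ofNat (nat_lit 1)), (.negSucc (nat_lit 0))⟩, ⟨(.ofNat (nat_lit 2)), (.ofNat (nat_lit 0)), (.ofNat (nat_lit 0)), (.ofNat (nat_lit 0)), (.ofNat (nat_lit 0)), (.ofNat (nat_lit 0)), (.ofNat (nat_lit 0)), (.ofNat (nat_lit 0))⟩⟩) (.leaf ⟨⟨(.ofNat (nat_lit 0)), (.negSucc (nat_lit 0)), (.ofNat (nat_lit 0)), (.negSucc (nat_lit 0)), (.ofNat (nat_lit 0)), (.ofNat (nat_lit 1)), (.ofNat (nat_lit 0)), (.negSucc (nat_lit 0))⟩, ⟨(.ofNat (nat_lit 2)), (.ofNat (nat_lit 0)), (.ofNat (nat_lit 0)), (.ofNat (nat_lit 0)), (.ofNat (nat_lit 0)), (.ofNat (nat_lit 0)), (.ofNat (nat_lit 0)), (.ofNat (nat_lit 0))⟩, ⟨(.negSucc (nat_lit 0)), (.ofNat (nat_lit 1)), (.ofNat (nat_lit 1)), (.negSucc (nat_lit 0)), (.ofNat (nat_lit 1)), (.negSucc (nat_lit 0)), (.negSucc (nat_lit 0)),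 (.ofNat (nat_lit 1))⟩⟩))))
 (.node (nat_lit 272) (.node (nat_lit 271) (.leaf ⟨⟨(.ofNat (nat_lit 0)), (.ofNat (nat_lit 1)), (.ofNat (nat_lit 0)), (.ofNat (nat_lit 1)), (.ofNat (nat_lit 0)), (.negSucc (nat_lit 0)), (.ofNat (nat_lit 0)), (.ofNat (nat_lit 1))⟩, ⟨(.ofNat (nat_lit 2)), (.ofNat (nat_lit 0)), (.ofNat (nat_lit 0)), (.ofNat (nat_lit 0)), (.ofNat (nat_lit 0)), (.ofNat (nat_lit 0)), (.ofNat (nat_lit 0)), (.ofNat (nat_lit 0))⟩, ⟨(.negSucc (nat_lit 0)), (.ofNat (nat_lit 1)), (.ofNat (nat_lit 1)), (.negSucc (nat_lit 0)), (.ofNat (nat_lit 1)), (.negSucc (nat_lit 0)), (.negSucc (nat_lit 0)), (.ofNat (nat_lit 1))⟩⟩) (.leaf ⟨⟨(.ofNat (nat_lit 0)), (.negSucc (nat_lit 0)), (.ofNat (nat_lit 0)), (.ofNat (nat_lit 1)), (.ofNat (nat_lit 0)), (.negSucc (nat_lit 0)), (.ofNat (nat_lit 0)), (.negSucc (nat_lit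 0))⟩, ⟨(.ofNat (nat_lit 2)), (.ofNat (nat_lit 0)), (.ofNat (nat_lit 0)), (.ofNat (nat_lit 0)), (.ofNat (nat_lit 0)), (.ofNat (nat_lit 0)), (.ofNat (nat_lit 0)), (.ofNat (nat_lit 0))⟩, ⟨(.ofNat (nat_lit 1)), (.negSucc (nat_lit 0)), (.negSucc (nat_lit 0)), (.ofNat (nat_lit 1)), (.ofNat (nat_lit 1)), (.negSucc (nat_lit 0)), (.negSucc (nat_lit 0)), (.ofNat (nat_lit 1))⟩⟩)) (.node (nat_lit 273) (.leaf ⟨⟨(.ofNat (nat_lit 0)), (.ofNat (nat_lit 1)), (.ofNat (nat_lit 0)), (.negSucc (nat_lit 0)), (.ofNat (nat_lit 0)), (.ofNat (nat_lit 1)), (.ofNat (nat_lit 0)), (.ofNat (nat_lit 1))⟩, ⟨(.ofNat (nat_lit 2)), (.ofNat (nat_lit 0)), (.ofNat (nat_lit 0)), (.ofNat (nat_lit 0)), (.ofNat (nat_lit 0)), (.ofNat (nat_lit 0)), (.ofNat (nat_lit 0)), (.ofNat (nat_lit 0))⟩, ⟨(.ofNat (nat_lit 1)), (.negSucc (nat_lit 0)), (.negSucc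 (nat_lit 0)), (.ofNat (nat_lit 1)), (.ofNat (nat_lit 1)), (.negSucc (nat_lit 0)), (.negSucc (nat_lit 0)), (.ofNat (nat_lit 1))⟩⟩) (.node (nat_lit 274) (.leaf ⟨⟨(.ofNat (nat_lit 0)), (.ofNat (nat_lit 1)), (.ofNat (nat_lit 0)), (.negSucc (nat_lit 0)), (.ofNat (nat_lit 0)), (.ofNat (nat_lit 1)), (.ofNat (nat_lit 0)), (.ofNat (nat_lit 1))⟩, ⟨(.negSucc (nat_lit 0)), (.ofNat (nat_lit 1)), (.ofNat (nat_lit 1)), (.negSucc (nat_lit 0)), (.negSucc (nat_lit 0)), (.ofNat (nat_lit 1)), (.ofNat (nat_lit 1)), (.negSucc (nat_lit 0))⟩, ⟨(.ofNat (nat_lit 2)), (.ofNat (nat_lit 0)), (.ofNat (nat_lit 0)), (.ofNat (nat_lit 0)), (.ofNat (nat_lit 0)), (.ofNat (nat_lit 0)), (.ofNat (nat_lit 0)), (.ofNat (nat_lit 0))⟩⟩) (.leaf ⟨⟨(.ofNat (nat_lit 0)), (.negSucc (nat_lit 0)), (.ofNat (nat_lit 0)), (.ofNat (nat_lit 1)), (.ofNat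 (nat_lit 0)), (.negSucc (nat_lit 0)), (.ofNat (nat_lit 0)), (.negSucc (nat_lit 0))⟩, ⟨(.negSucc (nat_lit 0)), (.ofNat (nat_lit 1)), (.ofNat (nat_lit 1)), (.negSucc (nat_lit 0)), (.negSucc (nat_lit 0)), (.ofNat (nat_lit 1)), (.ofNat (nat_lit 1)), (.negSucc (nat_lit 0))⟩, ⟨(.ofNat (nat_lit 2)), (.ofNat (nat_lit 0)), (.ofNat (nat_lit 0)), (.ofNat (nat_lit 0)), (.ofNat (nat_lit 0)), (.ofNat (nat_lit 0)), (.ofNat (nat_lit 0)), (.ofNat (nat_lit 0))⟩⟩)))))))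
 (.node (nat_lit 295) (.node (nat_lit 285) (.node (nat_lit 280) (.node (nat_lit 277) (.node (nat_lit 276) (.leaf ⟨⟨(.ofNat (nat_lit 0)), (.ofNat (nat_lit 1)), (.ofNat (nat_lit 0)), (.ofNat (nat_lit 1)), (.ofNat (nat_lit 0)), (.ofNat (nat_lit 1)), (.ofNat (nat_lit 0)), (.negSucc (nat_lit 0))⟩, ⟨(.ofNat (nat_lit 2)), (.ofNat (nat_lit 0)), (.ofNat (nat_lit 0)), (.ofNat (nat_lit 0)), (.ofNat (nat_lit 0)), (.ofNat (nat_lit 0)), (.ofNat (nat_lit 0)), (.ofNat (nat_lit 0))⟩, ⟨(.ofNat (nat_lit 1)), (.negSucc (nat_lit 0)), (.ofNat (nat_lit 1)), (.negSucc (nat_lit 0)), (.negSucc (nat_lit 0)), (.ofNat (nat_lit 1)), (.negSucc (nat_lit 0)), (.ofNat (nat_lit 1))⟩⟩) (.leaf ⟨⟨(.ofNat (nat_lit 0)), (.negSucc (nat_lit 0)), (.ofNat (nat_lit 0)), (.negSucc (nat_lit 0)), (.ofNat (nat_lit 0)), (.negSucc (nat_lit 0)), (.ofNat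 (nat_lit 0)), (.ofNat (nat_lit 1))⟩, ⟨(.ofNat (nat_lit 2)), (.ofNat (nat_lit 0)), (.ofNat (nat_lit 0)), (.ofNat (nat_lit 0)), (.ofNat (nat_lit 0)), (.ofNat (nat_lit 0)), (.ofNat (nat_lit 0)), (.ofNat (nat_lit 0))⟩, ⟨(.ofNat (nat_lit 1)), (.negSucc (nat_lit 0)), (.ofNat (nat_lit 1)), (.negSucc (nat_lit 0)), (.negSucc (nat_lit 0)), (.ofNat (nat_lit 1)), (.negSucc (nat_lit 0)), (.ofNat (nat_lit 1))⟩⟩)) (.node (nat_lit 278) (.leaf ⟨⟨(.ofNat (nat_lit 0)), (.negSucc (nat_lit 0)), (.ofNat (nat_lit 0)), (.negSucc (nat_lit 0)), (.ofNat (nat_lit 0)), (.negSucc (nat_lit 0)), (.ofNat (nat_lit 0)), (.ofNat (nat_lit 1))⟩, ⟨(.negSucc (nat_lit 0)), (.ofNat (nat_lit 1)), (.negSucc (nat_lit 0)), (.ofNat (nat_lit 1)), (.ofNat (nat_lit 1)), (.negSucc (nat_lit 0)), (.ofNat (nat_lit 1)), (.negSucc (nat_lit 0))⟩, ⟨(.ofNat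 (nat_lit 2)), (.ofNat (nat_lit 0)), (.ofNat (nat_lit 0)), (.ofNat (nat_lit 0)), (.ofNat (nat_lit 0)), (.ofNat (nat_lit 0)), (.ofNat (nat_lit 0)), (.ofNat (nat_lit 0))⟩⟩) (.node (nat_lit 279) (.leaf ⟨⟨(.ofNat (nat_lit 0)), (.ofNat (nat_lit 1)), (.ofNat (nat_lit 0)), (.ofNat (nat_lit 1)), (.ofNat (nat_lit 0)), (.ofNat (nat_lit 1)), (.ofNat (nat_lit 0)), (.negSucc (nat_lit 0))⟩, ⟨(.negSucc (nat_lit 0)), (.ofNat (nat_lit 1)), (.negSucc (nat_lit 0)), (.ofNat (nat_lit 1)), (.ofNat (nat_lit 1)), (.negSucc (nat_lit 0)), (.ofNat (nat_lit 1)), (.negSucc (nat_lit 0))⟩, ⟨(.ofNat (nat_lit 2)), (.ofNat (nat_lit 0)), (.ofNat (nat_lit 0)), (.ofNat (nat_lit 0)), (.ofNat (nat_lit 0)), (.ofNat (nat_lit 0)), (.ofNat (nat_lit 0)), (.ofNat (nat_lit 0))⟩⟩) (.leaf ⟨⟨(.ofNat (nat_lit 0)), (.negSucc (nat_lit 0)), (.ofNat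 (nat_lit 0)), (.ofNat (nat_lit 1)), (.ofNat (nat_lit 0)), (.ofNat (nat_lit 1)), (.ofNat (nat_lit 0)), (.ofNat (nat_lit 1))⟩, ⟨(.ofNat (nat_lit 1)), (.negSucc (nat_lit 0)), (.ofNat (nat_lit 1)), (.negSucc (nat_lit 0)), (.ofNat (nat_lit 1)), (.negSucc (nat_lit 0)), (.ofNat (nat_lit 1)), (.negSucc (nat_lit 0))⟩, ⟨(.ofNat (nat_lit 2)), (.ofNat (nat_lit 0)), (.ofNat (nat_lit 0)), (.ofNat (nat_lit 0)), (.ofNat (nat_lit 0)), (.ofNat (nat_lit 0)), (.ofNat (nat_lit 0)), (.ofNat (nat_lit 0))⟩⟩))))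
 (.node (nat_lit 282) (.node (nat_lit 281) (.leaf ⟨⟨(.ofNat (nat_lit 0)), (.ofNat (nat_lit 1)), (.ofNat (nat_lit 0)), (.negSucc (nat_lit 0)), (.ofNat (nat_lit 0)), (.negSucc (nat_lit 0)), (.ofNat (nat_lit 0)), (.negSucc (nat_lit 0))⟩, ⟨(.ofNat (nat_lit 1)), (.negSucc (nat_lit 0)), (.ofNat (nat_lit 1)), (.negSucc (nat_lit 0)), (.ofNat (nat_lit 1)), (.negSucc (nat_lit 0)), (.ofNat (nat_lit 1)), (.negSucc (nat_lit 0))⟩, ⟨(.ofNat (nat_lit 2)), (.ofNat (nat_lit 0)), (.ofNat (nat_lit 0)), (.ofNat (nat_lit 0)), (.ofNat (nat_lit 0)), (.ofNat (nat_lit 0)), (.ofNat (nat_lit 0)), (.ofNat (nat_lit 0))⟩⟩) (.leaf ⟨⟨(.ofNat (nat_lit 0)), (.negSucc (nat_lit 0)), (.ofNat (nat_lit 0)), (.ofNat (nat_lit 1)), (.ofNat (nat_lit 0)), (.ofNat (nat_lit 1)), (.ofNat (nat_lit 0)), (.ofNat (nat_lit 1))⟩, ⟨(.ofNat (nat_lit 2)),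 (.ofNat (nat_lit 0)), (.ofNat (nat_lit 0)), (.ofNat (nat_lit 0)), (.ofNat (nat_lit 0)), (.ofNat (nat_lit 0)), (.ofNat (nat_lit 0)), (.ofNat (nat_lit 0))⟩, ⟨(.negSucc (nat_lit 0)), (.ofNat (nat_lit 1)), (.negSucc (nat_lit 0)), (.ofNat (nat_lit 1)), (.negSucc (nat_lit 0)), (.ofNat (nat_lit 1)), (.negSucc (nat_lit 0)), (.ofNat (nat_lit 1))⟩⟩)) (.node (nat_lit 283) (.leaf ⟨⟨(.ofNat (nat_lit 0)), (.ofNat (nat_lit 1)), (.ofNat (nat_lit 0)), (.negSucc (nat_lit 0)), (.ofNat (nat_lit 0)), (.negSucc (nat_lit 0)), (.ofNat (nat_lit 0)), (.negSucc (nat_lit 0))⟩, ⟨(.ofNat (nat_lit 2)), (.ofNat (nat_lit 0)), (.ofNat (nat_lit 0)), (.ofNat (nat_lit 0)), (.ofNat (nat_lit 0)), (.ofNat (nat_lit 0)), (.ofNat (nat_lit 0)), (.ofNat (nat_lit 0))⟩, ⟨(.negSucc (nat_lit 0)), (.ofNat (nat_lit 1)), (.negSucc (nat_lit 0)), (.ofNat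 (nat_lit 1)), (.negSucc (nat_lit 0)), (.ofNat (nat_lit 1)), (.negSucc (nat_lit 0)), (.ofNat (nat_lit 1))⟩⟩) (.node (nat_lit 284) (.leaf ⟨⟨(.ofNat (nat_lit 1)), (.negSucc (nat_lit 0)), (.ofNat (nat_lit 1)), (.negSucc (nat_lit 0)), (.negSucc (nat_lit 0)), (.ofNat (nat_lit 1)), (.negSucc (nat_lit 0)), (.ofNat (nat_lit 1))⟩, ⟨(.ofNat (nat_lit 2)), (.ofNat (nat_lit 0)), (.ofNat (nat_lit 0)), (.ofNat (nat_lit 0)), (.ofNat (nat_lit 0)), (.ofNat (nat_lit 0)), (.ofNat (nat_lit 0)), (.ofNat (nat_lit 0))⟩, ⟨(.ofNat (nat_lit 0)), (.negSucc (nat_lit 0)), (.ofNat (nat_lit 0)), (.negSucc (nat_lit 0)), (.ofNat (nat_lit 0)), (.negSucc (nat_lit 0)), (.ofNat (nat_lit 0)), (.ofNat (nat_lit 1))⟩⟩) (.leaf ⟨⟨(.negSucc (nat_lit 0)), (.ofNat (nat_lit 1)), (.negSucc (nat_lit 0)), (.ofNat (nat_lit 1)), (.ofNat (nat_lit 1)),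 (.negSucc (nat_lit 0)), (.ofNat (nat_lit 1)), (.negSucc (nat_lit 0))⟩, ⟨(.ofNat (nat_lit 2)), (.ofNat (nat_lit 0)), (.ofNat (nat_lit 0)), (.ofNat (nat_lit 0)), (.ofNat (nat_lit 0)), (.ofNat (nat_lit 0)), (.ofNat (nat_lit 0)), (.ofNat (nat_lit 0))⟩, ⟨(.ofNat (nat_lit 0)), (.negSucc (nat_lit 0)), (.ofNat (nat_lit 0)), (.negSucc (nat_lit 0)), (.ofNat (nat_lit 0)), (.negSucc (nat_lit 0)), (.ofNat (nat_lit 0)), (.ofNat (nat_lit 1))⟩⟩)))))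
 (.node (nat_lit 290) (.node (nat_lit 287) (.node (nat_lit 286) (.leaf ⟨⟨(.ofNat (nat_lit 1)), (.negSucc (nat_lit 0)), (.ofNat (nat_lit 1)), (.negSucc (nat_lit 0)), (.negSucc (nat_lit 0)), (.ofNat (nat_lit 1)), (.negSucc (nat_lit 0)), (.ofNat (nat_lit 1))⟩, ⟨(.ofNat (nat_lit 0)), (.ofNat (nat_lit 1)), (.ofNat (nat_lit 0)), (.ofNat (nat_lit 1)), (.ofNat (nat_lit 0)), (.ofNat (nat_lit 1)), (.ofNat (nat_lit 0)), (.negSucc (nat_lit 0))⟩, ⟨(.ofNat (nat_lit 2)), (.ofNat (nat_lit 0)), (.ofNat (nat_lit 0)), (.ofNat (nat_lit 0)), (.ofNat (nat_lit 0)), (.ofNat (nat_lit 0)), (.ofNat (nat_lit 0)), (.ofNat (nat_lit 0))⟩⟩) (.leaf ⟨⟨(.negSucc (nat_lit 0)), (.ofNat (nat_lit 1)), (.negSucc (nat_lit 0)), (.ofNat (nat_lit 1)), (.ofNat (nat_lit 1)), (.negSucc (nat_lit 0)), (.ofNat (nat_lit 1)), (.negSucc (nat_lit 0))⟩,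 ⟨(.ofNat (nat_lit 0)), (.ofNat (nat_lit 1)), (.ofNat (nat_lit 0)), (.ofNat (nat_lit 1)), (.ofNat (nat_lit 0)), (.ofNat (nat_lit 1)), (.ofNat (nat_lit 0)), (.negSucc (nat_lit 0))⟩, ⟨(.ofNat (nat_lit 2)), (.ofNat (nat_lit 0)), (.ofNat (nat_lit 0)), (.ofNat (nat_lit 0)), (.ofNat (nat_lit 0)), (.ofNat (nat_lit 0)), (.ofNat (nat_lit 0)), (.ofNat (nat_lit 0))⟩⟩)) (.node (nat_lit 288) (.leaf ⟨⟨(.negSucc (nat_lit 0)), (.ofNat (nat_lit 1)), (.ofNat (nat_lit 1)), (.negSucc (nat_lit 0)), (.ofNat (nat_lit 1)), (.negSucc (nat_lit 0)), (.negSucc (nat_lit 0)), (.ofNat (nat_lit 1))⟩, ⟨(.ofNat (nat_lit 0)), (.negSucc (nat_lit 0)), (.ofNat (nat_lit 0)), (.negSucc (nat_lit 0)), (.ofNat (nat_lit 0)), (.ofNat (nat_lit 1)), (.ofNat (nat_lit 0)), (.negSucc (nat_lit 0))⟩, ⟨(.ofNat (nat_lit 2)), (.ofNat (nat_lit 0)), (.ofNat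 (nat_lit 0)), (.ofNat (nat_lit 0)), (.ofNat (nat_lit 0)), (.ofNat (nat_lit 0)), (.ofNat (nat_lit 0)), (.ofNat (nat_lit 0))⟩⟩) (.node (nat_lit 289) (.leaf ⟨⟨(.ofNat (nat_lit 1)), (.negSucc (nat_lit 0)), (.negSucc (nat_lit 0)), (.ofNat (nat_lit 1)), (.negSucc (nat_lit 0)), (.ofNat (nat_lit 1)), (.ofNat (nat_lit 1)), (.negSucc (nat_lit 0))⟩, ⟨(.ofNat (nat_lit 0)), (.negSucc (nat_lit 0)), (.ofNat (nat_lit 0)), (.negSucc (nat_lit 0)), (.ofNat (nat_lit 0)), (.ofNat (nat_lit 1)), (.ofNat (nat_lit 0)), (.negSucc (nat_lit 0))⟩, ⟨(.ofNat (nat_lit 2)), (.ofNat (nat_lit 0)), (.ofNat (nat_lit 0)), (.ofNat (nat_lit 0)), (.ofNat (nat_lit 0)), (.ofNat (nat_lit 0)), (.ofNat (nat_lit 0)), (.ofNat (nat_lit 0))⟩⟩) (.leaf ⟨⟨(.negSucc (nat_lit 0)), (.ofNat (nat_lit 1)), (.ofNat (nat_lit 1)), (.negSucc (nat_lit 0)), (.ofNat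 (nat_lit 1)), (.negSucc (nat_lit 0)), (.negSucc (nat_lit 0)), (.ofNat (nat_lit 1))⟩, ⟨(.ofNat (nat_lit 2)), (.ofNat (nat_lit 0)), (.ofNat (nat_lit 0)), (.ofNat (nat_lit 0)), (.ofNat (nat_lit 0)), (.ofNat (nat_lit 0)), (.ofNat (nat_lit 0)), (.ofNat (nat_lit 0))⟩, ⟨(.ofNat (nat_lit 0)), (.ofNat (nat_lit 1)), (.ofNat (nat_lit 0)), (.ofNat (nat_lit 1)), (.ofNat (nat_lit 0)), (.negSucc (nat_lit 0)), (.ofNat (nat_lit 0)), (.ofNat (nat_lit 1))⟩⟩))))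
 (.node (nat_lit 292) (.node (nat_lit 291) (.leaf ⟨⟨(.ofNat (nat_lit 1)), (.negSucc (nat_lit 0)), (.negSucc (nat_lit 0)), (.ofNat (nat_lit 1)), (.negSucc (nat_lit 0)), (.ofNat (nat_lit 1)), (.ofNat (nat_lit 1)), (.negSucc (nat_lit 0))⟩, ⟨(.ofNat (nat_lit 2)), (.ofNat (nat_lit 0)), (.ofNat (nat_lit 0)), (.ofNat (nat_lit 0)), (.ofNat (nat_lit 0)), (.ofNat (nat_lit 0)), (.ofNat (nat_lit 0)), (.ofNat (nat_lit 0))⟩, ⟨(.ofNat (nat_lit 0)), (.ofNat (nat_lit 1)), (.ofNat (nat_lit 0)), (.ofNat (nat_lit 1)), (.ofNat (nat_lit 0)), (.negSucc (nat_lit 0)), (.ofNat (nat_lit 0)), (.ofNat (nat_lit 1))⟩⟩) (.leaf ⟨⟨(.ofNat (nat_lit 1)), (.negSucc (nat_lit 0)), (.negSucc (nat_lit 0)), (.ofNat (nat_lit 1)), (.ofNat (nat_lit 1)), (.negSucc (nat_lit 0)), (.negSucc (nat_lit 0)), (.ofNat (nat_lit 1))⟩, ⟨(.ofNat (nat_lit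 0)), (.negSucc (nat_lit 0)), (.ofNat (nat_lit 0)), (.ofNat (nat_lit 1)), (.ofNat (nat_lit 0)), (.negSucc (nat_lit 0)), (.ofNat (nat_lit 0)), (.negSucc (nat_lit 0))⟩, ⟨(.ofNat (nat_lit 2)), (.ofNat (nat_lit 0)), (.ofNat (nat_lit 0)), (.ofNat (nat_lit 0)), (.ofNat (nat_lit 0)), (.ofNat (nat_lit 0)), (.ofNat (nat_lit 0)), (.ofNat (nat_lit 0))⟩⟩)) (.node (nat_lit 293) (.leaf ⟨⟨(.negSucc (nat_lit 0)), (.ofNat (nat_lit 1)), (.ofNat (nat_lit 1)), (.negSucc (nat_lit 0)), (.negSucc (nat_lit 0)), (.ofNat (nat_lit 1)), (.ofNat (nat_lit 1)), (.negSucc (nat_lit 0))⟩, ⟨(.ofNat (nat_lit 0)), (.negSucc (nat_lit 0)), (.ofNat (nat_lit 0)), (.ofNat (nat_lit 1)), (.ofNat (nat_lit 0)), (.negSucc (nat_lit 0)), (.ofNat (nat_lit 0)), (.negSucc (nat_lit 0))⟩, ⟨(.ofNat (nat_lit 2)), (.ofNat (nat_lit 0)), (.ofNat (nat_lit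 0)), (.ofNat (nat_lit 0)), (.ofNat (nat_lit 0)), (.ofNat (nat_lit 0)), (.ofNat (nat_lit 0)), (.ofNat (nat_lit 0))⟩⟩) (.node (nat_lit 294) (.leaf ⟨⟨(.ofNat (nat_lit 1)), (.negSucc (nat_lit 0)), (.negSucc (nat_lit 0)), (.ofNat (nat_lit 1)), (.ofNat (nat_lit 1)), (.negSucc (nat_lit 0)), (.negSucc (nat_lit 0)), (.ofNat (nat_lit 1))⟩, ⟨(.ofNat (nat_lit 2)), (.ofNat (nat_lit 0)), (.ofNat (nat_lit 0)), (.ofNat (nat_lit 0)), (.ofNat (nat_lit 0)), (.ofNat (nat_lit 0)), (.ofNat (nat_lit 0)), (.ofNat (nat_lit 0))⟩, ⟨(.ofNat (nat_lit 0)), (.ofNat (nat_lit 1)), (.ofNat (nat_lit 0)), (.negSucc (nat_lit 0)), (.ofNat (nat_lit 0)), (.ofNat (nat_lit 1)), (.ofNat (nat_lit 0)), (.ofNat (nat_lit 1))⟩⟩) (.leaf ⟨⟨(.negSucc (nat_lit 0)), (.ofNat (nat_lit 1)), (.ofNat (nat_lit 1)), (.negSucc (nat_lit 0)), (.negSucc (nat_lit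 0)), (.ofNat (nat_lit 1)), (.ofNat (nat_lit 1)), (.negSucc (nat_lit 0))⟩, ⟨(.ofNat (nat_lit 2)), (.ofNat (nat_lit 0)), (.ofNat (nat_lit 0)), (.ofNat (nat_lit 0)), (.ofNat (nat_lit 0)), (.ofNat (nat_lit 0)), (.ofNat (nat_lit 0)), (.ofNat (nat_lit 0))⟩, ⟨(.ofNat (nat_lit 0)), (.ofNat (nat_lit 1)), (.ofNat (nat_lit 0)), (.negSucc (nat_lit 0)), (.ofNat (nat_lit 0)), (.ofNat (nat_lit 1)), (.ofNat (nat_lit 0)), (.ofNat (nat_lit 1))⟩⟩))))))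
 (.node (nat_lit 305) (.node (nat_lit 300) (.node (nat_lit 297) (.node (nat_lit 296) (.leaf ⟨⟨(.ofNat (nat_lit 1)), (.negSucc (nat_lit 0)), (.ofNat (nat_lit 1)), (.negSucc (nat_lit 0)), (.ofNat (nat_lit 1)), (.negSucc (nat_lit 0)), (.ofNat (nat_lit 1)), (.negSucc (nat_lit 0))⟩, ⟨(.ofNat (nat_lit 2)), (.ofNat (nat_lit 0)), (.ofNat (nat_lit 0)), (.ofNat (nat_lit 0)), (.ofNat (nat_lit 0)), (.ofNat (nat_lit 0)), (.ofNat (nat_lit 0)), (.ofNat (nat_lit 0))⟩, ⟨(.ofNat (nat_lit 0)), (.negSucc (nat_lit 0)), (.ofNat (nat_lit 0)), (.ofNat (nat_lit 1)), (.ofNat (nat_lit 0)), (.ofNat (nat_lit 1)), (.ofNat (nat_lit 0)), (.ofNat (nat_lit 1))⟩⟩) (.leaf ⟨⟨(.negSucc (nat_lit 0)), (.ofNat (nat_lit 1)), (.negSucc (nat_lit 0)), (.ofNat (nat_lit 1)), (.negSucc (nat_lit 0)), (.ofNat (nat_lit 1)), (.negSucc (nat_lit 0)),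 (.ofNat (nat_lit 1))⟩, ⟨(.ofNat (nat_lit 2)), (.ofNat (nat_lit 0)), (.ofNat (nat_lit 0)), (.ofNat (nat_lit 0)), (.ofNat (nat_lit 0)), (.ofNat (nat_lit 0)), (.ofNat (nat_lit 0)), (.ofNat (nat_lit 0))⟩, ⟨(.ofNat (nat_lit 0)), (.negSucc (nat_lit 0)), (.ofNat (nat_lit 0)), (.ofNat (nat_lit 1)), (.ofNat (nat_lit 0)), (.ofNat (nat_lit 1)), (.ofNat (nat_lit 0)), (.ofNat (nat_lit 1))⟩⟩)) (.node (nat_lit 298) (.leaf ⟨⟨(.negSucc (nat_lit 0)), (.ofNat (nat_lit 1)), (.negSucc (nat_lit 0)), (.ofNat (nat_lit 1)), (.negSucc (nat_lit 0)), (.ofNat (nat_lit 1)), (.negSucc (nat_lit 0)), (.ofNat (nat_lit 1))⟩, ⟨(.ofNat (nat_lit 0)), (.ofNat (nat_lit 1)), (.ofNat (nat_lit 0)), (.negSucc (nat_lit 0)), (.ofNat (nat_lit 0)), (.negSucc (nat_lit 0)), (.ofNat (nat_lit 0)), (.negSucc (nat_lit 0))⟩, ⟨(.ofNat (nat_lit 2)), (.ofNat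 (nat_lit 0)), (.ofNat (nat_lit 0)), (.ofNat (nat_lit 0)), (.ofNat (nat_lit 0)), (.ofNat (nat_lit 0)), (.ofNat (nat_lit 0)), (.ofNat (nat_lit 0))⟩⟩) (.node (nat_lit 299) (.leaf ⟨⟨(.ofNat (nat_lit 1)), (.negSucc (nat_lit 0)), (.ofNat (nat_lit 1)), (.negSucc (nat_lit 0)), (.ofNat (nat_lit 1)), (.negSucc (nat_lit 0)), (.ofNat (nat_lit 1)), (.negSucc (nat_lit 0))⟩, ⟨(.ofNat (nat_lit 0)), (.ofNat (nat_lit 1)), (.ofNat (nat_lit 0)), (.negSucc (nat_lit 0)), (.ofNat (nat_lit 0)), (.negSucc (nat_lit 0)), (.ofNat (nat_lit 0)), (.negSucc (nat_lit 0))⟩, ⟨(.ofNat (nat_lit 2)), (.ofNat (nat_lit 0)), (.ofNat (nat_lit 0)), (.ofNat (nat_lit 0)), (.ofNat (nat_lit 0)), (.ofNat (nat_lit 0)), (.ofNat (nat_lit 0)), (.ofNat (nat_lit 0))⟩⟩) (.leaf ⟨⟨(.ofNat (nat_lit 2)), (.ofNat (nat_lit 0)), (.ofNat (nat_lit 0)), (.ofNat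 (nat_lit 0)), (.ofNat (nat_lit 0)), (.ofNat (nat_lit 0)), (.ofNat (nat_lit 0)), (.ofNat (nat_lit 0))⟩, ⟨(.ofNat (nat_lit 1)), (.ofNat (nat_lit 0)), (.negSucc (nat_lit 0)), (.ofNat (nat_lit 2)), (.ofNat (nat_lit 1)), (.ofNat (nat_lit 0)), (.ofNat (nat_lit 1)), (.ofNat (nat_lit 0))⟩, ⟨(.ofNat (nat_lit 0)), (.ofNat (nat_lit 0)), (.ofNat (nat_lit 0)), (.ofNat (nat_lit 0)), (.negSucc (nat_lit 1)), (.ofNat (nat_lit 0)), (.ofNat (nat_lit 0)), (.ofNat (nat_lit 0))⟩⟩))))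
 (.node (nat_lit 302) (.node (nat_lit 301) (.leaf ⟨⟨(.ofNat (nat_lit 2)), (.ofNat (nat_lit 0)), (.ofNat (nat_lit 0)), (.ofNat (nat_lit 0)), (.ofNat (nat_lit 0)), (.ofNat (nat_lit 0)), (.ofNat (nat_lit 0)), (.ofNat (nat_lit 0))⟩, ⟨(.negSucc (nat_lit 0)), (.ofNat (nat_lit 0)), (.ofNat (nat_lit 1)), (.negSucc (nat_lit 1)), (.negSucc (nat_lit 0)), (.ofNat (nat_lit 0)), (.negSucc (nat_lit 0)), (.ofNat (nat_lit 0))⟩, ⟨(.ofNat (nat_lit 0)), (.ofNat (nat_lit 0)), (.ofNat (nat_lit 0)), (.ofNat (nat_lit 0)), (.ofNat (nat_lit 2)), (.ofNat (nat_lit 0)), (.ofNat (nat_lit 0)), (.ofNat (nat_lit 0))⟩⟩) (.leaf ⟨⟨(.ofNat (nat_lit 2)), (.ofNat (nat_lit 0)), (.ofNat (nat_lit 0)), (.ofNat (nat_lit 0)), (.ofNat (nat_lit 0)), (.ofNat (nat_lit 0)), (.ofNat (nat_lit 0)), (.ofNat (nat_lit 0))⟩, ⟨(.ofNat (nat_lit 0)), (.ofNat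 (nat_lit 0)), (.ofNat (nat_lit 0)), (.ofNat (nat_lit 0)), (.negSucc (nat_lit 1)), (.ofNat (nat_lit 0)), (.ofNat (nat_lit 0)), (.ofNat (nat_lit 0))⟩, ⟨(.negSucc (nat_lit 0)), (.ofNat (nat_lit 0)), (.ofNat (nat_lit 1)), (.negSucc (nat_lit 1)), (.negSucc (nat_lit 0)), (.ofNat (nat_lit 0)), (.negSucc (nat_lit 0)), (.ofNat (nat_lit 0))⟩⟩)) (.node (nat_lit 303) (.leaf ⟨⟨(.ofNat (nat_lit 2)), (.ofNat (nat_lit 0)), (.ofNat (nat_lit 0)), (.ofNat (nat_lit 0)), (.ofNat (nat_lit 0)), (.ofNat (nat_lit 0)), (.ofNat (nat_lit 0)), (.ofNat (nat_lit 0))⟩, ⟨(.ofNat (nat_lit 0)), (.ofNat (nat_lit 0)), (.ofNat (nat_lit 0)), (.ofNat (nat_lit 0)), (.ofNat (nat_lit 2)), (.ofNat (nat_lit 0)), (.ofNat (nat_lit 0)), (.ofNat (nat_lit 0))⟩, ⟨(.ofNat (nat_lit 1)), (.ofNat (nat_lit 0)), (.negSucc (nat_lit 0)), (.ofNat (nat_lit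 2)), (.ofNat (nat_lit 1)), (.ofNat (nat_lit 0)), (.ofNat (nat_lit 1)), (.ofNat (nat_lit 0))⟩⟩) (.node (nat_lit 304) (.leaf ⟨⟨(.ofNat (nat_lit 2)), (.ofNat (nat_lit 0)), (.ofNat (nat_lit 0)), (.ofNat (nat_lit 0)), (.ofNat (nat_lit 0)), (.ofNat (nat_lit 0)), (.ofNat (nat_lit 0)), (.ofNat (nat_lit 0))⟩, ⟨(.ofNat (nat_lit 0)), (.ofNat (nat_lit 0)), (.ofNat (nat_lit 0)), (.ofNat (nat_lit 0)), (.ofNat (nat_lit 0)), (.ofNat (nat_lit 0)), (.ofNat (nat_lit 2)), (.ofNat (nat_lit 0))⟩, ⟨(.ofNat (nat_lit 1)), (.negSucc (nat_lit 1)), (.ofNat (nat_lit 1)), (.ofNat (nat_lit 0)), (.ofNat (nat_lit 1)), (.ofNat (nat_lit 0)), (.negSucc (nat_lit 0)), (.ofNat (nat_lit 0))⟩⟩) (.leaf ⟨⟨(.ofNat (nat_lit 2)), (.ofNat (nat_lit 0)), (.ofNat (nat_lit 0)), (.ofNat (nat_lit 0)), (.ofNat (nat_lit 0)), (.ofNat (nat_lit 0)), (.ofNat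 (nat_lit 0)), (.ofNat (nat_lit 0))⟩, ⟨(.ofNat (nat_lit 0)), (.ofNat (nat_lit 0)), (.ofNat (nat_lit 0)), (.ofNat (nat_lit 0)), (.ofNat (nat_lit 0)), (.ofNat (nat_lit 0)), (.negSucc (nat_lit 1)), (.ofNat (nat_lit 0))⟩, ⟨(.negSucc (nat_lit 0)), (.ofNat (nat_lit 2)), (.negSucc (nat_lit 0)), (.ofNat (nat_lit 0)), (.negSucc (nat_lit 0)), (.ofNat (nat_lit 0)), (.ofNat (nat_lit 1)), (.ofNat (nat_lit 0))⟩⟩)))))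
 (.node (nat_lit 310) (.node (nat_lit 307) (.node (nat_lit 306) (.leaf ⟨⟨(.ofNat (nat_lit 2)), (.ofNat (nat_lit 0)), (.ofNat (nat_lit 0)), (.ofNat (nat_lit 0)), (.ofNat (nat_lit 0)), (.ofNat (nat_lit 0)), (.ofNat (nat_lit 0)), (.ofNat (nat_lit 0))⟩, ⟨(.ofNat (nat_lit 1)), (.negSucc (nat_lit 1)), (.ofNat (nat_lit 1)), (.ofNat (nat_lit 0)), (.ofNat (nat_lit 1)), (.ofNat (nat_lit 0)), (.negSucc (nat_lit 0)), (.ofNat (nat_lit 0))⟩, ⟨(.ofNat (nat_lit 0)), (.ofNat (nat_lit 0)), (.ofNat (nat_lit 0)), (.ofNat (nat_lit 0)), (.ofNat (nat_lit 0)), (.ofNat (nat_lit 0)), (.negSucc (nat_lit 1)), (.ofNat (nat_lit 0))⟩⟩) (.leaf ⟨⟨(.ofNat (nat_lit 2)), (.ofNat (nat_lit 0)), (.ofNat (nat_lit 0)), (.ofNat (nat_lit 0)), (.ofNat (nat_lit 0)), (.ofNat (nat_lit 0)), (.ofNat (nat_lit 0)), (.ofNat (nat_lit 0))⟩, ⟨(.negSucc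 (nat_lit 0)), (.ofNat (nat_lit 2)), (.negSucc (nat_lit 0)), (.ofNat (nat_lit 0)), (.negSucc (nat_lit 0)), (.ofNat (nat_lit 0)), (.ofNat (nat_lit 1)), (.ofNat (nat_lit 0))⟩, ⟨(.ofNat (nat_lit 0)), (.ofNat (nat_lit 0)), (.ofNat (nat_lit 0)), (.ofNat (nat_lit 0)), (.ofNat (nat_lit 0)), (.ofNat (nat_lit 0)), (.ofNat (nat_lit 2)), (.ofNat (nat_lit 0))⟩⟩)) (.node (nat_lit 308) (.leaf ⟨⟨(.ofNat (nat_lit 2)), (.ofNat (nat_lit 0)), (.ofNat (nat_lit 0)), (.ofNat (nat_lit 0)), (.ofNat (nat_lit 0)), (.ofNat (nat_lit 0)), (.ofNat (nat_lit 0)), (.ofNat (nat_lit 0))⟩, ⟨(.negSucc (nat_lit 1)), (.ofNat (nat_lit 0)), (.ofNat (nat_lit 0)), (.ofNat (nat_lit 0)), (.ofNat (nat_lit 0)), (.ofNat (nat_lit 0)), (.ofNat (nat_lit 0)), (.ofNat (nat_lit 0))⟩, ⟨(.ofNat (nat_lit 1)), (.ofNat (nat_lit 0)), (.ofNat (nat_lit 1)),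 (.ofNat (nat_lit 0)), (.negSucc (nat_lit 0)), (.ofNat (nat_lit 0)), (.ofNat (nat_lit 1)), (.negSucc (nat_lit 1))⟩⟩) (.node (nat_lit 309) (.leaf ⟨⟨(.ofNat (nat_lit 2)), (.ofNat (nat_lit 0)), (.ofNat (nat_lit 0)), (.ofNat (nat_lit 0)), (.ofNat (nat_lit 0)), (.ofNat (nat_lit 0)), (.ofNat (nat_lit 0)), (.ofNat (nat_lit 0))⟩, ⟨(.ofNat (nat_lit 2)), (.ofNat (nat_lit 0)), (.ofNat (nat_lit 0)), (.ofNat (nat_lit 0)), (.ofNat (nat_lit 0)), (.ofNat (nat_lit 0)), (.ofNat (nat_lit 0)), (.ofNat (nat_lit 0))⟩, ⟨(.negSucc (nat_lit 0)), (.ofNat (nat_lit 0)), (.negSucc (nat_lit 0)), (.ofNat (nat_lit 0)), (.ofNat (nat_lit 1)), (.ofNat (nat_lit 0)), (.negSucc (nat_lit 0)), (.ofNat (nat_lit 2))⟩⟩) (.leaf ⟨⟨(.ofNat (nat_lit 2)), (.ofNat (nat_lit 0)), (.ofNat (nat_lit 0)), (.ofNat (nat_lit 0)), (.ofNat (nat_lit 0)), (.ofNat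 (nat_lit 0)), (.ofNat (nat_lit 0)), (.ofNat (nat_lit 0))⟩, ⟨(.negSucc (nat_lit 0)), (.ofNat (nat_lit 0)), (.negSucc (nat_lit 0)), (.ofNat (nat_lit 0)), (.ofNat (nat_lit 1)), (.ofNat (nat_lit 0)), (.negSucc (nat_lit 0)), (.ofNat (nat_lit 2))⟩, ⟨(.negSucc (nat_lit 1)), (.ofNat (nat_lit 0)), (.ofNat (nat_lit 0)), (.ofNat (nat_lit 0)), (.ofNat (nat_lit 0)), (.ofNat (nat_lit 0)), (.ofNat (nat_lit 0)), (.ofNat (nat_lit 0))⟩⟩))))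
 (.node (nat_lit 312) (.node (nat_lit 311) (.leaf ⟨⟨(.ofNat (nat_lit 2)), (.ofNat (nat_lit 0)), (.ofNat (nat_lit 0)), (.ofNat (nat_lit 0)), (.ofNat (nat_lit 0)), (.ofNat (nat_lit 0)), (.ofNat (nat_lit 0)), (.ofNat (nat_lit 0))⟩, ⟨(.ofNat (nat_lit 1)), (.ofNat (nat_lit 0)), (.ofNat (nat_lit 1)), (.ofNat (nat_lit 0)), (.negSucc (nat_lit 0)), (.ofNat (nat_lit 0)), (.ofNat (nat_lit 1)), (.negSucc (nat_lit 1))⟩, ⟨(.ofNat (nat_lit 2)), (.ofNat (nat_lit 0)), (.ofNat (nat_lit 0)), (.ofNat (nat_lit 0)), (.ofNat (nat_lit 0)), (.ofNat (nat_lit 0)), (.ofNat (nat_lit 0)), (.ofNat (nat_lit 0))⟩⟩) (.leaf ⟨⟨(.ofNat (nat_lit 2)), (.ofNat (nat_lit 0)), (.ofNat (nat_lit 0)), (.ofNat (nat_lit 0)), (.ofNat (nat_lit 0)), (.ofNat (nat_lit 0)), (.ofNat (nat_lit 0)), (.ofNat (nat_lit 0))⟩, ⟨(.negSucc (nat_lit 0)), (.ofNat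 (nat_lit 0)), (.ofNat (nat_lit 1)), (.ofNat (nat_lit 0)), (.ofNat (nat_lit 1)), (.negSucc (nat_lit 1)), (.ofNat (nat_lit 1)), (.ofNat (nat_lit 0))⟩, ⟨(.ofNat (nat_lit 0)), (.ofNat (nat_lit 0)), (.negSucc (nat_lit 1)), (.ofNat (nat_lit 0)), (.ofNat (nat_lit 0)), (.ofNat (nat_lit 0)), (.ofNat (nat_lit 0)), (.ofNat (nat_lit 0))⟩⟩)) (.node (nat_lit 313) (.leaf ⟨⟨(.ofNat (nat_lit 2)), (.ofNat (nat_lit 0)), (.ofNat (nat_lit 0)), (.ofNat (nat_lit 0)), (.ofNat (nat_lit 0)), (.ofNat (nat_lit 0)), (.ofNat (nat_lit 0)), (.ofNat (nat_lit 0))⟩, ⟨(.ofNat (nat_lit 1)), (.ofNat (nat_lit 0)), (.negSucc (nat_lit 0)), (.ofNat (nat_lit 0)), (.negSucc (nat_lit 0)), (.ofNat (nat_lit 2)), (.negSucc (nat_lit 0)), (.ofNat (nat_lit 0))⟩, ⟨(.ofNat (nat_lit 0)), (.ofNat (nat_lit 0)), (.ofNat (nat_lit 2)), (.ofNat (nat_lit 0)),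 (.ofNat (nat_lit 0)), (.ofNat (nat_lit 0)), (.ofNat (nat_lit 0)), (.ofNat (nat_lit 0))⟩⟩) (.node (nat_lit 314) (.leaf ⟨⟨(.ofNat (nat_lit 2)), (.ofNat (nat_lit 0)), (.ofNat (nat_lit 0)), (.ofNat (nat_lit 0)), (.ofNat (nat_lit 0)), (.ofNat (nat_lit 0)), (.ofNat (nat_lit 0)), (.ofNat (nat_lit 0))⟩, ⟨(.ofNat (nat_lit 0)), (.ofNat (nat_lit 0)), (.negSucc (nat_lit 1)), (.ofNat (nat_lit 0)), (.ofNat (nat_lit 0)), (.ofNat (nat_lit 0)), (.ofNat (nat_lit 0)), (.ofNat (nat_lit 0))⟩, ⟨(.ofNat (nat_lit 1)), (.ofNat (nat_lit 0)), (.negSucc (nat_lit 0)), (.ofNat (nat_lit 0)), (.negSucc (nat_lit 0)), (.ofNat (nat_lit 2)), (.negSucc (nat_lit 0)), (.ofNat (nat_lit 0))⟩⟩) (.leaf ⟨⟨(.ofNat (nat_lit 2)), (.ofNat (nat_lit 0)), (.ofNat (nat_lit 0)), (.ofNat (nat_lit 0)), (.ofNat (nat_lit 0)), (.ofNat (nat_lit 0)), (.ofNat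 (nat_lit 0)), (.ofNat (nat_lit 0))⟩, ⟨(.ofNat (nat_lit 0)), (.ofNat (nat_lit 0)), (.ofNat (nat_lit 2)), (.ofNat (nat_lit 0)), (.ofNat (nat_lit 0)), (.ofNat (nat_lit 0)), (.ofNat (nat_lit 0)), (.ofNat (nat_lit 0))⟩, ⟨(.negSucc (nat_lit 0)), (.ofNat (nat_lit 0)), (.ofNat (nat_lit 1)), (.ofNat (nat_lit 0)), (.ofNat (nat_lit 1)), (.negSucc (nat_lit 1)), (.ofNat (nat_lit 1)), (.ofNat (nat_lit 0))⟩⟩))))))))))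
theorem s0 : srch (leaf U K) ((CL.drop 0).take 6) = true := by decide +kernel
theorem s1 : srch (leaf U K) ((CL.drop 6).take 6) = true := by decide +kernel
theorem s2 : srch (leaf U K) ((CL.drop 12).take 6) = true := by decide +kernel
theorem s3 : srch (leaf U K) ((CL.drop 18).take 6) = true := by decide +kernel
theorem s_all : srch (leaf U K) CL = true := allL_iff.2 fun a ha => by
  have : CL = (CL.drop 0).take 6 ++ (CL.drop 6).take 6 ++ (CL.drop 12).take 6 ++ (CL.drop 18).take 6 := rfl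
  rw [this] at ha
  simp only [List.mem_append] at ha
  rcases ha with ((h | h) | h) | h
  exacts [allL_iff.1 s0 a h, allL_iff.1 s1 a h, allL_iff.1 s2 a h, allL_iff.1 s3 a h]
theorem a0 : chkA K R K0 = true := by decide +kernel
theorem a1 : chkA K R K1 = true := by decide +kernel
theorem a2 : chkA K R K2 = true := by decide +kernel
theorem a3 : chkA K R K3 = true := by decide +kernel
theorem a_all : chkA K R K = true := allL_iff.2 fun a ha => by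
  have : K = K0 ++ K1 ++ K2 ++ K3 := rfl
  rw [this] at ha
  simp only [List.mem_append] at ha
  rcases ha with ((h | h) | h) | h
  exacts [allL_iff.1 a0 a h, allL_iff.1 a1 a h, allL_iff.1 a2 a h, allL_iff.1 a3 a h]
theorem b_all : chkB U R = true := by decide +kernel
theorem goodR : (allB 315 fun a => (R.get a).good) = true := by decide +kernel
theorem goodU : (allB 120 fun a => band (U.get a).par (nIs (U.get a) 4 0)) = true := by decide +kernel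
theorem srtR : srt (fun a => key (R.get a)) 0 314 = true := by decide +kernel
theorem srtU : srt (fun a => code (U.get a) 0) 0 119 = true := by decide +kernel

end H8.Ico
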