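import Cfsg.Agent.H8.GJ2h
import Cfsg.Agent.H8.GJ2
import Cfsg.Agent.H8.GU33
import Cfsg.Agent.H8.Sub4

/-! H8.KJ2h: J2 on 100 points: `iso`, `sub` (point stabiliser U3(3), suborbits) (generated certificate) -/

set_option autoImplicit false
set_option maxRecDepth 200000

set_option linter.all false
open Subgroup 

namespace H8.J2h.K

noncomputable def iI : Tr (List ℕ) := (.node (nat_lit 3) (.node (nat_lit 1) (.leaf [nat_lit 4, nat_lit 1, nat_lit 5, nat_lit 1, nat_lit 5, nat_lit 1, nat_lit 4, nat_lit 0]) (.node (nat_lit 2) (.leaf [nat_lit 5, nat_lit 3, nat_lit 5, nat_lit 3, nat_lit 4, nat_lit 1, nat_lit 4, nat_lit 1, nat_lit 2]) (.leaf [nat_lit 3, nat_lit 0, nat_lit 5, nat_lit 0, nat_lit 5, nat_lit 0, nat_lit 4, nat_lit 3, nat_lit 4, nat_lit 1, nat_lit 2, nat_lit 1, nat_lit 3, nat_lit 1]))) (.node (nat_lit 4) (.leaf [nat_lit 3, nat_lit 5, nat_lit 0, nat_lit 3, nat_lit 5, nat_lit 0, nat_lit 2, nat_lit 1, nat_lit 4, nat_lit 3, nat_lit 1, nat_lit 2, nat_lit 1, nat_lit 3, nat_lit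 1, nat_lit 1]) (.node (nat_lit 5) (.leaf [nat_lit 2, nat_lit 4, nat_lit 5, nat_lit 0, nat_lit 5, nat_lit 0, nat_lit 2, nat_lit 1, nat_lit 1, nat_lit 4, nat_lit 3, nat_lit 1, nat_lit 1, nat_lit 3, nat_lit 1, nat_lit 1]) (.leaf [nat_lit 5, nat_lit 1, nat_lit 5, nat_lit 4, nat_lit 0, nat_lit 4, nat_lit 3, nat_lit 4, nat_lit 2, nat_lit 1, nat_lit 2]))))
theorem ih : J2.RL.all (fun w => eqB (J2h.L.map Lev.b) (apF (fun y => apL (nat_lit 7) (nat_lit 127) J2h.T (iI.get y)) w) fun a => a) = true := by decide +kernel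
noncomputable def iD : Tr (List ℕ) := (.node (nat_lit 3) (.node (nat_lit 1) (.leaf [nat_lit 2, nat_lit 4, nat_lit 1, nat_lit 2, nat_lit 5, nat_lit 4, nat_lit 2, nat_lit 1, nat_lit 3, nat_lit 0, nat_lit 2, nat_lit 0]) (.node (nat_lit 2) (.leaf [nat_lit 0, nat_lit 3, nat_lit 0, nat_lit 5, nat_lit 3, nat_lit 2, nat_lit 3, nat_lit 0, nat_lit 2, nat_lit 0]) (.leaf [nat_lit 2, nat_lit 4, nat_lit 1, nat_lit 2, nat_lit 5, nat_lit 1, nat_lit 2, nat_lit 4, nat_lit 0]))) (.node (nat_lit 4) (.leaf [nat_lit 2, nat_lit 4, nat_lit 0, nat_lit 5, nat_lit 2, nat_lit 3, nat_lit 0, nat_lit 2, nat_lit 1, nat_lit 4, nat_lit 0, nat_lit 2, nat_lit 1]) (.node (nat_lit 5) (.leaf [nat_lit 5, nat_lit 4, nat_lit 1, nat_lit 4, nat_lit 5, nat_lit 3, nat_lit 0, nat_lit 2, nat_lit 1, nat_lit 4, nat_lit 2]) (.leaf [nat_lit 3, nat_lit 5, nat_lit 2, nat_lit 5, nat_lit 2, nat_lit 5, nat_lit 4, nat_lit 1, nat_lit 4, nat_lit 2, nat_lit 3, nat_lit 0]))))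
theorem is : band (surChk (nat_lit 7) (nat_lit 127) (J2h.L.map Lev.b) J2h.T iI (topN J2.L) iD (topN J2h.L)) (Nat.ble (chainOrd 315 J2.L) (chainOrd 100 J2h.L)) = true := by decide +kernel
noncomputable def kT : Tr ℕ := (.node (nat_lit 2) (.node (nat_lit 1) (.leaf (J2h.T.get 0)) (.leaf (J2h.T.get 1))) (.node (nat_lit 3) (.leaf (J2h.T.get 2)) (.node (nat_lit 4) (.leaf (J2h.T.get 3)) (.leaf (J2h.T.get 4)))))
noncomputable def kL : List Lev := [J2h.L1, J2h.L2, J2h.L3]
theorem ks : band (kT.all fun c => Nat.beq (ap (nat_lit 7) (nat_lit 127) c J2h.L0.b) J2h.L0.b) (band (tchainChk 100 (nat_lit 7) (nat_lit 127) kT kL) (Nat.ble (chainOrd 100 kL) (chainOrd 100 kL))) = true := by decide +kernel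
noncomputable def at0 : ℕ := (nat_lit 0xc2cb130befd38ba8c43d35efa059762a895b139e993ede5211c6a12c937132ebd5a6e09f5540286807b4118ce2daee9e04307549270a9ac7209119318e609196599814a268440c7ad482e8959b8b4a34cb6d82940774680)
noncomputable def at1 : ℕ := (nat_lit 0x65871bcbefc1420e46a4f5ef9d5bb02a8957739e88372619048245946f14ed5bd5a6ada6b8f2794192b4338ad60af018441a994b9bb04ba2423a4369649531191a62b1e6a80440a0e236b1c09fb948b33b24c2ac06e0c00)
noncomputable def at2 : ℕ := (nat_lit 0x39670e05aee915b56f158754ead4ad7649b9eca6c1952e8a940522a4042a640621d83cbd5d3386ed8f2e1339fbd5ed2f903a6a41818e42444620b473ed55e3a0a83281a86e4606048ac1c3cba717099a27c642a5270c900)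
noncomputable def at3 : ℕ := (nat_lit 0xc762d309b5285cb786ce2ab5abde234695d38fafc81728dcc588e1a68a7c7400f39ebc76e95951820bb43cc59605cbd6c772107964f1019d8c8831284cd24f924cc196aa1c14348298153044b796286b67e842aa4a08800)
noncomputable def at4 : ℕ := (nat_lit 0x7f8ab5eb38248eb76afbcaf85daf0b2142a9f3a696401aed28808447190a0c0c6e8e58aaf93136cddab14ec9a2ea8c16ab5940c5166e4919467d0cb44787bd0805229153080970948953b706c3065ca450f2a99b1718d00)
noncomputable def aT : Tr ℕ := (.node (nat_lit 2) (.node (nat_lit 1) (.leaf at0) (.leaf at1)) (.node (nat_lit 3) (.leaf at2) (.node (nat_lit 4) (.leaf at3) (.leaf at4))))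
noncomputable def aL0 : Lev := ⟨(nat_lit 5), (nat_lit 5), (nat_lit 0x1040502050300000302030104030504050000000104010000000000000000000000000201010505020100000000000500020101050101000000000000000000000000000000000100000000000000000000040000000000000000000300000000000000), (nat_lit 0x4030304050300000403040204020304010000000304050000000000000000000000000404030403020400000000000500040405050504000000000000000000000000000000000300000000000000000000020000000000000000000400000000000000),
 (.leaf 0),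
 (.leaf 0)⟩
noncomputable def aL1 : Lev := ⟨(nat_lit 3), (nat_lit 4), (nat_lit 0x100000001030100010000040000000000000002000001020002000000000000010203040100010401020304010003020000040304010200020304000301020300000001040002000300000300), (nat_lit 0x400000004030300040000050000000000000004000003020004000000000000030403040400040104040503020003040000020304020300030103000403040300000004040002000200000400),
 (.leaf 0),
 (.leaf 0)⟩
noncomputable def aL2 : Lev := ⟨(nat_lit 1), (nat_lit 2), (nat_lit 0x100000000000000000000000000000000000001000000000000000000000200000000000000000000000000), (nat_lit 0x200000000000000000000000000000000000001000000000000000000000100000000000000000000000000),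
 (.leaf 0),
 (.leaf 0)⟩
noncomputable def aL : List Lev := [aL0, aL1, aL2]
noncomputable def bt0 : ℕ := (nat_lit 0xc58d9540af4ec463008d3ad5d81c76568d2b17dfb7051d24c217023944507ad9abef5b9f823261c18fce93857597cf03a8569549a825e5a36684cb6ba25aba702e198371451e405aa8819206a7594214ab44da1206a8080)
noncomputable def bt1 : ℕ := (nat_lit 0xc58d93a9cf4fc6781d84fad5c8e0b14288a76d1fc84a2198e94e4b5c32253da9abef2ea67221b9880e854786dd57cc600b56094ac18e1549490d1136a52ed42ea10984c4a9420c12cc782dc68f3454f105adafc5072c080)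
noncomputable def bt2 : ℕ := (nat_lit 0xaac9f3f9c461cb741f0d65b51ed8804155076c699d432864634d54cc1b08dcd69671cf7870ca006da46014c2fe2bd682ac2c7c233171dca426dee14a32625b2a9928e2e4a0b810ad7891e0ae9e0ca29235c9ebc54460080)
noncomputable def bt3 : ℕ := (nat_lit 0x7ac2cb462bc6a138b9f540b631d69a24fd0797e044b928f354d2021dbb08ad3c186abb9f6d29444da33f518a732221ebac254628a0c68ca4100e5b8543263a831dc822eacda0465af521e621c94ecc813b42d6a96e38080)
noncomputable def bt4 : ℕ := (nat_lit 0x9c15a606536325ab6acd8aebedb1a6ad4989f8ef4c3c844226f7413886305b07ef9e8776447c48e4cb611d7ea40acb8e1fa4a28aa2426e243322520592ca2d346d1d008d469d6c9dd1072ccac28205349781b1170714500)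
noncomputable def bT : Tr ℕ := (.node (nat_lit 2) (.node (nat_lit 1) (.leaf bt0) (.leaf bt1)) (.node (nat_lit 3) (.leaf bt2) (.node (nat_lit 4) (.leaf bt3) (.leaf bt4))))
noncomputable def bL0 : Lev := ⟨(nat_lit 1), (nat_lit 5), (nat_lit 0x4050000000000000000000103020000000101020202030505050302040000000000000005020105030003000000000000010505050401040201010201040503020003020505010401030403000402050504050503030003000504030000), (nat_lit 0x4050000000000000000000304020000000505050304040505050405030000000000000005040405050002000000000000030403050204040404030505050404050003030403040502050405000404030304040104040005000505040000),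
 (.leaf 0),
 (.leaf 0)⟩
noncomputable def bL1 : Lev := ⟨(nat_lit 3), (nat_lit 4), (nat_lit 0x3040000000000000000000003000000000103000001000400030100000000000000000002000300030000000000000000000002000000000400000402000100040000000103000000000000000000020400000000000000000000040000), (nat_lit 0x3030000000000000000000005000000000203000003000400030200000000000000000004000100040000000000000000000004000000000400000102000400030000000303000000000000000000020300000000000000000000030000),
 (.leaf 0),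
 (.leaf 0)⟩
noncomputable def bL2 : Lev := ⟨(nat_lit 2), (nat_lit 2), (nat_lit 0x1000000000000000000000000000000000000000000000000000000000000000002000000000100000000000000000000000000000000000000000000000000000000000000000000000000), (nat_lit 0x1000000000000000000000000000000000000000000000000000000000000000001000000000200000000000000000000000000000000000000000000000000000000000000000000000000),
 (.leaf 0),
 (.leaf 0)⟩
noncomputable def bL : List Lev := [bL0, bL1, bL2]
noncomputable def aE : Tr (List ℕ) := (.node (nat_lit 2) (.node (nat_lit 1) (.leaf [nat_lit 1, nat_lit 4, nat_lit 1, nat_lit 2, nat_lit 4, nat_lit 0, nat_lit 3, nat_lit 1, nat_lit 1]) (.leaf [nat_lit 0, nat_lit 4, nat_lit 3, nat_lit 4, nat_lit 2, nat_lit 0, nat_lit 2])) (.node (nat_lit 3) (.leaf [nat_lit 4, nat_lit 1, nat_lit 1, nat_lit 4, nat_lit 3, nat_lit 1, nat_lit 2, nat_lit 1, nat_lit 3, nat_lit 1]) (.node (nat_lit 4) (.leaf [nat_lit 4, nat_lit 3, nat_lit 1, nat_lit 2, nat_lit 4, nat_lit 1, nat_lit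 3, nat_lit 1]) (.leaf [nat_lit 0, nat_lit 3, nat_lit 1, nat_lit 4, nat_lit 0, nat_lit 2, nat_lit 1]))))
theorem aw_0 : aT.all2 (fun c w => isProd 100 (nat_lit 7) (nat_lit 127) kT c w) aE = true := by decide +kernel
theorem aw : aT.all2 (fun c w => isProd 100 (nat_lit 7) (nat_lit 127) kT c w) aE = true := aw_0
theorem ac : band (tchainChk 100 (nat_lit 7) (nat_lit 127) aT aL) (Nat.ble (chainOrd 100 kL) (chainOrd 100 aL)) = true := by decide +kernel
noncomputable def bE : Tr (List ℕ) := (.node (nat_lit 2) (.node (nat_lit 1) (.leaf [nat_lit 0, nat_lit 3, nat_lit 0, nat_lit 2, nat_lit 1]) (.leaf [nat_lit 2, nat_lit 1, nat_lit 1, nat_lit 2, nat_lit 0])) (.node (nat_lit 3) (.leaf [nat_lit 0, nat_lit 3, nat_lit 1]) (.node (nat_lit 4) (.leaf [nat_lit 0, nat_lit 2, nat_lit 1]) (.leaf [nat_lit 1, nat_lit 4, nat_lit 0]))))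
theorem bw_0 : bT.all2 (fun c w => isProd 100 (nat_lit 7) (nat_lit 127) kT c w) bE = true := by decide +kernel
theorem bw : bT.all2 (fun c w => isProd 100 (nat_lit 7) (nat_lit 127) kT c w) bE = true := bw_0
theorem bc : band (tchainChk 100 (nat_lit 7) (nat_lit 127) bT bL) (Nat.ble (chainOrd 100 kL) (chainOrd 100 bL)) = true := by decide +kernel
noncomputable def uI : Tr (List ℕ) := (.node (nat_lit 3) (.node (nat_lit 1) (.leaf [nat_lit 3, nat_lit 1, nat_lit 2, nat_lit 4, nat_lit 2, nat_lit 0, nat_lit 2, nat_lit 1, nat_lit 1]) (.node (nat_lit 2) (.leaf [nat_lit 0, nat_lit 3, nat_lit 4, nat_lit 2, nat_lit 1, nat_lit 1, nat_lit 2, nat_lit 1]) (.leaf [nat_lit 2, nat_lit 0, nat_lit 2, nat_lit 4, nat_lit 0, nat_lit 3, nat_lit 0, nat_lit 2, nat_lit 1, nat_lit 1]))) (.node (nat_lit 4) (.leaf [nat_lit 0, nat_lit 2, nat_lit 1, nat_lit 4, nat_lit 1, nat_lit 1, nat_lit 3, nat_lit 0]) (.node (nat_lit 5) (.leaf [nat_lit 3, nat_lit 1, nat_lit 2, nat_lit 4, nat_lit 3, nat_lit 0, nat_lit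 2]) (.leaf [nat_lit 3, nat_lit 0, nat_lit 3, nat_lit 4, nat_lit 2, nat_lit 1, nat_lit 2]))))
theorem uh : U33.RL.all (fun w => eqB (kL.map Lev.b) (apF (fun y => apL (nat_lit 7) (nat_lit 127) kT (uI.get y)) w) fun a => a) = true := by decide +kernel
noncomputable def uD : Tr (List ℕ) := (.node (nat_lit 2) (.node (nat_lit 1) (.leaf [nat_lit 4, nat_lit 5, nat_lit 1, nat_lit 4, nat_lit 3, nat_lit 0]) (.leaf [nat_lit 1, nat_lit 4, nat_lit 1, nat_lit 5, nat_lit 1, nat_lit 1, nat_lit 4, nat_lit 3, nat_lit 1])) (.node (nat_lit 3) (.leaf [nat_lit 1, nat_lit 4, nat_lit 1, nat_lit 5, nat_lit 4, nat_lit 2, nat_lit 4, nat_lit 1, nat_lit 4, nat_lit 3]) (.node (nat_lit 4) (.leaf [nat_lit 4, nat_lit 5, nat_lit 4, nat_lit 1, nat_lit 4, nat_lit 3, nat_lit 1, nat_lit 4, nat_lit 3, nat_lit 1, nat_lit 1]) (.leaf [nat_lit 5, nat_lit 4, nat_lit 0, nat_lit 5, nat_lit 0, nat_lit 4, nat_lit 3]))))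
theorem us : band (surChk (nat_lit 7) (nat_lit 127) (kL.map Lev.b) kT uI (topN U33.L) uD (topN kL)) (Nat.ble (chainOrd 28 U33.L) (chainOrd 100 kL)) = true := by decide +kernel
theorem iso : Nonempty (J2.P ≃* P) := (J2.std.isoW (std.ch0 (by decide +kernel)) ih is)
theorem sub {G : Type*} [Group G] [Finite G] {X : Type*} [MulAction G X] {pt : ℕ → X} (S : Std G 100 (nat_lit 7) (nat_lit 127) pt T RL L) : ∃ H : Subgroup G, H.index = 100 ∧ Nonempty (U33.P ≃* H) ∧
    ∃ c₁ c₂ : G ⧸ H, (MulAction.orbit H c₁).ncard = 36 ∧ (MulAction.orbit H c₂).ncard = 63 := by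
  have C := S.ch0 (by decide +kernel)
  have CK := (C.stab (lets_sel C.lets 5 (by decide +kernel)) ks)
  obtain ⟨g, hg⟩ := C.move (p := aL0.b) (by decide) (by decide +kernel)
  obtain ⟨g', hg'⟩ := C.move (p := bL0.b) (by decide) (by decide +kernel)
  refine ⟨_, (MulAction.index_stabilizer _ _).trans (C.orbit.trans (by decide +kernel)), (U33.std.isoW CK uh us), (g⁻¹ : G), (g'⁻¹ : G),
    (orbit_quot _ _).trans ?_, (orbit_quot _ _).trans ?_⟩
  · rw [inv_smul_eq_iff.2 hg.symm]; exact (CK.ch (lets_words CK.lets aE aw) ac).orbit.trans (by decide +kernel)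
  · rw [inv_smul_eq_iff.2 hg'.symm]; exact (CK.ch (lets_words CK.lets bE bw) bc).orbit.trans (by decide +kernel)

end H8.J2h.K
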