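import Cfsg.Agent.H8.LA0

/-! H8.LA1: subgroups of GL(4,2): overgroups of an element of order 5 (generated certificate) -/

set_option autoImplicit false
set_option maxRecDepth 200000

set_option linter.all false
open Subgroup 

namespace H8.LA

noncomputable def n0t0 : ℕ := (nat_lit 0x71ae5b43c6d928)
noncomputable def n0t1 : ℕ := (nat_lit 0xa358b20d49761ce)
noncomputable def n0T : Tr ℕ := (.node (nat_lit 1) (.leaf n0t0) (.leaf n0t1))
noncomputable def n0R : Tr (List ℕ) := (.node (nat_lit 1) (.leaf [nat_lit 0, nat_lit 1]) (.leaf [nat_lit 0, nat_lit 0, nat_lit 0, nat_lit 0, nat_lit 0]))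
noncomputable def n0L0 : Lev := ⟨(nat_lit 0), (nat_lit 2), (nat_lit 0x10000020100020000000000000000), (nat_lit 0x10000020200010000000000000000),
 (.node (nat_lit 1) (.leaf (nat_lit 0x200000000000100000000000000000000000000000001))
 (.leaf (nat_lit 0x100000000000000030000000000000000000000000000000000000001))),
 (.node (nat_lit 1) (.leaf (nat_lit 0x102000000000000000000000000000000000000000000000000000000000000000000))
 (.leaf (nat_lit 0x1000000000000000000000001000000000000000000000000000000000000000000000000000000000001)))⟩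
noncomputable def n0L : List Lev := [n0L0]
noncomputable def n0E : Tr (List ℕ) := (.node (nat_lit 1) (.leaf [nat_lit 0, nat_lit 5, nat_lit 1, nat_lit 4, nat_lit 2, nat_lit 1, nat_lit 0, nat_lit 3, nat_lit 2, nat_lit 1, nat_lit 0]) (.leaf [nat_lit 1, nat_lit 5, nat_lit 2, nat_lit 4, nat_lit 3, nat_lit 2, nat_lit 3, nat_lit 0]))
theorem n0w_0 : n0T.all2 (fun c w => isProd 15 (nat_lit 4) (nat_lit 15) MG.gl42T c w) n0E = true := by decide +kernel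
theorem n0w : n0T.all2 (fun c w => isProd 15 (nat_lit 4) (nat_lit 15) MG.gl42T c w) n0E = true := n0w_0
theorem n0lev0 : levChk 15 (nat_lit 4) (nat_lit 15) n0T n0R n0L0 0 = true := by decide +kernel
theorem n0chain : Chain 15 (nat_lit 4) (nat_lit 15) n0T n0R n0L := chain_one n0lev0
theorem n0sd : band (selChk n0T n0T (topN n0L)) (n0R.all fun w => eqB (MG.gl42L.map Lev.b) (apL (nat_lit 4) (nat_lit 15) n0T w) fun a => a) = true := by decide +kernel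
theorem n0tc : tchainChk 15 (nat_lit 4) (nat_lit 15) n0T n0L = true := by decide +kernel
noncomputable def n0s0 : ℕ := (nat_lit 0x71ae5b43c6d928)
noncomputable def n0s1 : ℕ := (nat_lit 0xa358b20d49761ce)
noncomputable def n0S : Tr ℕ := (.node (nat_lit 1) (.leaf n0s0) (.leaf n0s1))
noncomputable def n0D : Tr (List ℕ) := (.node (nat_lit 1) (.leaf []) (.leaf [nat_lit 0, nat_lit 0, nat_lit 0, nat_lit 0]))
theorem n0slp : slpChk 15 (nat_lit 4) (nat_lit 15) n0S n0D 1 1 = true := by decide +kernel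
theorem n0a : band (selChk n0T n0S (1 + 1)) (allB 1 fun j => anyL (AW.get 0) fun w => isProd 15 (nat_lit 4) (nat_lit 15) MG.gl42T (n0S.get j) w) = true := by decide +kernel
noncomputable def n0mt0 : ℕ := (nat_lit 0xa9de87bc5621340)
noncomputable def n0mt1 : ℕ := (nat_lit 0xbc78eda95612430)
noncomputable def n0mt2 : ℕ := (nat_lit 0x30167cdae98b254)
noncomputable def n0mt3 : ℕ := (nat_lit 0x6893754ab10e2cd)
noncomputable def n0mT : Tr ℕ := (.node (nat_lit 2) (.node (nat_lit 1) (.leaf n0mt0) (.leaf n0mt1)) (.node (nat_lit 3) (.leaf n0mt2) (.leaf n0mt3)))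
noncomputable def n0mR : Tr (List ℕ) := (.node (nat_lit 2) (.node (nat_lit 1) (.leaf [nat_lit 0, nat_lit 0, nat_lit 0, nat_lit 0]) (.leaf [nat_lit 0, nat_lit 1])) (.node (nat_lit 3) (.leaf [nat_lit 0, nat_lit 3, nat_lit 1, nat_lit 2, nat_lit 0, nat_lit 2]) (.node (nat_lit 4) (.leaf [nat_lit 2, nat_lit 3]) (.leaf [nat_lit 2, nat_lit 2, nat_lit 2, nat_lit 2]))))
noncomputable def n0mL0 : Lev := ⟨(nat_lit 0), (nat_lit 4), (nat_lit 0x10301020102030101030401020100), (nat_lit 0x40102030302020304030103020200),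
 (.node (nat_lit 2) (.node (nat_lit 1) (.leaf (nat_lit 0x10000000200000002000100000000000700010000000200000000))
 (.leaf (nat_lit 0x300010001000000010000000100030008000100010003000000010000)))
 (.node (nat_lit 3) (.leaf (nat_lit 0x500000009000700040002000000040006000000020004000200080001))
 (.leaf (nat_lit 0x5000100030005000500010003000300080009000000060003000a0001)))),
 (.node (nat_lit 2) (.node (nat_lit 1) (.leaf (nat_lit 0x100000000000002000000000000000100000000000000000200000100000000000001000000000000))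
 (.leaf (nat_lit 0x101000101000101000000000101000000000101000101000101000101000101000101000000000101000000)))
 (.node (nat_lit 3) (.leaf (nat_lit 0x203000000000400000402000300000205000000000205000300000000000402000203000203000205000300))
 (.leaf (nat_lit 0x201000301000301000301000301000301000301000201000301000301000000000301000301000301000301))))⟩
noncomputable def n0mL1 : Lev := ⟨(nat_lit 1), (nat_lit 2), (nat_lit 0x201010000), (nat_lit 0x101020000),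
 (.node (nat_lit 1) (.leaf (nat_lit 0x20000000000010000))
 (.leaf (nat_lit 0x1000300010000))),
 (.node (nat_lit 1) (.leaf (nat_lit 0x2000000000000000100000000))
 (.leaf (nat_lit 0x101000101000101000000)))⟩
noncomputable def n0mL : List Lev := [n0mL0, n0mL1]
noncomputable def n0mE : Tr (List ℕ) := (.node (nat_lit 2) (.node (nat_lit 1) (.leaf [nat_lit 2, nat_lit 0, nat_lit 5, nat_lit 4, nat_lit 1, nat_lit 3, nat_lit 1]) (.leaf [nat_lit 4, nat_lit 5, nat_lit 2, nat_lit 1, nat_lit 0, nat_lit 4, nat_lit 0, nat_lit 3, nat_lit 1, nat_lit 0])) (.node (nat_lit 3) (.leaf [nat_lit 4, nat_lit 0, nat_lit 5, nat_lit 2, nat_lit 4, nat_lit 3, nat_lit 2, nat_lit 3, nat_lit 1]) (.leaf [nat_lit 1, nat_lit 5, nat_lit 0, nat_lit 4, nat_lit 3, nat_lit 2, nat_lit 0, nat_lit 3, nat_lit 1, nat_lit 0])))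
theorem n0mw_0 : n0mT.all2 (fun c w => isProd 15 (nat_lit 4) (nat_lit 15) MG.gl42T c w) n0mE = true := by decide +kernel
theorem n0mw : n0mT.all2 (fun c w => isProd 15 (nat_lit 4) (nat_lit 15) MG.gl42T c w) n0mE = true := n0mw_0
theorem n0mlev0 : levChk 15 (nat_lit 4) (nat_lit 15) n0mT n0mR n0mL0 n0mL1.N = true := by decide +kernel
theorem n0mlev1 : levChk 15 (nat_lit 4) (nat_lit 15) n0mT n0mR n0mL1 0 = true := by decide +kernel
theorem n0mchain : Chain 15 (nat_lit 4) (nat_lit 15) n0mT n0mR n0mL := chain_cons n0mlev0 <| chain_one n0mlev1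
theorem n0msd : band (selChk n0mT n0mT (topN n0mL)) (n0mR.all fun w => eqB (MG.gl42L.map Lev.b) (apL (nat_lit 4) (nat_lit 15) n0mT w) fun a => a) = true := by decide +kernel
theorem n0mtc : tchainChk 15 (nat_lit 4) (nat_lit 15) n0mT n0mL = true := by decide +kernel
noncomputable def n0xE : Tr (List ℕ) := (.node (nat_lit 1) (.leaf [nat_lit 3, nat_lit 3, nat_lit 1, nat_lit 1]) (.leaf [nat_lit 1, nat_lit 1, nat_lit 3, nat_lit 3]))
theorem n0xw_0 : n0T.all2 (fun c w => isProd 15 (nat_lit 4) (nat_lit 15) n0mT c w) n0xE = true := by decide +kernel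
theorem n0xw : n0T.all2 (fun c w => isProd 15 (nat_lit 4) (nat_lit 15) n0mT c w) n0xE = true := n0xw_0
noncomputable def n0rW : Tr (List ℕ) := (.node (nat_lit 4) (.node (nat_lit 2) (.node (nat_lit 1) (.leaf [nat_lit 0, nat_lit 0]) (.leaf [nat_lit 1, nat_lit 1])) (.node (nat_lit 3) (.leaf [nat_lit 1, nat_lit 1]) (.leaf [nat_lit 0, nat_lit 0])))
 (.node (nat_lit 6) (.node (nat_lit 5) (.leaf [nat_lit 1, nat_lit 1]) (.leaf [nat_lit 0, nat_lit 0])) (.node (nat_lit 7) (.leaf [nat_lit 0, nat_lit 0]) (.leaf [nat_lit 1, nat_lit 1]))))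
theorem n0r : nrmChk (nat_lit 4) (nat_lit 15) (MG.gl42L.map Lev.b) n0mT n0T (topN n0mL) (topN n0L) n0rW = true := by decide +kernel
noncomputable def n0Dd : Tr ℕ := (.node (nat_lit 4) (.node (nat_lit 2) (.node (nat_lit 1) (.leaf (nat_lit 0xedcba9876543210)) (.leaf (nat_lit 0xcdeb89a74563012))) (.node (nat_lit 3) (.leaf (nat_lit 0x2d0b6947a583e1c)) (.leaf (nat_lit 0x8dabc9e70523416))))
 (.node (nat_lit 6) (.node (nat_lit 5) (.leaf (nat_lit 0xecdb6453a897201)) (.leaf (nat_lit 0x987adcbe4563012))) (.node (nat_lit 7) (.leaf (nat_lit 0xdceb546398a7102)) (.node (nat_lit 8) (.leaf (nat_lit 0x280a6c4eb5d3719)) (.leaf (nat_lit 0xe6d5c4b3a291807))))))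
noncomputable def n0dE : Tr (List ℕ) := (.node (nat_lit 4) (.node (nat_lit 2) (.node (nat_lit 1) (.leaf []) (.leaf [nat_lit 0])) (.node (nat_lit 3) (.leaf [nat_lit 1]) (.leaf [nat_lit 2])))
 (.node (nat_lit 6) (.node (nat_lit 5) (.leaf [nat_lit 5]) (.leaf [nat_lit 3, nat_lit 0])) (.node (nat_lit 7) (.leaf [nat_lit 5, nat_lit 0]) (.node (nat_lit 8) (.leaf [nat_lit 3, nat_lit 1]) (.leaf [nat_lit 5, nat_lit 4])))))
theorem n0dw_0 : n0Dd.all2 (fun c w => isProd 15 (nat_lit 4) (nat_lit 15) MG.gl42T c w) n0dE = true := by decide +kernel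
theorem n0dw : n0Dd.all2 (fun c w => isProd 15 (nat_lit 4) (nat_lit 15) MG.gl42T c w) n0dE = true := n0dw_0
noncomputable def n0PA_0 : Tr (ℕ × List ℕ) := (.node (nat_lit 84) (.node (nat_lit 42) (.node (nat_lit 21) (.node (nat_lit 10) (.node (nat_lit 5) (.node (nat_lit 2) (.node (nat_lit 1) (.leaf ((nat_lit 0), [])) (.leaf ((nat_lit 1), []))) (.node (nat_lit 3) (.leaf ((nat_lit 2), [])) (.node (nat_lit 4) (.leaf ((nat_lit 3), [])) (.leaf ((nat_lit 1), [nat_lit 3, nat_lit 0])))))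
 (.node (nat_lit 7) (.node (nat_lit 6) (.leaf ((nat_lit 1), [nat_lit 0])) (.leaf ((nat_lit 4), []))) (.node (nat_lit 8) (.leaf ((nat_lit 1), [nat_lit 2, nat_lit 1])) (.node (nat_lit 9) (.leaf ((nat_lit 3), [nat_lit 2, nat_lit 2, nat_lit 0])) (.leaf ((nat_lit 5), []))))))
 (.node (nat_lit 15) (.node (nat_lit 12) (.node (nat_lit 11) (.leaf ((nat_lit 5), [nat_lit 3, nat_lit 0, nat_lit 0, nat_lit 2])) (.leaf ((nat_lit 6), []))) (.node (nat_lit 13) (.leaf ((nat_lit 3), [nat_lit 3, nat_lit 0, nat_lit 0, nat_lit 2])) (.node (nat_lit 14) (.leaf ((nat_lit 7), [])) (.leaf ((nat_lit 7), [nat_lit 3, nat_lit 0, nat_lit 0, nat_lit 2])))))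
 (.node (nat_lit 18) (.node (nat_lit 16) (.leaf ((nat_lit 7), [nat_lit 2, nat_lit 0])) (.node (nat_lit 17) (.leaf ((nat_lit 3), [nat_lit 0, nat_lit 3, nat_lit 0])) (.leaf ((nat_lit 7), [nat_lit 1, nat_lit 3, nat_lit 1])))) (.node (nat_lit 19) (.leaf ((nat_lit 5), [nat_lit 3, nat_lit 1])) (.node (nat_lit 20) (.leaf ((nat_lit 7), [nat_lit 1, nat_lit 3, nat_lit 0, nat_lit 0])) (.leaf ((nat_lit 5), [nat_lit 0, nat_lit 2, nat_lit 2])))))))
 (.node (nat_lit 31) (.node (nat_lit 26) (.node (nat_lit 23) (.node (nat_lit 22) (.leaf ((nat_lit 3), [nat_lit 0, nat_lit 2])) (.leaf ((nat_lit 4), [nat_lit 3]))) (.node (nat_lit 24) (.leaf ((nat_lit 7), [nat_lit 0, nat_lit 2])) (.node (nat_lit 25) (.leaf ((nat_lit 5), [nat_lit 0, nat_lit 2, nat_lit 2, nat_lit 0, nat_lit 0])) (.leaf ((nat_lit 5), [nat_lit 2])))))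
 (.node (nat_lit 28) (.node (nat_lit 27) (.leaf ((nat_lit 8), [])) (.leaf ((nat_lit 6), [nat_lit 1, nat_lit 3, nat_lit 0, nat_lit 0]))) (.node (nat_lit 29) (.leaf ((nat_lit 5), [nat_lit 1])) (.node (nat_lit 30) (.leaf ((nat_lit 7), [nat_lit 3, nat_lit 0, nat_lit 0, nat_lit 2, nat_lit 0])) (.leaf ((nat_lit 4), [nat_lit 2, nat_lit 2]))))))
 (.node (nat_lit 36) (.node (nat_lit 33) (.node (nat_lit 32) (.leaf ((nat_lit 8), [nat_lit 3, nat_lit 1])) (.leaf ((nat_lit 3), [nat_lit 1, nat_lit 2, nat_lit 2]))) (.node (nat_lit 34) (.leaf ((nat_lit 2), [nat_lit 1, nat_lit 3])) (.node (nat_lit 35) (.leaf ((nat_lit 5), [nat_lit 0, nat_lit 0, nat_lit 2, nat_lit 0])) (.leaf ((nat_lit 6), [nat_lit 0, nat_lit 2])))))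
 (.node (nat_lit 39) (.node (nat_lit 37) (.leaf ((nat_lit 7), [nat_lit 3, nat_lit 0, nat_lit 3])) (.node (nat_lit 38) (.leaf ((nat_lit 3), [nat_lit 3, nat_lit 0, nat_lit 0, nat_lit 2, nat_lit 0])) (.leaf ((nat_lit 6), [nat_lit 1, nat_lit 3])))) (.node (nat_lit 40) (.leaf ((nat_lit 6), [nat_lit 0, nat_lit 0])) (.node (nat_lit 41) (.leaf ((nat_lit 2), [nat_lit 2, nat_lit 1])) (.leaf ((nat_lit 4), [nat_lit 0, nat_lit 2, nat_lit 1]))))))))
 (.node (nat_lit 63) (.node (nat_lit 52) (.node (nat_lit 47) (.node (nat_lit 44) (.node (nat_lit 43) (.leaf ((nat_lit 3), [nat_lit 0])) (.leaf ((nat_lit 6), [nat_lit 0, nat_lit 2, nat_lit 0, nat_lit 0]))) (.node (nat_lit 45) (.leaf ((nat_lit 6), [nat_lit 1, nat_lit 2, nat_lit 2, nat_lit 1])) (.node (nat_lit 46) (.leaf ((nat_lit 4), [nat_lit 1, nat_lit 2, nat_lit 1])) (.leaf ((nat_lit 6), [nat_lit 1, nat_lit 2])))))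
 (.node (nat_lit 49) (.node (nat_lit 48) (.leaf ((nat_lit 3), [nat_lit 0, nat_lit 3, nat_lit 1])) (.leaf ((nat_lit 4), [nat_lit 0, nat_lit 2, nat_lit 0, nat_lit 0]))) (.node (nat_lit 50) (.leaf ((nat_lit 6), [nat_lit 0, nat_lit 0, nat_lit 3, nat_lit 0])) (.node (nat_lit 51) (.leaf ((nat_lit 4), [nat_lit 3, nat_lit 1])) (.leaf ((nat_lit 7), [nat_lit 0, nat_lit 2, nat_lit 0]))))))
 (.node (nat_lit 57) (.node (nat_lit 54) (.node (nat_lit 53) (.leaf ((nat_lit 3), [nat_lit 2, nat_lit 1, nat_lit 2])) (.leaf ((nat_lit 3), [nat_lit 2, nat_lit 0, nat_lit 0]))) (.node (nat_lit 55) (.leaf ((nat_lit 6), [nat_lit 2, nat_lit 1, nat_lit 2])) (.node (nat_lit 56) (.leaf ((nat_lit 3), [nat_lit 0, nat_lit 0, nat_lit 3, nat_lit 1])) (.leaf ((nat_lit 5), [nat_lit 2, nat_lit 0, nat_lit 0])))))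
 (.node (nat_lit 60) (.node (nat_lit 58) (.leaf ((nat_lit 1), [nat_lit 0, nat_lit 3])) (.node (nat_lit 59) (.leaf ((nat_lit 4), [nat_lit 0, nat_lit 2, nat_lit 2, nat_lit 0, nat_lit 0])) (.leaf ((nat_lit 6), [nat_lit 0, nat_lit 3, nat_lit 0])))) (.node (nat_lit 61) (.leaf ((nat_lit 3), [nat_lit 0, nat_lit 0, nat_lit 2, nat_lit 1])) (.node (nat_lit 62) (.leaf ((nat_lit 7), [nat_lit 0, nat_lit 2, nat_lit 2])) (.leaf ((nat_lit 4), [nat_lit 1, nat_lit 2, nat_lit 2, nat_lit 0, nat_lit 0])))))))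
 (.node (nat_lit 73) (.node (nat_lit 68) (.node (nat_lit 65) (.node (nat_lit 64) (.leaf ((nat_lit 3), [nat_lit 3, nat_lit 0, nat_lit 3])) (.leaf ((nat_lit 6), [nat_lit 1, nat_lit 2, nat_lit 0, nat_lit 0]))) (.node (nat_lit 66) (.leaf ((nat_lit 4), [nat_lit 1, nat_lit 2, nat_lit 0, nat_lit 0])) (.node (nat_lit 67) (.leaf ((nat_lit 5), [nat_lit 1, nat_lit 2, nat_lit 0, nat_lit 0])) (.leaf ((nat_lit 4), [nat_lit 2, nat_lit 1, nat_lit 2, nat_lit 0])))))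
 (.node (nat_lit 70) (.node (nat_lit 69) (.leaf ((nat_lit 6), [nat_lit 0, nat_lit 0, nat_lit 3, nat_lit 1])) (.leaf ((nat_lit 7), [nat_lit 1, nat_lit 2, nat_lit 2]))) (.node (nat_lit 71) (.leaf ((nat_lit 2), [nat_lit 2, nat_lit 2, nat_lit 1])) (.node (nat_lit 72) (.leaf ((nat_lit 3), [nat_lit 2, nat_lit 1])) (.leaf ((nat_lit 6), [nat_lit 1, nat_lit 2, nat_lit 2, nat_lit 0]))))))
 (.node (nat_lit 78) (.node (nat_lit 75) (.node (nat_lit 74) (.leaf ((nat_lit 5), [nat_lit 0, nat_lit 2, nat_lit 0])) (.leaf ((nat_lit 1), [nat_lit 1, nat_lit 3]))) (.node (nat_lit 76) (.leaf ((nat_lit 3), [nat_lit 2, nat_lit 1, nat_lit 2, nat_lit 0])) (.node (nat_lit 77) (.leaf ((nat_lit 4), [nat_lit 0, nat_lit 0, nat_lit 3])) (.leaf ((nat_lit 4), [nat_lit 0, nat_lit 0, nat_lit 2, nat_lit 2])))))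
 (.node (nat_lit 81) (.node (nat_lit 79) (.leaf ((nat_lit 6), [nat_lit 0, nat_lit 0, nat_lit 2, nat_lit 0, nat_lit 0])) (.node (nat_lit 80) (.leaf ((nat_lit 3), [nat_lit 1, nat_lit 3, nat_lit 1])) (.leaf ((nat_lit 3), [nat_lit 3])))) (.node (nat_lit 82) (.leaf ((nat_lit 1), [nat_lit 0, nat_lit 2, nat_lit 2])) (.node (nat_lit 83) (.leaf ((nat_lit 7), [nat_lit 1, nat_lit 2, nat_lit 1, nat_lit 2, nat_lit 0])) (.leaf ((nat_lit 3), [nat_lit 1, nat_lit 2])))))))))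
 (.node (nat_lit 126) (.node (nat_lit 105) (.node (nat_lit 94) (.node (nat_lit 89) (.node (nat_lit 86) (.node (nat_lit 85) (.leaf ((nat_lit 5), [nat_lit 1, nat_lit 2, nat_lit 1, nat_lit 2, nat_lit 0])) (.leaf ((nat_lit 5), [nat_lit 2, nat_lit 0]))) (.node (nat_lit 87) (.leaf ((nat_lit 3), [nat_lit 0, nat_lit 2, nat_lit 1, nat_lit 2, nat_lit 0])) (.node (nat_lit 88) (.leaf ((nat_lit 7), [nat_lit 2, nat_lit 1, nat_lit 2])) (.leaf ((nat_lit 6), [nat_lit 2, nat_lit 1, nat_lit 2, nat_lit 0])))))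
 (.node (nat_lit 91) (.node (nat_lit 90) (.leaf ((nat_lit 7), [nat_lit 1, nat_lit 2, nat_lit 0])) (.leaf ((nat_lit 3), [nat_lit 0, nat_lit 0, nat_lit 3, nat_lit 0]))) (.node (nat_lit 92) (.leaf ((nat_lit 4), [nat_lit 2, nat_lit 0, nat_lit 0])) (.node (nat_lit 93) (.leaf ((nat_lit 1), [nat_lit 1])) (.leaf ((nat_lit 6), [nat_lit 1, nat_lit 2, nat_lit 1]))))))
 (.node (nat_lit 99) (.node (nat_lit 96) (.node (nat_lit 95) (.leaf ((nat_lit 3), [nat_lit 0, nat_lit 2, nat_lit 0])) (.leaf ((nat_lit 3), [nat_lit 3, nat_lit 0, nat_lit 0]))) (.node (nat_lit 97) (.leaf ((nat_lit 3), [nat_lit 1, nat_lit 3, nat_lit 0])) (.node (nat_lit 98) (.leaf ((nat_lit 3), [nat_lit 1, nat_lit 3, nat_lit 0, nat_lit 0])) (.leaf ((nat_lit 3), [nat_lit 0, nat_lit 2, nat_lit 2, nat_lit 0, nat_lit 0])))))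
 (.node (nat_lit 102) (.node (nat_lit 100) (.leaf ((nat_lit 5), [nat_lit 0, nat_lit 2, nat_lit 2, nat_lit 1])) (.node (nat_lit 101) (.leaf ((nat_lit 4), [nat_lit 3, nat_lit 0, nat_lit 0, nat_lit 2, nat_lit 0])) (.leaf ((nat_lit 4), [nat_lit 1, nat_lit 3, nat_lit 0, nat_lit 0])))) (.node (nat_lit 103) (.leaf ((nat_lit 4), [nat_lit 0, nat_lit 0, nat_lit 2, nat_lit 0])) (.node (nat_lit 104) (.leaf ((nat_lit 3), [nat_lit 3, nat_lit 0, nat_lit 3, nat_lit 0])) (.leaf ((nat_lit 4), [nat_lit 1, nat_lit 2, nat_lit 2, nat_lit 0])))))))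
 (.node (nat_lit 115) (.node (nat_lit 110) (.node (nat_lit 107) (.node (nat_lit 106) (.leaf ((nat_lit 2), [nat_lit 1, nat_lit 2, nat_lit 1])) (.leaf ((nat_lit 5), [nat_lit 0]))) (.node (nat_lit 108) (.leaf ((nat_lit 3), [nat_lit 0, nat_lit 0, nat_lit 3, nat_lit 0, nat_lit 0])) (.node (nat_lit 109) (.leaf ((nat_lit 3), [nat_lit 2, nat_lit 0])) (.leaf ((nat_lit 7), [nat_lit 0, nat_lit 3])))))
 (.node (nat_lit 112) (.node (nat_lit 111) (.leaf ((nat_lit 3), [nat_lit 1, nat_lit 3])) (.leaf ((nat_lit 3), [nat_lit 1, nat_lit 2, nat_lit 1]))) (.node (nat_lit 113) (.leaf ((nat_lit 6), [nat_lit 2, nat_lit 0])) (.node (nat_lit 114) (.leaf ((nat_lit 4), [nat_lit 1, nat_lit 3, nat_lit 1])) (.leaf ((nat_lit 1), [nat_lit 1, nat_lit 2, nat_lit 1]))))))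
 (.node (nat_lit 120) (.node (nat_lit 117) (.node (nat_lit 116) (.leaf ((nat_lit 4), [nat_lit 0, nat_lit 0, nat_lit 3, nat_lit 0])) (.leaf ((nat_lit 4), [nat_lit 0, nat_lit 2]))) (.node (nat_lit 118) (.leaf ((nat_lit 2), [nat_lit 0, nat_lit 2])) (.node (nat_lit 119) (.leaf ((nat_lit 4), [nat_lit 1])) (.leaf ((nat_lit 4), [nat_lit 0, nat_lit 3, nat_lit 1])))))
 (.node (nat_lit 123) (.node (nat_lit 121) (.leaf ((nat_lit 2), [nat_lit 0, nat_lit 2, nat_lit 1])) (.node (nat_lit 122) (.leaf ((nat_lit 5), [nat_lit 0, nat_lit 0, nat_lit 3, nat_lit 0])) (.leaf ((nat_lit 7), [nat_lit 1, nat_lit 3])))) (.node (nat_lit 124) (.leaf ((nat_lit 5), [nat_lit 0, nat_lit 0, nat_lit 2, nat_lit 2, nat_lit 0])) (.node (nat_lit 125) (.leaf ((nat_lit 5), [nat_lit 3, nat_lit 0, nat_lit 0, nat_lit 2, nat_lit 0])) (.leaf ((nat_lit 4), [nat_lit 2]))))))))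
 (.node (nat_lit 147) (.node (nat_lit 136) (.node (nat_lit 131) (.node (nat_lit 128) (.node (nat_lit 127) (.leaf ((nat_lit 4), [nat_lit 0, nat_lit 2, nat_lit 2, nat_lit 0])) (.leaf ((nat_lit 4), [nat_lit 2, nat_lit 2, nat_lit 0, nat_lit 0]))) (.node (nat_lit 129) (.leaf ((nat_lit 4), [nat_lit 0, nat_lit 2, nat_lit 2, nat_lit 1])) (.node (nat_lit 130) (.leaf ((nat_lit 7), [nat_lit 0, nat_lit 0, nat_lit 3])) (.leaf ((nat_lit 3), [nat_lit 0, nat_lit 0, nat_lit 2, nat_lit 0, nat_lit 0])))))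
 (.node (nat_lit 133) (.node (nat_lit 132) (.leaf ((nat_lit 3), [nat_lit 0, nat_lit 2, nat_lit 2, nat_lit 1])) (.leaf ((nat_lit 4), [nat_lit 3, nat_lit 0, nat_lit 0, nat_lit 2]))) (.node (nat_lit 134) (.leaf ((nat_lit 5), [nat_lit 0, nat_lit 2, nat_lit 1])) (.node (nat_lit 135) (.leaf ((nat_lit 3), [nat_lit 3, nat_lit 0])) (.leaf ((nat_lit 4), [nat_lit 0, nat_lit 0]))))))
 (.node (nat_lit 141) (.node (nat_lit 138) (.node (nat_lit 137) (.leaf ((nat_lit 4), [nat_lit 0, nat_lit 0, nat_lit 2])) (.leaf ((nat_lit 3), [nat_lit 0, nat_lit 3, nat_lit 0, nat_lit 0]))) (.node (nat_lit 139) (.leaf ((nat_lit 5), [nat_lit 0, nat_lit 0, nat_lit 3, nat_lit 0, nat_lit 0])) (.node (nat_lit 140) (.leaf ((nat_lit 4), [nat_lit 2, nat_lit 1])) (.leaf ((nat_lit 3), [nat_lit 0, nat_lit 3])))))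
 (.node (nat_lit 144) (.node (nat_lit 142) (.leaf ((nat_lit 6), [nat_lit 2, nat_lit 2])) (.node (nat_lit 143) (.leaf ((nat_lit 7), [nat_lit 0, nat_lit 3, nat_lit 1])) (.leaf ((nat_lit 5), [nat_lit 2, nat_lit 1])))) (.node (nat_lit 145) (.leaf ((nat_lit 6), [nat_lit 3, nat_lit 0])) (.node (nat_lit 146) (.leaf ((nat_lit 5), [nat_lit 2, nat_lit 1, nat_lit 2])) (.leaf ((nat_lit 8), [nat_lit 0, nat_lit 0])))))))
 (.node (nat_lit 157) (.node (nat_lit 152) (.node (nat_lit 149) (.node (nat_lit 148) (.leaf ((nat_lit 2), [nat_lit 0, nat_lit 3])) (.leaf ((nat_lit 5), [nat_lit 0, nat_lit 2, nat_lit 0, nat_lit 0]))) (.node (nat_lit 150) (.leaf ((nat_lit 7), [nat_lit 2, nat_lit 2])) (.node (nat_lit 151) (.leaf ((nat_lit 1), [nat_lit 0, nat_lit 0, nat_lit 3])) (.leaf ((nat_lit 3), [nat_lit 2])))))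
 (.node (nat_lit 154) (.node (nat_lit 153) (.leaf ((nat_lit 6), [nat_lit 1])) (.leaf ((nat_lit 5), [nat_lit 0, nat_lit 0, nat_lit 2, nat_lit 0, nat_lit 0]))) (.node (nat_lit 155) (.leaf ((nat_lit 3), [nat_lit 0, nat_lit 2, nat_lit 2, nat_lit 0])) (.node (nat_lit 156) (.leaf ((nat_lit 3), [nat_lit 1, nat_lit 2, nat_lit 1, nat_lit 2, nat_lit 0])) (.leaf ((nat_lit 6), [nat_lit 0, nat_lit 0, nat_lit 2, nat_lit 2]))))))
 (.node (nat_lit 162) (.node (nat_lit 159) (.node (nat_lit 158) (.leaf ((nat_lit 7), [nat_lit 3, nat_lit 0, nat_lit 3, nat_lit 0])) (.leaf ((nat_lit 7), [nat_lit 0, nat_lit 0, nat_lit 3, nat_lit 1]))) (.node (nat_lit 160) (.leaf ((nat_lit 6), [nat_lit 3, nat_lit 0, nat_lit 0, nat_lit 2, nat_lit 0])) (.node (nat_lit 161) (.leaf ((nat_lit 4), [nat_lit 1, nat_lit 2, nat_lit 1, nat_lit 2])) (.leaf ((nat_lit 7), [nat_lit 0, nat_lit 0, nat_lit 2, nat_lit 2, nat_lit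 0])))))
 (.node (nat_lit 165) (.node (nat_lit 163) (.leaf ((nat_lit 7), [nat_lit 0, nat_lit 2, nat_lit 1, nat_lit 2])) (.node (nat_lit 164) (.leaf ((nat_lit 4), [nat_lit 1, nat_lit 2])) (.leaf ((nat_lit 7), [nat_lit 0, nat_lit 3, nat_lit 0])))) (.node (nat_lit 166) (.leaf ((nat_lit 6), [nat_lit 0, nat_lit 0, nat_lit 3])) (.node (nat_lit 167) (.leaf ((nat_lit 5), [nat_lit 0, nat_lit 0, nat_lit 3, nat_lit 1])) (.leaf ((nat_lit 3), [nat_lit 3, nat_lit 1]))))))))))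
noncomputable def n0PA_1 : Tr (ℕ × List ℕ) := (.node (nat_lit 252) (.node (nat_lit 210) (.node (nat_lit 189) (.node (nat_lit 178) (.node (nat_lit 173) (.node (nat_lit 170) (.node (nat_lit 169) (.leaf ((nat_lit 5), [nat_lit 3, nat_lit 0, nat_lit 3])) (.leaf ((nat_lit 4), [nat_lit 0, nat_lit 0, nat_lit 3, nat_lit 1]))) (.node (nat_lit 171) (.leaf ((nat_lit 1), [nat_lit 2, nat_lit 2])) (.node (nat_lit 172) (.leaf ((nat_lit 4), [nat_lit 0])) (.leaf ((nat_lit 7), [nat_lit 0, nat_lit 0, nat_lit 2, nat_lit 1])))))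
 (.node (nat_lit 175) (.node (nat_lit 174) (.leaf ((nat_lit 7), [nat_lit 1, nat_lit 2, nat_lit 2, nat_lit 0, nat_lit 0])) (.leaf ((nat_lit 7), [nat_lit 0, nat_lit 0, nat_lit 2, nat_lit 0, nat_lit 0]))) (.node (nat_lit 176) (.leaf ((nat_lit 6), [nat_lit 1, nat_lit 2, nat_lit 2, nat_lit 0, nat_lit 0])) (.node (nat_lit 177) (.leaf ((nat_lit 6), [nat_lit 1, nat_lit 2, nat_lit 1, nat_lit 2, nat_lit 0])) (.leaf ((nat_lit 5), [nat_lit 0, nat_lit 3, nat_lit 0]))))))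
 (.node (nat_lit 183) (.node (nat_lit 180) (.node (nat_lit 179) (.leaf ((nat_lit 6), [nat_lit 2, nat_lit 2, nat_lit 0, nat_lit 0])) (.leaf ((nat_lit 5), [nat_lit 1, nat_lit 3, nat_lit 1]))) (.node (nat_lit 181) (.leaf ((nat_lit 4), [nat_lit 2, nat_lit 0])) (.node (nat_lit 182) (.leaf ((nat_lit 3), [nat_lit 1, nat_lit 2, nat_lit 1, nat_lit 2])) (.leaf ((nat_lit 3), [nat_lit 0, nat_lit 2, nat_lit 1, nat_lit 2])))))
 (.node (nat_lit 186) (.node (nat_lit 184) (.leaf ((nat_lit 6), [nat_lit 0, nat_lit 0, nat_lit 2, nat_lit 1])) (.node (nat_lit 185) (.leaf ((nat_lit 7), [nat_lit 2, nat_lit 2, nat_lit 0])) (.leaf ((nat_lit 4), [nat_lit 0, nat_lit 0, nat_lit 2, nat_lit 1])))) (.node (nat_lit 187) (.leaf ((nat_lit 6), [nat_lit 3, nat_lit 1])) (.node (nat_lit 188) (.leaf ((nat_lit 7), [nat_lit 0, nat_lit 2, nat_lit 1, nat_lit 2, nat_lit 0])) (.leaf ((nat_lit 7), [nat_lit 0, nat_lit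 0, nat_lit 3, nat_lit 0, nat_lit 0])))))))
 (.node (nat_lit 199) (.node (nat_lit 194) (.node (nat_lit 191) (.node (nat_lit 190) (.leaf ((nat_lit 4), [nat_lit 2, nat_lit 1, nat_lit 2])) (.leaf ((nat_lit 7), [nat_lit 0, nat_lit 2, nat_lit 2, nat_lit 0, nat_lit 0]))) (.node (nat_lit 192) (.leaf ((nat_lit 6), [nat_lit 1, nat_lit 3, nat_lit 1])) (.node (nat_lit 193) (.leaf ((nat_lit 7), [nat_lit 2, nat_lit 0, nat_lit 0])) (.leaf ((nat_lit 1), [nat_lit 2])))))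
 (.node (nat_lit 196) (.node (nat_lit 195) (.leaf ((nat_lit 2), [nat_lit 2, nat_lit 0, nat_lit 0])) (.leaf ((nat_lit 5), [nat_lit 0, nat_lit 3, nat_lit 1]))) (.node (nat_lit 197) (.leaf ((nat_lit 3), [nat_lit 1])) (.node (nat_lit 198) (.leaf ((nat_lit 5), [nat_lit 1, nat_lit 2, nat_lit 0])) (.leaf ((nat_lit 2), [nat_lit 0, nat_lit 0]))))))
 (.node (nat_lit 204) (.node (nat_lit 201) (.node (nat_lit 200) (.leaf ((nat_lit 3), [nat_lit 0, nat_lit 0])) (.leaf ((nat_lit 5), [nat_lit 0, nat_lit 2, nat_lit 1, nat_lit 2, nat_lit 0]))) (.node (nat_lit 202) (.leaf ((nat_lit 4), [nat_lit 2, nat_lit 2, nat_lit 0])) (.node (nat_lit 203) (.leaf ((nat_lit 3), [nat_lit 0, nat_lit 0, nat_lit 2])) (.leaf ((nat_lit 6), [nat_lit 0, nat_lit 0, nat_lit 2])))))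
 (.node (nat_lit 207) (.node (nat_lit 205) (.leaf ((nat_lit 6), [nat_lit 3, nat_lit 0, nat_lit 0, nat_lit 2])) (.node (nat_lit 206) (.leaf ((nat_lit 4), [nat_lit 1, nat_lit 3])) (.leaf ((nat_lit 5), [nat_lit 0, nat_lit 0, nat_lit 2, nat_lit 1])))) (.node (nat_lit 208) (.leaf ((nat_lit 7), [nat_lit 3, nat_lit 0])) (.node (nat_lit 209) (.leaf ((nat_lit 3), [nat_lit 1, nat_lit 2, nat_lit 0])) (.leaf ((nat_lit 7), [nat_lit 2, nat_lit 2, nat_lit 1]))))))))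
 (.node (nat_lit 231) (.node (nat_lit 220) (.node (nat_lit 215) (.node (nat_lit 212) (.node (nat_lit 211) (.leaf ((nat_lit 7), [nat_lit 1, nat_lit 2, nat_lit 2, nat_lit 1])) (.leaf ((nat_lit 7), [nat_lit 2, nat_lit 1]))) (.node (nat_lit 213) (.leaf ((nat_lit 7), [nat_lit 0, nat_lit 0, nat_lit 3, nat_lit 0])) (.node (nat_lit 214) (.leaf ((nat_lit 5), [nat_lit 0, nat_lit 0, nat_lit 2, nat_lit 2])) (.leaf ((nat_lit 6), [nat_lit 0, nat_lit 2, nat_lit 2])))))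
 (.node (nat_lit 217) (.node (nat_lit 216) (.leaf ((nat_lit 5), [nat_lit 1, nat_lit 3, nat_lit 0, nat_lit 0])) (.leaf ((nat_lit 4), [nat_lit 0, nat_lit 0, nat_lit 2, nat_lit 2, nat_lit 0]))) (.node (nat_lit 218) (.leaf ((nat_lit 1), [nat_lit 0, nat_lit 3, nat_lit 0])) (.node (nat_lit 219) (.leaf ((nat_lit 5), [nat_lit 3, nat_lit 0, nat_lit 0])) (.leaf ((nat_lit 7), [nat_lit 1, nat_lit 2, nat_lit 1, nat_lit 2]))))))
 (.node (nat_lit 225) (.node (nat_lit 222) (.node (nat_lit 221) (.leaf ((nat_lit 3), [nat_lit 0, nat_lit 2, nat_lit 2])) (.leaf ((nat_lit 3), [nat_lit 0, nat_lit 0, nat_lit 3]))) (.node (nat_lit 223) (.leaf ((nat_lit 3), [nat_lit 0, nat_lit 2, nat_lit 0, nat_lit 0])) (.node (nat_lit 224) (.leaf ((nat_lit 4), [nat_lit 3, nat_lit 0, nat_lit 3])) (.leaf ((nat_lit 4), [nat_lit 0, nat_lit 2, nat_lit 1, nat_lit 2])))))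
 (.node (nat_lit 228) (.node (nat_lit 226) (.leaf ((nat_lit 6), [nat_lit 0])) (.node (nat_lit 227) (.leaf ((nat_lit 5), [nat_lit 0, nat_lit 2, nat_lit 2, nat_lit 0])) (.leaf ((nat_lit 7), [nat_lit 2, nat_lit 2, nat_lit 0, nat_lit 0])))) (.node (nat_lit 229) (.leaf ((nat_lit 7), [nat_lit 0, nat_lit 2, nat_lit 1])) (.node (nat_lit 230) (.leaf ((nat_lit 5), [nat_lit 2, nat_lit 2, nat_lit 1])) (.leaf ((nat_lit 6), [nat_lit 0, nat_lit 3, nat_lit 1])))))))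
 (.node (nat_lit 241) (.node (nat_lit 236) (.node (nat_lit 233) (.node (nat_lit 232) (.leaf ((nat_lit 6), [nat_lit 0, nat_lit 2, nat_lit 1])) (.leaf ((nat_lit 6), [nat_lit 1, nat_lit 2, nat_lit 0]))) (.node (nat_lit 234) (.leaf ((nat_lit 2), [nat_lit 3])) (.node (nat_lit 235) (.leaf ((nat_lit 7), [nat_lit 0, nat_lit 2, nat_lit 2, nat_lit 0])) (.leaf ((nat_lit 5), [nat_lit 1, nat_lit 2, nat_lit 2])))))
 (.node (nat_lit 238) (.node (nat_lit 237) (.leaf ((nat_lit 1), [nat_lit 3])) (.leaf ((nat_lit 7), [nat_lit 1, nat_lit 2, nat_lit 2, nat_lit 0]))) (.node (nat_lit 239) (.leaf ((nat_lit 5), [nat_lit 2, nat_lit 2, nat_lit 0, nat_lit 0])) (.node (nat_lit 240) (.leaf ((nat_lit 3), [nat_lit 0, nat_lit 0, nat_lit 2, nat_lit 2, nat_lit 0])) (.leaf ((nat_lit 7), [nat_lit 1, nat_lit 3, nat_lit 0]))))))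
 (.node (nat_lit 246) (.node (nat_lit 243) (.node (nat_lit 242) (.leaf ((nat_lit 5), [nat_lit 1, nat_lit 3])) (.leaf ((nat_lit 5), [nat_lit 3, nat_lit 0]))) (.node (nat_lit 244) (.leaf ((nat_lit 5), [nat_lit 0, nat_lit 0, nat_lit 2])) (.node (nat_lit 245) (.leaf ((nat_lit 7), [nat_lit 0, nat_lit 0, nat_lit 2])) (.leaf ((nat_lit 3), [nat_lit 1, nat_lit 2, nat_lit 2, nat_lit 0])))))
 (.node (nat_lit 249) (.node (nat_lit 247) (.leaf ((nat_lit 4), [nat_lit 1, nat_lit 2, nat_lit 1, nat_lit 2, nat_lit 0])) (.node (nat_lit 248) (.leaf ((nat_lit 6), [nat_lit 3])) (.leaf ((nat_lit 6), [nat_lit 2, nat_lit 2, nat_lit 0])))) (.node (nat_lit 250) (.leaf ((nat_lit 3), [nat_lit 2, nat_lit 2, nat_lit 0, nat_lit 0])) (.node (nat_lit 251) (.leaf ((nat_lit 6), [nat_lit 3, nat_lit 0, nat_lit 3, nat_lit 0])) (.leaf ((nat_lit 5), [nat_lit 2, nat_lit 2, nat_lit 0])))))))))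
 (.node (nat_lit 294) (.node (nat_lit 273) (.node (nat_lit 262) (.node (nat_lit 257) (.node (nat_lit 254) (.node (nat_lit 253) (.leaf ((nat_lit 7), [nat_lit 2])) (.leaf ((nat_lit 7), [nat_lit 2, nat_lit 1, nat_lit 2, nat_lit 0]))) (.node (nat_lit 255) (.leaf ((nat_lit 4), [nat_lit 1, nat_lit 2, nat_lit 2, nat_lit 1])) (.node (nat_lit 256) (.leaf ((nat_lit 5), [nat_lit 1, nat_lit 2, nat_lit 2, nat_lit 0])) (.leaf ((nat_lit 2), [nat_lit 2])))))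
 (.node (nat_lit 259) (.node (nat_lit 258) (.leaf ((nat_lit 6), [nat_lit 0, nat_lit 3])) (.leaf ((nat_lit 3), [nat_lit 0, nat_lit 0, nat_lit 2, nat_lit 2]))) (.node (nat_lit 260) (.leaf ((nat_lit 7), [nat_lit 1, nat_lit 2, nat_lit 0, nat_lit 0])) (.node (nat_lit 261) (.leaf ((nat_lit 6), [nat_lit 0, nat_lit 0, nat_lit 2, nat_lit 0])) (.leaf ((nat_lit 6), [nat_lit 1, nat_lit 2, nat_lit 1, nat_lit 2]))))))
 (.node (nat_lit 267) (.node (nat_lit 264) (.node (nat_lit 263) (.leaf ((nat_lit 5), [nat_lit 0, nat_lit 3])) (.leaf ((nat_lit 8), [nat_lit 1]))) (.node (nat_lit 265) (.leaf ((nat_lit 5), [nat_lit 1, nat_lit 3, nat_lit 0])) (.node (nat_lit 266) (.leaf ((nat_lit 3), [nat_lit 1, nat_lit 2, nat_lit 2, nat_lit 1])) (.leaf ((nat_lit 3), [nat_lit 1, nat_lit 2, nat_lit 0, nat_lit 0])))))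
 (.node (nat_lit 270) (.node (nat_lit 268) (.leaf ((nat_lit 4), [nat_lit 0, nat_lit 2, nat_lit 1, nat_lit 2, nat_lit 0])) (.node (nat_lit 269) (.leaf ((nat_lit 7), [nat_lit 0, nat_lit 2, nat_lit 2, nat_lit 1])) (.leaf ((nat_lit 6), [nat_lit 3, nat_lit 0, nat_lit 3])))) (.node (nat_lit 271) (.leaf ((nat_lit 5), [nat_lit 1, nat_lit 2, nat_lit 1, nat_lit 2])) (.node (nat_lit 272) (.leaf ((nat_lit 7), [nat_lit 1])) (.leaf ((nat_lit 5), [nat_lit 1, nat_lit 2, nat_lit 2, nat_lit 0, nat_lit 0])))))))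
 (.node (nat_lit 283) (.node (nat_lit 278) (.node (nat_lit 275) (.node (nat_lit 274) (.leaf ((nat_lit 7), [nat_lit 3, nat_lit 0, nat_lit 0])) (.leaf ((nat_lit 5), [nat_lit 2, nat_lit 1, nat_lit 2, nat_lit 0]))) (.node (nat_lit 276) (.leaf ((nat_lit 5), [nat_lit 1, nat_lit 2, nat_lit 2, nat_lit 1])) (.node (nat_lit 277) (.leaf ((nat_lit 8), [nat_lit 0])) (.leaf ((nat_lit 5), [nat_lit 3, nat_lit 0, nat_lit 3, nat_lit 0])))))
 (.node (nat_lit 280) (.node (nat_lit 279) (.leaf ((nat_lit 7), [nat_lit 0, nat_lit 0, nat_lit 2, nat_lit 2])) (.leaf ((nat_lit 6), [nat_lit 1, nat_lit 3, nat_lit 0]))) (.node (nat_lit 281) (.leaf ((nat_lit 6), [nat_lit 0, nat_lit 2, nat_lit 2, nat_lit 1])) (.node (nat_lit 282) (.leaf ((nat_lit 7), [nat_lit 1, nat_lit 2])) (.leaf ((nat_lit 3), [nat_lit 2, nat_lit 2, nat_lit 1]))))))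
 (.node (nat_lit 288) (.node (nat_lit 285) (.node (nat_lit 284) (.leaf ((nat_lit 7), [nat_lit 0])) (.leaf ((nat_lit 3), [nat_lit 2, nat_lit 2]))) (.node (nat_lit 286) (.leaf ((nat_lit 7), [nat_lit 0, nat_lit 2, nat_lit 0, nat_lit 0])) (.node (nat_lit 287) (.leaf ((nat_lit 7), [nat_lit 1, nat_lit 2, nat_lit 1])) (.leaf ((nat_lit 6), [nat_lit 0, nat_lit 3, nat_lit 0, nat_lit 0])))))
 (.node (nat_lit 291) (.node (nat_lit 289) (.leaf ((nat_lit 6), [nat_lit 3, nat_lit 0, nat_lit 0])) (.node (nat_lit 290) (.leaf ((nat_lit 4), [nat_lit 0, nat_lit 0, nat_lit 2, nat_lit 0, nat_lit 0])) (.leaf ((nat_lit 4), [nat_lit 0, nat_lit 0, nat_lit 3, nat_lit 0, nat_lit 0])))) (.node (nat_lit 292) (.leaf ((nat_lit 6), [nat_lit 2, nat_lit 0, nat_lit 0])) (.node (nat_lit 293) (.leaf ((nat_lit 4), [nat_lit 1, nat_lit 2, nat_lit 2])) (.leaf ((nat_lit 6), [nat_lit 0, nat_lit 0, nat_lit 3, nat_lit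 0, nat_lit 0]))))))))
 (.node (nat_lit 315) (.node (nat_lit 304) (.node (nat_lit 299) (.node (nat_lit 296) (.node (nat_lit 295) (.leaf ((nat_lit 4), [nat_lit 1, nat_lit 2, nat_lit 0])) (.leaf ((nat_lit 4), [nat_lit 0, nat_lit 3]))) (.node (nat_lit 297) (.leaf ((nat_lit 6), [nat_lit 2, nat_lit 2, nat_lit 1])) (.node (nat_lit 298) (.leaf ((nat_lit 3), [nat_lit 1, nat_lit 2, nat_lit 2, nat_lit 0, nat_lit 0])) (.leaf ((nat_lit 5), [nat_lit 1, nat_lit 2])))))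
 (.node (nat_lit 301) (.node (nat_lit 300) (.leaf ((nat_lit 6), [nat_lit 0, nat_lit 2, nat_lit 0])) (.leaf ((nat_lit 5), [nat_lit 1, nat_lit 2, nat_lit 1]))) (.node (nat_lit 302) (.leaf ((nat_lit 7), [nat_lit 0, nat_lit 0, nat_lit 2, nat_lit 0])) (.node (nat_lit 303) (.leaf ((nat_lit 2), [nat_lit 3, nat_lit 1])) (.leaf ((nat_lit 4), [nat_lit 0, nat_lit 3, nat_lit 0, nat_lit 0]))))))
 (.node (nat_lit 309) (.node (nat_lit 306) (.node (nat_lit 305) (.leaf ((nat_lit 5), [nat_lit 0, nat_lit 2])) (.leaf ((nat_lit 4), [nat_lit 3, nat_lit 0, nat_lit 3, nat_lit 0]))) (.node (nat_lit 307) (.leaf ((nat_lit 2), [nat_lit 0])) (.node (nat_lit 308) (.leaf ((nat_lit 5), [nat_lit 3])) (.leaf ((nat_lit 7), [nat_lit 3, nat_lit 1])))))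
 (.node (nat_lit 312) (.node (nat_lit 310) (.leaf ((nat_lit 5), [nat_lit 0, nat_lit 0, nat_lit 3])) (.node (nat_lit 311) (.leaf ((nat_lit 4), [nat_lit 2, nat_lit 2, nat_lit 1])) (.leaf ((nat_lit 6), [nat_lit 2, nat_lit 1])))) (.node (nat_lit 313) (.leaf ((nat_lit 4), [nat_lit 0, nat_lit 2, nat_lit 2])) (.node (nat_lit 314) (.leaf ((nat_lit 1), [nat_lit 0, nat_lit 0])) (.leaf ((nat_lit 7), [nat_lit 3])))))))
 (.node (nat_lit 325) (.node (nat_lit 320) (.node (nat_lit 317) (.node (nat_lit 316) (.leaf ((nat_lit 7), [nat_lit 0, nat_lit 3, nat_lit 0, nat_lit 0])) (.leaf ((nat_lit 4), [nat_lit 0, nat_lit 3, nat_lit 0]))) (.node (nat_lit 318) (.leaf ((nat_lit 6), [nat_lit 0, nat_lit 2, nat_lit 1, nat_lit 2])) (.node (nat_lit 319) (.leaf ((nat_lit 6), [nat_lit 2])) (.leaf ((nat_lit 2), [nat_lit 1])))))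
 (.node (nat_lit 322) (.node (nat_lit 321) (.leaf ((nat_lit 6), [nat_lit 0, nat_lit 2, nat_lit 2, nat_lit 0])) (.leaf ((nat_lit 6), [nat_lit 1, nat_lit 2, nat_lit 2]))) (.node (nat_lit 323) (.leaf ((nat_lit 6), [nat_lit 0, nat_lit 2, nat_lit 1, nat_lit 2, nat_lit 0])) (.node (nat_lit 324) (.leaf ((nat_lit 4), [nat_lit 1, nat_lit 3, nat_lit 0])) (.leaf ((nat_lit 5), [nat_lit 0, nat_lit 2, nat_lit 1, nat_lit 2]))))))
 (.node (nat_lit 330) (.node (nat_lit 327) (.node (nat_lit 326) (.leaf ((nat_lit 7), [nat_lit 0, nat_lit 0])) (.leaf ((nat_lit 4), [nat_lit 3, nat_lit 0]))) (.node (nat_lit 328) (.leaf ((nat_lit 6), [nat_lit 0, nat_lit 2, nat_lit 2, nat_lit 0, nat_lit 0])) (.node (nat_lit 329) (.leaf ((nat_lit 5), [nat_lit 2, nat_lit 2])) (.leaf ((nat_lit 5), [nat_lit 0, nat_lit 0])))))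
 (.node (nat_lit 333) (.node (nat_lit 331) (.leaf ((nat_lit 5), [nat_lit 0, nat_lit 3, nat_lit 0, nat_lit 0])) (.node (nat_lit 332) (.leaf ((nat_lit 3), [nat_lit 0, nat_lit 0, nat_lit 2, nat_lit 0])) (.leaf ((nat_lit 3), [nat_lit 0, nat_lit 2, nat_lit 1])))) (.node (nat_lit 334) (.leaf ((nat_lit 6), [nat_lit 0, nat_lit 0, nat_lit 2, nat_lit 2, nat_lit 0])) (.node (nat_lit 335) (.leaf ((nat_lit 4), [nat_lit 0, nat_lit 2, nat_lit 0])) (.leaf ((nat_lit 4), [nat_lit 3, nat_lit 0, nat_lit 0]))))))))))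
noncomputable def n0PA : Tr (ℕ × List ℕ) := (.node (nat_lit 168) n0PA_0 n0PA_1)
noncomputable def n0Wd_0 : Tr (ℕ × List ℕ) := (.node (nat_lit 126) (.node (nat_lit 63) (.node (nat_lit 31) (.node (nat_lit 15) (.node (nat_lit 7) (.node (nat_lit 3) (.node (nat_lit 1) (.leaf ((nat_lit 1), [])) (.node (nat_lit 2) (.leaf ((nat_lit 2), [])) (.leaf ((nat_lit 3), []))))
 (.node (nat_lit 5) (.node (nat_lit 4) (.leaf ((nat_lit 4), [nat_lit 1, nat_lit 2, nat_lit 1, nat_lit 1])) (.leaf ((nat_lit 5), [nat_lit 1]))) (.node (nat_lit 6) (.leaf ((nat_lit 6), [])) (.leaf ((nat_lit 0), [])))))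
 (.node (nat_lit 11) (.node (nat_lit 9) (.node (nat_lit 8) (.leaf ((nat_lit 7), [nat_lit 3, nat_lit 0, nat_lit 3, nat_lit 0])) (.leaf ((nat_lit 8), [nat_lit 1, nat_lit 3, nat_lit 3]))) (.node (nat_lit 10) (.leaf ((nat_lit 9), [])) (.leaf ((nat_lit 10), [nat_lit 1, nat_lit 1, nat_lit 3, nat_lit 3, nat_lit 1, nat_lit 1]))))
 (.node (nat_lit 13) (.node (nat_lit 12) (.leaf ((nat_lit 11), [])) (.leaf ((nat_lit 7), [nat_lit 3, nat_lit 0, nat_lit 3, nat_lit 0]))) (.node (nat_lit 14) (.leaf ((nat_lit 0), [])) (.leaf ((nat_lit 12), [nat_lit 1, nat_lit 1, nat_lit 3, nat_lit 3, nat_lit 1, nat_lit 1]))))))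
 (.node (nat_lit 23) (.node (nat_lit 19) (.node (nat_lit 17) (.node (nat_lit 16) (.leaf ((nat_lit 13), [])) (.leaf ((nat_lit 14), [nat_lit 1, nat_lit 1, nat_lit 3, nat_lit 3, nat_lit 1, nat_lit 1]))) (.node (nat_lit 18) (.leaf ((nat_lit 15), [nat_lit 0, nat_lit 3, nat_lit 3, nat_lit 0])) (.leaf ((nat_lit 8), [nat_lit 1, nat_lit 3, nat_lit 3]))))
 (.node (nat_lit 21) (.node (nat_lit 20) (.leaf ((nat_lit 12), [nat_lit 1, nat_lit 1, nat_lit 3, nat_lit 3, nat_lit 1, nat_lit 1])) (.leaf ((nat_lit 0), []))) (.node (nat_lit 22) (.leaf ((nat_lit 16), [nat_lit 3, nat_lit 1])) (.leaf ((nat_lit 17), [nat_lit 0, nat_lit 2])))))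
 (.node (nat_lit 27) (.node (nat_lit 25) (.node (nat_lit 24) (.leaf ((nat_lit 18), [nat_lit 0, nat_lit 3, nat_lit 0])) (.leaf ((nat_lit 19), [nat_lit 1, nat_lit 3, nat_lit 1]))) (.node (nat_lit 26) (.leaf ((nat_lit 20), [nat_lit 1, nat_lit 3, nat_lit 3, nat_lit 0])) (.leaf ((nat_lit 21), [nat_lit 1, nat_lit 1, nat_lit 3, nat_lit 1, nat_lit 1]))))
 (.node (nat_lit 29) (.node (nat_lit 28) (.leaf ((nat_lit 0), [nat_lit 1, nat_lit 1, nat_lit 3, nat_lit 0])) (.leaf ((nat_lit 7), [nat_lit 3, nat_lit 0, nat_lit 3]))) (.node (nat_lit 30) (.leaf ((nat_lit 22), [nat_lit 1, nat_lit 1, nat_lit 3, nat_lit 1])) (.leaf ((nat_lit 23), [nat_lit 1, nat_lit 1, nat_lit 3, nat_lit 3, nat_lit 1, nat_lit 1])))))))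
 (.node (nat_lit 47) (.node (nat_lit 39) (.node (nat_lit 35) (.node (nat_lit 33) (.node (nat_lit 32) (.leaf ((nat_lit 24), [nat_lit 1, nat_lit 2, nat_lit 1])) (.leaf ((nat_lit 25), [nat_lit 1, nat_lit 1, nat_lit 3, nat_lit 0]))) (.node (nat_lit 34) (.leaf ((nat_lit 7), [nat_lit 3, nat_lit 3, nat_lit 1, nat_lit 1])) (.leaf ((nat_lit 0), [nat_lit 0]))))
 (.node (nat_lit 37) (.node (nat_lit 36) (.leaf ((nat_lit 26), [nat_lit 0])) (.leaf ((nat_lit 27), [nat_lit 1, nat_lit 3, nat_lit 1, nat_lit 1]))) (.node (nat_lit 38) (.leaf ((nat_lit 28), [nat_lit 1, nat_lit 3, nat_lit 0, nat_lit 3])) (.leaf ((nat_lit 29), [nat_lit 1, nat_lit 1, nat_lit 2, nat_lit 1, nat_lit 1])))))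
 (.node (nat_lit 43) (.node (nat_lit 41) (.node (nat_lit 40) (.leaf ((nat_lit 30), [nat_lit 2])) (.leaf ((nat_lit 31), [nat_lit 3, nat_lit 1]))) (.node (nat_lit 42) (.leaf ((nat_lit 0), [])) (.leaf ((nat_lit 2), [nat_lit 1, nat_lit 3, nat_lit 0, nat_lit 3, nat_lit 1, nat_lit 1]))))
 (.node (nat_lit 45) (.node (nat_lit 44) (.leaf ((nat_lit 1), [nat_lit 1, nat_lit 3, nat_lit 0, nat_lit 3, nat_lit 1, nat_lit 1])) (.leaf ((nat_lit 32), [nat_lit 1, nat_lit 3, nat_lit 1]))) (.node (nat_lit 46) (.leaf ((nat_lit 5), [nat_lit 1, nat_lit 1, nat_lit 3, nat_lit 3])) (.leaf ((nat_lit 4), [nat_lit 3, nat_lit 0, nat_lit 3, nat_lit 1, nat_lit 1]))))))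
 (.node (nat_lit 55) (.node (nat_lit 51) (.node (nat_lit 49) (.node (nat_lit 48) (.leaf ((nat_lit 33), [nat_lit 0, nat_lit 2, nat_lit 1, nat_lit 1])) (.leaf ((nat_lit 3), [nat_lit 3, nat_lit 3, nat_lit 0]))) (.node (nat_lit 50) (.leaf ((nat_lit 32), [nat_lit 1, nat_lit 1, nat_lit 3, nat_lit 3, nat_lit 1, nat_lit 1])) (.leaf ((nat_lit 1), [nat_lit 3, nat_lit 3, nat_lit 0]))))
 (.node (nat_lit 53) (.node (nat_lit 52) (.leaf ((nat_lit 34), [nat_lit 1, nat_lit 3, nat_lit 3, nat_lit 1])) (.leaf ((nat_lit 35), [nat_lit 2, nat_lit 0]))) (.node (nat_lit 54) (.leaf ((nat_lit 36), [nat_lit 3, nat_lit 3, nat_lit 1])) (.leaf ((nat_lit 37), [nat_lit 0, nat_lit 3, nat_lit 3, nat_lit 1, nat_lit 1])))))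
 (.node (nat_lit 59) (.node (nat_lit 57) (.node (nat_lit 56) (.leaf ((nat_lit 38), [nat_lit 1, nat_lit 1, nat_lit 2])) (.leaf ((nat_lit 39), [nat_lit 1, nat_lit 1, nat_lit 3, nat_lit 0]))) (.node (nat_lit 58) (.leaf ((nat_lit 1), [])) (.leaf ((nat_lit 40), [nat_lit 3, nat_lit 3, nat_lit 0]))))
 (.node (nat_lit 61) (.node (nat_lit 60) (.leaf ((nat_lit 41), [nat_lit 1, nat_lit 2, nat_lit 1, nat_lit 1])) (.leaf ((nat_lit 42), [nat_lit 0, nat_lit 3, nat_lit 3, nat_lit 1, nat_lit 1]))) (.node (nat_lit 62) (.leaf ((nat_lit 43), [nat_lit 1, nat_lit 1, nat_lit 2])) (.leaf ((nat_lit 44), [nat_lit 1, nat_lit 2]))))))))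
 (.node (nat_lit 94) (.node (nat_lit 78) (.node (nat_lit 70) (.node (nat_lit 66) (.node (nat_lit 64) (.leaf ((nat_lit 40), [nat_lit 1, nat_lit 3, nat_lit 3])) (.node (nat_lit 65) (.leaf ((nat_lit 1), [nat_lit 1, nat_lit 1, nat_lit 3, nat_lit 3, nat_lit 1, nat_lit 1])) (.leaf ((nat_lit 45), [nat_lit 1, nat_lit 3, nat_lit 3, nat_lit 1, nat_lit 1]))))
 (.node (nat_lit 68) (.node (nat_lit 67) (.leaf ((nat_lit 46), [nat_lit 1, nat_lit 1, nat_lit 3, nat_lit 3])) (.leaf ((nat_lit 47), [nat_lit 3, nat_lit 0, nat_lit 3, nat_lit 1, nat_lit 1]))) (.node (nat_lit 69) (.leaf ((nat_lit 48), [nat_lit 2, nat_lit 1, nat_lit 1])) (.leaf ((nat_lit 49), [nat_lit 3, nat_lit 3, nat_lit 1, nat_lit 1])))))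
 (.node (nat_lit 74) (.node (nat_lit 72) (.node (nat_lit 71) (.leaf ((nat_lit 50), [nat_lit 1, nat_lit 1, nat_lit 2, nat_lit 0])) (.leaf ((nat_lit 1), []))) (.node (nat_lit 73) (.leaf ((nat_lit 32), [nat_lit 1, nat_lit 3, nat_lit 3])) (.leaf ((nat_lit 3), [nat_lit 1, nat_lit 1, nat_lit 3, nat_lit 3, nat_lit 1, nat_lit 1]))))
 (.node (nat_lit 76) (.node (nat_lit 75) (.leaf ((nat_lit 2), [nat_lit 1, nat_lit 1, nat_lit 3, nat_lit 3, nat_lit 1, nat_lit 1])) (.leaf ((nat_lit 51), [nat_lit 0, nat_lit 2]))) (.node (nat_lit 77) (.leaf ((nat_lit 52), [nat_lit 3, nat_lit 1])) (.leaf ((nat_lit 53), [nat_lit 3, nat_lit 0, nat_lit 3, nat_lit 1]))))))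
 (.node (nat_lit 86) (.node (nat_lit 82) (.node (nat_lit 80) (.node (nat_lit 79) (.leaf ((nat_lit 54), [nat_lit 0, nat_lit 3, nat_lit 3, nat_lit 1])) (.leaf ((nat_lit 55), [nat_lit 0, nat_lit 2, nat_lit 1, nat_lit 1]))) (.node (nat_lit 81) (.leaf ((nat_lit 56), [nat_lit 3, nat_lit 0, nat_lit 3, nat_lit 1, nat_lit 1])) (.leaf ((nat_lit 2), []))))
 (.node (nat_lit 84) (.node (nat_lit 83) (.leaf ((nat_lit 57), [nat_lit 0, nat_lit 2, nat_lit 0])) (.leaf ((nat_lit 58), [nat_lit 3, nat_lit 1]))) (.node (nat_lit 85) (.leaf ((nat_lit 59), [nat_lit 0, nat_lit 3, nat_lit 3, nat_lit 1])) (.leaf ((nat_lit 60), [nat_lit 0, nat_lit 2, nat_lit 1, nat_lit 1])))))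
 (.node (nat_lit 90) (.node (nat_lit 88) (.node (nat_lit 87) (.leaf ((nat_lit 61), [nat_lit 1, nat_lit 1, nat_lit 2, nat_lit 1])) (.leaf ((nat_lit 57), [nat_lit 1, nat_lit 3, nat_lit 1]))) (.node (nat_lit 89) (.leaf ((nat_lit 2), [nat_lit 1, nat_lit 1, nat_lit 3, nat_lit 3, nat_lit 1, nat_lit 1])) (.leaf ((nat_lit 62), [nat_lit 3, nat_lit 0, nat_lit 3, nat_lit 1, nat_lit 1]))))
 (.node (nat_lit 92) (.node (nat_lit 91) (.leaf ((nat_lit 63), [nat_lit 1, nat_lit 2, nat_lit 0])) (.leaf ((nat_lit 64), [nat_lit 1, nat_lit 1]))) (.node (nat_lit 93) (.leaf ((nat_lit 65), [nat_lit 1, nat_lit 1, nat_lit 3, nat_lit 3])) (.leaf ((nat_lit 66), [nat_lit 2])))))))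
 (.node (nat_lit 110) (.node (nat_lit 102) (.node (nat_lit 98) (.node (nat_lit 96) (.node (nat_lit 95) (.leaf ((nat_lit 67), [nat_lit 0, nat_lit 2, nat_lit 1, nat_lit 1])) (.leaf ((nat_lit 2), [nat_lit 1, nat_lit 3, nat_lit 3, nat_lit 1]))) (.node (nat_lit 97) (.leaf ((nat_lit 68), [nat_lit 2, nat_lit 0])) (.leaf ((nat_lit 69), [nat_lit 1, nat_lit 1, nat_lit 3, nat_lit 1]))))
 (.node (nat_lit 100) (.node (nat_lit 99) (.leaf ((nat_lit 70), [nat_lit 1, nat_lit 1, nat_lit 2, nat_lit 1, nat_lit 1])) (.leaf ((nat_lit 3), [nat_lit 0, nat_lit 2]))) (.node (nat_lit 101) (.leaf ((nat_lit 71), [nat_lit 1, nat_lit 3, nat_lit 0, nat_lit 3, nat_lit 0])) (.leaf ((nat_lit 37), [nat_lit 1])))))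
 (.node (nat_lit 106) (.node (nat_lit 104) (.node (nat_lit 103) (.leaf ((nat_lit 72), [nat_lit 0, nat_lit 3, nat_lit 3, nat_lit 1])) (.leaf ((nat_lit 73), [nat_lit 1, nat_lit 1, nat_lit 2, nat_lit 1, nat_lit 1]))) (.node (nat_lit 105) (.leaf ((nat_lit 74), [nat_lit 0, nat_lit 2, nat_lit 1, nat_lit 1])) (.leaf ((nat_lit 71), [nat_lit 1, nat_lit 2, nat_lit 0]))))
 (.node (nat_lit 108) (.node (nat_lit 107) (.leaf ((nat_lit 3), [nat_lit 3, nat_lit 1])) (.leaf ((nat_lit 75), [nat_lit 3, nat_lit 0, nat_lit 3, nat_lit 1]))) (.node (nat_lit 109) (.leaf ((nat_lit 76), [nat_lit 3, nat_lit 3, nat_lit 0])) (.leaf ((nat_lit 77), [nat_lit 0]))))))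
 (.node (nat_lit 118) (.node (nat_lit 114) (.node (nat_lit 112) (.node (nat_lit 111) (.leaf ((nat_lit 78), [nat_lit 2, nat_lit 0])) (.leaf ((nat_lit 79), [nat_lit 2, nat_lit 1, nat_lit 1]))) (.node (nat_lit 113) (.leaf ((nat_lit 80), [nat_lit 0, nat_lit 3, nat_lit 3, nat_lit 1, nat_lit 1])) (.leaf ((nat_lit 3), [nat_lit 1, nat_lit 2, nat_lit 1]))))
 (.node (nat_lit 116) (.node (nat_lit 115) (.leaf ((nat_lit 4), [nat_lit 0, nat_lit 2, nat_lit 0])) (.leaf ((nat_lit 81), [nat_lit 3, nat_lit 0, nat_lit 3]))) (.node (nat_lit 117) (.leaf ((nat_lit 82), [nat_lit 3, nat_lit 0])) (.leaf ((nat_lit 80), [nat_lit 3, nat_lit 1])))))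
 (.node (nat_lit 122) (.node (nat_lit 120) (.node (nat_lit 119) (.leaf ((nat_lit 79), [nat_lit 0, nat_lit 3, nat_lit 1, nat_lit 1])) (.leaf ((nat_lit 83), [nat_lit 1, nat_lit 1, nat_lit 3, nat_lit 3]))) (.node (nat_lit 121) (.leaf ((nat_lit 81), [])) (.leaf ((nat_lit 4), [nat_lit 1, nat_lit 3, nat_lit 3, nat_lit 0]))))
 (.node (nat_lit 124) (.node (nat_lit 123) (.leaf ((nat_lit 84), [nat_lit 0, nat_lit 3, nat_lit 3])) (.leaf ((nat_lit 55), [nat_lit 0, nat_lit 3, nat_lit 3, nat_lit 0]))) (.node (nat_lit 125) (.leaf ((nat_lit 43), [nat_lit 1, nat_lit 1, nat_lit 2, nat_lit 1])) (.leaf ((nat_lit 85), [nat_lit 1, nat_lit 1, nat_lit 3, nat_lit 1])))))))))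
 (.node (nat_lit 189) (.node (nat_lit 157) (.node (nat_lit 141) (.node (nat_lit 133) (.node (nat_lit 129) (.node (nat_lit 127) (.leaf ((nat_lit 82), [nat_lit 0, nat_lit 2])) (.node (nat_lit 128) (.leaf ((nat_lit 84), [nat_lit 0, nat_lit 2])) (.leaf ((nat_lit 4), [nat_lit 1, nat_lit 1, nat_lit 2, nat_lit 1, nat_lit 1]))))
 (.node (nat_lit 131) (.node (nat_lit 130) (.leaf ((nat_lit 86), [nat_lit 0, nat_lit 2])) (.leaf ((nat_lit 87), [nat_lit 1, nat_lit 1, nat_lit 2, nat_lit 1]))) (.node (nat_lit 132) (.leaf ((nat_lit 54), [nat_lit 3, nat_lit 3, nat_lit 1])) (.leaf ((nat_lit 88), [nat_lit 1, nat_lit 1, nat_lit 3, nat_lit 0])))))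
 (.node (nat_lit 137) (.node (nat_lit 135) (.node (nat_lit 134) (.leaf ((nat_lit 89), [nat_lit 0, nat_lit 3, nat_lit 1])) (.leaf ((nat_lit 90), [nat_lit 3, nat_lit 0, nat_lit 3]))) (.node (nat_lit 136) (.leaf ((nat_lit 26), [nat_lit 2, nat_lit 1, nat_lit 1])) (.leaf ((nat_lit 91), [nat_lit 3]))))
 (.node (nat_lit 139) (.node (nat_lit 138) (.leaf ((nat_lit 4), [nat_lit 0, nat_lit 2, nat_lit 1, nat_lit 1])) (.leaf ((nat_lit 5), [nat_lit 1, nat_lit 1, nat_lit 3, nat_lit 3, nat_lit 1, nat_lit 1]))) (.node (nat_lit 140) (.leaf ((nat_lit 92), [nat_lit 0, nat_lit 3, nat_lit 1])) (.leaf ((nat_lit 93), [nat_lit 3, nat_lit 3, nat_lit 1]))))))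
 (.node (nat_lit 149) (.node (nat_lit 145) (.node (nat_lit 143) (.node (nat_lit 142) (.leaf ((nat_lit 94), [nat_lit 0, nat_lit 3, nat_lit 1, nat_lit 1])) (.leaf ((nat_lit 95), [nat_lit 3, nat_lit 1]))) (.node (nat_lit 144) (.leaf ((nat_lit 96), [nat_lit 1, nat_lit 3, nat_lit 0, nat_lit 3])) (.leaf ((nat_lit 92), [nat_lit 1, nat_lit 1, nat_lit 3, nat_lit 3, nat_lit 1, nat_lit 1]))))
 (.node (nat_lit 147) (.node (nat_lit 146) (.leaf ((nat_lit 5), [nat_lit 0, nat_lit 3, nat_lit 0])) (.leaf ((nat_lit 97), [nat_lit 2]))) (.node (nat_lit 148) (.leaf ((nat_lit 38), [nat_lit 1, nat_lit 1, nat_lit 2, nat_lit 1])) (.leaf ((nat_lit 60), [nat_lit 0, nat_lit 3, nat_lit 3, nat_lit 0])))))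
 (.node (nat_lit 153) (.node (nat_lit 151) (.node (nat_lit 150) (.leaf ((nat_lit 98), [nat_lit 1, nat_lit 2, nat_lit 1, nat_lit 1])) (.leaf ((nat_lit 93), [nat_lit 1, nat_lit 3, nat_lit 0, nat_lit 3, nat_lit 0]))) (.node (nat_lit 152) (.leaf ((nat_lit 97), [nat_lit 3, nat_lit 1])) (.leaf ((nat_lit 5), [nat_lit 1, nat_lit 2, nat_lit 1, nat_lit 1]))))
 (.node (nat_lit 155) (.node (nat_lit 154) (.leaf ((nat_lit 99), [nat_lit 1, nat_lit 1, nat_lit 3, nat_lit 3, nat_lit 1, nat_lit 1])) (.leaf ((nat_lit 74), [nat_lit 1, nat_lit 3, nat_lit 1]))) (.node (nat_lit 156) (.leaf ((nat_lit 100), [nat_lit 1, nat_lit 1, nat_lit 2, nat_lit 0])) (.leaf ((nat_lit 101), [nat_lit 0, nat_lit 2])))))))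
 (.node (nat_lit 173) (.node (nat_lit 165) (.node (nat_lit 161) (.node (nat_lit 159) (.node (nat_lit 158) (.leaf ((nat_lit 102), [nat_lit 1, nat_lit 3, nat_lit 0, nat_lit 3])) (.leaf ((nat_lit 103), [nat_lit 2]))) (.node (nat_lit 160) (.leaf ((nat_lit 22), [nat_lit 1, nat_lit 1, nat_lit 3])) (.leaf ((nat_lit 104), [nat_lit 1, nat_lit 3, nat_lit 3, nat_lit 0]))))
 (.node (nat_lit 163) (.node (nat_lit 162) (.leaf ((nat_lit 5), [nat_lit 1])) (.leaf ((nat_lit 6), [nat_lit 1, nat_lit 1, nat_lit 2, nat_lit 0]))) (.node (nat_lit 164) (.leaf ((nat_lit 105), [nat_lit 1, nat_lit 1, nat_lit 3])) (.leaf ((nat_lit 106), [nat_lit 1, nat_lit 1, nat_lit 3, nat_lit 3, nat_lit 0])))))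
 (.node (nat_lit 169) (.node (nat_lit 167) (.node (nat_lit 166) (.leaf ((nat_lit 32), [nat_lit 1, nat_lit 3])) (.leaf ((nat_lit 107), [nat_lit 1, nat_lit 3, nat_lit 0, nat_lit 3, nat_lit 1]))) (.node (nat_lit 168) (.leaf ((nat_lit 63), [nat_lit 3, nat_lit 1, nat_lit 1])) (.leaf ((nat_lit 105), [nat_lit 3, nat_lit 3, nat_lit 0]))))
 (.node (nat_lit 171) (.node (nat_lit 170) (.leaf ((nat_lit 6), [nat_lit 3, nat_lit 0, nat_lit 3, nat_lit 1])) (.leaf ((nat_lit 108), [nat_lit 0, nat_lit 2, nat_lit 0]))) (.node (nat_lit 172) (.leaf ((nat_lit 109), [nat_lit 3, nat_lit 0, nat_lit 3, nat_lit 1, nat_lit 1])) (.leaf ((nat_lit 110), [nat_lit 2, nat_lit 1, nat_lit 1]))))))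
 (.node (nat_lit 181) (.node (nat_lit 177) (.node (nat_lit 175) (.node (nat_lit 174) (.leaf ((nat_lit 111), [nat_lit 1, nat_lit 1, nat_lit 3, nat_lit 3, nat_lit 0])) (.leaf ((nat_lit 106), []))) (.node (nat_lit 176) (.leaf ((nat_lit 108), [nat_lit 0, nat_lit 3, nat_lit 3, nat_lit 0])) (.leaf ((nat_lit 6), [nat_lit 1, nat_lit 1, nat_lit 3, nat_lit 1, nat_lit 1]))))
 (.node (nat_lit 179) (.node (nat_lit 178) (.leaf ((nat_lit 112), [nat_lit 0, nat_lit 3, nat_lit 3, nat_lit 1])) (.leaf ((nat_lit 113), [nat_lit 0, nat_lit 2, nat_lit 1, nat_lit 1]))) (.node (nat_lit 180) (.leaf ((nat_lit 114), [nat_lit 1, nat_lit 1, nat_lit 3, nat_lit 0])) (.leaf ((nat_lit 115), [nat_lit 1, nat_lit 1, nat_lit 3, nat_lit 1])))))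
 (.node (nat_lit 185) (.node (nat_lit 183) (.node (nat_lit 182) (.leaf ((nat_lit 116), [nat_lit 3, nat_lit 0, nat_lit 3, nat_lit 0])) (.leaf ((nat_lit 94), [nat_lit 1, nat_lit 3, nat_lit 1, nat_lit 1]))) (.node (nat_lit 184) (.leaf ((nat_lit 6), [nat_lit 3])) (.leaf ((nat_lit 117), [nat_lit 2, nat_lit 0]))))
 (.node (nat_lit 187) (.node (nat_lit 186) (.leaf ((nat_lit 81), [nat_lit 0, nat_lit 3, nat_lit 1, nat_lit 1])) (.leaf ((nat_lit 118), [nat_lit 1, nat_lit 3, nat_lit 3, nat_lit 1, nat_lit 1]))) (.node (nat_lit 188) (.leaf ((nat_lit 119), [nat_lit 1, nat_lit 3, nat_lit 0, nat_lit 3, nat_lit 1])) (.leaf ((nat_lit 83), [nat_lit 0, nat_lit 3, nat_lit 3, nat_lit 1]))))))))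
 (.node (nat_lit 220) (.node (nat_lit 204) (.node (nat_lit 196) (.node (nat_lit 192) (.node (nat_lit 190) (.leaf ((nat_lit 117), [nat_lit 0, nat_lit 3, nat_lit 3])) (.node (nat_lit 191) (.leaf ((nat_lit 6), [nat_lit 0, nat_lit 2])) (.leaf ((nat_lit 120), [nat_lit 0]))))
 (.node (nat_lit 194) (.node (nat_lit 193) (.leaf ((nat_lit 12), [nat_lit 3, nat_lit 3, nat_lit 0])) (.leaf ((nat_lit 8), [nat_lit 1, nat_lit 1, nat_lit 3, nat_lit 3, nat_lit 1, nat_lit 1]))) (.node (nat_lit 195) (.leaf ((nat_lit 7), [nat_lit 0, nat_lit 2, nat_lit 0])) (.leaf ((nat_lit 27), [nat_lit 2, nat_lit 0])))))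
 (.node (nat_lit 200) (.node (nat_lit 198) (.node (nat_lit 197) (.leaf ((nat_lit 121), [nat_lit 1, nat_lit 3, nat_lit 3, nat_lit 1])) (.leaf ((nat_lit 122), [nat_lit 1, nat_lit 3, nat_lit 0, nat_lit 3, nat_lit 0]))) (.node (nat_lit 199) (.leaf ((nat_lit 123), [nat_lit 1, nat_lit 1, nat_lit 3, nat_lit 3, nat_lit 1, nat_lit 1])) (.leaf ((nat_lit 35), [nat_lit 1, nat_lit 3, nat_lit 0, nat_lit 3]))))
 (.node (nat_lit 202) (.node (nat_lit 201) (.leaf ((nat_lit 124), [nat_lit 0, nat_lit 3, nat_lit 0])) (.leaf ((nat_lit 125), [nat_lit 0, nat_lit 3, nat_lit 1]))) (.node (nat_lit 203) (.leaf ((nat_lit 126), [nat_lit 3, nat_lit 0, nat_lit 3, nat_lit 1])) (.leaf ((nat_lit 7), [nat_lit 1, nat_lit 1, nat_lit 3, nat_lit 1]))))))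
 (.node (nat_lit 212) (.node (nat_lit 208) (.node (nat_lit 206) (.node (nat_lit 205) (.leaf ((nat_lit 127), [nat_lit 1, nat_lit 2, nat_lit 1])) (.leaf ((nat_lit 128), [nat_lit 1, nat_lit 3, nat_lit 1, nat_lit 1]))) (.node (nat_lit 207) (.leaf ((nat_lit 129), [nat_lit 0, nat_lit 3, nat_lit 1, nat_lit 1])) (.leaf ((nat_lit 8), [nat_lit 0, nat_lit 3, nat_lit 3, nat_lit 0]))))
 (.node (nat_lit 210) (.node (nat_lit 209) (.leaf ((nat_lit 130), [nat_lit 0, nat_lit 3, nat_lit 3, nat_lit 1, nat_lit 1])) (.leaf ((nat_lit 131), [nat_lit 3]))) (.node (nat_lit 211) (.leaf ((nat_lit 132), [nat_lit 1, nat_lit 1, nat_lit 2, nat_lit 0])) (.leaf ((nat_lit 33), [nat_lit 3, nat_lit 0, nat_lit 3, nat_lit 1])))))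
 (.node (nat_lit 216) (.node (nat_lit 214) (.node (nat_lit 213) (.leaf ((nat_lit 133), [nat_lit 1, nat_lit 1, nat_lit 2, nat_lit 1])) (.leaf ((nat_lit 130), [nat_lit 1, nat_lit 3, nat_lit 0, nat_lit 3, nat_lit 1]))) (.node (nat_lit 215) (.leaf ((nat_lit 8), [nat_lit 1, nat_lit 3])) (.leaf ((nat_lit 134), [nat_lit 3, nat_lit 3, nat_lit 1, nat_lit 1]))))
 (.node (nat_lit 218) (.node (nat_lit 217) (.leaf ((nat_lit 135), [nat_lit 1, nat_lit 3, nat_lit 0, nat_lit 3, nat_lit 1, nat_lit 1])) (.leaf ((nat_lit 136), [nat_lit 1, nat_lit 1, nat_lit 2, nat_lit 0]))) (.node (nat_lit 219) (.leaf ((nat_lit 137), [nat_lit 1, nat_lit 1, nat_lit 3, nat_lit 0])) (.leaf ((nat_lit 43), [nat_lit 3, nat_lit 3, nat_lit 0])))))))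
 (.node (nat_lit 236) (.node (nat_lit 228) (.node (nat_lit 224) (.node (nat_lit 222) (.node (nat_lit 221) (.leaf ((nat_lit 55), [nat_lit 1, nat_lit 2, nat_lit 0])) (.leaf ((nat_lit 8), [nat_lit 0, nat_lit 3, nat_lit 3]))) (.node (nat_lit 223) (.leaf ((nat_lit 9), [nat_lit 1, nat_lit 1, nat_lit 3, nat_lit 3, nat_lit 1])) (.leaf ((nat_lit 138), [nat_lit 0]))))
 (.node (nat_lit 226) (.node (nat_lit 225) (.leaf ((nat_lit 139), [nat_lit 1, nat_lit 3, nat_lit 3, nat_lit 1, nat_lit 1])) (.leaf ((nat_lit 131), [nat_lit 1, nat_lit 3, nat_lit 3]))) (.node (nat_lit 227) (.leaf ((nat_lit 140), [nat_lit 1, nat_lit 3, nat_lit 0, nat_lit 3, nat_lit 1])) (.leaf ((nat_lit 16), [nat_lit 0])))))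
 (.node (nat_lit 232) (.node (nat_lit 230) (.node (nat_lit 229) (.leaf ((nat_lit 138), [nat_lit 3])) (.leaf ((nat_lit 9), [nat_lit 3, nat_lit 1, nat_lit 1]))) (.node (nat_lit 231) (.leaf ((nat_lit 141), [nat_lit 0])) (.leaf ((nat_lit 24), [nat_lit 0, nat_lit 3, nat_lit 1, nat_lit 1]))))
 (.node (nat_lit 234) (.node (nat_lit 233) (.leaf ((nat_lit 142), [nat_lit 1, nat_lit 3, nat_lit 3])) (.leaf ((nat_lit 143), [nat_lit 2, nat_lit 0]))) (.node (nat_lit 235) (.leaf ((nat_lit 139), [nat_lit 1, nat_lit 3])) (.leaf ((nat_lit 141), [nat_lit 1, nat_lit 3, nat_lit 0, nat_lit 3]))))))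
 (.node (nat_lit 244) (.node (nat_lit 240) (.node (nat_lit 238) (.node (nat_lit 237) (.leaf ((nat_lit 9), [nat_lit 1, nat_lit 2, nat_lit 1, nat_lit 1])) (.leaf ((nat_lit 144), [nat_lit 3, nat_lit 3, nat_lit 1, nat_lit 1]))) (.node (nat_lit 239) (.leaf ((nat_lit 145), [nat_lit 3])) (.leaf ((nat_lit 138), [nat_lit 1, nat_lit 1, nat_lit 2, nat_lit 1, nat_lit 1]))))
 (.node (nat_lit 242) (.node (nat_lit 241) (.leaf ((nat_lit 146), [nat_lit 1, nat_lit 1, nat_lit 3, nat_lit 3, nat_lit 1])) (.leaf ((nat_lit 147), [nat_lit 0, nat_lit 3]))) (.node (nat_lit 243) (.leaf ((nat_lit 111), [nat_lit 0, nat_lit 3, nat_lit 3, nat_lit 1])) (.leaf ((nat_lit 10), [nat_lit 3, nat_lit 3, nat_lit 0])))))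
 (.node (nat_lit 248) (.node (nat_lit 246) (.node (nat_lit 245) (.leaf ((nat_lit 9), [nat_lit 1, nat_lit 3, nat_lit 3])) (.leaf ((nat_lit 148), [nat_lit 1]))) (.node (nat_lit 247) (.leaf ((nat_lit 149), [nat_lit 3, nat_lit 0, nat_lit 3, nat_lit 0])) (.leaf ((nat_lit 150), [nat_lit 3, nat_lit 0, nat_lit 3, nat_lit 0]))))
 (.node (nat_lit 250) (.node (nat_lit 249) (.leaf ((nat_lit 151), [nat_lit 0, nat_lit 2])) (.leaf ((nat_lit 58), [nat_lit 0, nat_lit 2, nat_lit 1, nat_lit 1]))) (.node (nat_lit 251) (.leaf ((nat_lit 152), [nat_lit 2, nat_lit 0])) (.leaf ((nat_lit 9), [nat_lit 1, nat_lit 1, nat_lit 3, nat_lit 0]))))))))))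
noncomputable def n0Wd_1 : Tr (ℕ × List ℕ) := (.node (nat_lit 378) (.node (nat_lit 315) (.node (nat_lit 283) (.node (nat_lit 267) (.node (nat_lit 259) (.node (nat_lit 255) (.node (nat_lit 253) (.leaf ((nat_lit 10), [nat_lit 1, nat_lit 1, nat_lit 3, nat_lit 3, nat_lit 1])) (.node (nat_lit 254) (.leaf ((nat_lit 153), [nat_lit 0])) (.leaf ((nat_lit 45), [nat_lit 1, nat_lit 1, nat_lit 3, nat_lit 3, nat_lit 1]))))
 (.node (nat_lit 257) (.node (nat_lit 256) (.leaf ((nat_lit 103), [nat_lit 1, nat_lit 3, nat_lit 0, nat_lit 3, nat_lit 1])) (.leaf ((nat_lit 154), [nat_lit 1, nat_lit 3, nat_lit 3]))) (.node (nat_lit 258) (.leaf ((nat_lit 155), [nat_lit 1, nat_lit 1, nat_lit 3, nat_lit 1, nat_lit 1])) (.leaf ((nat_lit 153), [nat_lit 3])))))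
 (.node (nat_lit 263) (.node (nat_lit 261) (.node (nat_lit 260) (.leaf ((nat_lit 10), [nat_lit 3, nat_lit 1, nat_lit 1])) (.leaf ((nat_lit 156), [nat_lit 3, nat_lit 0, nat_lit 3]))) (.node (nat_lit 262) (.leaf ((nat_lit 36), [nat_lit 1, nat_lit 3, nat_lit 3])) (.leaf ((nat_lit 20), [nat_lit 0, nat_lit 3, nat_lit 1, nat_lit 1]))))
 (.node (nat_lit 265) (.node (nat_lit 264) (.leaf ((nat_lit 157), [nat_lit 0, nat_lit 2, nat_lit 0])) (.leaf ((nat_lit 45), [nat_lit 3, nat_lit 0]))) (.node (nat_lit 266) (.leaf ((nat_lit 156), [nat_lit 3, nat_lit 0, nat_lit 3, nat_lit 1])) (.leaf ((nat_lit 10), [nat_lit 3, nat_lit 0]))))))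
 (.node (nat_lit 275) (.node (nat_lit 271) (.node (nat_lit 269) (.node (nat_lit 268) (.leaf ((nat_lit 158), [nat_lit 3, nat_lit 3])) (.leaf ((nat_lit 133), [nat_lit 3]))) (.node (nat_lit 270) (.leaf ((nat_lit 159), [nat_lit 3, nat_lit 1, nat_lit 1])) (.leaf ((nat_lit 44), [nat_lit 1, nat_lit 2]))))
 (.node (nat_lit 273) (.node (nat_lit 272) (.leaf ((nat_lit 160), [nat_lit 1, nat_lit 1, nat_lit 3, nat_lit 3])) (.leaf ((nat_lit 42), [nat_lit 0, nat_lit 3, nat_lit 3, nat_lit 1, nat_lit 1]))) (.node (nat_lit 274) (.leaf ((nat_lit 62), [nat_lit 0, nat_lit 2, nat_lit 1, nat_lit 1])) (.leaf ((nat_lit 161), [nat_lit 1, nat_lit 1, nat_lit 3, nat_lit 1])))))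
 (.node (nat_lit 279) (.node (nat_lit 277) (.node (nat_lit 276) (.leaf ((nat_lit 10), [nat_lit 1, nat_lit 1, nat_lit 3, nat_lit 3, nat_lit 0])) (.leaf ((nat_lit 11), [nat_lit 3, nat_lit 3, nat_lit 1, nat_lit 1]))) (.node (nat_lit 278) (.leaf ((nat_lit 162), [nat_lit 1, nat_lit 1])) (.leaf ((nat_lit 163), [nat_lit 1, nat_lit 1, nat_lit 3, nat_lit 3, nat_lit 1, nat_lit 1]))))
 (.node (nat_lit 281) (.node (nat_lit 280) (.leaf ((nat_lit 53), [nat_lit 1, nat_lit 3, nat_lit 0, nat_lit 3, nat_lit 1])) (.leaf ((nat_lit 164), [nat_lit 1, nat_lit 3, nat_lit 3]))) (.node (nat_lit 282) (.leaf ((nat_lit 123), [nat_lit 2, nat_lit 1])) (.leaf ((nat_lit 162), [nat_lit 1, nat_lit 3, nat_lit 0])))))))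
 (.node (nat_lit 299) (.node (nat_lit 291) (.node (nat_lit 287) (.node (nat_lit 285) (.node (nat_lit 284) (.leaf ((nat_lit 11), [nat_lit 3, nat_lit 0, nat_lit 3])) (.leaf ((nat_lit 165), [nat_lit 1, nat_lit 3, nat_lit 3]))) (.node (nat_lit 286) (.leaf ((nat_lit 166), [nat_lit 1, nat_lit 1, nat_lit 3])) (.leaf ((nat_lit 108), [nat_lit 1, nat_lit 3, nat_lit 0, nat_lit 3, nat_lit 0]))))
 (.node (nat_lit 289) (.node (nat_lit 288) (.leaf ((nat_lit 167), [nat_lit 3])) (.leaf ((nat_lit 163), [nat_lit 3]))) (.node (nat_lit 290) (.leaf ((nat_lit 165), [nat_lit 3, nat_lit 0, nat_lit 3, nat_lit 1, nat_lit 1])) (.leaf ((nat_lit 11), [nat_lit 1, nat_lit 1, nat_lit 3])))))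
 (.node (nat_lit 295) (.node (nat_lit 293) (.node (nat_lit 292) (.leaf ((nat_lit 168), [nat_lit 1, nat_lit 3, nat_lit 3])) (.leaf ((nat_lit 169), [nat_lit 0, nat_lit 2, nat_lit 1, nat_lit 1]))) (.node (nat_lit 294) (.leaf ((nat_lit 170), [nat_lit 1, nat_lit 1, nat_lit 3, nat_lit 0])) (.leaf ((nat_lit 168), [nat_lit 0, nat_lit 3, nat_lit 1, nat_lit 1]))))
 (.node (nat_lit 297) (.node (nat_lit 296) (.leaf ((nat_lit 171), [nat_lit 0])) (.leaf ((nat_lit 172), [nat_lit 1, nat_lit 1, nat_lit 3, nat_lit 3, nat_lit 1]))) (.node (nat_lit 298) (.leaf ((nat_lit 11), [nat_lit 1, nat_lit 1, nat_lit 3, nat_lit 3])) (.leaf ((nat_lit 173), [nat_lit 0, nat_lit 3, nat_lit 3, nat_lit 1]))))))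
 (.node (nat_lit 307) (.node (nat_lit 303) (.node (nat_lit 301) (.node (nat_lit 300) (.leaf ((nat_lit 174), [nat_lit 1, nat_lit 1, nat_lit 3, nat_lit 3])) (.leaf ((nat_lit 175), [nat_lit 1, nat_lit 1, nat_lit 3, nat_lit 0]))) (.node (nat_lit 302) (.leaf ((nat_lit 113), [nat_lit 1, nat_lit 1, nat_lit 3, nat_lit 3])) (.leaf ((nat_lit 176), [nat_lit 1, nat_lit 1, nat_lit 2]))))
 (.node (nat_lit 305) (.node (nat_lit 304) (.leaf ((nat_lit 173), [nat_lit 3, nat_lit 0, nat_lit 3, nat_lit 0])) (.leaf ((nat_lit 11), [nat_lit 1, nat_lit 3, nat_lit 1, nat_lit 1]))) (.node (nat_lit 306) (.leaf ((nat_lit 177), [nat_lit 3, nat_lit 0, nat_lit 3, nat_lit 1])) (.leaf ((nat_lit 178), [nat_lit 0, nat_lit 3, nat_lit 3, nat_lit 1])))))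
 (.node (nat_lit 311) (.node (nat_lit 309) (.node (nat_lit 308) (.leaf ((nat_lit 179), [nat_lit 1, nat_lit 1, nat_lit 2, nat_lit 1, nat_lit 1])) (.leaf ((nat_lit 180), [nat_lit 3, nat_lit 3, nat_lit 1, nat_lit 1]))) (.node (nat_lit 310) (.leaf ((nat_lit 12), [nat_lit 3, nat_lit 1])) (.leaf ((nat_lit 181), [nat_lit 1, nat_lit 2, nat_lit 0]))))
 (.node (nat_lit 313) (.node (nat_lit 312) (.leaf ((nat_lit 182), [nat_lit 0])) (.leaf ((nat_lit 183), [nat_lit 2, nat_lit 0]))) (.node (nat_lit 314) (.leaf ((nat_lit 184), [nat_lit 1, nat_lit 1, nat_lit 3, nat_lit 1])) (.leaf ((nat_lit 185), [nat_lit 2, nat_lit 0]))))))))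
 (.node (nat_lit 346) (.node (nat_lit 330) (.node (nat_lit 322) (.node (nat_lit 318) (.node (nat_lit 316) (.leaf ((nat_lit 181), [nat_lit 1, nat_lit 3, nat_lit 0, nat_lit 3, nat_lit 0])) (.node (nat_lit 317) (.leaf ((nat_lit 12), [nat_lit 0, nat_lit 2])) (.leaf ((nat_lit 151), [nat_lit 1, nat_lit 1, nat_lit 3, nat_lit 0]))))
 (.node (nat_lit 320) (.node (nat_lit 319) (.leaf ((nat_lit 186), [nat_lit 0, nat_lit 3, nat_lit 0])) (.leaf ((nat_lit 148), [nat_lit 0, nat_lit 2]))) (.node (nat_lit 321) (.leaf ((nat_lit 187), [nat_lit 2, nat_lit 1])) (.leaf ((nat_lit 46), [nat_lit 1, nat_lit 3, nat_lit 0, nat_lit 3, nat_lit 0])))))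
 (.node (nat_lit 326) (.node (nat_lit 324) (.node (nat_lit 323) (.leaf ((nat_lit 97), [nat_lit 3, nat_lit 1])) (.leaf ((nat_lit 12), [nat_lit 1, nat_lit 3, nat_lit 0, nat_lit 3]))) (.node (nat_lit 325) (.leaf ((nat_lit 13), [nat_lit 0, nat_lit 3, nat_lit 3, nat_lit 1])) (.leaf ((nat_lit 188), [nat_lit 0, nat_lit 3, nat_lit 3, nat_lit 0]))))
 (.node (nat_lit 328) (.node (nat_lit 327) (.leaf ((nat_lit 189), [])) (.leaf ((nat_lit 140), [nat_lit 1, nat_lit 2, nat_lit 1]))) (.node (nat_lit 329) (.leaf ((nat_lit 131), [nat_lit 1, nat_lit 3, nat_lit 0, nat_lit 3, nat_lit 1])) (.leaf ((nat_lit 21), [nat_lit 0, nat_lit 3, nat_lit 3]))))))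
 (.node (nat_lit 338) (.node (nat_lit 334) (.node (nat_lit 332) (.node (nat_lit 331) (.leaf ((nat_lit 188), [nat_lit 1, nat_lit 1, nat_lit 2, nat_lit 1])) (.leaf ((nat_lit 13), [nat_lit 1, nat_lit 1, nat_lit 3, nat_lit 1]))) (.node (nat_lit 333) (.leaf ((nat_lit 190), [nat_lit 0, nat_lit 3])) (.leaf ((nat_lit 20), [nat_lit 1, nat_lit 3, nat_lit 3, nat_lit 1]))))
 (.node (nat_lit 336) (.node (nat_lit 335) (.leaf ((nat_lit 36), [nat_lit 1, nat_lit 3, nat_lit 0])) (.leaf ((nat_lit 191), [nat_lit 1, nat_lit 3, nat_lit 1, nat_lit 1]))) (.node (nat_lit 337) (.leaf ((nat_lit 189), [nat_lit 1, nat_lit 2, nat_lit 1])) (.leaf ((nat_lit 190), [nat_lit 3, nat_lit 3, nat_lit 0])))))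
 (.node (nat_lit 342) (.node (nat_lit 340) (.node (nat_lit 339) (.leaf ((nat_lit 13), [nat_lit 3, nat_lit 0, nat_lit 3])) (.leaf ((nat_lit 192), [nat_lit 1, nat_lit 1, nat_lit 3, nat_lit 3, nat_lit 1, nat_lit 1]))) (.node (nat_lit 341) (.leaf ((nat_lit 193), [])) (.leaf ((nat_lit 194), [nat_lit 1, nat_lit 1, nat_lit 2, nat_lit 1, nat_lit 1]))))
 (.node (nat_lit 344) (.node (nat_lit 343) (.leaf ((nat_lit 147), [nat_lit 1, nat_lit 1, nat_lit 3, nat_lit 3, nat_lit 1, nat_lit 1])) (.leaf ((nat_lit 146), [nat_lit 0, nat_lit 3, nat_lit 0]))) (.node (nat_lit 345) (.leaf ((nat_lit 167), [nat_lit 3, nat_lit 3, nat_lit 1])) (.leaf ((nat_lit 14), [nat_lit 0, nat_lit 2, nat_lit 0])))))))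
 (.node (nat_lit 362) (.node (nat_lit 354) (.node (nat_lit 350) (.node (nat_lit 348) (.node (nat_lit 347) (.leaf ((nat_lit 13), [nat_lit 1, nat_lit 3, nat_lit 1])) (.leaf ((nat_lit 144), [nat_lit 1, nat_lit 3]))) (.node (nat_lit 349) (.leaf ((nat_lit 100), [nat_lit 2])) (.leaf ((nat_lit 195), [nat_lit 1, nat_lit 1, nat_lit 2, nat_lit 0]))))
 (.node (nat_lit 352) (.node (nat_lit 351) (.leaf ((nat_lit 196), [nat_lit 1, nat_lit 2, nat_lit 1])) (.leaf ((nat_lit 41), [nat_lit 1, nat_lit 1, nat_lit 3, nat_lit 1]))) (.node (nat_lit 353) (.leaf ((nat_lit 197), [nat_lit 0, nat_lit 3, nat_lit 0])) (.leaf ((nat_lit 13), [nat_lit 0, nat_lit 2])))))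
 (.node (nat_lit 358) (.node (nat_lit 356) (.node (nat_lit 355) (.leaf ((nat_lit 14), [nat_lit 0, nat_lit 3, nat_lit 3, nat_lit 1])) (.leaf ((nat_lit 174), [nat_lit 0, nat_lit 3, nat_lit 3, nat_lit 0]))) (.node (nat_lit 357) (.leaf ((nat_lit 198), [nat_lit 0, nat_lit 3, nat_lit 0])) (.leaf ((nat_lit 154), [nat_lit 1, nat_lit 3, nat_lit 0, nat_lit 3, nat_lit 1]))))
 (.node (nat_lit 360) (.node (nat_lit 359) (.leaf ((nat_lit 103), [nat_lit 1, nat_lit 2, nat_lit 1])) (.leaf ((nat_lit 199), [nat_lit 1]))) (.node (nat_lit 361) (.leaf ((nat_lit 174), [nat_lit 1, nat_lit 1, nat_lit 2, nat_lit 1])) (.leaf ((nat_lit 14), [nat_lit 1, nat_lit 1, nat_lit 3, nat_lit 1]))))))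
 (.node (nat_lit 370) (.node (nat_lit 366) (.node (nat_lit 364) (.node (nat_lit 363) (.leaf ((nat_lit 200), [nat_lit 1, nat_lit 1, nat_lit 2, nat_lit 1, nat_lit 1])) (.leaf ((nat_lit 142), [nat_lit 1, nat_lit 3, nat_lit 0]))) (.node (nat_lit 365) (.leaf ((nat_lit 24), [nat_lit 1, nat_lit 3, nat_lit 3, nat_lit 1])) (.leaf ((nat_lit 93), [nat_lit 3, nat_lit 3]))))
 (.node (nat_lit 368) (.node (nat_lit 367) (.leaf ((nat_lit 198), [nat_lit 1, nat_lit 3, nat_lit 3])) (.leaf ((nat_lit 200), [nat_lit 1, nat_lit 3, nat_lit 3]))) (.node (nat_lit 369) (.leaf ((nat_lit 14), [nat_lit 0, nat_lit 3, nat_lit 1, nat_lit 1])) (.leaf ((nat_lit 195), [nat_lit 2])))))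
 (.node (nat_lit 374) (.node (nat_lit 372) (.node (nat_lit 371) (.leaf ((nat_lit 185), [nat_lit 1, nat_lit 3, nat_lit 0, nat_lit 3, nat_lit 1, nat_lit 1])) (.leaf ((nat_lit 201), [nat_lit 1, nat_lit 1, nat_lit 3, nat_lit 1]))) (.node (nat_lit 373) (.leaf ((nat_lit 67), [nat_lit 3, nat_lit 3])) (.leaf ((nat_lit 197), [nat_lit 1]))))
 (.node (nat_lit 376) (.node (nat_lit 375) (.leaf ((nat_lit 202), [nat_lit 1, nat_lit 3, nat_lit 3, nat_lit 1])) (.leaf ((nat_lit 45), [nat_lit 1, nat_lit 1, nat_lit 3, nat_lit 1]))) (.node (nat_lit 377) (.leaf ((nat_lit 203), [nat_lit 1, nat_lit 3, nat_lit 1, nat_lit 1])) (.leaf ((nat_lit 14), [nat_lit 3, nat_lit 0, nat_lit 3])))))))))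
 (.node (nat_lit 441) (.node (nat_lit 409) (.node (nat_lit 393) (.node (nat_lit 385) (.node (nat_lit 381) (.node (nat_lit 379) (.leaf ((nat_lit 15), [nat_lit 1, nat_lit 3, nat_lit 0])) (.node (nat_lit 380) (.leaf ((nat_lit 204), [nat_lit 3, nat_lit 0, nat_lit 3])) (.leaf ((nat_lit 205), [nat_lit 0, nat_lit 3, nat_lit 1, nat_lit 1]))))
 (.node (nat_lit 383) (.node (nat_lit 382) (.leaf ((nat_lit 182), [nat_lit 1, nat_lit 3, nat_lit 0, nat_lit 3, nat_lit 0])) (.leaf ((nat_lit 206), [nat_lit 1, nat_lit 1, nat_lit 3]))) (.node (nat_lit 384) (.leaf ((nat_lit 27), [nat_lit 1, nat_lit 1, nat_lit 2])) (.leaf ((nat_lit 204), [nat_lit 3, nat_lit 3, nat_lit 1, nat_lit 1])))))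
 (.node (nat_lit 389) (.node (nat_lit 387) (.node (nat_lit 386) (.leaf ((nat_lit 15), [nat_lit 1, nat_lit 1])) (.leaf ((nat_lit 207), [nat_lit 1, nat_lit 2, nat_lit 0]))) (.node (nat_lit 388) (.leaf ((nat_lit 87), [nat_lit 1, nat_lit 3, nat_lit 3])) (.leaf ((nat_lit 86), [nat_lit 1, nat_lit 3, nat_lit 0, nat_lit 3, nat_lit 1]))))
 (.node (nat_lit 391) (.node (nat_lit 390) (.leaf ((nat_lit 208), [nat_lit 1, nat_lit 2, nat_lit 0])) (.leaf ((nat_lit 205), [nat_lit 2]))) (.node (nat_lit 392) (.leaf ((nat_lit 207), [nat_lit 0, nat_lit 3, nat_lit 1])) (.leaf ((nat_lit 15), [nat_lit 3, nat_lit 3, nat_lit 1, nat_lit 1]))))))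
 (.node (nat_lit 401) (.node (nat_lit 397) (.node (nat_lit 395) (.node (nat_lit 394) (.leaf ((nat_lit 145), [nat_lit 1, nat_lit 3, nat_lit 3])) (.leaf ((nat_lit 144), [nat_lit 2, nat_lit 0]))) (.node (nat_lit 396) (.leaf ((nat_lit 209), [nat_lit 3, nat_lit 3, nat_lit 1])) (.leaf ((nat_lit 193), [nat_lit 0, nat_lit 2, nat_lit 0]))))
 (.node (nat_lit 399) (.node (nat_lit 398) (.leaf ((nat_lit 210), [nat_lit 1, nat_lit 3, nat_lit 1])) (.leaf ((nat_lit 211), [nat_lit 1]))) (.node (nat_lit 400) (.leaf ((nat_lit 15), [nat_lit 3])) (.leaf ((nat_lit 78), [nat_lit 2])))))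
 (.node (nat_lit 405) (.node (nat_lit 403) (.node (nat_lit 402) (.leaf ((nat_lit 153), [nat_lit 1, nat_lit 3, nat_lit 0, nat_lit 3, nat_lit 1])) (.leaf ((nat_lit 62), [nat_lit 3, nat_lit 3]))) (.node (nat_lit 404) (.leaf ((nat_lit 212), [nat_lit 1, nat_lit 3, nat_lit 1, nat_lit 1])) (.leaf ((nat_lit 213), [nat_lit 1, nat_lit 3, nat_lit 0, nat_lit 3, nat_lit 1]))))
 (.node (nat_lit 407) (.node (nat_lit 406) (.leaf ((nat_lit 78), [nat_lit 1, nat_lit 1, nat_lit 3, nat_lit 0])) (.leaf ((nat_lit 15), [nat_lit 1, nat_lit 1, nat_lit 3, nat_lit 1]))) (.node (nat_lit 408) (.leaf ((nat_lit 214), [nat_lit 0])) (.leaf ((nat_lit 16), [nat_lit 1, nat_lit 3])))))))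
 (.node (nat_lit 425) (.node (nat_lit 417) (.node (nat_lit 413) (.node (nat_lit 411) (.node (nat_lit 410) (.leaf ((nat_lit 109), [nat_lit 0, nat_lit 3, nat_lit 3, nat_lit 0])) (.leaf ((nat_lit 215), [nat_lit 0, nat_lit 3, nat_lit 0]))) (.node (nat_lit 412) (.leaf ((nat_lit 116), [nat_lit 1, nat_lit 3])) (.leaf ((nat_lit 216), [nat_lit 3, nat_lit 0]))))
 (.node (nat_lit 415) (.node (nat_lit 414) (.leaf ((nat_lit 193), [nat_lit 1, nat_lit 1, nat_lit 3, nat_lit 3])) (.leaf ((nat_lit 109), [nat_lit 1, nat_lit 1, nat_lit 3, nat_lit 3, nat_lit 1, nat_lit 1]))) (.node (nat_lit 416) (.leaf ((nat_lit 16), [nat_lit 0, nat_lit 2, nat_lit 1, nat_lit 1])) (.leaf ((nat_lit 169), [nat_lit 0, nat_lit 3, nat_lit 3, nat_lit 1])))))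
 (.node (nat_lit 421) (.node (nat_lit 419) (.node (nat_lit 418) (.leaf ((nat_lit 179), [nat_lit 2])) (.leaf ((nat_lit 176), [nat_lit 3, nat_lit 3]))) (.node (nat_lit 420) (.leaf ((nat_lit 215), [nat_lit 1, nat_lit 1])) (.leaf ((nat_lit 215), []))))
 (.node (nat_lit 423) (.node (nat_lit 422) (.leaf ((nat_lit 169), [nat_lit 1, nat_lit 2, nat_lit 1])) (.leaf ((nat_lit 16), [nat_lit 1, nat_lit 1, nat_lit 3, nat_lit 1, nat_lit 1]))) (.node (nat_lit 424) (.leaf ((nat_lit 217), [nat_lit 3, nat_lit 0, nat_lit 3, nat_lit 0])) (.leaf ((nat_lit 218), [nat_lit 3, nat_lit 3, nat_lit 0]))))))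
 (.node (nat_lit 433) (.node (nat_lit 429) (.node (nat_lit 427) (.node (nat_lit 426) (.leaf ((nat_lit 219), [nat_lit 3, nat_lit 1])) (.leaf ((nat_lit 220), [nat_lit 0, nat_lit 2]))) (.node (nat_lit 428) (.leaf ((nat_lit 83), [nat_lit 1, nat_lit 3, nat_lit 0])) (.leaf ((nat_lit 119), [nat_lit 1, nat_lit 2, nat_lit 1, nat_lit 1]))))
 (.node (nat_lit 431) (.node (nat_lit 430) (.leaf ((nat_lit 17), [nat_lit 1, nat_lit 3, nat_lit 0])) (.leaf ((nat_lit 16), [nat_lit 1, nat_lit 3, nat_lit 0, nat_lit 3, nat_lit 1]))) (.node (nat_lit 432) (.leaf ((nat_lit 221), [nat_lit 0, nat_lit 3, nat_lit 3])) (.leaf ((nat_lit 17), [nat_lit 0, nat_lit 3, nat_lit 3, nat_lit 1])))))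
 (.node (nat_lit 437) (.node (nat_lit 435) (.node (nat_lit 434) (.leaf ((nat_lit 222), [nat_lit 1, nat_lit 3, nat_lit 1, nat_lit 1])) (.leaf ((nat_lit 161), [nat_lit 0, nat_lit 2, nat_lit 1, nat_lit 1]))) (.node (nat_lit 436) (.leaf ((nat_lit 223), [nat_lit 1, nat_lit 2, nat_lit 1, nat_lit 1])) (.leaf ((nat_lit 102), [nat_lit 1, nat_lit 1, nat_lit 2, nat_lit 0]))))
 (.node (nat_lit 439) (.node (nat_lit 438) (.leaf ((nat_lit 205), [nat_lit 1, nat_lit 3, nat_lit 3, nat_lit 1, nat_lit 1])) (.leaf ((nat_lit 222), [nat_lit 0, nat_lit 3, nat_lit 3, nat_lit 1, nat_lit 1]))) (.node (nat_lit 440) (.leaf ((nat_lit 17), [nat_lit 1, nat_lit 1, nat_lit 3, nat_lit 1, nat_lit 1])) (.leaf ((nat_lit 224), [nat_lit 2, nat_lit 1, nat_lit 1]))))))))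
 (.node (nat_lit 472) (.node (nat_lit 456) (.node (nat_lit 448) (.node (nat_lit 444) (.node (nat_lit 442) (.leaf ((nat_lit 225), [nat_lit 1, nat_lit 3, nat_lit 0, nat_lit 3, nat_lit 0])) (.node (nat_lit 443) (.leaf ((nat_lit 184), [nat_lit 3])) (.leaf ((nat_lit 226), [nat_lit 3, nat_lit 3, nat_lit 1, nat_lit 1]))))
 (.node (nat_lit 446) (.node (nat_lit 445) (.leaf ((nat_lit 161), [nat_lit 1, nat_lit 1, nat_lit 3, nat_lit 3, nat_lit 1, nat_lit 1])) (.leaf ((nat_lit 224), [nat_lit 2, nat_lit 1]))) (.node (nat_lit 447) (.leaf ((nat_lit 17), [nat_lit 1, nat_lit 1, nat_lit 3, nat_lit 1])) (.leaf ((nat_lit 227), [nat_lit 0, nat_lit 2, nat_lit 0])))))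
 (.node (nat_lit 452) (.node (nat_lit 450) (.node (nat_lit 449) (.leaf ((nat_lit 25), [nat_lit 0, nat_lit 2, nat_lit 0])) (.leaf ((nat_lit 192), [nat_lit 3, nat_lit 0, nat_lit 3, nat_lit 0]))) (.node (nat_lit 451) (.leaf ((nat_lit 78), [nat_lit 1, nat_lit 3, nat_lit 0, nat_lit 3, nat_lit 0])) (.leaf ((nat_lit 173), [nat_lit 1, nat_lit 1, nat_lit 2]))))
 (.node (nat_lit 454) (.node (nat_lit 453) (.leaf ((nat_lit 76), [nat_lit 1, nat_lit 1, nat_lit 3, nat_lit 3, nat_lit 1, nat_lit 1])) (.leaf ((nat_lit 196), [nat_lit 1, nat_lit 3, nat_lit 0, nat_lit 3, nat_lit 0]))) (.node (nat_lit 455) (.leaf ((nat_lit 228), [nat_lit 1, nat_lit 1, nat_lit 2, nat_lit 1])) (.leaf ((nat_lit 17), [nat_lit 1, nat_lit 3, nat_lit 0, nat_lit 3]))))))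
 (.node (nat_lit 464) (.node (nat_lit 460) (.node (nat_lit 458) (.node (nat_lit 457) (.leaf ((nat_lit 18), [nat_lit 1, nat_lit 3, nat_lit 3])) (.leaf ((nat_lit 142), [nat_lit 1, nat_lit 3, nat_lit 1, nat_lit 1]))) (.node (nat_lit 459) (.leaf ((nat_lit 75), [nat_lit 1, nat_lit 1, nat_lit 3, nat_lit 3, nat_lit 1, nat_lit 1])) (.leaf ((nat_lit 146), [nat_lit 2, nat_lit 1, nat_lit 1]))))
 (.node (nat_lit 462) (.node (nat_lit 461) (.leaf ((nat_lit 147), [nat_lit 1, nat_lit 3, nat_lit 0])) (.leaf ((nat_lit 76), [nat_lit 0, nat_lit 3, nat_lit 3, nat_lit 1]))) (.node (nat_lit 463) (.leaf ((nat_lit 142), [nat_lit 3, nat_lit 0, nat_lit 3, nat_lit 0])) (.leaf ((nat_lit 18), [nat_lit 1])))))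
 (.node (nat_lit 468) (.node (nat_lit 466) (.node (nat_lit 465) (.leaf ((nat_lit 229), [nat_lit 3, nat_lit 1, nat_lit 1])) (.leaf ((nat_lit 135), [nat_lit 3]))) (.node (nat_lit 467) (.leaf ((nat_lit 135), [nat_lit 2])) (.leaf ((nat_lit 147), [nat_lit 1, nat_lit 2, nat_lit 0]))))
 (.node (nat_lit 470) (.node (nat_lit 469) (.leaf ((nat_lit 75), [nat_lit 1, nat_lit 3, nat_lit 0, nat_lit 3, nat_lit 1])) (.leaf ((nat_lit 229), [nat_lit 1, nat_lit 3, nat_lit 3, nat_lit 1]))) (.node (nat_lit 471) (.leaf ((nat_lit 18), [nat_lit 1, nat_lit 3])) (.leaf ((nat_lit 67), [nat_lit 1, nat_lit 2, nat_lit 1, nat_lit 1])))))))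
 (.node (nat_lit 488) (.node (nat_lit 480) (.node (nat_lit 476) (.node (nat_lit 474) (.node (nat_lit 473) (.leaf ((nat_lit 66), [nat_lit 3])) (.leaf ((nat_lit 165), [nat_lit 1, nat_lit 1, nat_lit 3, nat_lit 1, nat_lit 1]))) (.node (nat_lit 475) (.leaf ((nat_lit 103), [nat_lit 1, nat_lit 3, nat_lit 3])) (.leaf ((nat_lit 95), [nat_lit 1, nat_lit 3, nat_lit 0]))))
 (.node (nat_lit 478) (.node (nat_lit 477) (.leaf ((nat_lit 101), [nat_lit 3, nat_lit 3])) (.leaf ((nat_lit 18), [nat_lit 1, nat_lit 1, nat_lit 3]))) (.node (nat_lit 479) (.leaf ((nat_lit 19), [nat_lit 1, nat_lit 1, nat_lit 2, nat_lit 1])) (.leaf ((nat_lit 230), [nat_lit 1, nat_lit 1, nat_lit 3, nat_lit 3, nat_lit 1])))))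
 (.node (nat_lit 484) (.node (nat_lit 482) (.node (nat_lit 481) (.leaf ((nat_lit 131), [nat_lit 1, nat_lit 3, nat_lit 0, nat_lit 3, nat_lit 0])) (.leaf ((nat_lit 94), [nat_lit 1, nat_lit 2, nat_lit 0]))) (.node (nat_lit 483) (.leaf ((nat_lit 116), [nat_lit 0, nat_lit 3, nat_lit 1])) (.leaf ((nat_lit 19), [nat_lit 0, nat_lit 2]))))
 (.node (nat_lit 486) (.node (nat_lit 485) (.leaf ((nat_lit 18), [nat_lit 1, nat_lit 1, nat_lit 3, nat_lit 3, nat_lit 1])) (.leaf ((nat_lit 231), [nat_lit 1]))) (.node (nat_lit 487) (.leaf ((nat_lit 20), [])) (.leaf ((nat_lit 19), [nat_lit 3, nat_lit 0, nat_lit 3, nat_lit 1, nat_lit 1]))))))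
 (.node (nat_lit 496) (.node (nat_lit 492) (.node (nat_lit 490) (.node (nat_lit 489) (.leaf ((nat_lit 232), [nat_lit 1, nat_lit 1, nat_lit 2, nat_lit 0])) (.leaf ((nat_lit 92), [nat_lit 1, nat_lit 2, nat_lit 1]))) (.node (nat_lit 491) (.leaf ((nat_lit 92), [nat_lit 0, nat_lit 2, nat_lit 1])) (.leaf ((nat_lit 30), [nat_lit 1, nat_lit 1, nat_lit 2, nat_lit 1]))))
 (.node (nat_lit 494) (.node (nat_lit 493) (.leaf ((nat_lit 21), [nat_lit 3, nat_lit 1])) (.leaf ((nat_lit 232), [nat_lit 1, nat_lit 3, nat_lit 0, nat_lit 3, nat_lit 0]))) (.node (nat_lit 495) (.leaf ((nat_lit 19), [nat_lit 1, nat_lit 2])) (.leaf ((nat_lit 233), [nat_lit 1, nat_lit 1, nat_lit 3, nat_lit 3, nat_lit 1, nat_lit 1])))))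
 (.node (nat_lit 500) (.node (nat_lit 498) (.node (nat_lit 497) (.leaf ((nat_lit 234), [nat_lit 1, nat_lit 1, nat_lit 3, nat_lit 3, nat_lit 1, nat_lit 1])) (.leaf ((nat_lit 168), [nat_lit 3]))) (.node (nat_lit 499) (.leaf ((nat_lit 130), [nat_lit 3, nat_lit 1])) (.leaf ((nat_lit 71), [nat_lit 1, nat_lit 2, nat_lit 0]))))
 (.node (nat_lit 502) (.node (nat_lit 501) (.leaf ((nat_lit 31), [nat_lit 0, nat_lit 3, nat_lit 3, nat_lit 1])) (.leaf ((nat_lit 155), [nat_lit 0, nat_lit 2]))) (.node (nat_lit 503) (.leaf ((nat_lit 235), [nat_lit 1, nat_lit 1, nat_lit 3])) (.leaf ((nat_lit 19), [nat_lit 3, nat_lit 3, nat_lit 1, nat_lit 1]))))))))))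
noncomputable def n0Wd_2 : Tr (ℕ × List ℕ) := (.node (nat_lit 630) (.node (nat_lit 567) (.node (nat_lit 535) (.node (nat_lit 519) (.node (nat_lit 511) (.node (nat_lit 507) (.node (nat_lit 505) (.leaf ((nat_lit 232), [nat_lit 1, nat_lit 3, nat_lit 0, nat_lit 3, nat_lit 0])) (.node (nat_lit 506) (.leaf ((nat_lit 21), [nat_lit 3, nat_lit 1])) (.leaf ((nat_lit 20), [nat_lit 3, nat_lit 3, nat_lit 1]))))
 (.node (nat_lit 509) (.node (nat_lit 508) (.leaf ((nat_lit 236), [nat_lit 1, nat_lit 1, nat_lit 3, nat_lit 3, nat_lit 1, nat_lit 1])) (.leaf ((nat_lit 226), [nat_lit 1, nat_lit 1, nat_lit 3, nat_lit 3, nat_lit 1, nat_lit 1]))) (.node (nat_lit 510) (.leaf ((nat_lit 175), [nat_lit 1, nat_lit 1])) (.leaf ((nat_lit 237), [nat_lit 3])))))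
 (.node (nat_lit 515) (.node (nat_lit 513) (.node (nat_lit 512) (.leaf ((nat_lit 238), [nat_lit 3])) (.leaf ((nat_lit 201), [nat_lit 0, nat_lit 3, nat_lit 3, nat_lit 1]))) (.node (nat_lit 514) (.leaf ((nat_lit 239), [nat_lit 0, nat_lit 3, nat_lit 3, nat_lit 0])) (.leaf ((nat_lit 240), [nat_lit 3, nat_lit 0, nat_lit 3, nat_lit 1, nat_lit 1]))))
 (.node (nat_lit 517) (.node (nat_lit 516) (.leaf ((nat_lit 20), [nat_lit 0, nat_lit 2, nat_lit 1, nat_lit 1])) (.leaf ((nat_lit 144), [nat_lit 0, nat_lit 3, nat_lit 0]))) (.node (nat_lit 518) (.leaf ((nat_lit 241), [nat_lit 0, nat_lit 2])) (.leaf ((nat_lit 217), [nat_lit 3, nat_lit 0]))))))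
 (.node (nat_lit 527) (.node (nat_lit 523) (.node (nat_lit 521) (.node (nat_lit 520) (.leaf ((nat_lit 21), [nat_lit 3, nat_lit 1])) (.leaf ((nat_lit 64), [nat_lit 1, nat_lit 3, nat_lit 0, nat_lit 3, nat_lit 0]))) (.node (nat_lit 522) (.leaf ((nat_lit 242), [nat_lit 2, nat_lit 1, nat_lit 1])) (.leaf ((nat_lit 243), [nat_lit 2]))))
 (.node (nat_lit 525) (.node (nat_lit 524) (.leaf ((nat_lit 244), [nat_lit 1, nat_lit 3, nat_lit 0, nat_lit 3, nat_lit 1])) (.leaf ((nat_lit 121), [nat_lit 1, nat_lit 3, nat_lit 0]))) (.node (nat_lit 526) (.leaf ((nat_lit 64), [nat_lit 3, nat_lit 3, nat_lit 0])) (.leaf ((nat_lit 21), [nat_lit 0, nat_lit 3, nat_lit 1, nat_lit 1])))))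
 (.node (nat_lit 531) (.node (nat_lit 529) (.node (nat_lit 528) (.leaf ((nat_lit 245), [nat_lit 1, nat_lit 1, nat_lit 3, nat_lit 1])) (.leaf ((nat_lit 22), [nat_lit 1, nat_lit 2, nat_lit 1, nat_lit 1]))) (.node (nat_lit 530) (.leaf ((nat_lit 246), [nat_lit 3, nat_lit 0, nat_lit 3])) (.leaf ((nat_lit 247), [nat_lit 1, nat_lit 2]))))
 (.node (nat_lit 533) (.node (nat_lit 532) (.leaf ((nat_lit 111), [nat_lit 1, nat_lit 2, nat_lit 1])) (.leaf ((nat_lit 98), [nat_lit 1, nat_lit 3]))) (.node (nat_lit 534) (.leaf ((nat_lit 181), [nat_lit 1, nat_lit 1, nat_lit 2, nat_lit 1])) (.leaf ((nat_lit 246), [nat_lit 0, nat_lit 2, nat_lit 1, nat_lit 1])))))))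
 (.node (nat_lit 551) (.node (nat_lit 543) (.node (nat_lit 539) (.node (nat_lit 537) (.node (nat_lit 536) (.leaf ((nat_lit 22), [nat_lit 0, nat_lit 2, nat_lit 1])) (.leaf ((nat_lit 248), [nat_lit 1, nat_lit 2, nat_lit 1]))) (.node (nat_lit 538) (.leaf ((nat_lit 249), [nat_lit 3, nat_lit 1])) (.leaf ((nat_lit 143), [nat_lit 3, nat_lit 0, nat_lit 3]))))
 (.node (nat_lit 541) (.node (nat_lit 540) (.leaf ((nat_lit 250), [nat_lit 0, nat_lit 3, nat_lit 1])) (.leaf ((nat_lit 247), [nat_lit 0, nat_lit 3, nat_lit 0]))) (.node (nat_lit 542) (.leaf ((nat_lit 248), [nat_lit 3, nat_lit 0, nat_lit 3])) (.leaf ((nat_lit 22), [nat_lit 3, nat_lit 0, nat_lit 3, nat_lit 1, nat_lit 1])))))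
 (.node (nat_lit 547) (.node (nat_lit 545) (.node (nat_lit 544) (.leaf ((nat_lit 202), [nat_lit 1, nat_lit 3, nat_lit 3])) (.leaf ((nat_lit 191), [nat_lit 2, nat_lit 0]))) (.node (nat_lit 546) (.leaf ((nat_lit 251), [nat_lit 1, nat_lit 3, nat_lit 0, nat_lit 3])) (.leaf ((nat_lit 119), [nat_lit 0, nat_lit 2, nat_lit 1, nat_lit 1]))))
 (.node (nat_lit 549) (.node (nat_lit 548) (.leaf ((nat_lit 118), [nat_lit 1, nat_lit 3, nat_lit 0, nat_lit 3, nat_lit 1, nat_lit 1])) (.leaf ((nat_lit 220), [nat_lit 0, nat_lit 3]))) (.node (nat_lit 550) (.leaf ((nat_lit 104), [nat_lit 3, nat_lit 3])) (.leaf ((nat_lit 22), [nat_lit 2]))))))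
 (.node (nat_lit 559) (.node (nat_lit 555) (.node (nat_lit 553) (.node (nat_lit 552) (.leaf ((nat_lit 128), [nat_lit 2, nat_lit 1, nat_lit 1])) (.leaf ((nat_lit 24), [nat_lit 1, nat_lit 1, nat_lit 3, nat_lit 3, nat_lit 1, nat_lit 1]))) (.node (nat_lit 554) (.leaf ((nat_lit 23), [nat_lit 0, nat_lit 2, nat_lit 1])) (.leaf ((nat_lit 252), [nat_lit 1, nat_lit 1, nat_lit 3, nat_lit 3, nat_lit 0]))))
 (.node (nat_lit 557) (.node (nat_lit 556) (.leaf ((nat_lit 81), [nat_lit 0, nat_lit 3, nat_lit 0])) (.leaf ((nat_lit 81), [nat_lit 0, nat_lit 3, nat_lit 1]))) (.node (nat_lit 558) (.leaf ((nat_lit 125), [nat_lit 3, nat_lit 3, nat_lit 1])) (.leaf ((nat_lit 25), [nat_lit 1, nat_lit 3, nat_lit 0, nat_lit 3, nat_lit 1])))))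
 (.node (nat_lit 563) (.node (nat_lit 561) (.node (nat_lit 560) (.leaf ((nat_lit 252), [nat_lit 1, nat_lit 3, nat_lit 0, nat_lit 3, nat_lit 1])) (.leaf ((nat_lit 23), [nat_lit 0, nat_lit 3, nat_lit 3]))) (.node (nat_lit 562) (.leaf ((nat_lit 206), [nat_lit 0, nat_lit 3, nat_lit 1, nat_lit 1])) (.leaf ((nat_lit 182), [nat_lit 1, nat_lit 3]))))
 (.node (nat_lit 565) (.node (nat_lit 564) (.leaf ((nat_lit 60), [nat_lit 3, nat_lit 3])) (.leaf ((nat_lit 140), [nat_lit 1, nat_lit 3, nat_lit 3]))) (.node (nat_lit 566) (.leaf ((nat_lit 80), [nat_lit 1, nat_lit 3, nat_lit 0])) (.leaf ((nat_lit 30), [nat_lit 1, nat_lit 1, nat_lit 2, nat_lit 0]))))))))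
 (.node (nat_lit 598) (.node (nat_lit 582) (.node (nat_lit 574) (.node (nat_lit 570) (.node (nat_lit 568) (.leaf ((nat_lit 23), [nat_lit 1, nat_lit 1, nat_lit 2, nat_lit 1])) (.node (nat_lit 569) (.leaf ((nat_lit 242), [nat_lit 1, nat_lit 1, nat_lit 3])) (.leaf ((nat_lit 253), [nat_lit 1, nat_lit 1]))))
 (.node (nat_lit 572) (.node (nat_lit 571) (.leaf ((nat_lit 154), [nat_lit 1, nat_lit 3, nat_lit 0, nat_lit 3, nat_lit 0])) (.leaf ((nat_lit 79), [nat_lit 1, nat_lit 2, nat_lit 0]))) (.node (nat_lit 573) (.leaf ((nat_lit 254), [nat_lit 1, nat_lit 1, nat_lit 3, nat_lit 3, nat_lit 0])) (.leaf ((nat_lit 242), [nat_lit 1, nat_lit 1, nat_lit 3, nat_lit 3, nat_lit 1])))))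
 (.node (nat_lit 578) (.node (nat_lit 576) (.node (nat_lit 575) (.leaf ((nat_lit 23), [nat_lit 0, nat_lit 2])) (.leaf ((nat_lit 206), [nat_lit 0, nat_lit 3, nat_lit 1]))) (.node (nat_lit 577) (.leaf ((nat_lit 255), [nat_lit 1, nat_lit 3, nat_lit 3, nat_lit 1])) (.leaf ((nat_lit 227), [nat_lit 1, nat_lit 3, nat_lit 3, nat_lit 1]))))
 (.node (nat_lit 580) (.node (nat_lit 579) (.leaf ((nat_lit 256), [nat_lit 0, nat_lit 2, nat_lit 0])) (.leaf ((nat_lit 199), [nat_lit 0, nat_lit 2]))) (.node (nat_lit 581) (.leaf ((nat_lit 257), [nat_lit 0, nat_lit 3, nat_lit 0])) (.leaf ((nat_lit 23), [nat_lit 3, nat_lit 0, nat_lit 3, nat_lit 1]))))))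
 (.node (nat_lit 590) (.node (nat_lit 586) (.node (nat_lit 584) (.node (nat_lit 583) (.leaf ((nat_lit 252), [nat_lit 0, nat_lit 2])) (.leaf ((nat_lit 25), [nat_lit 0, nat_lit 2]))) (.node (nat_lit 585) (.leaf ((nat_lit 24), [nat_lit 3])) (.leaf ((nat_lit 164), [nat_lit 1, nat_lit 1, nat_lit 2, nat_lit 1]))))
 (.node (nat_lit 588) (.node (nat_lit 587) (.leaf ((nat_lit 53), [nat_lit 0, nat_lit 2])) (.leaf ((nat_lit 258), [nat_lit 1, nat_lit 3, nat_lit 3, nat_lit 1]))) (.node (nat_lit 589) (.leaf ((nat_lit 181), [nat_lit 3, nat_lit 1])) (.leaf ((nat_lit 107), [nat_lit 1, nat_lit 2, nat_lit 1])))))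
 (.node (nat_lit 594) (.node (nat_lit 592) (.node (nat_lit 591) (.leaf ((nat_lit 216), [nat_lit 0, nat_lit 3])) (.leaf ((nat_lit 259), [nat_lit 1, nat_lit 3, nat_lit 0]))) (.node (nat_lit 593) (.leaf ((nat_lit 88), [nat_lit 2, nat_lit 0])) (.leaf ((nat_lit 24), [nat_lit 1, nat_lit 1, nat_lit 3, nat_lit 0]))))
 (.node (nat_lit 596) (.node (nat_lit 595) (.leaf ((nat_lit 192), [nat_lit 3, nat_lit 0, nat_lit 3, nat_lit 1, nat_lit 1])) (.leaf ((nat_lit 114), [nat_lit 1, nat_lit 3, nat_lit 3, nat_lit 0]))) (.node (nat_lit 597) (.leaf ((nat_lit 122), [nat_lit 0, nat_lit 3, nat_lit 3])) (.leaf ((nat_lit 25), [nat_lit 1, nat_lit 1, nat_lit 3, nat_lit 3, nat_lit 1, nat_lit 1])))))))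
 (.node (nat_lit 614) (.node (nat_lit 606) (.node (nat_lit 602) (.node (nat_lit 600) (.node (nat_lit 599) (.leaf ((nat_lit 227), [nat_lit 1, nat_lit 1, nat_lit 3, nat_lit 3, nat_lit 1, nat_lit 1])) (.leaf ((nat_lit 207), [nat_lit 0, nat_lit 3, nat_lit 3, nat_lit 0]))) (.node (nat_lit 601) (.leaf ((nat_lit 58), [nat_lit 3])) (.leaf ((nat_lit 260), [nat_lit 1]))))
 (.node (nat_lit 604) (.node (nat_lit 603) (.leaf ((nat_lit 158), [nat_lit 1, nat_lit 1, nat_lit 3, nat_lit 3, nat_lit 1, nat_lit 1])) (.leaf ((nat_lit 247), [nat_lit 1, nat_lit 3, nat_lit 1, nat_lit 1]))) (.node (nat_lit 605) (.leaf ((nat_lit 261), [nat_lit 1, nat_lit 2])) (.leaf ((nat_lit 25), [nat_lit 1, nat_lit 3, nat_lit 1, nat_lit 1])))))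
 (.node (nat_lit 610) (.node (nat_lit 608) (.node (nat_lit 607) (.leaf ((nat_lit 26), [nat_lit 3, nat_lit 1])) (.leaf ((nat_lit 254), [nat_lit 1, nat_lit 3, nat_lit 0, nat_lit 3, nat_lit 1, nat_lit 1]))) (.node (nat_lit 609) (.leaf ((nat_lit 79), [nat_lit 3, nat_lit 3])) (.leaf ((nat_lit 219), [nat_lit 1, nat_lit 1, nat_lit 3, nat_lit 1]))))
 (.node (nat_lit 612) (.node (nat_lit 611) (.leaf ((nat_lit 183), [nat_lit 2, nat_lit 0])) (.leaf ((nat_lit 237), [nat_lit 1]))) (.node (nat_lit 613) (.leaf ((nat_lit 254), [nat_lit 0, nat_lit 2, nat_lit 1, nat_lit 1])) (.leaf ((nat_lit 26), [nat_lit 3, nat_lit 0, nat_lit 3, nat_lit 1]))))))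
 (.node (nat_lit 622) (.node (nat_lit 618) (.node (nat_lit 616) (.node (nat_lit 615) (.leaf ((nat_lit 154), [nat_lit 3, nat_lit 3, nat_lit 1, nat_lit 1])) (.leaf ((nat_lit 262), [nat_lit 0, nat_lit 3, nat_lit 0]))) (.node (nat_lit 617) (.leaf ((nat_lit 72), [nat_lit 1, nat_lit 3, nat_lit 1, nat_lit 1])) (.leaf ((nat_lit 213), [nat_lit 0, nat_lit 2]))))
 (.node (nat_lit 620) (.node (nat_lit 619) (.leaf ((nat_lit 79), [nat_lit 3, nat_lit 3, nat_lit 0])) (.leaf ((nat_lit 154), [nat_lit 0, nat_lit 3, nat_lit 0]))) (.node (nat_lit 621) (.leaf ((nat_lit 26), [nat_lit 3])) (.leaf ((nat_lit 42), [nat_lit 1, nat_lit 3, nat_lit 0, nat_lit 3, nat_lit 0])))))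
 (.node (nat_lit 626) (.node (nat_lit 624) (.node (nat_lit 623) (.leaf ((nat_lit 59), [nat_lit 0, nat_lit 3, nat_lit 0])) (.leaf ((nat_lit 259), [nat_lit 1, nat_lit 3]))) (.node (nat_lit 625) (.leaf ((nat_lit 121), [nat_lit 0, nat_lit 3, nat_lit 0])) (.leaf ((nat_lit 230), [nat_lit 1]))))
 (.node (nat_lit 628) (.node (nat_lit 627) (.leaf ((nat_lit 243), [nat_lit 1, nat_lit 1, nat_lit 2])) (.leaf ((nat_lit 91), [nat_lit 3, nat_lit 3]))) (.node (nat_lit 629) (.leaf ((nat_lit 26), [nat_lit 1, nat_lit 3, nat_lit 3, nat_lit 0])) (.leaf ((nat_lit 263), [nat_lit 2, nat_lit 1])))))))))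
 (.node (nat_lit 693) (.node (nat_lit 661) (.node (nat_lit 645) (.node (nat_lit 637) (.node (nat_lit 633) (.node (nat_lit 631) (.leaf ((nat_lit 28), [nat_lit 1, nat_lit 3, nat_lit 3])) (.node (nat_lit 632) (.leaf ((nat_lit 27), [nat_lit 2, nat_lit 1, nat_lit 1])) (.leaf ((nat_lit 264), [nat_lit 3, nat_lit 0, nat_lit 3, nat_lit 1, nat_lit 1]))))
 (.node (nat_lit 635) (.node (nat_lit 634) (.leaf ((nat_lit 128), [nat_lit 0, nat_lit 3, nat_lit 1])) (.leaf ((nat_lit 246), [nat_lit 1, nat_lit 3]))) (.node (nat_lit 636) (.leaf ((nat_lit 105), [nat_lit 1, nat_lit 1])) (.leaf ((nat_lit 29), [])))))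
 (.node (nat_lit 641) (.node (nat_lit 639) (.node (nat_lit 638) (.leaf ((nat_lit 264), [nat_lit 2])) (.leaf ((nat_lit 27), [nat_lit 1, nat_lit 3, nat_lit 3, nat_lit 1, nat_lit 1]))) (.node (nat_lit 640) (.leaf ((nat_lit 122), [nat_lit 3, nat_lit 0, nat_lit 3, nat_lit 1, nat_lit 1])) (.leaf ((nat_lit 265), [nat_lit 0, nat_lit 3, nat_lit 3, nat_lit 1, nat_lit 1]))))
 (.node (nat_lit 643) (.node (nat_lit 642) (.leaf ((nat_lit 222), [nat_lit 3, nat_lit 0, nat_lit 3])) (.leaf ((nat_lit 266), [nat_lit 0, nat_lit 2]))) (.node (nat_lit 644) (.leaf ((nat_lit 98), [nat_lit 0, nat_lit 3, nat_lit 0])) (.leaf ((nat_lit 267), [nat_lit 0]))))))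
 (.node (nat_lit 653) (.node (nat_lit 649) (.node (nat_lit 647) (.node (nat_lit 646) (.leaf ((nat_lit 121), [nat_lit 1, nat_lit 1, nat_lit 3, nat_lit 3, nat_lit 1])) (.leaf ((nat_lit 27), [nat_lit 1, nat_lit 3, nat_lit 0, nat_lit 3, nat_lit 0]))) (.node (nat_lit 648) (.leaf ((nat_lit 257), [nat_lit 1, nat_lit 3, nat_lit 0, nat_lit 3, nat_lit 1])) (.leaf ((nat_lit 264), [nat_lit 1, nat_lit 1, nat_lit 3]))))
 (.node (nat_lit 651) (.node (nat_lit 650) (.leaf ((nat_lit 29), [nat_lit 1, nat_lit 3, nat_lit 3, nat_lit 1])) (.leaf ((nat_lit 28), [nat_lit 1, nat_lit 3, nat_lit 1]))) (.node (nat_lit 652) (.leaf ((nat_lit 232), [nat_lit 2, nat_lit 0])) (.leaf ((nat_lit 47), [nat_lit 1, nat_lit 3, nat_lit 0, nat_lit 3, nat_lit 1])))))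
 (.node (nat_lit 657) (.node (nat_lit 655) (.node (nat_lit 654) (.leaf ((nat_lit 137), [nat_lit 3, nat_lit 0, nat_lit 3, nat_lit 1, nat_lit 1])) (.leaf ((nat_lit 69), [nat_lit 1, nat_lit 1, nat_lit 3, nat_lit 3, nat_lit 1, nat_lit 1]))) (.node (nat_lit 656) (.leaf ((nat_lit 68), [nat_lit 1, nat_lit 3, nat_lit 3, nat_lit 1])) (.leaf ((nat_lit 268), [nat_lit 1, nat_lit 3, nat_lit 0, nat_lit 3]))))
 (.node (nat_lit 659) (.node (nat_lit 658) (.leaf ((nat_lit 28), [nat_lit 3, nat_lit 0, nat_lit 3])) (.leaf ((nat_lit 269), [nat_lit 3, nat_lit 3, nat_lit 0]))) (.node (nat_lit 660) (.leaf ((nat_lit 270), [nat_lit 1])) (.leaf ((nat_lit 179), [nat_lit 1, nat_lit 1, nat_lit 3, nat_lit 3, nat_lit 1])))))))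
 (.node (nat_lit 677) (.node (nat_lit 669) (.node (nat_lit 665) (.node (nat_lit 663) (.node (nat_lit 662) (.leaf ((nat_lit 178), [nat_lit 1, nat_lit 1, nat_lit 2, nat_lit 0])) (.leaf ((nat_lit 271), [nat_lit 0, nat_lit 3, nat_lit 3, nat_lit 0]))) (.node (nat_lit 664) (.leaf ((nat_lit 269), [nat_lit 0, nat_lit 3, nat_lit 0])) (.leaf ((nat_lit 28), [nat_lit 1, nat_lit 1, nat_lit 3]))))
 (.node (nat_lit 667) (.node (nat_lit 666) (.leaf ((nat_lit 272), [nat_lit 1, nat_lit 3, nat_lit 0, nat_lit 3, nat_lit 1])) (.leaf ((nat_lit 134), [nat_lit 1, nat_lit 3, nat_lit 0, nat_lit 3, nat_lit 1]))) (.node (nat_lit 668) (.leaf ((nat_lit 208), [nat_lit 1, nat_lit 1])) (.leaf ((nat_lit 40), [nat_lit 0, nat_lit 3, nat_lit 3, nat_lit 1])))))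
 (.node (nat_lit 673) (.node (nat_lit 671) (.node (nat_lit 670) (.leaf ((nat_lit 88), [nat_lit 0, nat_lit 3, nat_lit 0])) (.leaf ((nat_lit 259), [nat_lit 1, nat_lit 1, nat_lit 2, nat_lit 1]))) (.node (nat_lit 672) (.leaf ((nat_lit 28), [nat_lit 1, nat_lit 3, nat_lit 3, nat_lit 1, nat_lit 1])) (.leaf ((nat_lit 273), [nat_lit 1, nat_lit 3, nat_lit 3]))))
 (.node (nat_lit 675) (.node (nat_lit 674) (.leaf ((nat_lit 233), [nat_lit 1, nat_lit 3, nat_lit 3])) (.leaf ((nat_lit 206), [nat_lit 0, nat_lit 3, nat_lit 1]))) (.node (nat_lit 676) (.leaf ((nat_lit 29), [nat_lit 0, nat_lit 3, nat_lit 3, nat_lit 1])) (.leaf ((nat_lit 274), [nat_lit 1, nat_lit 3, nat_lit 0, nat_lit 3, nat_lit 1]))))))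
 (.node (nat_lit 685) (.node (nat_lit 681) (.node (nat_lit 679) (.node (nat_lit 678) (.leaf ((nat_lit 275), [nat_lit 1, nat_lit 1, nat_lit 3])) (.leaf ((nat_lit 152), [nat_lit 1, nat_lit 3, nat_lit 1, nat_lit 1]))) (.node (nat_lit 680) (.leaf ((nat_lit 50), [nat_lit 3, nat_lit 3, nat_lit 1, nat_lit 1])) (.leaf ((nat_lit 235), [nat_lit 3, nat_lit 3, nat_lit 1, nat_lit 1]))))
 (.node (nat_lit 683) (.node (nat_lit 682) (.leaf ((nat_lit 274), [nat_lit 1, nat_lit 3, nat_lit 3])) (.leaf ((nat_lit 29), [nat_lit 1, nat_lit 1, nat_lit 3, nat_lit 1]))) (.node (nat_lit 684) (.leaf ((nat_lit 195), [nat_lit 1, nat_lit 1, nat_lit 3, nat_lit 3, nat_lit 1])) (.leaf ((nat_lit 217), [nat_lit 0, nat_lit 3, nat_lit 0])))))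
 (.node (nat_lit 689) (.node (nat_lit 687) (.node (nat_lit 686) (.leaf ((nat_lit 99), [nat_lit 1, nat_lit 3, nat_lit 3, nat_lit 0])) (.leaf ((nat_lit 144), [nat_lit 1, nat_lit 1, nat_lit 3, nat_lit 0]))) (.node (nat_lit 688) (.leaf ((nat_lit 129), [nat_lit 0, nat_lit 2, nat_lit 0])) (.leaf ((nat_lit 213), [nat_lit 1, nat_lit 3, nat_lit 1]))))
 (.node (nat_lit 691) (.node (nat_lit 690) (.leaf ((nat_lit 29), [nat_lit 1, nat_lit 2, nat_lit 1, nat_lit 1])) (.leaf ((nat_lit 30), [nat_lit 0, nat_lit 2, nat_lit 1, nat_lit 1]))) (.node (nat_lit 692) (.leaf ((nat_lit 276), [nat_lit 0])) (.leaf ((nat_lit 140), [nat_lit 0, nat_lit 3, nat_lit 1]))))))))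
 (.node (nat_lit 724) (.node (nat_lit 708) (.node (nat_lit 700) (.node (nat_lit 696) (.node (nat_lit 694) (.leaf ((nat_lit 178), [nat_lit 1, nat_lit 3, nat_lit 1, nat_lit 1])) (.node (nat_lit 695) (.leaf ((nat_lit 277), [nat_lit 0, nat_lit 3, nat_lit 0])) (.leaf ((nat_lit 255), [nat_lit 0, nat_lit 3, nat_lit 1]))))
 (.node (nat_lit 698) (.node (nat_lit 697) (.leaf ((nat_lit 276), [nat_lit 1, nat_lit 1, nat_lit 2, nat_lit 1, nat_lit 1])) (.leaf ((nat_lit 30), [nat_lit 1, nat_lit 3, nat_lit 0, nat_lit 3, nat_lit 1, nat_lit 1]))) (.node (nat_lit 699) (.leaf ((nat_lit 80), [nat_lit 0, nat_lit 2, nat_lit 1])) (.leaf ((nat_lit 68), [nat_lit 2, nat_lit 0])))))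
 (.node (nat_lit 704) (.node (nat_lit 702) (.node (nat_lit 701) (.leaf ((nat_lit 211), [nat_lit 1, nat_lit 1, nat_lit 3, nat_lit 1])) (.leaf ((nat_lit 278), [nat_lit 1, nat_lit 1, nat_lit 3, nat_lit 0]))) (.node (nat_lit 703) (.leaf ((nat_lit 259), [nat_lit 1, nat_lit 1, nat_lit 3, nat_lit 3, nat_lit 1, nat_lit 1])) (.leaf ((nat_lit 279), [nat_lit 1, nat_lit 3, nat_lit 3]))))
 (.node (nat_lit 706) (.node (nat_lit 705) (.leaf ((nat_lit 199), [nat_lit 1, nat_lit 2])) (.leaf ((nat_lit 31), [nat_lit 3, nat_lit 3, nat_lit 1]))) (.node (nat_lit 707) (.leaf ((nat_lit 30), [nat_lit 1, nat_lit 3])) (.leaf ((nat_lit 127), [nat_lit 0, nat_lit 2, nat_lit 0]))))))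
 (.node (nat_lit 716) (.node (nat_lit 712) (.node (nat_lit 710) (.node (nat_lit 709) (.leaf ((nat_lit 31), [nat_lit 1, nat_lit 1, nat_lit 3, nat_lit 3, nat_lit 0])) (.leaf ((nat_lit 91), [nat_lit 3, nat_lit 0, nat_lit 3, nat_lit 0]))) (.node (nat_lit 711) (.leaf ((nat_lit 130), [nat_lit 1, nat_lit 3, nat_lit 0, nat_lit 3, nat_lit 0])) (.leaf ((nat_lit 183), [nat_lit 1, nat_lit 2]))))
 (.node (nat_lit 714) (.node (nat_lit 713) (.leaf ((nat_lit 219), [nat_lit 3, nat_lit 0, nat_lit 3, nat_lit 0])) (.leaf ((nat_lit 280), [nat_lit 0, nat_lit 3, nat_lit 1]))) (.node (nat_lit 715) (.leaf ((nat_lit 91), [nat_lit 1, nat_lit 1, nat_lit 3, nat_lit 1])) (.leaf ((nat_lit 31), [nat_lit 1, nat_lit 3, nat_lit 0, nat_lit 3, nat_lit 0])))))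
 (.node (nat_lit 720) (.node (nat_lit 718) (.node (nat_lit 717) (.leaf ((nat_lit 71), [nat_lit 1, nat_lit 1, nat_lit 3, nat_lit 0])) (.leaf ((nat_lit 277), [nat_lit 1, nat_lit 3, nat_lit 3]))) (.node (nat_lit 719) (.leaf ((nat_lit 178), [nat_lit 1, nat_lit 1, nat_lit 3, nat_lit 0])) (.leaf ((nat_lit 158), [nat_lit 0, nat_lit 3, nat_lit 3]))))
 (.node (nat_lit 722) (.node (nat_lit 721) (.leaf ((nat_lit 281), [nat_lit 3, nat_lit 3, nat_lit 0])) (.leaf ((nat_lit 231), [nat_lit 1, nat_lit 1, nat_lit 3, nat_lit 3, nat_lit 1, nat_lit 1]))) (.node (nat_lit 723) (.leaf ((nat_lit 214), [nat_lit 1, nat_lit 3, nat_lit 1, nat_lit 1])) (.leaf ((nat_lit 254), [nat_lit 0, nat_lit 3, nat_lit 1])))))))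
 (.node (nat_lit 740) (.node (nat_lit 732) (.node (nat_lit 728) (.node (nat_lit 726) (.node (nat_lit 725) (.leaf ((nat_lit 263), [nat_lit 1, nat_lit 1, nat_lit 3, nat_lit 3, nat_lit 1])) (.leaf ((nat_lit 31), [nat_lit 1]))) (.node (nat_lit 727) (.leaf ((nat_lit 104), [nat_lit 1, nat_lit 2, nat_lit 1])) (.leaf ((nat_lit 126), [nat_lit 1, nat_lit 3, nat_lit 1, nat_lit 1]))))
 (.node (nat_lit 730) (.node (nat_lit 729) (.leaf ((nat_lit 87), [nat_lit 1, nat_lit 2, nat_lit 0])) (.leaf ((nat_lit 107), [nat_lit 0, nat_lit 3, nat_lit 3, nat_lit 1, nat_lit 1]))) (.node (nat_lit 731) (.leaf ((nat_lit 32), [nat_lit 0, nat_lit 3, nat_lit 3, nat_lit 0])) (.leaf ((nat_lit 196), [nat_lit 1, nat_lit 1])))))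
 (.node (nat_lit 736) (.node (nat_lit 734) (.node (nat_lit 733) (.leaf ((nat_lit 241), [])) (.leaf ((nat_lit 144), [nat_lit 1, nat_lit 3, nat_lit 0, nat_lit 3, nat_lit 0]))) (.node (nat_lit 735) (.leaf ((nat_lit 99), [nat_lit 3, nat_lit 3, nat_lit 1])) (.leaf ((nat_lit 106), [nat_lit 3, nat_lit 0, nat_lit 3]))))
 (.node (nat_lit 738) (.node (nat_lit 737) (.leaf ((nat_lit 282), [nat_lit 1, nat_lit 2, nat_lit 0])) (.leaf ((nat_lit 32), [nat_lit 1, nat_lit 3, nat_lit 0, nat_lit 3, nat_lit 1]))) (.node (nat_lit 739) (.leaf ((nat_lit 33), [nat_lit 1, nat_lit 1, nat_lit 3, nat_lit 3, nat_lit 1, nat_lit 1])) (.leaf ((nat_lit 132), [nat_lit 3, nat_lit 0, nat_lit 3, nat_lit 1]))))))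
 (.node (nat_lit 748) (.node (nat_lit 744) (.node (nat_lit 742) (.node (nat_lit 741) (.leaf ((nat_lit 283), [nat_lit 1, nat_lit 3, nat_lit 0])) (.leaf ((nat_lit 222), [nat_lit 2, nat_lit 1, nat_lit 1]))) (.node (nat_lit 743) (.leaf ((nat_lit 157), [nat_lit 3, nat_lit 0, nat_lit 3, nat_lit 1, nat_lit 1])) (.leaf ((nat_lit 46), [nat_lit 0, nat_lit 3]))))
 (.node (nat_lit 746) (.node (nat_lit 745) (.leaf ((nat_lit 283), [])) (.leaf ((nat_lit 133), [nat_lit 2]))) (.node (nat_lit 747) (.leaf ((nat_lit 33), [nat_lit 1, nat_lit 2, nat_lit 1])) (.leaf ((nat_lit 284), [nat_lit 0, nat_lit 3, nat_lit 3, nat_lit 1, nat_lit 1])))))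
 (.node (nat_lit 752) (.node (nat_lit 750) (.node (nat_lit 749) (.leaf ((nat_lit 285), [nat_lit 3, nat_lit 0, nat_lit 3, nat_lit 1, nat_lit 1])) (.leaf ((nat_lit 229), [nat_lit 3, nat_lit 0, nat_lit 3, nat_lit 0]))) (.node (nat_lit 751) (.leaf ((nat_lit 286), [nat_lit 1, nat_lit 1, nat_lit 3, nat_lit 1])) (.leaf ((nat_lit 287), [nat_lit 3, nat_lit 0, nat_lit 3, nat_lit 1, nat_lit 1]))))
 (.node (nat_lit 754) (.node (nat_lit 753) (.leaf ((nat_lit 288), [nat_lit 3, nat_lit 1, nat_lit 1])) (.leaf ((nat_lit 33), [nat_lit 0, nat_lit 2, nat_lit 1]))) (.node (nat_lit 755) (.leaf ((nat_lit 289), [nat_lit 2])) (.leaf ((nat_lit 92), [nat_lit 0, nat_lit 3, nat_lit 3]))))))))))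
noncomputable def n0Wd_3 : Tr (ℕ × List ℕ) := (.node (nat_lit 882) (.node (nat_lit 819) (.node (nat_lit 787) (.node (nat_lit 771) (.node (nat_lit 763) (.node (nat_lit 759) (.node (nat_lit 757) (.leaf ((nat_lit 230), [nat_lit 1, nat_lit 2])) (.node (nat_lit 758) (.leaf ((nat_lit 121), [nat_lit 1, nat_lit 1, nat_lit 2, nat_lit 0])) (.leaf ((nat_lit 244), [nat_lit 1, nat_lit 1]))))
 (.node (nat_lit 761) (.node (nat_lit 760) (.leaf ((nat_lit 289), [nat_lit 3, nat_lit 3])) (.leaf ((nat_lit 33), [nat_lit 1, nat_lit 3, nat_lit 0, nat_lit 3]))) (.node (nat_lit 762) (.leaf ((nat_lit 290), [nat_lit 1, nat_lit 3, nat_lit 0, nat_lit 3, nat_lit 0])) (.leaf ((nat_lit 34), [nat_lit 0, nat_lit 3, nat_lit 0])))))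
 (.node (nat_lit 767) (.node (nat_lit 765) (.node (nat_lit 764) (.leaf ((nat_lit 269), [nat_lit 1])) (.leaf ((nat_lit 265), [nat_lit 1, nat_lit 1, nat_lit 2, nat_lit 0]))) (.node (nat_lit 766) (.leaf ((nat_lit 276), [nat_lit 0, nat_lit 3, nat_lit 1])) (.leaf ((nat_lit 267), [nat_lit 3, nat_lit 3]))))
 (.node (nat_lit 769) (.node (nat_lit 768) (.leaf ((nat_lit 117), [nat_lit 1, nat_lit 3, nat_lit 1])) (.leaf ((nat_lit 269), [nat_lit 1, nat_lit 2]))) (.node (nat_lit 770) (.leaf ((nat_lit 34), [nat_lit 1, nat_lit 1, nat_lit 2, nat_lit 0])) (.leaf ((nat_lit 164), [nat_lit 1, nat_lit 3, nat_lit 0, nat_lit 3, nat_lit 1]))))))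
 (.node (nat_lit 779) (.node (nat_lit 775) (.node (nat_lit 773) (.node (nat_lit 772) (.leaf ((nat_lit 105), [nat_lit 0, nat_lit 2, nat_lit 1])) (.leaf ((nat_lit 290), [nat_lit 3, nat_lit 3]))) (.node (nat_lit 774) (.leaf ((nat_lit 91), [nat_lit 1, nat_lit 1, nat_lit 3])) (.leaf ((nat_lit 265), [nat_lit 1, nat_lit 2, nat_lit 0]))))
 (.node (nat_lit 777) (.node (nat_lit 776) (.leaf ((nat_lit 164), [nat_lit 1, nat_lit 3, nat_lit 0, nat_lit 3, nat_lit 0])) (.leaf ((nat_lit 34), [nat_lit 1, nat_lit 1, nat_lit 2, nat_lit 1]))) (.node (nat_lit 778) (.leaf ((nat_lit 114), [nat_lit 1, nat_lit 3, nat_lit 1])) (.leaf ((nat_lit 149), [nat_lit 1, nat_lit 1, nat_lit 3, nat_lit 3, nat_lit 1, nat_lit 1])))))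
 (.node (nat_lit 783) (.node (nat_lit 781) (.node (nat_lit 780) (.leaf ((nat_lit 291), [nat_lit 1, nat_lit 1, nat_lit 3, nat_lit 1, nat_lit 1])) (.leaf ((nat_lit 83), [nat_lit 0, nat_lit 2]))) (.node (nat_lit 782) (.leaf ((nat_lit 220), [nat_lit 0, nat_lit 3, nat_lit 0])) (.leaf ((nat_lit 118), [nat_lit 1, nat_lit 3, nat_lit 0, nat_lit 3, nat_lit 1]))))
 (.node (nat_lit 785) (.node (nat_lit 784) (.leaf ((nat_lit 35), [nat_lit 1, nat_lit 3, nat_lit 0, nat_lit 3, nat_lit 0])) (.leaf ((nat_lit 34), [nat_lit 1, nat_lit 1, nat_lit 3, nat_lit 3, nat_lit 1]))) (.node (nat_lit 786) (.leaf ((nat_lit 286), [nat_lit 1, nat_lit 1, nat_lit 3, nat_lit 0])) (.leaf ((nat_lit 80), [nat_lit 1, nat_lit 3, nat_lit 0, nat_lit 3, nat_lit 1])))))))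
 (.node (nat_lit 803) (.node (nat_lit 795) (.node (nat_lit 791) (.node (nat_lit 789) (.node (nat_lit 788) (.leaf ((nat_lit 140), [nat_lit 1, nat_lit 2, nat_lit 1])) (.leaf ((nat_lit 276), [nat_lit 1, nat_lit 3, nat_lit 3]))) (.node (nat_lit 790) (.leaf ((nat_lit 37), [nat_lit 3, nat_lit 3, nat_lit 0])) (.leaf ((nat_lit 54), [nat_lit 1, nat_lit 3, nat_lit 0, nat_lit 3, nat_lit 0]))))
 (.node (nat_lit 793) (.node (nat_lit 792) (.leaf ((nat_lit 34), [nat_lit 2])) (.leaf ((nat_lit 35), [nat_lit 1, nat_lit 3, nat_lit 1, nat_lit 1]))) (.node (nat_lit 794) (.leaf ((nat_lit 123), [nat_lit 1, nat_lit 3, nat_lit 0, nat_lit 3])) (.leaf ((nat_lit 182), [nat_lit 1, nat_lit 1, nat_lit 3])))))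
 (.node (nat_lit 799) (.node (nat_lit 797) (.node (nat_lit 796) (.leaf ((nat_lit 263), [nat_lit 0, nat_lit 3, nat_lit 1])) (.leaf ((nat_lit 254), [nat_lit 2]))) (.node (nat_lit 798) (.leaf ((nat_lit 132), [nat_lit 1, nat_lit 1, nat_lit 3, nat_lit 3, nat_lit 1, nat_lit 1])) (.leaf ((nat_lit 182), [nat_lit 2, nat_lit 1, nat_lit 1]))))
 (.node (nat_lit 801) (.node (nat_lit 800) (.leaf ((nat_lit 124), [nat_lit 3])) (.leaf ((nat_lit 35), [nat_lit 0, nat_lit 3, nat_lit 1, nat_lit 1]))) (.node (nat_lit 802) (.leaf ((nat_lit 292), [nat_lit 1, nat_lit 2, nat_lit 1])) (.leaf ((nat_lit 44), [nat_lit 2]))))))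
 (.node (nat_lit 811) (.node (nat_lit 807) (.node (nat_lit 805) (.node (nat_lit 804) (.leaf ((nat_lit 187), [nat_lit 3, nat_lit 3, nat_lit 1, nat_lit 1])) (.leaf ((nat_lit 111), [nat_lit 1, nat_lit 3, nat_lit 0, nat_lit 3, nat_lit 0]))) (.node (nat_lit 806) (.leaf ((nat_lit 167), [nat_lit 1, nat_lit 1])) (.leaf ((nat_lit 146), [nat_lit 3, nat_lit 0, nat_lit 3, nat_lit 0]))))
 (.node (nat_lit 809) (.node (nat_lit 808) (.leaf ((nat_lit 151), [nat_lit 1, nat_lit 3, nat_lit 3])) (.leaf ((nat_lit 251), [nat_lit 1, nat_lit 3, nat_lit 3, nat_lit 1]))) (.node (nat_lit 810) (.leaf ((nat_lit 35), [nat_lit 1, nat_lit 1, nat_lit 3, nat_lit 3])) (.leaf ((nat_lit 36), [nat_lit 3, nat_lit 0, nat_lit 3, nat_lit 0])))))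
 (.node (nat_lit 815) (.node (nat_lit 813) (.node (nat_lit 812) (.leaf ((nat_lit 242), [nat_lit 1])) (.leaf ((nat_lit 293), [nat_lit 2]))) (.node (nat_lit 814) (.leaf ((nat_lit 77), [nat_lit 2])) (.leaf ((nat_lit 77), [nat_lit 3]))))
 (.node (nat_lit 817) (.node (nat_lit 816) (.leaf ((nat_lit 135), [nat_lit 1, nat_lit 1])) (.leaf ((nat_lit 242), [nat_lit 1, nat_lit 3, nat_lit 3]))) (.node (nat_lit 818) (.leaf ((nat_lit 36), [nat_lit 1, nat_lit 3, nat_lit 1, nat_lit 1])) (.leaf ((nat_lit 209), [nat_lit 2]))))))))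
 (.node (nat_lit 850) (.node (nat_lit 834) (.node (nat_lit 826) (.node (nat_lit 822) (.node (nat_lit 820) (.leaf ((nat_lit 147), [nat_lit 0, nat_lit 2, nat_lit 1])) (.node (nat_lit 821) (.leaf ((nat_lit 146), [nat_lit 1, nat_lit 1, nat_lit 2, nat_lit 1, nat_lit 1])) (.leaf ((nat_lit 146), [nat_lit 1, nat_lit 1, nat_lit 3, nat_lit 3]))))
 (.node (nat_lit 824) (.node (nat_lit 823) (.leaf ((nat_lit 293), [nat_lit 1, nat_lit 3, nat_lit 0, nat_lit 3, nat_lit 0])) (.leaf ((nat_lit 209), [nat_lit 1, nat_lit 1, nat_lit 2]))) (.node (nat_lit 825) (.leaf ((nat_lit 36), [nat_lit 1, nat_lit 2, nat_lit 1, nat_lit 1])) (.leaf ((nat_lit 240), [nat_lit 1, nat_lit 1, nat_lit 2, nat_lit 1])))))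
 (.node (nat_lit 830) (.node (nat_lit 828) (.node (nat_lit 827) (.leaf ((nat_lit 239), [nat_lit 1, nat_lit 3, nat_lit 0, nat_lit 3, nat_lit 0])) (.leaf ((nat_lit 108), [nat_lit 3, nat_lit 0, nat_lit 3]))) (.node (nat_lit 829) (.leaf ((nat_lit 38), [nat_lit 2])) (.leaf ((nat_lit 37), [nat_lit 1]))))
 (.node (nat_lit 832) (.node (nat_lit 831) (.leaf ((nat_lit 294), [nat_lit 1, nat_lit 1, nat_lit 3, nat_lit 3, nat_lit 1, nat_lit 1])) (.leaf ((nat_lit 188), []))) (.node (nat_lit 833) (.leaf ((nat_lit 188), [nat_lit 1, nat_lit 1, nat_lit 3, nat_lit 3, nat_lit 1, nat_lit 1])) (.leaf ((nat_lit 39), [nat_lit 1, nat_lit 1, nat_lit 3, nat_lit 1, nat_lit 1]))))))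
 (.node (nat_lit 842) (.node (nat_lit 838) (.node (nat_lit 836) (.node (nat_lit 835) (.leaf ((nat_lit 39), [nat_lit 2, nat_lit 0])) (.leaf ((nat_lit 294), [nat_lit 3, nat_lit 3, nat_lit 1, nat_lit 1]))) (.node (nat_lit 837) (.leaf ((nat_lit 37), [nat_lit 1, nat_lit 1, nat_lit 3, nat_lit 3, nat_lit 0])) (.leaf ((nat_lit 295), [nat_lit 1, nat_lit 1, nat_lit 3, nat_lit 1]))))
 (.node (nat_lit 840) (.node (nat_lit 839) (.leaf ((nat_lit 296), [nat_lit 1, nat_lit 2])) (.leaf ((nat_lit 211), [nat_lit 1, nat_lit 2, nat_lit 0]))) (.node (nat_lit 841) (.leaf ((nat_lit 94), [nat_lit 3, nat_lit 3, nat_lit 0])) (.leaf ((nat_lit 131), [nat_lit 0, nat_lit 3, nat_lit 0])))))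
 (.node (nat_lit 846) (.node (nat_lit 844) (.node (nat_lit 843) (.leaf ((nat_lit 115), [nat_lit 0, nat_lit 2, nat_lit 1])) (.leaf ((nat_lit 54), [nat_lit 0, nat_lit 3, nat_lit 0]))) (.node (nat_lit 845) (.leaf ((nat_lit 37), [nat_lit 1, nat_lit 3, nat_lit 0, nat_lit 3, nat_lit 0])) (.leaf ((nat_lit 297), [nat_lit 0, nat_lit 3, nat_lit 3, nat_lit 1, nat_lit 1]))))
 (.node (nat_lit 848) (.node (nat_lit 847) (.leaf ((nat_lit 294), [nat_lit 3, nat_lit 0])) (.leaf ((nat_lit 39), [nat_lit 3, nat_lit 0, nat_lit 3, nat_lit 1]))) (.node (nat_lit 849) (.leaf ((nat_lit 38), [nat_lit 1])) (.leaf ((nat_lit 264), [nat_lit 3])))))))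
 (.node (nat_lit 866) (.node (nat_lit 858) (.node (nat_lit 854) (.node (nat_lit 852) (.node (nat_lit 851) (.leaf ((nat_lit 172), [nat_lit 3, nat_lit 3])) (.leaf ((nat_lit 268), []))) (.node (nat_lit 853) (.leaf ((nat_lit 77), [nat_lit 1, nat_lit 3, nat_lit 0, nat_lit 3, nat_lit 1, nat_lit 1])) (.leaf ((nat_lit 76), [nat_lit 1, nat_lit 1, nat_lit 2, nat_lit 0]))))
 (.node (nat_lit 856) (.node (nat_lit 855) (.leaf ((nat_lit 173), [nat_lit 0, nat_lit 3, nat_lit 3, nat_lit 1, nat_lit 1])) (.leaf ((nat_lit 60), [nat_lit 1, nat_lit 2, nat_lit 0]))) (.node (nat_lit 857) (.leaf ((nat_lit 38), [nat_lit 3, nat_lit 3, nat_lit 0])) (.leaf ((nat_lit 285), [nat_lit 1, nat_lit 1, nat_lit 2, nat_lit 0])))))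
 (.node (nat_lit 862) (.node (nat_lit 860) (.node (nat_lit 859) (.leaf ((nat_lit 159), [nat_lit 2])) (.leaf ((nat_lit 219), [nat_lit 1, nat_lit 1, nat_lit 3, nat_lit 1, nat_lit 1]))) (.node (nat_lit 861) (.leaf ((nat_lit 298), [nat_lit 1, nat_lit 3, nat_lit 1, nat_lit 1])) (.leaf ((nat_lit 231), [nat_lit 1, nat_lit 1, nat_lit 2, nat_lit 1]))))
 (.node (nat_lit 864) (.node (nat_lit 863) (.leaf ((nat_lit 89), [nat_lit 3, nat_lit 0, nat_lit 3, nat_lit 1, nat_lit 1])) (.leaf ((nat_lit 38), [nat_lit 1, nat_lit 3]))) (.node (nat_lit 865) (.leaf ((nat_lit 86), [nat_lit 1, nat_lit 2, nat_lit 1])) (.leaf ((nat_lit 122), [nat_lit 1, nat_lit 3, nat_lit 0, nat_lit 3, nat_lit 1]))))))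
 (.node (nat_lit 874) (.node (nat_lit 870) (.node (nat_lit 868) (.node (nat_lit 867) (.leaf ((nat_lit 114), [nat_lit 1, nat_lit 2, nat_lit 1, nat_lit 1])) (.leaf ((nat_lit 39), [nat_lit 1, nat_lit 1, nat_lit 3, nat_lit 3]))) (.node (nat_lit 869) (.leaf ((nat_lit 65), [nat_lit 1, nat_lit 3])) (.leaf ((nat_lit 57), [nat_lit 2, nat_lit 0]))))
 (.node (nat_lit 872) (.node (nat_lit 871) (.leaf ((nat_lit 199), [nat_lit 0, nat_lit 3, nat_lit 3, nat_lit 0])) (.leaf ((nat_lit 299), [nat_lit 1, nat_lit 1, nat_lit 2, nat_lit 1, nat_lit 1]))) (.node (nat_lit 873) (.leaf ((nat_lit 259), [nat_lit 2, nat_lit 0])) (.leaf ((nat_lit 65), [nat_lit 3, nat_lit 3, nat_lit 0])))))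
 (.node (nat_lit 878) (.node (nat_lit 876) (.node (nat_lit 875) (.leaf ((nat_lit 39), [nat_lit 2])) (.leaf ((nat_lit 300), [nat_lit 1, nat_lit 1, nat_lit 3]))) (.node (nat_lit 877) (.leaf ((nat_lit 40), [nat_lit 0, nat_lit 3, nat_lit 3, nat_lit 1, nat_lit 1])) (.leaf ((nat_lit 57), [nat_lit 1, nat_lit 2, nat_lit 1]))))
 (.node (nat_lit 880) (.node (nat_lit 879) (.leaf ((nat_lit 134), [nat_lit 1, nat_lit 3, nat_lit 0, nat_lit 3, nat_lit 1, nat_lit 1])) (.leaf ((nat_lit 76), [nat_lit 1, nat_lit 1, nat_lit 3]))) (.node (nat_lit 881) (.leaf ((nat_lit 136), [nat_lit 1, nat_lit 1, nat_lit 3, nat_lit 1, nat_lit 1])) (.leaf ((nat_lit 136), [nat_lit 3, nat_lit 3, nat_lit 1, nat_lit 1])))))))))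
 (.node (nat_lit 945) (.node (nat_lit 913) (.node (nat_lit 897) (.node (nat_lit 889) (.node (nat_lit 885) (.node (nat_lit 883) (.leaf ((nat_lit 57), [nat_lit 1, nat_lit 1, nat_lit 3, nat_lit 3, nat_lit 1, nat_lit 1])) (.node (nat_lit 884) (.leaf ((nat_lit 40), [nat_lit 2, nat_lit 1])) (.leaf ((nat_lit 208), [nat_lit 3, nat_lit 0]))))
 (.node (nat_lit 887) (.node (nat_lit 886) (.leaf ((nat_lit 136), [nat_lit 0, nat_lit 3, nat_lit 1])) (.leaf ((nat_lit 76), [nat_lit 1, nat_lit 2, nat_lit 0]))) (.node (nat_lit 888) (.leaf ((nat_lit 77), [nat_lit 1, nat_lit 3, nat_lit 0])) (.leaf ((nat_lit 285), [])))))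
 (.node (nat_lit 893) (.node (nat_lit 891) (.node (nat_lit 890) (.leaf ((nat_lit 53), [nat_lit 3, nat_lit 1])) (.leaf ((nat_lit 170), [nat_lit 1, nat_lit 3, nat_lit 3, nat_lit 1, nat_lit 1]))) (.node (nat_lit 892) (.leaf ((nat_lit 301), [nat_lit 3])) (.leaf ((nat_lit 224), [nat_lit 1, nat_lit 2, nat_lit 1]))))
 (.node (nat_lit 895) (.node (nat_lit 894) (.leaf ((nat_lit 40), [nat_lit 0])) (.leaf ((nat_lit 41), [nat_lit 1, nat_lit 3, nat_lit 0, nat_lit 3, nat_lit 1, nat_lit 1]))) (.node (nat_lit 896) (.leaf ((nat_lit 298), [nat_lit 0, nat_lit 2, nat_lit 0])) (.leaf ((nat_lit 219), [nat_lit 2, nat_lit 0]))))))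
 (.node (nat_lit 905) (.node (nat_lit 901) (.node (nat_lit 899) (.node (nat_lit 898) (.leaf ((nat_lit 213), [])) (.leaf ((nat_lit 129), [nat_lit 1, nat_lit 1, nat_lit 3, nat_lit 3, nat_lit 1, nat_lit 1]))) (.node (nat_lit 900) (.leaf ((nat_lit 184), [nat_lit 0, nat_lit 3, nat_lit 3, nat_lit 0])) (.leaf ((nat_lit 298), [nat_lit 0, nat_lit 2, nat_lit 0]))))
 (.node (nat_lit 903) (.node (nat_lit 902) (.leaf ((nat_lit 41), [nat_lit 1, nat_lit 3, nat_lit 0, nat_lit 3, nat_lit 1, nat_lit 1])) (.leaf ((nat_lit 159), [nat_lit 1, nat_lit 1, nat_lit 3, nat_lit 1]))) (.node (nat_lit 904) (.leaf ((nat_lit 200), [nat_lit 1, nat_lit 1, nat_lit 3, nat_lit 3, nat_lit 1, nat_lit 1])) (.leaf ((nat_lit 302), [nat_lit 1, nat_lit 3, nat_lit 3])))))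
 (.node (nat_lit 909) (.node (nat_lit 907) (.node (nat_lit 906) (.leaf ((nat_lit 169), [nat_lit 0, nat_lit 2, nat_lit 1])) (.leaf ((nat_lit 219), [nat_lit 1, nat_lit 1, nat_lit 2, nat_lit 1]))) (.node (nat_lit 908) (.leaf ((nat_lit 159), [nat_lit 1, nat_lit 1, nat_lit 2, nat_lit 0])) (.leaf ((nat_lit 41), [nat_lit 3, nat_lit 1]))))
 (.node (nat_lit 911) (.node (nat_lit 910) (.leaf ((nat_lit 134), [nat_lit 3, nat_lit 3, nat_lit 0])) (.leaf ((nat_lit 266), [nat_lit 3, nat_lit 1]))) (.node (nat_lit 912) (.leaf ((nat_lit 52), [nat_lit 1, nat_lit 2, nat_lit 1, nat_lit 1])) (.leaf ((nat_lit 113), [nat_lit 1, nat_lit 1, nat_lit 2, nat_lit 0])))))))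
 (.node (nat_lit 929) (.node (nat_lit 921) (.node (nat_lit 917) (.node (nat_lit 915) (.node (nat_lit 914) (.leaf ((nat_lit 175), [nat_lit 3, nat_lit 0, nat_lit 3, nat_lit 1])) (.leaf ((nat_lit 262), [nat_lit 3, nat_lit 1]))) (.node (nat_lit 916) (.leaf ((nat_lit 197), [nat_lit 1, nat_lit 3, nat_lit 0, nat_lit 3, nat_lit 1])) (.leaf ((nat_lit 41), [nat_lit 1, nat_lit 3]))))
 (.node (nat_lit 919) (.node (nat_lit 918) (.leaf ((nat_lit 303), [nat_lit 1, nat_lit 2])) (.leaf ((nat_lit 43), [nat_lit 2]))) (.node (nat_lit 920) (.leaf ((nat_lit 42), [nat_lit 1])) (.leaf ((nat_lit 160), [nat_lit 1, nat_lit 3, nat_lit 3, nat_lit 0])))))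
 (.node (nat_lit 925) (.node (nat_lit 923) (.node (nat_lit 922) (.leaf ((nat_lit 174), [nat_lit 1, nat_lit 1, nat_lit 3, nat_lit 3, nat_lit 1, nat_lit 1])) (.leaf ((nat_lit 174), []))) (.node (nat_lit 924) (.leaf ((nat_lit 66), [nat_lit 1, nat_lit 3, nat_lit 0, nat_lit 3, nat_lit 0])) (.leaf ((nat_lit 95), [nat_lit 1, nat_lit 3, nat_lit 0, nat_lit 3, nat_lit 1]))))
 (.node (nat_lit 927) (.node (nat_lit 926) (.leaf ((nat_lit 103), [nat_lit 1, nat_lit 2, nat_lit 1])) (.leaf ((nat_lit 102), [nat_lit 1, nat_lit 1, nat_lit 3, nat_lit 3]))) (.node (nat_lit 928) (.leaf ((nat_lit 59), [nat_lit 1, nat_lit 3, nat_lit 0, nat_lit 3, nat_lit 0])) (.leaf ((nat_lit 42), [nat_lit 3, nat_lit 3, nat_lit 0]))))))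
 (.node (nat_lit 937) (.node (nat_lit 933) (.node (nat_lit 931) (.node (nat_lit 930) (.leaf ((nat_lit 239), [nat_lit 1, nat_lit 1, nat_lit 2])) (.leaf ((nat_lit 211), [nat_lit 1, nat_lit 1, nat_lit 2, nat_lit 1]))) (.node (nat_lit 932) (.leaf ((nat_lit 225), [nat_lit 1, nat_lit 1, nat_lit 2, nat_lit 0])) (.leaf ((nat_lit 193), [nat_lit 0, nat_lit 3, nat_lit 3, nat_lit 1]))))
 (.node (nat_lit 935) (.node (nat_lit 934) (.leaf ((nat_lit 83), [nat_lit 3, nat_lit 1])) (.leaf ((nat_lit 167), [nat_lit 3, nat_lit 3, nat_lit 0]))) (.node (nat_lit 936) (.leaf ((nat_lit 42), [nat_lit 1, nat_lit 1, nat_lit 2, nat_lit 1, nat_lit 1])) (.leaf ((nat_lit 160), [nat_lit 1, nat_lit 3])))))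
 (.node (nat_lit 941) (.node (nat_lit 939) (.node (nat_lit 938) (.leaf ((nat_lit 44), [nat_lit 1, nat_lit 3, nat_lit 0, nat_lit 3])) (.leaf ((nat_lit 43), [nat_lit 3, nat_lit 0, nat_lit 3, nat_lit 1, nat_lit 1]))) (.node (nat_lit 940) (.leaf ((nat_lit 177), [nat_lit 3])) (.leaf ((nat_lit 186), [nat_lit 3, nat_lit 3, nat_lit 1, nat_lit 1]))))
 (.node (nat_lit 943) (.node (nat_lit 942) (.leaf ((nat_lit 298), [nat_lit 1, nat_lit 3, nat_lit 3, nat_lit 0])) (.leaf ((nat_lit 184), [nat_lit 1, nat_lit 1, nat_lit 3, nat_lit 3, nat_lit 1, nat_lit 1]))) (.node (nat_lit 944) (.leaf ((nat_lit 183), [nat_lit 1, nat_lit 3, nat_lit 3, nat_lit 1])) (.leaf ((nat_lit 304), [nat_lit 0, nat_lit 2, nat_lit 1]))))))))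
 (.node (nat_lit 976) (.node (nat_lit 960) (.node (nat_lit 952) (.node (nat_lit 948) (.node (nat_lit 946) (.leaf ((nat_lit 230), [nat_lit 3, nat_lit 3, nat_lit 0])) (.node (nat_lit 947) (.leaf ((nat_lit 123), [nat_lit 3, nat_lit 0, nat_lit 3])) (.leaf ((nat_lit 43), [nat_lit 1, nat_lit 3, nat_lit 1]))))
 (.node (nat_lit 950) (.node (nat_lit 949) (.leaf ((nat_lit 196), [nat_lit 3, nat_lit 1])) (.leaf ((nat_lit 253), [nat_lit 1, nat_lit 3, nat_lit 0, nat_lit 3, nat_lit 1]))) (.node (nat_lit 951) (.leaf ((nat_lit 100), [nat_lit 1, nat_lit 1, nat_lit 3, nat_lit 3, nat_lit 1, nat_lit 1])) (.leaf ((nat_lit 44), [nat_lit 3, nat_lit 3])))))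
 (.node (nat_lit 956) (.node (nat_lit 954) (.node (nat_lit 953) (.leaf ((nat_lit 292), [nat_lit 1, nat_lit 3, nat_lit 0, nat_lit 3, nat_lit 1, nat_lit 1])) (.leaf ((nat_lit 119), [nat_lit 3, nat_lit 3, nat_lit 1]))) (.node (nat_lit 955) (.leaf ((nat_lit 143), [nat_lit 3])) (.leaf ((nat_lit 151), [nat_lit 1, nat_lit 3, nat_lit 1, nat_lit 1]))))
 (.node (nat_lit 958) (.node (nat_lit 957) (.leaf ((nat_lit 150), [nat_lit 0, nat_lit 2, nat_lit 1, nat_lit 1])) (.leaf ((nat_lit 176), [nat_lit 1, nat_lit 1, nat_lit 3, nat_lit 3]))) (.node (nat_lit 959) (.leaf ((nat_lit 179), [nat_lit 1, nat_lit 3, nat_lit 0, nat_lit 3, nat_lit 1])) (.leaf ((nat_lit 44), [nat_lit 1, nat_lit 1, nat_lit 2]))))))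
 (.node (nat_lit 968) (.node (nat_lit 964) (.node (nat_lit 962) (.node (nat_lit 961) (.leaf ((nat_lit 156), [nat_lit 2, nat_lit 0])) (.leaf ((nat_lit 45), [nat_lit 3, nat_lit 3, nat_lit 1, nat_lit 1]))) (.node (nat_lit 963) (.leaf ((nat_lit 153), [nat_lit 1, nat_lit 3, nat_lit 3, nat_lit 0])) (.leaf ((nat_lit 175), [nat_lit 1, nat_lit 2]))))
 (.node (nat_lit 966) (.node (nat_lit 965) (.leaf ((nat_lit 305), [nat_lit 1, nat_lit 1, nat_lit 3, nat_lit 1])) (.leaf ((nat_lit 306), [nat_lit 2, nat_lit 1, nat_lit 1]))) (.node (nat_lit 967) (.leaf ((nat_lit 74), [nat_lit 1, nat_lit 1, nat_lit 3, nat_lit 3, nat_lit 1, nat_lit 1])) (.leaf ((nat_lit 307), [nat_lit 0, nat_lit 2, nat_lit 0])))))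
 (.node (nat_lit 972) (.node (nat_lit 970) (.node (nat_lit 969) (.leaf ((nat_lit 72), [nat_lit 1, nat_lit 1, nat_lit 3, nat_lit 1])) (.leaf ((nat_lit 203), [nat_lit 3, nat_lit 3]))) (.node (nat_lit 971) (.leaf ((nat_lit 45), [nat_lit 0, nat_lit 2, nat_lit 1, nat_lit 1])) (.leaf ((nat_lit 163), [nat_lit 3, nat_lit 0, nat_lit 3, nat_lit 0]))))
 (.node (nat_lit 974) (.node (nat_lit 973) (.leaf ((nat_lit 47), [nat_lit 1, nat_lit 2, nat_lit 0])) (.leaf ((nat_lit 46), [nat_lit 1, nat_lit 1]))) (.node (nat_lit 975) (.leaf ((nat_lit 308), [nat_lit 1, nat_lit 2, nat_lit 1])) (.leaf ((nat_lit 303), [nat_lit 0, nat_lit 2, nat_lit 1, nat_lit 1])))))))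
 (.node (nat_lit 992) (.node (nat_lit 984) (.node (nat_lit 980) (.node (nat_lit 978) (.node (nat_lit 977) (.leaf ((nat_lit 298), [nat_lit 2])) (.leaf ((nat_lit 162), [nat_lit 1, nat_lit 3, nat_lit 3, nat_lit 0]))) (.node (nat_lit 979) (.leaf ((nat_lit 48), [nat_lit 2])) (.leaf ((nat_lit 308), [nat_lit 0, nat_lit 3, nat_lit 1]))))
 (.node (nat_lit 982) (.node (nat_lit 981) (.leaf ((nat_lit 46), [nat_lit 1, nat_lit 1, nat_lit 3, nat_lit 3, nat_lit 1, nat_lit 1])) (.leaf ((nat_lit 186), [nat_lit 2, nat_lit 0]))) (.node (nat_lit 983) (.leaf ((nat_lit 177), [nat_lit 1, nat_lit 3, nat_lit 3])) (.leaf ((nat_lit 161), [nat_lit 1, nat_lit 3, nat_lit 0, nat_lit 3, nat_lit 1, nat_lit 1])))))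
 (.node (nat_lit 988) (.node (nat_lit 986) (.node (nat_lit 985) (.leaf ((nat_lit 309), [nat_lit 2])) (.leaf ((nat_lit 129), [nat_lit 1, nat_lit 3, nat_lit 0, nat_lit 3, nat_lit 1]))) (.node (nat_lit 987) (.leaf ((nat_lit 128), [nat_lit 1, nat_lit 3, nat_lit 0, nat_lit 3, nat_lit 0])) (.leaf ((nat_lit 97), [nat_lit 0, nat_lit 3, nat_lit 1, nat_lit 1]))))
 (.node (nat_lit 990) (.node (nat_lit 989) (.leaf ((nat_lit 46), [nat_lit 3, nat_lit 3, nat_lit 0])) (.leaf ((nat_lit 240), [nat_lit 1, nat_lit 3, nat_lit 0, nat_lit 3, nat_lit 1, nat_lit 1]))) (.node (nat_lit 991) (.leaf ((nat_lit 308), [nat_lit 1, nat_lit 3, nat_lit 3])) (.leaf ((nat_lit 48), [nat_lit 3, nat_lit 0, nat_lit 3]))))))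
 (.node (nat_lit 1000) (.node (nat_lit 996) (.node (nat_lit 994) (.node (nat_lit 993) (.leaf ((nat_lit 47), [nat_lit 3, nat_lit 3, nat_lit 0])) (.leaf ((nat_lit 310), [nat_lit 1, nat_lit 1, nat_lit 2, nat_lit 0]))) (.node (nat_lit 995) (.leaf ((nat_lit 271), [nat_lit 3, nat_lit 3])) (.leaf ((nat_lit 78), [nat_lit 1, nat_lit 1, nat_lit 2, nat_lit 1, nat_lit 1]))))
 (.node (nat_lit 998) (.node (nat_lit 997) (.leaf ((nat_lit 280), [nat_lit 1, nat_lit 3, nat_lit 0, nat_lit 3, nat_lit 0])) (.leaf ((nat_lit 311), [nat_lit 1, nat_lit 1, nat_lit 2, nat_lit 1, nat_lit 1]))) (.node (nat_lit 999) (.leaf ((nat_lit 194), [nat_lit 1, nat_lit 3, nat_lit 0, nat_lit 3])) (.leaf ((nat_lit 47), [nat_lit 2, nat_lit 1, nat_lit 1])))))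
 (.node (nat_lit 1004) (.node (nat_lit 1002) (.node (nat_lit 1001) (.leaf ((nat_lit 232), [nat_lit 1, nat_lit 1, nat_lit 2, nat_lit 1])) (.leaf ((nat_lit 279), [nat_lit 2, nat_lit 1]))) (.node (nat_lit 1003) (.leaf ((nat_lit 208), [nat_lit 1, nat_lit 3, nat_lit 0, nat_lit 3, nat_lit 0])) (.leaf ((nat_lit 134), [nat_lit 1, nat_lit 1]))))
 (.node (nat_lit 1006) (.node (nat_lit 1005) (.leaf ((nat_lit 57), [nat_lit 0, nat_lit 3, nat_lit 3])) (.leaf ((nat_lit 235), [nat_lit 1, nat_lit 3, nat_lit 3, nat_lit 1]))) (.node (nat_lit 1007) (.leaf ((nat_lit 155), [nat_lit 1, nat_lit 3, nat_lit 3])) (.leaf ((nat_lit 47), [nat_lit 2]))))))))))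
noncomputable def n0Wd_4 : Tr (ℕ × List ℕ) := (.node (nat_lit 1134) (.node (nat_lit 1071) (.node (nat_lit 1039) (.node (nat_lit 1023) (.node (nat_lit 1015) (.node (nat_lit 1011) (.node (nat_lit 1009) (.leaf ((nat_lit 49), [nat_lit 1, nat_lit 1, nat_lit 2, nat_lit 1])) (.node (nat_lit 1010) (.leaf ((nat_lit 312), [nat_lit 1, nat_lit 3, nat_lit 1, nat_lit 1])) (.leaf ((nat_lit 239), [nat_lit 1, nat_lit 1, nat_lit 3, nat_lit 3, nat_lit 1]))))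
 (.node (nat_lit 1013) (.node (nat_lit 1012) (.leaf ((nat_lit 48), [nat_lit 3, nat_lit 3, nat_lit 0])) (.leaf ((nat_lit 190), [nat_lit 3]))) (.node (nat_lit 1014) (.leaf ((nat_lit 82), [nat_lit 2])) (.leaf ((nat_lit 268), [nat_lit 1, nat_lit 1, nat_lit 3, nat_lit 1])))))
 (.node (nat_lit 1019) (.node (nat_lit 1017) (.node (nat_lit 1016) (.leaf ((nat_lit 70), [nat_lit 0, nat_lit 3, nat_lit 0])) (.leaf ((nat_lit 69), [nat_lit 0, nat_lit 3, nat_lit 3, nat_lit 1]))) (.node (nat_lit 1018) (.leaf ((nat_lit 190), [nat_lit 3, nat_lit 0, nat_lit 3, nat_lit 0])) (.leaf ((nat_lit 48), [nat_lit 1, nat_lit 1, nat_lit 3, nat_lit 1]))))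
 (.node (nat_lit 1021) (.node (nat_lit 1020) (.leaf ((nat_lit 150), [nat_lit 0, nat_lit 3, nat_lit 1])) (.leaf ((nat_lit 313), [nat_lit 0, nat_lit 2, nat_lit 1]))) (.node (nat_lit 1022) (.leaf ((nat_lit 187), [nat_lit 0, nat_lit 2, nat_lit 1])) (.leaf ((nat_lit 148), [nat_lit 1, nat_lit 1, nat_lit 3, nat_lit 3, nat_lit 0]))))))
 (.node (nat_lit 1031) (.node (nat_lit 1027) (.node (nat_lit 1025) (.node (nat_lit 1024) (.leaf ((nat_lit 314), [nat_lit 1, nat_lit 1, nat_lit 3, nat_lit 3, nat_lit 1, nat_lit 1])) (.leaf ((nat_lit 306), [nat_lit 1, nat_lit 3, nat_lit 3]))) (.node (nat_lit 1026) (.leaf ((nat_lit 48), [nat_lit 1, nat_lit 2, nat_lit 1, nat_lit 1])) (.leaf ((nat_lit 312), [nat_lit 3]))))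
 (.node (nat_lit 1029) (.node (nat_lit 1028) (.leaf ((nat_lit 49), [nat_lit 1])) (.leaf ((nat_lit 315), [nat_lit 1, nat_lit 1, nat_lit 3]))) (.node (nat_lit 1030) (.leaf ((nat_lit 311), [nat_lit 1, nat_lit 2])) (.leaf ((nat_lit 288), [nat_lit 1, nat_lit 3, nat_lit 1, nat_lit 1])))))
 (.node (nat_lit 1035) (.node (nat_lit 1033) (.node (nat_lit 1032) (.leaf ((nat_lit 296), [nat_lit 0, nat_lit 3, nat_lit 1, nat_lit 1])) (.leaf ((nat_lit 239), [nat_lit 3, nat_lit 1]))) (.node (nat_lit 1034) (.leaf ((nat_lit 315), [nat_lit 1, nat_lit 3, nat_lit 0, nat_lit 3, nat_lit 1])) (.leaf ((nat_lit 49), [nat_lit 0, nat_lit 3, nat_lit 3, nat_lit 1, nat_lit 1]))))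
 (.node (nat_lit 1037) (.node (nat_lit 1036) (.leaf ((nat_lit 201), [nat_lit 1, nat_lit 3, nat_lit 0, nat_lit 3, nat_lit 1, nat_lit 1])) (.leaf ((nat_lit 141), [nat_lit 3, nat_lit 3]))) (.node (nat_lit 1038) (.leaf ((nat_lit 311), [nat_lit 1, nat_lit 1, nat_lit 3, nat_lit 3])) (.leaf ((nat_lit 229), [nat_lit 1, nat_lit 1, nat_lit 3, nat_lit 3, nat_lit 1, nat_lit 1])))))))
 (.node (nat_lit 1055) (.node (nat_lit 1047) (.node (nat_lit 1043) (.node (nat_lit 1041) (.node (nat_lit 1040) (.leaf ((nat_lit 75), [nat_lit 3, nat_lit 1, nat_lit 1])) (.leaf ((nat_lit 142), [nat_lit 1, nat_lit 1, nat_lit 3, nat_lit 3, nat_lit 1]))) (.node (nat_lit 1042) (.leaf ((nat_lit 50), [nat_lit 1, nat_lit 3, nat_lit 0, nat_lit 3, nat_lit 1, nat_lit 1])) (.leaf ((nat_lit 49), [nat_lit 0, nat_lit 3, nat_lit 3, nat_lit 1]))))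
 (.node (nat_lit 1045) (.node (nat_lit 1044) (.leaf ((nat_lit 271), [nat_lit 3, nat_lit 1, nat_lit 1])) (.leaf ((nat_lit 60), [nat_lit 0, nat_lit 3, nat_lit 1, nat_lit 1]))) (.node (nat_lit 1046) (.leaf ((nat_lit 59), [nat_lit 1, nat_lit 3, nat_lit 3, nat_lit 1])) (.leaf ((nat_lit 316), [nat_lit 1, nat_lit 3, nat_lit 3, nat_lit 1])))))
 (.node (nat_lit 1051) (.node (nat_lit 1049) (.node (nat_lit 1048) (.leaf ((nat_lit 153), [nat_lit 1, nat_lit 1, nat_lit 3, nat_lit 3, nat_lit 1, nat_lit 1])) (.leaf ((nat_lit 153), []))) (.node (nat_lit 1050) (.leaf ((nat_lit 49), [nat_lit 3, nat_lit 3, nat_lit 1, nat_lit 1])) (.leaf ((nat_lit 50), [nat_lit 1, nat_lit 2, nat_lit 1, nat_lit 1]))))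
 (.node (nat_lit 1053) (.node (nat_lit 1052) (.leaf ((nat_lit 152), [nat_lit 1, nat_lit 3, nat_lit 0, nat_lit 3])) (.leaf ((nat_lit 249), [nat_lit 1, nat_lit 1, nat_lit 2]))) (.node (nat_lit 1054) (.leaf ((nat_lit 160), [nat_lit 3, nat_lit 0])) (.leaf ((nat_lit 291), [nat_lit 1, nat_lit 1, nat_lit 3, nat_lit 3]))))))
 (.node (nat_lit 1063) (.node (nat_lit 1059) (.node (nat_lit 1057) (.node (nat_lit 1056) (.leaf ((nat_lit 84), [nat_lit 1, nat_lit 1])) (.leaf ((nat_lit 249), [nat_lit 1, nat_lit 3]))) (.node (nat_lit 1058) (.leaf ((nat_lit 235), [nat_lit 3, nat_lit 1, nat_lit 1])) (.leaf ((nat_lit 50), [nat_lit 3, nat_lit 1, nat_lit 1]))))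
 (.node (nat_lit 1061) (.node (nat_lit 1060) (.leaf ((nat_lit 159), [nat_lit 3, nat_lit 3, nat_lit 1, nat_lit 1])) (.leaf ((nat_lit 69), [nat_lit 3, nat_lit 3]))) (.node (nat_lit 1062) (.leaf ((nat_lit 317), [nat_lit 2, nat_lit 1, nat_lit 1])) (.leaf ((nat_lit 258), [nat_lit 0, nat_lit 3, nat_lit 3, nat_lit 0])))))
 (.node (nat_lit 1067) (.node (nat_lit 1065) (.node (nat_lit 1064) (.leaf ((nat_lit 191), [nat_lit 1, nat_lit 1, nat_lit 2, nat_lit 1, nat_lit 1])) (.leaf ((nat_lit 290), [nat_lit 2]))) (.node (nat_lit 1066) (.leaf ((nat_lit 156), [nat_lit 2])) (.leaf ((nat_lit 163), [nat_lit 3, nat_lit 3, nat_lit 0]))))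
 (.node (nat_lit 1069) (.node (nat_lit 1068) (.leaf ((nat_lit 50), [nat_lit 1, nat_lit 3, nat_lit 0, nat_lit 3])) (.leaf ((nat_lit 51), [nat_lit 0, nat_lit 3, nat_lit 3, nat_lit 1]))) (.node (nat_lit 1070) (.leaf ((nat_lit 110), [nat_lit 1, nat_lit 3, nat_lit 1, nat_lit 1])) (.leaf ((nat_lit 218), [nat_lit 1, nat_lit 1, nat_lit 3, nat_lit 3, nat_lit 1]))))))))
 (.node (nat_lit 1102) (.node (nat_lit 1086) (.node (nat_lit 1078) (.node (nat_lit 1074) (.node (nat_lit 1072) (.leaf ((nat_lit 115), [nat_lit 1, nat_lit 1, nat_lit 2, nat_lit 0])) (.node (nat_lit 1073) (.leaf ((nat_lit 119), [nat_lit 1, nat_lit 2, nat_lit 1, nat_lit 1])) (.leaf ((nat_lit 217), [nat_lit 2, nat_lit 1]))))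
 (.node (nat_lit 1076) (.node (nat_lit 1075) (.leaf ((nat_lit 110), [nat_lit 0, nat_lit 3, nat_lit 3, nat_lit 1, nat_lit 1])) (.leaf ((nat_lit 51), [nat_lit 1, nat_lit 1, nat_lit 3, nat_lit 1, nat_lit 1]))) (.node (nat_lit 1077) (.leaf ((nat_lit 236), [nat_lit 1, nat_lit 3, nat_lit 1, nat_lit 1])) (.leaf ((nat_lit 69), [nat_lit 3])))))
 (.node (nat_lit 1082) (.node (nat_lit 1080) (.node (nat_lit 1079) (.leaf ((nat_lit 159), [nat_lit 1, nat_lit 3, nat_lit 0, nat_lit 3, nat_lit 0])) (.leaf ((nat_lit 308), [nat_lit 1, nat_lit 3, nat_lit 3, nat_lit 1]))) (.node (nat_lit 1081) (.leaf ((nat_lit 218), [nat_lit 1, nat_lit 3, nat_lit 3])) (.leaf ((nat_lit 236), [nat_lit 1, nat_lit 3, nat_lit 3]))))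
 (.node (nat_lit 1084) (.node (nat_lit 1083) (.leaf ((nat_lit 51), [nat_lit 1, nat_lit 1, nat_lit 3, nat_lit 3])) (.leaf ((nat_lit 241), [nat_lit 0, nat_lit 3, nat_lit 0]))) (.node (nat_lit 1085) (.leaf ((nat_lit 214), [nat_lit 1, nat_lit 2])) (.leaf ((nat_lit 203), [nat_lit 0, nat_lit 2]))))))
 (.node (nat_lit 1094) (.node (nat_lit 1090) (.node (nat_lit 1088) (.node (nat_lit 1087) (.leaf ((nat_lit 98), [nat_lit 0, nat_lit 2])) (.leaf ((nat_lit 266), [nat_lit 1, nat_lit 3, nat_lit 0]))) (.node (nat_lit 1089) (.leaf ((nat_lit 263), [nat_lit 3, nat_lit 1])) (.leaf ((nat_lit 52), [nat_lit 1, nat_lit 3, nat_lit 0, nat_lit 3, nat_lit 1]))))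
 (.node (nat_lit 1092) (.node (nat_lit 1091) (.leaf ((nat_lit 51), [nat_lit 1, nat_lit 3, nat_lit 0])) (.leaf ((nat_lit 88), [nat_lit 0, nat_lit 3, nat_lit 1, nat_lit 1]))) (.node (nat_lit 1093) (.leaf ((nat_lit 133), [nat_lit 1, nat_lit 1, nat_lit 3])) (.leaf ((nat_lit 283), [nat_lit 1, nat_lit 3, nat_lit 3, nat_lit 1])))))
 (.node (nat_lit 1098) (.node (nat_lit 1096) (.node (nat_lit 1095) (.leaf ((nat_lit 132), [nat_lit 2, nat_lit 1, nat_lit 1])) (.leaf ((nat_lit 63), [nat_lit 1, nat_lit 3, nat_lit 0, nat_lit 3, nat_lit 1]))) (.node (nat_lit 1097) (.leaf ((nat_lit 93), [nat_lit 2, nat_lit 0])) (.leaf ((nat_lit 51), [nat_lit 1]))))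
 (.node (nat_lit 1100) (.node (nat_lit 1099) (.leaf ((nat_lit 52), [nat_lit 1, nat_lit 3])) (.leaf ((nat_lit 157), [nat_lit 0, nat_lit 3, nat_lit 3, nat_lit 0]))) (.node (nat_lit 1101) (.leaf ((nat_lit 234), [nat_lit 1, nat_lit 1, nat_lit 3, nat_lit 1])) (.leaf ((nat_lit 118), [nat_lit 3, nat_lit 0])))))))
 (.node (nat_lit 1118) (.node (nat_lit 1110) (.node (nat_lit 1106) (.node (nat_lit 1104) (.node (nat_lit 1103) (.leaf ((nat_lit 101), [nat_lit 1, nat_lit 3])) (.leaf ((nat_lit 185), [nat_lit 0, nat_lit 2, nat_lit 0]))) (.node (nat_lit 1105) (.leaf ((nat_lit 157), [nat_lit 1, nat_lit 1, nat_lit 3, nat_lit 3, nat_lit 1, nat_lit 1])) (.leaf ((nat_lit 52), [nat_lit 0, nat_lit 2, nat_lit 1, nat_lit 1]))))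
 (.node (nat_lit 1108) (.node (nat_lit 1107) (.leaf ((nat_lit 306), [nat_lit 0, nat_lit 3, nat_lit 0])) (.leaf ((nat_lit 318), [nat_lit 3, nat_lit 3]))) (.node (nat_lit 1109) (.leaf ((nat_lit 73), [nat_lit 2])) (.leaf ((nat_lit 149), [nat_lit 1, nat_lit 3, nat_lit 3, nat_lit 1])))))
 (.node (nat_lit 1114) (.node (nat_lit 1112) (.node (nat_lit 1111) (.leaf ((nat_lit 234), [nat_lit 1, nat_lit 1, nat_lit 3, nat_lit 1])) (.leaf ((nat_lit 306), [nat_lit 3, nat_lit 0, nat_lit 3, nat_lit 1, nat_lit 1]))) (.node (nat_lit 1113) (.leaf ((nat_lit 52), [nat_lit 1, nat_lit 3])) (.leaf ((nat_lit 205), [nat_lit 1, nat_lit 1, nat_lit 3, nat_lit 1]))))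
 (.node (nat_lit 1116) (.node (nat_lit 1115) (.leaf ((nat_lit 61), [nat_lit 3, nat_lit 0, nat_lit 3, nat_lit 0])) (.leaf ((nat_lit 183), [nat_lit 1, nat_lit 3, nat_lit 1]))) (.node (nat_lit 1117) (.leaf ((nat_lit 53), [nat_lit 1, nat_lit 2, nat_lit 1])) (.leaf ((nat_lit 285), [nat_lit 1, nat_lit 3, nat_lit 0, nat_lit 3, nat_lit 1]))))))
 (.node (nat_lit 1126) (.node (nat_lit 1122) (.node (nat_lit 1120) (.node (nat_lit 1119) (.leaf ((nat_lit 226), [nat_lit 1, nat_lit 3, nat_lit 1, nat_lit 1])) (.leaf ((nat_lit 163), [nat_lit 1, nat_lit 3]))) (.node (nat_lit 1121) (.leaf ((nat_lit 156), [nat_lit 1, nat_lit 1, nat_lit 3, nat_lit 3])) (.leaf ((nat_lit 186), [nat_lit 3, nat_lit 3]))))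
 (.node (nat_lit 1124) (.node (nat_lit 1123) (.leaf ((nat_lit 226), [nat_lit 3, nat_lit 0, nat_lit 3])) (.leaf ((nat_lit 170), [nat_lit 0, nat_lit 3, nat_lit 1]))) (.node (nat_lit 1125) (.leaf ((nat_lit 53), [nat_lit 0, nat_lit 3])) (.leaf ((nat_lit 302), [nat_lit 1, nat_lit 3, nat_lit 3])))))
 (.node (nat_lit 1130) (.node (nat_lit 1128) (.node (nat_lit 1127) (.leaf ((nat_lit 200), [nat_lit 1, nat_lit 1, nat_lit 3, nat_lit 3, nat_lit 1, nat_lit 1])) (.leaf ((nat_lit 133), [nat_lit 1, nat_lit 1, nat_lit 3, nat_lit 3]))) (.node (nat_lit 1129) (.leaf ((nat_lit 55), [nat_lit 0, nat_lit 3, nat_lit 1, nat_lit 1])) (.leaf ((nat_lit 54), [nat_lit 1, nat_lit 3, nat_lit 3, nat_lit 1]))))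
 (.node (nat_lit 1132) (.node (nat_lit 1131) (.leaf ((nat_lit 319), [nat_lit 2, nat_lit 0])) (.leaf ((nat_lit 138), []))) (.node (nat_lit 1133) (.leaf ((nat_lit 138), [nat_lit 1, nat_lit 1, nat_lit 3, nat_lit 3, nat_lit 1, nat_lit 1])) (.leaf ((nat_lit 301), [nat_lit 1, nat_lit 1, nat_lit 3])))))))))
 (.node (nat_lit 1197) (.node (nat_lit 1165) (.node (nat_lit 1149) (.node (nat_lit 1141) (.node (nat_lit 1137) (.node (nat_lit 1135) (.leaf ((nat_lit 56), [nat_lit 0, nat_lit 3, nat_lit 0])) (.node (nat_lit 1136) (.leaf ((nat_lit 319), [nat_lit 1, nat_lit 1, nat_lit 2, nat_lit 1])) (.leaf ((nat_lit 54), []))))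
 (.node (nat_lit 1139) (.node (nat_lit 1138) (.leaf ((nat_lit 320), [nat_lit 1, nat_lit 1, nat_lit 3, nat_lit 0])) (.leaf ((nat_lit 321), [nat_lit 2, nat_lit 0]))) (.node (nat_lit 1140) (.leaf ((nat_lit 322), [nat_lit 1, nat_lit 1, nat_lit 2, nat_lit 0])) (.leaf ((nat_lit 319), [nat_lit 1, nat_lit 1, nat_lit 3, nat_lit 3, nat_lit 1, nat_lit 1])))))
 (.node (nat_lit 1145) (.node (nat_lit 1143) (.node (nat_lit 1142) (.leaf ((nat_lit 56), [nat_lit 1, nat_lit 3, nat_lit 3])) (.leaf ((nat_lit 55), [nat_lit 2, nat_lit 1]))) (.node (nat_lit 1144) (.leaf ((nat_lit 169), [nat_lit 1, nat_lit 3, nat_lit 0, nat_lit 3, nat_lit 1, nat_lit 1])) (.leaf ((nat_lit 168), [nat_lit 2]))))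
 (.node (nat_lit 1147) (.node (nat_lit 1146) (.leaf ((nat_lit 309), [nat_lit 2, nat_lit 1, nat_lit 1])) (.leaf ((nat_lit 214), [nat_lit 1, nat_lit 1, nat_lit 3, nat_lit 3]))) (.node (nat_lit 1148) (.leaf ((nat_lit 177), [nat_lit 1, nat_lit 1, nat_lit 3, nat_lit 1, nat_lit 1])) (.leaf ((nat_lit 281), [nat_lit 1, nat_lit 2, nat_lit 1]))))))
 (.node (nat_lit 1157) (.node (nat_lit 1153) (.node (nat_lit 1151) (.node (nat_lit 1150) (.leaf ((nat_lit 253), [nat_lit 1, nat_lit 3, nat_lit 3])) (.leaf ((nat_lit 90), [nat_lit 1, nat_lit 3]))) (.node (nat_lit 1152) (.leaf ((nat_lit 55), [nat_lit 1, nat_lit 1, nat_lit 2, nat_lit 0])) (.leaf ((nat_lit 99), [nat_lit 3, nat_lit 0, nat_lit 3]))))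
 (.node (nat_lit 1155) (.node (nat_lit 1154) (.leaf ((nat_lit 217), [nat_lit 1, nat_lit 3, nat_lit 3, nat_lit 1])) (.leaf ((nat_lit 241), [nat_lit 3, nat_lit 0]))) (.node (nat_lit 1156) (.leaf ((nat_lit 56), [nat_lit 1, nat_lit 1, nat_lit 3, nat_lit 3, nat_lit 1, nat_lit 1])) (.leaf ((nat_lit 256), [])))))
 (.node (nat_lit 1161) (.node (nat_lit 1159) (.node (nat_lit 1158) (.leaf ((nat_lit 74), [nat_lit 1, nat_lit 3, nat_lit 0, nat_lit 3, nat_lit 1, nat_lit 1])) (.leaf ((nat_lit 66), [nat_lit 1, nat_lit 3, nat_lit 1]))) (.node (nat_lit 1160) (.leaf ((nat_lit 323), [nat_lit 2, nat_lit 1])) (.leaf ((nat_lit 155), [nat_lit 0, nat_lit 3, nat_lit 3, nat_lit 1]))))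
 (.node (nat_lit 1163) (.node (nat_lit 1162) (.leaf ((nat_lit 256), [nat_lit 1, nat_lit 1, nat_lit 3, nat_lit 3, nat_lit 1, nat_lit 1])) (.leaf ((nat_lit 56), []))) (.node (nat_lit 1164) (.leaf ((nat_lit 68), [nat_lit 3, nat_lit 3, nat_lit 1, nat_lit 1])) (.leaf ((nat_lit 305), [nat_lit 0, nat_lit 3, nat_lit 1])))))))
 (.node (nat_lit 1181) (.node (nat_lit 1173) (.node (nat_lit 1169) (.node (nat_lit 1167) (.node (nat_lit 1166) (.leaf ((nat_lit 317), [nat_lit 1, nat_lit 3, nat_lit 3])) (.leaf ((nat_lit 166), [nat_lit 3, nat_lit 0, nat_lit 3, nat_lit 1]))) (.node (nat_lit 1168) (.leaf ((nat_lit 238), [])) (.leaf ((nat_lit 252), []))))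
 (.node (nat_lit 1171) (.node (nat_lit 1170) (.leaf ((nat_lit 56), [nat_lit 1, nat_lit 1, nat_lit 3, nat_lit 1, nat_lit 1])) (.leaf ((nat_lit 260), [nat_lit 1, nat_lit 1, nat_lit 2, nat_lit 1]))) (.node (nat_lit 1172) (.leaf ((nat_lit 58), [nat_lit 1, nat_lit 3, nat_lit 1, nat_lit 1])) (.leaf ((nat_lit 274), [nat_lit 3, nat_lit 0, nat_lit 3, nat_lit 1])))))
 (.node (nat_lit 1177) (.node (nat_lit 1175) (.node (nat_lit 1174) (.leaf ((nat_lit 61), [nat_lit 3])) (.leaf ((nat_lit 205), [nat_lit 3, nat_lit 3, nat_lit 0]))) (.node (nat_lit 1176) (.leaf ((nat_lit 113), [nat_lit 0, nat_lit 3, nat_lit 3, nat_lit 1, nat_lit 1])) (.leaf ((nat_lit 158), [nat_lit 0, nat_lit 2]))))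
 (.node (nat_lit 1179) (.node (nat_lit 1178) (.leaf ((nat_lit 274), [nat_lit 0, nat_lit 2, nat_lit 1])) (.leaf ((nat_lit 58), [nat_lit 0, nat_lit 3, nat_lit 0]))) (.node (nat_lit 1180) (.leaf ((nat_lit 75), [nat_lit 1, nat_lit 3, nat_lit 0, nat_lit 3, nat_lit 1])) (.leaf ((nat_lit 324), [nat_lit 1, nat_lit 3, nat_lit 3, nat_lit 1]))))))
 (.node (nat_lit 1189) (.node (nat_lit 1185) (.node (nat_lit 1183) (.node (nat_lit 1182) (.leaf ((nat_lit 121), [nat_lit 1, nat_lit 1])) (.leaf ((nat_lit 212), [nat_lit 3, nat_lit 0, nat_lit 3, nat_lit 1, nat_lit 1]))) (.node (nat_lit 1184) (.leaf ((nat_lit 62), [nat_lit 0])) (.leaf ((nat_lit 325), [nat_lit 3, nat_lit 0]))))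
 (.node (nat_lit 1187) (.node (nat_lit 1186) (.leaf ((nat_lit 152), [nat_lit 1, nat_lit 3, nat_lit 0, nat_lit 3, nat_lit 0])) (.leaf ((nat_lit 58), [nat_lit 1, nat_lit 2, nat_lit 1]))) (.node (nat_lit 1188) (.leaf ((nat_lit 326), [nat_lit 1, nat_lit 3, nat_lit 1])) (.leaf ((nat_lit 61), [nat_lit 3, nat_lit 3, nat_lit 0])))))
 (.node (nat_lit 1193) (.node (nat_lit 1191) (.node (nat_lit 1190) (.leaf ((nat_lit 316), [nat_lit 1, nat_lit 2, nat_lit 1])) (.leaf ((nat_lit 59), [nat_lit 1, nat_lit 2, nat_lit 1]))) (.node (nat_lit 1192) (.leaf ((nat_lit 325), [])) (.leaf ((nat_lit 243), [nat_lit 1, nat_lit 1, nat_lit 3, nat_lit 3, nat_lit 1, nat_lit 1]))))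
 (.node (nat_lit 1195) (.node (nat_lit 1194) (.leaf ((nat_lit 273), [nat_lit 1, nat_lit 1, nat_lit 3, nat_lit 1, nat_lit 1])) (.leaf ((nat_lit 145), [nat_lit 1, nat_lit 3, nat_lit 3, nat_lit 1]))) (.node (nat_lit 1196) (.leaf ((nat_lit 327), [nat_lit 2])) (.leaf ((nat_lit 117), [nat_lit 3, nat_lit 0]))))))))
 (.node (nat_lit 1228) (.node (nat_lit 1212) (.node (nat_lit 1204) (.node (nat_lit 1200) (.node (nat_lit 1198) (.leaf ((nat_lit 96), [nat_lit 3, nat_lit 1])) (.node (nat_lit 1199) (.leaf ((nat_lit 272), [nat_lit 1, nat_lit 1, nat_lit 3, nat_lit 3, nat_lit 1])) (.leaf ((nat_lit 59), [nat_lit 0]))))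
 (.node (nat_lit 1202) (.node (nat_lit 1201) (.leaf ((nat_lit 316), [nat_lit 1, nat_lit 2, nat_lit 1])) (.leaf ((nat_lit 61), [nat_lit 3, nat_lit 3, nat_lit 0]))) (.node (nat_lit 1203) (.leaf ((nat_lit 60), [nat_lit 1, nat_lit 1, nat_lit 3, nat_lit 1, nat_lit 1])) (.leaf ((nat_lit 150), [nat_lit 1, nat_lit 1, nat_lit 3, nat_lit 3, nat_lit 1, nat_lit 1])))))
 (.node (nat_lit 1208) (.node (nat_lit 1206) (.node (nat_lit 1205) (.leaf ((nat_lit 187), [nat_lit 1, nat_lit 1, nat_lit 3, nat_lit 3, nat_lit 1, nat_lit 1])) (.leaf ((nat_lit 248), [nat_lit 3, nat_lit 1, nat_lit 1]))) (.node (nat_lit 1207) (.leaf ((nat_lit 302), [nat_lit 1, nat_lit 3, nat_lit 0])) (.leaf ((nat_lit 328), [nat_lit 1, nat_lit 3, nat_lit 0, nat_lit 3]))))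
 (.node (nat_lit 1210) (.node (nat_lit 1209) (.leaf ((nat_lit 85), [nat_lit 0, nat_lit 3, nat_lit 3, nat_lit 1])) (.leaf ((nat_lit 172), [nat_lit 3, nat_lit 0, nat_lit 3, nat_lit 0]))) (.node (nat_lit 1211) (.leaf ((nat_lit 264), [nat_lit 0, nat_lit 3, nat_lit 0])) (.leaf ((nat_lit 61), [nat_lit 0, nat_lit 2, nat_lit 1, nat_lit 1]))))))
 (.node (nat_lit 1220) (.node (nat_lit 1216) (.node (nat_lit 1214) (.node (nat_lit 1213) (.leaf ((nat_lit 213), [nat_lit 1, nat_lit 1, nat_lit 3])) (.leaf ((nat_lit 325), [nat_lit 1, nat_lit 1, nat_lit 2]))) (.node (nat_lit 1215) (.leaf ((nat_lit 62), [nat_lit 0, nat_lit 3, nat_lit 3, nat_lit 0])) (.leaf ((nat_lit 90), [nat_lit 3, nat_lit 3, nat_lit 0]))))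
 (.node (nat_lit 1218) (.node (nat_lit 1217) (.leaf ((nat_lit 253), [nat_lit 0, nat_lit 2])) (.leaf ((nat_lit 287), [nat_lit 3, nat_lit 0, nat_lit 3, nat_lit 1, nat_lit 1]))) (.node (nat_lit 1219) (.leaf ((nat_lit 207), [nat_lit 1, nat_lit 3, nat_lit 3])) (.leaf ((nat_lit 205), [nat_lit 3, nat_lit 0, nat_lit 3])))))
 (.node (nat_lit 1224) (.node (nat_lit 1222) (.node (nat_lit 1221) (.leaf ((nat_lit 204), [nat_lit 0, nat_lit 2, nat_lit 1, nat_lit 1])) (.leaf ((nat_lit 161), [nat_lit 3, nat_lit 3]))) (.node (nat_lit 1223) (.leaf ((nat_lit 62), [nat_lit 1, nat_lit 1, nat_lit 2, nat_lit 0])) (.leaf ((nat_lit 180), [nat_lit 3, nat_lit 1]))))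
 (.node (nat_lit 1226) (.node (nat_lit 1225) (.leaf ((nat_lit 64), [nat_lit 1, nat_lit 1, nat_lit 3, nat_lit 3])) (.leaf ((nat_lit 63), [nat_lit 3, nat_lit 0, nat_lit 3, nat_lit 1, nat_lit 1]))) (.node (nat_lit 1227) (.leaf ((nat_lit 203), [nat_lit 1, nat_lit 1, nat_lit 3, nat_lit 1])) (.leaf ((nat_lit 326), [nat_lit 1, nat_lit 1, nat_lit 2, nat_lit 0])))))))
 (.node (nat_lit 1244) (.node (nat_lit 1236) (.node (nat_lit 1232) (.node (nat_lit 1230) (.node (nat_lit 1229) (.leaf ((nat_lit 260), [nat_lit 3, nat_lit 3, nat_lit 1, nat_lit 1])) (.leaf ((nat_lit 204), [nat_lit 1, nat_lit 1, nat_lit 3, nat_lit 3, nat_lit 1, nat_lit 1]))) (.node (nat_lit 1231) (.leaf ((nat_lit 65), [nat_lit 3])) (.leaf ((nat_lit 203), [nat_lit 3, nat_lit 0, nat_lit 3, nat_lit 1, nat_lit 1]))))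
 (.node (nat_lit 1234) (.node (nat_lit 1233) (.leaf ((nat_lit 63), [nat_lit 1, nat_lit 1, nat_lit 2, nat_lit 1])) (.leaf ((nat_lit 185), [nat_lit 0, nat_lit 2, nat_lit 1, nat_lit 1]))) (.node (nat_lit 1235) (.leaf ((nat_lit 195), [nat_lit 1, nat_lit 3, nat_lit 3])) (.leaf ((nat_lit 72), [nat_lit 1, nat_lit 1, nat_lit 3, nat_lit 3, nat_lit 0])))))
 (.node (nat_lit 1240) (.node (nat_lit 1238) (.node (nat_lit 1237) (.leaf ((nat_lit 320), [nat_lit 1, nat_lit 3, nat_lit 0, nat_lit 3, nat_lit 0])) (.leaf ((nat_lit 261), [nat_lit 1, nat_lit 1, nat_lit 2, nat_lit 1, nat_lit 1]))) (.node (nat_lit 1239) (.leaf ((nat_lit 112), [nat_lit 0, nat_lit 2, nat_lit 1])) (.leaf ((nat_lit 93), [nat_lit 1, nat_lit 1, nat_lit 2, nat_lit 1]))))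
 (.node (nat_lit 1242) (.node (nat_lit 1241) (.leaf ((nat_lit 63), [nat_lit 2, nat_lit 1, nat_lit 1])) (.leaf ((nat_lit 95), [nat_lit 0, nat_lit 2, nat_lit 1]))) (.node (nat_lit 1243) (.leaf ((nat_lit 203), [nat_lit 3, nat_lit 3, nat_lit 0])) (.leaf ((nat_lit 65), [nat_lit 0, nat_lit 2, nat_lit 1]))))))
 (.node (nat_lit 1252) (.node (nat_lit 1248) (.node (nat_lit 1246) (.node (nat_lit 1245) (.leaf ((nat_lit 64), [nat_lit 1, nat_lit 3, nat_lit 0])) (.leaf ((nat_lit 321), [nat_lit 0, nat_lit 3, nat_lit 3, nat_lit 1]))) (.node (nat_lit 1247) (.leaf ((nat_lit 320), [nat_lit 3, nat_lit 3])) (.leaf ((nat_lit 99), [nat_lit 1, nat_lit 3, nat_lit 3, nat_lit 1]))))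
 (.node (nat_lit 1250) (.node (nat_lit 1249) (.leaf ((nat_lit 167), [nat_lit 1, nat_lit 3, nat_lit 0, nat_lit 3, nat_lit 1])) (.leaf ((nat_lit 111), [nat_lit 1, nat_lit 1]))) (.node (nat_lit 1251) (.leaf ((nat_lit 147), [nat_lit 1, nat_lit 2])) (.leaf ((nat_lit 281), [nat_lit 1, nat_lit 1, nat_lit 2, nat_lit 1])))))
 (.node (nat_lit 1256) (.node (nat_lit 1254) (.node (nat_lit 1253) (.leaf ((nat_lit 287), [nat_lit 0, nat_lit 3, nat_lit 0])) (.leaf ((nat_lit 64), [nat_lit 1, nat_lit 3, nat_lit 0]))) (.node (nat_lit 1255) (.leaf ((nat_lit 272), [nat_lit 1, nat_lit 1, nat_lit 3, nat_lit 3, nat_lit 1, nat_lit 1])) (.leaf ((nat_lit 137), [nat_lit 3, nat_lit 1, nat_lit 1]))))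
 (.node (nat_lit 1258) (.node (nat_lit 1257) (.leaf ((nat_lit 136), [nat_lit 3])) (.leaf ((nat_lit 260), [nat_lit 0, nat_lit 3, nat_lit 3, nat_lit 1]))) (.node (nat_lit 1259) (.leaf ((nat_lit 326), [nat_lit 1, nat_lit 3, nat_lit 0, nat_lit 3, nat_lit 1, nat_lit 1])) (.leaf ((nat_lit 65), [nat_lit 0, nat_lit 3, nat_lit 3]))))))))))
noncomputable def n0Wd_5 : Tr (ℕ × List ℕ) := (.node (nat_lit 1386) (.node (nat_lit 1323) (.node (nat_lit 1291) (.node (nat_lit 1275) (.node (nat_lit 1267) (.node (nat_lit 1263) (.node (nat_lit 1261) (.leaf ((nat_lit 323), [nat_lit 1, nat_lit 3, nat_lit 0, nat_lit 3, nat_lit 1, nat_lit 1])) (.node (nat_lit 1262) (.leaf ((nat_lit 66), [nat_lit 0, nat_lit 2, nat_lit 0])) (.leaf ((nat_lit 270), [nat_lit 1, nat_lit 3, nat_lit 3, nat_lit 1, nat_lit 1]))))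
 (.node (nat_lit 1265) (.node (nat_lit 1264) (.leaf ((nat_lit 244), [nat_lit 1, nat_lit 1, nat_lit 3, nat_lit 3, nat_lit 1, nat_lit 1])) (.leaf ((nat_lit 329), []))) (.node (nat_lit 1266) (.leaf ((nat_lit 304), [nat_lit 1, nat_lit 3, nat_lit 3, nat_lit 0])) (.leaf ((nat_lit 155), [nat_lit 0, nat_lit 3, nat_lit 1, nat_lit 1])))))
 (.node (nat_lit 1271) (.node (nat_lit 1269) (.node (nat_lit 1268) (.leaf ((nat_lit 270), [nat_lit 1, nat_lit 1, nat_lit 2, nat_lit 1, nat_lit 1])) (.leaf ((nat_lit 66), [nat_lit 0]))) (.node (nat_lit 1270) (.leaf ((nat_lit 216), [nat_lit 1, nat_lit 3, nat_lit 0, nat_lit 3, nat_lit 1, nat_lit 1])) (.leaf ((nat_lit 116), [nat_lit 0, nat_lit 2, nat_lit 1, nat_lit 1]))))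
 (.node (nat_lit 1273) (.node (nat_lit 1272) (.leaf ((nat_lit 139), [nat_lit 1, nat_lit 3, nat_lit 0])) (.leaf ((nat_lit 197), [nat_lit 3, nat_lit 0, nat_lit 3]))) (.node (nat_lit 1274) (.leaf ((nat_lit 67), [nat_lit 1, nat_lit 1, nat_lit 2, nat_lit 0])) (.leaf ((nat_lit 257), [nat_lit 1, nat_lit 1, nat_lit 3, nat_lit 3, nat_lit 1]))))))
 (.node (nat_lit 1283) (.node (nat_lit 1279) (.node (nat_lit 1277) (.node (nat_lit 1276) (.leaf ((nat_lit 214), [nat_lit 0, nat_lit 3, nat_lit 3, nat_lit 1])) (.leaf ((nat_lit 241), [nat_lit 2]))) (.node (nat_lit 1278) (.leaf ((nat_lit 260), [nat_lit 1, nat_lit 3, nat_lit 0, nat_lit 3, nat_lit 1])) (.leaf ((nat_lit 202), [nat_lit 2, nat_lit 1, nat_lit 1]))))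
 (.node (nat_lit 1281) (.node (nat_lit 1280) (.leaf ((nat_lit 257), [nat_lit 0, nat_lit 3, nat_lit 3, nat_lit 0])) (.leaf ((nat_lit 67), [nat_lit 1, nat_lit 3, nat_lit 0, nat_lit 3, nat_lit 0]))) (.node (nat_lit 1282) (.leaf ((nat_lit 149), [])) (.leaf ((nat_lit 114), [nat_lit 0, nat_lit 2, nat_lit 0])))))
 (.node (nat_lit 1287) (.node (nat_lit 1285) (.node (nat_lit 1284) (.leaf ((nat_lit 102), [nat_lit 3, nat_lit 1])) (.leaf ((nat_lit 191), [nat_lit 3, nat_lit 3, nat_lit 1, nat_lit 1]))) (.node (nat_lit 1286) (.leaf ((nat_lit 258), [nat_lit 3])) (.leaf ((nat_lit 120), [nat_lit 1, nat_lit 1, nat_lit 2, nat_lit 0]))))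
 (.node (nat_lit 1289) (.node (nat_lit 1288) (.leaf ((nat_lit 212), [nat_lit 0, nat_lit 3, nat_lit 3, nat_lit 1])) (.leaf ((nat_lit 180), [nat_lit 3, nat_lit 0]))) (.node (nat_lit 1290) (.leaf ((nat_lit 67), [nat_lit 1])) (.leaf ((nat_lit 70), [])))))))
 (.node (nat_lit 1307) (.node (nat_lit 1299) (.node (nat_lit 1295) (.node (nat_lit 1293) (.node (nat_lit 1292) (.leaf ((nat_lit 268), [nat_lit 3, nat_lit 3, nat_lit 0])) (.leaf ((nat_lit 68), [nat_lit 1, nat_lit 2, nat_lit 1]))) (.node (nat_lit 1294) (.leaf ((nat_lit 261), [nat_lit 1, nat_lit 3, nat_lit 0, nat_lit 3, nat_lit 0])) (.leaf ((nat_lit 247), [nat_lit 2]))))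
 (.node (nat_lit 1297) (.node (nat_lit 1296) (.leaf ((nat_lit 69), [nat_lit 1, nat_lit 1])) (.leaf ((nat_lit 263), [nat_lit 1, nat_lit 3, nat_lit 3, nat_lit 0]))) (.node (nat_lit 1298) (.leaf ((nat_lit 267), [nat_lit 3, nat_lit 0, nat_lit 3, nat_lit 0])) (.leaf ((nat_lit 98), [nat_lit 2, nat_lit 1])))))
 (.node (nat_lit 1303) (.node (nat_lit 1301) (.node (nat_lit 1300) (.leaf ((nat_lit 211), [nat_lit 3, nat_lit 0, nat_lit 3, nat_lit 0])) (.leaf ((nat_lit 68), [nat_lit 1, nat_lit 2]))) (.node (nat_lit 1302) (.leaf ((nat_lit 330), [nat_lit 1, nat_lit 2, nat_lit 1, nat_lit 1])) (.leaf ((nat_lit 114), [nat_lit 1, nat_lit 2, nat_lit 1]))))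
 (.node (nat_lit 1305) (.node (nat_lit 1304) (.leaf ((nat_lit 192), [nat_lit 0, nat_lit 3, nat_lit 3, nat_lit 0])) (.leaf ((nat_lit 86), [nat_lit 1, nat_lit 2]))) (.node (nat_lit 1306) (.leaf ((nat_lit 70), [nat_lit 1, nat_lit 3, nat_lit 0, nat_lit 3, nat_lit 1, nat_lit 1])) (.leaf ((nat_lit 273), [nat_lit 1, nat_lit 3, nat_lit 1]))))))
 (.node (nat_lit 1315) (.node (nat_lit 1311) (.node (nat_lit 1309) (.node (nat_lit 1308) (.leaf ((nat_lit 178), [nat_lit 0, nat_lit 3])) (.leaf ((nat_lit 180), [nat_lit 3, nat_lit 3, nat_lit 0]))) (.node (nat_lit 1310) (.leaf ((nat_lit 271), [nat_lit 1, nat_lit 3, nat_lit 1])) (.leaf ((nat_lit 178), [nat_lit 0, nat_lit 3, nat_lit 3, nat_lit 1, nat_lit 1]))))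
 (.node (nat_lit 1313) (.node (nat_lit 1312) (.leaf ((nat_lit 273), [])) (.leaf ((nat_lit 70), [nat_lit 1, nat_lit 3, nat_lit 3]))) (.node (nat_lit 1314) (.leaf ((nat_lit 313), [nat_lit 1, nat_lit 1, nat_lit 3, nat_lit 1, nat_lit 1])) (.leaf ((nat_lit 151), [nat_lit 0, nat_lit 3, nat_lit 1, nat_lit 1])))))
 (.node (nat_lit 1319) (.node (nat_lit 1317) (.node (nat_lit 1316) (.leaf ((nat_lit 143), [nat_lit 1, nat_lit 1, nat_lit 2, nat_lit 1, nat_lit 1])) (.leaf ((nat_lit 149), [nat_lit 1, nat_lit 3]))) (.node (nat_lit 1318) (.leaf ((nat_lit 101), [nat_lit 0, nat_lit 2, nat_lit 1, nat_lit 1])) (.leaf ((nat_lit 118), [nat_lit 1, nat_lit 3, nat_lit 0, nat_lit 3, nat_lit 1, nat_lit 1]))))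
 (.node (nat_lit 1321) (.node (nat_lit 1320) (.leaf ((nat_lit 70), [nat_lit 0, nat_lit 2])) (.leaf ((nat_lit 71), [nat_lit 3, nat_lit 1]))) (.node (nat_lit 1322) (.leaf ((nat_lit 130), [nat_lit 1, nat_lit 2, nat_lit 1])) (.leaf ((nat_lit 91), [nat_lit 2, nat_lit 1]))))))))
 (.node (nat_lit 1354) (.node (nat_lit 1338) (.node (nat_lit 1330) (.node (nat_lit 1326) (.node (nat_lit 1324) (.leaf ((nat_lit 287), [nat_lit 2, nat_lit 0])) (.node (nat_lit 1325) (.leaf ((nat_lit 281), [nat_lit 1, nat_lit 3, nat_lit 0])) (.leaf ((nat_lit 324), [nat_lit 3, nat_lit 0, nat_lit 3, nat_lit 1]))))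
 (.node (nat_lit 1328) (.node (nat_lit 1327) (.leaf ((nat_lit 329), [nat_lit 1, nat_lit 1, nat_lit 3])) (.leaf ((nat_lit 278), [nat_lit 1, nat_lit 1, nat_lit 2]))) (.node (nat_lit 1329) (.leaf ((nat_lit 300), [nat_lit 3, nat_lit 3, nat_lit 0])) (.leaf ((nat_lit 315), [nat_lit 0, nat_lit 2])))))
 (.node (nat_lit 1334) (.node (nat_lit 1332) (.node (nat_lit 1331) (.leaf ((nat_lit 331), [nat_lit 3, nat_lit 3, nat_lit 0])) (.leaf ((nat_lit 71), [nat_lit 3, nat_lit 3, nat_lit 1]))) (.node (nat_lit 1333) (.leaf ((nat_lit 73), [nat_lit 1, nat_lit 1, nat_lit 3, nat_lit 3, nat_lit 1])) (.leaf ((nat_lit 72), [nat_lit 1, nat_lit 1, nat_lit 2, nat_lit 0]))))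
 (.node (nat_lit 1336) (.node (nat_lit 1335) (.leaf ((nat_lit 307), [nat_lit 1, nat_lit 2, nat_lit 1])) (.leaf ((nat_lit 123), [nat_lit 1, nat_lit 1, nat_lit 3]))) (.node (nat_lit 1337) (.leaf ((nat_lit 230), [nat_lit 0, nat_lit 3, nat_lit 0])) (.leaf ((nat_lit 106), [nat_lit 3, nat_lit 0, nat_lit 3, nat_lit 1, nat_lit 1]))))))
 (.node (nat_lit 1346) (.node (nat_lit 1342) (.node (nat_lit 1340) (.node (nat_lit 1339) (.leaf ((nat_lit 267), [nat_lit 1, nat_lit 1, nat_lit 3, nat_lit 1])) (.leaf ((nat_lit 263), [nat_lit 3, nat_lit 0, nat_lit 3, nat_lit 0]))) (.node (nat_lit 1341) (.leaf ((nat_lit 266), [nat_lit 3])) (.leaf ((nat_lit 72), [nat_lit 1, nat_lit 1, nat_lit 3, nat_lit 0]))))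
 (.node (nat_lit 1344) (.node (nat_lit 1343) (.leaf ((nat_lit 262), [nat_lit 1, nat_lit 3, nat_lit 3])) (.leaf ((nat_lit 261), [nat_lit 3, nat_lit 3, nat_lit 0]))) (.node (nat_lit 1345) (.leaf ((nat_lit 307), [nat_lit 1, nat_lit 3, nat_lit 3])) (.leaf ((nat_lit 74), [nat_lit 0, nat_lit 3])))))
 (.node (nat_lit 1350) (.node (nat_lit 1348) (.node (nat_lit 1347) (.leaf ((nat_lit 73), [nat_lit 1, nat_lit 1, nat_lit 3])) (.leaf ((nat_lit 327), [nat_lit 1, nat_lit 2]))) (.node (nat_lit 1349) (.leaf ((nat_lit 148), [nat_lit 0, nat_lit 3, nat_lit 0])) (.leaf ((nat_lit 293), [nat_lit 3, nat_lit 0, nat_lit 3]))))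
 (.node (nat_lit 1352) (.node (nat_lit 1351) (.leaf ((nat_lit 270), [nat_lit 3])) (.leaf ((nat_lit 155), [nat_lit 1, nat_lit 3, nat_lit 1, nat_lit 1]))) (.node (nat_lit 1353) (.leaf ((nat_lit 323), [nat_lit 1, nat_lit 3, nat_lit 3, nat_lit 0])) (.leaf ((nat_lit 73), [nat_lit 1, nat_lit 3, nat_lit 0, nat_lit 3, nat_lit 1])))))))
 (.node (nat_lit 1370) (.node (nat_lit 1362) (.node (nat_lit 1358) (.node (nat_lit 1356) (.node (nat_lit 1355) (.leaf ((nat_lit 318), [nat_lit 1, nat_lit 1, nat_lit 3, nat_lit 3])) (.leaf ((nat_lit 234), [nat_lit 1, nat_lit 1, nat_lit 2]))) (.node (nat_lit 1357) (.leaf ((nat_lit 187), [nat_lit 3, nat_lit 0, nat_lit 3, nat_lit 1, nat_lit 1])) (.leaf ((nat_lit 313), [nat_lit 3, nat_lit 0, nat_lit 3, nat_lit 1, nat_lit 1]))))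
 (.node (nat_lit 1360) (.node (nat_lit 1359) (.leaf ((nat_lit 186), [nat_lit 1, nat_lit 1, nat_lit 2, nat_lit 0])) (.leaf ((nat_lit 237), [nat_lit 1, nat_lit 1, nat_lit 3, nat_lit 3, nat_lit 1, nat_lit 1]))) (.node (nat_lit 1361) (.leaf ((nat_lit 84), [nat_lit 1, nat_lit 1, nat_lit 3, nat_lit 3, nat_lit 1, nat_lit 1])) (.leaf ((nat_lit 73), [nat_lit 1, nat_lit 1, nat_lit 3, nat_lit 3])))))
 (.node (nat_lit 1366) (.node (nat_lit 1364) (.node (nat_lit 1363) (.leaf ((nat_lit 324), [nat_lit 2])) (.leaf ((nat_lit 96), [nat_lit 0, nat_lit 3, nat_lit 3, nat_lit 0]))) (.node (nat_lit 1365) (.leaf ((nat_lit 322), [nat_lit 1, nat_lit 3, nat_lit 3, nat_lit 1, nat_lit 1])) (.leaf ((nat_lit 74), [nat_lit 1, nat_lit 3, nat_lit 1]))))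
 (.node (nat_lit 1368) (.node (nat_lit 1367) (.leaf ((nat_lit 99), [nat_lit 1, nat_lit 1, nat_lit 3, nat_lit 3, nat_lit 1, nat_lit 1])) (.leaf ((nat_lit 325), [nat_lit 1, nat_lit 1, nat_lit 3, nat_lit 1, nat_lit 1]))) (.node (nat_lit 1369) (.leaf ((nat_lit 321), [nat_lit 3, nat_lit 3])) (.leaf ((nat_lit 288), [nat_lit 1, nat_lit 1]))))))
 (.node (nat_lit 1378) (.node (nat_lit 1374) (.node (nat_lit 1372) (.node (nat_lit 1371) (.leaf ((nat_lit 287), [nat_lit 3, nat_lit 1])) (.leaf ((nat_lit 324), [nat_lit 3, nat_lit 0, nat_lit 3]))) (.node (nat_lit 1373) (.leaf ((nat_lit 75), [nat_lit 0, nat_lit 3, nat_lit 1, nat_lit 1])) (.leaf ((nat_lit 249), [nat_lit 1, nat_lit 3, nat_lit 3, nat_lit 0]))))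
 (.node (nat_lit 1376) (.node (nat_lit 1375) (.leaf ((nat_lit 173), [nat_lit 1, nat_lit 1, nat_lit 3, nat_lit 3, nat_lit 1, nat_lit 1])) (.leaf ((nat_lit 78), [nat_lit 0, nat_lit 3, nat_lit 3, nat_lit 0]))) (.node (nat_lit 1377) (.leaf ((nat_lit 77), [nat_lit 1, nat_lit 1, nat_lit 2])) (.leaf ((nat_lit 258), [nat_lit 0, nat_lit 3, nat_lit 3, nat_lit 1, nat_lit 1])))))
 (.node (nat_lit 1382) (.node (nat_lit 1380) (.node (nat_lit 1379) (.leaf ((nat_lit 250), [nat_lit 1, nat_lit 1, nat_lit 2, nat_lit 1])) (.leaf ((nat_lit 124), [nat_lit 1, nat_lit 3, nat_lit 0, nat_lit 3, nat_lit 1, nat_lit 1]))) (.node (nat_lit 1381) (.leaf ((nat_lit 126), [nat_lit 3, nat_lit 0])) (.leaf ((nat_lit 104), [nat_lit 0]))))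
 (.node (nat_lit 1384) (.node (nat_lit 1383) (.leaf ((nat_lit 284), [nat_lit 1, nat_lit 1, nat_lit 2, nat_lit 1, nat_lit 1])) (.leaf ((nat_lit 157), [nat_lit 1, nat_lit 3, nat_lit 3]))) (.node (nat_lit 1385) (.leaf ((nat_lit 222), [nat_lit 1, nat_lit 2, nat_lit 1])) (.leaf ((nat_lit 79), [nat_lit 0, nat_lit 3, nat_lit 3, nat_lit 1, nat_lit 1])))))))))
 (.node (nat_lit 1449) (.node (nat_lit 1417) (.node (nat_lit 1401) (.node (nat_lit 1393) (.node (nat_lit 1389) (.node (nat_lit 1387) (.leaf ((nat_lit 290), [nat_lit 1, nat_lit 3])) (.node (nat_lit 1388) (.leaf ((nat_lit 120), [nat_lit 1, nat_lit 1, nat_lit 3, nat_lit 3, nat_lit 1, nat_lit 1])) (.leaf ((nat_lit 258), [nat_lit 1, nat_lit 3, nat_lit 0]))))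
 (.node (nat_lit 1391) (.node (nat_lit 1390) (.leaf ((nat_lit 143), [nat_lit 0, nat_lit 3, nat_lit 1, nat_lit 1])) (.leaf ((nat_lit 249), [nat_lit 1, nat_lit 3, nat_lit 0, nat_lit 3, nat_lit 1]))) (.node (nat_lit 1392) (.leaf ((nat_lit 80), [nat_lit 0])) (.leaf ((nat_lit 84), [nat_lit 1, nat_lit 3, nat_lit 0, nat_lit 3, nat_lit 1])))))
 (.node (nat_lit 1397) (.node (nat_lit 1395) (.node (nat_lit 1394) (.leaf ((nat_lit 82), [nat_lit 1, nat_lit 3, nat_lit 0, nat_lit 3, nat_lit 1])) (.leaf ((nat_lit 81), [nat_lit 1, nat_lit 3, nat_lit 1, nat_lit 1]))) (.node (nat_lit 1396) (.leaf ((nat_lit 108), [nat_lit 1, nat_lit 3])) (.leaf ((nat_lit 166), [nat_lit 0, nat_lit 3, nat_lit 1, nat_lit 1]))))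
 (.node (nat_lit 1399) (.node (nat_lit 1398) (.leaf ((nat_lit 299), [nat_lit 3, nat_lit 0, nat_lit 3, nat_lit 0])) (.leaf ((nat_lit 295), [nat_lit 1, nat_lit 2, nat_lit 0]))) (.node (nat_lit 1400) (.leaf ((nat_lit 112), [nat_lit 3, nat_lit 3, nat_lit 0])) (.leaf ((nat_lit 261), [nat_lit 0, nat_lit 3, nat_lit 0]))))))
 (.node (nat_lit 1409) (.node (nat_lit 1405) (.node (nat_lit 1403) (.node (nat_lit 1402) (.leaf ((nat_lit 82), [nat_lit 1, nat_lit 1, nat_lit 3, nat_lit 3, nat_lit 1, nat_lit 1])) (.leaf ((nat_lit 255), [nat_lit 1, nat_lit 1, nat_lit 3, nat_lit 3, nat_lit 1, nat_lit 1]))) (.node (nat_lit 1404) (.leaf ((nat_lit 321), [nat_lit 1, nat_lit 1])) (.leaf ((nat_lit 185), [nat_lit 0, nat_lit 2, nat_lit 1, nat_lit 1]))))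
 (.node (nat_lit 1407) (.node (nat_lit 1406) (.leaf ((nat_lit 304), [nat_lit 1, nat_lit 3, nat_lit 3])) (.leaf ((nat_lit 183), [nat_lit 0, nat_lit 2, nat_lit 1, nat_lit 1]))) (.node (nat_lit 1408) (.leaf ((nat_lit 255), [nat_lit 1, nat_lit 1, nat_lit 3, nat_lit 3, nat_lit 1, nat_lit 1])) (.leaf ((nat_lit 82), [nat_lit 1, nat_lit 1, nat_lit 3, nat_lit 3, nat_lit 1, nat_lit 1])))))
 (.node (nat_lit 1413) (.node (nat_lit 1411) (.node (nat_lit 1410) (.leaf ((nat_lit 225), [nat_lit 3, nat_lit 1, nat_lit 1])) (.leaf ((nat_lit 262), [nat_lit 1, nat_lit 1, nat_lit 3, nat_lit 3, nat_lit 1, nat_lit 1]))) (.node (nat_lit 1412) (.leaf ((nat_lit 176), [nat_lit 1, nat_lit 1, nat_lit 2])) (.leaf ((nat_lit 113), [nat_lit 1, nat_lit 1, nat_lit 3, nat_lit 3]))))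
 (.node (nat_lit 1415) (.node (nat_lit 1414) (.leaf ((nat_lit 167), [nat_lit 0, nat_lit 3, nat_lit 3, nat_lit 0])) (.leaf ((nat_lit 83), [nat_lit 2, nat_lit 1, nat_lit 1]))) (.node (nat_lit 1416) (.leaf ((nat_lit 265), [nat_lit 1, nat_lit 3, nat_lit 3, nat_lit 1, nat_lit 1])) (.leaf ((nat_lit 271), [nat_lit 1, nat_lit 3, nat_lit 1])))))))
 (.node (nat_lit 1433) (.node (nat_lit 1425) (.node (nat_lit 1421) (.node (nat_lit 1419) (.node (nat_lit 1418) (.leaf ((nat_lit 180), [nat_lit 3, nat_lit 3, nat_lit 0])) (.leaf ((nat_lit 179), [nat_lit 1, nat_lit 1, nat_lit 2, nat_lit 0]))) (.node (nat_lit 1420) (.leaf ((nat_lit 84), [nat_lit 1, nat_lit 1, nat_lit 3, nat_lit 3, nat_lit 1, nat_lit 1])) (.leaf ((nat_lit 237), [nat_lit 1, nat_lit 1, nat_lit 3, nat_lit 3, nat_lit 1, nat_lit 1]))))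
 (.node (nat_lit 1423) (.node (nat_lit 1422) (.leaf ((nat_lit 264), [nat_lit 3])) (.leaf ((nat_lit 85), [nat_lit 2]))) (.node (nat_lit 1424) (.leaf ((nat_lit 332), [nat_lit 0, nat_lit 3, nat_lit 3, nat_lit 0])) (.leaf ((nat_lit 302), [nat_lit 3, nat_lit 0])))))
 (.node (nat_lit 1429) (.node (nat_lit 1427) (.node (nat_lit 1426) (.leaf ((nat_lit 226), [nat_lit 1, nat_lit 1, nat_lit 3, nat_lit 3, nat_lit 1, nat_lit 1])) (.leaf ((nat_lit 236), [nat_lit 1, nat_lit 1, nat_lit 3, nat_lit 3, nat_lit 1, nat_lit 1]))) (.node (nat_lit 1428) (.leaf ((nat_lit 101), [nat_lit 0])) (.leaf ((nat_lit 332), [nat_lit 0, nat_lit 3, nat_lit 3, nat_lit 0]))))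
 (.node (nat_lit 1431) (.node (nat_lit 1430) (.leaf ((nat_lit 85), [nat_lit 2])) (.leaf ((nat_lit 328), [nat_lit 1, nat_lit 2, nat_lit 0]))) (.node (nat_lit 1432) (.leaf ((nat_lit 194), [])) (.leaf ((nat_lit 268), [nat_lit 1, nat_lit 1, nat_lit 3, nat_lit 3, nat_lit 1, nat_lit 1]))))))
 (.node (nat_lit 1441) (.node (nat_lit 1437) (.node (nat_lit 1435) (.node (nat_lit 1434) (.leaf ((nat_lit 329), [nat_lit 1, nat_lit 1, nat_lit 2, nat_lit 1, nat_lit 1])) (.leaf ((nat_lit 172), [nat_lit 0, nat_lit 2]))) (.node (nat_lit 1436) (.leaf ((nat_lit 330), [nat_lit 0, nat_lit 2, nat_lit 1])) (.leaf ((nat_lit 168), [nat_lit 0, nat_lit 3, nat_lit 3, nat_lit 1, nat_lit 1]))))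
 (.node (nat_lit 1439) (.node (nat_lit 1438) (.leaf ((nat_lit 85), [nat_lit 1, nat_lit 3, nat_lit 3, nat_lit 1])) (.leaf ((nat_lit 137), [nat_lit 1, nat_lit 3, nat_lit 0, nat_lit 3, nat_lit 1]))) (.node (nat_lit 1440) (.leaf ((nat_lit 154), [nat_lit 3, nat_lit 1, nat_lit 1])) (.leaf ((nat_lit 248), [nat_lit 3, nat_lit 3])))))
 (.node (nat_lit 1445) (.node (nat_lit 1443) (.node (nat_lit 1442) (.leaf ((nat_lit 247), [nat_lit 1, nat_lit 1])) (.leaf ((nat_lit 246), [nat_lit 1, nat_lit 1, nat_lit 2, nat_lit 1, nat_lit 1]))) (.node (nat_lit 1444) (.leaf ((nat_lit 137), [nat_lit 0, nat_lit 3, nat_lit 1, nat_lit 1])) (.leaf ((nat_lit 85), [nat_lit 3, nat_lit 0, nat_lit 3]))))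
 (.node (nat_lit 1447) (.node (nat_lit 1446) (.leaf ((nat_lit 164), [nat_lit 3, nat_lit 0, nat_lit 3, nat_lit 0])) (.leaf ((nat_lit 122), []))) (.node (nat_lit 1448) (.leaf ((nat_lit 86), [nat_lit 3, nat_lit 1])) (.leaf ((nat_lit 192), [nat_lit 1, nat_lit 2]))))))))
 (.node (nat_lit 1480) (.node (nat_lit 1464) (.node (nat_lit 1456) (.node (nat_lit 1452) (.node (nat_lit 1450) (.leaf ((nat_lit 180), [nat_lit 1, nat_lit 2, nat_lit 1])) (.node (nat_lit 1451) (.leaf ((nat_lit 212), [nat_lit 3])) (.leaf ((nat_lit 241), [nat_lit 0, nat_lit 3, nat_lit 3, nat_lit 1]))))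
 (.node (nat_lit 1454) (.node (nat_lit 1453) (.leaf ((nat_lit 136), [nat_lit 3, nat_lit 3, nat_lit 0])) (.leaf ((nat_lit 135), [nat_lit 0]))) (.node (nat_lit 1455) (.leaf ((nat_lit 272), [nat_lit 3, nat_lit 1])) (.leaf ((nat_lit 95), [nat_lit 0, nat_lit 3, nat_lit 3, nat_lit 1, nat_lit 1])))))
 (.node (nat_lit 1460) (.node (nat_lit 1458) (.node (nat_lit 1457) (.leaf ((nat_lit 94), [nat_lit 2, nat_lit 1, nat_lit 1])) (.leaf ((nat_lit 86), [nat_lit 1, nat_lit 1, nat_lit 3]))) (.node (nat_lit 1459) (.leaf ((nat_lit 87), [nat_lit 3])) (.leaf ((nat_lit 284), [nat_lit 0, nat_lit 3, nat_lit 1]))))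
 (.node (nat_lit 1462) (.node (nat_lit 1461) (.leaf ((nat_lit 104), [nat_lit 3, nat_lit 1, nat_lit 1])) (.leaf ((nat_lit 275), [nat_lit 1, nat_lit 1, nat_lit 3, nat_lit 3, nat_lit 1, nat_lit 1]))) (.node (nat_lit 1463) (.leaf ((nat_lit 198), [nat_lit 1, nat_lit 1, nat_lit 3, nat_lit 3, nat_lit 1, nat_lit 1])) (.leaf ((nat_lit 292), [nat_lit 3, nat_lit 0, nat_lit 3, nat_lit 1, nat_lit 1]))))))
 (.node (nat_lit 1472) (.node (nat_lit 1468) (.node (nat_lit 1466) (.node (nat_lit 1465) (.leaf ((nat_lit 284), [nat_lit 1, nat_lit 2, nat_lit 0])) (.leaf ((nat_lit 87), [nat_lit 1, nat_lit 3, nat_lit 0, nat_lit 3, nat_lit 0]))) (.node (nat_lit 1467) (.leaf ((nat_lit 126), [nat_lit 1, nat_lit 1])) (.leaf ((nat_lit 210), [nat_lit 1, nat_lit 1, nat_lit 3, nat_lit 3, nat_lit 1, nat_lit 1]))))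
 (.node (nat_lit 1470) (.node (nat_lit 1469) (.leaf ((nat_lit 313), [nat_lit 1, nat_lit 1, nat_lit 3, nat_lit 3, nat_lit 1, nat_lit 1])) (.leaf ((nat_lit 316), [nat_lit 1, nat_lit 3, nat_lit 3, nat_lit 1, nat_lit 1]))) (.node (nat_lit 1471) (.leaf ((nat_lit 318), [nat_lit 2, nat_lit 0])) (.leaf ((nat_lit 277), [nat_lit 0])))))
 (.node (nat_lit 1476) (.node (nat_lit 1474) (.node (nat_lit 1473) (.leaf ((nat_lit 333), [nat_lit 0, nat_lit 2, nat_lit 0])) (.leaf ((nat_lit 279), [nat_lit 1, nat_lit 3, nat_lit 0, nat_lit 3, nat_lit 0]))) (.node (nat_lit 1475) (.leaf ((nat_lit 286), [nat_lit 0, nat_lit 2])) (.leaf ((nat_lit 87), [nat_lit 0, nat_lit 2, nat_lit 1, nat_lit 1]))))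
 (.node (nat_lit 1478) (.node (nat_lit 1477) (.leaf ((nat_lit 89), [nat_lit 1, nat_lit 1, nat_lit 3, nat_lit 1])) (.leaf ((nat_lit 88), [nat_lit 3, nat_lit 0, nat_lit 3, nat_lit 1, nat_lit 1]))) (.node (nat_lit 1479) (.leaf ((nat_lit 240), [nat_lit 1, nat_lit 1, nat_lit 3, nat_lit 1, nat_lit 1])) (.leaf ((nat_lit 290), [nat_lit 2])))))))
 (.node (nat_lit 1496) (.node (nat_lit 1488) (.node (nat_lit 1484) (.node (nat_lit 1482) (.node (nat_lit 1481) (.leaf ((nat_lit 105), [nat_lit 2, nat_lit 0])) (.leaf ((nat_lit 254), [nat_lit 1, nat_lit 1, nat_lit 3, nat_lit 1, nat_lit 1]))) (.node (nat_lit 1483) (.leaf ((nat_lit 90), [nat_lit 1, nat_lit 2, nat_lit 1])) (.leaf ((nat_lit 240), [nat_lit 1, nat_lit 1]))))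
 (.node (nat_lit 1486) (.node (nat_lit 1485) (.leaf ((nat_lit 88), [nat_lit 3, nat_lit 0])) (.leaf ((nat_lit 100), [nat_lit 1, nat_lit 1, nat_lit 2, nat_lit 0]))) (.node (nat_lit 1487) (.leaf ((nat_lit 215), [nat_lit 3])) (.leaf ((nat_lit 314), [nat_lit 1, nat_lit 1, nat_lit 3, nat_lit 3, nat_lit 1, nat_lit 1])))))
 (.node (nat_lit 1492) (.node (nat_lit 1490) (.node (nat_lit 1489) (.leaf ((nat_lit 240), [nat_lit 3, nat_lit 3])) (.leaf ((nat_lit 90), [nat_lit 3, nat_lit 0, nat_lit 3, nat_lit 1, nat_lit 1]))) (.node (nat_lit 1491) (.leaf ((nat_lit 89), [nat_lit 0, nat_lit 3, nat_lit 0])) (.leaf ((nat_lit 316), [nat_lit 1, nat_lit 3]))))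
 (.node (nat_lit 1494) (.node (nat_lit 1493) (.leaf ((nat_lit 308), [nat_lit 0, nat_lit 3, nat_lit 3, nat_lit 1])) (.leaf ((nat_lit 200), [nat_lit 1, nat_lit 1, nat_lit 2]))) (.node (nat_lit 1495) (.leaf ((nat_lit 176), [nat_lit 2, nat_lit 0])) (.leaf ((nat_lit 262), [nat_lit 0]))))))
 (.node (nat_lit 1504) (.node (nat_lit 1500) (.node (nat_lit 1498) (.node (nat_lit 1497) (.leaf ((nat_lit 175), [nat_lit 3, nat_lit 1, nat_lit 1])) (.leaf ((nat_lit 89), [nat_lit 0, nat_lit 2]))) (.node (nat_lit 1499) (.leaf ((nat_lit 231), [nat_lit 1, nat_lit 3, nat_lit 0, nat_lit 3, nat_lit 0])) (.leaf ((nat_lit 228), [nat_lit 1, nat_lit 3, nat_lit 3, nat_lit 0]))))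
 (.node (nat_lit 1502) (.node (nat_lit 1501) (.leaf ((nat_lit 278), [nat_lit 3, nat_lit 3])) (.leaf ((nat_lit 329), [nat_lit 1, nat_lit 3, nat_lit 3, nat_lit 1]))) (.node (nat_lit 1503) (.leaf ((nat_lit 303), [nat_lit 2])) (.leaf ((nat_lit 332), [nat_lit 1, nat_lit 2, nat_lit 1])))))
 (.node (nat_lit 1508) (.node (nat_lit 1506) (.node (nat_lit 1505) (.leaf ((nat_lit 229), [nat_lit 0, nat_lit 3, nat_lit 1, nat_lit 1])) (.leaf ((nat_lit 89), [nat_lit 0, nat_lit 2, nat_lit 1]))) (.node (nat_lit 1507) (.leaf ((nat_lit 277), [nat_lit 1, nat_lit 1, nat_lit 3, nat_lit 3, nat_lit 1, nat_lit 1])) (.leaf ((nat_lit 318), [nat_lit 1, nat_lit 1, nat_lit 2]))))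
 (.node (nat_lit 1510) (.node (nat_lit 1509) (.leaf ((nat_lit 326), [])) (.leaf ((nat_lit 266), [nat_lit 2, nat_lit 1, nat_lit 1]))) (.node (nat_lit 1511) (.leaf ((nat_lit 134), [nat_lit 0, nat_lit 3, nat_lit 3, nat_lit 0])) (.leaf ((nat_lit 90), [nat_lit 3, nat_lit 0, nat_lit 3, nat_lit 1]))))))))))
noncomputable def n0Wd_6 : Tr (ℕ × List ℕ) := (.node (nat_lit 1638) (.node (nat_lit 1575) (.node (nat_lit 1543) (.node (nat_lit 1527) (.node (nat_lit 1519) (.node (nat_lit 1515) (.node (nat_lit 1513) (.leaf ((nat_lit 97), [nat_lit 3, nat_lit 1])) (.node (nat_lit 1514) (.leaf ((nat_lit 93), [nat_lit 1, nat_lit 3, nat_lit 0, nat_lit 3, nat_lit 0])) (.leaf ((nat_lit 92), [nat_lit 1, nat_lit 3, nat_lit 3, nat_lit 1, nat_lit 1]))))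
 (.node (nat_lit 1517) (.node (nat_lit 1516) (.leaf ((nat_lit 268), [nat_lit 1, nat_lit 1, nat_lit 3, nat_lit 3, nat_lit 1, nat_lit 1])) (.leaf ((nat_lit 194), []))) (.node (nat_lit 1518) (.leaf ((nat_lit 334), [nat_lit 1, nat_lit 3, nat_lit 1, nat_lit 1])) (.leaf ((nat_lit 274), [nat_lit 1, nat_lit 1, nat_lit 3, nat_lit 3, nat_lit 1, nat_lit 1])))))
 (.node (nat_lit 1523) (.node (nat_lit 1521) (.node (nat_lit 1520) (.leaf ((nat_lit 158), [nat_lit 1, nat_lit 3, nat_lit 0, nat_lit 3, nat_lit 0])) (.leaf ((nat_lit 260), [nat_lit 1, nat_lit 2, nat_lit 1, nat_lit 1]))) (.node (nat_lit 1522) (.leaf ((nat_lit 191), [nat_lit 3, nat_lit 3, nat_lit 0])) (.leaf ((nat_lit 202), [nat_lit 3, nat_lit 1]))))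
 (.node (nat_lit 1525) (.node (nat_lit 1524) (.leaf ((nat_lit 94), [nat_lit 1, nat_lit 1])) (.leaf ((nat_lit 102), [nat_lit 1, nat_lit 1, nat_lit 3, nat_lit 1]))) (.node (nat_lit 1526) (.leaf ((nat_lit 101), [nat_lit 3, nat_lit 0, nat_lit 3, nat_lit 0])) (.leaf ((nat_lit 95), [nat_lit 1, nat_lit 3, nat_lit 3, nat_lit 1, nat_lit 1]))))))
 (.node (nat_lit 1535) (.node (nat_lit 1531) (.node (nat_lit 1529) (.node (nat_lit 1528) (.leaf ((nat_lit 120), [nat_lit 0, nat_lit 2, nat_lit 1])) (.leaf ((nat_lit 132), [nat_lit 3]))) (.node (nat_lit 1530) (.leaf ((nat_lit 246), [nat_lit 1, nat_lit 1, nat_lit 2, nat_lit 1, nat_lit 1])) (.leaf ((nat_lit 96), [nat_lit 0, nat_lit 3, nat_lit 3, nat_lit 0]))))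
 (.node (nat_lit 1533) (.node (nat_lit 1532) (.leaf ((nat_lit 324), [nat_lit 2])) (.leaf ((nat_lit 292), [nat_lit 1, nat_lit 1, nat_lit 3, nat_lit 1, nat_lit 1]))) (.node (nat_lit 1534) (.leaf ((nat_lit 234), [nat_lit 1, nat_lit 1, nat_lit 3, nat_lit 3, nat_lit 1, nat_lit 1])) (.leaf ((nat_lit 233), [nat_lit 1, nat_lit 1, nat_lit 3, nat_lit 3, nat_lit 1, nat_lit 1])))))
 (.node (nat_lit 1539) (.node (nat_lit 1537) (.node (nat_lit 1536) (.leaf ((nat_lit 115), [nat_lit 0, nat_lit 2, nat_lit 1])) (.leaf ((nat_lit 292), [nat_lit 1, nat_lit 3]))) (.node (nat_lit 1538) (.leaf ((nat_lit 322), [nat_lit 1, nat_lit 3, nat_lit 0, nat_lit 3])) (.leaf ((nat_lit 96), [nat_lit 1, nat_lit 3, nat_lit 1]))))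
 (.node (nat_lit 1541) (.node (nat_lit 1540) (.leaf ((nat_lit 193), [nat_lit 1, nat_lit 1, nat_lit 3, nat_lit 3, nat_lit 1, nat_lit 1])) (.leaf ((nat_lit 192), []))) (.node (nat_lit 1542) (.leaf ((nat_lit 262), [nat_lit 1, nat_lit 3, nat_lit 0, nat_lit 3, nat_lit 0])) (.leaf ((nat_lit 325), [nat_lit 3, nat_lit 3])))))))
 (.node (nat_lit 1559) (.node (nat_lit 1551) (.node (nat_lit 1547) (.node (nat_lit 1545) (.node (nat_lit 1544) (.leaf ((nat_lit 213), [nat_lit 1, nat_lit 3, nat_lit 3, nat_lit 1])) (.leaf ((nat_lit 212), [nat_lit 0, nat_lit 3, nat_lit 3, nat_lit 1, nat_lit 1]))) (.node (nat_lit 1546) (.leaf ((nat_lit 272), [nat_lit 0, nat_lit 3, nat_lit 1, nat_lit 1])) (.leaf ((nat_lit 96), [nat_lit 1, nat_lit 2, nat_lit 1]))))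
 (.node (nat_lit 1549) (.node (nat_lit 1548) (.leaf ((nat_lit 107), [nat_lit 1, nat_lit 3, nat_lit 0, nat_lit 3, nat_lit 0])) (.leaf ((nat_lit 177), [nat_lit 1, nat_lit 3, nat_lit 3, nat_lit 1]))) (.node (nat_lit 1550) (.leaf ((nat_lit 214), [nat_lit 2])) (.leaf ((nat_lit 231), [nat_lit 1, nat_lit 2, nat_lit 0])))))
 (.node (nat_lit 1555) (.node (nat_lit 1553) (.node (nat_lit 1552) (.leaf ((nat_lit 229), [nat_lit 1, nat_lit 1, nat_lit 3, nat_lit 3, nat_lit 1])) (.leaf ((nat_lit 332), [nat_lit 3, nat_lit 1]))) (.node (nat_lit 1554) (.leaf ((nat_lit 97), [nat_lit 0, nat_lit 3, nat_lit 3, nat_lit 0])) (.leaf ((nat_lit 117), [nat_lit 1, nat_lit 1, nat_lit 3, nat_lit 3, nat_lit 1, nat_lit 1]))))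
 (.node (nat_lit 1557) (.node (nat_lit 1556) (.leaf ((nat_lit 289), [nat_lit 1, nat_lit 2, nat_lit 0])) (.leaf ((nat_lit 145), [nat_lit 1, nat_lit 3]))) (.node (nat_lit 1558) (.leaf ((nat_lit 98), [nat_lit 1, nat_lit 2, nat_lit 0])) (.leaf ((nat_lit 111), [nat_lit 0, nat_lit 3, nat_lit 1, nat_lit 1]))))))
 (.node (nat_lit 1567) (.node (nat_lit 1563) (.node (nat_lit 1561) (.node (nat_lit 1560) (.leaf ((nat_lit 103), [nat_lit 2, nat_lit 0])) (.leaf ((nat_lit 195), [nat_lit 0, nat_lit 3, nat_lit 1, nat_lit 1]))) (.node (nat_lit 1562) (.leaf ((nat_lit 100), [nat_lit 0])) (.leaf ((nat_lit 253), [nat_lit 1, nat_lit 1, nat_lit 3, nat_lit 0]))))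
 (.node (nat_lit 1565) (.node (nat_lit 1564) (.leaf ((nat_lit 209), [nat_lit 0, nat_lit 3, nat_lit 3, nat_lit 1])) (.leaf ((nat_lit 204), [nat_lit 1, nat_lit 1, nat_lit 3, nat_lit 3]))) (.node (nat_lit 1566) (.leaf ((nat_lit 212), [nat_lit 1, nat_lit 3, nat_lit 0, nat_lit 3, nat_lit 0])) (.leaf ((nat_lit 282), [nat_lit 1, nat_lit 3, nat_lit 0, nat_lit 3, nat_lit 1])))))
 (.node (nat_lit 1571) (.node (nat_lit 1569) (.node (nat_lit 1568) (.leaf ((nat_lit 206), [nat_lit 1, nat_lit 1, nat_lit 3, nat_lit 1, nat_lit 1])) (.leaf ((nat_lit 233), [nat_lit 1, nat_lit 2, nat_lit 1]))) (.node (nat_lit 1570) (.leaf ((nat_lit 215), [nat_lit 1, nat_lit 3, nat_lit 0, nat_lit 3, nat_lit 1])) (.leaf ((nat_lit 100), [nat_lit 3, nat_lit 0]))))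
 (.node (nat_lit 1573) (.node (nat_lit 1572) (.leaf ((nat_lit 223), [nat_lit 1, nat_lit 3, nat_lit 3])) (.leaf ((nat_lit 235), [nat_lit 1, nat_lit 1, nat_lit 3, nat_lit 3, nat_lit 1, nat_lit 1]))) (.node (nat_lit 1574) (.leaf ((nat_lit 249), [nat_lit 1])) (.leaf ((nat_lit 152), [nat_lit 0, nat_lit 2]))))))))
 (.node (nat_lit 1606) (.node (nat_lit 1590) (.node (nat_lit 1582) (.node (nat_lit 1578) (.node (nat_lit 1576) (.leaf ((nat_lit 102), [nat_lit 1, nat_lit 2, nat_lit 1])) (.node (nat_lit 1577) (.leaf ((nat_lit 223), [nat_lit 3, nat_lit 3, nat_lit 0])) (.leaf ((nat_lit 256), [nat_lit 1, nat_lit 3, nat_lit 0, nat_lit 3, nat_lit 1]))))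
 (.node (nat_lit 1580) (.node (nat_lit 1579) (.leaf ((nat_lit 216), [nat_lit 1, nat_lit 3, nat_lit 3, nat_lit 0])) (.leaf ((nat_lit 223), [nat_lit 1, nat_lit 3, nat_lit 0, nat_lit 3, nat_lit 1, nat_lit 1]))) (.node (nat_lit 1581) (.leaf ((nat_lit 181), [nat_lit 0, nat_lit 2])) (.leaf ((nat_lit 132), [nat_lit 0, nat_lit 2, nat_lit 1])))))
 (.node (nat_lit 1586) (.node (nat_lit 1584) (.node (nat_lit 1583) (.leaf ((nat_lit 120), [nat_lit 0, nat_lit 3, nat_lit 3, nat_lit 1, nat_lit 1])) (.leaf ((nat_lit 104), [nat_lit 0, nat_lit 3]))) (.node (nat_lit 1585) (.leaf ((nat_lit 108), [nat_lit 2, nat_lit 1, nat_lit 1])) (.leaf ((nat_lit 106), [nat_lit 3]))))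
 (.node (nat_lit 1588) (.node (nat_lit 1587) (.leaf ((nat_lit 105), [nat_lit 3, nat_lit 0, nat_lit 3])) (.leaf ((nat_lit 141), [nat_lit 2]))) (.node (nat_lit 1589) (.leaf ((nat_lit 201), [nat_lit 1, nat_lit 2, nat_lit 1])) (.leaf ((nat_lit 236), [nat_lit 2]))))))
 (.node (nat_lit 1598) (.node (nat_lit 1594) (.node (nat_lit 1592) (.node (nat_lit 1591) (.leaf ((nat_lit 129), [nat_lit 1, nat_lit 3, nat_lit 0])) (.leaf ((nat_lit 309), [nat_lit 0, nat_lit 2, nat_lit 1]))) (.node (nat_lit 1593) (.leaf ((nat_lit 127), [nat_lit 1, nat_lit 3, nat_lit 1, nat_lit 1])) (.leaf ((nat_lit 282), [nat_lit 3, nat_lit 3, nat_lit 0]))))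
 (.node (nat_lit 1596) (.node (nat_lit 1595) (.leaf ((nat_lit 106), [nat_lit 1, nat_lit 1, nat_lit 3, nat_lit 3, nat_lit 1])) (.leaf ((nat_lit 235), [nat_lit 1, nat_lit 1, nat_lit 3, nat_lit 3, nat_lit 0]))) (.node (nat_lit 1597) (.leaf ((nat_lit 107), [nat_lit 3, nat_lit 1])) (.leaf ((nat_lit 181), [nat_lit 1, nat_lit 2, nat_lit 0])))))
 (.node (nat_lit 1602) (.node (nat_lit 1600) (.node (nat_lit 1599) (.leaf ((nat_lit 223), [nat_lit 2])) (.leaf ((nat_lit 251), [nat_lit 1, nat_lit 1, nat_lit 3]))) (.node (nat_lit 1601) (.leaf ((nat_lit 151), [nat_lit 0, nat_lit 2])) (.leaf ((nat_lit 332), [nat_lit 2, nat_lit 1]))))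
 (.node (nat_lit 1604) (.node (nat_lit 1603) (.leaf ((nat_lit 223), [nat_lit 0, nat_lit 2, nat_lit 1, nat_lit 1])) (.leaf ((nat_lit 216), [nat_lit 1, nat_lit 3, nat_lit 0, nat_lit 3, nat_lit 1, nat_lit 1]))) (.node (nat_lit 1605) (.leaf ((nat_lit 107), [nat_lit 1])) (.leaf ((nat_lit 335), [nat_lit 2])))))))
 (.node (nat_lit 1622) (.node (nat_lit 1614) (.node (nat_lit 1610) (.node (nat_lit 1608) (.node (nat_lit 1607) (.leaf ((nat_lit 127), [nat_lit 3, nat_lit 3])) (.leaf ((nat_lit 289), [nat_lit 0, nat_lit 3, nat_lit 3, nat_lit 0]))) (.node (nat_lit 1609) (.leaf ((nat_lit 169), [nat_lit 0, nat_lit 2, nat_lit 1, nat_lit 1])) (.leaf ((nat_lit 215), [nat_lit 1, nat_lit 3, nat_lit 3]))))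
 (.node (nat_lit 1612) (.node (nat_lit 1611) (.leaf ((nat_lit 109), [nat_lit 3, nat_lit 0, nat_lit 3, nat_lit 1])) (.leaf ((nat_lit 252), [nat_lit 1, nat_lit 1, nat_lit 3, nat_lit 3, nat_lit 1, nat_lit 1]))) (.node (nat_lit 1613) (.leaf ((nat_lit 238), [nat_lit 1, nat_lit 1, nat_lit 3, nat_lit 3, nat_lit 1, nat_lit 1])) (.leaf ((nat_lit 141), [])))))
 (.node (nat_lit 1618) (.node (nat_lit 1616) (.node (nat_lit 1615) (.leaf ((nat_lit 128), [nat_lit 3, nat_lit 0])) (.leaf ((nat_lit 127), [nat_lit 0]))) (.node (nat_lit 1617) (.leaf ((nat_lit 309), [nat_lit 1, nat_lit 1, nat_lit 2, nat_lit 0])) (.leaf ((nat_lit 110), [nat_lit 1, nat_lit 2, nat_lit 1]))))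
 (.node (nat_lit 1620) (.node (nat_lit 1619) (.leaf ((nat_lit 109), [nat_lit 1, nat_lit 3, nat_lit 3])) (.leaf ((nat_lit 315), [nat_lit 1, nat_lit 3, nat_lit 3, nat_lit 1, nat_lit 1]))) (.node (nat_lit 1621) (.leaf ((nat_lit 225), [nat_lit 2])) (.leaf ((nat_lit 211), [nat_lit 1, nat_lit 1, nat_lit 3, nat_lit 1, nat_lit 1]))))))
 (.node (nat_lit 1630) (.node (nat_lit 1626) (.node (nat_lit 1624) (.node (nat_lit 1623) (.leaf ((nat_lit 210), [nat_lit 1, nat_lit 1, nat_lit 3, nat_lit 3, nat_lit 0])) (.leaf ((nat_lit 286), [nat_lit 3, nat_lit 0, nat_lit 3, nat_lit 1, nat_lit 1]))) (.node (nat_lit 1625) (.leaf ((nat_lit 279), [nat_lit 1, nat_lit 1, nat_lit 2, nat_lit 1])) (.leaf ((nat_lit 109), [nat_lit 0]))))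
 (.node (nat_lit 1628) (.node (nat_lit 1627) (.leaf ((nat_lit 236), [nat_lit 0, nat_lit 2, nat_lit 0])) (.leaf ((nat_lit 218), [nat_lit 0, nat_lit 2, nat_lit 0]))) (.node (nat_lit 1629) (.leaf ((nat_lit 110), [nat_lit 1, nat_lit 3, nat_lit 3, nat_lit 1])) (.leaf ((nat_lit 294), [nat_lit 0, nat_lit 2, nat_lit 1, nat_lit 1])))))
 (.node (nat_lit 1634) (.node (nat_lit 1632) (.node (nat_lit 1631) (.leaf ((nat_lit 165), [nat_lit 3, nat_lit 3])) (.leaf ((nat_lit 173), [nat_lit 1, nat_lit 1, nat_lit 2]))) (.node (nat_lit 1633) (.leaf ((nat_lit 209), [nat_lit 1, nat_lit 1, nat_lit 3, nat_lit 3, nat_lit 1, nat_lit 1])) (.leaf ((nat_lit 293), [nat_lit 0, nat_lit 3, nat_lit 3, nat_lit 0]))))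
 (.node (nat_lit 1636) (.node (nat_lit 1635) (.leaf ((nat_lit 242), [nat_lit 0, nat_lit 2])) (.leaf ((nat_lit 257), [nat_lit 1, nat_lit 1, nat_lit 2, nat_lit 1]))) (.node (nat_lit 1637) (.leaf ((nat_lit 199), [nat_lit 0, nat_lit 3, nat_lit 3, nat_lit 1, nat_lit 1])) (.leaf ((nat_lit 110), [nat_lit 1, nat_lit 3, nat_lit 0, nat_lit 3, nat_lit 0])))))))))
 (.node (nat_lit 1701) (.node (nat_lit 1669) (.node (nat_lit 1653) (.node (nat_lit 1645) (.node (nat_lit 1641) (.node (nat_lit 1639) (.leaf ((nat_lit 112), [nat_lit 3, nat_lit 3, nat_lit 0])) (.node (nat_lit 1640) (.leaf ((nat_lit 295), [nat_lit 1, nat_lit 2, nat_lit 0])) (.leaf ((nat_lit 320), [nat_lit 0, nat_lit 2, nat_lit 1]))))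
 (.node (nat_lit 1643) (.node (nat_lit 1642) (.leaf ((nat_lit 218), [])) (.leaf ((nat_lit 217), [nat_lit 0, nat_lit 2, nat_lit 0]))) (.node (nat_lit 1644) (.leaf ((nat_lit 198), [nat_lit 1, nat_lit 1, nat_lit 2, nat_lit 1, nat_lit 1])) (.leaf ((nat_lit 253), [nat_lit 1, nat_lit 1, nat_lit 3, nat_lit 3, nat_lit 1, nat_lit 1])))))
 (.node (nat_lit 1649) (.node (nat_lit 1647) (.node (nat_lit 1646) (.leaf ((nat_lit 196), [nat_lit 0, nat_lit 3, nat_lit 1])) (.leaf ((nat_lit 195), [nat_lit 1, nat_lit 3, nat_lit 0, nat_lit 3]))) (.node (nat_lit 1648) (.leaf ((nat_lit 113), [nat_lit 3, nat_lit 3, nat_lit 0])) (.leaf ((nat_lit 112), [nat_lit 1, nat_lit 3, nat_lit 0, nat_lit 3, nat_lit 0]))))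
 (.node (nat_lit 1651) (.node (nat_lit 1650) (.leaf ((nat_lit 320), [nat_lit 1, nat_lit 3, nat_lit 0, nat_lit 3, nat_lit 1])) (.leaf ((nat_lit 322), [nat_lit 1, nat_lit 1, nat_lit 2, nat_lit 1]))) (.node (nat_lit 1652) (.leaf ((nat_lit 292), [nat_lit 3, nat_lit 0, nat_lit 3, nat_lit 1])) (.leaf ((nat_lit 324), [nat_lit 1, nat_lit 2, nat_lit 1, nat_lit 1]))))))
 (.node (nat_lit 1661) (.node (nat_lit 1657) (.node (nat_lit 1655) (.node (nat_lit 1654) (.leaf ((nat_lit 243), [nat_lit 1, nat_lit 1, nat_lit 3, nat_lit 3, nat_lit 1, nat_lit 1])) (.leaf ((nat_lit 325), []))) (.node (nat_lit 1656) (.leaf ((nat_lit 112), [nat_lit 2, nat_lit 1, nat_lit 1])) (.leaf ((nat_lit 116), [nat_lit 1, nat_lit 1, nat_lit 3, nat_lit 1, nat_lit 1]))))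
 (.node (nat_lit 1659) (.node (nat_lit 1658) (.leaf ((nat_lit 115), [nat_lit 1])) (.leaf ((nat_lit 131), [nat_lit 3, nat_lit 3, nat_lit 0]))) (.node (nat_lit 1660) (.leaf ((nat_lit 127), [nat_lit 0, nat_lit 2, nat_lit 1])) (.leaf ((nat_lit 335), [nat_lit 0, nat_lit 2])))))
 (.node (nat_lit 1665) (.node (nat_lit 1663) (.node (nat_lit 1662) (.leaf ((nat_lit 335), [nat_lit 1, nat_lit 2, nat_lit 1])) (.leaf ((nat_lit 251), [nat_lit 1, nat_lit 1, nat_lit 3, nat_lit 3, nat_lit 1, nat_lit 1]))) (.node (nat_lit 1664) (.leaf ((nat_lit 245), [nat_lit 1])) (.leaf ((nat_lit 296), [nat_lit 3, nat_lit 0]))))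
 (.node (nat_lit 1667) (.node (nat_lit 1666) (.leaf ((nat_lit 119), [nat_lit 3, nat_lit 3, nat_lit 0])) (.leaf ((nat_lit 115), [nat_lit 1, nat_lit 2, nat_lit 1]))) (.node (nat_lit 1668) (.leaf ((nat_lit 295), [nat_lit 0, nat_lit 2])) (.leaf ((nat_lit 250), [nat_lit 3, nat_lit 3])))))))
 (.node (nat_lit 1685) (.node (nat_lit 1677) (.node (nat_lit 1673) (.node (nat_lit 1671) (.node (nat_lit 1670) (.leaf ((nat_lit 221), [nat_lit 3, nat_lit 1, nat_lit 1])) (.leaf ((nat_lit 310), [nat_lit 2]))) (.node (nat_lit 1672) (.leaf ((nat_lit 328), [])) (.leaf ((nat_lit 319), [nat_lit 1, nat_lit 3, nat_lit 3]))))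
 (.node (nat_lit 1675) (.node (nat_lit 1674) (.leaf ((nat_lit 116), [nat_lit 1, nat_lit 2, nat_lit 1, nat_lit 1])) (.leaf ((nat_lit 289), [nat_lit 1, nat_lit 3]))) (.node (nat_lit 1676) (.leaf ((nat_lit 117), [nat_lit 3, nat_lit 3, nat_lit 0])) (.leaf ((nat_lit 327), [nat_lit 1, nat_lit 2, nat_lit 1, nat_lit 1])))))
 (.node (nat_lit 1681) (.node (nat_lit 1679) (.node (nat_lit 1678) (.leaf ((nat_lit 245), [nat_lit 1, nat_lit 3, nat_lit 0, nat_lit 3, nat_lit 1])) (.leaf ((nat_lit 270), [nat_lit 0, nat_lit 3, nat_lit 1, nat_lit 1]))) (.node (nat_lit 1680) (.leaf ((nat_lit 166), [nat_lit 0, nat_lit 3])) (.leaf ((nat_lit 166), [nat_lit 1, nat_lit 3, nat_lit 0, nat_lit 3, nat_lit 1]))))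
 (.node (nat_lit 1683) (.node (nat_lit 1682) (.leaf ((nat_lit 297), [nat_lit 3])) (.leaf ((nat_lit 305), [nat_lit 1, nat_lit 1, nat_lit 3, nat_lit 3]))) (.node (nat_lit 1684) (.leaf ((nat_lit 308), [nat_lit 3, nat_lit 3])) (.leaf ((nat_lit 316), [nat_lit 1, nat_lit 2, nat_lit 1, nat_lit 1]))))))
 (.node (nat_lit 1693) (.node (nat_lit 1689) (.node (nat_lit 1687) (.node (nat_lit 1686) (.leaf ((nat_lit 118), [nat_lit 0, nat_lit 2, nat_lit 1])) (.leaf ((nat_lit 120), [nat_lit 1, nat_lit 3, nat_lit 3]))) (.node (nat_lit 1688) (.leaf ((nat_lit 290), [nat_lit 1, nat_lit 2, nat_lit 0])) (.leaf ((nat_lit 191), [nat_lit 0, nat_lit 3, nat_lit 0]))))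
 (.node (nat_lit 1691) (.node (nat_lit 1690) (.leaf ((nat_lit 208), [nat_lit 0, nat_lit 3, nat_lit 1, nat_lit 1])) (.leaf ((nat_lit 220), [nat_lit 1, nat_lit 2, nat_lit 0]))) (.node (nat_lit 1692) (.leaf ((nat_lit 282), [nat_lit 3, nat_lit 0, nat_lit 3, nat_lit 1, nat_lit 1])) (.leaf ((nat_lit 261), [nat_lit 1, nat_lit 3, nat_lit 0, nat_lit 3, nat_lit 0])))))
 (.node (nat_lit 1697) (.node (nat_lit 1695) (.node (nat_lit 1694) (.leaf ((nat_lit 320), [nat_lit 2])) (.leaf ((nat_lit 295), [nat_lit 1, nat_lit 1, nat_lit 3]))) (.node (nat_lit 1696) (.leaf ((nat_lit 265), [nat_lit 1, nat_lit 3, nat_lit 3])) (.leaf ((nat_lit 122), [nat_lit 1, nat_lit 3, nat_lit 0]))))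
 (.node (nat_lit 1699) (.node (nat_lit 1698) (.leaf ((nat_lit 281), [nat_lit 3, nat_lit 0, nat_lit 3])) (.leaf ((nat_lit 124), []))) (.node (nat_lit 1700) (.leaf ((nat_lit 182), [nat_lit 0, nat_lit 3, nat_lit 3, nat_lit 0])) (.leaf ((nat_lit 123), [nat_lit 1, nat_lit 2, nat_lit 0]))))))))
 (.node (nat_lit 1732) (.node (nat_lit 1716) (.node (nat_lit 1708) (.node (nat_lit 1704) (.node (nat_lit 1702) (.leaf ((nat_lit 334), [nat_lit 0, nat_lit 2, nat_lit 1, nat_lit 1])) (.node (nat_lit 1703) (.leaf ((nat_lit 317), [nat_lit 0, nat_lit 3, nat_lit 3, nat_lit 1])) (.leaf ((nat_lit 307), [nat_lit 3, nat_lit 3]))))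
 (.node (nat_lit 1706) (.node (nat_lit 1705) (.leaf ((nat_lit 244), [nat_lit 1, nat_lit 3, nat_lit 0])) (.leaf ((nat_lit 243), [nat_lit 0, nat_lit 2, nat_lit 1]))) (.node (nat_lit 1707) (.leaf ((nat_lit 230), [nat_lit 1, nat_lit 1, nat_lit 3, nat_lit 1, nat_lit 1])) (.leaf ((nat_lit 124), [nat_lit 1, nat_lit 1, nat_lit 3, nat_lit 3, nat_lit 1])))))
 (.node (nat_lit 1712) (.node (nat_lit 1710) (.node (nat_lit 1709) (.leaf ((nat_lit 297), [nat_lit 3, nat_lit 3, nat_lit 0])) (.leaf ((nat_lit 331), [nat_lit 1, nat_lit 3, nat_lit 1]))) (.node (nat_lit 1711) (.leaf ((nat_lit 148), [])) (.leaf ((nat_lit 186), [nat_lit 1, nat_lit 3, nat_lit 0, nat_lit 3, nat_lit 0]))))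
 (.node (nat_lit 1714) (.node (nat_lit 1713) (.leaf ((nat_lit 313), [nat_lit 1, nat_lit 2])) (.leaf ((nat_lit 297), [nat_lit 1, nat_lit 2, nat_lit 0]))) (.node (nat_lit 1715) (.leaf ((nat_lit 124), [nat_lit 3, nat_lit 0, nat_lit 3])) (.leaf ((nat_lit 142), [nat_lit 1, nat_lit 3, nat_lit 1, nat_lit 1]))))))
 (.node (nat_lit 1724) (.node (nat_lit 1720) (.node (nat_lit 1718) (.node (nat_lit 1717) (.leaf ((nat_lit 125), [nat_lit 0, nat_lit 2, nat_lit 1, nat_lit 1])) (.leaf ((nat_lit 335), [nat_lit 0, nat_lit 2, nat_lit 1]))) (.node (nat_lit 1719) (.leaf ((nat_lit 331), [nat_lit 1, nat_lit 1, nat_lit 3, nat_lit 3, nat_lit 1, nat_lit 1])) (.leaf ((nat_lit 270), [nat_lit 3, nat_lit 0, nat_lit 3]))))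
 (.node (nat_lit 1722) (.node (nat_lit 1721) (.leaf ((nat_lit 245), [nat_lit 3, nat_lit 1])) (.leaf ((nat_lit 130), [nat_lit 1, nat_lit 2, nat_lit 1, nat_lit 1]))) (.node (nat_lit 1723) (.leaf ((nat_lit 335), [nat_lit 1, nat_lit 2, nat_lit 1, nat_lit 1])) (.leaf ((nat_lit 125), [nat_lit 3, nat_lit 0, nat_lit 3])))))
 (.node (nat_lit 1728) (.node (nat_lit 1726) (.node (nat_lit 1725) (.leaf ((nat_lit 228), [nat_lit 0, nat_lit 2])) (.leaf ((nat_lit 220), [nat_lit 1, nat_lit 3]))) (.node (nat_lit 1727) (.leaf ((nat_lit 208), [nat_lit 1, nat_lit 2, nat_lit 1])) (.leaf ((nat_lit 202), [nat_lit 3, nat_lit 0, nat_lit 3]))))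
 (.node (nat_lit 1730) (.node (nat_lit 1729) (.leaf ((nat_lit 331), [nat_lit 1, nat_lit 2, nat_lit 1])) (.leaf ((nat_lit 228), [nat_lit 1, nat_lit 1]))) (.node (nat_lit 1731) (.leaf ((nat_lit 125), [nat_lit 1, nat_lit 1, nat_lit 2])) (.leaf ((nat_lit 304), [nat_lit 3])))))))
 (.node (nat_lit 1748) (.node (nat_lit 1740) (.node (nat_lit 1736) (.node (nat_lit 1734) (.node (nat_lit 1733) (.leaf ((nat_lit 171), [nat_lit 1, nat_lit 1, nat_lit 2, nat_lit 0])) (.leaf ((nat_lit 319), [nat_lit 0, nat_lit 3]))) (.node (nat_lit 1735) (.leaf ((nat_lit 279), [nat_lit 2, nat_lit 0])) (.leaf ((nat_lit 259), [nat_lit 1, nat_lit 3, nat_lit 0]))))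
 (.node (nat_lit 1738) (.node (nat_lit 1737) (.leaf ((nat_lit 299), [nat_lit 0, nat_lit 3, nat_lit 3, nat_lit 0])) (.leaf ((nat_lit 126), [nat_lit 3, nat_lit 3]))) (.node (nat_lit 1739) (.leaf ((nat_lit 125), [nat_lit 3])) (.leaf ((nat_lit 267), [nat_lit 1, nat_lit 3, nat_lit 3, nat_lit 1])))))
 (.node (nat_lit 1744) (.node (nat_lit 1742) (.node (nat_lit 1741) (.leaf ((nat_lit 231), [nat_lit 2, nat_lit 0])) (.leaf ((nat_lit 281), [nat_lit 1, nat_lit 3, nat_lit 0]))) (.node (nat_lit 1743) (.leaf ((nat_lit 177), [nat_lit 3])) (.leaf ((nat_lit 246), [nat_lit 3]))))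
 (.node (nat_lit 1746) (.node (nat_lit 1745) (.leaf ((nat_lit 128), [nat_lit 3, nat_lit 3])) (.leaf ((nat_lit 126), [nat_lit 1, nat_lit 3, nat_lit 0, nat_lit 3, nat_lit 1]))) (.node (nat_lit 1747) (.leaf ((nat_lit 328), [nat_lit 0, nat_lit 3, nat_lit 1, nat_lit 1])) (.leaf ((nat_lit 302), [nat_lit 1, nat_lit 1, nat_lit 3]))))))
 (.node (nat_lit 1756) (.node (nat_lit 1752) (.node (nat_lit 1750) (.node (nat_lit 1749) (.leaf ((nat_lit 332), [nat_lit 3, nat_lit 3, nat_lit 1])) (.leaf ((nat_lit 305), [nat_lit 1, nat_lit 2, nat_lit 1, nat_lit 1]))) (.node (nat_lit 1751) (.leaf ((nat_lit 175), [nat_lit 3, nat_lit 3, nat_lit 1, nat_lit 1])) (.leaf ((nat_lit 129), [nat_lit 1, nat_lit 1, nat_lit 2, nat_lit 1, nat_lit 1]))))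
 (.node (nat_lit 1754) (.node (nat_lit 1753) (.leaf ((nat_lit 256), [nat_lit 2, nat_lit 0])) (.leaf ((nat_lit 275), [nat_lit 1, nat_lit 3, nat_lit 0, nat_lit 3]))) (.node (nat_lit 1755) (.leaf ((nat_lit 255), [nat_lit 1, nat_lit 1, nat_lit 2, nat_lit 1, nat_lit 1])) (.leaf ((nat_lit 133), [nat_lit 0, nat_lit 3, nat_lit 0])))))
 (.node (nat_lit 1760) (.node (nat_lit 1758) (.node (nat_lit 1757) (.leaf ((nat_lit 158), [nat_lit 3, nat_lit 0, nat_lit 3, nat_lit 0])) (.leaf ((nat_lit 243), [nat_lit 3, nat_lit 0, nat_lit 3]))) (.node (nat_lit 1759) (.leaf ((nat_lit 137), [nat_lit 1, nat_lit 3, nat_lit 0, nat_lit 3, nat_lit 1])) (.leaf ((nat_lit 272), [nat_lit 1, nat_lit 3, nat_lit 3, nat_lit 1]))))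
 (.node (nat_lit 1762) (.node (nat_lit 1761) (.leaf ((nat_lit 135), [nat_lit 3])) (.leaf ((nat_lit 298), [nat_lit 3]))) (.node (nat_lit 1763) (.leaf ((nat_lit 303), [nat_lit 1, nat_lit 2, nat_lit 1, nat_lit 1])) (.leaf ((nat_lit 224), [nat_lit 3, nat_lit 0, nat_lit 3, nat_lit 1, nat_lit 1]))))))))))
noncomputable def n0Wd_7 : Tr (ℕ × List ℕ) := (.node (nat_lit 1890) (.node (nat_lit 1827) (.node (nat_lit 1795) (.node (nat_lit 1779) (.node (nat_lit 1771) (.node (nat_lit 1767) (.node (nat_lit 1765) (.leaf ((nat_lit 141), [nat_lit 1, nat_lit 2])) (.node (nat_lit 1766) (.leaf ((nat_lit 139), [nat_lit 1, nat_lit 1, nat_lit 3, nat_lit 3])) (.leaf ((nat_lit 138), [nat_lit 1, nat_lit 1, nat_lit 3, nat_lit 3, nat_lit 1, nat_lit 1]))))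
 (.node (nat_lit 1769) (.node (nat_lit 1768) (.leaf ((nat_lit 271), [nat_lit 1, nat_lit 1, nat_lit 3, nat_lit 1])) (.leaf ((nat_lit 310), [nat_lit 0, nat_lit 2, nat_lit 1, nat_lit 1]))) (.node (nat_lit 1770) (.leaf ((nat_lit 323), [nat_lit 1, nat_lit 3, nat_lit 0])) (.leaf ((nat_lit 233), [nat_lit 1, nat_lit 3, nat_lit 0])))))
 (.node (nat_lit 1775) (.node (nat_lit 1773) (.node (nat_lit 1772) (.leaf ((nat_lit 273), [nat_lit 1, nat_lit 3, nat_lit 0])) (.leaf ((nat_lit 282), [nat_lit 2, nat_lit 1, nat_lit 1]))) (.node (nat_lit 1774) (.leaf ((nat_lit 139), [nat_lit 0, nat_lit 2, nat_lit 1, nat_lit 1])) (.leaf ((nat_lit 322), [nat_lit 1, nat_lit 1, nat_lit 3, nat_lit 0]))))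
 (.node (nat_lit 1777) (.node (nat_lit 1776) (.leaf ((nat_lit 277), [nat_lit 3, nat_lit 1])) (.leaf ((nat_lit 326), [nat_lit 1, nat_lit 2, nat_lit 1, nat_lit 1]))) (.node (nat_lit 1778) (.leaf ((nat_lit 333), [nat_lit 1, nat_lit 3, nat_lit 0, nat_lit 3])) (.leaf ((nat_lit 277), [nat_lit 1, nat_lit 2]))))))
 (.node (nat_lit 1787) (.node (nat_lit 1783) (.node (nat_lit 1781) (.node (nat_lit 1780) (.leaf ((nat_lit 322), [nat_lit 1, nat_lit 1, nat_lit 3, nat_lit 3])) (.leaf ((nat_lit 139), [nat_lit 3, nat_lit 0]))) (.node (nat_lit 1782) (.leaf ((nat_lit 171), [nat_lit 1, nat_lit 1, nat_lit 2, nat_lit 1])) (.leaf ((nat_lit 311), [nat_lit 1, nat_lit 3, nat_lit 0, nat_lit 3, nat_lit 0]))))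
 (.node (nat_lit 1785) (.node (nat_lit 1784) (.leaf ((nat_lit 280), [nat_lit 2])) (.leaf ((nat_lit 314), [nat_lit 3, nat_lit 1]))) (.node (nat_lit 1786) (.leaf ((nat_lit 285), [nat_lit 1, nat_lit 3, nat_lit 0])) (.leaf ((nat_lit 284), [nat_lit 1, nat_lit 3, nat_lit 3])))))
 (.node (nat_lit 1791) (.node (nat_lit 1789) (.node (nat_lit 1788) (.leaf ((nat_lit 140), [nat_lit 1, nat_lit 1, nat_lit 3, nat_lit 3, nat_lit 1])) (.leaf ((nat_lit 150), [nat_lit 1, nat_lit 3, nat_lit 1]))) (.node (nat_lit 1790) (.leaf ((nat_lit 149), [nat_lit 1, nat_lit 3, nat_lit 1])) (.leaf ((nat_lit 143), [nat_lit 1, nat_lit 1, nat_lit 2, nat_lit 0]))))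
 (.node (nat_lit 1793) (.node (nat_lit 1792) (.leaf ((nat_lit 293), [nat_lit 2])) (.leaf ((nat_lit 162), [nat_lit 3]))) (.node (nat_lit 1794) (.leaf ((nat_lit 156), [nat_lit 1, nat_lit 3, nat_lit 3, nat_lit 0])) (.leaf ((nat_lit 327), [nat_lit 1, nat_lit 1, nat_lit 3, nat_lit 3])))))))
 (.node (nat_lit 1811) (.node (nat_lit 1803) (.node (nat_lit 1799) (.node (nat_lit 1797) (.node (nat_lit 1796) (.leaf ((nat_lit 145), [nat_lit 1, nat_lit 1, nat_lit 3, nat_lit 1, nat_lit 1])) (.leaf ((nat_lit 289), [nat_lit 1, nat_lit 3, nat_lit 3, nat_lit 1]))) (.node (nat_lit 1798) (.leaf ((nat_lit 331), [nat_lit 1, nat_lit 3])) (.leaf ((nat_lit 315), [nat_lit 1, nat_lit 3, nat_lit 3]))))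
 (.node (nat_lit 1801) (.node (nat_lit 1800) (.leaf ((nat_lit 232), [nat_lit 1, nat_lit 3, nat_lit 0, nat_lit 3, nat_lit 1, nat_lit 1])) (.leaf ((nat_lit 301), [nat_lit 3, nat_lit 0, nat_lit 3, nat_lit 1, nat_lit 1]))) (.node (nat_lit 1802) (.leaf ((nat_lit 310), [nat_lit 0])) (.leaf ((nat_lit 221), [nat_lit 1, nat_lit 3, nat_lit 3])))))
 (.node (nat_lit 1807) (.node (nat_lit 1805) (.node (nat_lit 1804) (.leaf ((nat_lit 312), [nat_lit 1, nat_lit 2, nat_lit 1])) (.leaf ((nat_lit 333), [nat_lit 1, nat_lit 3, nat_lit 0, nat_lit 3, nat_lit 0]))) (.node (nat_lit 1806) (.leaf ((nat_lit 145), [nat_lit 2, nat_lit 1, nat_lit 1])) (.leaf ((nat_lit 300), [nat_lit 3, nat_lit 0, nat_lit 3]))))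
 (.node (nat_lit 1809) (.node (nat_lit 1808) (.leaf ((nat_lit 303), [nat_lit 1, nat_lit 1, nat_lit 2, nat_lit 0])) (.leaf ((nat_lit 329), [nat_lit 0, nat_lit 3, nat_lit 3]))) (.node (nat_lit 1810) (.leaf ((nat_lit 148), [nat_lit 2])) (.leaf ((nat_lit 327), [nat_lit 0, nat_lit 3, nat_lit 3, nat_lit 1]))))))
 (.node (nat_lit 1819) (.node (nat_lit 1815) (.node (nat_lit 1813) (.node (nat_lit 1812) (.leaf ((nat_lit 188), [nat_lit 2, nat_lit 1, nat_lit 1])) (.leaf ((nat_lit 201), [nat_lit 1, nat_lit 2, nat_lit 0]))) (.node (nat_lit 1814) (.leaf ((nat_lit 291), [nat_lit 2, nat_lit 1, nat_lit 1])) (.leaf ((nat_lit 237), [nat_lit 1, nat_lit 2]))))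
 (.node (nat_lit 1817) (.node (nat_lit 1816) (.leaf ((nat_lit 187), [nat_lit 3, nat_lit 3, nat_lit 0])) (.leaf ((nat_lit 150), [nat_lit 3, nat_lit 3, nat_lit 0]))) (.node (nat_lit 1818) (.leaf ((nat_lit 305), [nat_lit 3, nat_lit 3])) (.leaf ((nat_lit 310), [nat_lit 3, nat_lit 3])))))
 (.node (nat_lit 1823) (.node (nat_lit 1821) (.node (nat_lit 1820) (.leaf ((nat_lit 301), [nat_lit 1, nat_lit 3, nat_lit 1, nat_lit 1])) (.leaf ((nat_lit 250), [nat_lit 3]))) (.node (nat_lit 1822) (.leaf ((nat_lit 162), [nat_lit 1, nat_lit 1, nat_lit 3, nat_lit 1])) (.leaf ((nat_lit 293), [nat_lit 1, nat_lit 1, nat_lit 3, nat_lit 0]))))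
 (.node (nat_lit 1825) (.node (nat_lit 1824) (.leaf ((nat_lit 152), [nat_lit 3, nat_lit 0])) (.leaf ((nat_lit 306), [nat_lit 1, nat_lit 1, nat_lit 3, nat_lit 3, nat_lit 1, nat_lit 1]))) (.node (nat_lit 1826) (.leaf ((nat_lit 234), [nat_lit 3, nat_lit 3, nat_lit 0])) (.leaf ((nat_lit 157), [nat_lit 0, nat_lit 3, nat_lit 1]))))))))
 (.node (nat_lit 1858) (.node (nat_lit 1842) (.node (nat_lit 1834) (.node (nat_lit 1830) (.node (nat_lit 1828) (.leaf ((nat_lit 288), [nat_lit 2])) (.node (nat_lit 1829) (.leaf ((nat_lit 311), [nat_lit 1, nat_lit 3, nat_lit 0, nat_lit 3, nat_lit 0])) (.leaf ((nat_lit 210), [nat_lit 1, nat_lit 3, nat_lit 3, nat_lit 0]))))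
 (.node (nat_lit 1832) (.node (nat_lit 1831) (.leaf ((nat_lit 194), [nat_lit 0, nat_lit 2, nat_lit 1])) (.leaf ((nat_lit 314), [nat_lit 1, nat_lit 3, nat_lit 0]))) (.node (nat_lit 1833) (.leaf ((nat_lit 280), [nat_lit 3, nat_lit 3, nat_lit 1, nat_lit 1])) (.leaf ((nat_lit 291), [nat_lit 1, nat_lit 1, nat_lit 3, nat_lit 0])))))
 (.node (nat_lit 1838) (.node (nat_lit 1836) (.node (nat_lit 1835) (.leaf ((nat_lit 160), [nat_lit 0, nat_lit 2, nat_lit 1, nat_lit 1])) (.leaf ((nat_lit 302), [nat_lit 3, nat_lit 3]))) (.node (nat_lit 1837) (.leaf ((nat_lit 304), [nat_lit 1, nat_lit 1, nat_lit 3, nat_lit 3, nat_lit 1, nat_lit 1])) (.leaf ((nat_lit 185), [nat_lit 3, nat_lit 0, nat_lit 3]))))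
 (.node (nat_lit 1840) (.node (nat_lit 1839) (.leaf ((nat_lit 184), [nat_lit 1, nat_lit 2, nat_lit 1])) (.leaf ((nat_lit 307), [nat_lit 1, nat_lit 3, nat_lit 3]))) (.node (nat_lit 1841) (.leaf ((nat_lit 170), [nat_lit 3, nat_lit 3, nat_lit 0])) (.leaf ((nat_lit 160), [nat_lit 1, nat_lit 1, nat_lit 3]))))))
 (.node (nat_lit 1850) (.node (nat_lit 1846) (.node (nat_lit 1844) (.node (nat_lit 1843) (.leaf ((nat_lit 224), [nat_lit 3, nat_lit 3, nat_lit 0])) (.leaf ((nat_lit 161), [nat_lit 1, nat_lit 3, nat_lit 1]))) (.node (nat_lit 1845) (.leaf ((nat_lit 222), [nat_lit 0, nat_lit 3, nat_lit 0])) (.leaf ((nat_lit 306), [nat_lit 3, nat_lit 3, nat_lit 0]))))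
 (.node (nat_lit 1848) (.node (nat_lit 1847) (.leaf ((nat_lit 314), [])) (.leaf ((nat_lit 283), [nat_lit 3, nat_lit 3]))) (.node (nat_lit 1849) (.leaf ((nat_lit 165), [nat_lit 3, nat_lit 3, nat_lit 0])) (.leaf ((nat_lit 163), [nat_lit 0, nat_lit 2, nat_lit 1])))))
 (.node (nat_lit 1854) (.node (nat_lit 1852) (.node (nat_lit 1851) (.leaf ((nat_lit 162), [nat_lit 0, nat_lit 3, nat_lit 0])) (.leaf ((nat_lit 280), [nat_lit 3, nat_lit 3]))) (.node (nat_lit 1853) (.leaf ((nat_lit 248), [nat_lit 0, nat_lit 3, nat_lit 3, nat_lit 1])) (.leaf ((nat_lit 179), [nat_lit 0, nat_lit 3, nat_lit 3, nat_lit 0]))))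
 (.node (nat_lit 1856) (.node (nat_lit 1855) (.leaf ((nat_lit 164), [nat_lit 3])) (.leaf ((nat_lit 265), [nat_lit 0, nat_lit 3, nat_lit 1]))) (.node (nat_lit 1857) (.leaf ((nat_lit 269), [nat_lit 1, nat_lit 3, nat_lit 1, nat_lit 1])) (.leaf ((nat_lit 319), [nat_lit 3, nat_lit 3, nat_lit 0])))))))
 (.node (nat_lit 1874) (.node (nat_lit 1866) (.node (nat_lit 1862) (.node (nat_lit 1860) (.node (nat_lit 1859) (.leaf ((nat_lit 328), [nat_lit 1, nat_lit 1, nat_lit 3, nat_lit 3, nat_lit 1, nat_lit 1])) (.leaf ((nat_lit 190), [nat_lit 1, nat_lit 1, nat_lit 3]))) (.node (nat_lit 1861) (.leaf ((nat_lit 303), [nat_lit 3, nat_lit 3])) (.leaf ((nat_lit 300), [nat_lit 1]))))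
 (.node (nat_lit 1864) (.node (nat_lit 1863) (.leaf ((nat_lit 278), [nat_lit 3])) (.leaf ((nat_lit 165), [nat_lit 1, nat_lit 3, nat_lit 1, nat_lit 1]))) (.node (nat_lit 1865) (.leaf ((nat_lit 294), [nat_lit 1, nat_lit 1, nat_lit 3, nat_lit 1])) (.leaf ((nat_lit 312), [nat_lit 0, nat_lit 3, nat_lit 3])))))
 (.node (nat_lit 1870) (.node (nat_lit 1868) (.node (nat_lit 1867) (.leaf ((nat_lit 297), [nat_lit 1, nat_lit 3, nat_lit 0, nat_lit 3, nat_lit 1])) (.leaf ((nat_lit 166), [nat_lit 1, nat_lit 1, nat_lit 3, nat_lit 1, nat_lit 1]))) (.node (nat_lit 1869) (.leaf ((nat_lit 317), [nat_lit 3, nat_lit 1])) (.leaf ((nat_lit 171), [nat_lit 3, nat_lit 0]))))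
 (.node (nat_lit 1872) (.node (nat_lit 1871) (.leaf ((nat_lit 304), [nat_lit 1, nat_lit 3, nat_lit 0, nat_lit 3, nat_lit 1])) (.leaf ((nat_lit 172), [nat_lit 3, nat_lit 3, nat_lit 1, nat_lit 1]))) (.node (nat_lit 1873) (.leaf ((nat_lit 171), [nat_lit 2])) (.leaf ((nat_lit 168), [nat_lit 1, nat_lit 1, nat_lit 2, nat_lit 0]))))))
 (.node (nat_lit 1882) (.node (nat_lit 1878) (.node (nat_lit 1876) (.node (nat_lit 1875) (.leaf ((nat_lit 330), [nat_lit 1, nat_lit 1, nat_lit 3, nat_lit 3])) (.leaf ((nat_lit 300), [nat_lit 0, nat_lit 3, nat_lit 0]))) (.node (nat_lit 1877) (.leaf ((nat_lit 323), [nat_lit 1, nat_lit 1, nat_lit 3, nat_lit 1])) (.leaf ((nat_lit 310), [nat_lit 3, nat_lit 3, nat_lit 1]))))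
 (.node (nat_lit 1880) (.node (nat_lit 1879) (.leaf ((nat_lit 170), [nat_lit 0, nat_lit 3, nat_lit 1])) (.leaf ((nat_lit 226), [nat_lit 3, nat_lit 0, nat_lit 3]))) (.node (nat_lit 1881) (.leaf ((nat_lit 285), [nat_lit 3, nat_lit 0])) (.leaf ((nat_lit 329), [])))))
 (.node (nat_lit 1886) (.node (nat_lit 1884) (.node (nat_lit 1883) (.leaf ((nat_lit 244), [nat_lit 1, nat_lit 1, nat_lit 3, nat_lit 3, nat_lit 1, nat_lit 1])) (.leaf ((nat_lit 218), [nat_lit 1, nat_lit 1, nat_lit 2, nat_lit 1, nat_lit 1]))) (.node (nat_lit 1885) (.leaf ((nat_lit 317), [nat_lit 3, nat_lit 3, nat_lit 0])) (.leaf ((nat_lit 305), [nat_lit 1, nat_lit 2, nat_lit 0]))))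
 (.node (nat_lit 1888) (.node (nat_lit 1887) (.leaf ((nat_lit 297), [nat_lit 0, nat_lit 2])) (.leaf ((nat_lit 170), [nat_lit 1, nat_lit 1, nat_lit 3, nat_lit 3, nat_lit 1, nat_lit 1]))) (.node (nat_lit 1889) (.leaf ((nat_lit 307), [])) (.leaf ((nat_lit 247), [nat_lit 1, nat_lit 1, nat_lit 3, nat_lit 3, nat_lit 1, nat_lit 1])))))))))
 (.node (nat_lit 1953) (.node (nat_lit 1921) (.node (nat_lit 1905) (.node (nat_lit 1897) (.node (nat_lit 1893) (.node (nat_lit 1891) (.leaf ((nat_lit 330), [nat_lit 1, nat_lit 1, nat_lit 3, nat_lit 3, nat_lit 1, nat_lit 1])) (.node (nat_lit 1892) (.leaf ((nat_lit 172), [nat_lit 1, nat_lit 3, nat_lit 0, nat_lit 3, nat_lit 0])) (.leaf ((nat_lit 171), [nat_lit 2, nat_lit 1, nat_lit 1]))))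
 (.node (nat_lit 1895) (.node (nat_lit 1894) (.leaf ((nat_lit 221), [nat_lit 3, nat_lit 1])) (.leaf ((nat_lit 299), [nat_lit 3, nat_lit 3, nat_lit 0]))) (.node (nat_lit 1896) (.leaf ((nat_lit 269), [nat_lit 1, nat_lit 1, nat_lit 3, nat_lit 3, nat_lit 0])) (.leaf ((nat_lit 200), [nat_lit 0, nat_lit 3, nat_lit 0])))))
 (.node (nat_lit 1901) (.node (nat_lit 1899) (.node (nat_lit 1898) (.leaf ((nat_lit 198), [nat_lit 0, nat_lit 3, nat_lit 0])) (.leaf ((nat_lit 174), [nat_lit 0, nat_lit 3, nat_lit 3, nat_lit 0]))) (.node (nat_lit 1900) (.leaf ((nat_lit 248), [nat_lit 2, nat_lit 0])) (.leaf ((nat_lit 280), [nat_lit 1, nat_lit 1, nat_lit 3, nat_lit 0]))))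
 (.node (nat_lit 1903) (.node (nat_lit 1902) (.leaf ((nat_lit 244), [nat_lit 1, nat_lit 1, nat_lit 3, nat_lit 3, nat_lit 0])) (.leaf ((nat_lit 314), [nat_lit 1, nat_lit 3, nat_lit 3]))) (.node (nat_lit 1904) (.leaf ((nat_lit 194), [nat_lit 3, nat_lit 3, nat_lit 0])) (.leaf ((nat_lit 311), [nat_lit 0, nat_lit 2]))))))
 (.node (nat_lit 1913) (.node (nat_lit 1909) (.node (nat_lit 1907) (.node (nat_lit 1906) (.leaf ((nat_lit 330), [nat_lit 1, nat_lit 3, nat_lit 0, nat_lit 3, nat_lit 1])) (.leaf ((nat_lit 283), [nat_lit 0, nat_lit 3, nat_lit 3, nat_lit 1]))) (.node (nat_lit 1908) (.leaf ((nat_lit 176), [nat_lit 1, nat_lit 1, nat_lit 3])) (.leaf ((nat_lit 245), [nat_lit 1, nat_lit 3]))))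
 (.node (nat_lit 1911) (.node (nat_lit 1910) (.leaf ((nat_lit 251), [nat_lit 3, nat_lit 1, nat_lit 1])) (.leaf ((nat_lit 334), [nat_lit 1, nat_lit 1, nat_lit 2, nat_lit 1, nat_lit 1]))) (.node (nat_lit 1912) (.leaf ((nat_lit 184), [nat_lit 3, nat_lit 3])) (.leaf ((nat_lit 225), [nat_lit 3, nat_lit 3, nat_lit 1, nat_lit 1])))))
 (.node (nat_lit 1917) (.node (nat_lit 1915) (.node (nat_lit 1914) (.leaf ((nat_lit 328), [])) (.leaf ((nat_lit 190), [nat_lit 1, nat_lit 1, nat_lit 3, nat_lit 3, nat_lit 1, nat_lit 1]))) (.node (nat_lit 1916) (.leaf ((nat_lit 189), [nat_lit 0, nat_lit 3, nat_lit 1, nat_lit 1])) (.leaf ((nat_lit 188), [nat_lit 1, nat_lit 3]))))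
 (.node (nat_lit 1919) (.node (nat_lit 1918) (.leaf ((nat_lit 309), [nat_lit 1, nat_lit 3, nat_lit 3])) (.leaf ((nat_lit 278), [nat_lit 3, nat_lit 3, nat_lit 0]))) (.node (nat_lit 1920) (.leaf ((nat_lit 288), [nat_lit 2, nat_lit 1])) (.leaf ((nat_lit 206), [nat_lit 1, nat_lit 3, nat_lit 0, nat_lit 3, nat_lit 1])))))))
 (.node (nat_lit 1937) (.node (nat_lit 1929) (.node (nat_lit 1925) (.node (nat_lit 1923) (.node (nat_lit 1922) (.leaf ((nat_lit 282), [nat_lit 3])) (.leaf ((nat_lit 273), [nat_lit 0, nat_lit 3, nat_lit 1]))) (.node (nat_lit 1924) (.leaf ((nat_lit 189), [nat_lit 1, nat_lit 2, nat_lit 1, nat_lit 1])) (.leaf ((nat_lit 207), [nat_lit 3, nat_lit 3]))))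
 (.node (nat_lit 1927) (.node (nat_lit 1926) (.leaf ((nat_lit 274), [nat_lit 1, nat_lit 3, nat_lit 0, nat_lit 3, nat_lit 0])) (.leaf ((nat_lit 228), [nat_lit 3, nat_lit 3]))) (.node (nat_lit 1928) (.leaf ((nat_lit 331), [nat_lit 3, nat_lit 0, nat_lit 3, nat_lit 1, nat_lit 1])) (.leaf ((nat_lit 335), [nat_lit 1, nat_lit 1])))))
 (.node (nat_lit 1933) (.node (nat_lit 1931) (.node (nat_lit 1930) (.leaf ((nat_lit 207), [nat_lit 0, nat_lit 3, nat_lit 3, nat_lit 1])) (.leaf ((nat_lit 189), [nat_lit 1, nat_lit 3]))) (.node (nat_lit 1932) (.leaf ((nat_lit 233), [nat_lit 1, nat_lit 1])) (.leaf ((nat_lit 275), [nat_lit 0, nat_lit 3, nat_lit 1, nat_lit 1]))))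
 (.node (nat_lit 1935) (.node (nat_lit 1934) (.leaf ((nat_lit 256), [nat_lit 3, nat_lit 0, nat_lit 3, nat_lit 1])) (.leaf ((nat_lit 227), [nat_lit 1, nat_lit 1, nat_lit 3, nat_lit 3, nat_lit 0]))) (.node (nat_lit 1936) (.leaf ((nat_lit 296), [nat_lit 3, nat_lit 3, nat_lit 1, nat_lit 1])) (.leaf ((nat_lit 295), [nat_lit 1, nat_lit 2, nat_lit 1, nat_lit 1]))))))
 (.node (nat_lit 1945) (.node (nat_lit 1941) (.node (nat_lit 1939) (.node (nat_lit 1938) (.leaf ((nat_lit 189), [nat_lit 1, nat_lit 3, nat_lit 1, nat_lit 1])) (.leaf ((nat_lit 210), [nat_lit 3, nat_lit 0, nat_lit 3, nat_lit 0]))) (.node (nat_lit 1940) (.leaf ((nat_lit 193), [nat_lit 0, nat_lit 3])) (.leaf ((nat_lit 225), [nat_lit 1, nat_lit 3, nat_lit 3, nat_lit 0]))))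
 (.node (nat_lit 1943) (.node (nat_lit 1942) (.leaf ((nat_lit 333), [nat_lit 2, nat_lit 0])) (.leaf ((nat_lit 312), [nat_lit 0, nat_lit 2, nat_lit 1, nat_lit 1]))) (.node (nat_lit 1944) (.leaf ((nat_lit 294), [nat_lit 1, nat_lit 2, nat_lit 0])) (.leaf ((nat_lit 227), [nat_lit 3])))))
 (.node (nat_lit 1949) (.node (nat_lit 1947) (.node (nat_lit 1946) (.leaf ((nat_lit 255), [nat_lit 3])) (.leaf ((nat_lit 275), [nat_lit 1, nat_lit 1, nat_lit 3, nat_lit 0]))) (.node (nat_lit 1948) (.leaf ((nat_lit 228), [nat_lit 3, nat_lit 0, nat_lit 3, nat_lit 1, nat_lit 1])) (.leaf ((nat_lit 196), [nat_lit 0, nat_lit 3, nat_lit 3, nat_lit 0]))))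
 (.node (nat_lit 1951) (.node (nat_lit 1950) (.leaf ((nat_lit 220), [nat_lit 1, nat_lit 3, nat_lit 0, nat_lit 3])) (.leaf ((nat_lit 257), [nat_lit 3, nat_lit 3]))) (.node (nat_lit 1952) (.leaf ((nat_lit 202), [nat_lit 3, nat_lit 1, nat_lit 1])) (.leaf ((nat_lit 197), [nat_lit 1, nat_lit 2]))))))))
 (.node (nat_lit 1984) (.node (nat_lit 1968) (.node (nat_lit 1960) (.node (nat_lit 1956) (.node (nat_lit 1954) (.leaf ((nat_lit 198), [])) (.node (nat_lit 1955) (.leaf ((nat_lit 275), [])) (.leaf ((nat_lit 227), [nat_lit 1, nat_lit 1, nat_lit 2, nat_lit 1, nat_lit 1]))))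
 (.node (nat_lit 1958) (.node (nat_lit 1957) (.leaf ((nat_lit 296), [nat_lit 1, nat_lit 1, nat_lit 3, nat_lit 0])) (.leaf ((nat_lit 334), [nat_lit 1, nat_lit 1, nat_lit 3, nat_lit 3]))) (.node (nat_lit 1959) (.leaf ((nat_lit 251), [])) (.leaf ((nat_lit 204), [nat_lit 1, nat_lit 3, nat_lit 1, nat_lit 1])))))
 (.node (nat_lit 1964) (.node (nat_lit 1962) (.node (nat_lit 1961) (.leaf ((nat_lit 209), [nat_lit 3, nat_lit 0, nat_lit 3, nat_lit 0])) (.leaf ((nat_lit 197), [nat_lit 0, nat_lit 2, nat_lit 0]))) (.node (nat_lit 1963) (.leaf ((nat_lit 299), [nat_lit 3, nat_lit 3, nat_lit 1, nat_lit 1])) (.leaf ((nat_lit 199), [nat_lit 3]))))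
 (.node (nat_lit 1966) (.node (nat_lit 1965) (.leaf ((nat_lit 279), [nat_lit 1, nat_lit 1, nat_lit 3, nat_lit 0])) (.leaf ((nat_lit 224), [nat_lit 3, nat_lit 0]))) (.node (nat_lit 1967) (.leaf ((nat_lit 301), [nat_lit 0, nat_lit 3, nat_lit 3, nat_lit 1])) (.leaf ((nat_lit 333), [nat_lit 3]))))))
 (.node (nat_lit 1976) (.node (nat_lit 1972) (.node (nat_lit 1970) (.node (nat_lit 1969) (.leaf ((nat_lit 291), [nat_lit 1, nat_lit 1, nat_lit 2, nat_lit 1])) (.leaf ((nat_lit 201), [nat_lit 3, nat_lit 0, nat_lit 3, nat_lit 1]))) (.node (nat_lit 1971) (.leaf ((nat_lit 238), [nat_lit 1, nat_lit 3, nat_lit 0])) (.leaf ((nat_lit 278), []))))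
 (.node (nat_lit 1974) (.node (nat_lit 1973) (.leaf ((nat_lit 309), [nat_lit 1, nat_lit 1, nat_lit 3, nat_lit 3, nat_lit 1, nat_lit 1])) (.leaf ((nat_lit 318), []))) (.node (nat_lit 1975) (.leaf ((nat_lit 221), [nat_lit 2, nat_lit 1, nat_lit 1])) (.leaf ((nat_lit 250), [nat_lit 0, nat_lit 3, nat_lit 3, nat_lit 0])))))
 (.node (nat_lit 1980) (.node (nat_lit 1978) (.node (nat_lit 1977) (.leaf ((nat_lit 301), [nat_lit 3, nat_lit 3, nat_lit 1])) (.leaf ((nat_lit 313), []))) (.node (nat_lit 1979) (.leaf ((nat_lit 210), [])) (.leaf ((nat_lit 238), [nat_lit 1, nat_lit 1, nat_lit 3, nat_lit 1, nat_lit 1]))))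
 (.node (nat_lit 1982) (.node (nat_lit 1981) (.leaf ((nat_lit 315), [nat_lit 1, nat_lit 1, nat_lit 3, nat_lit 3, nat_lit 1, nat_lit 1])) (.leaf ((nat_lit 239), [nat_lit 0, nat_lit 3, nat_lit 1]))) (.node (nat_lit 1983) (.leaf ((nat_lit 312), [nat_lit 3, nat_lit 3, nat_lit 1, nat_lit 1])) (.leaf ((nat_lit 317), [nat_lit 1, nat_lit 3, nat_lit 0, nat_lit 3, nat_lit 0])))))))
 (.node (nat_lit 2000) (.node (nat_lit 1992) (.node (nat_lit 1988) (.node (nat_lit 1986) (.node (nat_lit 1985) (.leaf ((nat_lit 334), [nat_lit 3, nat_lit 3, nat_lit 0])) (.leaf ((nat_lit 216), [nat_lit 1, nat_lit 1, nat_lit 3, nat_lit 0]))) (.node (nat_lit 1987) (.leaf ((nat_lit 288), [nat_lit 0, nat_lit 3, nat_lit 0])) (.leaf ((nat_lit 321), [nat_lit 3, nat_lit 0, nat_lit 3]))))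
 (.node (nat_lit 1990) (.node (nat_lit 1989) (.leaf ((nat_lit 286), [nat_lit 1, nat_lit 1, nat_lit 3, nat_lit 3, nat_lit 1, nat_lit 1])) (.leaf ((nat_lit 299), [nat_lit 2, nat_lit 0]))) (.node (nat_lit 1991) (.leaf ((nat_lit 221), [nat_lit 1, nat_lit 3, nat_lit 3])) (.leaf ((nat_lit 284), [nat_lit 0, nat_lit 2, nat_lit 0])))))
 (.node (nat_lit 1996) (.node (nat_lit 1994) (.node (nat_lit 1993) (.leaf ((nat_lit 238), [nat_lit 1, nat_lit 3, nat_lit 3, nat_lit 1])) (.leaf ((nat_lit 237), [nat_lit 1, nat_lit 3, nat_lit 3, nat_lit 1]))) (.node (nat_lit 1995) (.leaf ((nat_lit 291), [nat_lit 0, nat_lit 3, nat_lit 3])) (.leaf ((nat_lit 250), [nat_lit 0, nat_lit 3, nat_lit 0]))))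
 (.node (nat_lit 1998) (.node (nat_lit 1997) (.leaf ((nat_lit 258), [nat_lit 0, nat_lit 2])) (.leaf ((nat_lit 266), [nat_lit 0, nat_lit 3]))) (.node (nat_lit 1999) (.leaf ((nat_lit 334), [nat_lit 1, nat_lit 1, nat_lit 2, nat_lit 0])) (.leaf ((nat_lit 296), [nat_lit 3, nat_lit 0, nat_lit 3, nat_lit 1]))))))
 (.node (nat_lit 2008) (.node (nat_lit 2004) (.node (nat_lit 2002) (.node (nat_lit 2001) (.leaf ((nat_lit 245), [nat_lit 1, nat_lit 3, nat_lit 1])) (.leaf ((nat_lit 323), [nat_lit 1, nat_lit 3]))) (.node (nat_lit 2003) (.leaf ((nat_lit 300), [nat_lit 1, nat_lit 3, nat_lit 0, nat_lit 3, nat_lit 1])) (.leaf ((nat_lit 327), [nat_lit 2]))))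
 (.node (nat_lit 2006) (.node (nat_lit 2005) (.leaf ((nat_lit 333), [nat_lit 1, nat_lit 3, nat_lit 1, nat_lit 1])) (.leaf ((nat_lit 326), [nat_lit 3, nat_lit 3, nat_lit 1, nat_lit 1]))) (.node (nat_lit 2007) (.leaf ((nat_lit 318), [nat_lit 1, nat_lit 1, nat_lit 3, nat_lit 1, nat_lit 1])) (.leaf ((nat_lit 283), [nat_lit 1, nat_lit 1, nat_lit 3, nat_lit 1])))))
 (.node (nat_lit 2012) (.node (nat_lit 2010) (.node (nat_lit 2009) (.leaf ((nat_lit 330), [nat_lit 1, nat_lit 3, nat_lit 3])) (.leaf ((nat_lit 252), [nat_lit 1, nat_lit 1, nat_lit 2, nat_lit 0]))) (.node (nat_lit 2011) (.leaf ((nat_lit 287), [nat_lit 1, nat_lit 1, nat_lit 3, nat_lit 0])) (.leaf ((nat_lit 286), [nat_lit 0, nat_lit 3, nat_lit 1]))))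
 (.node (nat_lit 2014) (.node (nat_lit 2013) (.leaf ((nat_lit 321), [nat_lit 1, nat_lit 1])) (.leaf ((nat_lit 267), [nat_lit 3]))) (.node (nat_lit 2015) (.leaf ((nat_lit 276), [nat_lit 3, nat_lit 1])) (.leaf ((nat_lit 276), [nat_lit 0, nat_lit 3, nat_lit 0]))))))))))
noncomputable def n0Wd : Tr (ℕ × List ℕ) := (.node (nat_lit 1008) (.node (nat_lit 504) (.node (nat_lit 252) n0Wd_0 n0Wd_1) (.node (nat_lit 756) n0Wd_2 n0Wd_3)) (.node (nat_lit 1512) (.node (nat_lit 1260) n0Wd_4 n0Wd_5) (.node (nat_lit 1764) n0Wd_6 n0Wd_7)))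
theorem n0q : allR 0 336 (dblChk (nat_lit 4) (nat_lit 15) (MG.gl42L.map Lev.b) MG.gl42T n0mT n0Dd (topN MG.gl42L) 336 9 n0PA n0Wd) = true := by decide +kernel
noncomputable def n0Ws : List (List ℕ) := [[nat_lit 1, nat_lit 1, nat_lit 3, nat_lit 0],
 [nat_lit 0, nat_lit 3, nat_lit 0],
 [nat_lit 1, nat_lit 3, nat_lit 0],
 [nat_lit 3, nat_lit 0],
 [],
 [nat_lit 1, nat_lit 1, nat_lit 2, nat_lit 1, nat_lit 1],
 [nat_lit 1, nat_lit 1, nat_lit 3, nat_lit 1, nat_lit 1],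
 [nat_lit 1, nat_lit 1, nat_lit 3, nat_lit 3, nat_lit 1, nat_lit 1],
 [nat_lit 1, nat_lit 1],
 [nat_lit 2, nat_lit 1, nat_lit 1],
 [nat_lit 3, nat_lit 3, nat_lit 1, nat_lit 1],
 [nat_lit 3, nat_lit 1, nat_lit 1],
 [nat_lit 1],
 [nat_lit 0, nat_lit 2, nat_lit 1, nat_lit 1],
 [nat_lit 0, nat_lit 3, nat_lit 1, nat_lit 1],
 [nat_lit 0, nat_lit 3, nat_lit 3, nat_lit 1, nat_lit 1],
 [nat_lit 0],
 [nat_lit 1, nat_lit 2, nat_lit 1, nat_lit 1],
 [nat_lit 1, nat_lit 3, nat_lit 3, nat_lit 1, nat_lit 1],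
 [nat_lit 1, nat_lit 3, nat_lit 1, nat_lit 1],
 [nat_lit 1, nat_lit 1, nat_lit 2],
 [nat_lit 2],
 [nat_lit 1, nat_lit 3, nat_lit 3, nat_lit 1],
 [nat_lit 0, nat_lit 3, nat_lit 3, nat_lit 1],
 [nat_lit 1, nat_lit 2],
 [nat_lit 0, nat_lit 2],
 [nat_lit 3, nat_lit 3, nat_lit 1],
 [nat_lit 1, nat_lit 1, nat_lit 3, nat_lit 3, nat_lit 1],
 [nat_lit 3, nat_lit 0, nat_lit 3, nat_lit 1],
 [nat_lit 0, nat_lit 3, nat_lit 3],
 [nat_lit 1, nat_lit 3],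
 [nat_lit 1, nat_lit 1, nat_lit 3, nat_lit 3, nat_lit 0],
 [nat_lit 1, nat_lit 2, nat_lit 1],
 [nat_lit 2, nat_lit 0],
 [nat_lit 3, nat_lit 0, nat_lit 3],
 [nat_lit 1, nat_lit 1, nat_lit 3, nat_lit 1],
 [nat_lit 1, nat_lit 3, nat_lit 0, nat_lit 3, nat_lit 1],
 [nat_lit 1, nat_lit 1, nat_lit 3],
 [nat_lit 3, nat_lit 3],
 [nat_lit 0, nat_lit 3, nat_lit 3, nat_lit 0],
 [nat_lit 1, nat_lit 2, nat_lit 0],
 [nat_lit 1, nat_lit 1, nat_lit 2, nat_lit 1],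
 [nat_lit 1, nat_lit 3, nat_lit 0, nat_lit 3],
 [nat_lit 0, nat_lit 3, nat_lit 1],
 [nat_lit 0, nat_lit 2, nat_lit 0],
 [nat_lit 2, nat_lit 1],
 [nat_lit 1, nat_lit 3, nat_lit 0, nat_lit 3, nat_lit 1, nat_lit 1],
 [nat_lit 1, nat_lit 3, nat_lit 1],
 [nat_lit 1, nat_lit 3, nat_lit 0, nat_lit 3, nat_lit 0],
 [nat_lit 1, nat_lit 3, nat_lit 3, nat_lit 0],
 [nat_lit 3],
 [nat_lit 1, nat_lit 1, nat_lit 3, nat_lit 3],
 [nat_lit 3, nat_lit 0, nat_lit 3, nat_lit 0],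
 [nat_lit 3, nat_lit 3, nat_lit 0],
 [nat_lit 0, nat_lit 3],
 [nat_lit 1, nat_lit 3, nat_lit 3],
 [nat_lit 0, nat_lit 2, nat_lit 1],
 [nat_lit 1, nat_lit 1, nat_lit 2, nat_lit 0],
 [nat_lit 3, nat_lit 0, nat_lit 3, nat_lit 1, nat_lit 1],
 [nat_lit 3, nat_lit 1]]
theorem n0Wsc : band (incr (fun w => keyB 15 (n0mL.map Lev.b) (apL (nat_lit 4) (nat_lit 15) n0mT w)) n0Ws 0) (Nat.ble (chainOrd 15 n0mL) n0Ws.length) = true := by decide +kernel
noncomputable def n0CE_0 : Tr (ℕ × List ℕ × List (List ℕ)) := (.node (nat_lit 67) (.node (nat_lit 33) (.node (nat_lit 16) (.node (nat_lit 8) (.node (nat_lit 4) (.node (nat_lit 2) (.node (nat_lit 1) (.leaf ((nat_lit 0), [nat_lit 1, nat_lit 1, nat_lit 3, nat_lit 0], [])) (.leaf ((nat_lit 0), [nat_lit 0, nat_lit 3, nat_lit 0], []))) (.node (nat_lit 3) (.leaf ((nat_lit 0), [nat_lit 1, nat_lit 3, nat_lit 0], [])) (.leaf ((nat_lit 0), [nat_lit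 3, nat_lit 0], []))))
 (.node (nat_lit 6) (.node (nat_lit 5) (.leaf ((nat_lit 0), [], [])) (.leaf ((nat_lit 0), [nat_lit 1, nat_lit 1, nat_lit 2, nat_lit 1, nat_lit 1], []))) (.node (nat_lit 7) (.leaf ((nat_lit 0), [nat_lit 1, nat_lit 1, nat_lit 3, nat_lit 1, nat_lit 1], [])) (.leaf ((nat_lit 0), [nat_lit 1, nat_lit 1, nat_lit 3, nat_lit 3, nat_lit 1, nat_lit 1], [])))))
 (.node (nat_lit 12) (.node (nat_lit 10) (.node (nat_lit 9) (.leaf ((nat_lit 0), [nat_lit 1, nat_lit 1], [])) (.leaf ((nat_lit 0), [nat_lit 2, nat_lit 1, nat_lit 1], []))) (.node (nat_lit 11) (.leaf ((nat_lit 0), [nat_lit 3, nat_lit 3, nat_lit 1, nat_lit 1], [])) (.leaf ((nat_lit 0), [nat_lit 3, nat_lit 1, nat_lit 1], []))))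
 (.node (nat_lit 14) (.node (nat_lit 13) (.leaf ((nat_lit 0), [nat_lit 1], [])) (.leaf ((nat_lit 0), [nat_lit 0, nat_lit 2, nat_lit 1, nat_lit 1], []))) (.node (nat_lit 15) (.leaf ((nat_lit 0), [nat_lit 0, nat_lit 3, nat_lit 1, nat_lit 1], [])) (.leaf ((nat_lit 0), [nat_lit 0, nat_lit 3, nat_lit 3, nat_lit 1, nat_lit 1], []))))))
 (.node (nat_lit 24) (.node (nat_lit 20) (.node (nat_lit 18) (.node (nat_lit 17) (.leaf ((nat_lit 0), [nat_lit 0], [])) (.leaf ((nat_lit 0), [nat_lit 1, nat_lit 2, nat_lit 1, nat_lit 1], []))) (.node (nat_lit 19) (.leaf ((nat_lit 0), [nat_lit 1, nat_lit 3, nat_lit 3, nat_lit 1, nat_lit 1], [])) (.leaf ((nat_lit 0), [nat_lit 1, nat_lit 3, nat_lit 1, nat_lit 1], []))))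
 (.node (nat_lit 22) (.node (nat_lit 21) (.leaf ((nat_lit 0), [nat_lit 1, nat_lit 1, nat_lit 2], [])) (.leaf ((nat_lit 0), [nat_lit 2], []))) (.node (nat_lit 23) (.leaf ((nat_lit 0), [nat_lit 1, nat_lit 3, nat_lit 3, nat_lit 1], [])) (.leaf ((nat_lit 0), [nat_lit 0, nat_lit 3, nat_lit 3, nat_lit 1], [])))))
 (.node (nat_lit 28) (.node (nat_lit 26) (.node (nat_lit 25) (.leaf ((nat_lit 0), [nat_lit 1, nat_lit 2], [])) (.leaf ((nat_lit 0), [nat_lit 0, nat_lit 2], []))) (.node (nat_lit 27) (.leaf ((nat_lit 0), [nat_lit 3, nat_lit 3, nat_lit 1], [])) (.leaf ((nat_lit 0), [nat_lit 1, nat_lit 1, nat_lit 3, nat_lit 3, nat_lit 1], []))))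
 (.node (nat_lit 30) (.node (nat_lit 29) (.leaf ((nat_lit 0), [nat_lit 3, nat_lit 0, nat_lit 3, nat_lit 1], [])) (.leaf ((nat_lit 0), [nat_lit 0, nat_lit 3, nat_lit 3], []))) (.node (nat_lit 31) (.leaf ((nat_lit 0), [nat_lit 1, nat_lit 3], [])) (.node (nat_lit 32) (.leaf ((nat_lit 0), [nat_lit 1, nat_lit 1, nat_lit 3, nat_lit 3, nat_lit 0], [])) (.leaf ((nat_lit 0), [nat_lit 1, nat_lit 2, nat_lit 1], []))))))))
 (.node (nat_lit 50) (.node (nat_lit 41) (.node (nat_lit 37) (.node (nat_lit 35) (.node (nat_lit 34) (.leaf ((nat_lit 0), [nat_lit 2, nat_lit 0], [])) (.leaf ((nat_lit 0), [nat_lit 3, nat_lit 0, nat_lit 3], []))) (.node (nat_lit 36) (.leaf ((nat_lit 0), [nat_lit 1, nat_lit 1, nat_lit 3, nat_lit 1], [])) (.leaf ((nat_lit 0), [nat_lit 1, nat_lit 3, nat_lit 0, nat_lit 3, nat_lit 1], []))))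
 (.node (nat_lit 39) (.node (nat_lit 38) (.leaf ((nat_lit 0), [nat_lit 1, nat_lit 1, nat_lit 3], [])) (.leaf ((nat_lit 0), [nat_lit 3, nat_lit 3], []))) (.node (nat_lit 40) (.leaf ((nat_lit 0), [nat_lit 0, nat_lit 3, nat_lit 3, nat_lit 0], [])) (.leaf ((nat_lit 0), [nat_lit 1, nat_lit 2, nat_lit 0], [])))))
 (.node (nat_lit 45) (.node (nat_lit 43) (.node (nat_lit 42) (.leaf ((nat_lit 0), [nat_lit 1, nat_lit 1, nat_lit 2, nat_lit 1], [])) (.leaf ((nat_lit 0), [nat_lit 1, nat_lit 3, nat_lit 0, nat_lit 3], []))) (.node (nat_lit 44) (.leaf ((nat_lit 0), [nat_lit 0, nat_lit 3, nat_lit 1], [])) (.leaf ((nat_lit 0), [nat_lit 0, nat_lit 2, nat_lit 0], []))))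
 (.node (nat_lit 47) (.node (nat_lit 46) (.leaf ((nat_lit 0), [nat_lit 2, nat_lit 1], [])) (.leaf ((nat_lit 0), [nat_lit 1, nat_lit 3, nat_lit 0, nat_lit 3, nat_lit 1, nat_lit 1], []))) (.node (nat_lit 48) (.leaf ((nat_lit 0), [nat_lit 1, nat_lit 3, nat_lit 1], [])) (.node (nat_lit 49) (.leaf ((nat_lit 0), [nat_lit 1, nat_lit 3, nat_lit 0, nat_lit 3, nat_lit 0], [])) (.leaf ((nat_lit 0), [nat_lit 1, nat_lit 3, nat_lit 3, nat_lit 0], [])))))))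
 (.node (nat_lit 58) (.node (nat_lit 54) (.node (nat_lit 52) (.node (nat_lit 51) (.leaf ((nat_lit 0), [nat_lit 3], [])) (.leaf ((nat_lit 0), [nat_lit 1, nat_lit 1, nat_lit 3, nat_lit 3], []))) (.node (nat_lit 53) (.leaf ((nat_lit 0), [nat_lit 3, nat_lit 0, nat_lit 3, nat_lit 0], [])) (.leaf ((nat_lit 0), [nat_lit 3, nat_lit 3, nat_lit 0], []))))
 (.node (nat_lit 56) (.node (nat_lit 55) (.leaf ((nat_lit 0), [nat_lit 0, nat_lit 3], [])) (.leaf ((nat_lit 0), [nat_lit 1, nat_lit 3, nat_lit 3], []))) (.node (nat_lit 57) (.leaf ((nat_lit 0), [nat_lit 0, nat_lit 2, nat_lit 1], [])) (.leaf ((nat_lit 0), [nat_lit 1, nat_lit 1, nat_lit 2, nat_lit 0], [])))))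
 (.node (nat_lit 62) (.node (nat_lit 60) (.node (nat_lit 59) (.leaf ((nat_lit 0), [nat_lit 3, nat_lit 0, nat_lit 3, nat_lit 1, nat_lit 1], [])) (.leaf ((nat_lit 0), [nat_lit 3, nat_lit 1], []))) (.node (nat_lit 61) (.leaf ((nat_lit 1), [nat_lit 2, nat_lit 1, nat_lit 0, nat_lit 5, nat_lit 4, nat_lit 0, nat_lit 3], [[nat_lit 99]])) (.leaf ((nat_lit 3), [nat_lit 2, nat_lit 0, nat_lit 5, nat_lit 1, nat_lit 0, nat_lit 4, nat_lit 3, nat_lit 0, nat_lit 3], [[nat_lit 0], [nat_lit 99]]))))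
 (.node (nat_lit 64) (.node (nat_lit 63) (.leaf ((nat_lit 3), [nat_lit 5, nat_lit 4, nat_lit 5, nat_lit 3, nat_lit 2, nat_lit 1, nat_lit 4, nat_lit 0, nat_lit 3, nat_lit 1, nat_lit 0], [[nat_lit 1, nat_lit 1], [nat_lit 99, nat_lit 1]])) (.leaf ((nat_lit 1), [nat_lit 4, nat_lit 0, nat_lit 5, nat_lit 0, nat_lit 4], [[nat_lit 99, nat_lit 99, nat_lit 0]]))) (.node (nat_lit 65) (.leaf ((nat_lit 3), [nat_lit 2, nat_lit 0, nat_lit 5, nat_lit 4, nat_lit 1, nat_lit 3, nat_lit 0], [[nat_lit 0, nat_lit 0], [nat_lit 99, nat_lit 1, nat_lit 99, nat_lit 0]])) (.node (nat_lit 66) (.leaf ((nat_lit 1), [nat_lit 2, nat_lit 1, nat_lit 5, nat_lit 4, nat_lit 2, nat_lit 0, nat_lit 3, nat_lit 2], [[nat_lit 99, nat_lit 1, nat_lit 99, nat_lit 0]])) (.leaf ((nat_lit 1), [nat_lit 2, nat_lit 5, nat_lit 2, nat_lit 4, nat_lit 0], [[nat_lit 99, nat_lit 0]])))))))))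
 (.node (nat_lit 101) (.node (nat_lit 84) (.node (nat_lit 75) (.node (nat_lit 71) (.node (nat_lit 69) (.node (nat_lit 68) (.leaf ((nat_lit 3), [nat_lit 2, nat_lit 0, nat_lit 5, nat_lit 4, nat_lit 1, nat_lit 3, nat_lit 0], [[nat_lit 0, nat_lit 0], [nat_lit 99, nat_lit 0, nat_lit 99, nat_lit 0]])) (.leaf ((nat_lit 3), [nat_lit 2, nat_lit 5, nat_lit 4, nat_lit 3, nat_lit 0, nat_lit 3, nat_lit 1, nat_lit 0], [[nat_lit 1, nat_lit 1], [nat_lit 99, nat_lit 99]]))) (.node (nat_lit 70) (.leaf ((nat_lit 1), [nat_lit 1, nat_lit 5, nat_lit 4, nat_lit 2, nat_lit 3, nat_lit 1, nat_lit 0], [[nat_lit 99, nat_lit 0]])) (.leaf ((nat_lit 3), [nat_lit 2, nat_lit 0, nat_lit 5, nat_lit 1, nat_lit 0, nat_lit 4, nat_lit 1, nat_lit 3, nat_lit 1], [[nat_lit 0, nat_lit 99, nat_lit 99], [nat_lit 99, nat_lit 99, nat_lit 0, nat_lit 0]]))))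
 (.node (nat_lit 73) (.node (nat_lit 72) (.leaf ((nat_lit 1), [nat_lit 5, nat_lit 4, nat_lit 5, nat_lit 2, nat_lit 4, nat_lit 0, nat_lit 3], [[nat_lit 99, nat_lit 99, nat_lit 99]])) (.leaf ((nat_lit 1), [nat_lit 4, nat_lit 0, nat_lit 5, nat_lit 2, nat_lit 3, nat_lit 2], [[nat_lit 99]]))) (.node (nat_lit 74) (.leaf ((nat_lit 1), [nat_lit 2, nat_lit 0, nat_lit 5, nat_lit 0, nat_lit 4, nat_lit 1, nat_lit 0, nat_lit 3], [[nat_lit 99]])) (.leaf ((nat_lit 1), [nat_lit 2, nat_lit 5, nat_lit 3, nat_lit 1, nat_lit 4, nat_lit 0], [[nat_lit 99, nat_lit 99, nat_lit 0]])))))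
 (.node (nat_lit 79) (.node (nat_lit 77) (.node (nat_lit 76) (.leaf ((nat_lit 1), [nat_lit 4, nat_lit 5, nat_lit 2, nat_lit 0, nat_lit 3, nat_lit 2], [[nat_lit 99, nat_lit 99, nat_lit 0]])) (.leaf ((nat_lit 1), [nat_lit 0, nat_lit 5, nat_lit 1, nat_lit 4, nat_lit 1, nat_lit 0], [[nat_lit 99, nat_lit 99, nat_lit 99]]))) (.node (nat_lit 78) (.leaf ((nat_lit 3), [nat_lit 2, nat_lit 1, nat_lit 5, nat_lit 2, nat_lit 4, nat_lit 3, nat_lit 0, nat_lit 3, nat_lit 1, nat_lit 0], [[nat_lit 99, nat_lit 0, nat_lit 99], [nat_lit 99, nat_lit 99, nat_lit 1]])) (.leaf ((nat_lit 1), [nat_lit 4, nat_lit 0, nat_lit 5, nat_lit 2, nat_lit 3, nat_lit 2], [[nat_lit 99, nat_lit 1]]))))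
 (.node (nat_lit 81) (.node (nat_lit 80) (.leaf ((nat_lit 1), [nat_lit 2, nat_lit 5, nat_lit 0, nat_lit 4, nat_lit 1, nat_lit 0], [[nat_lit 99, nat_lit 0]])) (.leaf ((nat_lit 1), [nat_lit 1, nat_lit 5, nat_lit 4, nat_lit 2, nat_lit 3, nat_lit 1, nat_lit 0], [[nat_lit 99]]))) (.node (nat_lit 82) (.leaf ((nat_lit 1), [nat_lit 5, nat_lit 1, nat_lit 4, nat_lit 1, nat_lit 0, nat_lit 3, nat_lit 2], [[nat_lit 99, nat_lit 99, nat_lit 1, nat_lit 1]])) (.node (nat_lit 83) (.leaf ((nat_lit 3), [nat_lit 5, nat_lit 4, nat_lit 5, nat_lit 4, nat_lit 0, nat_lit 4, nat_lit 0, nat_lit 3, nat_lit 2, nat_lit 1, nat_lit 0], [[nat_lit 0], [nat_lit 99, nat_lit 99]])) (.leaf ((nat_lit 3), [nat_lit 5, nat_lit 4, nat_lit 5, nat_lit 4, nat_lit 0, nat_lit 4, nat_lit 0, nat_lit 3, nat_lit 2, nat_lit 1, nat_lit 0], [[nat_lit 0], [nat_lit 99, nat_lit 99, nat_lit 0]])))))))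
 (.node (nat_lit 92) (.node (nat_lit 88) (.node (nat_lit 86) (.node (nat_lit 85) (.leaf ((nat_lit 1), [nat_lit 2, nat_lit 0, nat_lit 5, nat_lit 0, nat_lit 4, nat_lit 1, nat_lit 0, nat_lit 3], [[nat_lit 99, nat_lit 1]])) (.leaf ((nat_lit 3), [nat_lit 3, nat_lit 2, nat_lit 1, nat_lit 5, nat_lit 2, nat_lit 1, nat_lit 4, nat_lit 2, nat_lit 3, nat_lit 2], [[nat_lit 99, nat_lit 99, nat_lit 1], [nat_lit 99, nat_lit 0, nat_lit 99]]))) (.node (nat_lit 87) (.leaf ((nat_lit 1), [nat_lit 2, nat_lit 1, nat_lit 3, nat_lit 1, nat_lit 0], [[nat_lit 99, nat_lit 99, nat_lit 99]])) (.leaf ((nat_lit 1), [nat_lit 5, nat_lit 4, nat_lit 5, nat_lit 4, nat_lit 0, nat_lit 3, nat_lit 2, nat_lit 0], [[nat_lit 99, nat_lit 0]]))))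
 (.node (nat_lit 90) (.node (nat_lit 89) (.leaf ((nat_lit 1), [nat_lit 2, nat_lit 5, nat_lit 0, nat_lit 4, nat_lit 1, nat_lit 0], [[nat_lit 99]])) (.leaf ((nat_lit 1), [nat_lit 5, nat_lit 4, nat_lit 5, nat_lit 4, nat_lit 0, nat_lit 3, nat_lit 2, nat_lit 0], [[nat_lit 99]]))) (.node (nat_lit 91) (.leaf ((nat_lit 1), [nat_lit 5, nat_lit 3, nat_lit 0, nat_lit 3, nat_lit 2], [[nat_lit 99, nat_lit 99, nat_lit 1]])) (.leaf ((nat_lit 1), [nat_lit 0, nat_lit 4, nat_lit 3, nat_lit 2], [[nat_lit 99, nat_lit 99, nat_lit 1]])))))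
 (.node (nat_lit 96) (.node (nat_lit 94) (.node (nat_lit 93) (.leaf ((nat_lit 3), [nat_lit 4, nat_lit 5, nat_lit 2, nat_lit 0, nat_lit 4, nat_lit 0, nat_lit 3, nat_lit 1, nat_lit 0], [[nat_lit 0, nat_lit 0], [nat_lit 99]])) (.leaf ((nat_lit 1), [nat_lit 2, nat_lit 1, nat_lit 0, nat_lit 5, nat_lit 4, nat_lit 0, nat_lit 3], [[nat_lit 99, nat_lit 1]]))) (.node (nat_lit 95) (.leaf ((nat_lit 3), [nat_lit 2, nat_lit 5, nat_lit 1, nat_lit 0, nat_lit 4, nat_lit 1, nat_lit 3, nat_lit 1], [[nat_lit 1], [nat_lit 99, nat_lit 0]])) (.leaf ((nat_lit 1), [nat_lit 2, nat_lit 5, nat_lit 2, nat_lit 4, nat_lit 0, nat_lit 3], [[nat_lit 99, nat_lit 99, nat_lit 99]]))))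
 (.node (nat_lit 98) (.node (nat_lit 97) (.leaf ((nat_lit 1), [nat_lit 2, nat_lit 5, nat_lit 2, nat_lit 4, nat_lit 0], [[nat_lit 99]])) (.leaf ((nat_lit 1), [nat_lit 2, nat_lit 1, nat_lit 5, nat_lit 4, nat_lit 2, nat_lit 0, nat_lit 3, nat_lit 2], [[nat_lit 99, nat_lit 99, nat_lit 0, nat_lit 0]]))) (.node (nat_lit 99) (.leaf ((nat_lit 3), [nat_lit 2, nat_lit 5, nat_lit 4, nat_lit 0, nat_lit 4, nat_lit 0, nat_lit 3, nat_lit 0], [[nat_lit 0], [nat_lit 99, nat_lit 99, nat_lit 0]])) (.node (nat_lit 100) (.leaf ((nat_lit 3), [nat_lit 4, nat_lit 5, nat_lit 4, nat_lit 0, nat_lit 4, nat_lit 2], [[nat_lit 1], [nat_lit 99, nat_lit 99]])) (.leaf ((nat_lit 3), [nat_lit 2, nat_lit 0, nat_lit 5, nat_lit 1, nat_lit 0, nat_lit 4, nat_lit 3, nat_lit 0, nat_lit 3], [[nat_lit 0], [nat_lit 99, nat_lit 1]]))))))))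
 (.node (nat_lit 118) (.node (nat_lit 109) (.node (nat_lit 105) (.node (nat_lit 103) (.node (nat_lit 102) (.leaf ((nat_lit 1), [nat_lit 4, nat_lit 5, nat_lit 3, nat_lit 0, nat_lit 3, nat_lit 2, nat_lit 0], [[nat_lit 99, nat_lit 0]])) (.leaf ((nat_lit 1), [nat_lit 2, nat_lit 1, nat_lit 5, nat_lit 0, nat_lit 4, nat_lit 3, nat_lit 2], [[nat_lit 99, nat_lit 99, nat_lit 99]]))) (.node (nat_lit 104) (.leaf ((nat_lit 3), [nat_lit 5, nat_lit 4, nat_lit 5, nat_lit 3, nat_lit 2, nat_lit 1, nat_lit 4, nat_lit 0, nat_lit 3, nat_lit 1, nat_lit 0], [[nat_lit 1, nat_lit 1], [nat_lit 99]])) (.leaf ((nat_lit 3), [nat_lit 4, nat_lit 5, nat_lit 2, nat_lit 0, nat_lit 4, nat_lit 0, nat_lit 3, nat_lit 1, nat_lit 0], [[nat_lit 0, nat_lit 0], [nat_lit 99, nat_lit 0, nat_lit 0]]))))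
 (.node (nat_lit 107) (.node (nat_lit 106) (.leaf ((nat_lit 1), [nat_lit 3, nat_lit 2, nat_lit 1, nat_lit 4, nat_lit 2, nat_lit 0, nat_lit 3, nat_lit 0], [[nat_lit 99, nat_lit 99, nat_lit 0, nat_lit 0]])) (.leaf ((nat_lit 1), [nat_lit 4, nat_lit 5, nat_lit 3, nat_lit 0, nat_lit 3, nat_lit 2, nat_lit 0], [[nat_lit 99, nat_lit 0, nat_lit 0]]))) (.node (nat_lit 108) (.leaf ((nat_lit 3), [nat_lit 2, nat_lit 0, nat_lit 5, nat_lit 1, nat_lit 0, nat_lit 4, nat_lit 3, nat_lit 0, nat_lit 3], [[nat_lit 0], [nat_lit 99, nat_lit 0]])) (.leaf ((nat_lit 1), [nat_lit 5, nat_lit 1, nat_lit 4, nat_lit 3, nat_lit 0, nat_lit 3, nat_lit 2, nat_lit 1], [[nat_lit 99, nat_lit 99, nat_lit 99]])))))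
 (.node (nat_lit 113) (.node (nat_lit 111) (.node (nat_lit 110) (.leaf ((nat_lit 3), [nat_lit 2, nat_lit 0, nat_lit 5, nat_lit 4, nat_lit 1, nat_lit 3, nat_lit 0], [[nat_lit 0, nat_lit 0], [nat_lit 99, nat_lit 99]])) (.leaf ((nat_lit 1), [nat_lit 2, nat_lit 5, nat_lit 2, nat_lit 4, nat_lit 0], [[nat_lit 99, nat_lit 1]]))) (.node (nat_lit 112) (.leaf ((nat_lit 3), [nat_lit 2, nat_lit 0, nat_lit 5, nat_lit 4, nat_lit 1, nat_lit 3, nat_lit 0], [[nat_lit 0, nat_lit 0], [nat_lit 99, nat_lit 99, nat_lit 0, nat_lit 0]])) (.leaf ((nat_lit 1), [nat_lit 2, nat_lit 5, nat_lit 4, nat_lit 0, nat_lit 4, nat_lit 2, nat_lit 3], [[nat_lit 99, nat_lit 99, nat_lit 0]]))))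
 (.node (nat_lit 115) (.node (nat_lit 114) (.leaf ((nat_lit 1), [nat_lit 5, nat_lit 4, nat_lit 5, nat_lit 4, nat_lit 0, nat_lit 3, nat_lit 2, nat_lit 0], [[nat_lit 99, nat_lit 0, nat_lit 0]])) (.leaf ((nat_lit 1), [nat_lit 2, nat_lit 0, nat_lit 5, nat_lit 0, nat_lit 4, nat_lit 1, nat_lit 0, nat_lit 3], [[nat_lit 99, nat_lit 0]]))) (.node (nat_lit 116) (.leaf ((nat_lit 1), [nat_lit 2, nat_lit 0, nat_lit 5, nat_lit 2, nat_lit 4, nat_lit 3], [[nat_lit 99, nat_lit 99, nat_lit 99, nat_lit 0]])) (.node (nat_lit 117) (.leaf ((nat_lit 3), [nat_lit 2, nat_lit 5, nat_lit 1, nat_lit 0, nat_lit 4, nat_lit 1, nat_lit 3, nat_lit 1], [[nat_lit 1], [nat_lit 99]])) (.leaf ((nat_lit 1), [nat_lit 4, nat_lit 5, nat_lit 4, nat_lit 2, nat_lit 1, nat_lit 3, nat_lit 2], [[nat_lit 99, nat_lit 99, nat_lit 1]])))))))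
 (.node (nat_lit 126) (.node (nat_lit 122) (.node (nat_lit 120) (.node (nat_lit 119) (.leaf ((nat_lit 3), [nat_lit 4, nat_lit 5, nat_lit 2, nat_lit 0, nat_lit 4, nat_lit 0, nat_lit 3, nat_lit 1, nat_lit 0], [[nat_lit 0, nat_lit 0], [nat_lit 99, nat_lit 0]])) (.leaf ((nat_lit 1), [nat_lit 4, nat_lit 5, nat_lit 3, nat_lit 0, nat_lit 3, nat_lit 2, nat_lit 0], [[nat_lit 99]]))) (.node (nat_lit 121) (.leaf ((nat_lit 1), [nat_lit 2, nat_lit 0, nat_lit 5, nat_lit 3, nat_lit 1, nat_lit 4], [[nat_lit 99, nat_lit 99, nat_lit 0]])) (.leaf ((nat_lit 1), [nat_lit 2, nat_lit 1, nat_lit 5, nat_lit 2, nat_lit 1, nat_lit 4, nat_lit 1], [[nat_lit 99]]))))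
 (.node (nat_lit 124) (.node (nat_lit 123) (.leaf ((nat_lit 1), [nat_lit 2, nat_lit 0, nat_lit 5, nat_lit 4, nat_lit 2, nat_lit 3], [[nat_lit 99]])) (.leaf ((nat_lit 1), [nat_lit 5, nat_lit 3, nat_lit 1, nat_lit 0, nat_lit 4, nat_lit 1, nat_lit 3, nat_lit 2], [[nat_lit 99, nat_lit 1]]))) (.node (nat_lit 125) (.leaf ((nat_lit 2), [nat_lit 2, nat_lit 1, nat_lit 0, nat_lit 5, nat_lit 4, nat_lit 0, nat_lit 4, nat_lit 2, nat_lit 0, nat_lit 3, nat_lit 2], [[nat_lit 99, nat_lit 0, nat_lit 0, nat_lit 99, nat_lit 0, nat_lit 0], [nat_lit 0, nat_lit 99, nat_lit 1, nat_lit 99, nat_lit 1]])) (.leaf ((nat_lit 1), [nat_lit 4, nat_lit 2, nat_lit 1, nat_lit 4, nat_lit 2, nat_lit 1, nat_lit 0, nat_lit 3], [[nat_lit 99, nat_lit 0, nat_lit 0]])))))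
 (.node (nat_lit 130) (.node (nat_lit 128) (.node (nat_lit 127) (.leaf ((nat_lit 1), [nat_lit 1, nat_lit 0, nat_lit 5, nat_lit 2, nat_lit 4], [[nat_lit 99, nat_lit 0, nat_lit 0]])) (.leaf ((nat_lit 3), [nat_lit 3, nat_lit 1, nat_lit 5, nat_lit 4, nat_lit 2, nat_lit 1, nat_lit 4, nat_lit 3, nat_lit 1], [[nat_lit 0, nat_lit 99, nat_lit 1, nat_lit 99, nat_lit 1], [nat_lit 99, nat_lit 0, nat_lit 0, nat_lit 99, nat_lit 0, nat_lit 0]]))) (.node (nat_lit 129) (.leaf ((nat_lit 3), [nat_lit 2, nat_lit 5, nat_lit 3, nat_lit 1, nat_lit 0, nat_lit 4, nat_lit 2, nat_lit 1, nat_lit 0, nat_lit 3, nat_lit 2], [[nat_lit 99, nat_lit 1, nat_lit 99, nat_lit 0], [nat_lit 0, nat_lit 99, nat_lit 99, nat_lit 1]])) (.leaf ((nat_lit 1), [nat_lit 4, nat_lit 5, nat_lit 0, nat_lit 4, nat_lit 0], [[nat_lit 99]]))))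
 (.node (nat_lit 132) (.node (nat_lit 131) (.leaf ((nat_lit 2), [nat_lit 5, nat_lit 4, nat_lit 3, nat_lit 2, nat_lit 3, nat_lit 2, nat_lit 0], [[nat_lit 1, nat_lit 99, nat_lit 99, nat_lit 0], [nat_lit 99, nat_lit 0, nat_lit 99, nat_lit 1]])) (.leaf ((nat_lit 1), [nat_lit 4, nat_lit 2, nat_lit 1, nat_lit 4, nat_lit 2, nat_lit 1, nat_lit 0, nat_lit 3], [[nat_lit 99]]))) (.node (nat_lit 133) (.leaf ((nat_lit 2), [nat_lit 1, nat_lit 5, nat_lit 0, nat_lit 4, nat_lit 2, nat_lit 1], [[nat_lit 99, nat_lit 99, nat_lit 1, nat_lit 99, nat_lit 0], [nat_lit 0, nat_lit 99, nat_lit 99, nat_lit 99]])) (.node (nat_lit 134) (.leaf ((nat_lit 1), [nat_lit 3, nat_lit 2, nat_lit 1, nat_lit 4, nat_lit 2, nat_lit 0, nat_lit 3, nat_lit 0], [[nat_lit 99, nat_lit 0]])) (.leaf ((nat_lit 1), [nat_lit 2, nat_lit 1, nat_lit 5, nat_lit 2, nat_lit 4], [[nat_lit 99, nat_lit 99, nat_lit 0]]))))))))))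
noncomputable def n0CE_1 : Tr (ℕ × List ℕ × List (List ℕ)) := (.node (nat_lit 202) (.node (nat_lit 168) (.node (nat_lit 151) (.node (nat_lit 143) (.node (nat_lit 139) (.node (nat_lit 137) (.node (nat_lit 136) (.leaf ((nat_lit 2), [nat_lit 0, nat_lit 4, nat_lit 0, nat_lit 3, nat_lit 2], [[nat_lit 99, nat_lit 99, nat_lit 1, nat_lit 99, nat_lit 0], [nat_lit 0, nat_lit 0]])) (.leaf ((nat_lit 3), [nat_lit 4, nat_lit 5, nat_lit 4, nat_lit 3, nat_lit 2, nat_lit 3, nat_lit 0], [[nat_lit 1, nat_lit 1, nat_lit 99, nat_lit 99], [nat_lit 99, nat_lit 99, nat_lit 0, nat_lit 99, nat_lit 0, nat_lit 0]]))) (.node (nat_lit 138) (.leaf ((nat_lit 1), [nat_lit 3, nat_lit 1, nat_lit 0, nat_lit 4, nat_lit 1, nat_lit 0, nat_lit 3, nat_lit 1], [[nat_lit 99, nat_lit 99, nat_lit 0]])) (.leaf ((nat_lit 2), [nat_lit 1, nat_lit 4, nat_lit 3, nat_lit 1, nat_lit 0], [[nat_lit 99, nat_lit 99, nat_lit 1,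 nat_lit 99, nat_lit 0, nat_lit 0], [nat_lit 1, nat_lit 1, nat_lit 99, nat_lit 0, nat_lit 0]]))))
 (.node (nat_lit 141) (.node (nat_lit 140) (.leaf ((nat_lit 1), [nat_lit 1, nat_lit 5, nat_lit 2, nat_lit 3, nat_lit 2, nat_lit 0], [[nat_lit 99]])) (.leaf ((nat_lit 1), [nat_lit 4, nat_lit 5, nat_lit 0, nat_lit 4, nat_lit 0], [[nat_lit 99, nat_lit 1]]))) (.node (nat_lit 142) (.leaf ((nat_lit 1), [nat_lit 4, nat_lit 2, nat_lit 1, nat_lit 4, nat_lit 2, nat_lit 1, nat_lit 0, nat_lit 3], [[nat_lit 99, nat_lit 0]])) (.leaf ((nat_lit 3), [nat_lit 2, nat_lit 1, nat_lit 5, nat_lit 3, nat_lit 2, nat_lit 1, nat_lit 4, nat_lit 2, nat_lit 1, nat_lit 0, nat_lit 3, nat_lit 2, nat_lit 0], [[nat_lit 0, nat_lit 99, nat_lit 99, nat_lit 0], [nat_lit 99, nat_lit 1, nat_lit 99]])))))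
 (.node (nat_lit 147) (.node (nat_lit 145) (.node (nat_lit 144) (.leaf ((nat_lit 2), [nat_lit 5, nat_lit 1, nat_lit 4, nat_lit 2, nat_lit 0, nat_lit 3, nat_lit 2, nat_lit 0], [[nat_lit 99, nat_lit 0, nat_lit 99], [nat_lit 1, nat_lit 99, nat_lit 99, nat_lit 1]])) (.leaf ((nat_lit 1), [nat_lit 3, nat_lit 2, nat_lit 1, nat_lit 4, nat_lit 2, nat_lit 0, nat_lit 3, nat_lit 0], [[nat_lit 99]]))) (.node (nat_lit 146) (.leaf ((nat_lit 1), [nat_lit 0], [[nat_lit 99, nat_lit 99, nat_lit 1]])) (.leaf ((nat_lit 3), [nat_lit 5, nat_lit 0, nat_lit 3, nat_lit 2], [[nat_lit 0, nat_lit 0], [nat_lit 99, nat_lit 99, nat_lit 1, nat_lit 99, nat_lit 0, nat_lit 0]]))))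
 (.node (nat_lit 149) (.node (nat_lit 148) (.leaf ((nat_lit 2), [nat_lit 2, nat_lit 0, nat_lit 5, nat_lit 4, nat_lit 1, nat_lit 3], [[nat_lit 99, nat_lit 99, nat_lit 0, nat_lit 99, nat_lit 0, nat_lit 0], [nat_lit 99, nat_lit 1, nat_lit 1]])) (.leaf ((nat_lit 1), [nat_lit 1, nat_lit 5, nat_lit 2, nat_lit 3, nat_lit 2, nat_lit 0], [[nat_lit 99, nat_lit 1]]))) (.node (nat_lit 150) (.leaf ((nat_lit 3), [nat_lit 0, nat_lit 5, nat_lit 1, nat_lit 4, nat_lit 2, nat_lit 0], [[nat_lit 0, nat_lit 99, nat_lit 0], [nat_lit 99, nat_lit 99, nat_lit 1, nat_lit 99, nat_lit 0]])) (.leaf ((nat_lit 1), [nat_lit 3, nat_lit 2, nat_lit 1, nat_lit 5, nat_lit 4, nat_lit 1, nat_lit 0], [[nat_lit 99, nat_lit 99, nat_lit 1]]))))))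
 (.node (nat_lit 159) (.node (nat_lit 155) (.node (nat_lit 153) (.node (nat_lit 152) (.leaf ((nat_lit 3), [nat_lit 2, nat_lit 1, nat_lit 0, nat_lit 4, nat_lit 1], [[nat_lit 99, nat_lit 1], [nat_lit 99, nat_lit 99, nat_lit 1, nat_lit 99, nat_lit 0]])) (.leaf ((nat_lit 1), [nat_lit 4, nat_lit 0, nat_lit 5, nat_lit 0, nat_lit 3, nat_lit 2, nat_lit 0], [[nat_lit 99, nat_lit 1]]))) (.node (nat_lit 154) (.leaf ((nat_lit 1), [nat_lit 5, nat_lit 2, nat_lit 4, nat_lit 2, nat_lit 1, nat_lit 3], [[nat_lit 99, nat_lit 99, nat_lit 1]])) (.leaf ((nat_lit 1), [nat_lit 4, nat_lit 0, nat_lit 5, nat_lit 1, nat_lit 0, nat_lit 4], [[nat_lit 99, nat_lit 0]]))))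
 (.node (nat_lit 157) (.node (nat_lit 156) (.leaf ((nat_lit 1), [nat_lit 5, nat_lit 3, nat_lit 1, nat_lit 0, nat_lit 4, nat_lit 1, nat_lit 3, nat_lit 2], [[nat_lit 99]])) (.leaf ((nat_lit 1), [nat_lit 1, nat_lit 0, nat_lit 5, nat_lit 2, nat_lit 4], [[nat_lit 99, nat_lit 0]]))) (.node (nat_lit 158) (.leaf ((nat_lit 1), [nat_lit 4, nat_lit 2, nat_lit 1, nat_lit 4, nat_lit 1, nat_lit 3, nat_lit 2], [[nat_lit 99, nat_lit 1]])) (.leaf ((nat_lit 2), [nat_lit 2, nat_lit 4, nat_lit 2], [[nat_lit 99, nat_lit 1, nat_lit 99], [nat_lit 0, nat_lit 99, nat_lit 99, nat_lit 0]])))))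
 (.node (nat_lit 163) (.node (nat_lit 161) (.node (nat_lit 160) (.leaf ((nat_lit 3), [nat_lit 2, nat_lit 1, nat_lit 0, nat_lit 5, nat_lit 3, nat_lit 2, nat_lit 1, nat_lit 4, nat_lit 1, nat_lit 3, nat_lit 2, nat_lit 0], [[nat_lit 1, nat_lit 99, nat_lit 99, nat_lit 1], [nat_lit 99, nat_lit 0, nat_lit 99]])) (.leaf ((nat_lit 1), [nat_lit 2, nat_lit 1, nat_lit 5, nat_lit 2, nat_lit 1, nat_lit 4, nat_lit 1], [[nat_lit 99, nat_lit 1]]))) (.node (nat_lit 162) (.leaf ((nat_lit 1), [nat_lit 5, nat_lit 2, nat_lit 4, nat_lit 3, nat_lit 2, nat_lit 3], [[nat_lit 99, nat_lit 99, nat_lit 0]])) (.leaf ((nat_lit 1), [nat_lit 5, nat_lit 4, nat_lit 2, nat_lit 1, nat_lit 4, nat_lit 3, nat_lit 2], [[nat_lit 99]]))))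
 (.node (nat_lit 165) (.node (nat_lit 164) (.leaf ((nat_lit 1), [nat_lit 2, nat_lit 0, nat_lit 5, nat_lit 4, nat_lit 2, nat_lit 3], [[nat_lit 99, nat_lit 0]])) (.leaf ((nat_lit 1), [nat_lit 4, nat_lit 0, nat_lit 5, nat_lit 0, nat_lit 3, nat_lit 2, nat_lit 0], [[nat_lit 99, nat_lit 0]]))) (.node (nat_lit 166) (.leaf ((nat_lit 1), [nat_lit 5, nat_lit 3, nat_lit 1, nat_lit 0, nat_lit 4, nat_lit 1, nat_lit 3, nat_lit 2], [[nat_lit 99, nat_lit 0]])) (.node (nat_lit 167) (.leaf ((nat_lit 1), [nat_lit 0, nat_lit 5, nat_lit 3, nat_lit 1, nat_lit 4, nat_lit 2, nat_lit 0, nat_lit 3, nat_lit 2], [[nat_lit 99, nat_lit 99, nat_lit 0, nat_lit 0]])) (.leaf ((nat_lit 1), [nat_lit 2, nat_lit 1, nat_lit 5, nat_lit 2, nat_lit 1, nat_lit 4, nat_lit 1], [[nat_lit 99, nat_lit 0]]))))))))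
 (.node (nat_lit 185) (.node (nat_lit 176) (.node (nat_lit 172) (.node (nat_lit 170) (.node (nat_lit 169) (.leaf ((nat_lit 1), [nat_lit 4, nat_lit 2, nat_lit 1, nat_lit 4, nat_lit 1, nat_lit 3, nat_lit 2], [[nat_lit 99]])) (.leaf ((nat_lit 3), [nat_lit 2, nat_lit 0, nat_lit 5, nat_lit 3, nat_lit 2, nat_lit 3, nat_lit 2], [[nat_lit 99, nat_lit 0, nat_lit 99, nat_lit 1], [nat_lit 1, nat_lit 99, nat_lit 99, nat_lit 0]]))) (.node (nat_lit 171) (.leaf ((nat_lit 1), [nat_lit 1, nat_lit 0, nat_lit 5, nat_lit 2, nat_lit 4], [[nat_lit 99]])) (.leaf ((nat_lit 2), [nat_lit 2, nat_lit 5, nat_lit 3, nat_lit 2, nat_lit 1, nat_lit 4, nat_lit 2, nat_lit 1, nat_lit 3], [[nat_lit 0, nat_lit 99, nat_lit 99, nat_lit 1], [nat_lit 99, nat_lit 1, nat_lit 99, nat_lit 0]]))))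
 (.node (nat_lit 174) (.node (nat_lit 173) (.leaf ((nat_lit 1), [nat_lit 2, nat_lit 5, nat_lit 2, nat_lit 4, nat_lit 1], [[nat_lit 99, nat_lit 99, nat_lit 0]])) (.leaf ((nat_lit 2), [nat_lit 2, nat_lit 0, nat_lit 4, nat_lit 0], [[nat_lit 99, nat_lit 1, nat_lit 99, nat_lit 0, nat_lit 99, nat_lit 0, nat_lit 0], [nat_lit 99, nat_lit 99, nat_lit 1, nat_lit 99, nat_lit 0]]))) (.node (nat_lit 175) (.leaf ((nat_lit 1), [nat_lit 3, nat_lit 2, nat_lit 1, nat_lit 4, nat_lit 2, nat_lit 0, nat_lit 3, nat_lit 0], [[nat_lit 99, nat_lit 0, nat_lit 0]])) (.leaf ((nat_lit 3), [nat_lit 4, nat_lit 0, nat_lit 4, nat_lit 2, nat_lit 3], [[nat_lit 1, nat_lit 99, nat_lit 1, nat_lit 99], [nat_lit 99, nat_lit 1, nat_lit 99, nat_lit 0, nat_lit 99, nat_lit 0, nat_lit 0]])))))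
 (.node (nat_lit 180) (.node (nat_lit 178) (.node (nat_lit 177) (.leaf ((nat_lit 1), [nat_lit 4, nat_lit 0, nat_lit 5, nat_lit 1, nat_lit 0, nat_lit 4], [[nat_lit 99]])) (.leaf ((nat_lit 1), [nat_lit 5, nat_lit 4, nat_lit 2, nat_lit 1, nat_lit 4, nat_lit 3, nat_lit 2], [[nat_lit 99, nat_lit 0]]))) (.node (nat_lit 179) (.leaf ((nat_lit 1), [nat_lit 4, nat_lit 0, nat_lit 5, nat_lit 0, nat_lit 3, nat_lit 2, nat_lit 0], [[nat_lit 99]])) (.leaf ((nat_lit 1), [nat_lit 4, nat_lit 5, nat_lit 2, nat_lit 0, nat_lit 3, nat_lit 2, nat_lit 1, nat_lit 0], [[nat_lit 99, nat_lit 99, nat_lit 1]]))))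
 (.node (nat_lit 182) (.node (nat_lit 181) (.leaf ((nat_lit 1), [nat_lit 1, nat_lit 5, nat_lit 2, nat_lit 4, nat_lit 3, nat_lit 2, nat_lit 3], [[nat_lit 99, nat_lit 99, nat_lit 99, nat_lit 1]])) (.leaf ((nat_lit 1), [nat_lit 3, nat_lit 1, nat_lit 5, nat_lit 3, nat_lit 1, nat_lit 4, nat_lit 2, nat_lit 1], [[nat_lit 99, nat_lit 0]]))) (.node (nat_lit 183) (.leaf ((nat_lit 1), [nat_lit 1, nat_lit 5, nat_lit 2, nat_lit 1, nat_lit 0, nat_lit 4, nat_lit 1], [[nat_lit 99, nat_lit 1, nat_lit 1]])) (.node (nat_lit 184) (.leaf ((nat_lit 1), [nat_lit 2, nat_lit 1, nat_lit 0, nat_lit 5, nat_lit 2, nat_lit 3, nat_lit 2, nat_lit 1], [[nat_lit 99, nat_lit 99, nat_lit 0, nat_lit 99, nat_lit 0, nat_lit 0]])) (.leaf ((nat_lit 1), [nat_lit 2, nat_lit 5, nat_lit 4, nat_lit 1, nat_lit 3, nat_lit 1, nat_lit 0], [[nat_lit 99, nat_lit 1, nat_lit 1]])))))))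
 (.node (nat_lit 193) (.node (nat_lit 189) (.node (nat_lit 187) (.node (nat_lit 186) (.leaf ((nat_lit 1), [nat_lit 3, nat_lit 2, nat_lit 1, nat_lit 5, nat_lit 2, nat_lit 4], [[nat_lit 99, nat_lit 0, nat_lit 0]])) (.leaf ((nat_lit 1), [nat_lit 4, nat_lit 5, nat_lit 2, nat_lit 4], [[nat_lit 99, nat_lit 99, nat_lit 99, nat_lit 1]]))) (.node (nat_lit 188) (.leaf ((nat_lit 1), [nat_lit 5, nat_lit 0, nat_lit 4, nat_lit 3, nat_lit 0, nat_lit 3, nat_lit 0], [[nat_lit 99, nat_lit 1, nat_lit 99, nat_lit 99, nat_lit 0]])) (.leaf ((nat_lit 1), [nat_lit 5, nat_lit 0, nat_lit 4, nat_lit 3, nat_lit 2, nat_lit 3], [[nat_lit 99, nat_lit 1, nat_lit 99, nat_lit 99, nat_lit 0]]))))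
 (.node (nat_lit 191) (.node (nat_lit 190) (.leaf ((nat_lit 1), [nat_lit 4, nat_lit 0, nat_lit 4, nat_lit 1, nat_lit 3, nat_lit 2], [[nat_lit 99, nat_lit 99, nat_lit 0, nat_lit 99, nat_lit 0]])) (.leaf ((nat_lit 1), [nat_lit 2, nat_lit 5, nat_lit 4, nat_lit 1, nat_lit 3, nat_lit 1, nat_lit 0], [[nat_lit 99, nat_lit 0, nat_lit 0]]))) (.node (nat_lit 192) (.leaf ((nat_lit 1), [nat_lit 3, nat_lit 2, nat_lit 1, nat_lit 5, nat_lit 2, nat_lit 4], [[nat_lit 99]])) (.leaf ((nat_lit 1), [nat_lit 5, nat_lit 4, nat_lit 1, nat_lit 3, nat_lit 1, nat_lit 0], [[nat_lit 99, nat_lit 99, nat_lit 99, nat_lit 1, nat_lit 1]])))))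
 (.node (nat_lit 197) (.node (nat_lit 195) (.node (nat_lit 194) (.leaf ((nat_lit 1), [nat_lit 1, nat_lit 5, nat_lit 4, nat_lit 2, nat_lit 1, nat_lit 4, nat_lit 3], [[nat_lit 99, nat_lit 99, nat_lit 1]])) (.leaf ((nat_lit 1), [nat_lit 3, nat_lit 1, nat_lit 5, nat_lit 0, nat_lit 4, nat_lit 2, nat_lit 0], [[nat_lit 99, nat_lit 1]]))) (.node (nat_lit 196) (.leaf ((nat_lit 1), [nat_lit 1, nat_lit 5, nat_lit 0, nat_lit 4, nat_lit 3], [[nat_lit 99]])) (.leaf ((nat_lit 1), [nat_lit 1, nat_lit 5, nat_lit 0, nat_lit 4, nat_lit 3], [[nat_lit 99, nat_lit 0]]))))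
 (.node (nat_lit 199) (.node (nat_lit 198) (.leaf ((nat_lit 1), [nat_lit 3, nat_lit 1, nat_lit 5, nat_lit 0, nat_lit 4, nat_lit 2, nat_lit 0], [[nat_lit 99, nat_lit 0]])) (.leaf ((nat_lit 1), [nat_lit 4, nat_lit 5, nat_lit 1, nat_lit 3, nat_lit 2, nat_lit 0], [[nat_lit 99, nat_lit 99, nat_lit 0, nat_lit 99, nat_lit 0]]))) (.node (nat_lit 200) (.leaf ((nat_lit 1), [nat_lit 5, nat_lit 4, nat_lit 5, nat_lit 0, nat_lit 4, nat_lit 1, nat_lit 0], [[nat_lit 99, nat_lit 99, nat_lit 0]])) (.node (nat_lit 201) (.leaf ((nat_lit 1), [nat_lit 5, nat_lit 4, nat_lit 2, nat_lit 1, nat_lit 0], [[nat_lit 99, nat_lit 99, nat_lit 99]])) (.leaf ((nat_lit 1), [nat_lit 3, nat_lit 2, nat_lit 1, nat_lit 5, nat_lit 2, nat_lit 4], [[nat_lit 99, nat_lit 0]])))))))))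
 (.node (nat_lit 236) (.node (nat_lit 219) (.node (nat_lit 210) (.node (nat_lit 206) (.node (nat_lit 204) (.node (nat_lit 203) (.leaf ((nat_lit 1), [nat_lit 2, nat_lit 5, nat_lit 4, nat_lit 1, nat_lit 3, nat_lit 1, nat_lit 0], [[nat_lit 99]])) (.leaf ((nat_lit 1), [nat_lit 2, nat_lit 1, nat_lit 0, nat_lit 4, nat_lit 2, nat_lit 1], [[nat_lit 99, nat_lit 99, nat_lit 1, nat_lit 99, nat_lit 0, nat_lit 0]]))) (.node (nat_lit 205) (.leaf ((nat_lit 1), [nat_lit 5, nat_lit 4, nat_lit 5, nat_lit 0, nat_lit 4, nat_lit 1, nat_lit 0], [[nat_lit 99, nat_lit 0, nat_lit 99, nat_lit 0, nat_lit 0]])) (.leaf ((nat_lit 1), [nat_lit 3, nat_lit 1, nat_lit 5, nat_lit 0, nat_lit 4, nat_lit 2, nat_lit 0], [[nat_lit 99]]))))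
 (.node (nat_lit 208) (.node (nat_lit 207) (.leaf ((nat_lit 1), [nat_lit 1, nat_lit 5, nat_lit 0, nat_lit 4, nat_lit 3], [[nat_lit 99, nat_lit 1, nat_lit 1]])) (.leaf ((nat_lit 1), [nat_lit 2, nat_lit 0, nat_lit 5, nat_lit 3, nat_lit 2, nat_lit 1, nat_lit 4], [[nat_lit 99, nat_lit 99, nat_lit 99]]))) (.node (nat_lit 209) (.leaf ((nat_lit 1), [nat_lit 2, nat_lit 1, nat_lit 5, nat_lit 0, nat_lit 4], [[nat_lit 99, nat_lit 99, nat_lit 1]])) (.leaf ((nat_lit 1), [nat_lit 4, nat_lit 5, nat_lit 3, nat_lit 1, nat_lit 4, nat_lit 0], [[nat_lit 99, nat_lit 99, nat_lit 99, nat_lit 1]])))))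
 (.node (nat_lit 214) (.node (nat_lit 212) (.node (nat_lit 211) (.leaf ((nat_lit 1), [nat_lit 3, nat_lit 1, nat_lit 5, nat_lit 0, nat_lit 4, nat_lit 2, nat_lit 0], [[nat_lit 99, nat_lit 0, nat_lit 0]])) (.leaf ((nat_lit 1), [nat_lit 1, nat_lit 5, nat_lit 0, nat_lit 4, nat_lit 3], [[nat_lit 99, nat_lit 1]]))) (.node (nat_lit 213) (.leaf ((nat_lit 1), [nat_lit 1, nat_lit 5, nat_lit 2, nat_lit 1, nat_lit 0, nat_lit 4, nat_lit 1], [[nat_lit 99]])) (.leaf ((nat_lit 1), [nat_lit 1, nat_lit 5, nat_lit 1, nat_lit 4, nat_lit 2], [[nat_lit 99, nat_lit 99, nat_lit 99, nat_lit 99, nat_lit 0, nat_lit 0]]))))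
 (.node (nat_lit 216) (.node (nat_lit 215) (.leaf ((nat_lit 1), [nat_lit 3, nat_lit 1, nat_lit 5, nat_lit 3, nat_lit 1, nat_lit 4, nat_lit 2, nat_lit 1], [[nat_lit 99, nat_lit 1]])) (.leaf ((nat_lit 1), [nat_lit 4, nat_lit 0, nat_lit 5, nat_lit 2, nat_lit 4, nat_lit 3, nat_lit 1], [[nat_lit 99, nat_lit 1, nat_lit 99, nat_lit 99, nat_lit 0]]))) (.node (nat_lit 217) (.leaf ((nat_lit 1), [nat_lit 5, nat_lit 3, nat_lit 0, nat_lit 3, nat_lit 1, nat_lit 0], [[nat_lit 99, nat_lit 99, nat_lit 99, nat_lit 0, nat_lit 0]])) (.node (nat_lit 218) (.leaf ((nat_lit 1), [nat_lit 0, nat_lit 5, nat_lit 2, nat_lit 4, nat_lit 3, nat_lit 0], [[nat_lit 99, nat_lit 99, nat_lit 0]])) (.leaf ((nat_lit 1), [nat_lit 5, nat_lit 0, nat_lit 4, nat_lit 3, nat_lit 2, nat_lit 3], [[nat_lit 99, nat_lit 99, nat_lit 0, nat_lit 99, nat_lit 0, nat_lit 0]])))))))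
 (.node (nat_lit 227) (.node (nat_lit 223) (.node (nat_lit 221) (.node (nat_lit 220) (.leaf ((nat_lit 1), [nat_lit 2, nat_lit 5, nat_lit 4, nat_lit 1, nat_lit 3, nat_lit 1, nat_lit 0], [[nat_lit 99, nat_lit 0]])) (.leaf ((nat_lit 1), [nat_lit 3, nat_lit 1, nat_lit 5, nat_lit 3, nat_lit 1, nat_lit 4, nat_lit 2, nat_lit 1], [[nat_lit 99]]))) (.node (nat_lit 222) (.leaf ((nat_lit 1), [nat_lit 2, nat_lit 1, nat_lit 5, nat_lit 1, nat_lit 0, nat_lit 4, nat_lit 2, nat_lit 0, nat_lit 3], [[nat_lit 99, nat_lit 99, nat_lit 99, nat_lit 99, nat_lit 0, nat_lit 0]])) (.leaf ((nat_lit 1), [nat_lit 2, nat_lit 1, nat_lit 0, nat_lit 5, nat_lit 4, nat_lit 2, nat_lit 1, nat_lit 4, nat_lit 1], [[nat_lit 99, nat_lit 99, nat_lit 99, nat_lit 0]]))))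
 (.node (nat_lit 225) (.node (nat_lit 224) (.leaf ((nat_lit 1), [nat_lit 1, nat_lit 5, nat_lit 2, nat_lit 1, nat_lit 0, nat_lit 4, nat_lit 1], [[nat_lit 99, nat_lit 1]])) (.leaf ((nat_lit 1), [nat_lit 1, nat_lit 5, nat_lit 2, nat_lit 1, nat_lit 0, nat_lit 4, nat_lit 1], [[nat_lit 99, nat_lit 0, nat_lit 0]]))) (.node (nat_lit 226) (.leaf ((nat_lit 1), [nat_lit 4, nat_lit 0, nat_lit 5, nat_lit 2, nat_lit 4], [[nat_lit 99, nat_lit 99, nat_lit 99, nat_lit 1]])) (.leaf ((nat_lit 1), [nat_lit 0, nat_lit 5, nat_lit 0, nat_lit 4, nat_lit 3, nat_lit 0], [[nat_lit 99, nat_lit 99, nat_lit 99, nat_lit 1, nat_lit 1]])))))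
 (.node (nat_lit 231) (.node (nat_lit 229) (.node (nat_lit 228) (.leaf ((nat_lit 1), [nat_lit 3, nat_lit 1, nat_lit 5, nat_lit 3, nat_lit 1, nat_lit 4, nat_lit 2, nat_lit 1], [[nat_lit 99, nat_lit 0, nat_lit 0]])) (.leaf ((nat_lit 1), [nat_lit 3, nat_lit 2, nat_lit 1, nat_lit 5, nat_lit 2, nat_lit 4], [[nat_lit 99, nat_lit 1]]))) (.node (nat_lit 230) (.leaf ((nat_lit 1), [nat_lit 4, nat_lit 5, nat_lit 1, nat_lit 0, nat_lit 3, nat_lit 2], [[nat_lit 99, nat_lit 99, nat_lit 1, nat_lit 1, nat_lit 99, nat_lit 0]])) (.leaf ((nat_lit 1), [nat_lit 5, nat_lit 1, nat_lit 5, nat_lit 2, nat_lit 1, nat_lit 4, nat_lit 2, nat_lit 1], [[nat_lit 99, nat_lit 99, nat_lit 99, nat_lit 0]]))))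
 (.node (nat_lit 233) (.node (nat_lit 232) (.leaf ((nat_lit 1), [nat_lit 2, nat_lit 5, nat_lit 4, nat_lit 1, nat_lit 3, nat_lit 1, nat_lit 0], [[nat_lit 99, nat_lit 1]])) (.leaf ((nat_lit 1), [nat_lit 3, nat_lit 1, nat_lit 5, nat_lit 0, nat_lit 4, nat_lit 2, nat_lit 0], [[nat_lit 99, nat_lit 1, nat_lit 1]]))) (.node (nat_lit 234) (.leaf ((nat_lit 1), [nat_lit 5, nat_lit 4, nat_lit 5, nat_lit 3, nat_lit 0, nat_lit 3, nat_lit 1, nat_lit 0], [[nat_lit 99, nat_lit 99, nat_lit 99, nat_lit 1]])) (.node (nat_lit 235) (.leaf ((nat_lit 1), [nat_lit 5, nat_lit 2, nat_lit 4, nat_lit 3], [[nat_lit 99, nat_lit 99, nat_lit 0]])) (.leaf ((nat_lit 1), [nat_lit 1, nat_lit 5, nat_lit 0, nat_lit 4, nat_lit 3], [[nat_lit 99, nat_lit 0, nat_lit 0]]))))))))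
 (.node (nat_lit 253) (.node (nat_lit 244) (.node (nat_lit 240) (.node (nat_lit 238) (.node (nat_lit 237) (.leaf ((nat_lit 1), [nat_lit 3, nat_lit 1, nat_lit 5, nat_lit 3, nat_lit 1, nat_lit 4, nat_lit 2, nat_lit 1], [[nat_lit 99, nat_lit 1, nat_lit 1]])) (.leaf ((nat_lit 1), [nat_lit 2, nat_lit 1, nat_lit 0, nat_lit 5, nat_lit 2, nat_lit 3, nat_lit 2, nat_lit 1], [[nat_lit 99, nat_lit 1, nat_lit 99, nat_lit 99, nat_lit 0]]))) (.node (nat_lit 239) (.leaf ((nat_lit 1), [nat_lit 1, nat_lit 5, nat_lit 2, nat_lit 1, nat_lit 0, nat_lit 4, nat_lit 1], [[nat_lit 99, nat_lit 0]])) (.leaf ((nat_lit 1), [nat_lit 5, nat_lit 0, nat_lit 3, nat_lit 2, nat_lit 0], [[nat_lit 99, nat_lit 99, nat_lit 99]]))))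
 (.node (nat_lit 242) (.node (nat_lit 241) (.leaf ((nat_lit 1), [nat_lit 2, nat_lit 5, nat_lit 3, nat_lit 0], [[nat_lit 99, nat_lit 1, nat_lit 99, nat_lit 0]])) (.leaf ((nat_lit 1), [nat_lit 5, nat_lit 1, nat_lit 4, nat_lit 3, nat_lit 0, nat_lit 3], [[nat_lit 99, nat_lit 99, nat_lit 99]]))) (.node (nat_lit 243) (.leaf ((nat_lit 1), [nat_lit 5, nat_lit 1, nat_lit 5, nat_lit 3, nat_lit 1, nat_lit 0, nat_lit 4, nat_lit 2], [[nat_lit 99, nat_lit 0]])) (.leaf ((nat_lit 1), [nat_lit 5, nat_lit 3, nat_lit 2, nat_lit 3, nat_lit 2, nat_lit 1], [[nat_lit 99, nat_lit 99, nat_lit 99]])))))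
 (.node (nat_lit 248) (.node (nat_lit 246) (.node (nat_lit 245) (.leaf ((nat_lit 2), [nat_lit 0, nat_lit 4, nat_lit 0, nat_lit 3, nat_lit 2], [[nat_lit 99, nat_lit 1, nat_lit 99, nat_lit 0, nat_lit 99, nat_lit 0, nat_lit 0], [nat_lit 0, nat_lit 0]])) (.leaf ((nat_lit 3), [nat_lit 3, nat_lit 1, nat_lit 5, nat_lit 2, nat_lit 4, nat_lit 2, nat_lit 1, nat_lit 3, nat_lit 2], [[nat_lit 1], [nat_lit 99, nat_lit 0, nat_lit 99, nat_lit 0]]))) (.node (nat_lit 247) (.leaf ((nat_lit 2), [nat_lit 5, nat_lit 1, nat_lit 0, nat_lit 4, nat_lit 1, nat_lit 0, nat_lit 3], [[nat_lit 99, nat_lit 1, nat_lit 99], [nat_lit 1, nat_lit 1]])) (.leaf ((nat_lit 3), [nat_lit 0, nat_lit 4, nat_lit 3, nat_lit 0], [[nat_lit 0, nat_lit 99, nat_lit 0], [nat_lit 99, nat_lit 99]]))))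
 (.node (nat_lit 250) (.node (nat_lit 249) (.leaf ((nat_lit 2), [nat_lit 1, nat_lit 5, nat_lit 0, nat_lit 4, nat_lit 2, nat_lit 1, nat_lit 3, nat_lit 2, nat_lit 1], [[nat_lit 99, nat_lit 99], [nat_lit 1, nat_lit 99, nat_lit 1]])) (.leaf ((nat_lit 2), [nat_lit 1, nat_lit 0, nat_lit 5, nat_lit 1, nat_lit 0, nat_lit 4, nat_lit 1, nat_lit 0], [[nat_lit 99, nat_lit 0, nat_lit 99, nat_lit 0], [nat_lit 0, nat_lit 0]]))) (.node (nat_lit 251) (.leaf ((nat_lit 3), [nat_lit 1, nat_lit 4, nat_lit 3, nat_lit 0, nat_lit 3], [[nat_lit 0, nat_lit 0, nat_lit 99, nat_lit 99, nat_lit 99], [nat_lit 99, nat_lit 99, nat_lit 0, nat_lit 99, nat_lit 0, nat_lit 0]])) (.node (nat_lit 252) (.leaf ((nat_lit 2), [nat_lit 4, nat_lit 0, nat_lit 4, nat_lit 2, nat_lit 1, nat_lit 0], [[nat_lit 99, nat_lit 99], [nat_lit 0]])) (.leaf ((nat_lit 1), [nat_lit 5, nat_lit 0, nat_lit 4, nat_lit 3, nat_lit 2, nat_lit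 0, nat_lit 3, nat_lit 2, nat_lit 0], [[nat_lit 99, nat_lit 0, nat_lit 0]])))))))
 (.node (nat_lit 261) (.node (nat_lit 257) (.node (nat_lit 255) (.node (nat_lit 254) (.leaf ((nat_lit 1), [nat_lit 1, nat_lit 4, nat_lit 2, nat_lit 1, nat_lit 3, nat_lit 2, nat_lit 1], [[nat_lit 99, nat_lit 0]])) (.leaf ((nat_lit 1), [nat_lit 5, nat_lit 1, nat_lit 5, nat_lit 2, nat_lit 4, nat_lit 0], [[nat_lit 99]]))) (.node (nat_lit 256) (.leaf ((nat_lit 1), [nat_lit 3, nat_lit 1, nat_lit 5, nat_lit 0, nat_lit 4, nat_lit 2, nat_lit 3], [[nat_lit 99, nat_lit 99, nat_lit 99]])) (.leaf ((nat_lit 1), [nat_lit 4, nat_lit 5, nat_lit 4, nat_lit 1, nat_lit 0, nat_lit 3], [[nat_lit 99, nat_lit 99, nat_lit 1]]))))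
 (.node (nat_lit 259) (.node (nat_lit 258) (.leaf ((nat_lit 1), [nat_lit 5, nat_lit 3, nat_lit 1, nat_lit 4, nat_lit 2, nat_lit 1, nat_lit 0], [[nat_lit 99, nat_lit 1]])) (.leaf ((nat_lit 1), [nat_lit 5, nat_lit 0, nat_lit 4, nat_lit 3, nat_lit 2, nat_lit 0, nat_lit 3, nat_lit 2, nat_lit 0], [[nat_lit 99, nat_lit 0]]))) (.node (nat_lit 260) (.leaf ((nat_lit 1), [nat_lit 1, nat_lit 4, nat_lit 2, nat_lit 1, nat_lit 3, nat_lit 2, nat_lit 1], [[nat_lit 99, nat_lit 1]])) (.leaf ((nat_lit 2), [nat_lit 1, nat_lit 0, nat_lit 5, nat_lit 1, nat_lit 0, nat_lit 4, nat_lit 1, nat_lit 0], [[nat_lit 99, nat_lit 99], [nat_lit 0, nat_lit 0]])))))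
 (.node (nat_lit 265) (.node (nat_lit 263) (.node (nat_lit 262) (.leaf ((nat_lit 3), [nat_lit 3, nat_lit 1, nat_lit 5, nat_lit 2, nat_lit 4, nat_lit 2, nat_lit 1, nat_lit 3, nat_lit 2], [[nat_lit 1], [nat_lit 99, nat_lit 99]])) (.leaf ((nat_lit 2), [nat_lit 4, nat_lit 5], [[nat_lit 99, nat_lit 99, nat_lit 1, nat_lit 99, nat_lit 0], [nat_lit 1]]))) (.node (nat_lit 264) (.leaf ((nat_lit 3), [nat_lit 1, nat_lit 5, nat_lit 1, nat_lit 4, nat_lit 3, nat_lit 2, nat_lit 3, nat_lit 1, nat_lit 0], [[nat_lit 1], [nat_lit 99, nat_lit 0, nat_lit 99]])) (.leaf ((nat_lit 1), [nat_lit 1, nat_lit 4, nat_lit 2, nat_lit 1, nat_lit 3, nat_lit 2, nat_lit 1], [[nat_lit 99]]))))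
 (.node (nat_lit 267) (.node (nat_lit 266) (.leaf ((nat_lit 1), [nat_lit 5, nat_lit 1, nat_lit 5, nat_lit 2, nat_lit 4, nat_lit 0], [[nat_lit 99, nat_lit 0]])) (.leaf ((nat_lit 1), [nat_lit 1, nat_lit 5, nat_lit 3, nat_lit 2, nat_lit 0, nat_lit 3, nat_lit 2], [[nat_lit 99, nat_lit 99, nat_lit 1]]))) (.node (nat_lit 268) (.leaf ((nat_lit 1), [nat_lit 0, nat_lit 4, nat_lit 3, nat_lit 2, nat_lit 3, nat_lit 0], [[nat_lit 99]])) (.node (nat_lit 269) (.leaf ((nat_lit 1), [nat_lit 1, nat_lit 4, nat_lit 2, nat_lit 1, nat_lit 3, nat_lit 2, nat_lit 1], [[nat_lit 99, nat_lit 1, nat_lit 1]])) (.leaf ((nat_lit 1), [nat_lit 0, nat_lit 4, nat_lit 3, nat_lit 2, nat_lit 3, nat_lit 0], [[nat_lit 99, nat_lit 1]]))))))))))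
noncomputable def n0CE_2 : Tr (ℕ × List ℕ × List (List ℕ)) := (.node (nat_lit 337) (.node (nat_lit 303) (.node (nat_lit 286) (.node (nat_lit 278) (.node (nat_lit 274) (.node (nat_lit 272) (.node (nat_lit 271) (.leaf ((nat_lit 1), [nat_lit 5, nat_lit 3, nat_lit 1, nat_lit 4, nat_lit 2, nat_lit 1, nat_lit 0], [[nat_lit 99]])) (.leaf ((nat_lit 1), [nat_lit 2, nat_lit 5, nat_lit 1, nat_lit 4], [[nat_lit 99, nat_lit 99, nat_lit 0]]))) (.node (nat_lit 273) (.leaf ((nat_lit 1), [nat_lit 3, nat_lit 1, nat_lit 5, nat_lit 1, nat_lit 3, nat_lit 2, nat_lit 0], [[nat_lit 99]])) (.leaf ((nat_lit 1), [nat_lit 2, nat_lit 0, nat_lit 4, nat_lit 1, nat_lit 3, nat_lit 2, nat_lit 1], [[nat_lit 99, nat_lit 99, nat_lit 99]]))))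
 (.node (nat_lit 276) (.node (nat_lit 275) (.leaf ((nat_lit 1), [nat_lit 5, nat_lit 4, nat_lit 5], [[nat_lit 99, nat_lit 99, nat_lit 1]])) (.leaf ((nat_lit 1), [nat_lit 3, nat_lit 2, nat_lit 1, nat_lit 4, nat_lit 2, nat_lit 3, nat_lit 2], [[nat_lit 99, nat_lit 99, nat_lit 99, nat_lit 1]]))) (.node (nat_lit 277) (.leaf ((nat_lit 3), [nat_lit 3, nat_lit 1, nat_lit 5, nat_lit 2, nat_lit 1, nat_lit 4, nat_lit 2, nat_lit 1, nat_lit 0, nat_lit 3, nat_lit 2, nat_lit 1], [[nat_lit 0, nat_lit 0], [nat_lit 99, nat_lit 0, nat_lit 99]])) (.leaf ((nat_lit 2), [nat_lit 0, nat_lit 5, nat_lit 4, nat_lit 0, nat_lit 3, nat_lit 1], [[nat_lit 99, nat_lit 1, nat_lit 99, nat_lit 1], [nat_lit 99, nat_lit 0, nat_lit 0, nat_lit 99]])))))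
 (.node (nat_lit 282) (.node (nat_lit 280) (.node (nat_lit 279) (.leaf ((nat_lit 3), [nat_lit 4, nat_lit 0, nat_lit 5, nat_lit 2, nat_lit 1, nat_lit 4, nat_lit 3, nat_lit 2, nat_lit 0, nat_lit 3, nat_lit 1], [[nat_lit 0], [nat_lit 99, nat_lit 99, nat_lit 0]])) (.leaf ((nat_lit 2), [nat_lit 5, nat_lit 1, nat_lit 4, nat_lit 3, nat_lit 0, nat_lit 3], [[nat_lit 99, nat_lit 99, nat_lit 1, nat_lit 99, nat_lit 0], [nat_lit 1, nat_lit 99, nat_lit 1, nat_lit 1]]))) (.node (nat_lit 281) (.leaf ((nat_lit 3), [nat_lit 3, nat_lit 2, nat_lit 1, nat_lit 5, nat_lit 2, nat_lit 0, nat_lit 3], [[nat_lit 0, nat_lit 99, nat_lit 0], [nat_lit 99, nat_lit 99]])) (.leaf ((nat_lit 1), [nat_lit 4, nat_lit 5, nat_lit 1, nat_lit 4, nat_lit 0], [[nat_lit 99, nat_lit 99, nat_lit 99]]))))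
 (.node (nat_lit 284) (.node (nat_lit 283) (.leaf ((nat_lit 1), [nat_lit 1, nat_lit 5, nat_lit 4, nat_lit 3], [[nat_lit 99, nat_lit 1, nat_lit 99, nat_lit 0]])) (.leaf ((nat_lit 1), [nat_lit 3, nat_lit 1, nat_lit 5, nat_lit 1, nat_lit 3, nat_lit 2, nat_lit 0], [[nat_lit 99, nat_lit 1]]))) (.node (nat_lit 285) (.leaf ((nat_lit 1), [nat_lit 5, nat_lit 1, nat_lit 5, nat_lit 3, nat_lit 1, nat_lit 0, nat_lit 4, nat_lit 2], [[nat_lit 99]])) (.leaf ((nat_lit 1), [nat_lit 5, nat_lit 4, nat_lit 3, nat_lit 0], [[nat_lit 99, nat_lit 99, nat_lit 1, nat_lit 1]]))))))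
 (.node (nat_lit 294) (.node (nat_lit 290) (.node (nat_lit 288) (.node (nat_lit 287) (.leaf ((nat_lit 1), [nat_lit 2, nat_lit 5, nat_lit 4, nat_lit 2, nat_lit 3, nat_lit 0], [[nat_lit 99, nat_lit 99, nat_lit 99, nat_lit 0]])) (.leaf ((nat_lit 1), [nat_lit 5, nat_lit 1, nat_lit 5, nat_lit 4, nat_lit 0, nat_lit 4, nat_lit 3], [[nat_lit 99, nat_lit 99, nat_lit 99]]))) (.node (nat_lit 289) (.leaf ((nat_lit 2), [nat_lit 4, nat_lit 0, nat_lit 4, nat_lit 2, nat_lit 1, nat_lit 0], [[nat_lit 99, nat_lit 1, nat_lit 99, nat_lit 1], [nat_lit 0]])) (.leaf ((nat_lit 2), [nat_lit 2, nat_lit 5, nat_lit 3, nat_lit 2, nat_lit 0], [[nat_lit 99, nat_lit 99, nat_lit 0], [nat_lit 0]]))))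
 (.node (nat_lit 292) (.node (nat_lit 291) (.leaf ((nat_lit 3), [nat_lit 1, nat_lit 5, nat_lit 2, nat_lit 1, nat_lit 4, nat_lit 3, nat_lit 2, nat_lit 0, nat_lit 3, nat_lit 0], [[nat_lit 1, nat_lit 1], [nat_lit 99, nat_lit 99]])) (.leaf ((nat_lit 3), [nat_lit 1, nat_lit 4, nat_lit 3, nat_lit 0, nat_lit 3], [[nat_lit 0, nat_lit 99, nat_lit 99, nat_lit 0], [nat_lit 99, nat_lit 99, nat_lit 1, nat_lit 99, nat_lit 0, nat_lit 0]]))) (.node (nat_lit 293) (.leaf ((nat_lit 1), [nat_lit 5, nat_lit 3, nat_lit 1, nat_lit 4, nat_lit 2, nat_lit 1, nat_lit 0], [[nat_lit 99, nat_lit 0]])) (.leaf ((nat_lit 1), [nat_lit 5, nat_lit 0, nat_lit 4, nat_lit 3, nat_lit 2, nat_lit 0, nat_lit 3, nat_lit 2, nat_lit 0], [[nat_lit 99]])))))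
 (.node (nat_lit 298) (.node (nat_lit 296) (.node (nat_lit 295) (.leaf ((nat_lit 1), [nat_lit 1, nat_lit 4, nat_lit 2, nat_lit 1, nat_lit 3, nat_lit 2, nat_lit 1], [[nat_lit 99, nat_lit 0, nat_lit 0]])) (.leaf ((nat_lit 1), [nat_lit 0, nat_lit 5, nat_lit 4, nat_lit 3, nat_lit 2, nat_lit 0, nat_lit 3], [[nat_lit 99, nat_lit 99, nat_lit 0]]))) (.node (nat_lit 297) (.leaf ((nat_lit 1), [nat_lit 5, nat_lit 0, nat_lit 4, nat_lit 1, nat_lit 3, nat_lit 1], [[nat_lit 99, nat_lit 1, nat_lit 99, nat_lit 0]])) (.leaf ((nat_lit 1), [nat_lit 1, nat_lit 5, nat_lit 4, nat_lit 3], [[nat_lit 99, nat_lit 99, nat_lit 0, nat_lit 0]]))))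
 (.node (nat_lit 300) (.node (nat_lit 299) (.leaf ((nat_lit 1), [nat_lit 3, nat_lit 1, nat_lit 5, nat_lit 1, nat_lit 3, nat_lit 2, nat_lit 0], [[nat_lit 99, nat_lit 0]])) (.leaf ((nat_lit 1), [nat_lit 2, nat_lit 5, nat_lit 3, nat_lit 0], [[nat_lit 99, nat_lit 99, nat_lit 0, nat_lit 0]]))) (.node (nat_lit 301) (.leaf ((nat_lit 1), [nat_lit 3, nat_lit 1, nat_lit 5, nat_lit 1, nat_lit 0, nat_lit 4, nat_lit 1], [[nat_lit 99, nat_lit 0]])) (.node (nat_lit 302) (.leaf ((nat_lit 1), [nat_lit 2, nat_lit 1, nat_lit 0, nat_lit 4, nat_lit 2, nat_lit 3], [[nat_lit 99, nat_lit 0]])) (.leaf ((nat_lit 1), [nat_lit 1, nat_lit 0, nat_lit 5, nat_lit 2, nat_lit 3, nat_lit 2, nat_lit 1], [[nat_lit 99, nat_lit 99, nat_lit 0]]))))))))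
 (.node (nat_lit 320) (.node (nat_lit 311) (.node (nat_lit 307) (.node (nat_lit 305) (.node (nat_lit 304) (.leaf ((nat_lit 1), [nat_lit 3, nat_lit 1, nat_lit 5, nat_lit 2, nat_lit 0], [[nat_lit 99, nat_lit 99, nat_lit 1]])) (.leaf ((nat_lit 1), [nat_lit 3, nat_lit 1, nat_lit 4, nat_lit 3, nat_lit 2], [[nat_lit 99, nat_lit 0]]))) (.node (nat_lit 306) (.leaf ((nat_lit 1), [nat_lit 2, nat_lit 1, nat_lit 5, nat_lit 4, nat_lit 3, nat_lit 0, nat_lit 3], [[nat_lit 99, nat_lit 0, nat_lit 0]])) (.leaf ((nat_lit 1), [nat_lit 5, nat_lit 4, nat_lit 5, nat_lit 1, nat_lit 4, nat_lit 2, nat_lit 3, nat_lit 2, nat_lit 0], [[nat_lit 99, nat_lit 0, nat_lit 0]]))))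
 (.node (nat_lit 309) (.node (nat_lit 308) (.leaf ((nat_lit 1), [nat_lit 0, nat_lit 4, nat_lit 3, nat_lit 0, nat_lit 3, nat_lit 2, nat_lit 0], [[nat_lit 99, nat_lit 0]])) (.leaf ((nat_lit 1), [nat_lit 0, nat_lit 4, nat_lit 3, nat_lit 0, nat_lit 3, nat_lit 2, nat_lit 0], [[nat_lit 99, nat_lit 0, nat_lit 0]]))) (.node (nat_lit 310) (.leaf ((nat_lit 1), [nat_lit 5, nat_lit 4, nat_lit 5, nat_lit 1, nat_lit 4, nat_lit 2, nat_lit 3, nat_lit 2, nat_lit 0], [[nat_lit 99, nat_lit 1]])) (.leaf ((nat_lit 1), [nat_lit 3, nat_lit 1, nat_lit 4, nat_lit 3, nat_lit 2], [[nat_lit 99]])))))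
 (.node (nat_lit 315) (.node (nat_lit 313) (.node (nat_lit 312) (.leaf ((nat_lit 1), [nat_lit 2, nat_lit 1, nat_lit 5, nat_lit 4, nat_lit 3, nat_lit 0, nat_lit 3], [[nat_lit 99]])) (.leaf ((nat_lit 1), [nat_lit 2, nat_lit 5, nat_lit 2, nat_lit 0, nat_lit 3, nat_lit 2], [[nat_lit 99]]))) (.node (nat_lit 314) (.leaf ((nat_lit 1), [nat_lit 4, nat_lit 5, nat_lit 0, nat_lit 3, nat_lit 0], [[nat_lit 99, nat_lit 99, nat_lit 99]])) (.leaf ((nat_lit 1), [nat_lit 3, nat_lit 1, nat_lit 5, nat_lit 3, nat_lit 2, nat_lit 0], [[nat_lit 99, nat_lit 1]]))))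
 (.node (nat_lit 317) (.node (nat_lit 316) (.leaf ((nat_lit 1), [nat_lit 5, nat_lit 4, nat_lit 5, nat_lit 3, nat_lit 0, nat_lit 3, nat_lit 2], [[nat_lit 99, nat_lit 0, nat_lit 0]])) (.leaf ((nat_lit 1), [nat_lit 5, nat_lit 4, nat_lit 5, nat_lit 3, nat_lit 0, nat_lit 3, nat_lit 2], [[nat_lit 99, nat_lit 1, nat_lit 1]]))) (.node (nat_lit 318) (.leaf ((nat_lit 1), [nat_lit 3, nat_lit 1, nat_lit 5, nat_lit 3, nat_lit 2, nat_lit 0], [[nat_lit 99, nat_lit 0]])) (.node (nat_lit 319) (.leaf ((nat_lit 1), [nat_lit 2, nat_lit 5, nat_lit 2, nat_lit 0, nat_lit 3, nat_lit 2], [[nat_lit 99, nat_lit 1]])) (.leaf ((nat_lit 1), [nat_lit 1, nat_lit 0, nat_lit 5, nat_lit 2, nat_lit 1, nat_lit 3], [[nat_lit 99, nat_lit 0, nat_lit 99, nat_lit 0, nat_lit 0]])))))))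
 (.node (nat_lit 328) (.node (nat_lit 324) (.node (nat_lit 322) (.node (nat_lit 321) (.leaf ((nat_lit 1), [nat_lit 5, nat_lit 4, nat_lit 5, nat_lit 1, nat_lit 4, nat_lit 2, nat_lit 3, nat_lit 2, nat_lit 0], [[nat_lit 99, nat_lit 1, nat_lit 1]])) (.leaf ((nat_lit 1), [nat_lit 2, nat_lit 1, nat_lit 5, nat_lit 4, nat_lit 3, nat_lit 0, nat_lit 3], [[nat_lit 99, nat_lit 0]]))) (.node (nat_lit 323) (.leaf ((nat_lit 1), [nat_lit 0, nat_lit 5, nat_lit 4, nat_lit 1, nat_lit 3, nat_lit 1, nat_lit 0], [[nat_lit 99]])) (.leaf ((nat_lit 1), [nat_lit 0, nat_lit 4, nat_lit 3, nat_lit 0, nat_lit 3, nat_lit 2, nat_lit 0], [[nat_lit 99, nat_lit 1]]))))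
 (.node (nat_lit 326) (.node (nat_lit 325) (.leaf ((nat_lit 3), [nat_lit 4, nat_lit 3], [[nat_lit 0, nat_lit 0], [nat_lit 99, nat_lit 99, nat_lit 99, nat_lit 0]])) (.leaf ((nat_lit 1), [nat_lit 3, nat_lit 1, nat_lit 5, nat_lit 3, nat_lit 2, nat_lit 0], [[nat_lit 99]]))) (.node (nat_lit 327) (.leaf ((nat_lit 1), [nat_lit 5, nat_lit 4, nat_lit 5, nat_lit 3, nat_lit 0, nat_lit 3, nat_lit 2], [[nat_lit 99]])) (.leaf ((nat_lit 1), [nat_lit 2, nat_lit 5, nat_lit 2, nat_lit 0, nat_lit 3, nat_lit 2], [[nat_lit 99, nat_lit 0, nat_lit 0]])))))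
 (.node (nat_lit 332) (.node (nat_lit 330) (.node (nat_lit 329) (.leaf ((nat_lit 1), [nat_lit 1, nat_lit 0, nat_lit 5, nat_lit 2, nat_lit 1, nat_lit 3], [[nat_lit 99, nat_lit 99, nat_lit 0]])) (.leaf ((nat_lit 1), [nat_lit 2, nat_lit 5, nat_lit 2, nat_lit 0, nat_lit 3, nat_lit 2], [[nat_lit 99, nat_lit 0]]))) (.node (nat_lit 331) (.leaf ((nat_lit 1), [nat_lit 1, nat_lit 5], [[nat_lit 99]])) (.leaf ((nat_lit 1), [nat_lit 5, nat_lit 4, nat_lit 5, nat_lit 3, nat_lit 0, nat_lit 3, nat_lit 2], [[nat_lit 99, nat_lit 0]]))))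
 (.node (nat_lit 334) (.node (nat_lit 333) (.leaf ((nat_lit 1), [nat_lit 2, nat_lit 1, nat_lit 0, nat_lit 5, nat_lit 0, nat_lit 4, nat_lit 2], [[nat_lit 99]])) (.leaf ((nat_lit 1), [nat_lit 3, nat_lit 1, nat_lit 5, nat_lit 1, nat_lit 0, nat_lit 4, nat_lit 1], [[nat_lit 99]]))) (.node (nat_lit 335) (.leaf ((nat_lit 1), [nat_lit 2, nat_lit 1, nat_lit 0, nat_lit 4, nat_lit 2, nat_lit 3], [[nat_lit 99, nat_lit 1]])) (.node (nat_lit 336) (.leaf ((nat_lit 1), [nat_lit 2, nat_lit 0, nat_lit 4, nat_lit 2, nat_lit 1, nat_lit 3, nat_lit 1], [[nat_lit 99, nat_lit 99, nat_lit 0]])) (.leaf ((nat_lit 1), [nat_lit 5, nat_lit 4, nat_lit 5, nat_lit 1, nat_lit 4, nat_lit 2, nat_lit 3, nat_lit 2, nat_lit 0], [[nat_lit 99, nat_lit 0]])))))))))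
 (.node (nat_lit 371) (.node (nat_lit 354) (.node (nat_lit 345) (.node (nat_lit 341) (.node (nat_lit 339) (.node (nat_lit 338) (.leaf ((nat_lit 1), [nat_lit 2, nat_lit 1, nat_lit 5, nat_lit 4, nat_lit 3, nat_lit 0, nat_lit 3], [[nat_lit 99, nat_lit 1, nat_lit 1]])) (.leaf ((nat_lit 1), [nat_lit 0, nat_lit 4, nat_lit 3, nat_lit 0, nat_lit 3, nat_lit 2, nat_lit 0], [[nat_lit 99, nat_lit 1, nat_lit 1]]))) (.node (nat_lit 340) (.leaf ((nat_lit 1), [nat_lit 0, nat_lit 5, nat_lit 4, nat_lit 1, nat_lit 3, nat_lit 1, nat_lit 0], [[nat_lit 99, nat_lit 0]])) (.leaf ((nat_lit 1), [nat_lit 2, nat_lit 1, nat_lit 0, nat_lit 4, nat_lit 2, nat_lit 3], [[nat_lit 99]]))))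
 (.node (nat_lit 343) (.node (nat_lit 342) (.leaf ((nat_lit 1), [nat_lit 5, nat_lit 0, nat_lit 4, nat_lit 2, nat_lit 1], [[nat_lit 99, nat_lit 1]])) (.leaf ((nat_lit 2), [nat_lit 2, nat_lit 0, nat_lit 5, nat_lit 1, nat_lit 0, nat_lit 3, nat_lit 2, nat_lit 1, nat_lit 0], [[nat_lit 99, nat_lit 1, nat_lit 99, nat_lit 1], [nat_lit 1, nat_lit 1]]))) (.node (nat_lit 344) (.leaf ((nat_lit 1), [nat_lit 2, nat_lit 1, nat_lit 0, nat_lit 5, nat_lit 0, nat_lit 4, nat_lit 2], [[nat_lit 99, nat_lit 1]])) (.leaf ((nat_lit 1), [nat_lit 2, nat_lit 1, nat_lit 0, nat_lit 5, nat_lit 0, nat_lit 4, nat_lit 2], [[nat_lit 99, nat_lit 0, nat_lit 0]])))))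
 (.node (nat_lit 349) (.node (nat_lit 347) (.node (nat_lit 346) (.leaf ((nat_lit 1), [nat_lit 0, nat_lit 4, nat_lit 3, nat_lit 2, nat_lit 0, nat_lit 3, nat_lit 1], [[nat_lit 99, nat_lit 99, nat_lit 0]])) (.leaf ((nat_lit 1), [nat_lit 5, nat_lit 0, nat_lit 4, nat_lit 2, nat_lit 1], [[nat_lit 99]]))) (.node (nat_lit 348) (.leaf ((nat_lit 1), [nat_lit 2, nat_lit 1, nat_lit 0, nat_lit 4, nat_lit 2, nat_lit 3], [[nat_lit 99, nat_lit 0, nat_lit 0]])) (.leaf ((nat_lit 1), [nat_lit 2, nat_lit 1, nat_lit 5, nat_lit 4, nat_lit 3, nat_lit 0, nat_lit 3], [[nat_lit 99, nat_lit 1]]))))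
 (.node (nat_lit 351) (.node (nat_lit 350) (.leaf ((nat_lit 1), [nat_lit 0, nat_lit 4, nat_lit 3, nat_lit 0, nat_lit 3, nat_lit 2, nat_lit 0], [[nat_lit 99]])) (.leaf ((nat_lit 1), [nat_lit 5, nat_lit 4, nat_lit 5, nat_lit 1, nat_lit 4, nat_lit 2, nat_lit 3, nat_lit 2, nat_lit 0], [[nat_lit 99]]))) (.node (nat_lit 352) (.leaf ((nat_lit 1), [nat_lit 0, nat_lit 5, nat_lit 4, nat_lit 1, nat_lit 3, nat_lit 1, nat_lit 0], [[nat_lit 99, nat_lit 1]])) (.node (nat_lit 353) (.leaf ((nat_lit 1), [nat_lit 1, nat_lit 5], [[nat_lit 99, nat_lit 0]])) (.leaf ((nat_lit 1), [nat_lit 2, nat_lit 5, nat_lit 2, nat_lit 0, nat_lit 3, nat_lit 2], [[nat_lit 99, nat_lit 1, nat_lit 1]])))))))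
 (.node (nat_lit 362) (.node (nat_lit 358) (.node (nat_lit 356) (.node (nat_lit 355) (.leaf ((nat_lit 1), [nat_lit 4, nat_lit 5, nat_lit 1, nat_lit 4, nat_lit 1], [[nat_lit 99, nat_lit 99, nat_lit 1]])) (.leaf ((nat_lit 1), [nat_lit 5, nat_lit 4, nat_lit 5, nat_lit 3, nat_lit 0, nat_lit 3, nat_lit 2], [[nat_lit 99, nat_lit 1]]))) (.node (nat_lit 357) (.leaf ((nat_lit 1), [nat_lit 2, nat_lit 1, nat_lit 0, nat_lit 4, nat_lit 2, nat_lit 3], [[nat_lit 99, nat_lit 1, nat_lit 1]])) (.leaf ((nat_lit 2), [nat_lit 2, nat_lit 0, nat_lit 5, nat_lit 1, nat_lit 0, nat_lit 3, nat_lit 2, nat_lit 1, nat_lit 0], [[nat_lit 99, nat_lit 99], [nat_lit 1, nat_lit 1]]))))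
 (.node (nat_lit 360) (.node (nat_lit 359) (.leaf ((nat_lit 1), [nat_lit 2, nat_lit 1, nat_lit 0, nat_lit 5, nat_lit 0, nat_lit 4, nat_lit 2], [[nat_lit 99, nat_lit 0]])) (.leaf ((nat_lit 1), [nat_lit 3, nat_lit 1, nat_lit 5, nat_lit 1, nat_lit 0, nat_lit 4, nat_lit 1], [[nat_lit 99, nat_lit 0, nat_lit 0]]))) (.node (nat_lit 361) (.leaf ((nat_lit 1), [nat_lit 2, nat_lit 0, nat_lit 5, nat_lit 0, nat_lit 4, nat_lit 0, nat_lit 3, nat_lit 0], [[nat_lit 99, nat_lit 1, nat_lit 99, nat_lit 0]])) (.leaf ((nat_lit 1), [nat_lit 0, nat_lit 5, nat_lit 0, nat_lit 4, nat_lit 0, nat_lit 3, nat_lit 0], [[nat_lit 99, nat_lit 0, nat_lit 0]])))))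
 (.node (nat_lit 366) (.node (nat_lit 364) (.node (nat_lit 363) (.leaf ((nat_lit 1), [nat_lit 0, nat_lit 5, nat_lit 2, nat_lit 0, nat_lit 3, nat_lit 2, nat_lit 1], [[nat_lit 99, nat_lit 1, nat_lit 1]])) (.leaf ((nat_lit 1), [nat_lit 4, nat_lit 0, nat_lit 5, nat_lit 1, nat_lit 4, nat_lit 1, nat_lit 0], [[nat_lit 99, nat_lit 99, nat_lit 99, nat_lit 99, nat_lit 0]]))) (.node (nat_lit 365) (.leaf ((nat_lit 1), [nat_lit 0, nat_lit 5, nat_lit 1, nat_lit 4, nat_lit 2, nat_lit 1, nat_lit 3, nat_lit 2, nat_lit 1], [[nat_lit 99, nat_lit 0]])) (.leaf ((nat_lit 1), [nat_lit 0, nat_lit 5, nat_lit 1, nat_lit 0, nat_lit 3, nat_lit 1, nat_lit 0], [[nat_lit 99, nat_lit 1]]))))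
 (.node (nat_lit 368) (.node (nat_lit 367) (.leaf ((nat_lit 1), [nat_lit 3, nat_lit 1, nat_lit 0, nat_lit 4, nat_lit 2, nat_lit 3, nat_lit 2], [[nat_lit 99, nat_lit 1]])) (.leaf ((nat_lit 1), [nat_lit 2, nat_lit 1, nat_lit 0, nat_lit 5, nat_lit 2, nat_lit 0], [[nat_lit 99, nat_lit 99, nat_lit 1]]))) (.node (nat_lit 369) (.leaf ((nat_lit 1), [nat_lit 3, nat_lit 1, nat_lit 5, nat_lit 0, nat_lit 4, nat_lit 0], [[nat_lit 99, nat_lit 99, nat_lit 0]])) (.node (nat_lit 370) (.leaf ((nat_lit 1), [nat_lit 3, nat_lit 1, nat_lit 0, nat_lit 4, nat_lit 2, nat_lit 3, nat_lit 2], [[nat_lit 99, nat_lit 0]])) (.leaf ((nat_lit 1), [nat_lit 0, nat_lit 5, nat_lit 1, nat_lit 4, nat_lit 2, nat_lit 1, nat_lit 3, nat_lit 2, nat_lit 1], [[nat_lit 99]]))))))))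
 (.node (nat_lit 388) (.node (nat_lit 379) (.node (nat_lit 375) (.node (nat_lit 373) (.node (nat_lit 372) (.leaf ((nat_lit 1), [nat_lit 1, nat_lit 0, nat_lit 5, nat_lit 1, nat_lit 4], [[nat_lit 99]])) (.leaf ((nat_lit 1), [nat_lit 1, nat_lit 0, nat_lit 4, nat_lit 2, nat_lit 1, nat_lit 0, nat_lit 3], [[nat_lit 99, nat_lit 0]]))) (.node (nat_lit 374) (.leaf ((nat_lit 1), [nat_lit 4, nat_lit 0, nat_lit 5, nat_lit 4, nat_lit 0, nat_lit 3, nat_lit 0], [[nat_lit 99, nat_lit 0]])) (.leaf ((nat_lit 3), [nat_lit 2, nat_lit 1, nat_lit 5, nat_lit 3, nat_lit 2, nat_lit 1, nat_lit 4, nat_lit 2, nat_lit 1, nat_lit 0, nat_lit 3, nat_lit 2, nat_lit 1, nat_lit 0], [[nat_lit 1, nat_lit 99, nat_lit 0, nat_lit 99], [nat_lit 99, nat_lit 0, nat_lit 0, nat_lit 99, nat_lit 0]]))))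
 (.node (nat_lit 377) (.node (nat_lit 376) (.leaf ((nat_lit 1), [nat_lit 5, nat_lit 1, nat_lit 5, nat_lit 2, nat_lit 0, nat_lit 3, nat_lit 1], [[nat_lit 99, nat_lit 0, nat_lit 0]])) (.leaf ((nat_lit 1), [nat_lit 2, nat_lit 1, nat_lit 0, nat_lit 4, nat_lit 2, nat_lit 1, nat_lit 0, nat_lit 3, nat_lit 1], [[nat_lit 99, nat_lit 1]]))) (.node (nat_lit 378) (.leaf ((nat_lit 1), [nat_lit 2, nat_lit 5, nat_lit 0, nat_lit 4, nat_lit 1, nat_lit 0], [[nat_lit 99, nat_lit 99, nat_lit 1, nat_lit 99, nat_lit 0]])) (.leaf ((nat_lit 1), [nat_lit 1, nat_lit 0, nat_lit 4, nat_lit 2, nat_lit 1, nat_lit 0, nat_lit 3], [[nat_lit 99]])))))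
 (.node (nat_lit 383) (.node (nat_lit 381) (.node (nat_lit 380) (.leaf ((nat_lit 1), [nat_lit 4, nat_lit 0, nat_lit 5, nat_lit 4, nat_lit 0, nat_lit 3, nat_lit 0], [[nat_lit 99, nat_lit 1]])) (.leaf ((nat_lit 1), [nat_lit 3, nat_lit 1, nat_lit 0, nat_lit 4, nat_lit 2, nat_lit 3, nat_lit 2], [[nat_lit 99]]))) (.node (nat_lit 382) (.leaf ((nat_lit 1), [nat_lit 1, nat_lit 0, nat_lit 5, nat_lit 1, nat_lit 4], [[nat_lit 99, nat_lit 0]])) (.leaf ((nat_lit 1), [nat_lit 1, nat_lit 5, nat_lit 1, nat_lit 4, nat_lit 3, nat_lit 0], [[nat_lit 99, nat_lit 1]]))))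
 (.node (nat_lit 385) (.node (nat_lit 384) (.leaf ((nat_lit 1), [nat_lit 0, nat_lit 5, nat_lit 0], [[nat_lit 99, nat_lit 0, nat_lit 99, nat_lit 0, nat_lit 0]])) (.leaf ((nat_lit 1), [nat_lit 4, nat_lit 0, nat_lit 5, nat_lit 4, nat_lit 0, nat_lit 3, nat_lit 0], [[nat_lit 99]]))) (.node (nat_lit 386) (.leaf ((nat_lit 3), [nat_lit 1, nat_lit 0, nat_lit 5, nat_lit 3, nat_lit 1, nat_lit 0, nat_lit 4, nat_lit 3, nat_lit 0, nat_lit 3, nat_lit 2], [[nat_lit 0, nat_lit 99, nat_lit 99, nat_lit 0], [nat_lit 99, nat_lit 1, nat_lit 99]])) (.node (nat_lit 387) (.leaf ((nat_lit 1), [nat_lit 5, nat_lit 1, nat_lit 5, nat_lit 2, nat_lit 0, nat_lit 3, nat_lit 1], [[nat_lit 99]])) (.leaf ((nat_lit 1), [nat_lit 1, nat_lit 0, nat_lit 4, nat_lit 2, nat_lit 1, nat_lit 0, nat_lit 3], [[nat_lit 99, nat_lit 1, nat_lit 1]])))))))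
 (.node (nat_lit 396) (.node (nat_lit 392) (.node (nat_lit 390) (.node (nat_lit 389) (.leaf ((nat_lit 1), [nat_lit 4, nat_lit 3], [[nat_lit 99, nat_lit 0]])) (.leaf ((nat_lit 1), [nat_lit 1, nat_lit 0, nat_lit 4, nat_lit 2, nat_lit 1, nat_lit 0, nat_lit 3], [[nat_lit 99, nat_lit 0, nat_lit 0]]))) (.node (nat_lit 391) (.leaf ((nat_lit 1), [nat_lit 1, nat_lit 4, nat_lit 1, nat_lit 3, nat_lit 1], [[nat_lit 99, nat_lit 99, nat_lit 1, nat_lit 99, nat_lit 0]])) (.leaf ((nat_lit 1), [nat_lit 5, nat_lit 1, nat_lit 5, nat_lit 2, nat_lit 0, nat_lit 3, nat_lit 1], [[nat_lit 99, nat_lit 0]]))))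
 (.node (nat_lit 394) (.node (nat_lit 393) (.leaf ((nat_lit 1), [nat_lit 0, nat_lit 5, nat_lit 2, nat_lit 0, nat_lit 3, nat_lit 2, nat_lit 1], [[nat_lit 99]])) (.leaf ((nat_lit 1), [nat_lit 4, nat_lit 0, nat_lit 5, nat_lit 2, nat_lit 3, nat_lit 0], [[nat_lit 99, nat_lit 99, nat_lit 0, nat_lit 0]]))) (.node (nat_lit 395) (.leaf ((nat_lit 1), [nat_lit 0, nat_lit 5, nat_lit 0, nat_lit 4, nat_lit 0, nat_lit 3, nat_lit 0], [[nat_lit 99]])) (.leaf ((nat_lit 1), [nat_lit 1, nat_lit 4, nat_lit 3, nat_lit 0, nat_lit 3, nat_lit 2, nat_lit 0], [[nat_lit 99, nat_lit 99, nat_lit 1]])))))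
 (.node (nat_lit 400) (.node (nat_lit 398) (.node (nat_lit 397) (.leaf ((nat_lit 1), [nat_lit 3, nat_lit 1, nat_lit 0, nat_lit 4, nat_lit 2, nat_lit 3, nat_lit 2], [[nat_lit 99, nat_lit 1, nat_lit 1]])) (.leaf ((nat_lit 1), [nat_lit 0, nat_lit 5, nat_lit 1, nat_lit 0, nat_lit 3, nat_lit 1, nat_lit 0], [[nat_lit 99]]))) (.node (nat_lit 399) (.leaf ((nat_lit 1), [nat_lit 0, nat_lit 5, nat_lit 0], [[nat_lit 99, nat_lit 99, nat_lit 0]])) (.leaf ((nat_lit 1), [nat_lit 1, nat_lit 5, nat_lit 1, nat_lit 4, nat_lit 3, nat_lit 0], [[nat_lit 99]]))))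
 (.node (nat_lit 402) (.node (nat_lit 401) (.leaf ((nat_lit 1), [nat_lit 0, nat_lit 5, nat_lit 0, nat_lit 4, nat_lit 0, nat_lit 3, nat_lit 0], [[nat_lit 99, nat_lit 0]])) (.leaf ((nat_lit 1), [nat_lit 4, nat_lit 5, nat_lit 0, nat_lit 4, nat_lit 0], [[nat_lit 99, nat_lit 99, nat_lit 99]]))) (.node (nat_lit 403) (.leaf ((nat_lit 1), [nat_lit 4, nat_lit 5, nat_lit 3, nat_lit 1, nat_lit 0, nat_lit 4, nat_lit 2, nat_lit 1], [[nat_lit 99, nat_lit 0, nat_lit 99, nat_lit 0, nat_lit 0]])) (.node (nat_lit 404) (.leaf ((nat_lit 1), [nat_lit 0, nat_lit 5, nat_lit 2, nat_lit 0, nat_lit 3, nat_lit 2, nat_lit 1], [[nat_lit 99, nat_lit 1]])) (.leaf ((nat_lit 1), [nat_lit 0, nat_lit 5, nat_lit 2, nat_lit 0, nat_lit 3, nat_lit 2, nat_lit 1], [[nat_lit 99, nat_lit 0, nat_lit 0]]))))))))))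
noncomputable def n0CE_3 : Tr (ℕ × List ℕ × List (List ℕ)) := (.node (nat_lit 472) (.node (nat_lit 438) (.node (nat_lit 421) (.node (nat_lit 413) (.node (nat_lit 409) (.node (nat_lit 407) (.node (nat_lit 406) (.leaf ((nat_lit 1), [nat_lit 4, nat_lit 5, nat_lit 3, nat_lit 1, nat_lit 0, nat_lit 4, nat_lit 2, nat_lit 1], [[nat_lit 99, nat_lit 99, nat_lit 0]])) (.leaf ((nat_lit 1), [nat_lit 4, nat_lit 0, nat_lit 5, nat_lit 2, nat_lit 3, nat_lit 0], [[nat_lit 99, nat_lit 1, nat_lit 99, nat_lit 0]]))) (.node (nat_lit 408) (.leaf ((nat_lit 1), [nat_lit 0, nat_lit 5, nat_lit 0, nat_lit 4, nat_lit 0, nat_lit 3, nat_lit 0], [[nat_lit 99, nat_lit 1, nat_lit 1]])) (.leaf ((nat_lit 1), [nat_lit 0, nat_lit 5, nat_lit 1, nat_lit 0, nat_lit 3, nat_lit 1, nat_lit 0], [[nat_lit 99, nat_lit 0]]))))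
 (.node (nat_lit 411) (.node (nat_lit 410) (.leaf ((nat_lit 1), [nat_lit 2, nat_lit 1, nat_lit 0, nat_lit 5, nat_lit 2, nat_lit 0], [[nat_lit 99, nat_lit 1, nat_lit 99, nat_lit 1, nat_lit 1]])) (.leaf ((nat_lit 1), [nat_lit 3, nat_lit 1, nat_lit 0, nat_lit 4, nat_lit 2, nat_lit 3, nat_lit 2], [[nat_lit 99, nat_lit 0, nat_lit 0]]))) (.node (nat_lit 412) (.leaf ((nat_lit 1), [nat_lit 0, nat_lit 5, nat_lit 1, nat_lit 4, nat_lit 2, nat_lit 1, nat_lit 3, nat_lit 2, nat_lit 1], [[nat_lit 99, nat_lit 0, nat_lit 0]])) (.leaf ((nat_lit 3), [nat_lit 2, nat_lit 1, nat_lit 5, nat_lit 3, nat_lit 2, nat_lit 1, nat_lit 4, nat_lit 2, nat_lit 1, nat_lit 0, nat_lit 3, nat_lit 2, nat_lit 1, nat_lit 0], [[nat_lit 1, nat_lit 99, nat_lit 99, nat_lit 1], [nat_lit 99, nat_lit 0, nat_lit 99]])))))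
 (.node (nat_lit 417) (.node (nat_lit 415) (.node (nat_lit 414) (.leaf ((nat_lit 1), [nat_lit 1, nat_lit 0, nat_lit 4, nat_lit 2, nat_lit 1, nat_lit 0, nat_lit 3], [[nat_lit 99, nat_lit 1]])) (.leaf ((nat_lit 1), [nat_lit 4, nat_lit 3], [[nat_lit 99]]))) (.node (nat_lit 416) (.leaf ((nat_lit 1), [nat_lit 2, nat_lit 1, nat_lit 0, nat_lit 4, nat_lit 2, nat_lit 1, nat_lit 0, nat_lit 3, nat_lit 1], [[nat_lit 99]])) (.leaf ((nat_lit 1), [nat_lit 0, nat_lit 5, nat_lit 0, nat_lit 4, nat_lit 0, nat_lit 3, nat_lit 0], [[nat_lit 99, nat_lit 1]]))))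
 (.node (nat_lit 419) (.node (nat_lit 418) (.leaf ((nat_lit 1), [nat_lit 1, nat_lit 5, nat_lit 1, nat_lit 4, nat_lit 2, nat_lit 3], [[nat_lit 99, nat_lit 99, nat_lit 99, nat_lit 0]])) (.leaf ((nat_lit 1), [nat_lit 0, nat_lit 5, nat_lit 2, nat_lit 0, nat_lit 3, nat_lit 2, nat_lit 1], [[nat_lit 99, nat_lit 0]]))) (.node (nat_lit 420) (.leaf ((nat_lit 1), [nat_lit 2, nat_lit 5, nat_lit 2, nat_lit 0, nat_lit 3], [[nat_lit 99, nat_lit 99, nat_lit 99]])) (.leaf ((nat_lit 1), [nat_lit 4, nat_lit 2, nat_lit 1, nat_lit 0, nat_lit 3, nat_lit 2], [[nat_lit 99, nat_lit 99, nat_lit 1]]))))))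
 (.node (nat_lit 429) (.node (nat_lit 425) (.node (nat_lit 423) (.node (nat_lit 422) (.leaf ((nat_lit 1), [nat_lit 4, nat_lit 5, nat_lit 4, nat_lit 2, nat_lit 1, nat_lit 3, nat_lit 0], [[nat_lit 99, nat_lit 1]])) (.leaf ((nat_lit 1), [nat_lit 5, nat_lit 4, nat_lit 3, nat_lit 0, nat_lit 3, nat_lit 2, nat_lit 1], [[nat_lit 99, nat_lit 99, nat_lit 99, nat_lit 1]]))) (.node (nat_lit 424) (.leaf ((nat_lit 1), [nat_lit 4, nat_lit 5, nat_lit 2, nat_lit 1, nat_lit 0, nat_lit 3], [[nat_lit 99, nat_lit 99, nat_lit 1]])) (.leaf ((nat_lit 1), [nat_lit 4, nat_lit 2, nat_lit 1, nat_lit 4, nat_lit 1, nat_lit 3], [[nat_lit 99, nat_lit 99, nat_lit 0, nat_lit 0]]))))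
 (.node (nat_lit 427) (.node (nat_lit 426) (.leaf ((nat_lit 1), [nat_lit 3, nat_lit 1, nat_lit 4, nat_lit 1, nat_lit 3, nat_lit 2], [[nat_lit 99, nat_lit 99, nat_lit 99, nat_lit 0]])) (.leaf ((nat_lit 1), [nat_lit 2, nat_lit 4, nat_lit 3, nat_lit 2, nat_lit 3, nat_lit 1, nat_lit 0], [[nat_lit 99, nat_lit 99, nat_lit 0, nat_lit 0]]))) (.node (nat_lit 428) (.leaf ((nat_lit 1), [nat_lit 5, nat_lit 2, nat_lit 1, nat_lit 0, nat_lit 3, nat_lit 2, nat_lit 1], [[nat_lit 99, nat_lit 0, nat_lit 99, nat_lit 0, nat_lit 0]])) (.leaf ((nat_lit 1), [nat_lit 3, nat_lit 1, nat_lit 0, nat_lit 4, nat_lit 2, nat_lit 3, nat_lit 2, nat_lit 1], [[nat_lit 99, nat_lit 99, nat_lit 99, nat_lit 0]])))))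
 (.node (nat_lit 433) (.node (nat_lit 431) (.node (nat_lit 430) (.leaf ((nat_lit 1), [nat_lit 0, nat_lit 5, nat_lit 1, nat_lit 4, nat_lit 1, nat_lit 3, nat_lit 2, nat_lit 0], [[nat_lit 99, nat_lit 99, nat_lit 0]])) (.leaf ((nat_lit 1), [nat_lit 4, nat_lit 2, nat_lit 1, nat_lit 4, nat_lit 1, nat_lit 3], [[nat_lit 99, nat_lit 1, nat_lit 99, nat_lit 0]]))) (.node (nat_lit 432) (.leaf ((nat_lit 1), [nat_lit 4, nat_lit 0, nat_lit 5, nat_lit 0, nat_lit 4, nat_lit 3, nat_lit 1], [[nat_lit 99, nat_lit 1, nat_lit 99, nat_lit 0]])) (.leaf ((nat_lit 1), [nat_lit 4, nat_lit 0, nat_lit 5, nat_lit 3, nat_lit 2, nat_lit 0, nat_lit 3], [[nat_lit 99, nat_lit 0]]))))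
 (.node (nat_lit 435) (.node (nat_lit 434) (.leaf ((nat_lit 1), [nat_lit 0, nat_lit 5, nat_lit 4, nat_lit 2, nat_lit 1, nat_lit 3, nat_lit 2, nat_lit 0], [[nat_lit 99, nat_lit 1, nat_lit 1]])) (.leaf ((nat_lit 1), [nat_lit 1, nat_lit 5, nat_lit 2, nat_lit 4, nat_lit 2], [[nat_lit 99, nat_lit 0, nat_lit 0]]))) (.node (nat_lit 436) (.leaf ((nat_lit 1), [nat_lit 4, nat_lit 0, nat_lit 5, nat_lit 0, nat_lit 4, nat_lit 2, nat_lit 3, nat_lit 2, nat_lit 1], [[nat_lit 99, nat_lit 99, nat_lit 99]])) (.node (nat_lit 437) (.leaf ((nat_lit 1), [nat_lit 2, nat_lit 1, nat_lit 5, nat_lit 4, nat_lit 1, nat_lit 0], [[nat_lit 99, nat_lit 99, nat_lit 0, nat_lit 0]])) (.leaf ((nat_lit 1), [nat_lit 1, nat_lit 5, nat_lit 2, nat_lit 4, nat_lit 2], [[nat_lit 99, nat_lit 1]]))))))))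
 (.node (nat_lit 455) (.node (nat_lit 446) (.node (nat_lit 442) (.node (nat_lit 440) (.node (nat_lit 439) (.leaf ((nat_lit 1), [nat_lit 4, nat_lit 0, nat_lit 5, nat_lit 3, nat_lit 2, nat_lit 0, nat_lit 3], [[nat_lit 99]])) (.leaf ((nat_lit 1), [nat_lit 0, nat_lit 5, nat_lit 4, nat_lit 2, nat_lit 1, nat_lit 3, nat_lit 2, nat_lit 0], [[nat_lit 99, nat_lit 0]]))) (.node (nat_lit 441) (.leaf ((nat_lit 1), [nat_lit 3, nat_lit 1, nat_lit 4, nat_lit 2, nat_lit 0, nat_lit 3, nat_lit 0], [[nat_lit 99, nat_lit 99, nat_lit 1]])) (.leaf ((nat_lit 1), [nat_lit 4, nat_lit 0, nat_lit 5, nat_lit 0, nat_lit 4, nat_lit 3, nat_lit 1], [[nat_lit 99, nat_lit 99, nat_lit 0, nat_lit 0]]))))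
 (.node (nat_lit 444) (.node (nat_lit 443) (.leaf ((nat_lit 1), [nat_lit 4, nat_lit 1, nat_lit 3, nat_lit 1], [[nat_lit 99, nat_lit 99, nat_lit 99]])) (.leaf ((nat_lit 1), [nat_lit 5, nat_lit 4, nat_lit 5], [[nat_lit 99, nat_lit 99, nat_lit 1]]))) (.node (nat_lit 445) (.leaf ((nat_lit 1), [nat_lit 0, nat_lit 5, nat_lit 4, nat_lit 2, nat_lit 1, nat_lit 3, nat_lit 2, nat_lit 0], [[nat_lit 99, nat_lit 0, nat_lit 0]])) (.leaf ((nat_lit 1), [nat_lit 1, nat_lit 5, nat_lit 2, nat_lit 4, nat_lit 2], [[nat_lit 99, nat_lit 1, nat_lit 1]])))))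
 (.node (nat_lit 450) (.node (nat_lit 448) (.node (nat_lit 447) (.leaf ((nat_lit 1), [nat_lit 5, nat_lit 4, nat_lit 5, nat_lit 2, nat_lit 4], [[nat_lit 99, nat_lit 99, nat_lit 99]])) (.leaf ((nat_lit 1), [nat_lit 2, nat_lit 1, nat_lit 5, nat_lit 4, nat_lit 2, nat_lit 1, nat_lit 3], [[nat_lit 99, nat_lit 99, nat_lit 0]]))) (.node (nat_lit 449) (.leaf ((nat_lit 1), [nat_lit 0, nat_lit 5, nat_lit 4, nat_lit 2, nat_lit 1, nat_lit 3, nat_lit 2, nat_lit 0], [[nat_lit 99]])) (.leaf ((nat_lit 1), [nat_lit 4, nat_lit 0, nat_lit 5, nat_lit 3, nat_lit 2, nat_lit 0, nat_lit 3], [[nat_lit 99, nat_lit 0, nat_lit 0]]))))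
 (.node (nat_lit 452) (.node (nat_lit 451) (.leaf ((nat_lit 1), [nat_lit 1, nat_lit 5, nat_lit 2, nat_lit 4, nat_lit 2], [[nat_lit 99]])) (.leaf ((nat_lit 1), [nat_lit 4, nat_lit 0, nat_lit 5, nat_lit 3, nat_lit 2], [[nat_lit 99, nat_lit 99, nat_lit 0, nat_lit 0]]))) (.node (nat_lit 453) (.leaf ((nat_lit 1), [nat_lit 2, nat_lit 0, nat_lit 5, nat_lit 2, nat_lit 3, nat_lit 0], [[nat_lit 99, nat_lit 99, nat_lit 99, nat_lit 0]])) (.node (nat_lit 454) (.leaf ((nat_lit 1), [nat_lit 3, nat_lit 1, nat_lit 0, nat_lit 4, nat_lit 1, nat_lit 0, nat_lit 3, nat_lit 1], [[nat_lit 99, nat_lit 0, nat_lit 99, nat_lit 0, nat_lit 0]])) (.leaf ((nat_lit 1), [nat_lit 3, nat_lit 1, nat_lit 5, nat_lit 3, nat_lit 2, nat_lit 3, nat_lit 0], [[nat_lit 99]])))))))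
 (.node (nat_lit 463) (.node (nat_lit 459) (.node (nat_lit 457) (.node (nat_lit 456) (.leaf ((nat_lit 1), [nat_lit 4, nat_lit 0, nat_lit 4, nat_lit 1, nat_lit 0, nat_lit 3, nat_lit 1], [[nat_lit 99, nat_lit 99, nat_lit 0]])) (.leaf ((nat_lit 1), [nat_lit 2, nat_lit 4, nat_lit 3, nat_lit 2, nat_lit 3, nat_lit 1, nat_lit 0], [[nat_lit 99, nat_lit 1, nat_lit 99, nat_lit 0]]))) (.node (nat_lit 458) (.leaf ((nat_lit 1), [nat_lit 5, nat_lit 3, nat_lit 1, nat_lit 4, nat_lit 2, nat_lit 0], [[nat_lit 99, nat_lit 99, nat_lit 99]])) (.leaf ((nat_lit 1), [nat_lit 2, nat_lit 5, nat_lit 2, nat_lit 1, nat_lit 4, nat_lit 2, nat_lit 1], [[nat_lit 99, nat_lit 99, nat_lit 99]]))))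
 (.node (nat_lit 461) (.node (nat_lit 460) (.leaf ((nat_lit 1), [nat_lit 4, nat_lit 0, nat_lit 5, nat_lit 1, nat_lit 3, nat_lit 0], [[nat_lit 99, nat_lit 99, nat_lit 1, nat_lit 1]])) (.leaf ((nat_lit 1), [nat_lit 3, nat_lit 1, nat_lit 5, nat_lit 3, nat_lit 2, nat_lit 3, nat_lit 0], [[nat_lit 99, nat_lit 0]]))) (.node (nat_lit 462) (.leaf ((nat_lit 1), [nat_lit 1, nat_lit 0, nat_lit 4, nat_lit 2, nat_lit 3, nat_lit 2, nat_lit 1], [[nat_lit 99, nat_lit 99, nat_lit 1]])) (.leaf ((nat_lit 1), [nat_lit 0, nat_lit 5, nat_lit 1, nat_lit 0, nat_lit 3], [[nat_lit 99, nat_lit 99, nat_lit 99, nat_lit 0, nat_lit 0]])))))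
 (.node (nat_lit 467) (.node (nat_lit 465) (.node (nat_lit 464) (.leaf ((nat_lit 1), [nat_lit 1, nat_lit 4, nat_lit 0, nat_lit 3, nat_lit 2, nat_lit 0], [[nat_lit 99, nat_lit 99, nat_lit 99, nat_lit 0, nat_lit 0]])) (.leaf ((nat_lit 1), [nat_lit 3, nat_lit 1, nat_lit 0, nat_lit 4, nat_lit 3], [[nat_lit 99, nat_lit 99, nat_lit 0]]))) (.node (nat_lit 466) (.leaf ((nat_lit 1), [nat_lit 4, nat_lit 0, nat_lit 4, nat_lit 1, nat_lit 0, nat_lit 3, nat_lit 1], [[nat_lit 99, nat_lit 0, nat_lit 99, nat_lit 0, nat_lit 0]])) (.leaf ((nat_lit 1), [nat_lit 3, nat_lit 1, nat_lit 0, nat_lit 4, nat_lit 1, nat_lit 0, nat_lit 3, nat_lit 1], [[nat_lit 99, nat_lit 99, nat_lit 0]]))))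
 (.node (nat_lit 469) (.node (nat_lit 468) (.leaf ((nat_lit 1), [nat_lit 4, nat_lit 5, nat_lit 4, nat_lit 2, nat_lit 1, nat_lit 3, nat_lit 0], [[nat_lit 99]])) (.leaf ((nat_lit 1), [nat_lit 0, nat_lit 5, nat_lit 3, nat_lit 1, nat_lit 4, nat_lit 2, nat_lit 3], [[nat_lit 99, nat_lit 99, nat_lit 0, nat_lit 0]]))) (.node (nat_lit 470) (.leaf ((nat_lit 1), [nat_lit 5, nat_lit 2, nat_lit 1, nat_lit 0, nat_lit 3, nat_lit 2, nat_lit 1], [[nat_lit 99, nat_lit 99, nat_lit 0]])) (.node (nat_lit 471) (.leaf ((nat_lit 1), [nat_lit 5, nat_lit 2, nat_lit 1, nat_lit 4, nat_lit 2, nat_lit 0], [[nat_lit 99, nat_lit 99, nat_lit 0]])) (.leaf ((nat_lit 1), [nat_lit 4, nat_lit 0, nat_lit 5, nat_lit 1, nat_lit 3, nat_lit 0], [[nat_lit 99, nat_lit 1, nat_lit 1, nat_lit 99, nat_lit 0]])))))))))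
 (.node (nat_lit 506) (.node (nat_lit 489) (.node (nat_lit 480) (.node (nat_lit 476) (.node (nat_lit 474) (.node (nat_lit 473) (.leaf ((nat_lit 1), [nat_lit 1, nat_lit 5, nat_lit 2, nat_lit 4, nat_lit 2], [[nat_lit 99, nat_lit 0]])) (.leaf ((nat_lit 1), [nat_lit 4, nat_lit 0, nat_lit 5, nat_lit 3, nat_lit 2, nat_lit 0, nat_lit 3], [[nat_lit 99, nat_lit 1]]))) (.node (nat_lit 475) (.leaf ((nat_lit 1), [nat_lit 0, nat_lit 5, nat_lit 4, nat_lit 2, nat_lit 1, nat_lit 3, nat_lit 2, nat_lit 0], [[nat_lit 99, nat_lit 1]])) (.leaf ((nat_lit 1), [nat_lit 3, nat_lit 2, nat_lit 1, nat_lit 5, nat_lit 2, nat_lit 4], [[nat_lit 99, nat_lit 99, nat_lit 1, nat_lit 1]]))))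
 (.node (nat_lit 478) (.node (nat_lit 477) (.leaf ((nat_lit 1), [nat_lit 4, nat_lit 5, nat_lit 4, nat_lit 2, nat_lit 1, nat_lit 3, nat_lit 0], [[nat_lit 99, nat_lit 0]])) (.leaf ((nat_lit 1), [nat_lit 5, nat_lit 2, nat_lit 4, nat_lit 1], [[nat_lit 99, nat_lit 99, nat_lit 99]]))) (.node (nat_lit 479) (.leaf ((nat_lit 1), [nat_lit 2, nat_lit 0, nat_lit 5, nat_lit 4, nat_lit 0, nat_lit 4, nat_lit 3, nat_lit 2, nat_lit 3], [[nat_lit 99, nat_lit 99, nat_lit 1]])) (.leaf ((nat_lit 1), [nat_lit 2, nat_lit 0, nat_lit 5, nat_lit 2, nat_lit 3, nat_lit 1], [[nat_lit 99, nat_lit 99, nat_lit 0]])))))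
 (.node (nat_lit 484) (.node (nat_lit 482) (.node (nat_lit 481) (.leaf ((nat_lit 2), [nat_lit 5, nat_lit 4, nat_lit 5, nat_lit 2, nat_lit 0, nat_lit 4, nat_lit 2, nat_lit 3], [[nat_lit 99, nat_lit 99], [nat_lit 0, nat_lit 0]])) (.leaf ((nat_lit 2), [nat_lit 4, nat_lit 0, nat_lit 4, nat_lit 2, nat_lit 1, nat_lit 0], [[nat_lit 99, nat_lit 99, nat_lit 99, nat_lit 1], [nat_lit 0]]))) (.node (nat_lit 483) (.leaf ((nat_lit 2), [nat_lit 2, nat_lit 5, nat_lit 0, nat_lit 4, nat_lit 1, nat_lit 0], [[nat_lit 99, nat_lit 99, nat_lit 0, nat_lit 99, nat_lit 0], [nat_lit 99, nat_lit 99, nat_lit 1, nat_lit 99]])) (.leaf ((nat_lit 2), [nat_lit 0, nat_lit 4, nat_lit 0, nat_lit 3, nat_lit 2], [[nat_lit 99, nat_lit 99, nat_lit 0, nat_lit 0], [nat_lit 0, nat_lit 0]]))))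
 (.node (nat_lit 486) (.node (nat_lit 485) (.leaf ((nat_lit 2), [nat_lit 2, nat_lit 5, nat_lit 3, nat_lit 2, nat_lit 0], [[nat_lit 99, nat_lit 99, nat_lit 0], [nat_lit 0]])) (.leaf ((nat_lit 2), [nat_lit 5, nat_lit 4, nat_lit 0, nat_lit 4, nat_lit 3, nat_lit 0], [[nat_lit 99, nat_lit 0, nat_lit 0], [nat_lit 0, nat_lit 0]]))) (.node (nat_lit 487) (.leaf ((nat_lit 2), [nat_lit 3, nat_lit 1, nat_lit 5, nat_lit 4, nat_lit 2, nat_lit 1, nat_lit 0, nat_lit 3], [[nat_lit 99, nat_lit 1], [nat_lit 0]])) (.node (nat_lit 488) (.leaf ((nat_lit 2), [nat_lit 5, nat_lit 4, nat_lit 5, nat_lit 2, nat_lit 0, nat_lit 4, nat_lit 2, nat_lit 3], [[nat_lit 99, nat_lit 99, nat_lit 0, nat_lit 0], [nat_lit 0, nat_lit 0]])) (.leaf ((nat_lit 2), [nat_lit 5, nat_lit 4, nat_lit 5, nat_lit 3, nat_lit 1, nat_lit 0], [[nat_lit 99, nat_lit 99], [nat_lit 0]])))))))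
 (.node (nat_lit 497) (.node (nat_lit 493) (.node (nat_lit 491) (.node (nat_lit 490) (.leaf ((nat_lit 2), [nat_lit 3, nat_lit 1, nat_lit 5, nat_lit 4, nat_lit 2, nat_lit 1, nat_lit 0, nat_lit 3], [[nat_lit 99, nat_lit 0], [nat_lit 0]])) (.leaf ((nat_lit 2), [nat_lit 0, nat_lit 5, nat_lit 4, nat_lit 2, nat_lit 1, nat_lit 0, nat_lit 3, nat_lit 1], [[nat_lit 99, nat_lit 99], [nat_lit 1, nat_lit 1]]))) (.node (nat_lit 492) (.leaf ((nat_lit 2), [nat_lit 5, nat_lit 4, nat_lit 0, nat_lit 4, nat_lit 3, nat_lit 0], [[nat_lit 99], [nat_lit 0, nat_lit 0]])) (.leaf ((nat_lit 2), [nat_lit 0, nat_lit 5, nat_lit 4, nat_lit 2, nat_lit 1, nat_lit 3, nat_lit 2, nat_lit 1], [[nat_lit 99, nat_lit 99, nat_lit 1, nat_lit 99, nat_lit 0], [nat_lit 99, nat_lit 99, nat_lit 0, nat_lit 99]]))))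
 (.node (nat_lit 495) (.node (nat_lit 494) (.leaf ((nat_lit 2), [nat_lit 5, nat_lit 4, nat_lit 5, nat_lit 2, nat_lit 0, nat_lit 4, nat_lit 2, nat_lit 3], [[nat_lit 99, nat_lit 1, nat_lit 99, nat_lit 0], [nat_lit 0, nat_lit 0]])) (.leaf ((nat_lit 2), [nat_lit 5, nat_lit 4, nat_lit 5, nat_lit 3, nat_lit 1, nat_lit 0], [[nat_lit 99, nat_lit 99, nat_lit 0], [nat_lit 0]]))) (.node (nat_lit 496) (.leaf ((nat_lit 2), [nat_lit 1, nat_lit 4, nat_lit 3, nat_lit 1], [[nat_lit 99, nat_lit 99, nat_lit 0, nat_lit 99, nat_lit 0], [nat_lit 99, nat_lit 99, nat_lit 1, nat_lit 99]])) (.leaf ((nat_lit 2), [nat_lit 1, nat_lit 0, nat_lit 5, nat_lit 1, nat_lit 0, nat_lit 4, nat_lit 1, nat_lit 0], [[nat_lit 99, nat_lit 99, nat_lit 99, nat_lit 0], [nat_lit 0, nat_lit 0]])))))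
 (.node (nat_lit 501) (.node (nat_lit 499) (.node (nat_lit 498) (.leaf ((nat_lit 2), [nat_lit 5, nat_lit 4, nat_lit 5, nat_lit 2, nat_lit 0, nat_lit 4, nat_lit 2, nat_lit 3], [[nat_lit 99, nat_lit 0, nat_lit 99, nat_lit 0], [nat_lit 0, nat_lit 0]])) (.leaf ((nat_lit 2), [nat_lit 2, nat_lit 0, nat_lit 5, nat_lit 3, nat_lit 1, nat_lit 0, nat_lit 4, nat_lit 2, nat_lit 1], [[nat_lit 99, nat_lit 99, nat_lit 99, nat_lit 0], [nat_lit 1]]))) (.node (nat_lit 500) (.leaf ((nat_lit 2), [nat_lit 5, nat_lit 4, nat_lit 5, nat_lit 1, nat_lit 4, nat_lit 1, nat_lit 3, nat_lit 1], [[nat_lit 99, nat_lit 99], [nat_lit 1]])) (.leaf ((nat_lit 2), [nat_lit 3, nat_lit 1, nat_lit 5, nat_lit 4, nat_lit 2, nat_lit 1, nat_lit 0, nat_lit 3], [[nat_lit 99], [nat_lit 0]]))))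
 (.node (nat_lit 503) (.node (nat_lit 502) (.leaf ((nat_lit 2), [nat_lit 5, nat_lit 4, nat_lit 0, nat_lit 4, nat_lit 3, nat_lit 0], [[nat_lit 99, nat_lit 0], [nat_lit 0, nat_lit 0]])) (.leaf ((nat_lit 2), [nat_lit 5, nat_lit 4, nat_lit 5, nat_lit 2, nat_lit 0, nat_lit 4, nat_lit 2, nat_lit 3], [[nat_lit 99, nat_lit 99], [nat_lit 0, nat_lit 0]]))) (.node (nat_lit 504) (.leaf ((nat_lit 2), [nat_lit 0, nat_lit 4, nat_lit 0, nat_lit 3, nat_lit 2], [[nat_lit 99, nat_lit 99, nat_lit 0, nat_lit 0], [nat_lit 0, nat_lit 0]])) (.node (nat_lit 505) (.leaf ((nat_lit 2), [nat_lit 0, nat_lit 4, nat_lit 0, nat_lit 3, nat_lit 2], [[nat_lit 99, nat_lit 99, nat_lit 0, nat_lit 0], [nat_lit 0, nat_lit 0]])) (.leaf ((nat_lit 2), [nat_lit 5, nat_lit 4, nat_lit 5, nat_lit 2, nat_lit 0, nat_lit 4, nat_lit 2, nat_lit 3], [[nat_lit 99, nat_lit 99], [nat_lit 0, nat_lit 0]]))))))))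
 (.node (nat_lit 523) (.node (nat_lit 514) (.node (nat_lit 510) (.node (nat_lit 508) (.node (nat_lit 507) (.leaf ((nat_lit 2), [nat_lit 2, nat_lit 5, nat_lit 0, nat_lit 4, nat_lit 1, nat_lit 0], [[nat_lit 99, nat_lit 99, nat_lit 0, nat_lit 99, nat_lit 0], [nat_lit 99, nat_lit 99, nat_lit 1, nat_lit 99]])) (.leaf ((nat_lit 2), [nat_lit 4, nat_lit 0, nat_lit 4, nat_lit 2, nat_lit 1, nat_lit 0], [[nat_lit 99, nat_lit 99, nat_lit 99, nat_lit 1], [nat_lit 0]]))) (.node (nat_lit 509) (.leaf ((nat_lit 2), [nat_lit 5, nat_lit 4, nat_lit 5, nat_lit 3, nat_lit 1, nat_lit 0], [[nat_lit 99, nat_lit 99], [nat_lit 0]])) (.leaf ((nat_lit 2), [nat_lit 2, nat_lit 0, nat_lit 5, nat_lit 1, nat_lit 3, nat_lit 1, nat_lit 0], [[nat_lit 99, nat_lit 99, nat_lit 1, nat_lit 99, nat_lit 0], [nat_lit 99, nat_lit 99, nat_lit 0, nat_lit 99]]))))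
 (.node (nat_lit 512) (.node (nat_lit 511) (.leaf ((nat_lit 2), [nat_lit 0, nat_lit 5, nat_lit 4, nat_lit 2, nat_lit 1, nat_lit 0, nat_lit 3, nat_lit 1], [[nat_lit 99, nat_lit 99], [nat_lit 1, nat_lit 1]])) (.leaf ((nat_lit 2), [nat_lit 3, nat_lit 1, nat_lit 5, nat_lit 4, nat_lit 2, nat_lit 1, nat_lit 0, nat_lit 3], [[nat_lit 99, nat_lit 99, nat_lit 99, nat_lit 0], [nat_lit 0]]))) (.node (nat_lit 513) (.leaf ((nat_lit 2), [nat_lit 1, nat_lit 4, nat_lit 3, nat_lit 1], [[nat_lit 99, nat_lit 99, nat_lit 0, nat_lit 99, nat_lit 0], [nat_lit 99, nat_lit 99, nat_lit 1, nat_lit 99]])) (.leaf ((nat_lit 2), [nat_lit 5, nat_lit 4, nat_lit 5, nat_lit 3, nat_lit 1, nat_lit 0], [[nat_lit 99, nat_lit 99, nat_lit 0], [nat_lit 0]])))))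
 (.node (nat_lit 518) (.node (nat_lit 516) (.node (nat_lit 515) (.leaf ((nat_lit 2), [nat_lit 0, nat_lit 5, nat_lit 4, nat_lit 2, nat_lit 1, nat_lit 3, nat_lit 2, nat_lit 1], [[nat_lit 99, nat_lit 99, nat_lit 1, nat_lit 99, nat_lit 0], [nat_lit 99, nat_lit 99, nat_lit 0, nat_lit 99]])) (.leaf ((nat_lit 2), [nat_lit 5, nat_lit 4, nat_lit 5, nat_lit 2, nat_lit 0, nat_lit 4, nat_lit 2, nat_lit 3], [[nat_lit 99, nat_lit 1, nat_lit 99, nat_lit 0], [nat_lit 0, nat_lit 0]]))) (.node (nat_lit 517) (.leaf ((nat_lit 2), [nat_lit 3, nat_lit 1, nat_lit 4, nat_lit 1, nat_lit 0, nat_lit 3, nat_lit 2], [[nat_lit 99, nat_lit 0], [nat_lit 1]])) (.leaf ((nat_lit 2), [nat_lit 4, nat_lit 5, nat_lit 2, nat_lit 1, nat_lit 4, nat_lit 3, nat_lit 2], [[nat_lit 99, nat_lit 1], [nat_lit 1, nat_lit 1]]))))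
 (.node (nat_lit 520) (.node (nat_lit 519) (.leaf ((nat_lit 2), [nat_lit 5, nat_lit 4, nat_lit 5, nat_lit 1, nat_lit 4, nat_lit 1, nat_lit 3, nat_lit 1], [[nat_lit 99, nat_lit 99], [nat_lit 1]])) (.leaf ((nat_lit 2), [nat_lit 5, nat_lit 4, nat_lit 5, nat_lit 2, nat_lit 0, nat_lit 4, nat_lit 2, nat_lit 3], [[nat_lit 99, nat_lit 0, nat_lit 99, nat_lit 0], [nat_lit 0, nat_lit 0]]))) (.node (nat_lit 521) (.leaf ((nat_lit 2), [nat_lit 2, nat_lit 0, nat_lit 5, nat_lit 1, nat_lit 3, nat_lit 1, nat_lit 0], [[nat_lit 99, nat_lit 99, nat_lit 1, nat_lit 99, nat_lit 0], [nat_lit 99, nat_lit 99, nat_lit 0, nat_lit 99]])) (.node (nat_lit 522) (.leaf ((nat_lit 2), [nat_lit 0, nat_lit 5, nat_lit 4, nat_lit 2, nat_lit 1, nat_lit 0, nat_lit 3, nat_lit 1], [[nat_lit 99, nat_lit 99], [nat_lit 1, nat_lit 1]])) (.leaf ((nat_lit 2), [nat_lit 5, nat_lit 4, nat_lit 5, nat_lit 3, nat_lit 1, nat_lit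 0], [[nat_lit 99, nat_lit 99], [nat_lit 0]])))))))
 (.node (nat_lit 531) (.node (nat_lit 527) (.node (nat_lit 525) (.node (nat_lit 524) (.leaf ((nat_lit 2), [nat_lit 3, nat_lit 1, nat_lit 5, nat_lit 4, nat_lit 2, nat_lit 1, nat_lit 0, nat_lit 3], [[nat_lit 99, nat_lit 99, nat_lit 99, nat_lit 0], [nat_lit 0]])) (.leaf ((nat_lit 2), [nat_lit 1, nat_lit 4, nat_lit 0, nat_lit 3, nat_lit 2, nat_lit 1], [[nat_lit 99, nat_lit 99, nat_lit 99, nat_lit 1], [nat_lit 1, nat_lit 1]]))) (.node (nat_lit 526) (.leaf ((nat_lit 2), [nat_lit 5, nat_lit 4, nat_lit 5, nat_lit 2, nat_lit 0, nat_lit 4, nat_lit 2, nat_lit 3], [[nat_lit 99, nat_lit 99, nat_lit 0, nat_lit 0], [nat_lit 0, nat_lit 0]])) (.leaf ((nat_lit 2), [nat_lit 2, nat_lit 5, nat_lit 3, nat_lit 2, nat_lit 0], [[nat_lit 99, nat_lit 99, nat_lit 0], [nat_lit 0]]))))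
 (.node (nat_lit 529) (.node (nat_lit 528) (.leaf ((nat_lit 2), [nat_lit 5, nat_lit 4, nat_lit 0, nat_lit 4, nat_lit 3, nat_lit 0], [[nat_lit 99, nat_lit 99, nat_lit 99, nat_lit 0, nat_lit 0], [nat_lit 0, nat_lit 0]])) (.leaf ((nat_lit 2), [nat_lit 4, nat_lit 5, nat_lit 2, nat_lit 1, nat_lit 4, nat_lit 3, nat_lit 2], [[nat_lit 99], [nat_lit 1, nat_lit 1]]))) (.node (nat_lit 530) (.leaf ((nat_lit 2), [nat_lit 5, nat_lit 4, nat_lit 5, nat_lit 2, nat_lit 0, nat_lit 4, nat_lit 2, nat_lit 3], [[nat_lit 99, nat_lit 1, nat_lit 99, nat_lit 0], [nat_lit 0, nat_lit 0]])) (.leaf ((nat_lit 2), [nat_lit 3, nat_lit 1, nat_lit 4, nat_lit 1, nat_lit 0, nat_lit 3, nat_lit 2], [[nat_lit 99], [nat_lit 1]])))))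
 (.node (nat_lit 535) (.node (nat_lit 533) (.node (nat_lit 532) (.leaf ((nat_lit 2), [nat_lit 5, nat_lit 4, nat_lit 5, nat_lit 3, nat_lit 1, nat_lit 0], [[nat_lit 99, nat_lit 99, nat_lit 0], [nat_lit 0]])) (.leaf ((nat_lit 2), [nat_lit 2, nat_lit 5, nat_lit 3, nat_lit 2, nat_lit 0], [[nat_lit 99, nat_lit 99, nat_lit 0], [nat_lit 0]]))) (.node (nat_lit 534) (.leaf ((nat_lit 2), [nat_lit 5, nat_lit 4, nat_lit 0, nat_lit 4, nat_lit 3, nat_lit 0], [[nat_lit 99, nat_lit 99, nat_lit 99, nat_lit 0, nat_lit 0], [nat_lit 0, nat_lit 0]])) (.leaf ((nat_lit 2), [nat_lit 5, nat_lit 4, nat_lit 5, nat_lit 2, nat_lit 0, nat_lit 4, nat_lit 2, nat_lit 3], [[nat_lit 99, nat_lit 99, nat_lit 0, nat_lit 0], [nat_lit 0, nat_lit 0]]))))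
 (.node (nat_lit 537) (.node (nat_lit 536) (.leaf ((nat_lit 2), [nat_lit 1, nat_lit 4, nat_lit 0, nat_lit 3, nat_lit 2, nat_lit 1], [[nat_lit 99, nat_lit 99, nat_lit 99, nat_lit 1], [nat_lit 1, nat_lit 1]])) (.leaf ((nat_lit 2), [nat_lit 2, nat_lit 0, nat_lit 5, nat_lit 3, nat_lit 1, nat_lit 0, nat_lit 4, nat_lit 2, nat_lit 1], [[nat_lit 99, nat_lit 99, nat_lit 99, nat_lit 0], [nat_lit 1]]))) (.node (nat_lit 538) (.leaf ((nat_lit 2), [nat_lit 5, nat_lit 4, nat_lit 5, nat_lit 1, nat_lit 4, nat_lit 1, nat_lit 3, nat_lit 1], [[nat_lit 99, nat_lit 99], [nat_lit 1]])) (.node (nat_lit 539) (.leaf ((nat_lit 2), [nat_lit 1, nat_lit 0, nat_lit 5, nat_lit 1, nat_lit 0, nat_lit 4, nat_lit 1, nat_lit 0], [[nat_lit 99, nat_lit 99, nat_lit 99, nat_lit 0], [nat_lit 0, nat_lit 0]])) (.leaf ((nat_lit 2), [nat_lit 5, nat_lit 4, nat_lit 5, nat_lit 2, nat_lit 0, nat_lit 4, nat_lit 2, nat_lit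 3], [[nat_lit 99, nat_lit 0, nat_lit 99, nat_lit 0], [nat_lit 0, nat_lit 0]]))))))))))
noncomputable def n0CE : Tr (ℕ × List ℕ × List (List ℕ)) := (.node (nat_lit 270) (.node (nat_lit 135) n0CE_0 n0CE_1) (.node (nat_lit 405) n0CE_2 n0CE_3))
theorem n0s_0 : allR 0 187 (stepChk (nat_lit 4) (nat_lit 15) (MG.gl42L.map Lev.b) MG.gl42T n0T n0mT n0mT n0Dd AW [nat_lit 1, nat_lit 2, nat_lit 3] n0Ws n0CE) = true := by decide +kernel
theorem n0s_1 : allR 187 190 (stepChk (nat_lit 4) (nat_lit 15) (MG.gl42L.map Lev.b) MG.gl42T n0T n0mT n0mT n0Dd AW [nat_lit 1, nat_lit 2, nat_lit 3] n0Ws n0CE) = true := by decide +kernel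
theorem n0s_2 : allR 377 144 (stepChk (nat_lit 4) (nat_lit 15) (MG.gl42L.map Lev.b) MG.gl42T n0T n0mT n0mT n0Dd AW [nat_lit 1, nat_lit 2, nat_lit 3] n0Ws n0CE) = true := by decide +kernel
theorem n0s_3 : allR 521 19 (stepChk (nat_lit 4) (nat_lit 15) (MG.gl42L.map Lev.b) MG.gl42T n0T n0mT n0mT n0Dd AW [nat_lit 1, nat_lit 2, nat_lit 3] n0Ws n0CE) = true := by decide +kernel
theorem n0s : allR 0 540 (stepChk (nat_lit 4) (nat_lit 15) (MG.gl42L.map Lev.b) MG.gl42T n0T n0mT n0mT n0Dd AW [nat_lit 1, nat_lit 2, nat_lit 3] n0Ws n0CE) = true := (allR_add (allR_add (allR_add n0s_0 n0s_1) n0s_2) n0s_3)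
theorem s0 {G : Type*} [Group G] [Finite G] {X : Type*} [MulAction G X] {pt : ℕ → X} (C : Ch G 15 (nat_lit 4) (nat_lit 15) pt MG.gl42T MG.gl42L) {H : Subgroup G} (h : PJ C.lets.e AW 0 H) :
    ∃ K : Subgroup G, Nonempty (H ≃* K) ∧ (Q K ∨ ∃ j ∈ [nat_lit 1, nat_lit 2, nat_lit 3], PJ C.lets.e AW j K) := by
  obtain ⟨K, e, hK⟩ := h.conj
  refine ⟨K, e, ?_⟩
  obtain ⟨N, D, S⟩ := (C.gen (lets_words C.lets n0E n0w) n0chain n0sd n0tc)
  have le := C.le_AW D hK n0slp n0a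
  obtain ⟨M, E, -⟩ := (C.gen (lets_words C.lets n0mE n0mw) n0mchain n0msd n0mtc)
  have NM := D.le_lets C.base (lets_words E.lets n0xE n0xw)
  have PN := le_refl N
  have F := D
  have MP := C.le_nor E F n0r
  have hD := lets_words C.lets n0dE n0dw
  refine (C.step D.lets E.lets E.lets hD MP le_rfl (C.dbl E.lets hD n0q (by decide +kernel)) (Ws := n0Ws) (fun u hu => let ⟨w, h1, h2⟩ := E.words n0Wsc ⟨u, hu⟩; ⟨w, h1, 1, one_mem _, by rw [h2, mul_one]⟩) (by decide +kernel) n0s le).imp_left fun h => ?_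
  exact .inl (QS.of (PN.trans le) (h.trans MP) (p := 5) (j := 0) (by norm_num) (F.card.trans (by decide +kernel)))

end H8.LA
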