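import Cfsg.Agent.H8.LA0

/-! H8.LA2: subgroups of GL(4,2): overgroups of an element of order 7 (generated certificate) -/

set_option autoImplicit false
set_option maxRecDepth 200000

set_option linter.all false
open Subgroup 

namespace H8.LA

noncomputable def n1t0 : ℕ := (nat_lit 0xd5c408193b6ea27)
noncomputable def n1t1 : ℕ := (nat_lit 0x3ec527904db618a)
noncomputable def n1T : Tr ℕ := (.node (nat_lit 1) (.leaf n1t0) (.leaf n1t1))
noncomputable def n1R : Tr (List ℕ) := (.node (nat_lit 1) (.leaf [nat_lit 0, nat_lit 1]) (.leaf [nat_lit 0, nat_lit 0, nat_lit 0, nat_lit 0, nat_lit 0, nat_lit 0, nat_lit 0]))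
noncomputable def n1L0 : Lev := ⟨(nat_lit 0), (nat_lit 2), (nat_lit 0x102020200000000010100), (nat_lit 0x102030100000000020300),
 (.node (nat_lit 1) (.leaf (nat_lit 0x1000200010000000000000000000000000001))
 (.leaf (nat_lit 0x10000000000000000000000000000000100030001))),
 (.node (nat_lit 1) (.leaf (nat_lit 0x103000000000000000000000000000000000000000000000000))
 (.leaf (nat_lit 0x1000000000000000000000000000000000000000000000001000001000001)))⟩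
noncomputable def n1L : List Lev := [n1L0]
noncomputable def n1E : Tr (List ℕ) := (.node (nat_lit 1) (.leaf [nat_lit 0, nat_lit 5, nat_lit 4, nat_lit 2, nat_lit 1, nat_lit 4, nat_lit 3, nat_lit 2, nat_lit 1, nat_lit 0]) (.leaf [nat_lit 2, nat_lit 1, nat_lit 0, nat_lit 5, nat_lit 1, nat_lit 0, nat_lit 4, nat_lit 1, nat_lit 3]))
theorem n1w_0 : n1T.all2 (fun c w => isProd 15 (nat_lit 4) (nat_lit 15) MG.gl42T c w) n1E = true := by decide +kernel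
theorem n1w : n1T.all2 (fun c w => isProd 15 (nat_lit 4) (nat_lit 15) MG.gl42T c w) n1E = true := n1w_0
theorem n1lev0 : levChk 15 (nat_lit 4) (nat_lit 15) n1T n1R n1L0 0 = true := by decide +kernel
theorem n1chain : Chain 15 (nat_lit 4) (nat_lit 15) n1T n1R n1L := chain_one n1lev0
theorem n1sd : band (selChk n1T n1T (topN n1L)) (n1R.all fun w => eqB (MG.gl42L.map Lev.b) (apL (nat_lit 4) (nat_lit 15) n1T w) fun a => a) = true := by decide +kernel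
theorem n1tc : tchainChk 15 (nat_lit 4) (nat_lit 15) n1T n1L = true := by decide +kernel
noncomputable def n1s0 : ℕ := (nat_lit 0x63cd107abe54892)
noncomputable def n1s1 : ℕ := (nat_lit 0xd5c408193b6ea27)
noncomputable def n1s2 : ℕ := (nat_lit 0x3ec527904db618a)
noncomputable def n1S : Tr ℕ := (.node (nat_lit 1) (.leaf n1s0) (.node (nat_lit 2) (.leaf n1s1) (.leaf n1s2)))
noncomputable def n1D : Tr (List ℕ) := (.node (nat_lit 1) (.leaf []) (.node (nat_lit 2) (.leaf [nat_lit 0, nat_lit 0, nat_lit 0]) (.leaf [nat_lit 1, nat_lit 1, nat_lit 1, nat_lit 1, nat_lit 1, nat_lit 1])))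
theorem n1slp : slpChk 15 (nat_lit 4) (nat_lit 15) n1S n1D 1 2 = true := by decide +kernel
theorem n1a : band (selChk n1T n1S (1 + 2)) (allB 1 fun j => anyL (AW.get 1) fun w => isProd 15 (nat_lit 4) (nat_lit 15) MG.gl42T (n1S.get j) w) = true := by decide +kernel
noncomputable def n1mt0 : ℕ := (nat_lit 0x65cb872143eda90)
noncomputable def n1mt1 : ℕ := (nat_lit 0x43cb21a9ed65870)
noncomputable def n1mt2 : ℕ := (nat_lit 0xe4c6280a3d5b719)
noncomputable def n1mt3 : ℕ := (nat_lit 0xe5c37092b4d6a18)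
noncomputable def n1mT : Tr ℕ := (.node (nat_lit 2) (.node (nat_lit 1) (.leaf n1mt0) (.leaf n1mt1)) (.node (nat_lit 3) (.leaf n1mt2) (.leaf n1mt3)))
noncomputable def n1mR : Tr (List ℕ) := (.node (nat_lit 3) (.node (nat_lit 1) (.leaf [nat_lit 0, nat_lit 0, nat_lit 0]) (.node (nat_lit 2) (.leaf [nat_lit 0, nat_lit 1]) (.leaf [nat_lit 2, nat_lit 3]))) (.node (nat_lit 4) (.leaf [nat_lit 2, nat_lit 0, nat_lit 2, nat_lit 0, nat_lit 2, nat_lit 0]) (.node (nat_lit 5) (.leaf [nat_lit 0, nat_lit 3, nat_lit 1, nat_lit 2, nat_lit 0, nat_lit 3]) (.leaf [nat_lit 2, nat_lit 2, nat_lit 2]))))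
noncomputable def n1mL0 : Lev := ⟨(nat_lit 0), (nat_lit 4), (nat_lit 0x104030200000000020100), (nat_lit 0x201010200000000020200),
 (.node (nat_lit 2) (.node (nat_lit 1) (.leaf (nat_lit 0x1000100020000000000000000000200000000))
 (.leaf (nat_lit 0x30001000100000000000000000000000000030000)))
 (.node (nat_lit 3) (.leaf (nat_lit 0x30002000000020000000000000000000200030001))
 (.leaf (nat_lit 0x30000000300030000000000000000000400040001)))),
 (.node (nat_lit 2) (.node (nat_lit 1) (.leaf (nat_lit 0x100000100000000000000000000000000000000000002000000000000))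
 (.leaf (nat_lit 0x101000101000101000000000000000000000000000000000000000101000000)))
 (.node (nat_lit 3) (.leaf (nat_lit 0x500000501000000000302000000000000000000000000000403000300000200))
 (.leaf (nat_lit 0x201000000000201000201000000000000000000000000000201000201000201))))⟩
noncomputable def n1mL1 : Lev := ⟨(nat_lit 1), (nat_lit 2), (nat_lit 0x2000100000000000000), (nat_lit 0x1000100000000000000),
 (.node (nat_lit 1) (.leaf (nat_lit 0x2000000000000000000000000000000010000))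
 (.leaf (nat_lit 0x30000000000000000000000010000))),
 (.node (nat_lit 1) (.leaf (nat_lit 0x1000000000000000000000000000000000000000000000100000000))
 (.leaf (nat_lit 0x101000000000000000000000000000000000101000000)))⟩
noncomputable def n1mL : List Lev := [n1mL0, n1mL1]
noncomputable def n1mE : Tr (List ℕ) := (.node (nat_lit 2) (.node (nat_lit 1) (.leaf [nat_lit 3, nat_lit 1, nat_lit 5, nat_lit 3, nat_lit 1, nat_lit 4, nat_lit 0, nat_lit 3, nat_lit 2]) (.leaf [nat_lit 5, nat_lit 4, nat_lit 5, nat_lit 3, nat_lit 2, nat_lit 1, nat_lit 4, nat_lit 2, nat_lit 1, nat_lit 0, nat_lit 3, nat_lit 2, nat_lit 1, nat_lit 0])) (.node (nat_lit 3) (.leaf [nat_lit 3, nat_lit 2, nat_lit 1, nat_lit 4, nat_lit 2, nat_lit 3]) (.leaf [nat_lit 2, nat_lit 4, nat_lit 2, nat_lit 1, nat_lit 3, nat_lit 2, nat_lit 0])))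
theorem n1mw_0 : n1mT.all2 (fun c w => isProd 15 (nat_lit 4) (nat_lit 15) MG.gl42T c w) n1mE = true := by decide +kernel
theorem n1mw : n1mT.all2 (fun c w => isProd 15 (nat_lit 4) (nat_lit 15) MG.gl42T c w) n1mE = true := n1mw_0
theorem n1mlev0 : levChk 15 (nat_lit 4) (nat_lit 15) n1mT n1mR n1mL0 n1mL1.N = true := by decide +kernel
theorem n1mlev1 : levChk 15 (nat_lit 4) (nat_lit 15) n1mT n1mR n1mL1 0 = true := by decide +kernel
theorem n1mchain : Chain 15 (nat_lit 4) (nat_lit 15) n1mT n1mR n1mL := chain_cons n1mlev0 <| chain_one n1mlev1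
theorem n1msd : band (selChk n1mT n1mT (topN n1mL)) (n1mR.all fun w => eqB (MG.gl42L.map Lev.b) (apL (nat_lit 4) (nat_lit 15) n1mT w) fun a => a) = true := by decide +kernel
theorem n1mtc : tchainChk 15 (nat_lit 4) (nat_lit 15) n1mT n1mL = true := by decide +kernel
noncomputable def n1xE : Tr (List ℕ) := (.node (nat_lit 1) (.leaf [nat_lit 0, nat_lit 2, nat_lit 0]) (.leaf [nat_lit 1, nat_lit 3, nat_lit 1]))
theorem n1xw_0 : n1T.all2 (fun c w => isProd 15 (nat_lit 4) (nat_lit 15) n1mT c w) n1xE = true := by decide +kernel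
theorem n1xw : n1T.all2 (fun c w => isProd 15 (nat_lit 4) (nat_lit 15) n1mT c w) n1xE = true := n1xw_0
noncomputable def n1rW : Tr (List ℕ) := (.node (nat_lit 4) (.node (nat_lit 2) (.node (nat_lit 1) (.leaf [nat_lit 1, nat_lit 1, nat_lit 1]) (.leaf [nat_lit 0, nat_lit 0, nat_lit 0])) (.node (nat_lit 3) (.leaf [nat_lit 0, nat_lit 0]) (.leaf [nat_lit 1, nat_lit 1])))
 (.node (nat_lit 6) (.node (nat_lit 5) (.leaf [nat_lit 1, nat_lit 1, nat_lit 1]) (.leaf [nat_lit 0, nat_lit 0, nat_lit 0])) (.node (nat_lit 7) (.leaf [nat_lit 0, nat_lit 0]) (.leaf [nat_lit 1, nat_lit 1]))))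
theorem n1r : nrmChk (nat_lit 4) (nat_lit 15) (MG.gl42L.map Lev.b) n1mT n1T (topN n1mL) (topN n1L) n1rW = true := by decide +kernel
noncomputable def n1Dd : Tr ℕ := (.node (nat_lit 27) (.node (nat_lit 13) (.node (nat_lit 6) (.node (nat_lit 3) (.node (nat_lit 1) (.leaf (nat_lit 0xedcba9876543210)) (.node (nat_lit 2) (.leaf (nat_lit 0xcdeb89a74563012)) (.leaf (nat_lit 0x2d0b6947a583e1c)))) (.node (nat_lit 4) (.leaf (nat_lit 0x8dabc9e70523416)) (.node (nat_lit 5) (.leaf (nat_lit 0xeac8d9b76240513)) (.leaf (nat_lit 0xecdb6453a897201)))))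
 (.node (nat_lit 9) (.node (nat_lit 7) (.leaf (nat_lit 0x987adcbe4563012)) (.node (nat_lit 8) (.leaf (nat_lit 0xcae8b9d74260315)) (.leaf (nat_lit 0xdceb546398a7102))))
 (.node (nat_lit 11) (.node (nat_lit 10) (.leaf (nat_lit 0x280a6c4eb5d3719)) (.leaf (nat_lit 0x5a386947d2b0e1c))) (.node (nat_lit 12) (.leaf (nat_lit 0x2c1ba4936857e0d)) (.leaf (nat_lit 0xd8ba9c7e0523416))))))
 (.node (nat_lit 20) (.node (nat_lit 16) (.node (nat_lit 14) (.leaf (nat_lit 0xbad8c9e73250416)) (.node (nat_lit 15) (.leaf (nat_lit 0x7496b0d2a583e1c)) (.leaf (nat_lit 0x7e9cbad80523416))))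
 (.node (nat_lit 18) (.node (nat_lit 17) (.leaf (nat_lit 0x7b9d8cae6240513)) (.leaf (nat_lit 0x3546bdcea897201))) (.node (nat_lit 19) (.leaf (nat_lit 0x2604d9b7ae8c513)) (.leaf (nat_lit 0x8caed9b70426513)))))
 (.node (nat_lit 23) (.node (nat_lit 21) (.leaf (nat_lit 0xe6d5c4b3a291807)) (.node (nat_lit 22) (.leaf (nat_lit 0x20dba8536497ec1)) (.leaf (nat_lit 0x798a6453bdce201))))
 (.node (nat_lit 25) (.node (nat_lit 24) (.leaf (nat_lit 0xeca86420db97531)) (.leaf (nat_lit 0x82a4c6ed5b3917))) (.node (nat_lit 26) (.leaf (nat_lit 0x3a584967b2d0c1e)) (.leaf (nat_lit 0xdab8e9c75230614)))))))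
 (.node (nat_lit 40) (.node (nat_lit 33) (.node (nat_lit 30) (.node (nat_lit 28) (.leaf (nat_lit 0x6c5be4d32817a09)) (.node (nat_lit 29) (.leaf (nat_lit 0x9476d0b285a3c1e)) (.leaf (nat_lit 0x9e7cdab82503614)))) (.node (nat_lit 31) (.leaf (nat_lit 0xac8eb9d72406315)) (.node (nat_lit 32) (.leaf (nat_lit 0xdecb56439a87120)) (.leaf (nat_lit 0xda8b52039ec7164)))))
 (.node (nat_lit 36) (.node (nat_lit 34) (.leaf (nat_lit 0xace824609bd7135)) (.node (nat_lit 35) (.leaf (nat_lit 0xa284e6cb5d3719)) (.leaf (nat_lit 0xe4c6a082b5d3719))))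
 (.node (nat_lit 38) (.node (nat_lit 37) (.leaf (nat_lit 0x4e6c0a28b5d3719)) (.leaf (nat_lit 0x5b3d6c4e82a0719))) (.node (nat_lit 39) (.leaf (nat_lit 0x2516ad9eb8c7304)) (.leaf (nat_lit 0x5634a987debc210))))))
 (.node (nat_lit 47) (.node (nat_lit 43) (.node (nat_lit 41) (.leaf (nat_lit 0xe01b6893a4572cd)) (.node (nat_lit 42) (.leaf (nat_lit 0x5c18d4906b27e3a)) (.leaf (nat_lit 0xdab89e7c2503614))))
 (.node (nat_lit 45) (.node (nat_lit 44) (.leaf (nat_lit 0xab8d9c7e3250416)) (.leaf (nat_lit 0x5e4bd6c31a07928))) (.node (nat_lit 46) (.leaf (nat_lit 0x2c68a4e01b5793d)) (.leaf (nat_lit 0x7d9b8eac4260315)))))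
 (.node (nat_lit 50) (.node (nat_lit 48) (.leaf (nat_lit 0xae8cd9b72604513)) (.node (nat_lit 49) (.leaf (nat_lit 0x5d6ec4b3192a807)) (.leaf (nat_lit 0xa8db2053ec97641))))
 (.node (nat_lit 52) (.node (nat_lit 51) (.leaf (nat_lit 0xc4e680a2d5b3917)) (.leaf (nat_lit 0xc7e98bad2503614))) (.node (nat_lit 53) (.leaf (nat_lit 0xd4c5b6e3908172a)) (.leaf (nat_lit 0xe4c6d3b582a0719))))))))
noncomputable def n1dE : Tr (List ℕ) := (.node (nat_lit 27) (.node (nat_lit 13) (.node (nat_lit 6) (.node (nat_lit 3) (.node (nat_lit 1) (.leaf []) (.node (nat_lit 2) (.leaf [nat_lit 0]) (.leaf [nat_lit 1]))) (.node (nat_lit 4) (.leaf [nat_lit 2]) (.node (nat_lit 5) (.leaf [nat_lit 4]) (.leaf [nat_lit 5]))))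
 (.node (nat_lit 9) (.node (nat_lit 7) (.leaf [nat_lit 3, nat_lit 0]) (.node (nat_lit 8) (.leaf [nat_lit 4, nat_lit 0]) (.leaf [nat_lit 5, nat_lit 0])))
 (.node (nat_lit 11) (.node (nat_lit 10) (.leaf [nat_lit 3, nat_lit 1]) (.leaf [nat_lit 4, nat_lit 1])) (.node (nat_lit 12) (.leaf [nat_lit 5, nat_lit 1]) (.leaf [nat_lit 3, nat_lit 2])))))
 (.node (nat_lit 20) (.node (nat_lit 16) (.node (nat_lit 14) (.leaf [nat_lit 4, nat_lit 2]) (.node (nat_lit 15) (.leaf [nat_lit 1, nat_lit 3]) (.leaf [nat_lit 2, nat_lit 3])))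
 (.node (nat_lit 18) (.node (nat_lit 17) (.leaf [nat_lit 4, nat_lit 3]) (.leaf [nat_lit 5, nat_lit 3])) (.node (nat_lit 19) (.leaf [nat_lit 1, nat_lit 4]) (.leaf [nat_lit 2, nat_lit 4]))))
 (.node (nat_lit 23) (.node (nat_lit 21) (.leaf [nat_lit 5, nat_lit 4]) (.node (nat_lit 22) (.leaf [nat_lit 1, nat_lit 5]) (.leaf [nat_lit 5, nat_lit 1, nat_lit 0, nat_lit 4, nat_lit 1, nat_lit 0])))
 (.node (nat_lit 25) (.node (nat_lit 24) (.leaf [nat_lit 4, nat_lit 5]) (.leaf [nat_lit 3, nat_lit 1, nat_lit 0])) (.node (nat_lit 26) (.leaf [nat_lit 4, nat_lit 1, nat_lit 0]) (.leaf [nat_lit 4, nat_lit 2, nat_lit 0]))))))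
 (.node (nat_lit 40) (.node (nat_lit 33) (.node (nat_lit 30) (.node (nat_lit 28) (.leaf [nat_lit 5, nat_lit 2, nat_lit 0]) (.node (nat_lit 29) (.leaf [nat_lit 1, nat_lit 3, nat_lit 0]) (.leaf [nat_lit 2, nat_lit 3, nat_lit 0]))) (.node (nat_lit 31) (.leaf [nat_lit 2, nat_lit 4, nat_lit 0]) (.node (nat_lit 32) (.leaf [nat_lit 0, nat_lit 5, nat_lit 0]) (.leaf [nat_lit 2, nat_lit 5, nat_lit 0]))))
 (.node (nat_lit 36) (.node (nat_lit 34) (.leaf [nat_lit 4, nat_lit 5, nat_lit 0]) (.node (nat_lit 35) (.leaf [nat_lit 0, nat_lit 3, nat_lit 1]) (.leaf [nat_lit 1, nat_lit 3, nat_lit 1])))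
 (.node (nat_lit 38) (.node (nat_lit 37) (.leaf [nat_lit 2, nat_lit 3, nat_lit 1]) (.leaf [nat_lit 4, nat_lit 3, nat_lit 1])) (.node (nat_lit 39) (.leaf [nat_lit 5, nat_lit 3, nat_lit 1]) (.leaf [nat_lit 1, nat_lit 4, nat_lit 1])))))
 (.node (nat_lit 47) (.node (nat_lit 43) (.node (nat_lit 41) (.leaf [nat_lit 1, nat_lit 5, nat_lit 1]) (.node (nat_lit 42) (.leaf [nat_lit 4, nat_lit 5, nat_lit 1]) (.leaf [nat_lit 0, nat_lit 3, nat_lit 2])))
 (.node (nat_lit 45) (.node (nat_lit 44) (.leaf [nat_lit 4, nat_lit 3, nat_lit 2]) (.leaf [nat_lit 0, nat_lit 5, nat_lit 2])) (.node (nat_lit 46) (.leaf [nat_lit 4, nat_lit 5, nat_lit 2]) (.leaf [nat_lit 4, nat_lit 0, nat_lit 3]))))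
 (.node (nat_lit 50) (.node (nat_lit 48) (.leaf [nat_lit 2, nat_lit 0, nat_lit 4]) (.node (nat_lit 49) (.leaf [nat_lit 5, nat_lit 2, nat_lit 4]) (.leaf [nat_lit 2, nat_lit 0, nat_lit 5])))
 (.node (nat_lit 52) (.node (nat_lit 51) (.leaf [nat_lit 1, nat_lit 3, nat_lit 1, nat_lit 0]) (.leaf [nat_lit 3, nat_lit 2, nat_lit 3, nat_lit 0])) (.node (nat_lit 53) (.leaf [nat_lit 0, nat_lit 5, nat_lit 4, nat_lit 0]) (.leaf [nat_lit 4, nat_lit 1, nat_lit 3, nat_lit 1])))))))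
theorem n1dw_0 : n1Dd.all2 (fun c w => isProd 15 (nat_lit 4) (nat_lit 15) MG.gl42T c w) n1dE = true := by decide +kernel
theorem n1dw : n1Dd.all2 (fun c w => isProd 15 (nat_lit 4) (nat_lit 15) MG.gl42T c w) n1dE = true := n1dw_0
noncomputable def n1PA_0 : Tr (ℕ × List ℕ) := (.node (nat_lit 120) (.node (nat_lit 60) (.node (nat_lit 30) (.node (nat_lit 15) (.node (nat_lit 7) (.node (nat_lit 3) (.node (nat_lit 1) (.leaf ((nat_lit 0), [])) (.node (nat_lit 2) (.leaf ((nat_lit 1), [])) (.leaf ((nat_lit 2), []))))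
 (.node (nat_lit 5) (.node (nat_lit 4) (.leaf ((nat_lit 3), [])) (.leaf ((nat_lit 3), [nat_lit 3, nat_lit 0]))) (.node (nat_lit 6) (.leaf ((nat_lit 4), [])) (.leaf ((nat_lit 5), [])))))
 (.node (nat_lit 11) (.node (nat_lit 9) (.node (nat_lit 8) (.leaf ((nat_lit 3), [nat_lit 1])) (.leaf ((nat_lit 3), [nat_lit 0]))) (.node (nat_lit 10) (.leaf ((nat_lit 6), [])) (.leaf ((nat_lit 7), []))))
 (.node (nat_lit 13) (.node (nat_lit 12) (.leaf ((nat_lit 8), [])) (.leaf ((nat_lit 1), [nat_lit 0]))) (.node (nat_lit 14) (.leaf ((nat_lit 9), [])) (.leaf ((nat_lit 10), []))))))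
 (.node (nat_lit 22) (.node (nat_lit 18) (.node (nat_lit 16) (.leaf ((nat_lit 11), [])) (.node (nat_lit 17) (.leaf ((nat_lit 12), [])) (.leaf ((nat_lit 13), []))))
 (.node (nat_lit 20) (.node (nat_lit 19) (.leaf ((nat_lit 7), [nat_lit 0, nat_lit 3])) (.leaf ((nat_lit 6), [nat_lit 0, nat_lit 3, nat_lit 0]))) (.node (nat_lit 21) (.leaf ((nat_lit 14), [])) (.leaf ((nat_lit 15), [])))))
 (.node (nat_lit 26) (.node (nat_lit 24) (.node (nat_lit 23) (.leaf ((nat_lit 16), [])) (.leaf ((nat_lit 17), []))) (.node (nat_lit 25) (.leaf ((nat_lit 8), [nat_lit 2])) (.leaf ((nat_lit 18), []))))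
 (.node (nat_lit 28) (.node (nat_lit 27) (.leaf ((nat_lit 19), [])) (.leaf ((nat_lit 20), []))) (.node (nat_lit 29) (.leaf ((nat_lit 7), [nat_lit 3, nat_lit 1])) (.leaf ((nat_lit 21), [])))))))
 (.node (nat_lit 45) (.node (nat_lit 37) (.node (nat_lit 33) (.node (nat_lit 31) (.leaf ((nat_lit 8), [nat_lit 1, nat_lit 2, nat_lit 1])) (.node (nat_lit 32) (.leaf ((nat_lit 22), [])) (.leaf ((nat_lit 23), []))))
 (.node (nat_lit 35) (.node (nat_lit 34) (.leaf ((nat_lit 1), [nat_lit 1])) (.leaf ((nat_lit 24), []))) (.node (nat_lit 36) (.leaf ((nat_lit 25), [])) (.leaf ((nat_lit 18), [nat_lit 0, nat_lit 3])))))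
 (.node (nat_lit 41) (.node (nat_lit 39) (.node (nat_lit 38) (.leaf ((nat_lit 10), [nat_lit 0])) (.leaf ((nat_lit 26), []))) (.node (nat_lit 40) (.leaf ((nat_lit 27), [])) (.leaf ((nat_lit 3), [nat_lit 3]))))
 (.node (nat_lit 43) (.node (nat_lit 42) (.leaf ((nat_lit 28), [])) (.leaf ((nat_lit 29), []))) (.node (nat_lit 44) (.leaf ((nat_lit 14), [nat_lit 1, nat_lit 3, nat_lit 1])) (.leaf ((nat_lit 26), [nat_lit 3, nat_lit 1]))))))
 (.node (nat_lit 52) (.node (nat_lit 48) (.node (nat_lit 46) (.leaf ((nat_lit 4), [nat_lit 1])) (.node (nat_lit 47) (.leaf ((nat_lit 19), [nat_lit 1])) (.leaf ((nat_lit 30), []))))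
 (.node (nat_lit 50) (.node (nat_lit 49) (.leaf ((nat_lit 10), [nat_lit 1, nat_lit 3])) (.leaf ((nat_lit 31), []))) (.node (nat_lit 51) (.leaf ((nat_lit 6), [nat_lit 3])) (.leaf ((nat_lit 32), [])))))
 (.node (nat_lit 56) (.node (nat_lit 54) (.node (nat_lit 53) (.leaf ((nat_lit 19), [nat_lit 3])) (.leaf ((nat_lit 33), []))) (.node (nat_lit 55) (.leaf ((nat_lit 17), [nat_lit 0, nat_lit 3, nat_lit 0])) (.leaf ((nat_lit 8), [nat_lit 0, nat_lit 2]))))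
 (.node (nat_lit 58) (.node (nat_lit 57) (.leaf ((nat_lit 19), [nat_lit 3, nat_lit 1])) (.leaf ((nat_lit 34), []))) (.node (nat_lit 59) (.leaf ((nat_lit 35), [])) (.leaf ((nat_lit 36), []))))))))
 (.node (nat_lit 90) (.node (nat_lit 75) (.node (nat_lit 67) (.node (nat_lit 63) (.node (nat_lit 61) (.leaf ((nat_lit 37), [])) (.node (nat_lit 62) (.leaf ((nat_lit 38), [])) (.leaf ((nat_lit 13), [nat_lit 1]))))
 (.node (nat_lit 65) (.node (nat_lit 64) (.leaf ((nat_lit 39), [])) (.leaf ((nat_lit 1), [nat_lit 1, nat_lit 3, nat_lit 1]))) (.node (nat_lit 66) (.leaf ((nat_lit 29), [nat_lit 1, nat_lit 2, nat_lit 0])) (.leaf ((nat_lit 6), [nat_lit 2, nat_lit 0])))))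
 (.node (nat_lit 71) (.node (nat_lit 69) (.node (nat_lit 68) (.leaf ((nat_lit 40), [])) (.leaf ((nat_lit 28), [nat_lit 2, nat_lit 0]))) (.node (nat_lit 70) (.leaf ((nat_lit 14), [nat_lit 1])) (.leaf ((nat_lit 41), []))))
 (.node (nat_lit 73) (.node (nat_lit 72) (.leaf ((nat_lit 42), [])) (.leaf ((nat_lit 36), [nat_lit 3]))) (.node (nat_lit 74) (.leaf ((nat_lit 1), [nat_lit 3, nat_lit 0])) (.leaf ((nat_lit 43), []))))))
 (.node (nat_lit 82) (.node (nat_lit 78) (.node (nat_lit 76) (.leaf ((nat_lit 8), [nat_lit 1, nat_lit 3, nat_lit 0])) (.node (nat_lit 77) (.leaf ((nat_lit 25), [nat_lit 1])) (.leaf ((nat_lit 1), [nat_lit 1, nat_lit 2, nat_lit 1]))))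
 (.node (nat_lit 80) (.node (nat_lit 79) (.leaf ((nat_lit 39), [nat_lit 0])) (.leaf ((nat_lit 4), [nat_lit 0, nat_lit 3, nat_lit 1]))) (.node (nat_lit 81) (.leaf ((nat_lit 44), [])) (.leaf ((nat_lit 34), [nat_lit 0, nat_lit 2, nat_lit 0])))))
 (.node (nat_lit 86) (.node (nat_lit 84) (.node (nat_lit 83) (.leaf ((nat_lit 6), [nat_lit 3, nat_lit 1])) (.leaf ((nat_lit 21), [nat_lit 1, nat_lit 2]))) (.node (nat_lit 85) (.leaf ((nat_lit 45), [])) (.leaf ((nat_lit 24), [nat_lit 3, nat_lit 1]))))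
 (.node (nat_lit 88) (.node (nat_lit 87) (.leaf ((nat_lit 18), [nat_lit 2, nat_lit 0])) (.leaf ((nat_lit 35), [nat_lit 2, nat_lit 0]))) (.node (nat_lit 89) (.leaf ((nat_lit 46), [])) (.leaf ((nat_lit 10), [nat_lit 3, nat_lit 1])))))))
 (.node (nat_lit 105) (.node (nat_lit 97) (.node (nat_lit 93) (.node (nat_lit 91) (.leaf ((nat_lit 22), [nat_lit 1, nat_lit 3, nat_lit 1])) (.node (nat_lit 92) (.leaf ((nat_lit 46), [nat_lit 0, nat_lit 2, nat_lit 1])) (.leaf ((nat_lit 20), [nat_lit 0, nat_lit 3, nat_lit 1]))))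
 (.node (nat_lit 95) (.node (nat_lit 94) (.leaf ((nat_lit 4), [nat_lit 2])) (.leaf ((nat_lit 10), [nat_lit 0, nat_lit 3]))) (.node (nat_lit 96) (.leaf ((nat_lit 9), [nat_lit 2, nat_lit 0])) (.leaf ((nat_lit 41), [nat_lit 0, nat_lit 3])))))
 (.node (nat_lit 101) (.node (nat_lit 99) (.node (nat_lit 98) (.leaf ((nat_lit 5), [nat_lit 3, nat_lit 0])) (.leaf ((nat_lit 13), [nat_lit 3, nat_lit 1]))) (.node (nat_lit 100) (.leaf ((nat_lit 9), [nat_lit 3, nat_lit 1])) (.leaf ((nat_lit 11), [nat_lit 3, nat_lit 1]))))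
 (.node (nat_lit 103) (.node (nat_lit 102) (.leaf ((nat_lit 36), [nat_lit 0])) (.leaf ((nat_lit 25), [nat_lit 2, nat_lit 1]))) (.node (nat_lit 104) (.leaf ((nat_lit 30), [nat_lit 0])) (.leaf ((nat_lit 47), []))))))
 (.node (nat_lit 112) (.node (nat_lit 108) (.node (nat_lit 106) (.leaf ((nat_lit 43), [nat_lit 2, nat_lit 0])) (.node (nat_lit 107) (.leaf ((nat_lit 39), [nat_lit 1, nat_lit 3])) (.leaf ((nat_lit 21), [nat_lit 0, nat_lit 3, nat_lit 0]))))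
 (.node (nat_lit 110) (.node (nat_lit 109) (.leaf ((nat_lit 7), [nat_lit 0])) (.leaf ((nat_lit 43), [nat_lit 2]))) (.node (nat_lit 111) (.leaf ((nat_lit 40), [nat_lit 2])) (.leaf ((nat_lit 17), [nat_lit 1, nat_lit 3, nat_lit 1])))))
 (.node (nat_lit 116) (.node (nat_lit 114) (.node (nat_lit 113) (.leaf ((nat_lit 48), [])) (.leaf ((nat_lit 45), [nat_lit 0, nat_lit 2]))) (.node (nat_lit 115) (.leaf ((nat_lit 37), [nat_lit 1, nat_lit 3, nat_lit 0])) (.leaf ((nat_lit 33), [nat_lit 0, nat_lit 2, nat_lit 0]))))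
 (.node (nat_lit 118) (.node (nat_lit 117) (.leaf ((nat_lit 30), [nat_lit 0, nat_lit 3, nat_lit 0])) (.leaf ((nat_lit 16), [nat_lit 2, nat_lit 0]))) (.node (nat_lit 119) (.leaf ((nat_lit 10), [nat_lit 2, nat_lit 1])) (.leaf ((nat_lit 49), [])))))))))
 (.node (nat_lit 180) (.node (nat_lit 150) (.node (nat_lit 135) (.node (nat_lit 127) (.node (nat_lit 123) (.node (nat_lit 121) (.leaf ((nat_lit 18), [nat_lit 3, nat_lit 0])) (.node (nat_lit 122) (.leaf ((nat_lit 11), [nat_lit 1, nat_lit 2, nat_lit 0])) (.leaf ((nat_lit 13), [nat_lit 2, nat_lit 0]))))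
 (.node (nat_lit 125) (.node (nat_lit 124) (.leaf ((nat_lit 23), [nat_lit 1, nat_lit 2])) (.leaf ((nat_lit 40), [nat_lit 2, nat_lit 1]))) (.node (nat_lit 126) (.leaf ((nat_lit 4), [nat_lit 1, nat_lit 3, nat_lit 1])) (.leaf ((nat_lit 18), [nat_lit 3, nat_lit 1])))))
 (.node (nat_lit 131) (.node (nat_lit 129) (.node (nat_lit 128) (.leaf ((nat_lit 38), [nat_lit 1, nat_lit 2, nat_lit 0])) (.leaf ((nat_lit 35), [nat_lit 1]))) (.node (nat_lit 130) (.leaf ((nat_lit 47), [nat_lit 3, nat_lit 0])) (.leaf ((nat_lit 48), [nat_lit 1, nat_lit 2, nat_lit 1]))))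
 (.node (nat_lit 133) (.node (nat_lit 132) (.leaf ((nat_lit 7), [nat_lit 3])) (.leaf ((nat_lit 5), [nat_lit 1, nat_lit 2, nat_lit 1]))) (.node (nat_lit 134) (.leaf ((nat_lit 39), [nat_lit 1])) (.leaf ((nat_lit 42), [nat_lit 2, nat_lit 1]))))))
 (.node (nat_lit 142) (.node (nat_lit 138) (.node (nat_lit 136) (.leaf ((nat_lit 4), [nat_lit 3, nat_lit 0])) (.node (nat_lit 137) (.leaf ((nat_lit 1), [nat_lit 0, nat_lit 3])) (.leaf ((nat_lit 33), [nat_lit 1, nat_lit 2]))))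
 (.node (nat_lit 140) (.node (nat_lit 139) (.leaf ((nat_lit 23), [nat_lit 1, nat_lit 2, nat_lit 1])) (.leaf ((nat_lit 46), [nat_lit 1, nat_lit 3]))) (.node (nat_lit 141) (.leaf ((nat_lit 50), [])) (.leaf ((nat_lit 1), [nat_lit 1, nat_lit 3])))))
 (.node (nat_lit 146) (.node (nat_lit 144) (.node (nat_lit 143) (.leaf ((nat_lit 48), [nat_lit 2, nat_lit 0])) (.leaf ((nat_lit 32), [nat_lit 0]))) (.node (nat_lit 145) (.leaf ((nat_lit 10), [nat_lit 1])) (.leaf ((nat_lit 1), [nat_lit 0, nat_lit 3, nat_lit 1]))))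
 (.node (nat_lit 148) (.node (nat_lit 147) (.leaf ((nat_lit 1), [nat_lit 2, nat_lit 1])) (.leaf ((nat_lit 34), [nat_lit 0, nat_lit 2, nat_lit 1]))) (.node (nat_lit 149) (.leaf ((nat_lit 20), [nat_lit 0, nat_lit 3, nat_lit 0])) (.leaf ((nat_lit 26), [nat_lit 0, nat_lit 2, nat_lit 1])))))))
 (.node (nat_lit 165) (.node (nat_lit 157) (.node (nat_lit 153) (.node (nat_lit 151) (.leaf ((nat_lit 24), [nat_lit 1, nat_lit 3])) (.node (nat_lit 152) (.leaf ((nat_lit 5), [nat_lit 0])) (.leaf ((nat_lit 37), [nat_lit 0]))))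
 (.node (nat_lit 155) (.node (nat_lit 154) (.leaf ((nat_lit 14), [nat_lit 1, nat_lit 2])) (.leaf ((nat_lit 31), [nat_lit 1, nat_lit 3, nat_lit 0]))) (.node (nat_lit 156) (.leaf ((nat_lit 26), [nat_lit 1])) (.leaf ((nat_lit 50), [nat_lit 0, nat_lit 3, nat_lit 0])))))
 (.node (nat_lit 161) (.node (nat_lit 159) (.node (nat_lit 158) (.leaf ((nat_lit 50), [nat_lit 1, nat_lit 3, nat_lit 0])) (.leaf ((nat_lit 27), [nat_lit 2, nat_lit 0]))) (.node (nat_lit 160) (.leaf ((nat_lit 48), [nat_lit 0, nat_lit 3, nat_lit 0])) (.leaf ((nat_lit 25), [nat_lit 0, nat_lit 2]))))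
 (.node (nat_lit 163) (.node (nat_lit 162) (.leaf ((nat_lit 17), [nat_lit 0, nat_lit 3])) (.leaf ((nat_lit 26), [nat_lit 1, nat_lit 3, nat_lit 0]))) (.node (nat_lit 164) (.leaf ((nat_lit 22), [nat_lit 1, nat_lit 3, nat_lit 0])) (.leaf ((nat_lit 43), [nat_lit 3, nat_lit 1]))))))
 (.node (nat_lit 172) (.node (nat_lit 168) (.node (nat_lit 166) (.leaf ((nat_lit 41), [nat_lit 1, nat_lit 2])) (.node (nat_lit 167) (.leaf ((nat_lit 1), [nat_lit 3])) (.leaf ((nat_lit 3), [nat_lit 2, nat_lit 1]))))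
 (.node (nat_lit 170) (.node (nat_lit 169) (.leaf ((nat_lit 42), [nat_lit 3, nat_lit 0])) (.leaf ((nat_lit 30), [nat_lit 2, nat_lit 0]))) (.node (nat_lit 171) (.leaf ((nat_lit 34), [nat_lit 2])) (.leaf ((nat_lit 42), [nat_lit 3])))))
 (.node (nat_lit 176) (.node (nat_lit 174) (.node (nat_lit 173) (.leaf ((nat_lit 51), [])) (.leaf ((nat_lit 19), [nat_lit 2, nat_lit 1]))) (.node (nat_lit 175) (.leaf ((nat_lit 20), [nat_lit 1])) (.leaf ((nat_lit 6), [nat_lit 1, nat_lit 2, nat_lit 0]))))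
 (.node (nat_lit 178) (.node (nat_lit 177) (.leaf ((nat_lit 30), [nat_lit 3, nat_lit 1])) (.leaf ((nat_lit 40), [nat_lit 1]))) (.node (nat_lit 179) (.leaf ((nat_lit 33), [nat_lit 0, nat_lit 2, nat_lit 1])) (.leaf ((nat_lit 12), [nat_lit 3]))))))))
 (.node (nat_lit 210) (.node (nat_lit 195) (.node (nat_lit 187) (.node (nat_lit 183) (.node (nat_lit 181) (.leaf ((nat_lit 33), [nat_lit 1, nat_lit 3, nat_lit 1])) (.node (nat_lit 182) (.leaf ((nat_lit 50), [nat_lit 0, nat_lit 2, nat_lit 1])) (.leaf ((nat_lit 34), [nat_lit 2, nat_lit 1]))))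
 (.node (nat_lit 185) (.node (nat_lit 184) (.leaf ((nat_lit 18), [nat_lit 1])) (.leaf ((nat_lit 47), [nat_lit 1]))) (.node (nat_lit 186) (.leaf ((nat_lit 2), [nat_lit 2])) (.leaf ((nat_lit 35), [nat_lit 0])))))
 (.node (nat_lit 191) (.node (nat_lit 189) (.node (nat_lit 188) (.leaf ((nat_lit 10), [nat_lit 1, nat_lit 3, nat_lit 0])) (.leaf ((nat_lit 8), [nat_lit 1, nat_lit 2]))) (.node (nat_lit 190) (.leaf ((nat_lit 14), [nat_lit 1, nat_lit 2, nat_lit 0])) (.leaf ((nat_lit 14), [nat_lit 3, nat_lit 0]))))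
 (.node (nat_lit 193) (.node (nat_lit 192) (.leaf ((nat_lit 44), [nat_lit 2])) (.leaf ((nat_lit 52), []))) (.node (nat_lit 194) (.leaf ((nat_lit 28), [nat_lit 0, nat_lit 2, nat_lit 1])) (.leaf ((nat_lit 47), [nat_lit 1, nat_lit 2, nat_lit 1]))))))
 (.node (nat_lit 202) (.node (nat_lit 198) (.node (nat_lit 196) (.leaf ((nat_lit 37), [nat_lit 1, nat_lit 3])) (.node (nat_lit 197) (.leaf ((nat_lit 28), [nat_lit 1, nat_lit 3, nat_lit 1])) (.leaf ((nat_lit 1), [nat_lit 3, nat_lit 1]))))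
 (.node (nat_lit 200) (.node (nat_lit 199) (.leaf ((nat_lit 17), [nat_lit 1, nat_lit 2, nat_lit 0])) (.leaf ((nat_lit 41), [nat_lit 1, nat_lit 2, nat_lit 1]))) (.node (nat_lit 201) (.leaf ((nat_lit 10), [nat_lit 3, nat_lit 0])) (.leaf ((nat_lit 29), [nat_lit 1, nat_lit 2])))))
 (.node (nat_lit 206) (.node (nat_lit 204) (.node (nat_lit 203) (.leaf ((nat_lit 33), [nat_lit 1, nat_lit 2, nat_lit 1])) (.leaf ((nat_lit 7), [nat_lit 3, nat_lit 0]))) (.node (nat_lit 205) (.leaf ((nat_lit 36), [nat_lit 2, nat_lit 0])) (.leaf ((nat_lit 29), [nat_lit 1, nat_lit 3, nat_lit 0]))))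
 (.node (nat_lit 208) (.node (nat_lit 207) (.leaf ((nat_lit 24), [nat_lit 2])) (.leaf ((nat_lit 41), [nat_lit 1]))) (.node (nat_lit 209) (.leaf ((nat_lit 1), [nat_lit 0, nat_lit 2, nat_lit 1])) (.leaf ((nat_lit 52), [nat_lit 2, nat_lit 0])))))))
 (.node (nat_lit 225) (.node (nat_lit 217) (.node (nat_lit 213) (.node (nat_lit 211) (.leaf ((nat_lit 43), [nat_lit 2, nat_lit 1])) (.node (nat_lit 212) (.leaf ((nat_lit 18), [nat_lit 3])) (.leaf ((nat_lit 50), [nat_lit 3]))))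
 (.node (nat_lit 215) (.node (nat_lit 214) (.leaf ((nat_lit 25), [nat_lit 3])) (.leaf ((nat_lit 34), [nat_lit 3]))) (.node (nat_lit 216) (.leaf ((nat_lit 29), [nat_lit 0, nat_lit 3, nat_lit 1])) (.leaf ((nat_lit 26), [nat_lit 2])))))
 (.node (nat_lit 221) (.node (nat_lit 219) (.node (nat_lit 218) (.leaf ((nat_lit 28), [nat_lit 1, nat_lit 2, nat_lit 1])) (.leaf ((nat_lit 7), [nat_lit 1]))) (.node (nat_lit 220) (.leaf ((nat_lit 30), [nat_lit 1])) (.leaf ((nat_lit 18), [nat_lit 0]))))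
 (.node (nat_lit 223) (.node (nat_lit 222) (.leaf ((nat_lit 9), [nat_lit 1, nat_lit 3, nat_lit 0])) (.leaf ((nat_lit 22), [nat_lit 1, nat_lit 2, nat_lit 1]))) (.node (nat_lit 224) (.leaf ((nat_lit 31), [nat_lit 1, nat_lit 2, nat_lit 1])) (.leaf ((nat_lit 45), [nat_lit 0, nat_lit 3]))))))
 (.node (nat_lit 232) (.node (nat_lit 228) (.node (nat_lit 226) (.leaf ((nat_lit 27), [nat_lit 1])) (.node (nat_lit 227) (.leaf ((nat_lit 50), [nat_lit 2])) (.leaf ((nat_lit 39), [nat_lit 2, nat_lit 0]))))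
 (.node (nat_lit 230) (.node (nat_lit 229) (.leaf ((nat_lit 43), [nat_lit 0])) (.leaf ((nat_lit 37), [nat_lit 1]))) (.node (nat_lit 231) (.leaf ((nat_lit 18), [nat_lit 0, nat_lit 3, nat_lit 1])) (.leaf ((nat_lit 28), [nat_lit 2])))))
 (.node (nat_lit 236) (.node (nat_lit 234) (.node (nat_lit 233) (.leaf ((nat_lit 53), [])) (.leaf ((nat_lit 51), [nat_lit 0, nat_lit 2, nat_lit 0]))) (.node (nat_lit 235) (.leaf ((nat_lit 21), [nat_lit 1, nat_lit 3, nat_lit 0])) (.leaf ((nat_lit 45), [nat_lit 0, nat_lit 2, nat_lit 1]))))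
 (.node (nat_lit 238) (.node (nat_lit 237) (.leaf ((nat_lit 30), [nat_lit 3, nat_lit 0])) (.leaf ((nat_lit 25), [nat_lit 0]))) (.node (nat_lit 239) (.leaf ((nat_lit 50), [nat_lit 1, nat_lit 3, nat_lit 1])) (.leaf ((nat_lit 38), [nat_lit 1, nat_lit 3]))))))))))
noncomputable def n1PA_1 : Tr (ℕ × List ℕ) := (.node (nat_lit 360) (.node (nat_lit 300) (.node (nat_lit 270) (.node (nat_lit 255) (.node (nat_lit 247) (.node (nat_lit 243) (.node (nat_lit 241) (.leaf ((nat_lit 24), [nat_lit 0, nat_lit 2])) (.node (nat_lit 242) (.leaf ((nat_lit 3), [nat_lit 0, nat_lit 2, nat_lit 1])) (.leaf ((nat_lit 43), [nat_lit 0, nat_lit 2, nat_lit 0]))))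
 (.node (nat_lit 245) (.node (nat_lit 244) (.leaf ((nat_lit 34), [nat_lit 1, nat_lit 3, nat_lit 1])) (.leaf ((nat_lit 29), [nat_lit 3, nat_lit 0]))) (.node (nat_lit 246) (.leaf ((nat_lit 21), [nat_lit 0, nat_lit 3])) (.leaf ((nat_lit 9), [nat_lit 0])))))
 (.node (nat_lit 251) (.node (nat_lit 249) (.node (nat_lit 248) (.leaf ((nat_lit 47), [nat_lit 0, nat_lit 3])) (.leaf ((nat_lit 26), [nat_lit 3]))) (.node (nat_lit 250) (.leaf ((nat_lit 23), [nat_lit 0, nat_lit 3, nat_lit 0])) (.leaf ((nat_lit 47), [nat_lit 3, nat_lit 1]))))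
 (.node (nat_lit 253) (.node (nat_lit 252) (.leaf ((nat_lit 46), [nat_lit 0])) (.leaf ((nat_lit 46), [nat_lit 1, nat_lit 3, nat_lit 1]))) (.node (nat_lit 254) (.leaf ((nat_lit 9), [nat_lit 0, nat_lit 2])) (.leaf ((nat_lit 41), [nat_lit 1, nat_lit 3]))))))
 (.node (nat_lit 262) (.node (nat_lit 258) (.node (nat_lit 256) (.leaf ((nat_lit 23), [nat_lit 1, nat_lit 3, nat_lit 0])) (.node (nat_lit 257) (.leaf ((nat_lit 30), [nat_lit 0, nat_lit 3, nat_lit 1])) (.leaf ((nat_lit 14), [nat_lit 3, nat_lit 1]))))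
 (.node (nat_lit 260) (.node (nat_lit 259) (.leaf ((nat_lit 3), [nat_lit 0, nat_lit 3])) (.leaf ((nat_lit 43), [nat_lit 1, nat_lit 2]))) (.node (nat_lit 261) (.leaf ((nat_lit 47), [nat_lit 0, nat_lit 3, nat_lit 1])) (.leaf ((nat_lit 28), [nat_lit 0])))))
 (.node (nat_lit 266) (.node (nat_lit 264) (.node (nat_lit 263) (.leaf ((nat_lit 3), [nat_lit 1, nat_lit 2, nat_lit 0])) (.leaf ((nat_lit 34), [nat_lit 0, nat_lit 2]))) (.node (nat_lit 265) (.leaf ((nat_lit 14), [nat_lit 2, nat_lit 1])) (.leaf ((nat_lit 14), [nat_lit 1, nat_lit 3]))))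
 (.node (nat_lit 268) (.node (nat_lit 267) (.leaf ((nat_lit 15), [nat_lit 1])) (.leaf ((nat_lit 3), [nat_lit 1, nat_lit 3, nat_lit 0]))) (.node (nat_lit 269) (.leaf ((nat_lit 18), [nat_lit 1, nat_lit 2, nat_lit 1])) (.leaf ((nat_lit 46), [nat_lit 0, nat_lit 3])))))))
 (.node (nat_lit 285) (.node (nat_lit 277) (.node (nat_lit 273) (.node (nat_lit 271) (.leaf ((nat_lit 1), [nat_lit 1, nat_lit 3, nat_lit 0])) (.node (nat_lit 272) (.leaf ((nat_lit 1), [nat_lit 0, nat_lit 3, nat_lit 0])) (.leaf ((nat_lit 24), [nat_lit 0]))))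
 (.node (nat_lit 275) (.node (nat_lit 274) (.leaf ((nat_lit 24), [nat_lit 1])) (.leaf ((nat_lit 51), [nat_lit 3, nat_lit 0]))) (.node (nat_lit 276) (.leaf ((nat_lit 42), [nat_lit 0])) (.leaf ((nat_lit 29), [nat_lit 1, nat_lit 3])))))
 (.node (nat_lit 281) (.node (nat_lit 279) (.node (nat_lit 278) (.leaf ((nat_lit 3), [nat_lit 3, nat_lit 1])) (.leaf ((nat_lit 11), [nat_lit 0, nat_lit 2, nat_lit 1]))) (.node (nat_lit 280) (.leaf ((nat_lit 27), [nat_lit 1, nat_lit 2, nat_lit 0])) (.leaf ((nat_lit 40), [nat_lit 0, nat_lit 3, nat_lit 1]))))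
 (.node (nat_lit 283) (.node (nat_lit 282) (.leaf ((nat_lit 7), [nat_lit 0, nat_lit 3, nat_lit 1])) (.leaf ((nat_lit 37), [nat_lit 0, nat_lit 2]))) (.node (nat_lit 284) (.leaf ((nat_lit 10), [nat_lit 0, nat_lit 2])) (.leaf ((nat_lit 20), [nat_lit 2, nat_lit 1]))))))
 (.node (nat_lit 292) (.node (nat_lit 288) (.node (nat_lit 286) (.leaf ((nat_lit 9), [nat_lit 1, nat_lit 3, nat_lit 1])) (.node (nat_lit 287) (.leaf ((nat_lit 19), [nat_lit 0, nat_lit 3, nat_lit 1])) (.leaf ((nat_lit 50), [nat_lit 3, nat_lit 1]))))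
 (.node (nat_lit 290) (.node (nat_lit 289) (.leaf ((nat_lit 14), [nat_lit 2])) (.leaf ((nat_lit 34), [nat_lit 0]))) (.node (nat_lit 291) (.leaf ((nat_lit 52), [nat_lit 3, nat_lit 1])) (.leaf ((nat_lit 16), [nat_lit 2])))))
 (.node (nat_lit 296) (.node (nat_lit 294) (.node (nat_lit 293) (.leaf ((nat_lit 4), [nat_lit 3, nat_lit 1])) (.leaf ((nat_lit 9), [nat_lit 3]))) (.node (nat_lit 295) (.leaf ((nat_lit 10), [nat_lit 0, nat_lit 2, nat_lit 0])) (.leaf ((nat_lit 3), [nat_lit 0, nat_lit 2, nat_lit 0]))))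
 (.node (nat_lit 298) (.node (nat_lit 297) (.leaf ((nat_lit 24), [nat_lit 0, nat_lit 2, nat_lit 0])) (.leaf ((nat_lit 40), [nat_lit 0, nat_lit 3]))) (.node (nat_lit 299) (.leaf ((nat_lit 4), [nat_lit 0, nat_lit 3, nat_lit 0])) (.leaf ((nat_lit 47), [nat_lit 0, nat_lit 3, nat_lit 0]))))))))
 (.node (nat_lit 330) (.node (nat_lit 315) (.node (nat_lit 307) (.node (nat_lit 303) (.node (nat_lit 301) (.leaf ((nat_lit 22), [nat_lit 0])) (.node (nat_lit 302) (.leaf ((nat_lit 42), [nat_lit 0, nat_lit 2])) (.leaf ((nat_lit 37), [nat_lit 0, nat_lit 3]))))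
 (.node (nat_lit 305) (.node (nat_lit 304) (.leaf ((nat_lit 24), [nat_lit 1, nat_lit 2])) (.leaf ((nat_lit 25), [nat_lit 0, nat_lit 2, nat_lit 0]))) (.node (nat_lit 306) (.leaf ((nat_lit 44), [nat_lit 3])) (.leaf ((nat_lit 10), [nat_lit 1, nat_lit 2, nat_lit 0])))))
 (.node (nat_lit 311) (.node (nat_lit 309) (.node (nat_lit 308) (.leaf ((nat_lit 43), [nat_lit 0, nat_lit 2])) (.leaf ((nat_lit 37), [nat_lit 0, nat_lit 3, nat_lit 0]))) (.node (nat_lit 310) (.leaf ((nat_lit 9), [nat_lit 1, nat_lit 2])) (.leaf ((nat_lit 45), [nat_lit 1, nat_lit 3, nat_lit 1]))))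
 (.node (nat_lit 313) (.node (nat_lit 312) (.leaf ((nat_lit 46), [nat_lit 2, nat_lit 0])) (.leaf ((nat_lit 23), [nat_lit 0, nat_lit 2, nat_lit 0]))) (.node (nat_lit 314) (.leaf ((nat_lit 37), [nat_lit 1, nat_lit 3, nat_lit 1])) (.leaf ((nat_lit 41), [nat_lit 2, nat_lit 1]))))))
 (.node (nat_lit 322) (.node (nat_lit 318) (.node (nat_lit 316) (.leaf ((nat_lit 26), [nat_lit 0, nat_lit 2])) (.node (nat_lit 317) (.leaf ((nat_lit 14), [nat_lit 2, nat_lit 0])) (.leaf ((nat_lit 24), [nat_lit 0, nat_lit 2, nat_lit 1]))))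
 (.node (nat_lit 320) (.node (nat_lit 319) (.leaf ((nat_lit 43), [nat_lit 1])) (.leaf ((nat_lit 18), [nat_lit 2, nat_lit 1]))) (.node (nat_lit 321) (.leaf ((nat_lit 35), [nat_lit 2, nat_lit 1])) (.leaf ((nat_lit 46), [nat_lit 0, nat_lit 3, nat_lit 1])))))
 (.node (nat_lit 326) (.node (nat_lit 324) (.node (nat_lit 323) (.leaf ((nat_lit 4), [nat_lit 2, nat_lit 1])) (.leaf ((nat_lit 22), [nat_lit 1, nat_lit 2, nat_lit 0]))) (.node (nat_lit 325) (.leaf ((nat_lit 17), [nat_lit 1, nat_lit 3, nat_lit 0])) (.leaf ((nat_lit 46), [nat_lit 3]))))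
 (.node (nat_lit 328) (.node (nat_lit 327) (.leaf ((nat_lit 31), [nat_lit 2])) (.leaf ((nat_lit 11), [nat_lit 0, nat_lit 3]))) (.node (nat_lit 329) (.leaf ((nat_lit 9), [nat_lit 2])) (.leaf ((nat_lit 7), [nat_lit 1, nat_lit 3])))))))
 (.node (nat_lit 345) (.node (nat_lit 337) (.node (nat_lit 333) (.node (nat_lit 331) (.leaf ((nat_lit 20), [nat_lit 1, nat_lit 2])) (.node (nat_lit 332) (.leaf ((nat_lit 29), [nat_lit 0, nat_lit 2, nat_lit 1])) (.leaf ((nat_lit 20), [nat_lit 3, nat_lit 0]))))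
 (.node (nat_lit 335) (.node (nat_lit 334) (.leaf ((nat_lit 53), [nat_lit 2])) (.leaf ((nat_lit 13), [nat_lit 0, nat_lit 3, nat_lit 1]))) (.node (nat_lit 336) (.leaf ((nat_lit 9), [nat_lit 2, nat_lit 1])) (.leaf ((nat_lit 47), [nat_lit 3])))))
 (.node (nat_lit 341) (.node (nat_lit 339) (.node (nat_lit 338) (.leaf ((nat_lit 49), [nat_lit 3, nat_lit 0])) (.leaf ((nat_lit 37), [nat_lit 3]))) (.node (nat_lit 340) (.leaf ((nat_lit 46), [nat_lit 2])) (.leaf ((nat_lit 30), [nat_lit 2, nat_lit 1]))))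
 (.node (nat_lit 343) (.node (nat_lit 342) (.leaf ((nat_lit 50), [nat_lit 1])) (.leaf ((nat_lit 11), [nat_lit 1, nat_lit 3, nat_lit 0]))) (.node (nat_lit 344) (.leaf ((nat_lit 26), [nat_lit 0, nat_lit 3])) (.leaf ((nat_lit 45), [nat_lit 0, nat_lit 3, nat_lit 1]))))))
 (.node (nat_lit 352) (.node (nat_lit 348) (.node (nat_lit 346) (.leaf ((nat_lit 28), [nat_lit 2, nat_lit 1])) (.node (nat_lit 347) (.leaf ((nat_lit 46), [nat_lit 1, nat_lit 2, nat_lit 0])) (.leaf ((nat_lit 20), [nat_lit 2]))))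
 (.node (nat_lit 350) (.node (nat_lit 349) (.leaf ((nat_lit 38), [nat_lit 0, nat_lit 3])) (.leaf ((nat_lit 31), [nat_lit 0, nat_lit 2]))) (.node (nat_lit 351) (.leaf ((nat_lit 28), [nat_lit 0, nat_lit 3, nat_lit 0])) (.leaf ((nat_lit 27), [nat_lit 3])))))
 (.node (nat_lit 356) (.node (nat_lit 354) (.node (nat_lit 353) (.leaf ((nat_lit 53), [nat_lit 3])) (.leaf ((nat_lit 1), [nat_lit 1, nat_lit 2]))) (.node (nat_lit 355) (.leaf ((nat_lit 37), [nat_lit 1, nat_lit 2, nat_lit 0])) (.leaf ((nat_lit 3), [nat_lit 1, nat_lit 2]))))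
 (.node (nat_lit 358) (.node (nat_lit 357) (.leaf ((nat_lit 41), [nat_lit 0, nat_lit 2, nat_lit 0])) (.leaf ((nat_lit 8), [nat_lit 1]))) (.node (nat_lit 359) (.leaf ((nat_lit 51), [nat_lit 1])) (.leaf ((nat_lit 24), [nat_lit 3])))))))))
 (.node (nat_lit 420) (.node (nat_lit 390) (.node (nat_lit 375) (.node (nat_lit 367) (.node (nat_lit 363) (.node (nat_lit 361) (.leaf ((nat_lit 47), [nat_lit 2])) (.node (nat_lit 362) (.leaf ((nat_lit 1), [nat_lit 0, nat_lit 2])) (.leaf ((nat_lit 26), [nat_lit 2, nat_lit 1]))))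
 (.node (nat_lit 365) (.node (nat_lit 364) (.leaf ((nat_lit 6), [nat_lit 1, nat_lit 2, nat_lit 1])) (.leaf ((nat_lit 33), [nat_lit 3]))) (.node (nat_lit 366) (.leaf ((nat_lit 50), [nat_lit 1, nat_lit 2, nat_lit 1])) (.leaf ((nat_lit 13), [nat_lit 2, nat_lit 1])))))
 (.node (nat_lit 371) (.node (nat_lit 369) (.node (nat_lit 368) (.leaf ((nat_lit 20), [nat_lit 0])) (.leaf ((nat_lit 23), [nat_lit 1, nat_lit 3, nat_lit 1]))) (.node (nat_lit 370) (.leaf ((nat_lit 7), [nat_lit 2, nat_lit 1])) (.leaf ((nat_lit 46), [nat_lit 0, nat_lit 2]))))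
 (.node (nat_lit 373) (.node (nat_lit 372) (.leaf ((nat_lit 50), [nat_lit 0, nat_lit 2])) (.leaf ((nat_lit 28), [nat_lit 0, nat_lit 2]))) (.node (nat_lit 374) (.leaf ((nat_lit 14), [nat_lit 0, nat_lit 2])) (.leaf ((nat_lit 30), [nat_lit 3]))))))
 (.node (nat_lit 382) (.node (nat_lit 378) (.node (nat_lit 376) (.leaf ((nat_lit 40), [nat_lit 0, nat_lit 2, nat_lit 0])) (.node (nat_lit 377) (.leaf ((nat_lit 30), [nat_lit 1, nat_lit 3, nat_lit 1])) (.leaf ((nat_lit 45), [nat_lit 1, nat_lit 2, nat_lit 1]))))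
 (.node (nat_lit 380) (.node (nat_lit 379) (.leaf ((nat_lit 17), [nat_lit 3])) (.leaf ((nat_lit 39), [nat_lit 2]))) (.node (nat_lit 381) (.leaf ((nat_lit 42), [nat_lit 1, nat_lit 3, nat_lit 0])) (.leaf ((nat_lit 34), [nat_lit 3, nat_lit 0])))))
 (.node (nat_lit 386) (.node (nat_lit 384) (.node (nat_lit 383) (.leaf ((nat_lit 51), [nat_lit 2, nat_lit 0])) (.leaf ((nat_lit 49), [nat_lit 0, nat_lit 3, nat_lit 0]))) (.node (nat_lit 385) (.leaf ((nat_lit 4), [nat_lit 1, nat_lit 2])) (.leaf ((nat_lit 3), [nat_lit 1, nat_lit 3, nat_lit 1]))))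
 (.node (nat_lit 388) (.node (nat_lit 387) (.leaf ((nat_lit 41), [nat_lit 1, nat_lit 3, nat_lit 1])) (.leaf ((nat_lit 17), [nat_lit 3, nat_lit 0]))) (.node (nat_lit 389) (.leaf ((nat_lit 12), [nat_lit 2])) (.leaf ((nat_lit 39), [nat_lit 3])))))))
 (.node (nat_lit 405) (.node (nat_lit 397) (.node (nat_lit 393) (.node (nat_lit 391) (.leaf ((nat_lit 46), [nat_lit 0, nat_lit 3, nat_lit 0])) (.node (nat_lit 392) (.leaf ((nat_lit 28), [nat_lit 3])) (.leaf ((nat_lit 42), [nat_lit 2, nat_lit 0]))))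
 (.node (nat_lit 395) (.node (nat_lit 394) (.leaf ((nat_lit 23), [nat_lit 0, nat_lit 2, nat_lit 1])) (.leaf ((nat_lit 18), [nat_lit 1, nat_lit 2]))) (.node (nat_lit 396) (.leaf ((nat_lit 32), [nat_lit 1, nat_lit 3])) (.leaf ((nat_lit 19), [nat_lit 0, nat_lit 3])))))
 (.node (nat_lit 401) (.node (nat_lit 399) (.node (nat_lit 398) (.leaf ((nat_lit 43), [nat_lit 1, nat_lit 3])) (.leaf ((nat_lit 33), [nat_lit 0, nat_lit 3, nat_lit 0]))) (.node (nat_lit 400) (.leaf ((nat_lit 21), [nat_lit 0, nat_lit 2, nat_lit 1])) (.leaf ((nat_lit 49), [nat_lit 0, nat_lit 2, nat_lit 1]))))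
 (.node (nat_lit 403) (.node (nat_lit 402) (.leaf ((nat_lit 8), [nat_lit 1, nat_lit 3])) (.leaf ((nat_lit 41), [nat_lit 0, nat_lit 3, nat_lit 0]))) (.node (nat_lit 404) (.leaf ((nat_lit 8), [nat_lit 0])) (.leaf ((nat_lit 17), [nat_lit 1]))))))
 (.node (nat_lit 412) (.node (nat_lit 408) (.node (nat_lit 406) (.leaf ((nat_lit 5), [nat_lit 1, nat_lit 3])) (.node (nat_lit 407) (.leaf ((nat_lit 17), [nat_lit 0, nat_lit 2, nat_lit 1])) (.leaf ((nat_lit 23), [nat_lit 0, nat_lit 3, nat_lit 1]))))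
 (.node (nat_lit 410) (.node (nat_lit 409) (.leaf ((nat_lit 22), [nat_lit 0, nat_lit 2, nat_lit 1])) (.leaf ((nat_lit 31), [nat_lit 1, nat_lit 3]))) (.node (nat_lit 411) (.leaf ((nat_lit 49), [nat_lit 1, nat_lit 3])) (.leaf ((nat_lit 38), [nat_lit 2, nat_lit 0])))))
 (.node (nat_lit 416) (.node (nat_lit 414) (.node (nat_lit 413) (.leaf ((nat_lit 4), [nat_lit 0])) (.leaf ((nat_lit 22), [nat_lit 1]))) (.node (nat_lit 415) (.leaf ((nat_lit 4), [nat_lit 1, nat_lit 2, nat_lit 1])) (.leaf ((nat_lit 28), [nat_lit 0, nat_lit 3]))))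
 (.node (nat_lit 418) (.node (nat_lit 417) (.leaf ((nat_lit 42), [nat_lit 0, nat_lit 2, nat_lit 0])) (.leaf ((nat_lit 13), [nat_lit 0, nat_lit 2]))) (.node (nat_lit 419) (.leaf ((nat_lit 5), [nat_lit 1, nat_lit 2])) (.leaf ((nat_lit 20), [nat_lit 1, nat_lit 3]))))))))
 (.node (nat_lit 450) (.node (nat_lit 435) (.node (nat_lit 427) (.node (nat_lit 423) (.node (nat_lit 421) (.leaf ((nat_lit 53), [nat_lit 1, nat_lit 3])) (.node (nat_lit 422) (.leaf ((nat_lit 29), [nat_lit 2])) (.leaf ((nat_lit 35), [nat_lit 3, nat_lit 0]))))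
 (.node (nat_lit 425) (.node (nat_lit 424) (.leaf ((nat_lit 10), [nat_lit 2, nat_lit 0])) (.leaf ((nat_lit 51), [nat_lit 2]))) (.node (nat_lit 426) (.leaf ((nat_lit 49), [nat_lit 1, nat_lit 2, nat_lit 1])) (.leaf ((nat_lit 50), [nat_lit 1, nat_lit 2, nat_lit 0])))))
 (.node (nat_lit 431) (.node (nat_lit 429) (.node (nat_lit 428) (.leaf ((nat_lit 19), [nat_lit 0])) (.leaf ((nat_lit 43), [nat_lit 3, nat_lit 0]))) (.node (nat_lit 430) (.leaf ((nat_lit 4), [nat_lit 1, nat_lit 3, nat_lit 0])) (.leaf ((nat_lit 29), [nat_lit 0, nat_lit 3]))))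
 (.node (nat_lit 433) (.node (nat_lit 432) (.leaf ((nat_lit 51), [nat_lit 1, nat_lit 3])) (.leaf ((nat_lit 5), [nat_lit 0, nat_lit 2]))) (.node (nat_lit 434) (.leaf ((nat_lit 26), [nat_lit 1, nat_lit 3, nat_lit 1])) (.leaf ((nat_lit 4), [nat_lit 2, nat_lit 0]))))))
 (.node (nat_lit 442) (.node (nat_lit 438) (.node (nat_lit 436) (.leaf ((nat_lit 10), [nat_lit 3])) (.node (nat_lit 437) (.leaf ((nat_lit 42), [nat_lit 1, nat_lit 2])) (.leaf ((nat_lit 18), [nat_lit 1, nat_lit 3, nat_lit 0]))))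
 (.node (nat_lit 440) (.node (nat_lit 439) (.leaf ((nat_lit 23), [nat_lit 3, nat_lit 0])) (.leaf ((nat_lit 50), [nat_lit 0, nat_lit 3, nat_lit 1]))) (.node (nat_lit 441) (.leaf ((nat_lit 26), [nat_lit 2, nat_lit 0])) (.leaf ((nat_lit 36), [nat_lit 1])))))
 (.node (nat_lit 446) (.node (nat_lit 444) (.node (nat_lit 443) (.leaf ((nat_lit 9), [nat_lit 1])) (.leaf ((nat_lit 43), [nat_lit 3]))) (.node (nat_lit 445) (.leaf ((nat_lit 44), [nat_lit 1])) (.leaf ((nat_lit 31), [nat_lit 0, nat_lit 3, nat_lit 0]))))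
 (.node (nat_lit 448) (.node (nat_lit 447) (.leaf ((nat_lit 8), [nat_lit 0, nat_lit 3, nat_lit 0])) (.leaf ((nat_lit 50), [nat_lit 0, nat_lit 3]))) (.node (nat_lit 449) (.leaf ((nat_lit 34), [nat_lit 2, nat_lit 0])) (.leaf ((nat_lit 47), [nat_lit 1, nat_lit 3, nat_lit 1])))))))
 (.node (nat_lit 465) (.node (nat_lit 457) (.node (nat_lit 453) (.node (nat_lit 451) (.leaf ((nat_lit 27), [nat_lit 0, nat_lit 3])) (.node (nat_lit 452) (.leaf ((nat_lit 48), [nat_lit 1, nat_lit 3])) (.leaf ((nat_lit 25), [nat_lit 3, nat_lit 1]))))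
 (.node (nat_lit 455) (.node (nat_lit 454) (.leaf ((nat_lit 14), [nat_lit 3])) (.leaf ((nat_lit 27), [nat_lit 1, nat_lit 2, nat_lit 1]))) (.node (nat_lit 456) (.leaf ((nat_lit 18), [nat_lit 1, nat_lit 3])) (.leaf ((nat_lit 19), [nat_lit 3, nat_lit 0])))))
 (.node (nat_lit 461) (.node (nat_lit 459) (.node (nat_lit 458) (.leaf ((nat_lit 1), [nat_lit 0, nat_lit 2, nat_lit 0])) (.leaf ((nat_lit 25), [nat_lit 3, nat_lit 0]))) (.node (nat_lit 460) (.leaf ((nat_lit 33), [nat_lit 0, nat_lit 2])) (.leaf ((nat_lit 41), [nat_lit 0, nat_lit 2, nat_lit 1]))))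
 (.node (nat_lit 463) (.node (nat_lit 462) (.leaf ((nat_lit 48), [nat_lit 0, nat_lit 2, nat_lit 0])) (.leaf ((nat_lit 49), [nat_lit 0, nat_lit 2]))) (.node (nat_lit 464) (.leaf ((nat_lit 37), [nat_lit 3, nat_lit 1])) (.leaf ((nat_lit 49), [nat_lit 2]))))))
 (.node (nat_lit 472) (.node (nat_lit 468) (.node (nat_lit 466) (.leaf ((nat_lit 29), [nat_lit 0, nat_lit 2, nat_lit 0])) (.node (nat_lit 467) (.leaf ((nat_lit 20), [nat_lit 0, nat_lit 2, nat_lit 0])) (.leaf ((nat_lit 1), [nat_lit 1, nat_lit 2, nat_lit 0]))))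
 (.node (nat_lit 470) (.node (nat_lit 469) (.leaf ((nat_lit 50), [nat_lit 2, nat_lit 1])) (.leaf ((nat_lit 41), [nat_lit 2, nat_lit 0]))) (.node (nat_lit 471) (.leaf ((nat_lit 28), [nat_lit 3, nat_lit 1])) (.leaf ((nat_lit 17), [nat_lit 2, nat_lit 0])))))
 (.node (nat_lit 476) (.node (nat_lit 474) (.node (nat_lit 473) (.leaf ((nat_lit 26), [nat_lit 0, nat_lit 2, nat_lit 0])) (.leaf ((nat_lit 49), [nat_lit 0]))) (.node (nat_lit 475) (.leaf ((nat_lit 13), [nat_lit 0])) (.leaf ((nat_lit 23), [nat_lit 0]))))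
 (.node (nat_lit 478) (.node (nat_lit 477) (.leaf ((nat_lit 22), [nat_lit 0, nat_lit 3, nat_lit 0])) (.leaf ((nat_lit 33), [nat_lit 0]))) (.node (nat_lit 479) (.leaf ((nat_lit 40), [nat_lit 1, nat_lit 3, nat_lit 0])) (.leaf ((nat_lit 21), [nat_lit 1, nat_lit 2, nat_lit 0]))))))))))
noncomputable def n1PA_2 : Tr (ℕ × List ℕ) := (.node (nat_lit 600) (.node (nat_lit 540) (.node (nat_lit 510) (.node (nat_lit 495) (.node (nat_lit 487) (.node (nat_lit 483) (.node (nat_lit 481) (.leaf ((nat_lit 46), [nat_lit 3, nat_lit 1])) (.node (nat_lit 482) (.leaf ((nat_lit 11), [nat_lit 2, nat_lit 0])) (.leaf ((nat_lit 9), [nat_lit 0, nat_lit 2, nat_lit 0]))))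
 (.node (nat_lit 485) (.node (nat_lit 484) (.leaf ((nat_lit 17), [nat_lit 0])) (.leaf ((nat_lit 34), [nat_lit 1, nat_lit 2]))) (.node (nat_lit 486) (.leaf ((nat_lit 47), [nat_lit 1, nat_lit 2])) (.leaf ((nat_lit 13), [nat_lit 1, nat_lit 3, nat_lit 1])))))
 (.node (nat_lit 491) (.node (nat_lit 489) (.node (nat_lit 488) (.leaf ((nat_lit 33), [nat_lit 1, nat_lit 3])) (.leaf ((nat_lit 12), [nat_lit 1, nat_lit 3]))) (.node (nat_lit 490) (.leaf ((nat_lit 20), [nat_lit 3])) (.leaf ((nat_lit 21), [nat_lit 0]))))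
 (.node (nat_lit 493) (.node (nat_lit 492) (.leaf ((nat_lit 10), [nat_lit 0, nat_lit 2, nat_lit 1])) (.leaf ((nat_lit 40), [nat_lit 1, nat_lit 3, nat_lit 1]))) (.node (nat_lit 494) (.leaf ((nat_lit 4), [nat_lit 0, nat_lit 3])) (.leaf ((nat_lit 34), [nat_lit 1]))))))
 (.node (nat_lit 502) (.node (nat_lit 498) (.node (nat_lit 496) (.leaf ((nat_lit 51), [nat_lit 0, nat_lit 2])) (.node (nat_lit 497) (.leaf ((nat_lit 48), [nat_lit 2, nat_lit 1])) (.leaf ((nat_lit 14), [nat_lit 0, nat_lit 2, nat_lit 1]))))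
 (.node (nat_lit 500) (.node (nat_lit 499) (.leaf ((nat_lit 53), [nat_lit 0, nat_lit 3])) (.leaf ((nat_lit 50), [nat_lit 3, nat_lit 0]))) (.node (nat_lit 501) (.leaf ((nat_lit 45), [nat_lit 1, nat_lit 3])) (.leaf ((nat_lit 26), [nat_lit 0])))))
 (.node (nat_lit 506) (.node (nat_lit 504) (.node (nat_lit 503) (.leaf ((nat_lit 14), [nat_lit 0, nat_lit 3, nat_lit 0])) (.leaf ((nat_lit 21), [nat_lit 1, nat_lit 2, nat_lit 1]))) (.node (nat_lit 505) (.leaf ((nat_lit 13), [nat_lit 0, nat_lit 2, nat_lit 1])) (.leaf ((nat_lit 17), [nat_lit 3, nat_lit 1]))))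
 (.node (nat_lit 508) (.node (nat_lit 507) (.leaf ((nat_lit 45), [nat_lit 2, nat_lit 0])) (.leaf ((nat_lit 51), [nat_lit 1, nat_lit 2, nat_lit 0]))) (.node (nat_lit 509) (.leaf ((nat_lit 16), [nat_lit 3, nat_lit 0])) (.leaf ((nat_lit 40), [nat_lit 2, nat_lit 0])))))))
 (.node (nat_lit 525) (.node (nat_lit 517) (.node (nat_lit 513) (.node (nat_lit 511) (.leaf ((nat_lit 33), [nat_lit 2, nat_lit 1])) (.node (nat_lit 512) (.leaf ((nat_lit 24), [nat_lit 1, nat_lit 2, nat_lit 0])) (.leaf ((nat_lit 46), [nat_lit 3, nat_lit 0]))))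
 (.node (nat_lit 515) (.node (nat_lit 514) (.leaf ((nat_lit 28), [nat_lit 1, nat_lit 3])) (.leaf ((nat_lit 51), [nat_lit 2, nat_lit 1]))) (.node (nat_lit 516) (.leaf ((nat_lit 5), [nat_lit 0, nat_lit 2, nat_lit 0])) (.leaf ((nat_lit 40), [nat_lit 1, nat_lit 2, nat_lit 1])))))
 (.node (nat_lit 521) (.node (nat_lit 519) (.node (nat_lit 518) (.leaf ((nat_lit 40), [nat_lit 3, nat_lit 1])) (.leaf ((nat_lit 23), [nat_lit 3]))) (.node (nat_lit 520) (.leaf ((nat_lit 28), [nat_lit 1, nat_lit 2, nat_lit 0])) (.leaf ((nat_lit 5), [nat_lit 1, nat_lit 3, nat_lit 1]))))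
 (.node (nat_lit 523) (.node (nat_lit 522) (.leaf ((nat_lit 13), [nat_lit 0, nat_lit 3])) (.leaf ((nat_lit 51), [nat_lit 3]))) (.node (nat_lit 524) (.leaf ((nat_lit 38), [nat_lit 1])) (.leaf ((nat_lit 27), [nat_lit 0]))))))
 (.node (nat_lit 532) (.node (nat_lit 528) (.node (nat_lit 526) (.leaf ((nat_lit 26), [nat_lit 3, nat_lit 0])) (.node (nat_lit 527) (.leaf ((nat_lit 51), [nat_lit 0, nat_lit 2, nat_lit 1])) (.leaf ((nat_lit 27), [nat_lit 1, nat_lit 3, nat_lit 0]))))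
 (.node (nat_lit 530) (.node (nat_lit 529) (.leaf ((nat_lit 25), [nat_lit 0, nat_lit 3, nat_lit 1])) (.leaf ((nat_lit 49), [nat_lit 1]))) (.node (nat_lit 531) (.leaf ((nat_lit 44), [nat_lit 2, nat_lit 1])) (.leaf ((nat_lit 42), [nat_lit 3, nat_lit 1])))))
 (.node (nat_lit 536) (.node (nat_lit 534) (.node (nat_lit 533) (.leaf ((nat_lit 45), [nat_lit 1, nat_lit 3, nat_lit 0])) (.leaf ((nat_lit 1), [nat_lit 2, nat_lit 0]))) (.node (nat_lit 535) (.leaf ((nat_lit 6), [nat_lit 1, nat_lit 3, nat_lit 1])) (.leaf ((nat_lit 41), [nat_lit 3, nat_lit 1]))))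
 (.node (nat_lit 538) (.node (nat_lit 537) (.leaf ((nat_lit 45), [nat_lit 3, nat_lit 1])) (.leaf ((nat_lit 21), [nat_lit 0, nat_lit 2]))) (.node (nat_lit 539) (.leaf ((nat_lit 11), [nat_lit 1, nat_lit 2])) (.leaf ((nat_lit 47), [nat_lit 2, nat_lit 0]))))))))
 (.node (nat_lit 570) (.node (nat_lit 555) (.node (nat_lit 547) (.node (nat_lit 543) (.node (nat_lit 541) (.leaf ((nat_lit 40), [nat_lit 1, nat_lit 3])) (.node (nat_lit 542) (.leaf ((nat_lit 49), [nat_lit 0, nat_lit 3])) (.leaf ((nat_lit 17), [nat_lit 2, nat_lit 1]))))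
 (.node (nat_lit 545) (.node (nat_lit 544) (.leaf ((nat_lit 24), [nat_lit 3, nat_lit 0])) (.leaf ((nat_lit 8), [nat_lit 0, nat_lit 2, nat_lit 1]))) (.node (nat_lit 546) (.leaf ((nat_lit 11), [nat_lit 1])) (.leaf ((nat_lit 45), [nat_lit 1])))))
 (.node (nat_lit 551) (.node (nat_lit 549) (.node (nat_lit 548) (.leaf ((nat_lit 36), [nat_lit 2])) (.leaf ((nat_lit 27), [nat_lit 0, nat_lit 2, nat_lit 1]))) (.node (nat_lit 550) (.leaf ((nat_lit 45), [nat_lit 0, nat_lit 2, nat_lit 0])) (.leaf ((nat_lit 48), [nat_lit 1, nat_lit 3, nat_lit 0]))))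
 (.node (nat_lit 553) (.node (nat_lit 552) (.leaf ((nat_lit 17), [nat_lit 1, nat_lit 3])) (.leaf ((nat_lit 7), [nat_lit 1, nat_lit 3, nat_lit 1]))) (.node (nat_lit 554) (.leaf ((nat_lit 38), [nat_lit 0, nat_lit 3, nat_lit 0])) (.leaf ((nat_lit 5), [nat_lit 1, nat_lit 2, nat_lit 0]))))))
 (.node (nat_lit 562) (.node (nat_lit 558) (.node (nat_lit 556) (.leaf ((nat_lit 3), [nat_lit 2, nat_lit 0])) (.node (nat_lit 557) (.leaf ((nat_lit 49), [nat_lit 1, nat_lit 2, nat_lit 0])) (.leaf ((nat_lit 28), [nat_lit 1, nat_lit 3, nat_lit 0]))))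
 (.node (nat_lit 560) (.node (nat_lit 559) (.leaf ((nat_lit 17), [nat_lit 0, nat_lit 2])) (.leaf ((nat_lit 22), [nat_lit 1, nat_lit 2]))) (.node (nat_lit 561) (.leaf ((nat_lit 38), [nat_lit 3])) (.leaf ((nat_lit 10), [nat_lit 2])))))
 (.node (nat_lit 566) (.node (nat_lit 564) (.node (nat_lit 563) (.leaf ((nat_lit 10), [nat_lit 1, nat_lit 3, nat_lit 1])) (.leaf ((nat_lit 40), [nat_lit 0, nat_lit 2]))) (.node (nat_lit 565) (.leaf ((nat_lit 33), [nat_lit 1])) (.leaf ((nat_lit 45), [nat_lit 1, nat_lit 2, nat_lit 0]))))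
 (.node (nat_lit 568) (.node (nat_lit 567) (.leaf ((nat_lit 27), [nat_lit 1, nat_lit 3, nat_lit 1])) (.leaf ((nat_lit 25), [nat_lit 1, nat_lit 3, nat_lit 1]))) (.node (nat_lit 569) (.leaf ((nat_lit 8), [nat_lit 0, nat_lit 2, nat_lit 0])) (.leaf ((nat_lit 9), [nat_lit 1, nat_lit 3])))))))
 (.node (nat_lit 585) (.node (nat_lit 577) (.node (nat_lit 573) (.node (nat_lit 571) (.leaf ((nat_lit 50), [nat_lit 1, nat_lit 2])) (.node (nat_lit 572) (.leaf ((nat_lit 24), [nat_lit 2, nat_lit 1])) (.leaf ((nat_lit 21), [nat_lit 0, nat_lit 3, nat_lit 1]))))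
 (.node (nat_lit 575) (.node (nat_lit 574) (.leaf ((nat_lit 7), [nat_lit 1, nat_lit 2])) (.leaf ((nat_lit 22), [nat_lit 2, nat_lit 1]))) (.node (nat_lit 576) (.leaf ((nat_lit 26), [nat_lit 1, nat_lit 3])) (.leaf ((nat_lit 27), [nat_lit 0, nat_lit 2])))))
 (.node (nat_lit 581) (.node (nat_lit 579) (.node (nat_lit 578) (.leaf ((nat_lit 45), [nat_lit 0, nat_lit 3, nat_lit 0])) (.leaf ((nat_lit 47), [nat_lit 1, nat_lit 2, nat_lit 0]))) (.node (nat_lit 580) (.leaf ((nat_lit 38), [nat_lit 1, nat_lit 2, nat_lit 1])) (.leaf ((nat_lit 45), [nat_lit 3]))))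
 (.node (nat_lit 583) (.node (nat_lit 582) (.leaf ((nat_lit 33), [nat_lit 0, nat_lit 3, nat_lit 1])) (.leaf ((nat_lit 30), [nat_lit 1, nat_lit 2, nat_lit 1]))) (.node (nat_lit 584) (.leaf ((nat_lit 22), [nat_lit 2])) (.leaf ((nat_lit 29), [nat_lit 2, nat_lit 0]))))))
 (.node (nat_lit 592) (.node (nat_lit 588) (.node (nat_lit 586) (.leaf ((nat_lit 2), [nat_lit 3])) (.node (nat_lit 587) (.leaf ((nat_lit 13), [nat_lit 3, nat_lit 0])) (.leaf ((nat_lit 29), [nat_lit 0, nat_lit 3, nat_lit 0]))))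
 (.node (nat_lit 590) (.node (nat_lit 589) (.leaf ((nat_lit 32), [nat_lit 2])) (.leaf ((nat_lit 33), [nat_lit 2]))) (.node (nat_lit 591) (.leaf ((nat_lit 6), [nat_lit 0, nat_lit 2, nat_lit 1])) (.leaf ((nat_lit 48), [nat_lit 1, nat_lit 2])))))
 (.node (nat_lit 596) (.node (nat_lit 594) (.node (nat_lit 593) (.leaf ((nat_lit 51), [nat_lit 0, nat_lit 3, nat_lit 1])) (.leaf ((nat_lit 46), [nat_lit 0, nat_lit 2, nat_lit 0]))) (.node (nat_lit 595) (.leaf ((nat_lit 51), [nat_lit 1, nat_lit 2])) (.leaf ((nat_lit 19), [nat_lit 1, nat_lit 3, nat_lit 1]))))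
 (.node (nat_lit 598) (.node (nat_lit 597) (.leaf ((nat_lit 21), [nat_lit 3])) (.leaf ((nat_lit 5), [nat_lit 0, nat_lit 3, nat_lit 0]))) (.node (nat_lit 599) (.leaf ((nat_lit 14), [nat_lit 1, nat_lit 2, nat_lit 1])) (.leaf ((nat_lit 5), [nat_lit 1])))))))))
 (.node (nat_lit 660) (.node (nat_lit 630) (.node (nat_lit 615) (.node (nat_lit 607) (.node (nat_lit 603) (.node (nat_lit 601) (.leaf ((nat_lit 36), [nat_lit 3, nat_lit 0])) (.node (nat_lit 602) (.leaf ((nat_lit 11), [nat_lit 0, nat_lit 2, nat_lit 0])) (.leaf ((nat_lit 35), [nat_lit 3, nat_lit 1]))))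
 (.node (nat_lit 605) (.node (nat_lit 604) (.leaf ((nat_lit 46), [nat_lit 1, nat_lit 3, nat_lit 0])) (.leaf ((nat_lit 19), [nat_lit 2]))) (.node (nat_lit 606) (.leaf ((nat_lit 50), [nat_lit 1, nat_lit 3])) (.leaf ((nat_lit 13), [nat_lit 2])))))
 (.node (nat_lit 611) (.node (nat_lit 609) (.node (nat_lit 608) (.leaf ((nat_lit 25), [nat_lit 2])) (.leaf ((nat_lit 8), [nat_lit 1, nat_lit 3, nat_lit 1]))) (.node (nat_lit 610) (.leaf ((nat_lit 40), [nat_lit 3])) (.leaf ((nat_lit 52), [nat_lit 0]))))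
 (.node (nat_lit 613) (.node (nat_lit 612) (.leaf ((nat_lit 47), [nat_lit 0])) (.leaf ((nat_lit 28), [nat_lit 1]))) (.node (nat_lit 614) (.leaf ((nat_lit 37), [nat_lit 2])) (.leaf ((nat_lit 25), [nat_lit 1, nat_lit 3]))))))
 (.node (nat_lit 622) (.node (nat_lit 618) (.node (nat_lit 616) (.leaf ((nat_lit 31), [nat_lit 0, nat_lit 3, nat_lit 1])) (.node (nat_lit 617) (.leaf ((nat_lit 21), [nat_lit 2, nat_lit 0])) (.leaf ((nat_lit 51), [nat_lit 1, nat_lit 3, nat_lit 0]))))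
 (.node (nat_lit 620) (.node (nat_lit 619) (.leaf ((nat_lit 15), [nat_lit 2])) (.leaf ((nat_lit 45), [nat_lit 2, nat_lit 1]))) (.node (nat_lit 621) (.leaf ((nat_lit 17), [nat_lit 2])) (.leaf ((nat_lit 18), [nat_lit 0, nat_lit 3, nat_lit 0])))))
 (.node (nat_lit 626) (.node (nat_lit 624) (.node (nat_lit 623) (.leaf ((nat_lit 14), [nat_lit 0, nat_lit 3])) (.leaf ((nat_lit 25), [nat_lit 0, nat_lit 2, nat_lit 1]))) (.node (nat_lit 625) (.leaf ((nat_lit 42), [nat_lit 0, nat_lit 2, nat_lit 1])) (.leaf ((nat_lit 48), [nat_lit 0, nat_lit 2]))))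
 (.node (nat_lit 628) (.node (nat_lit 627) (.leaf ((nat_lit 37), [nat_lit 2, nat_lit 1])) (.leaf ((nat_lit 2), [nat_lit 1, nat_lit 3]))) (.node (nat_lit 629) (.leaf ((nat_lit 30), [nat_lit 0, nat_lit 3])) (.leaf ((nat_lit 46), [nat_lit 1, nat_lit 2, nat_lit 1])))))))
 (.node (nat_lit 645) (.node (nat_lit 637) (.node (nat_lit 633) (.node (nat_lit 631) (.leaf ((nat_lit 16), [nat_lit 0])) (.node (nat_lit 632) (.leaf ((nat_lit 23), [nat_lit 2, nat_lit 1])) (.leaf ((nat_lit 43), [nat_lit 0, nat_lit 3, nat_lit 1]))))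
 (.node (nat_lit 635) (.node (nat_lit 634) (.leaf ((nat_lit 24), [nat_lit 1, nat_lit 2, nat_lit 1])) (.leaf ((nat_lit 24), [nat_lit 0, nat_lit 3, nat_lit 0]))) (.node (nat_lit 636) (.leaf ((nat_lit 6), [nat_lit 0, nat_lit 3, nat_lit 1])) (.leaf ((nat_lit 6), [nat_lit 0])))))
 (.node (nat_lit 641) (.node (nat_lit 639) (.node (nat_lit 638) (.leaf ((nat_lit 34), [nat_lit 1, nat_lit 2, nat_lit 1])) (.leaf ((nat_lit 22), [nat_lit 1, nat_lit 3]))) (.node (nat_lit 640) (.leaf ((nat_lit 22), [nat_lit 0, nat_lit 2, nat_lit 0])) (.leaf ((nat_lit 6), [nat_lit 3, nat_lit 0]))))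
 (.node (nat_lit 643) (.node (nat_lit 642) (.leaf ((nat_lit 50), [nat_lit 2, nat_lit 0])) (.leaf ((nat_lit 9), [nat_lit 0, nat_lit 2, nat_lit 1]))) (.node (nat_lit 644) (.leaf ((nat_lit 11), [nat_lit 1, nat_lit 3])) (.leaf ((nat_lit 27), [nat_lit 1, nat_lit 2]))))))
 (.node (nat_lit 652) (.node (nat_lit 648) (.node (nat_lit 646) (.leaf ((nat_lit 19), [nat_lit 0, nat_lit 3, nat_lit 0])) (.node (nat_lit 647) (.leaf ((nat_lit 34), [nat_lit 0, nat_lit 3, nat_lit 1])) (.leaf ((nat_lit 13), [nat_lit 1, nat_lit 2, nat_lit 0]))))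
 (.node (nat_lit 650) (.node (nat_lit 649) (.leaf ((nat_lit 14), [nat_lit 0])) (.leaf ((nat_lit 10), [nat_lit 1, nat_lit 2, nat_lit 1]))) (.node (nat_lit 651) (.leaf ((nat_lit 28), [nat_lit 3, nat_lit 0])) (.leaf ((nat_lit 16), [nat_lit 3])))))
 (.node (nat_lit 656) (.node (nat_lit 654) (.node (nat_lit 653) (.leaf ((nat_lit 34), [nat_lit 0, nat_lit 3, nat_lit 0])) (.leaf ((nat_lit 40), [nat_lit 3, nat_lit 0]))) (.node (nat_lit 655) (.leaf ((nat_lit 30), [nat_lit 0, nat_lit 2, nat_lit 0])) (.leaf ((nat_lit 41), [nat_lit 1, nat_lit 3, nat_lit 0]))))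
 (.node (nat_lit 658) (.node (nat_lit 657) (.leaf ((nat_lit 30), [nat_lit 1, nat_lit 3, nat_lit 0])) (.leaf ((nat_lit 13), [nat_lit 1, nat_lit 2]))) (.node (nat_lit 659) (.leaf ((nat_lit 38), [nat_lit 3, nat_lit 0])) (.leaf ((nat_lit 24), [nat_lit 1, nat_lit 3, nat_lit 1]))))))))
 (.node (nat_lit 690) (.node (nat_lit 675) (.node (nat_lit 667) (.node (nat_lit 663) (.node (nat_lit 661) (.leaf ((nat_lit 41), [nat_lit 2])) (.node (nat_lit 662) (.leaf ((nat_lit 23), [nat_lit 1, nat_lit 2, nat_lit 0])) (.leaf ((nat_lit 41), [nat_lit 3, nat_lit 0]))))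
 (.node (nat_lit 665) (.node (nat_lit 664) (.leaf ((nat_lit 28), [nat_lit 0, nat_lit 3, nat_lit 1])) (.leaf ((nat_lit 47), [nat_lit 0, nat_lit 2, nat_lit 0]))) (.node (nat_lit 666) (.leaf ((nat_lit 38), [nat_lit 1, nat_lit 3, nat_lit 0])) (.leaf ((nat_lit 23), [nat_lit 1])))))
 (.node (nat_lit 671) (.node (nat_lit 669) (.node (nat_lit 668) (.leaf ((nat_lit 25), [nat_lit 1, nat_lit 2, nat_lit 1])) (.leaf ((nat_lit 23), [nat_lit 2, nat_lit 0]))) (.node (nat_lit 670) (.leaf ((nat_lit 22), [nat_lit 0, nat_lit 3, nat_lit 1])) (.leaf ((nat_lit 18), [nat_lit 1, nat_lit 2, nat_lit 0]))))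
 (.node (nat_lit 673) (.node (nat_lit 672) (.leaf ((nat_lit 41), [nat_lit 3])) (.leaf ((nat_lit 11), [nat_lit 0, nat_lit 3, nat_lit 0]))) (.node (nat_lit 674) (.leaf ((nat_lit 15), [nat_lit 3])) (.leaf ((nat_lit 30), [nat_lit 1, nat_lit 3]))))))
 (.node (nat_lit 682) (.node (nat_lit 678) (.node (nat_lit 676) (.leaf ((nat_lit 42), [nat_lit 1])) (.node (nat_lit 677) (.leaf ((nat_lit 38), [nat_lit 0, nat_lit 2, nat_lit 1])) (.leaf ((nat_lit 50), [nat_lit 0]))))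
 (.node (nat_lit 680) (.node (nat_lit 679) (.leaf ((nat_lit 21), [nat_lit 1, nat_lit 3])) (.leaf ((nat_lit 5), [nat_lit 1, nat_lit 3, nat_lit 0]))) (.node (nat_lit 681) (.leaf ((nat_lit 48), [nat_lit 3])) (.leaf ((nat_lit 33), [nat_lit 1, nat_lit 3, nat_lit 0])))))
 (.node (nat_lit 686) (.node (nat_lit 684) (.node (nat_lit 683) (.leaf ((nat_lit 11), [nat_lit 2, nat_lit 1])) (.leaf ((nat_lit 23), [nat_lit 0, nat_lit 2]))) (.node (nat_lit 685) (.leaf ((nat_lit 5), [nat_lit 2])) (.leaf ((nat_lit 42), [nat_lit 1, nat_lit 3, nat_lit 1]))))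
 (.node (nat_lit 688) (.node (nat_lit 687) (.leaf ((nat_lit 48), [nat_lit 1, nat_lit 2, nat_lit 0])) (.leaf ((nat_lit 49), [nat_lit 1, nat_lit 3, nat_lit 0]))) (.node (nat_lit 689) (.leaf ((nat_lit 13), [nat_lit 0, nat_lit 2, nat_lit 0])) (.leaf ((nat_lit 5), [nat_lit 2, nat_lit 1])))))))
 (.node (nat_lit 705) (.node (nat_lit 697) (.node (nat_lit 693) (.node (nat_lit 691) (.leaf ((nat_lit 3), [nat_lit 0, nat_lit 2])) (.node (nat_lit 692) (.leaf ((nat_lit 14), [nat_lit 1, nat_lit 3, nat_lit 0])) (.leaf ((nat_lit 10), [nat_lit 1, nat_lit 2]))))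
 (.node (nat_lit 695) (.node (nat_lit 694) (.leaf ((nat_lit 40), [nat_lit 1, nat_lit 2, nat_lit 0])) (.leaf ((nat_lit 21), [nat_lit 2, nat_lit 1]))) (.node (nat_lit 696) (.leaf ((nat_lit 34), [nat_lit 0, nat_lit 3])) (.leaf ((nat_lit 17), [nat_lit 0, nat_lit 3, nat_lit 1])))))
 (.node (nat_lit 701) (.node (nat_lit 699) (.node (nat_lit 698) (.leaf ((nat_lit 11), [nat_lit 1, nat_lit 3, nat_lit 1])) (.leaf ((nat_lit 31), [nat_lit 0, nat_lit 2, nat_lit 0]))) (.node (nat_lit 700) (.leaf ((nat_lit 49), [nat_lit 1, nat_lit 2])) (.leaf ((nat_lit 21), [nat_lit 1, nat_lit 3, nat_lit 1]))))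
 (.node (nat_lit 703) (.node (nat_lit 702) (.leaf ((nat_lit 4), [nat_lit 3])) (.leaf ((nat_lit 44), [nat_lit 3, nat_lit 1]))) (.node (nat_lit 704) (.leaf ((nat_lit 27), [nat_lit 1, nat_lit 3])) (.leaf ((nat_lit 43), [nat_lit 0, nat_lit 2, nat_lit 1]))))))
 (.node (nat_lit 712) (.node (nat_lit 708) (.node (nat_lit 706) (.leaf ((nat_lit 31), [nat_lit 0])) (.node (nat_lit 707) (.leaf ((nat_lit 17), [nat_lit 1, nat_lit 2, nat_lit 1])) (.leaf ((nat_lit 29), [nat_lit 0, nat_lit 2]))))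
 (.node (nat_lit 710) (.node (nat_lit 709) (.leaf ((nat_lit 13), [nat_lit 0, nat_lit 3, nat_lit 0])) (.leaf ((nat_lit 42), [nat_lit 1, nat_lit 2, nat_lit 0]))) (.node (nat_lit 711) (.leaf ((nat_lit 10), [nat_lit 0, nat_lit 3, nat_lit 0])) (.leaf ((nat_lit 2), [nat_lit 1, nat_lit 2])))))
 (.node (nat_lit 716) (.node (nat_lit 714) (.node (nat_lit 713) (.leaf ((nat_lit 26), [nat_lit 0, nat_lit 3, nat_lit 0])) (.leaf ((nat_lit 24), [nat_lit 1, nat_lit 3, nat_lit 0]))) (.node (nat_lit 715) (.leaf ((nat_lit 11), [nat_lit 0, nat_lit 2])) (.leaf ((nat_lit 3), [nat_lit 1, nat_lit 3]))))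
 (.node (nat_lit 718) (.node (nat_lit 717) (.leaf ((nat_lit 17), [nat_lit 1, nat_lit 2])) (.leaf ((nat_lit 13), [nat_lit 1, nat_lit 3]))) (.node (nat_lit 719) (.leaf ((nat_lit 43), [nat_lit 1, nat_lit 3, nat_lit 0])) (.leaf ((nat_lit 6), [nat_lit 1, nat_lit 2]))))))))))
noncomputable def n1PA_3 : Tr (ℕ × List ℕ) := (.node (nat_lit 840) (.node (nat_lit 780) (.node (nat_lit 750) (.node (nat_lit 735) (.node (nat_lit 727) (.node (nat_lit 723) (.node (nat_lit 721) (.leaf ((nat_lit 25), [nat_lit 0, nat_lit 3, nat_lit 0])) (.node (nat_lit 722) (.leaf ((nat_lit 43), [nat_lit 1, nat_lit 2, nat_lit 0])) (.leaf ((nat_lit 7), [nat_lit 0, nat_lit 2]))))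
 (.node (nat_lit 725) (.node (nat_lit 724) (.leaf ((nat_lit 18), [nat_lit 2])) (.leaf ((nat_lit 41), [nat_lit 0]))) (.node (nat_lit 726) (.leaf ((nat_lit 19), [nat_lit 1, nat_lit 3])) (.leaf ((nat_lit 3), [nat_lit 1, nat_lit 2, nat_lit 1])))))
 (.node (nat_lit 731) (.node (nat_lit 729) (.node (nat_lit 728) (.leaf ((nat_lit 4), [nat_lit 0, nat_lit 2])) (.leaf ((nat_lit 49), [nat_lit 2, nat_lit 1]))) (.node (nat_lit 730) (.leaf ((nat_lit 7), [nat_lit 0, nat_lit 3, nat_lit 0])) (.leaf ((nat_lit 6), [nat_lit 2, nat_lit 1]))))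
 (.node (nat_lit 733) (.node (nat_lit 732) (.leaf ((nat_lit 25), [nat_lit 1, nat_lit 2, nat_lit 0])) (.leaf ((nat_lit 8), [nat_lit 3, nat_lit 1]))) (.node (nat_lit 734) (.leaf ((nat_lit 42), [nat_lit 0, nat_lit 3, nat_lit 1])) (.leaf ((nat_lit 5), [nat_lit 3, nat_lit 1]))))))
 (.node (nat_lit 742) (.node (nat_lit 738) (.node (nat_lit 736) (.leaf ((nat_lit 9), [nat_lit 1, nat_lit 2, nat_lit 0])) (.node (nat_lit 737) (.leaf ((nat_lit 33), [nat_lit 2, nat_lit 0])) (.leaf ((nat_lit 11), [nat_lit 3]))))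
 (.node (nat_lit 740) (.node (nat_lit 739) (.leaf ((nat_lit 27), [nat_lit 0, nat_lit 3, nat_lit 0])) (.leaf ((nat_lit 45), [nat_lit 0]))) (.node (nat_lit 741) (.leaf ((nat_lit 23), [nat_lit 1, nat_lit 3])) (.leaf ((nat_lit 51), [nat_lit 0, nat_lit 3])))))
 (.node (nat_lit 746) (.node (nat_lit 744) (.node (nat_lit 743) (.leaf ((nat_lit 29), [nat_lit 3, nat_lit 1])) (.leaf ((nat_lit 14), [nat_lit 0, nat_lit 3, nat_lit 1]))) (.node (nat_lit 745) (.leaf ((nat_lit 31), [nat_lit 2, nat_lit 1])) (.leaf ((nat_lit 20), [nat_lit 1, nat_lit 3, nat_lit 0]))))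
 (.node (nat_lit 748) (.node (nat_lit 747) (.leaf ((nat_lit 16), [nat_lit 1])) (.leaf ((nat_lit 22), [nat_lit 3]))) (.node (nat_lit 749) (.leaf ((nat_lit 48), [nat_lit 1, nat_lit 3, nat_lit 1])) (.leaf ((nat_lit 52), [nat_lit 3, nat_lit 0])))))))
 (.node (nat_lit 765) (.node (nat_lit 757) (.node (nat_lit 753) (.node (nat_lit 751) (.leaf ((nat_lit 19), [nat_lit 2, nat_lit 0])) (.node (nat_lit 752) (.leaf ((nat_lit 31), [nat_lit 1, nat_lit 2, nat_lit 0])) (.leaf ((nat_lit 32), [nat_lit 3]))))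
 (.node (nat_lit 755) (.node (nat_lit 754) (.leaf ((nat_lit 49), [nat_lit 3, nat_lit 1])) (.leaf ((nat_lit 20), [nat_lit 1, nat_lit 2, nat_lit 0]))) (.node (nat_lit 756) (.leaf ((nat_lit 22), [nat_lit 0, nat_lit 2])) (.leaf ((nat_lit 48), [nat_lit 0, nat_lit 2, nat_lit 1])))))
 (.node (nat_lit 761) (.node (nat_lit 759) (.node (nat_lit 758) (.leaf ((nat_lit 34), [nat_lit 1, nat_lit 2, nat_lit 0])) (.leaf ((nat_lit 47), [nat_lit 1, nat_lit 3, nat_lit 0]))) (.node (nat_lit 760) (.leaf ((nat_lit 30), [nat_lit 2])) (.leaf ((nat_lit 27), [nat_lit 3, nat_lit 1]))))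
 (.node (nat_lit 763) (.node (nat_lit 762) (.leaf ((nat_lit 9), [nat_lit 0, nat_lit 3, nat_lit 0])) (.leaf ((nat_lit 49), [nat_lit 1, nat_lit 3, nat_lit 1]))) (.node (nat_lit 764) (.leaf ((nat_lit 26), [nat_lit 0, nat_lit 3, nat_lit 1])) (.leaf ((nat_lit 33), [nat_lit 0, nat_lit 3]))))))
 (.node (nat_lit 772) (.node (nat_lit 768) (.node (nat_lit 766) (.leaf ((nat_lit 24), [nat_lit 0, nat_lit 3])) (.node (nat_lit 767) (.leaf ((nat_lit 9), [nat_lit 0, nat_lit 3, nat_lit 1])) (.leaf ((nat_lit 21), [nat_lit 3, nat_lit 0]))))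
 (.node (nat_lit 770) (.node (nat_lit 769) (.leaf ((nat_lit 31), [nat_lit 1, nat_lit 2])) (.leaf ((nat_lit 34), [nat_lit 3, nat_lit 1]))) (.node (nat_lit 771) (.leaf ((nat_lit 7), [nat_lit 2])) (.leaf ((nat_lit 50), [nat_lit 0, nat_lit 2, nat_lit 0])))))
 (.node (nat_lit 776) (.node (nat_lit 774) (.node (nat_lit 773) (.leaf ((nat_lit 37), [nat_lit 3, nat_lit 0])) (.leaf ((nat_lit 47), [nat_lit 2, nat_lit 1]))) (.node (nat_lit 775) (.leaf ((nat_lit 49), [nat_lit 3])) (.leaf ((nat_lit 45), [nat_lit 3, nat_lit 0]))))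
 (.node (nat_lit 778) (.node (nat_lit 777) (.leaf ((nat_lit 42), [nat_lit 0, nat_lit 3])) (.leaf ((nat_lit 47), [nat_lit 0, nat_lit 2, nat_lit 1]))) (.node (nat_lit 779) (.leaf ((nat_lit 29), [nat_lit 1, nat_lit 2, nat_lit 1])) (.leaf ((nat_lit 45), [nat_lit 1, nat_lit 2]))))))))
 (.node (nat_lit 810) (.node (nat_lit 795) (.node (nat_lit 787) (.node (nat_lit 783) (.node (nat_lit 781) (.leaf ((nat_lit 27), [nat_lit 3, nat_lit 0])) (.node (nat_lit 782) (.leaf ((nat_lit 40), [nat_lit 0, nat_lit 2, nat_lit 1])) (.leaf ((nat_lit 9), [nat_lit 0, nat_lit 3]))))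
 (.node (nat_lit 785) (.node (nat_lit 784) (.leaf ((nat_lit 48), [nat_lit 0])) (.leaf ((nat_lit 49), [nat_lit 0, nat_lit 3, nat_lit 1]))) (.node (nat_lit 786) (.leaf ((nat_lit 6), [nat_lit 0, nat_lit 2])) (.leaf ((nat_lit 21), [nat_lit 2])))))
 (.node (nat_lit 791) (.node (nat_lit 789) (.node (nat_lit 788) (.leaf ((nat_lit 27), [nat_lit 2, nat_lit 1])) (.leaf ((nat_lit 15), [nat_lit 2, nat_lit 0]))) (.node (nat_lit 790) (.leaf ((nat_lit 21), [nat_lit 3, nat_lit 1])) (.leaf ((nat_lit 12), [nat_lit 1, nat_lit 2]))))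
 (.node (nat_lit 793) (.node (nat_lit 792) (.leaf ((nat_lit 51), [nat_lit 1, nat_lit 2, nat_lit 1])) (.leaf ((nat_lit 20), [nat_lit 0, nat_lit 2, nat_lit 1]))) (.node (nat_lit 794) (.leaf ((nat_lit 37), [nat_lit 0, nat_lit 2, nat_lit 1])) (.leaf ((nat_lit 17), [nat_lit 0, nat_lit 2, nat_lit 0]))))))
 (.node (nat_lit 802) (.node (nat_lit 798) (.node (nat_lit 796) (.leaf ((nat_lit 6), [nat_lit 1, nat_lit 3])) (.node (nat_lit 797) (.leaf ((nat_lit 38), [nat_lit 0, nat_lit 2, nat_lit 0])) (.leaf ((nat_lit 5), [nat_lit 0, nat_lit 3, nat_lit 1]))))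
 (.node (nat_lit 800) (.node (nat_lit 799) (.leaf ((nat_lit 6), [nat_lit 2])) (.leaf ((nat_lit 48), [nat_lit 0, nat_lit 3, nat_lit 1]))) (.node (nat_lit 801) (.leaf ((nat_lit 8), [nat_lit 3])) (.leaf ((nat_lit 37), [nat_lit 0, nat_lit 3, nat_lit 1])))))
 (.node (nat_lit 806) (.node (nat_lit 804) (.node (nat_lit 803) (.leaf ((nat_lit 20), [nat_lit 2, nat_lit 0])) (.leaf ((nat_lit 25), [nat_lit 2, nat_lit 0]))) (.node (nat_lit 805) (.leaf ((nat_lit 27), [nat_lit 0, nat_lit 2, nat_lit 0])) (.leaf ((nat_lit 13), [nat_lit 3]))))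
 (.node (nat_lit 808) (.node (nat_lit 807) (.leaf ((nat_lit 5), [nat_lit 3])) (.leaf ((nat_lit 8), [nat_lit 1, nat_lit 2, nat_lit 0]))) (.node (nat_lit 809) (.leaf ((nat_lit 21), [nat_lit 0, nat_lit 2, nat_lit 0])) (.leaf ((nat_lit 43), [nat_lit 0, nat_lit 3, nat_lit 0])))))))
 (.node (nat_lit 825) (.node (nat_lit 817) (.node (nat_lit 813) (.node (nat_lit 811) (.leaf ((nat_lit 20), [nat_lit 1, nat_lit 3, nat_lit 1])) (.node (nat_lit 812) (.leaf ((nat_lit 2), [nat_lit 0, nat_lit 3])) (.leaf ((nat_lit 8), [nat_lit 2, nat_lit 1]))))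
 (.node (nat_lit 815) (.node (nat_lit 814) (.leaf ((nat_lit 28), [nat_lit 1, nat_lit 2])) (.leaf ((nat_lit 11), [nat_lit 1, nat_lit 2, nat_lit 1]))) (.node (nat_lit 816) (.leaf ((nat_lit 40), [nat_lit 0])) (.leaf ((nat_lit 6), [nat_lit 1])))))
 (.node (nat_lit 821) (.node (nat_lit 819) (.node (nat_lit 818) (.leaf ((nat_lit 48), [nat_lit 3, nat_lit 0])) (.leaf ((nat_lit 31), [nat_lit 1]))) (.node (nat_lit 820) (.leaf ((nat_lit 7), [nat_lit 1, nat_lit 2, nat_lit 0])) (.leaf ((nat_lit 38), [nat_lit 1, nat_lit 2]))))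
 (.node (nat_lit 823) (.node (nat_lit 822) (.leaf ((nat_lit 25), [nat_lit 1, nat_lit 2])) (.leaf ((nat_lit 37), [nat_lit 1, nat_lit 2, nat_lit 1]))) (.node (nat_lit 824) (.leaf ((nat_lit 29), [nat_lit 1])) (.leaf ((nat_lit 31), [nat_lit 3, nat_lit 0]))))))
 (.node (nat_lit 832) (.node (nat_lit 828) (.node (nat_lit 826) (.leaf ((nat_lit 51), [nat_lit 3, nat_lit 1])) (.node (nat_lit 827) (.leaf ((nat_lit 15), [nat_lit 3, nat_lit 0])) (.leaf ((nat_lit 51), [nat_lit 0, nat_lit 3, nat_lit 0]))))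
 (.node (nat_lit 830) (.node (nat_lit 829) (.leaf ((nat_lit 53), [nat_lit 1, nat_lit 2])) (.leaf ((nat_lit 34), [nat_lit 1, nat_lit 3]))) (.node (nat_lit 831) (.leaf ((nat_lit 19), [nat_lit 1, nat_lit 2])) (.leaf ((nat_lit 37), [nat_lit 2, nat_lit 0])))))
 (.node (nat_lit 836) (.node (nat_lit 834) (.node (nat_lit 833) (.leaf ((nat_lit 41), [nat_lit 1, nat_lit 2, nat_lit 0])) (.leaf ((nat_lit 40), [nat_lit 0, nat_lit 3, nat_lit 0]))) (.node (nat_lit 835) (.leaf ((nat_lit 22), [nat_lit 3, nat_lit 0])) (.leaf ((nat_lit 23), [nat_lit 2]))))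
 (.node (nat_lit 838) (.node (nat_lit 837) (.leaf ((nat_lit 9), [nat_lit 1, nat_lit 2, nat_lit 1])) (.leaf ((nat_lit 47), [nat_lit 1, nat_lit 3]))) (.node (nat_lit 839) (.leaf ((nat_lit 30), [nat_lit 1, nat_lit 2])) (.leaf ((nat_lit 13), [nat_lit 1, nat_lit 2, nat_lit 1])))))))))
 (.node (nat_lit 900) (.node (nat_lit 870) (.node (nat_lit 855) (.node (nat_lit 847) (.node (nat_lit 843) (.node (nat_lit 841) (.leaf ((nat_lit 33), [nat_lit 3, nat_lit 0])) (.node (nat_lit 842) (.leaf ((nat_lit 6), [nat_lit 0, nat_lit 3])) (.leaf ((nat_lit 25), [nat_lit 1, nat_lit 3, nat_lit 0]))))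
 (.node (nat_lit 845) (.node (nat_lit 844) (.leaf ((nat_lit 14), [nat_lit 0, nat_lit 2, nat_lit 0])) (.leaf ((nat_lit 31), [nat_lit 0, nat_lit 2, nat_lit 1]))) (.node (nat_lit 846) (.leaf ((nat_lit 46), [nat_lit 1, nat_lit 2])) (.leaf ((nat_lit 4), [nat_lit 1, nat_lit 3])))))
 (.node (nat_lit 851) (.node (nat_lit 849) (.node (nat_lit 848) (.leaf ((nat_lit 29), [nat_lit 2, nat_lit 1])) (.leaf ((nat_lit 4), [nat_lit 1, nat_lit 2, nat_lit 0]))) (.node (nat_lit 850) (.leaf ((nat_lit 48), [nat_lit 3, nat_lit 1])) (.leaf ((nat_lit 19), [nat_lit 1, nat_lit 2, nat_lit 0]))))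
 (.node (nat_lit 853) (.node (nat_lit 852) (.leaf ((nat_lit 41), [nat_lit 0, nat_lit 2])) (.leaf ((nat_lit 6), [nat_lit 0, nat_lit 2, nat_lit 0]))) (.node (nat_lit 854) (.leaf ((nat_lit 26), [nat_lit 1, nat_lit 2, nat_lit 1])) (.leaf ((nat_lit 42), [nat_lit 2]))))))
 (.node (nat_lit 862) (.node (nat_lit 858) (.node (nat_lit 856) (.leaf ((nat_lit 1), [nat_lit 2])) (.node (nat_lit 857) (.leaf ((nat_lit 24), [nat_lit 2, nat_lit 0])) (.leaf ((nat_lit 9), [nat_lit 3, nat_lit 0]))))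
 (.node (nat_lit 860) (.node (nat_lit 859) (.leaf ((nat_lit 31), [nat_lit 1, nat_lit 3, nat_lit 1])) (.leaf ((nat_lit 42), [nat_lit 1, nat_lit 2, nat_lit 1]))) (.node (nat_lit 861) (.leaf ((nat_lit 18), [nat_lit 1, nat_lit 3, nat_lit 1])) (.leaf ((nat_lit 20), [nat_lit 1, nat_lit 2, nat_lit 1])))))
 (.node (nat_lit 866) (.node (nat_lit 864) (.node (nat_lit 863) (.leaf ((nat_lit 12), [nat_lit 0, nat_lit 3])) (.leaf ((nat_lit 22), [nat_lit 2, nat_lit 0]))) (.node (nat_lit 865) (.leaf ((nat_lit 7), [nat_lit 1, nat_lit 2, nat_lit 1])) (.leaf ((nat_lit 28), [nat_lit 0, nat_lit 2, nat_lit 0]))))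
 (.node (nat_lit 868) (.node (nat_lit 867) (.leaf ((nat_lit 11), [nat_lit 0])) (.leaf ((nat_lit 32), [nat_lit 1]))) (.node (nat_lit 869) (.leaf ((nat_lit 19), [nat_lit 1, nat_lit 2, nat_lit 1])) (.leaf ((nat_lit 38), [nat_lit 2, nat_lit 1])))))))
 (.node (nat_lit 885) (.node (nat_lit 877) (.node (nat_lit 873) (.node (nat_lit 871) (.leaf ((nat_lit 7), [nat_lit 1, nat_lit 3, nat_lit 0])) (.node (nat_lit 872) (.leaf ((nat_lit 43), [nat_lit 1, nat_lit 2, nat_lit 1])) (.leaf ((nat_lit 52), [nat_lit 2, nat_lit 1]))))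
 (.node (nat_lit 875) (.node (nat_lit 874) (.leaf ((nat_lit 42), [nat_lit 1, nat_lit 3])) (.leaf ((nat_lit 29), [nat_lit 3]))) (.node (nat_lit 876) (.leaf ((nat_lit 43), [nat_lit 1, nat_lit 3, nat_lit 1])) (.leaf ((nat_lit 12), [nat_lit 0, nat_lit 2])))))
 (.node (nat_lit 881) (.node (nat_lit 879) (.node (nat_lit 878) (.leaf ((nat_lit 37), [nat_lit 0, nat_lit 2, nat_lit 0])) (.leaf ((nat_lit 48), [nat_lit 2]))) (.node (nat_lit 880) (.leaf ((nat_lit 48), [nat_lit 1])) (.leaf ((nat_lit 26), [nat_lit 1, nat_lit 2, nat_lit 0]))))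
 (.node (nat_lit 883) (.node (nat_lit 882) (.leaf ((nat_lit 13), [nat_lit 1, nat_lit 3, nat_lit 0])) (.leaf ((nat_lit 46), [nat_lit 1]))) (.node (nat_lit 884) (.leaf ((nat_lit 51), [nat_lit 1, nat_lit 3, nat_lit 1])) (.leaf ((nat_lit 19), [nat_lit 1, nat_lit 3, nat_lit 0]))))))
 (.node (nat_lit 892) (.node (nat_lit 888) (.node (nat_lit 886) (.leaf ((nat_lit 19), [nat_lit 0, nat_lit 2, nat_lit 1])) (.node (nat_lit 887) (.leaf ((nat_lit 6), [nat_lit 1, nat_lit 3, nat_lit 0])) (.leaf ((nat_lit 20), [nat_lit 0, nat_lit 3]))))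
 (.node (nat_lit 890) (.node (nat_lit 889) (.leaf ((nat_lit 31), [nat_lit 2, nat_lit 0])) (.leaf ((nat_lit 38), [nat_lit 0]))) (.node (nat_lit 891) (.leaf ((nat_lit 2), [nat_lit 0, nat_lit 2])) (.leaf ((nat_lit 38), [nat_lit 0, nat_lit 2])))))
 (.node (nat_lit 896) (.node (nat_lit 894) (.node (nat_lit 893) (.leaf ((nat_lit 34), [nat_lit 1, nat_lit 3, nat_lit 0])) (.leaf ((nat_lit 31), [nat_lit 3]))) (.node (nat_lit 895) (.leaf ((nat_lit 48), [nat_lit 0, nat_lit 3])) (.leaf ((nat_lit 11), [nat_lit 3, nat_lit 0]))))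
 (.node (nat_lit 898) (.node (nat_lit 897) (.leaf ((nat_lit 5), [nat_lit 2, nat_lit 0])) (.leaf ((nat_lit 29), [nat_lit 1, nat_lit 3, nat_lit 1]))) (.node (nat_lit 899) (.leaf ((nat_lit 25), [nat_lit 0, nat_lit 3])) (.leaf ((nat_lit 38), [nat_lit 1, nat_lit 3, nat_lit 1]))))))))
 (.node (nat_lit 930) (.node (nat_lit 915) (.node (nat_lit 907) (.node (nat_lit 903) (.node (nat_lit 901) (.leaf ((nat_lit 49), [nat_lit 0, nat_lit 2, nat_lit 0])) (.node (nat_lit 902) (.leaf ((nat_lit 20), [nat_lit 0, nat_lit 2])) (.leaf ((nat_lit 38), [nat_lit 3, nat_lit 1]))))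
 (.node (nat_lit 905) (.node (nat_lit 904) (.leaf ((nat_lit 45), [nat_lit 2])) (.leaf ((nat_lit 7), [nat_lit 2, nat_lit 0]))) (.node (nat_lit 906) (.leaf ((nat_lit 40), [nat_lit 1, nat_lit 2])) (.leaf ((nat_lit 10), [nat_lit 0, nat_lit 3, nat_lit 1])))))
 (.node (nat_lit 911) (.node (nat_lit 909) (.node (nat_lit 908) (.leaf ((nat_lit 8), [nat_lit 2, nat_lit 0])) (.leaf ((nat_lit 52), [nat_lit 1]))) (.node (nat_lit 910) (.leaf ((nat_lit 5), [nat_lit 0, nat_lit 3])) (.leaf ((nat_lit 21), [nat_lit 1]))))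
 (.node (nat_lit 913) (.node (nat_lit 912) (.leaf ((nat_lit 15), [nat_lit 0])) (.leaf ((nat_lit 27), [nat_lit 0, nat_lit 3, nat_lit 1]))) (.node (nat_lit 914) (.leaf ((nat_lit 20), [nat_lit 3, nat_lit 1])) (.leaf ((nat_lit 24), [nat_lit 0, nat_lit 3, nat_lit 1]))))))
 (.node (nat_lit 922) (.node (nat_lit 918) (.node (nat_lit 916) (.leaf ((nat_lit 18), [nat_lit 0, nat_lit 2])) (.node (nat_lit 917) (.leaf ((nat_lit 43), [nat_lit 0, nat_lit 3])) (.leaf ((nat_lit 8), [nat_lit 0, nat_lit 3, nat_lit 1]))))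
 (.node (nat_lit 920) (.node (nat_lit 919) (.leaf ((nat_lit 37), [nat_lit 1, nat_lit 2])) (.leaf ((nat_lit 8), [nat_lit 3, nat_lit 0]))) (.node (nat_lit 921) (.leaf ((nat_lit 33), [nat_lit 1, nat_lit 2, nat_lit 0])) (.leaf ((nat_lit 3), [nat_lit 0, nat_lit 3, nat_lit 1])))))
 (.node (nat_lit 926) (.node (nat_lit 924) (.node (nat_lit 923) (.leaf ((nat_lit 26), [nat_lit 1, nat_lit 2])) (.leaf ((nat_lit 3), [nat_lit 2]))) (.node (nat_lit 925) (.leaf ((nat_lit 38), [nat_lit 2])) (.leaf ((nat_lit 46), [nat_lit 2, nat_lit 1]))))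
 (.node (nat_lit 928) (.node (nat_lit 927) (.leaf ((nat_lit 44), [nat_lit 0])) (.leaf ((nat_lit 29), [nat_lit 0]))) (.node (nat_lit 929) (.leaf ((nat_lit 11), [nat_lit 2])) (.leaf ((nat_lit 30), [nat_lit 0, nat_lit 2])))))))
 (.node (nat_lit 945) (.node (nat_lit 937) (.node (nat_lit 933) (.node (nat_lit 931) (.leaf ((nat_lit 23), [nat_lit 0, nat_lit 3])) (.node (nat_lit 932) (.leaf ((nat_lit 19), [nat_lit 0, nat_lit 2, nat_lit 0])) (.leaf ((nat_lit 32), [nat_lit 2, nat_lit 0]))))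
 (.node (nat_lit 935) (.node (nat_lit 934) (.leaf ((nat_lit 18), [nat_lit 0, nat_lit 2, nat_lit 0])) (.leaf ((nat_lit 3), [nat_lit 0, nat_lit 3, nat_lit 0]))) (.node (nat_lit 936) (.leaf ((nat_lit 47), [nat_lit 0, nat_lit 2])) (.leaf ((nat_lit 31), [nat_lit 0, nat_lit 3])))))
 (.node (nat_lit 941) (.node (nat_lit 939) (.node (nat_lit 938) (.leaf ((nat_lit 31), [nat_lit 3, nat_lit 1])) (.leaf ((nat_lit 8), [nat_lit 0, nat_lit 3]))) (.node (nat_lit 940) (.leaf ((nat_lit 30), [nat_lit 0, nat_lit 2, nat_lit 1])) (.leaf ((nat_lit 5), [nat_lit 0, nat_lit 2, nat_lit 1]))))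
 (.node (nat_lit 943) (.node (nat_lit 942) (.leaf ((nat_lit 19), [nat_lit 0, nat_lit 2])) (.leaf ((nat_lit 38), [nat_lit 0, nat_lit 3, nat_lit 1]))) (.node (nat_lit 944) (.leaf ((nat_lit 30), [nat_lit 1, nat_lit 2, nat_lit 0])) (.leaf ((nat_lit 42), [nat_lit 0, nat_lit 3, nat_lit 0]))))))
 (.node (nat_lit 952) (.node (nat_lit 948) (.node (nat_lit 946) (.leaf ((nat_lit 4), [nat_lit 0, nat_lit 2, nat_lit 1])) (.node (nat_lit 947) (.leaf ((nat_lit 7), [nat_lit 0, nat_lit 2, nat_lit 1])) (.leaf ((nat_lit 33), [nat_lit 3, nat_lit 1]))))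
 (.node (nat_lit 950) (.node (nat_lit 949) (.leaf ((nat_lit 4), [nat_lit 0, nat_lit 2, nat_lit 0])) (.leaf ((nat_lit 41), [nat_lit 0, nat_lit 3, nat_lit 1]))) (.node (nat_lit 951) (.leaf ((nat_lit 23), [nat_lit 3, nat_lit 1])) (.leaf ((nat_lit 49), [nat_lit 2, nat_lit 0])))))
 (.node (nat_lit 956) (.node (nat_lit 954) (.node (nat_lit 953) (.leaf ((nat_lit 22), [nat_lit 0, nat_lit 3])) (.leaf ((nat_lit 51), [nat_lit 0]))) (.node (nat_lit 955) (.leaf ((nat_lit 7), [nat_lit 0, nat_lit 2, nat_lit 0])) (.leaf ((nat_lit 11), [nat_lit 0, nat_lit 3, nat_lit 1]))))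
 (.node (nat_lit 958) (.node (nat_lit 957) (.leaf ((nat_lit 27), [nat_lit 2])) (.leaf ((nat_lit 53), [nat_lit 0, nat_lit 2]))) (.node (nat_lit 959) (.leaf ((nat_lit 18), [nat_lit 0, nat_lit 2, nat_lit 1])) (.leaf ((nat_lit 22), [nat_lit 3, nat_lit 1]))))))))))
noncomputable def n1PA : Tr (ℕ × List ℕ) := (.node (nat_lit 480) (.node (nat_lit 240) n1PA_0 n1PA_1) (.node (nat_lit 720) n1PA_2 n1PA_3))
noncomputable def n1Wd_0 : Tr (ℕ × List ℕ) := (.node (nat_lit 90) (.node (nat_lit 45) (.node (nat_lit 22) (.node (nat_lit 11) (.node (nat_lit 5) (.node (nat_lit 2) (.node (nat_lit 1) (.leaf ((nat_lit 1), [])) (.leaf ((nat_lit 2), []))) (.node (nat_lit 3) (.leaf ((nat_lit 3), [])) (.node (nat_lit 4) (.leaf ((nat_lit 4), [nat_lit 1, nat_lit 2])) (.leaf ((nat_lit 5), [])))))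
 (.node (nat_lit 8) (.node (nat_lit 6) (.leaf ((nat_lit 6), [])) (.node (nat_lit 7) (.leaf ((nat_lit 0), [])) (.leaf ((nat_lit 7), [nat_lit 0])))) (.node (nat_lit 9) (.leaf ((nat_lit 8), [nat_lit 1])) (.node (nat_lit 10) (.leaf ((nat_lit 9), [])) (.leaf ((nat_lit 10), []))))))
 (.node (nat_lit 16) (.node (nat_lit 13) (.node (nat_lit 12) (.leaf ((nat_lit 11), [])) (.leaf ((nat_lit 7), [nat_lit 0]))) (.node (nat_lit 14) (.leaf ((nat_lit 0), [])) (.node (nat_lit 15) (.leaf ((nat_lit 12), [nat_lit 1])) (.leaf ((nat_lit 13), [])))))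
 (.node (nat_lit 19) (.node (nat_lit 17) (.leaf ((nat_lit 14), [])) (.node (nat_lit 18) (.leaf ((nat_lit 15), [])) (.leaf ((nat_lit 8), [nat_lit 1])))) (.node (nat_lit 20) (.leaf ((nat_lit 12), [nat_lit 1])) (.node (nat_lit 21) (.leaf ((nat_lit 0), [])) (.leaf ((nat_lit 16), [])))))))
 (.node (nat_lit 33) (.node (nat_lit 27) (.node (nat_lit 24) (.node (nat_lit 23) (.leaf ((nat_lit 17), [])) (.leaf ((nat_lit 18), [nat_lit 0, nat_lit 2]))) (.node (nat_lit 25) (.leaf ((nat_lit 19), [nat_lit 3, nat_lit 1])) (.node (nat_lit 26) (.leaf ((nat_lit 20), [nat_lit 3, nat_lit 0])) (.leaf ((nat_lit 21), [nat_lit 3, nat_lit 0])))))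
 (.node (nat_lit 30) (.node (nat_lit 28) (.leaf ((nat_lit 0), [nat_lit 3, nat_lit 0])) (.node (nat_lit 29) (.leaf ((nat_lit 22), [nat_lit 3, nat_lit 0])) (.leaf ((nat_lit 23), [nat_lit 3, nat_lit 0])))) (.node (nat_lit 31) (.leaf ((nat_lit 24), [nat_lit 3, nat_lit 1])) (.node (nat_lit 32) (.leaf ((nat_lit 25), [])) (.leaf ((nat_lit 26), []))))))
 (.node (nat_lit 39) (.node (nat_lit 36) (.node (nat_lit 34) (.leaf ((nat_lit 22), [])) (.node (nat_lit 35) (.leaf ((nat_lit 0), [])) (.leaf ((nat_lit 27), [])))) (.node (nat_lit 37) (.leaf ((nat_lit 28), [nat_lit 2])) (.node (nat_lit 38) (.leaf ((nat_lit 29), [])) (.leaf ((nat_lit 30), [nat_lit 1, nat_lit 2, nat_lit 0])))))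
 (.node (nat_lit 42) (.node (nat_lit 40) (.leaf ((nat_lit 31), [])) (.node (nat_lit 41) (.leaf ((nat_lit 32), [])) (.leaf ((nat_lit 0), [])))) (.node (nat_lit 43) (.leaf ((nat_lit 2), [nat_lit 1])) (.node (nat_lit 44) (.leaf ((nat_lit 1), [nat_lit 1])) (.leaf ((nat_lit 33), []))))))))
 (.node (nat_lit 67) (.node (nat_lit 56) (.node (nat_lit 50) (.node (nat_lit 47) (.node (nat_lit 46) (.leaf ((nat_lit 34), [nat_lit 1])) (.leaf ((nat_lit 35), [nat_lit 1]))) (.node (nat_lit 48) (.leaf ((nat_lit 36), [nat_lit 0, nat_lit 3, nat_lit 1])) (.node (nat_lit 49) (.leaf ((nat_lit 3), [nat_lit 0])) (.leaf ((nat_lit 33), [nat_lit 1])))))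
 (.node (nat_lit 53) (.node (nat_lit 51) (.leaf ((nat_lit 1), [nat_lit 0])) (.node (nat_lit 52) (.leaf ((nat_lit 37), [nat_lit 1, nat_lit 3, nat_lit 0])) (.leaf ((nat_lit 38), [nat_lit 0])))) (.node (nat_lit 54) (.leaf ((nat_lit 39), [nat_lit 0])) (.node (nat_lit 55) (.leaf ((nat_lit 40), [nat_lit 2])) (.leaf ((nat_lit 41), []))))))
 (.node (nat_lit 61) (.node (nat_lit 58) (.node (nat_lit 57) (.leaf ((nat_lit 42), [])) (.leaf ((nat_lit 1), []))) (.node (nat_lit 59) (.leaf ((nat_lit 43), [nat_lit 1, nat_lit 3])) (.node (nat_lit 60) (.leaf ((nat_lit 44), [nat_lit 1, nat_lit 2])) (.leaf ((nat_lit 45), [nat_lit 0])))))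
 (.node (nat_lit 64) (.node (nat_lit 62) (.leaf ((nat_lit 46), [nat_lit 0])) (.node (nat_lit 63) (.leaf ((nat_lit 47), [])) (.leaf ((nat_lit 43), [nat_lit 1, nat_lit 3])))) (.node (nat_lit 65) (.leaf ((nat_lit 1), [])) (.node (nat_lit 66) (.leaf ((nat_lit 48), [nat_lit 0, nat_lit 2])) (.leaf ((nat_lit 49), [])))))))
 (.node (nat_lit 78) (.node (nat_lit 72) (.node (nat_lit 69) (.node (nat_lit 68) (.leaf ((nat_lit 50), [nat_lit 0, nat_lit 2])) (.leaf ((nat_lit 51), []))) (.node (nat_lit 70) (.leaf ((nat_lit 52), [nat_lit 0, nat_lit 2])) (.node (nat_lit 71) (.leaf ((nat_lit 53), [])) (.leaf ((nat_lit 1), [])))))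
 (.node (nat_lit 75) (.node (nat_lit 73) (.leaf ((nat_lit 33), [nat_lit 1])) (.node (nat_lit 74) (.leaf ((nat_lit 3), [nat_lit 0])) (.leaf ((nat_lit 2), [nat_lit 0])))) (.node (nat_lit 76) (.leaf ((nat_lit 54), [nat_lit 0, nat_lit 2, nat_lit 1])) (.node (nat_lit 77) (.leaf ((nat_lit 55), [nat_lit 3, nat_lit 1])) (.leaf ((nat_lit 56), [nat_lit 1, nat_lit 3, nat_lit 0]))))))
 (.node (nat_lit 84) (.node (nat_lit 81) (.node (nat_lit 79) (.leaf ((nat_lit 57), [])) (.node (nat_lit 80) (.leaf ((nat_lit 58), [])) (.leaf ((nat_lit 59), [])))) (.node (nat_lit 82) (.leaf ((nat_lit 2), [])) (.node (nat_lit 83) (.leaf ((nat_lit 60), [])) (.leaf ((nat_lit 61), [])))))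
 (.node (nat_lit 87) (.node (nat_lit 85) (.leaf ((nat_lit 62), [nat_lit 0])) (.node (nat_lit 86) (.leaf ((nat_lit 63), [])) (.leaf ((nat_lit 64), [nat_lit 0, nat_lit 3, nat_lit 0])))) (.node (nat_lit 88) (.leaf ((nat_lit 60), [])) (.node (nat_lit 89) (.leaf ((nat_lit 2), [])) (.leaf ((nat_lit 65), [nat_lit 0, nat_lit 3])))))))))
 (.node (nat_lit 135) (.node (nat_lit 112) (.node (nat_lit 101) (.node (nat_lit 95) (.node (nat_lit 92) (.node (nat_lit 91) (.leaf ((nat_lit 66), [nat_lit 1, nat_lit 3, nat_lit 0])) (.leaf ((nat_lit 67), []))) (.node (nat_lit 93) (.leaf ((nat_lit 68), [nat_lit 1, nat_lit 3, nat_lit 1])) (.node (nat_lit 94) (.leaf ((nat_lit 69), [nat_lit 0, nat_lit 2])) (.leaf ((nat_lit 70), [])))))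
 (.node (nat_lit 98) (.node (nat_lit 96) (.leaf ((nat_lit 2), [])) (.node (nat_lit 97) (.leaf ((nat_lit 71), [])) (.leaf ((nat_lit 72), [nat_lit 3])))) (.node (nat_lit 99) (.leaf ((nat_lit 73), [nat_lit 1, nat_lit 2])) (.node (nat_lit 100) (.leaf ((nat_lit 3), [])) (.leaf ((nat_lit 74), []))))))
 (.node (nat_lit 106) (.node (nat_lit 103) (.node (nat_lit 102) (.leaf ((nat_lit 75), [nat_lit 1, nat_lit 2, nat_lit 1])) (.leaf ((nat_lit 76), [nat_lit 0]))) (.node (nat_lit 104) (.leaf ((nat_lit 77), [nat_lit 0, nat_lit 2, nat_lit 0])) (.node (nat_lit 105) (.leaf ((nat_lit 78), [nat_lit 1])) (.leaf ((nat_lit 74), [])))))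
 (.node (nat_lit 109) (.node (nat_lit 107) (.leaf ((nat_lit 3), [])) (.node (nat_lit 108) (.leaf ((nat_lit 79), [nat_lit 1, nat_lit 2])) (.leaf ((nat_lit 80), [nat_lit 3, nat_lit 1])))) (.node (nat_lit 110) (.leaf ((nat_lit 81), [nat_lit 1, nat_lit 2, nat_lit 1])) (.node (nat_lit 111) (.leaf ((nat_lit 82), [nat_lit 0, nat_lit 3, nat_lit 0])) (.leaf ((nat_lit 83), [])))))))
 (.node (nat_lit 123) (.node (nat_lit 117) (.node (nat_lit 114) (.node (nat_lit 113) (.leaf ((nat_lit 84), [nat_lit 3, nat_lit 1])) (.leaf ((nat_lit 3), [nat_lit 3, nat_lit 1]))) (.node (nat_lit 115) (.leaf ((nat_lit 4), [nat_lit 0, nat_lit 2])) (.node (nat_lit 116) (.leaf ((nat_lit 85), [nat_lit 0, nat_lit 3])) (.leaf ((nat_lit 86), [nat_lit 0, nat_lit 2, nat_lit 1])))))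
 (.node (nat_lit 120) (.node (nat_lit 118) (.leaf ((nat_lit 87), [nat_lit 0, nat_lit 3, nat_lit 1])) (.node (nat_lit 119) (.leaf ((nat_lit 88), [nat_lit 1, nat_lit 2, nat_lit 1])) (.leaf ((nat_lit 89), [nat_lit 0, nat_lit 2])))) (.node (nat_lit 121) (.leaf ((nat_lit 85), [nat_lit 3, nat_lit 1])) (.node (nat_lit 122) (.leaf ((nat_lit 4), [nat_lit 1, nat_lit 2])) (.leaf ((nat_lit 90), [nat_lit 1, nat_lit 2, nat_lit 1]))))))
 (.node (nat_lit 129) (.node (nat_lit 126) (.node (nat_lit 124) (.leaf ((nat_lit 58), [])) (.node (nat_lit 125) (.leaf ((nat_lit 91), [nat_lit 0, nat_lit 2, nat_lit 1])) (.leaf ((nat_lit 92), [nat_lit 3, nat_lit 0])))) (.node (nat_lit 127) (.leaf ((nat_lit 86), [nat_lit 1])) (.node (nat_lit 128) (.leaf ((nat_lit 90), [nat_lit 1, nat_lit 2, nat_lit 1])) (.leaf ((nat_lit 4), [nat_lit 1, nat_lit 2])))))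
 (.node (nat_lit 132) (.node (nat_lit 130) (.leaf ((nat_lit 93), [nat_lit 3])) (.node (nat_lit 131) (.leaf ((nat_lit 90), [nat_lit 0, nat_lit 2, nat_lit 0])) (.leaf ((nat_lit 94), [nat_lit 0, nat_lit 2])))) (.node (nat_lit 133) (.leaf ((nat_lit 95), [nat_lit 0, nat_lit 2, nat_lit 0])) (.node (nat_lit 134) (.leaf ((nat_lit 96), [nat_lit 1, nat_lit 3, nat_lit 0])) (.leaf ((nat_lit 91), [nat_lit 2, nat_lit 0]))))))))
 (.node (nat_lit 157) (.node (nat_lit 146) (.node (nat_lit 140) (.node (nat_lit 137) (.node (nat_lit 136) (.leaf ((nat_lit 5), [])) (.leaf ((nat_lit 4), [nat_lit 1, nat_lit 2]))) (.node (nat_lit 138) (.leaf ((nat_lit 97), [nat_lit 0, nat_lit 3, nat_lit 0])) (.node (nat_lit 139) (.leaf ((nat_lit 98), [nat_lit 2])) (.leaf ((nat_lit 99), [nat_lit 0])))))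
 (.node (nat_lit 143) (.node (nat_lit 141) (.leaf ((nat_lit 100), [nat_lit 3, nat_lit 0])) (.node (nat_lit 142) (.leaf ((nat_lit 101), [nat_lit 0, nat_lit 3, nat_lit 1])) (.leaf ((nat_lit 102), [nat_lit 2, nat_lit 1])))) (.node (nat_lit 144) (.leaf ((nat_lit 4), [nat_lit 1, nat_lit 2])) (.node (nat_lit 145) (.leaf ((nat_lit 5), [nat_lit 0, nat_lit 2])) (.leaf ((nat_lit 103), [nat_lit 2]))))))
 (.node (nat_lit 151) (.node (nat_lit 148) (.node (nat_lit 147) (.leaf ((nat_lit 104), [nat_lit 0, nat_lit 2])) (.leaf ((nat_lit 105), [nat_lit 0, nat_lit 3]))) (.node (nat_lit 149) (.leaf ((nat_lit 106), [nat_lit 1, nat_lit 2, nat_lit 0])) (.node (nat_lit 150) (.leaf ((nat_lit 107), [nat_lit 0, nat_lit 2, nat_lit 1])) (.leaf ((nat_lit 103), [nat_lit 1])))))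
 (.node (nat_lit 154) (.node (nat_lit 152) (.leaf ((nat_lit 5), [])) (.node (nat_lit 153) (.leaf ((nat_lit 108), [nat_lit 1])) (.leaf ((nat_lit 109), [])))) (.node (nat_lit 155) (.leaf ((nat_lit 63), [])) (.node (nat_lit 156) (.leaf ((nat_lit 110), [nat_lit 0, nat_lit 3])) (.leaf ((nat_lit 104), [])))))))
 (.node (nat_lit 168) (.node (nat_lit 162) (.node (nat_lit 159) (.node (nat_lit 158) (.leaf ((nat_lit 108), [nat_lit 1])) (.leaf ((nat_lit 5), []))) (.node (nat_lit 160) (.leaf ((nat_lit 111), [nat_lit 0, nat_lit 2, nat_lit 0])) (.node (nat_lit 161) (.leaf ((nat_lit 78), [nat_lit 1])) (.leaf ((nat_lit 112), [])))))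
 (.node (nat_lit 165) (.node (nat_lit 163) (.leaf ((nat_lit 113), [nat_lit 0, nat_lit 2, nat_lit 0])) (.node (nat_lit 164) (.leaf ((nat_lit 114), [nat_lit 0, nat_lit 3])) (.leaf ((nat_lit 115), [nat_lit 0, nat_lit 2])))) (.node (nat_lit 166) (.leaf ((nat_lit 116), [nat_lit 3])) (.node (nat_lit 167) (.leaf ((nat_lit 117), [nat_lit 1, nat_lit 3])) (.leaf ((nat_lit 5), []))))))
 (.node (nat_lit 174) (.node (nat_lit 171) (.node (nat_lit 169) (.leaf ((nat_lit 6), [nat_lit 3])) (.node (nat_lit 170) (.leaf ((nat_lit 118), [nat_lit 0, nat_lit 3, nat_lit 1])) (.leaf ((nat_lit 119), [nat_lit 3])))) (.node (nat_lit 172) (.leaf ((nat_lit 120), [nat_lit 0])) (.node (nat_lit 173) (.leaf ((nat_lit 121), [nat_lit 3, nat_lit 1])) (.leaf ((nat_lit 87), [nat_lit 1, nat_lit 2])))))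
 (.node (nat_lit 177) (.node (nat_lit 175) (.leaf ((nat_lit 118), [nat_lit 2, nat_lit 1])) (.node (nat_lit 176) (.leaf ((nat_lit 6), [])) (.leaf ((nat_lit 122), [nat_lit 0, nat_lit 2])))) (.node (nat_lit 178) (.leaf ((nat_lit 123), [nat_lit 0, nat_lit 2, nat_lit 1])) (.node (nat_lit 179) (.leaf ((nat_lit 124), [nat_lit 3])) (.leaf ((nat_lit 125), [nat_lit 0, nat_lit 2, nat_lit 0]))))))))))
noncomputable def n1Wd_1 : Tr (ℕ × List ℕ) := (.node (nat_lit 270) (.node (nat_lit 225) (.node (nat_lit 202) (.node (nat_lit 191) (.node (nat_lit 185) (.node (nat_lit 182) (.node (nat_lit 181) (.leaf ((nat_lit 119), [nat_lit 1, nat_lit 3, nat_lit 0])) (.leaf ((nat_lit 122), [nat_lit 1, nat_lit 3]))) (.node (nat_lit 183) (.leaf ((nat_lit 6), [nat_lit 1, nat_lit 3, nat_lit 0])) (.node (nat_lit 184) (.leaf ((nat_lit 126), [nat_lit 0, nat_lit 2])) (.leaf ((nat_lit 127), [nat_lit 2])))))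
 (.node (nat_lit 188) (.node (nat_lit 186) (.leaf ((nat_lit 128), [nat_lit 0])) (.node (nat_lit 187) (.leaf ((nat_lit 129), [nat_lit 0, nat_lit 2])) (.leaf ((nat_lit 130), [nat_lit 1, nat_lit 2, nat_lit 0])))) (.node (nat_lit 189) (.leaf ((nat_lit 131), [nat_lit 1, nat_lit 2, nat_lit 1])) (.node (nat_lit 190) (.leaf ((nat_lit 6), [])) (.leaf ((nat_lit 132), [nat_lit 1, nat_lit 2]))))))
 (.node (nat_lit 196) (.node (nat_lit 193) (.node (nat_lit 192) (.leaf ((nat_lit 133), [nat_lit 0])) (.leaf ((nat_lit 126), [nat_lit 2, nat_lit 0]))) (.node (nat_lit 194) (.leaf ((nat_lit 134), [nat_lit 1, nat_lit 3, nat_lit 0])) (.node (nat_lit 195) (.leaf ((nat_lit 135), [nat_lit 0, nat_lit 2, nat_lit 1])) (.leaf ((nat_lit 132), [nat_lit 1, nat_lit 2])))))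
 (.node (nat_lit 199) (.node (nat_lit 197) (.leaf ((nat_lit 6), [])) (.node (nat_lit 198) (.leaf ((nat_lit 136), [nat_lit 2, nat_lit 1])) (.leaf ((nat_lit 12), [nat_lit 0])))) (.node (nat_lit 200) (.leaf ((nat_lit 8), [nat_lit 0])) (.node (nat_lit 201) (.leaf ((nat_lit 7), [])) (.leaf ((nat_lit 89), [nat_lit 0, nat_lit 3, nat_lit 1])))))))
 (.node (nat_lit 213) (.node (nat_lit 207) (.node (nat_lit 204) (.node (nat_lit 203) (.leaf ((nat_lit 137), [nat_lit 1, nat_lit 2, nat_lit 1])) (.leaf ((nat_lit 138), [nat_lit 2]))) (.node (nat_lit 205) (.leaf ((nat_lit 139), [nat_lit 1, nat_lit 2, nat_lit 0])) (.node (nat_lit 206) (.leaf ((nat_lit 140), [])) (.leaf ((nat_lit 141), [nat_lit 1, nat_lit 2, nat_lit 0])))))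
 (.node (nat_lit 210) (.node (nat_lit 208) (.leaf ((nat_lit 7), [nat_lit 0])) (.node (nat_lit 209) (.leaf ((nat_lit 142), [nat_lit 0, nat_lit 3, nat_lit 0])) (.leaf ((nat_lit 143), [nat_lit 1, nat_lit 3, nat_lit 1])))) (.node (nat_lit 211) (.leaf ((nat_lit 144), [nat_lit 0])) (.node (nat_lit 212) (.leaf ((nat_lit 145), [nat_lit 0, nat_lit 3, nat_lit 1])) (.leaf ((nat_lit 146), [nat_lit 0, nat_lit 2]))))))
 (.node (nat_lit 219) (.node (nat_lit 216) (.node (nat_lit 214) (.leaf ((nat_lit 142), [nat_lit 0, nat_lit 3, nat_lit 0])) (.node (nat_lit 215) (.leaf ((nat_lit 7), [nat_lit 0])) (.leaf ((nat_lit 116), [nat_lit 3])))) (.node (nat_lit 217) (.leaf ((nat_lit 147), [nat_lit 3, nat_lit 0])) (.node (nat_lit 218) (.leaf ((nat_lit 148), [nat_lit 0, nat_lit 3, nat_lit 0])) (.leaf ((nat_lit 149), [nat_lit 0, nat_lit 2])))))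
 (.node (nat_lit 222) (.node (nat_lit 220) (.leaf ((nat_lit 150), [nat_lit 0, nat_lit 2])) (.node (nat_lit 221) (.leaf ((nat_lit 151), [nat_lit 1, nat_lit 3, nat_lit 0])) (.leaf ((nat_lit 7), [nat_lit 0, nat_lit 2, nat_lit 1])))) (.node (nat_lit 223) (.leaf ((nat_lit 152), [nat_lit 3])) (.node (nat_lit 224) (.leaf ((nat_lit 78), [])) (.leaf ((nat_lit 77), [nat_lit 0, nat_lit 2, nat_lit 1]))))))))
 (.node (nat_lit 247) (.node (nat_lit 236) (.node (nat_lit 230) (.node (nat_lit 227) (.node (nat_lit 226) (.leaf ((nat_lit 8), [nat_lit 1, nat_lit 2, nat_lit 0])) (.leaf ((nat_lit 153), [nat_lit 1]))) (.node (nat_lit 228) (.leaf ((nat_lit 154), [nat_lit 0, nat_lit 2, nat_lit 1])) (.node (nat_lit 229) (.leaf ((nat_lit 155), [nat_lit 0])) (.leaf ((nat_lit 156), [nat_lit 1, nat_lit 3])))))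
 (.node (nat_lit 233) (.node (nat_lit 231) (.leaf ((nat_lit 157), [nat_lit 1, nat_lit 3, nat_lit 1])) (.node (nat_lit 232) (.leaf ((nat_lit 153), [nat_lit 0, nat_lit 3])) (.leaf ((nat_lit 8), [nat_lit 1])))) (.node (nat_lit 234) (.leaf ((nat_lit 158), [nat_lit 1, nat_lit 2, nat_lit 1])) (.node (nat_lit 235) (.leaf ((nat_lit 159), [])) (.leaf ((nat_lit 160), [nat_lit 1, nat_lit 2, nat_lit 1]))))))
 (.node (nat_lit 241) (.node (nat_lit 238) (.node (nat_lit 237) (.leaf ((nat_lit 161), [nat_lit 1])) (.leaf ((nat_lit 162), [nat_lit 3]))) (.node (nat_lit 239) (.leaf ((nat_lit 163), [nat_lit 0, nat_lit 3, nat_lit 1])) (.node (nat_lit 240) (.leaf ((nat_lit 8), [nat_lit 1])) (.leaf ((nat_lit 9), [nat_lit 3])))))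
 (.node (nat_lit 244) (.node (nat_lit 242) (.leaf ((nat_lit 164), [nat_lit 0, nat_lit 3, nat_lit 1])) (.node (nat_lit 243) (.leaf ((nat_lit 165), [nat_lit 1, nat_lit 2])) (.leaf ((nat_lit 166), [])))) (.node (nat_lit 245) (.leaf ((nat_lit 167), [nat_lit 0, nat_lit 2])) (.node (nat_lit 246) (.leaf ((nat_lit 168), [nat_lit 2])) (.leaf ((nat_lit 164), [nat_lit 2, nat_lit 1])))))))
 (.node (nat_lit 258) (.node (nat_lit 252) (.node (nat_lit 249) (.node (nat_lit 248) (.leaf ((nat_lit 9), [])) (.leaf ((nat_lit 169), [nat_lit 1, nat_lit 2]))) (.node (nat_lit 250) (.leaf ((nat_lit 140), [])) (.node (nat_lit 251) (.leaf ((nat_lit 170), [nat_lit 2])) (.leaf ((nat_lit 171), [nat_lit 2, nat_lit 1])))))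
 (.node (nat_lit 255) (.node (nat_lit 253) (.leaf ((nat_lit 165), [nat_lit 1, nat_lit 3])) (.node (nat_lit 254) (.leaf ((nat_lit 169), [nat_lit 1, nat_lit 2])) (.leaf ((nat_lit 9), [])))) (.node (nat_lit 256) (.leaf ((nat_lit 172), [])) (.node (nat_lit 257) (.leaf ((nat_lit 173), [nat_lit 0, nat_lit 3])) (.leaf ((nat_lit 174), []))))))
 (.node (nat_lit 264) (.node (nat_lit 261) (.node (nat_lit 259) (.leaf ((nat_lit 175), [nat_lit 3])) (.node (nat_lit 260) (.leaf ((nat_lit 176), [nat_lit 0, nat_lit 2, nat_lit 0])) (.leaf ((nat_lit 177), [nat_lit 2, nat_lit 1])))) (.node (nat_lit 262) (.leaf ((nat_lit 10), [nat_lit 2, nat_lit 0])) (.node (nat_lit 263) (.leaf ((nat_lit 9), [nat_lit 2, nat_lit 0])) (.leaf ((nat_lit 178), [nat_lit 2])))))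
 (.node (nat_lit 267) (.node (nat_lit 265) (.leaf ((nat_lit 168), [nat_lit 2])) (.node (nat_lit 266) (.leaf ((nat_lit 179), [nat_lit 1])) (.leaf ((nat_lit 180), [nat_lit 2, nat_lit 0])))) (.node (nat_lit 268) (.leaf ((nat_lit 181), [nat_lit 1, nat_lit 3, nat_lit 0])) (.node (nat_lit 269) (.leaf ((nat_lit 182), [nat_lit 0, nat_lit 3])) (.leaf ((nat_lit 9), [nat_lit 3, nat_lit 0])))))))))
 (.node (nat_lit 315) (.node (nat_lit 292) (.node (nat_lit 281) (.node (nat_lit 275) (.node (nat_lit 272) (.node (nat_lit 271) (.leaf ((nat_lit 10), [nat_lit 1])) (.leaf ((nat_lit 183), []))) (.node (nat_lit 273) (.leaf ((nat_lit 184), [])) (.node (nat_lit 274) (.leaf ((nat_lit 185), [nat_lit 3, nat_lit 1])) (.leaf ((nat_lit 186), [nat_lit 3, nat_lit 0])))))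
 (.node (nat_lit 278) (.node (nat_lit 276) (.leaf ((nat_lit 187), [nat_lit 2, nat_lit 1])) (.node (nat_lit 277) (.leaf ((nat_lit 183), [])) (.leaf ((nat_lit 10), [nat_lit 1])))) (.node (nat_lit 279) (.leaf ((nat_lit 188), [nat_lit 3, nat_lit 1])) (.node (nat_lit 280) (.leaf ((nat_lit 189), [nat_lit 0, nat_lit 3, nat_lit 1])) (.leaf ((nat_lit 145), [nat_lit 0, nat_lit 3, nat_lit 0]))))))
 (.node (nat_lit 286) (.node (nat_lit 283) (.node (nat_lit 282) (.leaf ((nat_lit 190), [nat_lit 2, nat_lit 1])) (.leaf ((nat_lit 184), [nat_lit 0]))) (.node (nat_lit 284) (.leaf ((nat_lit 188), [nat_lit 3])) (.node (nat_lit 285) (.leaf ((nat_lit 10), [])) (.leaf ((nat_lit 118), [nat_lit 0, nat_lit 3])))))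
 (.node (nat_lit 289) (.node (nat_lit 287) (.leaf ((nat_lit 157), [nat_lit 1, nat_lit 3, nat_lit 1])) (.node (nat_lit 288) (.leaf ((nat_lit 191), [nat_lit 0, nat_lit 3, nat_lit 0])) (.leaf ((nat_lit 192), [nat_lit 3, nat_lit 1])))) (.node (nat_lit 290) (.leaf ((nat_lit 193), [nat_lit 0, nat_lit 2])) (.node (nat_lit 291) (.leaf ((nat_lit 194), [nat_lit 0, nat_lit 2])) (.leaf ((nat_lit 65), [nat_lit 0, nat_lit 2, nat_lit 1])))))))
 (.node (nat_lit 303) (.node (nat_lit 297) (.node (nat_lit 294) (.node (nat_lit 293) (.leaf ((nat_lit 195), [nat_lit 2])) (.leaf ((nat_lit 10), [nat_lit 3, nat_lit 1]))) (.node (nat_lit 295) (.leaf ((nat_lit 11), [])) (.node (nat_lit 296) (.leaf ((nat_lit 196), [nat_lit 0, nat_lit 3, nat_lit 1])) (.leaf ((nat_lit 127), [nat_lit 0, nat_lit 3, nat_lit 0])))))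
 (.node (nat_lit 300) (.node (nat_lit 298) (.leaf ((nat_lit 138), [nat_lit 3, nat_lit 0])) (.node (nat_lit 299) (.leaf ((nat_lit 135), [nat_lit 3, nat_lit 0])) (.leaf ((nat_lit 197), [nat_lit 2])))) (.node (nat_lit 301) (.leaf ((nat_lit 196), [nat_lit 1, nat_lit 2])) (.node (nat_lit 302) (.leaf ((nat_lit 11), [nat_lit 3, nat_lit 1])) (.leaf ((nat_lit 198), [nat_lit 3]))))))
 (.node (nat_lit 309) (.node (nat_lit 306) (.node (nat_lit 304) (.leaf ((nat_lit 199), [nat_lit 1, nat_lit 3])) (.node (nat_lit 305) (.leaf ((nat_lit 200), [nat_lit 1, nat_lit 3])) (.leaf ((nat_lit 201), [nat_lit 1, nat_lit 3])))) (.node (nat_lit 307) (.leaf ((nat_lit 127), [nat_lit 0, nat_lit 3, nat_lit 0])) (.node (nat_lit 308) (.leaf ((nat_lit 198), [nat_lit 0, nat_lit 3, nat_lit 0])) (.leaf ((nat_lit 11), [])))))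
 (.node (nat_lit 312) (.node (nat_lit 310) (.leaf ((nat_lit 202), [nat_lit 3, nat_lit 0])) (.node (nat_lit 311) (.leaf ((nat_lit 203), [nat_lit 3, nat_lit 0])) (.leaf ((nat_lit 204), [nat_lit 1, nat_lit 3, nat_lit 0])))) (.node (nat_lit 313) (.leaf ((nat_lit 205), [nat_lit 0])) (.node (nat_lit 314) (.leaf ((nat_lit 206), [])) (.leaf ((nat_lit 207), [nat_lit 0, nat_lit 2, nat_lit 1]))))))))
 (.node (nat_lit 337) (.node (nat_lit 326) (.node (nat_lit 320) (.node (nat_lit 317) (.node (nat_lit 316) (.leaf ((nat_lit 11), [nat_lit 3, nat_lit 1])) (.leaf ((nat_lit 207), [nat_lit 2, nat_lit 0]))) (.node (nat_lit 318) (.leaf ((nat_lit 208), [nat_lit 1, nat_lit 3, nat_lit 0])) (.node (nat_lit 319) (.leaf ((nat_lit 209), [nat_lit 2, nat_lit 0])) (.leaf ((nat_lit 210), [nat_lit 0, nat_lit 2, nat_lit 0])))))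
 (.node (nat_lit 323) (.node (nat_lit 321) (.leaf ((nat_lit 211), [nat_lit 1, nat_lit 3, nat_lit 1])) (.node (nat_lit 322) (.leaf ((nat_lit 207), [nat_lit 1, nat_lit 2, nat_lit 0])) (.leaf ((nat_lit 11), [])))) (.node (nat_lit 324) (.leaf ((nat_lit 212), [nat_lit 2, nat_lit 0])) (.node (nat_lit 325) (.leaf ((nat_lit 213), [nat_lit 0, nat_lit 2])) (.leaf ((nat_lit 214), [nat_lit 0, nat_lit 2]))))))
 (.node (nat_lit 331) (.node (nat_lit 328) (.node (nat_lit 327) (.leaf ((nat_lit 215), [nat_lit 0, nat_lit 3, nat_lit 1])) (.leaf ((nat_lit 12), [nat_lit 0, nat_lit 3, nat_lit 1]))) (.node (nat_lit 329) (.leaf ((nat_lit 216), [nat_lit 0, nat_lit 3, nat_lit 0])) (.node (nat_lit 330) (.leaf ((nat_lit 217), [nat_lit 2])) (.leaf ((nat_lit 218), [nat_lit 2])))))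
 (.node (nat_lit 334) (.node (nat_lit 332) (.leaf ((nat_lit 219), [nat_lit 2])) (.node (nat_lit 333) (.leaf ((nat_lit 220), [nat_lit 0, nat_lit 2])) (.leaf ((nat_lit 216), [nat_lit 1, nat_lit 2, nat_lit 0])))) (.node (nat_lit 335) (.leaf ((nat_lit 12), [nat_lit 0, nat_lit 2])) (.node (nat_lit 336) (.leaf ((nat_lit 221), [nat_lit 1, nat_lit 2, nat_lit 0])) (.leaf ((nat_lit 222), [nat_lit 3, nat_lit 1])))))))
 (.node (nat_lit 348) (.node (nat_lit 342) (.node (nat_lit 339) (.node (nat_lit 338) (.leaf ((nat_lit 216), [nat_lit 2, nat_lit 1])) (.leaf ((nat_lit 223), [nat_lit 0, nat_lit 3]))) (.node (nat_lit 340) (.leaf ((nat_lit 224), [nat_lit 1, nat_lit 2])) (.node (nat_lit 341) (.leaf ((nat_lit 225), [nat_lit 1, nat_lit 3])) (.leaf ((nat_lit 12), [nat_lit 1, nat_lit 2, nat_lit 0])))))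
 (.node (nat_lit 345) (.node (nat_lit 343) (.leaf ((nat_lit 13), [])) (.node (nat_lit 344) (.leaf ((nat_lit 226), [nat_lit 2])) (.leaf ((nat_lit 227), [nat_lit 1])))) (.node (nat_lit 346) (.leaf ((nat_lit 228), [nat_lit 2, nat_lit 0])) (.node (nat_lit 347) (.leaf ((nat_lit 229), [nat_lit 0, nat_lit 3, nat_lit 0])) (.leaf ((nat_lit 230), [nat_lit 1, nat_lit 3]))))))
 (.node (nat_lit 354) (.node (nat_lit 351) (.node (nat_lit 349) (.leaf ((nat_lit 226), [nat_lit 2])) (.node (nat_lit 350) (.leaf ((nat_lit 13), [])) (.leaf ((nat_lit 231), [nat_lit 2])))) (.node (nat_lit 352) (.leaf ((nat_lit 20), [])) (.node (nat_lit 353) (.leaf ((nat_lit 232), [])) (.leaf ((nat_lit 233), [nat_lit 2, nat_lit 0])))))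
 (.node (nat_lit 357) (.node (nat_lit 355) (.leaf ((nat_lit 227), [nat_lit 1])) (.node (nat_lit 356) (.leaf ((nat_lit 231), [nat_lit 2])) (.leaf ((nat_lit 13), [])))) (.node (nat_lit 358) (.leaf ((nat_lit 234), [nat_lit 1, nat_lit 2, nat_lit 0])) (.node (nat_lit 359) (.leaf ((nat_lit 235), [nat_lit 0, nat_lit 3, nat_lit 1])) (.leaf ((nat_lit 236), [nat_lit 3]))))))))))
noncomputable def n1Wd_2 : Tr (ℕ × List ℕ) := (.node (nat_lit 450) (.node (nat_lit 405) (.node (nat_lit 382) (.node (nat_lit 371) (.node (nat_lit 365) (.node (nat_lit 362) (.node (nat_lit 361) (.leaf ((nat_lit 237), [nat_lit 1, nat_lit 2])) (.leaf ((nat_lit 238), [nat_lit 1, nat_lit 3]))) (.node (nat_lit 363) (.leaf ((nat_lit 208), [nat_lit 2, nat_lit 0])) (.node (nat_lit 364) (.leaf ((nat_lit 14), [])) (.leaf ((nat_lit 13), [])))))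
 (.node (nat_lit 368) (.node (nat_lit 366) (.leaf ((nat_lit 239), [nat_lit 0, nat_lit 2, nat_lit 1])) (.node (nat_lit 367) (.leaf ((nat_lit 240), [nat_lit 0, nat_lit 2, nat_lit 0])) (.leaf ((nat_lit 241), [nat_lit 1, nat_lit 2, nat_lit 0])))) (.node (nat_lit 369) (.leaf ((nat_lit 242), [nat_lit 1, nat_lit 2, nat_lit 1])) (.node (nat_lit 370) (.leaf ((nat_lit 243), [nat_lit 3, nat_lit 1])) (.leaf ((nat_lit 244), [nat_lit 1, nat_lit 3, nat_lit 1]))))))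
 (.node (nat_lit 376) (.node (nat_lit 373) (.node (nat_lit 372) (.leaf ((nat_lit 13), [])) (.leaf ((nat_lit 14), [nat_lit 1]))) (.node (nat_lit 374) (.leaf ((nat_lit 208), [nat_lit 0, nat_lit 2, nat_lit 0])) (.node (nat_lit 375) (.leaf ((nat_lit 238), [nat_lit 1, nat_lit 2, nat_lit 1])) (.leaf ((nat_lit 245), [nat_lit 2, nat_lit 0])))))
 (.node (nat_lit 379) (.node (nat_lit 377) (.leaf ((nat_lit 246), [nat_lit 3, nat_lit 0])) (.node (nat_lit 378) (.leaf ((nat_lit 247), [nat_lit 0, nat_lit 3, nat_lit 1])) (.leaf ((nat_lit 208), [nat_lit 0, nat_lit 2, nat_lit 1])))) (.node (nat_lit 380) (.leaf ((nat_lit 14), [])) (.node (nat_lit 381) (.leaf ((nat_lit 237), [nat_lit 1])) (.leaf ((nat_lit 248), [nat_lit 2])))))))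
 (.node (nat_lit 393) (.node (nat_lit 387) (.node (nat_lit 384) (.node (nat_lit 383) (.leaf ((nat_lit 25), [])) (.leaf ((nat_lit 249), [nat_lit 3, nat_lit 0]))) (.node (nat_lit 385) (.leaf ((nat_lit 238), [nat_lit 0, nat_lit 2])) (.node (nat_lit 386) (.leaf ((nat_lit 237), [nat_lit 0, nat_lit 2, nat_lit 1])) (.leaf ((nat_lit 14), [nat_lit 1, nat_lit 2, nat_lit 1])))))
 (.node (nat_lit 390) (.node (nat_lit 388) (.leaf ((nat_lit 179), [nat_lit 1, nat_lit 2, nat_lit 1])) (.node (nat_lit 389) (.leaf ((nat_lit 220), [nat_lit 0, nat_lit 2, nat_lit 1])) (.leaf ((nat_lit 250), [nat_lit 0, nat_lit 2, nat_lit 0])))) (.node (nat_lit 391) (.leaf ((nat_lit 251), [nat_lit 2, nat_lit 0])) (.node (nat_lit 392) (.leaf ((nat_lit 252), [nat_lit 1, nat_lit 2, nat_lit 1])) (.leaf ((nat_lit 253), [nat_lit 0]))))))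
 (.node (nat_lit 399) (.node (nat_lit 396) (.node (nat_lit 394) (.leaf ((nat_lit 48), [nat_lit 0, nat_lit 3, nat_lit 1])) (.node (nat_lit 395) (.leaf ((nat_lit 254), [nat_lit 0, nat_lit 3, nat_lit 1])) (.leaf ((nat_lit 14), [nat_lit 2, nat_lit 1])))) (.node (nat_lit 397) (.leaf ((nat_lit 15), [nat_lit 1, nat_lit 2, nat_lit 0])) (.node (nat_lit 398) (.leaf ((nat_lit 255), [nat_lit 0, nat_lit 3])) (.leaf ((nat_lit 256), [nat_lit 3, nat_lit 1])))))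
 (.node (nat_lit 402) (.node (nat_lit 400) (.leaf ((nat_lit 257), [nat_lit 1, nat_lit 2, nat_lit 1])) (.node (nat_lit 401) (.leaf ((nat_lit 258), [nat_lit 0, nat_lit 3, nat_lit 0])) (.leaf ((nat_lit 259), [nat_lit 3, nat_lit 0])))) (.node (nat_lit 403) (.leaf ((nat_lit 255), [nat_lit 1, nat_lit 2, nat_lit 1])) (.node (nat_lit 404) (.leaf ((nat_lit 15), [])) (.leaf ((nat_lit 260), [nat_lit 3]))))))))
 (.node (nat_lit 427) (.node (nat_lit 416) (.node (nat_lit 410) (.node (nat_lit 407) (.node (nat_lit 406) (.leaf ((nat_lit 242), [nat_lit 1, nat_lit 3, nat_lit 1])) (.leaf ((nat_lit 261), [nat_lit 0, nat_lit 2, nat_lit 0]))) (.node (nat_lit 408) (.leaf ((nat_lit 262), [nat_lit 1, nat_lit 3, nat_lit 0])) (.node (nat_lit 409) (.leaf ((nat_lit 256), [])) (.leaf ((nat_lit 260), [nat_lit 0, nat_lit 3, nat_lit 1])))))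
 (.node (nat_lit 413) (.node (nat_lit 411) (.leaf ((nat_lit 15), [nat_lit 0, nat_lit 2, nat_lit 0])) (.node (nat_lit 412) (.leaf ((nat_lit 263), [nat_lit 1, nat_lit 3, nat_lit 1])) (.leaf ((nat_lit 264), [nat_lit 0, nat_lit 2, nat_lit 1])))) (.node (nat_lit 414) (.leaf ((nat_lit 265), [nat_lit 1, nat_lit 2, nat_lit 0])) (.node (nat_lit 415) (.leaf ((nat_lit 266), [])) (.leaf ((nat_lit 267), [nat_lit 1, nat_lit 2]))))))
 (.node (nat_lit 421) (.node (nat_lit 418) (.node (nat_lit 417) (.leaf ((nat_lit 268), [nat_lit 0, nat_lit 2])) (.leaf ((nat_lit 15), [nat_lit 3, nat_lit 1]))) (.node (nat_lit 419) (.leaf ((nat_lit 267), [nat_lit 1, nat_lit 3])) (.node (nat_lit 420) (.leaf ((nat_lit 183), [nat_lit 0, nat_lit 3, nat_lit 1])) (.leaf ((nat_lit 263), [nat_lit 0, nat_lit 3, nat_lit 1])))))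
 (.node (nat_lit 424) (.node (nat_lit 422) (.leaf ((nat_lit 242), [nat_lit 0, nat_lit 3, nat_lit 0])) (.node (nat_lit 423) (.leaf ((nat_lit 241), [nat_lit 1, nat_lit 3, nat_lit 1])) (.leaf ((nat_lit 267), [nat_lit 3, nat_lit 0])))) (.node (nat_lit 425) (.leaf ((nat_lit 15), [])) (.node (nat_lit 426) (.leaf ((nat_lit 269), [nat_lit 2, nat_lit 1])) (.leaf ((nat_lit 16), [])))))))
 (.node (nat_lit 438) (.node (nat_lit 432) (.node (nat_lit 429) (.node (nat_lit 428) (.leaf ((nat_lit 270), [nat_lit 2, nat_lit 0])) (.leaf ((nat_lit 271), [nat_lit 0, nat_lit 3, nat_lit 0]))) (.node (nat_lit 430) (.leaf ((nat_lit 272), [nat_lit 3, nat_lit 0])) (.node (nat_lit 431) (.leaf ((nat_lit 273), [nat_lit 0, nat_lit 2, nat_lit 0])) (.leaf ((nat_lit 274), [nat_lit 3])))))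
 (.node (nat_lit 435) (.node (nat_lit 433) (.leaf ((nat_lit 270), [nat_lit 1, nat_lit 3, nat_lit 1])) (.node (nat_lit 434) (.leaf ((nat_lit 16), [nat_lit 2])) (.leaf ((nat_lit 275), [nat_lit 2, nat_lit 0])))) (.node (nat_lit 436) (.leaf ((nat_lit 214), [])) (.node (nat_lit 437) (.leaf ((nat_lit 276), [nat_lit 1])) (.leaf ((nat_lit 132), [nat_lit 1, nat_lit 2, nat_lit 1]))))))
 (.node (nat_lit 444) (.node (nat_lit 441) (.node (nat_lit 439) (.leaf ((nat_lit 271), [nat_lit 3, nat_lit 1])) (.node (nat_lit 440) (.leaf ((nat_lit 275), [nat_lit 1, nat_lit 3])) (.leaf ((nat_lit 16), [nat_lit 3, nat_lit 0])))) (.node (nat_lit 442) (.leaf ((nat_lit 277), [nat_lit 1])) (.node (nat_lit 443) (.leaf ((nat_lit 278), [nat_lit 1, nat_lit 2, nat_lit 1])) (.leaf ((nat_lit 279), [nat_lit 3])))))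
 (.node (nat_lit 447) (.node (nat_lit 445) (.leaf ((nat_lit 280), [nat_lit 0])) (.node (nat_lit 446) (.leaf ((nat_lit 141), [nat_lit 0, nat_lit 3, nat_lit 1])) (.leaf ((nat_lit 140), [nat_lit 2])))) (.node (nat_lit 448) (.leaf ((nat_lit 17), [])) (.node (nat_lit 449) (.leaf ((nat_lit 16), [])) (.leaf ((nat_lit 281), [nat_lit 1, nat_lit 2])))))))))
 (.node (nat_lit 495) (.node (nat_lit 472) (.node (nat_lit 461) (.node (nat_lit 455) (.node (nat_lit 452) (.node (nat_lit 451) (.leaf ((nat_lit 282), [nat_lit 1, nat_lit 2, nat_lit 1])) (.leaf ((nat_lit 283), [nat_lit 1, nat_lit 2, nat_lit 1]))) (.node (nat_lit 453) (.leaf ((nat_lit 284), [nat_lit 1, nat_lit 2, nat_lit 0])) (.node (nat_lit 454) (.leaf ((nat_lit 285), [nat_lit 2, nat_lit 0])) (.leaf ((nat_lit 286), [nat_lit 2, nat_lit 0])))))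
 (.node (nat_lit 458) (.node (nat_lit 456) (.leaf ((nat_lit 16), [nat_lit 0, nat_lit 3, nat_lit 0])) (.node (nat_lit 457) (.leaf ((nat_lit 17), [nat_lit 1])) (.leaf ((nat_lit 197), [nat_lit 0, nat_lit 3, nat_lit 1])))) (.node (nat_lit 459) (.leaf ((nat_lit 287), [nat_lit 1, nat_lit 2, nat_lit 0])) (.node (nat_lit 460) (.leaf ((nat_lit 288), [nat_lit 3, nat_lit 1])) (.leaf ((nat_lit 289), [nat_lit 3, nat_lit 0]))))))
 (.node (nat_lit 466) (.node (nat_lit 463) (.node (nat_lit 462) (.leaf ((nat_lit 290), [nat_lit 1, nat_lit 2, nat_lit 0])) (.leaf ((nat_lit 197), [nat_lit 1, nat_lit 2]))) (.node (nat_lit 464) (.leaf ((nat_lit 17), [nat_lit 1, nat_lit 3, nat_lit 1])) (.node (nat_lit 465) (.leaf ((nat_lit 37), [nat_lit 0, nat_lit 3, nat_lit 1])) (.leaf ((nat_lit 291), [nat_lit 1, nat_lit 3, nat_lit 1])))))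
 (.node (nat_lit 469) (.node (nat_lit 467) (.leaf ((nat_lit 219), [nat_lit 3, nat_lit 1])) (.node (nat_lit 468) (.leaf ((nat_lit 292), [nat_lit 2])) (.leaf ((nat_lit 287), [nat_lit 1, nat_lit 2])))) (.node (nat_lit 470) (.leaf ((nat_lit 37), [])) (.node (nat_lit 471) (.leaf ((nat_lit 17), [nat_lit 0])) (.leaf ((nat_lit 293), [nat_lit 0])))))))
 (.node (nat_lit 483) (.node (nat_lit 477) (.node (nat_lit 474) (.node (nat_lit 473) (.leaf ((nat_lit 26), [nat_lit 0])) (.leaf ((nat_lit 223), [nat_lit 0]))) (.node (nat_lit 475) (.leaf ((nat_lit 294), [nat_lit 0])) (.node (nat_lit 476) (.leaf ((nat_lit 295), [nat_lit 1, nat_lit 2, nat_lit 1])) (.leaf ((nat_lit 296), [nat_lit 0, nat_lit 3])))))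
 (.node (nat_lit 480) (.node (nat_lit 478) (.leaf ((nat_lit 297), [nat_lit 2, nat_lit 1])) (.node (nat_lit 479) (.leaf ((nat_lit 298), [nat_lit 1, nat_lit 3, nat_lit 1])) (.leaf ((nat_lit 17), [nat_lit 3, nat_lit 0])))) (.node (nat_lit 481) (.leaf ((nat_lit 18), [nat_lit 0, nat_lit 2])) (.node (nat_lit 482) (.leaf ((nat_lit 299), [nat_lit 0, nat_lit 3, nat_lit 1])) (.leaf ((nat_lit 300), [nat_lit 2, nat_lit 1]))))))
 (.node (nat_lit 489) (.node (nat_lit 486) (.node (nat_lit 484) (.leaf ((nat_lit 301), [nat_lit 0, nat_lit 3, nat_lit 1])) (.node (nat_lit 485) (.leaf ((nat_lit 302), [nat_lit 1, nat_lit 3, nat_lit 1])) (.leaf ((nat_lit 303), [nat_lit 3, nat_lit 0])))) (.node (nat_lit 487) (.leaf ((nat_lit 299), [nat_lit 2])) (.node (nat_lit 488) (.leaf ((nat_lit 18), [nat_lit 0, nat_lit 3, nat_lit 0])) (.leaf ((nat_lit 154), [nat_lit 1, nat_lit 3, nat_lit 1])))))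
 (.node (nat_lit 492) (.node (nat_lit 490) (.leaf ((nat_lit 304), [])) (.node (nat_lit 491) (.leaf ((nat_lit 305), [nat_lit 2, nat_lit 1])) (.leaf ((nat_lit 306), [nat_lit 0, nat_lit 3])))) (.node (nat_lit 493) (.leaf ((nat_lit 300), [])) (.node (nat_lit 494) (.leaf ((nat_lit 154), [nat_lit 1, nat_lit 2, nat_lit 0])) (.leaf ((nat_lit 18), [nat_lit 1, nat_lit 2, nat_lit 1]))))))))
 (.node (nat_lit 517) (.node (nat_lit 506) (.node (nat_lit 500) (.node (nat_lit 497) (.node (nat_lit 496) (.leaf ((nat_lit 307), [nat_lit 2, nat_lit 1])) (.leaf ((nat_lit 308), [nat_lit 0, nat_lit 3, nat_lit 1]))) (.node (nat_lit 498) (.leaf ((nat_lit 309), [nat_lit 0, nat_lit 2, nat_lit 0])) (.node (nat_lit 499) (.leaf ((nat_lit 310), [nat_lit 0, nat_lit 3, nat_lit 0])) (.leaf ((nat_lit 311), [nat_lit 1, nat_lit 3, nat_lit 1])))))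
 (.node (nat_lit 503) (.node (nat_lit 501) (.leaf ((nat_lit 312), [nat_lit 0, nat_lit 2, nat_lit 1])) (.node (nat_lit 502) (.leaf ((nat_lit 18), [])) (.leaf ((nat_lit 313), [nat_lit 0])))) (.node (nat_lit 504) (.leaf ((nat_lit 314), [nat_lit 2])) (.node (nat_lit 505) (.leaf ((nat_lit 315), [nat_lit 0, nat_lit 3, nat_lit 0])) (.leaf ((nat_lit 316), [nat_lit 3, nat_lit 1]))))))
 (.node (nat_lit 511) (.node (nat_lit 508) (.node (nat_lit 507) (.leaf ((nat_lit 317), [nat_lit 1, nat_lit 3])) (.leaf ((nat_lit 313), [nat_lit 1, nat_lit 2]))) (.node (nat_lit 509) (.leaf ((nat_lit 18), [nat_lit 0, nat_lit 2])) (.node (nat_lit 510) (.leaf ((nat_lit 318), [nat_lit 2])) (.leaf ((nat_lit 20), [nat_lit 0, nat_lit 2])))))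
 (.node (nat_lit 514) (.node (nat_lit 512) (.leaf ((nat_lit 19), [nat_lit 2, nat_lit 1])) (.node (nat_lit 513) (.leaf ((nat_lit 319), [nat_lit 3, nat_lit 1])) (.leaf ((nat_lit 320), [nat_lit 0, nat_lit 2, nat_lit 1])))) (.node (nat_lit 515) (.leaf ((nat_lit 321), [nat_lit 0])) (.node (nat_lit 516) (.leaf ((nat_lit 213), [nat_lit 1, nat_lit 2])) (.leaf ((nat_lit 21), [nat_lit 0])))))))
 (.node (nat_lit 528) (.node (nat_lit 522) (.node (nat_lit 519) (.node (nat_lit 518) (.leaf ((nat_lit 319), [nat_lit 0, nat_lit 2, nat_lit 0])) (.leaf ((nat_lit 19), [nat_lit 0, nat_lit 3, nat_lit 1]))) (.node (nat_lit 520) (.leaf ((nat_lit 322), [nat_lit 0, nat_lit 3, nat_lit 0])) (.node (nat_lit 521) (.leaf ((nat_lit 323), [nat_lit 2, nat_lit 0])) (.leaf ((nat_lit 324), [nat_lit 0, nat_lit 3, nat_lit 1])))))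
 (.node (nat_lit 525) (.node (nat_lit 523) (.leaf ((nat_lit 166), [nat_lit 0, nat_lit 3, nat_lit 0])) (.node (nat_lit 524) (.leaf ((nat_lit 325), [nat_lit 0, nat_lit 3, nat_lit 0])) (.leaf ((nat_lit 272), [nat_lit 2, nat_lit 1])))) (.node (nat_lit 526) (.leaf ((nat_lit 19), [nat_lit 0, nat_lit 2, nat_lit 1])) (.node (nat_lit 527) (.leaf ((nat_lit 326), [nat_lit 1, nat_lit 3])) (.leaf ((nat_lit 28), [nat_lit 3, nat_lit 0]))))))
 (.node (nat_lit 534) (.node (nat_lit 531) (.node (nat_lit 529) (.leaf ((nat_lit 185), [nat_lit 3])) (.node (nat_lit 530) (.leaf ((nat_lit 327), [nat_lit 2, nat_lit 1])) (.leaf ((nat_lit 328), [nat_lit 3])))) (.node (nat_lit 532) (.leaf ((nat_lit 326), [nat_lit 3, nat_lit 1])) (.node (nat_lit 533) (.leaf ((nat_lit 19), [nat_lit 0, nat_lit 3, nat_lit 0])) (.leaf ((nat_lit 329), [nat_lit 0, nat_lit 2])))))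
 (.node (nat_lit 537) (.node (nat_lit 535) (.leaf ((nat_lit 330), [nat_lit 3, nat_lit 1])) (.node (nat_lit 536) (.leaf ((nat_lit 293), [nat_lit 1])) (.leaf ((nat_lit 331), [nat_lit 0, nat_lit 2, nat_lit 1])))) (.node (nat_lit 538) (.leaf ((nat_lit 33), [nat_lit 0, nat_lit 2, nat_lit 1])) (.node (nat_lit 539) (.leaf ((nat_lit 332), [nat_lit 1, nat_lit 3])) (.leaf ((nat_lit 19), [nat_lit 3, nat_lit 1]))))))))))
noncomputable def n1Wd_3 : Tr (ℕ × List ℕ) := (.node (nat_lit 630) (.node (nat_lit 585) (.node (nat_lit 562) (.node (nat_lit 551) (.node (nat_lit 545) (.node (nat_lit 542) (.node (nat_lit 541) (.leaf ((nat_lit 319), [nat_lit 1, nat_lit 2])) (.leaf ((nat_lit 21), [nat_lit 0, nat_lit 3, nat_lit 0]))) (.node (nat_lit 543) (.leaf ((nat_lit 20), [nat_lit 0, nat_lit 3, nat_lit 0])) (.node (nat_lit 544) (.leaf ((nat_lit 333), [nat_lit 0, nat_lit 2])) (.leaf ((nat_lit 21), [nat_lit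 1, nat_lit 3, nat_lit 1])))))
 (.node (nat_lit 548) (.node (nat_lit 546) (.leaf ((nat_lit 334), [nat_lit 3, nat_lit 0])) (.node (nat_lit 547) (.leaf ((nat_lit 335), [nat_lit 2])) (.leaf ((nat_lit 336), [nat_lit 0, nat_lit 2, nat_lit 0])))) (.node (nat_lit 549) (.leaf ((nat_lit 22), [nat_lit 1, nat_lit 3])) (.node (nat_lit 550) (.leaf ((nat_lit 232), [nat_lit 0, nat_lit 3, nat_lit 1])) (.leaf ((nat_lit 20), [nat_lit 0, nat_lit 3, nat_lit 1]))))))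
 (.node (nat_lit 556) (.node (nat_lit 553) (.node (nat_lit 552) (.leaf ((nat_lit 337), [nat_lit 1, nat_lit 2])) (.leaf ((nat_lit 338), [nat_lit 0, nat_lit 3, nat_lit 0]))) (.node (nat_lit 554) (.leaf ((nat_lit 339), [nat_lit 0, nat_lit 2])) (.node (nat_lit 555) (.leaf ((nat_lit 340), [nat_lit 1, nat_lit 3, nat_lit 0])) (.leaf ((nat_lit 341), [nat_lit 2, nat_lit 0])))))
 (.node (nat_lit 559) (.node (nat_lit 557) (.leaf ((nat_lit 130), [nat_lit 0, nat_lit 2])) (.node (nat_lit 558) (.leaf ((nat_lit 20), [nat_lit 1, nat_lit 2])) (.leaf ((nat_lit 172), [nat_lit 2])))) (.node (nat_lit 560) (.leaf ((nat_lit 342), [nat_lit 0, nat_lit 3, nat_lit 1])) (.node (nat_lit 561) (.leaf ((nat_lit 277), [nat_lit 0, nat_lit 3])) (.leaf ((nat_lit 21), [nat_lit 2])))))))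
 (.node (nat_lit 573) (.node (nat_lit 567) (.node (nat_lit 564) (.node (nat_lit 563) (.leaf ((nat_lit 333), [])) (.leaf ((nat_lit 343), [nat_lit 0, nat_lit 3]))) (.node (nat_lit 565) (.leaf ((nat_lit 344), [nat_lit 1, nat_lit 2, nat_lit 1])) (.node (nat_lit 566) (.leaf ((nat_lit 345), [nat_lit 0, nat_lit 2])) (.leaf ((nat_lit 346), [nat_lit 1, nat_lit 2, nat_lit 0])))))
 (.node (nat_lit 570) (.node (nat_lit 568) (.leaf ((nat_lit 347), [nat_lit 1, nat_lit 2, nat_lit 0])) (.node (nat_lit 569) (.leaf ((nat_lit 315), [nat_lit 3])) (.leaf ((nat_lit 21), [nat_lit 3, nat_lit 1])))) (.node (nat_lit 571) (.leaf ((nat_lit 22), [nat_lit 1, nat_lit 3, nat_lit 1])) (.node (nat_lit 572) (.leaf ((nat_lit 348), [nat_lit 0, nat_lit 2, nat_lit 0])) (.leaf ((nat_lit 335), [nat_lit 2, nat_lit 1]))))))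
 (.node (nat_lit 579) (.node (nat_lit 576) (.node (nat_lit 574) (.leaf ((nat_lit 349), [nat_lit 0, nat_lit 2])) (.node (nat_lit 575) (.leaf ((nat_lit 350), [nat_lit 3, nat_lit 0])) (.leaf ((nat_lit 351), [nat_lit 0, nat_lit 2, nat_lit 1])))) (.node (nat_lit 577) (.leaf ((nat_lit 348), [nat_lit 1, nat_lit 3])) (.node (nat_lit 578) (.leaf ((nat_lit 22), [nat_lit 1, nat_lit 2, nat_lit 0])) (.leaf ((nat_lit 336), [nat_lit 1, nat_lit 2])))))
 (.node (nat_lit 582) (.node (nat_lit 580) (.leaf ((nat_lit 352), [nat_lit 1, nat_lit 2])) (.node (nat_lit 581) (.leaf ((nat_lit 336), [nat_lit 1, nat_lit 2, nat_lit 1])) (.leaf ((nat_lit 353), [nat_lit 1, nat_lit 3, nat_lit 0])))) (.node (nat_lit 583) (.leaf ((nat_lit 354), [])) (.node (nat_lit 584) (.leaf ((nat_lit 355), [nat_lit 1, nat_lit 3, nat_lit 1])) (.leaf ((nat_lit 356), [nat_lit 2]))))))))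
 (.node (nat_lit 607) (.node (nat_lit 596) (.node (nat_lit 590) (.node (nat_lit 587) (.node (nat_lit 586) (.leaf ((nat_lit 357), [nat_lit 1, nat_lit 2, nat_lit 0])) (.leaf ((nat_lit 358), [nat_lit 0, nat_lit 2]))) (.node (nat_lit 588) (.leaf ((nat_lit 22), [nat_lit 1, nat_lit 2, nat_lit 1])) (.node (nat_lit 589) (.leaf ((nat_lit 23), [nat_lit 3])) (.leaf ((nat_lit 359), [nat_lit 1])))))
 (.node (nat_lit 593) (.node (nat_lit 591) (.leaf ((nat_lit 360), [nat_lit 2, nat_lit 1])) (.node (nat_lit 592) (.leaf ((nat_lit 361), [nat_lit 0, nat_lit 3])) (.leaf ((nat_lit 362), [nat_lit 0, nat_lit 3, nat_lit 1])))) (.node (nat_lit 594) (.leaf ((nat_lit 363), [nat_lit 3])) (.node (nat_lit 595) (.leaf ((nat_lit 359), [nat_lit 1, nat_lit 2, nat_lit 1])) (.leaf ((nat_lit 23), [nat_lit 1]))))))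
 (.node (nat_lit 601) (.node (nat_lit 598) (.node (nat_lit 597) (.leaf ((nat_lit 364), [nat_lit 0, nat_lit 3, nat_lit 0])) (.leaf ((nat_lit 365), [nat_lit 2]))) (.node (nat_lit 599) (.leaf ((nat_lit 366), [nat_lit 2, nat_lit 0])) (.node (nat_lit 600) (.leaf ((nat_lit 367), [nat_lit 1, nat_lit 2, nat_lit 1])) (.leaf ((nat_lit 360), [nat_lit 1, nat_lit 3])))))
 (.node (nat_lit 604) (.node (nat_lit 602) (.leaf ((nat_lit 364), [nat_lit 1, nat_lit 3, nat_lit 0])) (.node (nat_lit 603) (.leaf ((nat_lit 23), [nat_lit 1, nat_lit 2])) (.leaf ((nat_lit 368), [nat_lit 1, nat_lit 2, nat_lit 1])))) (.node (nat_lit 605) (.leaf ((nat_lit 369), [nat_lit 1, nat_lit 3, nat_lit 1])) (.node (nat_lit 606) (.leaf ((nat_lit 370), [nat_lit 3, nat_lit 0])) (.leaf ((nat_lit 371), [nat_lit 2])))))))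
 (.node (nat_lit 618) (.node (nat_lit 612) (.node (nat_lit 609) (.node (nat_lit 608) (.leaf ((nat_lit 372), [nat_lit 2])) (.leaf ((nat_lit 373), [nat_lit 2]))) (.node (nat_lit 610) (.leaf ((nat_lit 23), [nat_lit 0, nat_lit 2, nat_lit 1])) (.node (nat_lit 611) (.leaf ((nat_lit 218), [nat_lit 1, nat_lit 2])) (.leaf ((nat_lit 374), [nat_lit 1, nat_lit 3, nat_lit 0])))))
 (.node (nat_lit 615) (.node (nat_lit 613) (.leaf ((nat_lit 134), [nat_lit 2, nat_lit 0])) (.node (nat_lit 614) (.leaf ((nat_lit 126), [nat_lit 0, nat_lit 3, nat_lit 1])) (.leaf ((nat_lit 375), [])))) (.node (nat_lit 616) (.leaf ((nat_lit 218), [nat_lit 0, nat_lit 3, nat_lit 1])) (.node (nat_lit 617) (.leaf ((nat_lit 23), [nat_lit 0, nat_lit 3])) (.leaf ((nat_lit 376), [nat_lit 1, nat_lit 2, nat_lit 1]))))))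
 (.node (nat_lit 624) (.node (nat_lit 621) (.node (nat_lit 619) (.leaf ((nat_lit 25), [nat_lit 0])) (.node (nat_lit 620) (.leaf ((nat_lit 24), [nat_lit 3])) (.leaf ((nat_lit 377), [nat_lit 1, nat_lit 2, nat_lit 0])))) (.node (nat_lit 622) (.leaf ((nat_lit 210), [nat_lit 0, nat_lit 3])) (.node (nat_lit 623) (.leaf ((nat_lit 133), [nat_lit 1])) (.leaf ((nat_lit 150), [nat_lit 1, nat_lit 2])))))
 (.node (nat_lit 627) (.node (nat_lit 625) (.leaf ((nat_lit 26), [])) (.node (nat_lit 626) (.leaf ((nat_lit 377), [nat_lit 1, nat_lit 2])) (.leaf ((nat_lit 24), [nat_lit 3, nat_lit 1])))) (.node (nat_lit 628) (.leaf ((nat_lit 378), [nat_lit 1, nat_lit 3, nat_lit 0])) (.node (nat_lit 629) (.leaf ((nat_lit 379), [nat_lit 3])) (.leaf ((nat_lit 380), [nat_lit 3])))))))))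
 (.node (nat_lit 675) (.node (nat_lit 652) (.node (nat_lit 641) (.node (nat_lit 635) (.node (nat_lit 632) (.node (nat_lit 631) (.leaf ((nat_lit 167), [nat_lit 3])) (.leaf ((nat_lit 207), [nat_lit 1, nat_lit 2, nat_lit 1]))) (.node (nat_lit 633) (.leaf ((nat_lit 206), [nat_lit 1, nat_lit 3])) (.node (nat_lit 634) (.leaf ((nat_lit 24), [nat_lit 2, nat_lit 1])) (.leaf ((nat_lit 381), [nat_lit 0])))))
 (.node (nat_lit 638) (.node (nat_lit 636) (.leaf ((nat_lit 382), [nat_lit 1, nat_lit 2, nat_lit 1])) (.node (nat_lit 637) (.leaf ((nat_lit 186), [nat_lit 1, nat_lit 3, nat_lit 0])) (.leaf ((nat_lit 373), [nat_lit 0, nat_lit 3])))) (.node (nat_lit 639) (.leaf ((nat_lit 372), [nat_lit 0, nat_lit 3])) (.node (nat_lit 640) (.leaf ((nat_lit 381), [nat_lit 2, nat_lit 1])) (.leaf ((nat_lit 24), [nat_lit 1, nat_lit 3, nat_lit 0]))))))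
 (.node (nat_lit 646) (.node (nat_lit 643) (.node (nat_lit 642) (.leaf ((nat_lit 383), [nat_lit 1, nat_lit 2])) (.leaf ((nat_lit 384), [nat_lit 0, nat_lit 2, nat_lit 1]))) (.node (nat_lit 644) (.leaf ((nat_lit 385), [nat_lit 1, nat_lit 3])) (.node (nat_lit 645) (.leaf ((nat_lit 386), [nat_lit 1, nat_lit 2])) (.leaf ((nat_lit 247), [nat_lit 2])))))
 (.node (nat_lit 649) (.node (nat_lit 647) (.leaf ((nat_lit 387), [nat_lit 1, nat_lit 3, nat_lit 1])) (.node (nat_lit 648) (.leaf ((nat_lit 24), [nat_lit 0, nat_lit 3, nat_lit 1])) (.leaf ((nat_lit 377), [nat_lit 1, nat_lit 2, nat_lit 0])))) (.node (nat_lit 650) (.leaf ((nat_lit 26), [nat_lit 0])) (.node (nat_lit 651) (.leaf ((nat_lit 25), [nat_lit 0])) (.leaf ((nat_lit 388), [nat_lit 0])))))))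
 (.node (nat_lit 663) (.node (nat_lit 657) (.node (nat_lit 654) (.node (nat_lit 653) (.leaf ((nat_lit 389), [nat_lit 2, nat_lit 0])) (.leaf ((nat_lit 390), [nat_lit 3, nat_lit 0]))) (.node (nat_lit 655) (.leaf ((nat_lit 391), [nat_lit 3])) (.node (nat_lit 656) (.leaf ((nat_lit 352), [nat_lit 3])) (.leaf ((nat_lit 392), [nat_lit 2, nat_lit 0])))))
 (.node (nat_lit 660) (.node (nat_lit 658) (.leaf ((nat_lit 25), [])) (.node (nat_lit 659) (.leaf ((nat_lit 248), [nat_lit 2])) (.leaf ((nat_lit 393), [nat_lit 0, nat_lit 2, nat_lit 1])))) (.node (nat_lit 661) (.leaf ((nat_lit 394), [nat_lit 1, nat_lit 3, nat_lit 1])) (.node (nat_lit 662) (.leaf ((nat_lit 243), [nat_lit 1, nat_lit 2, nat_lit 1])) (.leaf ((nat_lit 395), [nat_lit 2, nat_lit 0]))))))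
 (.node (nat_lit 669) (.node (nat_lit 666) (.node (nat_lit 664) (.leaf ((nat_lit 396), [])) (.node (nat_lit 665) (.leaf ((nat_lit 397), [nat_lit 0, nat_lit 2])) (.leaf ((nat_lit 25), [nat_lit 2, nat_lit 1])))) (.node (nat_lit 667) (.leaf ((nat_lit 366), [nat_lit 1, nat_lit 2])) (.node (nat_lit 668) (.leaf ((nat_lit 398), [nat_lit 0])) (.leaf ((nat_lit 399), [nat_lit 3])))))
 (.node (nat_lit 672) (.node (nat_lit 670) (.leaf ((nat_lit 26), [nat_lit 1, nat_lit 3, nat_lit 1])) (.node (nat_lit 671) (.leaf ((nat_lit 293), [nat_lit 1, nat_lit 3, nat_lit 1])) (.leaf ((nat_lit 400), [nat_lit 0, nat_lit 2, nat_lit 0])))) (.node (nat_lit 673) (.leaf ((nat_lit 401), [nat_lit 0, nat_lit 3, nat_lit 0])) (.node (nat_lit 674) (.leaf ((nat_lit 221), [nat_lit 0, nat_lit 3])) (.leaf ((nat_lit 402), [nat_lit 0]))))))))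
 (.node (nat_lit 697) (.node (nat_lit 686) (.node (nat_lit 680) (.node (nat_lit 677) (.node (nat_lit 676) (.leaf ((nat_lit 403), [nat_lit 2])) (.leaf ((nat_lit 404), [nat_lit 0]))) (.node (nat_lit 678) (.leaf ((nat_lit 26), [])) (.node (nat_lit 679) (.leaf ((nat_lit 27), [nat_lit 1, nat_lit 3, nat_lit 1])) (.leaf ((nat_lit 405), [nat_lit 0, nat_lit 3, nat_lit 1])))))
 (.node (nat_lit 683) (.node (nat_lit 681) (.leaf ((nat_lit 406), [nat_lit 0])) (.node (nat_lit 682) (.leaf ((nat_lit 407), [nat_lit 3, nat_lit 0])) (.leaf ((nat_lit 408), [nat_lit 3, nat_lit 0])))) (.node (nat_lit 684) (.leaf ((nat_lit 409), [nat_lit 0, nat_lit 2])) (.node (nat_lit 685) (.leaf ((nat_lit 405), [nat_lit 1, nat_lit 2, nat_lit 1])) (.leaf ((nat_lit 27), [nat_lit 2, nat_lit 1]))))))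
 (.node (nat_lit 691) (.node (nat_lit 688) (.node (nat_lit 687) (.leaf ((nat_lit 410), [nat_lit 0, nat_lit 2, nat_lit 1])) (.leaf ((nat_lit 411), [nat_lit 2, nat_lit 1]))) (.node (nat_lit 689) (.leaf ((nat_lit 311), [nat_lit 0])) (.node (nat_lit 690) (.leaf ((nat_lit 412), [nat_lit 1, nat_lit 3])) (.leaf ((nat_lit 406), [nat_lit 2, nat_lit 0])))))
 (.node (nat_lit 694) (.node (nat_lit 692) (.leaf ((nat_lit 410), [nat_lit 0, nat_lit 3, nat_lit 1])) (.node (nat_lit 693) (.leaf ((nat_lit 27), [nat_lit 3, nat_lit 1])) (.leaf ((nat_lit 194), [nat_lit 0, nat_lit 2])))) (.node (nat_lit 695) (.leaf ((nat_lit 413), [nat_lit 0, nat_lit 3, nat_lit 1])) (.node (nat_lit 696) (.leaf ((nat_lit 414), [nat_lit 1, nat_lit 3, nat_lit 1])) (.leaf ((nat_lit 415), [nat_lit 0])))))))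
 (.node (nat_lit 708) (.node (nat_lit 702) (.node (nat_lit 699) (.node (nat_lit 698) (.leaf ((nat_lit 416), [nat_lit 1, nat_lit 3])) (.leaf ((nat_lit 417), [nat_lit 2, nat_lit 0]))) (.node (nat_lit 700) (.leaf ((nat_lit 27), [nat_lit 2])) (.node (nat_lit 701) (.leaf ((nat_lit 274), [nat_lit 0, nat_lit 2])) (.leaf ((nat_lit 35), [nat_lit 2])))))
 (.node (nat_lit 705) (.node (nat_lit 703) (.leaf ((nat_lit 386), [nat_lit 1, nat_lit 2])) (.node (nat_lit 704) (.leaf ((nat_lit 313), [nat_lit 1, nat_lit 2, nat_lit 0])) (.leaf ((nat_lit 384), [nat_lit 0, nat_lit 2, nat_lit 1])))) (.node (nat_lit 706) (.leaf ((nat_lit 274), [nat_lit 0, nat_lit 2, nat_lit 0])) (.node (nat_lit 707) (.leaf ((nat_lit 27), [nat_lit 2, nat_lit 0])) (.leaf ((nat_lit 418), [nat_lit 0, nat_lit 3, nat_lit 1]))))))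
 (.node (nat_lit 714) (.node (nat_lit 711) (.node (nat_lit 709) (.leaf ((nat_lit 29), [nat_lit 0, nat_lit 3])) (.node (nat_lit 710) (.leaf ((nat_lit 28), [nat_lit 0, nat_lit 2, nat_lit 1])) (.leaf ((nat_lit 419), [nat_lit 1, nat_lit 2, nat_lit 0])))) (.node (nat_lit 712) (.leaf ((nat_lit 47), [nat_lit 2, nat_lit 1])) (.node (nat_lit 713) (.leaf ((nat_lit 359), [nat_lit 2, nat_lit 1])) (.leaf ((nat_lit 420), [nat_lit 1, nat_lit 3])))))
 (.node (nat_lit 717) (.node (nat_lit 715) (.leaf ((nat_lit 30), [nat_lit 1, nat_lit 2, nat_lit 0])) (.node (nat_lit 716) (.leaf ((nat_lit 419), [nat_lit 0, nat_lit 3, nat_lit 0])) (.leaf ((nat_lit 28), [nat_lit 2])))) (.node (nat_lit 718) (.leaf ((nat_lit 222), [nat_lit 1, nat_lit 2, nat_lit 0])) (.node (nat_lit 719) (.leaf ((nat_lit 421), [nat_lit 1, nat_lit 2, nat_lit 0])) (.leaf ((nat_lit 422), [nat_lit 1, nat_lit 2, nat_lit 0]))))))))))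
noncomputable def n1Wd_4 : Tr (ℕ × List ℕ) := (.node (nat_lit 810) (.node (nat_lit 765) (.node (nat_lit 742) (.node (nat_lit 731) (.node (nat_lit 725) (.node (nat_lit 722) (.node (nat_lit 721) (.leaf ((nat_lit 421), [nat_lit 0])) (.leaf ((nat_lit 423), [nat_lit 1, nat_lit 3, nat_lit 0]))) (.node (nat_lit 723) (.leaf ((nat_lit 424), [nat_lit 0])) (.node (nat_lit 724) (.leaf ((nat_lit 28), [nat_lit 1])) (.leaf ((nat_lit 425), [nat_lit 1])))))
 (.node (nat_lit 728) (.node (nat_lit 726) (.leaf ((nat_lit 426), [nat_lit 0, nat_lit 2])) (.node (nat_lit 727) (.leaf ((nat_lit 211), [nat_lit 3])) (.leaf ((nat_lit 362), [nat_lit 0])))) (.node (nat_lit 729) (.leaf ((nat_lit 209), [nat_lit 3, nat_lit 1])) (.node (nat_lit 730) (.leaf ((nat_lit 425), [nat_lit 0, nat_lit 2])) (.leaf ((nat_lit 28), [nat_lit 0, nat_lit 2]))))))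
 (.node (nat_lit 736) (.node (nat_lit 733) (.node (nat_lit 732) (.leaf ((nat_lit 371), [nat_lit 2, nat_lit 1])) (.leaf ((nat_lit 419), [nat_lit 3]))) (.node (nat_lit 734) (.leaf ((nat_lit 30), [nat_lit 2, nat_lit 0])) (.node (nat_lit 735) (.leaf ((nat_lit 29), [nat_lit 3, nat_lit 1])) (.leaf ((nat_lit 427), [nat_lit 1, nat_lit 3, nat_lit 0])))))
 (.node (nat_lit 739) (.node (nat_lit 737) (.leaf ((nat_lit 428), [nat_lit 1, nat_lit 3])) (.node (nat_lit 738) (.leaf ((nat_lit 429), [nat_lit 2, nat_lit 0])) (.leaf ((nat_lit 430), [nat_lit 0, nat_lit 2, nat_lit 0])))) (.node (nat_lit 740) (.leaf ((nat_lit 431), [nat_lit 1, nat_lit 2, nat_lit 1])) (.node (nat_lit 741) (.leaf ((nat_lit 432), [nat_lit 1, nat_lit 2])) (.leaf ((nat_lit 29), [nat_lit 0, nat_lit 3, nat_lit 1])))))))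
 (.node (nat_lit 753) (.node (nat_lit 747) (.node (nat_lit 744) (.node (nat_lit 743) (.leaf ((nat_lit 270), [nat_lit 0, nat_lit 2])) (.leaf ((nat_lit 433), [nat_lit 1, nat_lit 3, nat_lit 0]))) (.node (nat_lit 745) (.leaf ((nat_lit 293), [nat_lit 1, nat_lit 3])) (.node (nat_lit 746) (.leaf ((nat_lit 330), [nat_lit 0, nat_lit 2, nat_lit 0])) (.leaf ((nat_lit 434), [nat_lit 0, nat_lit 3])))))
 (.node (nat_lit 750) (.node (nat_lit 748) (.leaf ((nat_lit 270), [nat_lit 0, nat_lit 3, nat_lit 0])) (.node (nat_lit 749) (.leaf ((nat_lit 29), [nat_lit 2])) (.leaf ((nat_lit 435), [nat_lit 1, nat_lit 3, nat_lit 1])))) (.node (nat_lit 751) (.leaf ((nat_lit 436), [nat_lit 2, nat_lit 1])) (.node (nat_lit 752) (.leaf ((nat_lit 262), [nat_lit 1, nat_lit 2, nat_lit 1])) (.leaf ((nat_lit 437), [nat_lit 1, nat_lit 2, nat_lit 1]))))))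
 (.node (nat_lit 759) (.node (nat_lit 756) (.node (nat_lit 754) (.leaf ((nat_lit 438), [nat_lit 0, nat_lit 3, nat_lit 1])) (.node (nat_lit 755) (.leaf ((nat_lit 414), [nat_lit 0, nat_lit 3, nat_lit 1])) (.leaf ((nat_lit 29), [nat_lit 1, nat_lit 3, nat_lit 1])))) (.node (nat_lit 757) (.leaf ((nat_lit 32), [nat_lit 1, nat_lit 3])) (.node (nat_lit 758) (.leaf ((nat_lit 102), [nat_lit 0, nat_lit 2, nat_lit 1])) (.leaf ((nat_lit 383), [nat_lit 2, nat_lit 0])))))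
 (.node (nat_lit 762) (.node (nat_lit 760) (.leaf ((nat_lit 30), [nat_lit 3, nat_lit 1])) (.node (nat_lit 761) (.leaf ((nat_lit 279), [nat_lit 2, nat_lit 1])) (.leaf ((nat_lit 439), [nat_lit 0, nat_lit 3])))) (.node (nat_lit 763) (.leaf ((nat_lit 51), [nat_lit 1, nat_lit 2, nat_lit 1])) (.node (nat_lit 764) (.leaf ((nat_lit 440), [nat_lit 1, nat_lit 2])) (.leaf ((nat_lit 49), [nat_lit 1, nat_lit 2, nat_lit 1]))))))))
 (.node (nat_lit 787) (.node (nat_lit 776) (.node (nat_lit 770) (.node (nat_lit 767) (.node (nat_lit 766) (.leaf ((nat_lit 279), [nat_lit 2])) (.leaf ((nat_lit 30), [nat_lit 3]))) (.node (nat_lit 768) (.leaf ((nat_lit 361), [nat_lit 1, nat_lit 2, nat_lit 0])) (.node (nat_lit 769) (.leaf ((nat_lit 441), [])) (.leaf ((nat_lit 442), [])))))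
 (.node (nat_lit 773) (.node (nat_lit 771) (.leaf ((nat_lit 153), [nat_lit 2])) (.node (nat_lit 772) (.leaf ((nat_lit 443), [nat_lit 1, nat_lit 2])) (.leaf ((nat_lit 412), [nat_lit 0, nat_lit 2])))) (.node (nat_lit 774) (.leaf ((nat_lit 30), [nat_lit 1])) (.node (nat_lit 775) (.leaf ((nat_lit 31), [nat_lit 3, nat_lit 1])) (.leaf ((nat_lit 444), [nat_lit 0, nat_lit 2, nat_lit 1]))))))
 (.node (nat_lit 781) (.node (nat_lit 778) (.node (nat_lit 777) (.leaf ((nat_lit 445), [nat_lit 2, nat_lit 0])) (.leaf ((nat_lit 446), [nat_lit 3, nat_lit 1]))) (.node (nat_lit 779) (.leaf ((nat_lit 233), [nat_lit 1, nat_lit 2, nat_lit 1])) (.node (nat_lit 780) (.leaf ((nat_lit 447), [nat_lit 0, nat_lit 2, nat_lit 1])) (.leaf ((nat_lit 444), [nat_lit 1, nat_lit 2, nat_lit 1])))))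
 (.node (nat_lit 784) (.node (nat_lit 782) (.leaf ((nat_lit 31), [nat_lit 1, nat_lit 3, nat_lit 0])) (.node (nat_lit 783) (.leaf ((nat_lit 448), [nat_lit 0, nat_lit 2, nat_lit 0])) (.leaf ((nat_lit 431), [nat_lit 0, nat_lit 3, nat_lit 1])))) (.node (nat_lit 785) (.leaf ((nat_lit 92), [nat_lit 3, nat_lit 1])) (.node (nat_lit 786) (.leaf ((nat_lit 449), [nat_lit 1])) (.leaf ((nat_lit 445), [nat_lit 3])))))))
 (.node (nat_lit 798) (.node (nat_lit 792) (.node (nat_lit 789) (.node (nat_lit 788) (.leaf ((nat_lit 448), [nat_lit 1, nat_lit 2, nat_lit 1])) (.leaf ((nat_lit 31), [nat_lit 0, nat_lit 3, nat_lit 0]))) (.node (nat_lit 790) (.leaf ((nat_lit 250), [nat_lit 0])) (.node (nat_lit 791) (.leaf ((nat_lit 450), [nat_lit 0, nat_lit 2, nat_lit 0])) (.leaf ((nat_lit 226), [nat_lit 2, nat_lit 1])))))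
 (.node (nat_lit 795) (.node (nat_lit 793) (.leaf ((nat_lit 224), [nat_lit 0, nat_lit 3, nat_lit 1])) (.node (nat_lit 794) (.leaf ((nat_lit 451), [nat_lit 0, nat_lit 2, nat_lit 0])) (.leaf ((nat_lit 446), [nat_lit 1, nat_lit 3, nat_lit 0])))) (.node (nat_lit 796) (.leaf ((nat_lit 32), [nat_lit 3, nat_lit 0])) (.node (nat_lit 797) (.leaf ((nat_lit 31), [nat_lit 3, nat_lit 0])) (.leaf ((nat_lit 72), [nat_lit 0, nat_lit 3, nat_lit 0]))))))
 (.node (nat_lit 804) (.node (nat_lit 801) (.node (nat_lit 799) (.leaf ((nat_lit 145), [nat_lit 0, nat_lit 3, nat_lit 0])) (.node (nat_lit 800) (.leaf ((nat_lit 144), [])) (.leaf ((nat_lit 229), [nat_lit 3])))) (.node (nat_lit 802) (.leaf ((nat_lit 452), [nat_lit 0, nat_lit 2, nat_lit 1])) (.node (nat_lit 803) (.leaf ((nat_lit 103), [nat_lit 0])) (.leaf ((nat_lit 31), [nat_lit 1])))))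
 (.node (nat_lit 807) (.node (nat_lit 805) (.leaf ((nat_lit 102), [nat_lit 1, nat_lit 3])) (.node (nat_lit 806) (.leaf ((nat_lit 32), [nat_lit 1, nat_lit 2, nat_lit 0])) (.leaf ((nat_lit 453), [nat_lit 1, nat_lit 3, nat_lit 0])))) (.node (nat_lit 808) (.leaf ((nat_lit 454), [nat_lit 0, nat_lit 2, nat_lit 1])) (.node (nat_lit 809) (.leaf ((nat_lit 330), [nat_lit 0, nat_lit 3])) (.leaf ((nat_lit 455), [nat_lit 1, nat_lit 2, nat_lit 1])))))))))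
 (.node (nat_lit 855) (.node (nat_lit 832) (.node (nat_lit 821) (.node (nat_lit 815) (.node (nat_lit 812) (.node (nat_lit 811) (.leaf ((nat_lit 383), [nat_lit 0, nat_lit 3])) (.leaf ((nat_lit 453), [nat_lit 3, nat_lit 0]))) (.node (nat_lit 813) (.leaf ((nat_lit 32), [nat_lit 0, nat_lit 3, nat_lit 1])) (.node (nat_lit 814) (.leaf ((nat_lit 456), [])) (.leaf ((nat_lit 49), [nat_lit 1, nat_lit 2])))))
 (.node (nat_lit 818) (.node (nat_lit 816) (.leaf ((nat_lit 457), [nat_lit 2, nat_lit 1])) (.node (nat_lit 817) (.leaf ((nat_lit 341), [nat_lit 1, nat_lit 3, nat_lit 0])) (.leaf ((nat_lit 318), [nat_lit 0, nat_lit 2, nat_lit 1])))) (.node (nat_lit 819) (.leaf ((nat_lit 269), [])) (.node (nat_lit 820) (.leaf ((nat_lit 458), [nat_lit 3, nat_lit 1])) (.leaf ((nat_lit 418), [nat_lit 0, nat_lit 2, nat_lit 0]))))))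
 (.node (nat_lit 826) (.node (nat_lit 823) (.node (nat_lit 822) (.leaf ((nat_lit 32), [nat_lit 0, nat_lit 3])) (.leaf ((nat_lit 459), [nat_lit 2]))) (.node (nat_lit 824) (.leaf ((nat_lit 460), [nat_lit 0, nat_lit 3, nat_lit 1])) (.node (nat_lit 825) (.leaf ((nat_lit 199), [nat_lit 1, nat_lit 2, nat_lit 0])) (.leaf ((nat_lit 332), [nat_lit 3, nat_lit 1])))))
 (.node (nat_lit 829) (.node (nat_lit 827) (.leaf ((nat_lit 33), [nat_lit 0, nat_lit 3, nat_lit 0])) (.node (nat_lit 828) (.leaf ((nat_lit 297), [nat_lit 2, nat_lit 1])) (.leaf ((nat_lit 336), [nat_lit 2, nat_lit 0])))) (.node (nat_lit 830) (.leaf ((nat_lit 335), [nat_lit 1, nat_lit 3, nat_lit 1])) (.node (nat_lit 831) (.leaf ((nat_lit 348), [nat_lit 0, nat_lit 3])) (.leaf ((nat_lit 49), [nat_lit 1, nat_lit 2])))))))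
 (.node (nat_lit 843) (.node (nat_lit 837) (.node (nat_lit 834) (.node (nat_lit 833) (.leaf ((nat_lit 456), [])) (.leaf ((nat_lit 33), [nat_lit 3]))) (.node (nat_lit 835) (.leaf ((nat_lit 34), [nat_lit 1, nat_lit 3, nat_lit 0])) (.node (nat_lit 836) (.leaf ((nat_lit 320), [nat_lit 1, nat_lit 2, nat_lit 0])) (.leaf ((nat_lit 447), [nat_lit 0, nat_lit 3, nat_lit 1])))))
 (.node (nat_lit 840) (.node (nat_lit 838) (.leaf ((nat_lit 325), [nat_lit 0, nat_lit 3])) (.node (nat_lit 839) (.leaf ((nat_lit 461), [nat_lit 2])) (.leaf ((nat_lit 244), [nat_lit 0, nat_lit 2, nat_lit 1])))) (.node (nat_lit 841) (.leaf ((nat_lit 320), [nat_lit 1, nat_lit 3, nat_lit 0])) (.node (nat_lit 842) (.leaf ((nat_lit 34), [])) (.leaf ((nat_lit 74), [nat_lit 3]))))))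
 (.node (nat_lit 849) (.node (nat_lit 846) (.node (nat_lit 844) (.leaf ((nat_lit 41), [])) (.node (nat_lit 845) (.leaf ((nat_lit 462), [nat_lit 2, nat_lit 1])) (.leaf ((nat_lit 450), [nat_lit 3, nat_lit 0])))) (.node (nat_lit 847) (.leaf ((nat_lit 447), [nat_lit 0, nat_lit 3, nat_lit 1])) (.node (nat_lit 848) (.leaf ((nat_lit 74), [nat_lit 0, nat_lit 2, nat_lit 1])) (.leaf ((nat_lit 34), [nat_lit 1, nat_lit 3, nat_lit 0])))))
 (.node (nat_lit 852) (.node (nat_lit 850) (.leaf ((nat_lit 463), [nat_lit 1, nat_lit 2, nat_lit 0])) (.node (nat_lit 851) (.leaf ((nat_lit 464), [nat_lit 1, nat_lit 2, nat_lit 0])) (.leaf ((nat_lit 465), [nat_lit 1, nat_lit 2, nat_lit 1])))) (.node (nat_lit 853) (.leaf ((nat_lit 466), [nat_lit 0, nat_lit 3, nat_lit 0])) (.node (nat_lit 854) (.leaf ((nat_lit 467), [nat_lit 0, nat_lit 3, nat_lit 1])) (.leaf ((nat_lit 468), [nat_lit 0, nat_lit 3]))))))))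
 (.node (nat_lit 877) (.node (nat_lit 866) (.node (nat_lit 860) (.node (nat_lit 857) (.node (nat_lit 856) (.leaf ((nat_lit 35), [nat_lit 1, nat_lit 2, nat_lit 1])) (.leaf ((nat_lit 34), [nat_lit 1, nat_lit 2, nat_lit 1]))) (.node (nat_lit 858) (.leaf ((nat_lit 469), [])) (.node (nat_lit 859) (.leaf ((nat_lit 470), [nat_lit 0, nat_lit 3, nat_lit 1])) (.leaf ((nat_lit 471), [nat_lit 0, nat_lit 3, nat_lit 0])))))
 (.node (nat_lit 863) (.node (nat_lit 861) (.leaf ((nat_lit 472), [nat_lit 2])) (.node (nat_lit 862) (.leaf ((nat_lit 193), [nat_lit 2, nat_lit 0])) (.leaf ((nat_lit 473), [nat_lit 1, nat_lit 2, nat_lit 1])))) (.node (nat_lit 864) (.leaf ((nat_lit 34), [nat_lit 0, nat_lit 2, nat_lit 0])) (.node (nat_lit 865) (.leaf ((nat_lit 35), [nat_lit 1])) (.leaf ((nat_lit 133), []))))))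
 (.node (nat_lit 871) (.node (nat_lit 868) (.node (nat_lit 867) (.leaf ((nat_lit 439), [nat_lit 1, nat_lit 2])) (.leaf ((nat_lit 474), [nat_lit 1, nat_lit 2, nat_lit 1]))) (.node (nat_lit 869) (.leaf ((nat_lit 373), [nat_lit 0])) (.node (nat_lit 870) (.leaf ((nat_lit 475), [nat_lit 1, nat_lit 2, nat_lit 1])) (.leaf ((nat_lit 133), [nat_lit 1, nat_lit 2, nat_lit 1])))))
 (.node (nat_lit 874) (.node (nat_lit 872) (.leaf ((nat_lit 35), [nat_lit 0, nat_lit 2, nat_lit 1])) (.node (nat_lit 873) (.leaf ((nat_lit 474), [nat_lit 2, nat_lit 1])) (.leaf ((nat_lit 367), [nat_lit 2, nat_lit 0])))) (.node (nat_lit 875) (.leaf ((nat_lit 46), [nat_lit 1, nat_lit 2, nat_lit 1])) (.node (nat_lit 876) (.leaf ((nat_lit 211), [nat_lit 3, nat_lit 0])) (.leaf ((nat_lit 439), [nat_lit 2, nat_lit 0])))))))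
 (.node (nat_lit 888) (.node (nat_lit 882) (.node (nat_lit 879) (.node (nat_lit 878) (.leaf ((nat_lit 474), [nat_lit 1, nat_lit 3, nat_lit 1])) (.leaf ((nat_lit 35), [nat_lit 3, nat_lit 1]))) (.node (nat_lit 880) (.leaf ((nat_lit 200), [nat_lit 1, nat_lit 2, nat_lit 1])) (.node (nat_lit 881) (.leaf ((nat_lit 199), [nat_lit 1, nat_lit 2, nat_lit 1])) (.leaf ((nat_lit 476), [nat_lit 0, nat_lit 3])))))
 (.node (nat_lit 885) (.node (nat_lit 883) (.leaf ((nat_lit 36), [nat_lit 1, nat_lit 2])) (.node (nat_lit 884) (.leaf ((nat_lit 290), [nat_lit 1, nat_lit 2])) (.leaf ((nat_lit 477), [nat_lit 0, nat_lit 3])))) (.node (nat_lit 886) (.leaf ((nat_lit 478), [nat_lit 1, nat_lit 2])) (.node (nat_lit 887) (.leaf ((nat_lit 479), [nat_lit 2, nat_lit 0])) (.leaf ((nat_lit 480), [nat_lit 0, nat_lit 3, nat_lit 0]))))))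
 (.node (nat_lit 894) (.node (nat_lit 891) (.node (nat_lit 889) (.leaf ((nat_lit 290), [nat_lit 1, nat_lit 2, nat_lit 1])) (.node (nat_lit 890) (.leaf ((nat_lit 36), [nat_lit 1, nat_lit 2, nat_lit 1])) (.leaf ((nat_lit 481), [nat_lit 1, nat_lit 2])))) (.node (nat_lit 892) (.leaf ((nat_lit 482), [nat_lit 2])) (.node (nat_lit 893) (.leaf ((nat_lit 483), [nat_lit 0])) (.leaf ((nat_lit 436), [nat_lit 2, nat_lit 0])))))
 (.node (nat_lit 897) (.node (nat_lit 895) (.leaf ((nat_lit 477), [nat_lit 1, nat_lit 2, nat_lit 0])) (.node (nat_lit 896) (.leaf ((nat_lit 481), [nat_lit 1])) (.leaf ((nat_lit 36), [nat_lit 3, nat_lit 1])))) (.node (nat_lit 898) (.leaf ((nat_lit 315), [nat_lit 0, nat_lit 2, nat_lit 0])) (.node (nat_lit 899) (.leaf ((nat_lit 347), [nat_lit 1])) (.leaf ((nat_lit 484), [nat_lit 0, nat_lit 2, nat_lit 1]))))))))))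
noncomputable def n1Wd_5 : Tr (ℕ × List ℕ) := (.node (nat_lit 990) (.node (nat_lit 945) (.node (nat_lit 922) (.node (nat_lit 911) (.node (nat_lit 905) (.node (nat_lit 902) (.node (nat_lit 901) (.leaf ((nat_lit 485), [nat_lit 2])) (.leaf ((nat_lit 486), [nat_lit 0]))) (.node (nat_lit 903) (.leaf ((nat_lit 487), [nat_lit 1, nat_lit 2, nat_lit 1])) (.node (nat_lit 904) (.leaf ((nat_lit 36), [nat_lit 3, nat_lit 1])) (.leaf ((nat_lit 488), [])))))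
 (.node (nat_lit 908) (.node (nat_lit 906) (.leaf ((nat_lit 103), [nat_lit 3, nat_lit 0])) (.node (nat_lit 907) (.leaf ((nat_lit 489), [nat_lit 0, nat_lit 3, nat_lit 0])) (.leaf ((nat_lit 490), [])))) (.node (nat_lit 909) (.leaf ((nat_lit 491), [nat_lit 2, nat_lit 1])) (.node (nat_lit 910) (.leaf ((nat_lit 488), [nat_lit 2, nat_lit 1])) (.leaf ((nat_lit 36), [nat_lit 1, nat_lit 2, nat_lit 0]))))))
 (.node (nat_lit 916) (.node (nat_lit 913) (.node (nat_lit 912) (.leaf ((nat_lit 273), [nat_lit 0, nat_lit 2, nat_lit 0])) (.leaf ((nat_lit 37), [nat_lit 2]))) (.node (nat_lit 914) (.leaf ((nat_lit 287), [nat_lit 1, nat_lit 3])) (.node (nat_lit 915) (.leaf ((nat_lit 197), [nat_lit 1, nat_lit 3, nat_lit 0])) (.leaf ((nat_lit 492), [])))))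
 (.node (nat_lit 919) (.node (nat_lit 917) (.leaf ((nat_lit 231), [nat_lit 0, nat_lit 2])) (.node (nat_lit 918) (.leaf ((nat_lit 493), [nat_lit 1, nat_lit 3, nat_lit 0])) (.leaf ((nat_lit 494), [nat_lit 3])))) (.node (nat_lit 920) (.leaf ((nat_lit 389), [nat_lit 2, nat_lit 1])) (.node (nat_lit 921) (.leaf ((nat_lit 128), [nat_lit 3])) (.leaf ((nat_lit 38), [nat_lit 2, nat_lit 1])))))))
 (.node (nat_lit 933) (.node (nat_lit 927) (.node (nat_lit 924) (.node (nat_lit 923) (.leaf ((nat_lit 37), [nat_lit 0])) (.leaf ((nat_lit 495), [nat_lit 0, nat_lit 3, nat_lit 0]))) (.node (nat_lit 925) (.leaf ((nat_lit 496), [])) (.node (nat_lit 926) (.leaf ((nat_lit 82), [nat_lit 1, nat_lit 3, nat_lit 0])) (.leaf ((nat_lit 81), [nat_lit 0, nat_lit 2, nat_lit 0])))))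
 (.node (nat_lit 930) (.node (nat_lit 928) (.leaf ((nat_lit 497), [nat_lit 3, nat_lit 0])) (.node (nat_lit 929) (.leaf ((nat_lit 498), [nat_lit 3])) (.leaf ((nat_lit 37), [nat_lit 0, nat_lit 3, nat_lit 1])))) (.node (nat_lit 931) (.leaf ((nat_lit 38), [nat_lit 1])) (.node (nat_lit 932) (.leaf ((nat_lit 499), [nat_lit 1, nat_lit 3])) (.leaf ((nat_lit 379), [nat_lit 3, nat_lit 1]))))))
 (.node (nat_lit 939) (.node (nat_lit 936) (.node (nat_lit 934) (.leaf ((nat_lit 318), [nat_lit 0, nat_lit 3, nat_lit 0])) (.node (nat_lit 935) (.leaf ((nat_lit 372), [nat_lit 0])) (.leaf ((nat_lit 500), [nat_lit 0, nat_lit 2])))) (.node (nat_lit 937) (.leaf ((nat_lit 499), [nat_lit 3, nat_lit 1])) (.node (nat_lit 938) (.leaf ((nat_lit 38), [nat_lit 2, nat_lit 0])) (.leaf ((nat_lit 501), [nat_lit 1, nat_lit 2, nat_lit 0])))))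
 (.node (nat_lit 942) (.node (nat_lit 940) (.leaf ((nat_lit 502), [])) (.node (nat_lit 941) (.leaf ((nat_lit 460), [nat_lit 3, nat_lit 1])) (.leaf ((nat_lit 425), [nat_lit 0, nat_lit 3])))) (.node (nat_lit 943) (.leaf ((nat_lit 379), [nat_lit 0, nat_lit 3, nat_lit 1])) (.node (nat_lit 944) (.leaf ((nat_lit 501), [nat_lit 2, nat_lit 0])) (.leaf ((nat_lit 38), [nat_lit 0, nat_lit 2, nat_lit 0]))))))))
 (.node (nat_lit 967) (.node (nat_lit 956) (.node (nat_lit 950) (.node (nat_lit 947) (.node (nat_lit 946) (.leaf ((nat_lit 359), [nat_lit 0, nat_lit 2, nat_lit 0])) (.leaf ((nat_lit 47), [nat_lit 0, nat_lit 2, nat_lit 0]))) (.node (nat_lit 948) (.leaf ((nat_lit 203), [nat_lit 1, nat_lit 3])) (.node (nat_lit 949) (.leaf ((nat_lit 503), [nat_lit 2, nat_lit 1])) (.leaf ((nat_lit 504), [nat_lit 0])))))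
 (.node (nat_lit 953) (.node (nat_lit 951) (.leaf ((nat_lit 505), [nat_lit 3, nat_lit 1])) (.node (nat_lit 952) (.leaf ((nat_lit 221), [nat_lit 0, nat_lit 2])) (.leaf ((nat_lit 481), [])))) (.node (nat_lit 954) (.leaf ((nat_lit 38), [nat_lit 0, nat_lit 3, nat_lit 0])) (.node (nat_lit 955) (.leaf ((nat_lit 39), [])) (.leaf ((nat_lit 506), [nat_lit 0, nat_lit 2]))))))
 (.node (nat_lit 961) (.node (nat_lit 958) (.node (nat_lit 957) (.leaf ((nat_lit 507), [nat_lit 1, nat_lit 3, nat_lit 0])) (.leaf ((nat_lit 160), [nat_lit 0, nat_lit 3]))) (.node (nat_lit 959) (.leaf ((nat_lit 508), [nat_lit 3, nat_lit 0])) (.node (nat_lit 960) (.leaf ((nat_lit 509), [nat_lit 0, nat_lit 2, nat_lit 0])) (.leaf ((nat_lit 506), [nat_lit 1, nat_lit 2])))))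
 (.node (nat_lit 964) (.node (nat_lit 962) (.leaf ((nat_lit 39), [nat_lit 0, nat_lit 3, nat_lit 0])) (.node (nat_lit 963) (.leaf ((nat_lit 510), [nat_lit 1, nat_lit 3])) (.leaf ((nat_lit 159), [nat_lit 2, nat_lit 1])))) (.node (nat_lit 965) (.leaf ((nat_lit 346), [nat_lit 0, nat_lit 3, nat_lit 1])) (.node (nat_lit 966) (.leaf ((nat_lit 511), [nat_lit 1, nat_lit 2, nat_lit 0])) (.leaf ((nat_lit 507), [nat_lit 1, nat_lit 3, nat_lit 1])))))))
 (.node (nat_lit 978) (.node (nat_lit 972) (.node (nat_lit 969) (.node (nat_lit 968) (.leaf ((nat_lit 510), [nat_lit 0, nat_lit 2, nat_lit 1])) (.leaf ((nat_lit 39), [nat_lit 0]))) (.node (nat_lit 970) (.leaf ((nat_lit 489), [nat_lit 1, nat_lit 3, nat_lit 0])) (.node (nat_lit 971) (.leaf ((nat_lit 512), [nat_lit 3, nat_lit 1])) (.leaf ((nat_lit 513), [nat_lit 1])))))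
 (.node (nat_lit 975) (.node (nat_lit 973) (.leaf ((nat_lit 514), [nat_lit 2, nat_lit 1])) (.node (nat_lit 974) (.leaf ((nat_lit 380), [nat_lit 1, nat_lit 3])) (.leaf ((nat_lit 515), [nat_lit 0])))) (.node (nat_lit 976) (.leaf ((nat_lit 39), [nat_lit 2])) (.node (nat_lit 977) (.leaf ((nat_lit 516), [nat_lit 1, nat_lit 3])) (.leaf ((nat_lit 427), [nat_lit 1, nat_lit 2]))))))
 (.node (nat_lit 984) (.node (nat_lit 981) (.node (nat_lit 979) (.leaf ((nat_lit 307), [nat_lit 1, nat_lit 3, nat_lit 1])) (.node (nat_lit 980) (.leaf ((nat_lit 417), [nat_lit 1, nat_lit 3, nat_lit 1])) (.leaf ((nat_lit 416), [nat_lit 1])))) (.node (nat_lit 982) (.leaf ((nat_lit 516), [nat_lit 0, nat_lit 3, nat_lit 0])) (.node (nat_lit 983) (.leaf ((nat_lit 39), [nat_lit 0, nat_lit 2, nat_lit 1])) (.leaf ((nat_lit 517), [nat_lit 3, nat_lit 0])))))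
 (.node (nat_lit 987) (.node (nat_lit 985) (.leaf ((nat_lit 41), [nat_lit 0, nat_lit 3])) (.node (nat_lit 986) (.leaf ((nat_lit 40), [nat_lit 0, nat_lit 2, nat_lit 1])) (.leaf ((nat_lit 518), [nat_lit 0, nat_lit 2, nat_lit 0])))) (.node (nat_lit 988) (.leaf ((nat_lit 226), [nat_lit 0, nat_lit 2, nat_lit 1])) (.node (nat_lit 989) (.leaf ((nat_lit 519), [nat_lit 3, nat_lit 0])) (.leaf ((nat_lit 248), [nat_lit 1, nat_lit 3])))))))))
 (.node (nat_lit 1035) (.node (nat_lit 1012) (.node (nat_lit 1001) (.node (nat_lit 995) (.node (nat_lit 992) (.node (nat_lit 991) (.leaf ((nat_lit 42), [nat_lit 2, nat_lit 0])) (.leaf ((nat_lit 518), [nat_lit 0, nat_lit 3, nat_lit 1]))) (.node (nat_lit 993) (.leaf ((nat_lit 40), [nat_lit 3, nat_lit 0])) (.node (nat_lit 994) (.leaf ((nat_lit 520), [nat_lit 3])) (.leaf ((nat_lit 169), [])))))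
 (.node (nat_lit 998) (.node (nat_lit 996) (.leaf ((nat_lit 521), [nat_lit 0, nat_lit 3, nat_lit 0])) (.node (nat_lit 997) (.leaf ((nat_lit 87), [nat_lit 1, nat_lit 2, nat_lit 1])) (.leaf ((nat_lit 228), [nat_lit 0, nat_lit 2, nat_lit 1])))) (.node (nat_lit 999) (.leaf ((nat_lit 492), [nat_lit 1, nat_lit 2, nat_lit 1])) (.node (nat_lit 1000) (.leaf ((nat_lit 40), [])) (.leaf ((nat_lit 522), []))))))
 (.node (nat_lit 1006) (.node (nat_lit 1003) (.node (nat_lit 1002) (.leaf ((nat_lit 424), [nat_lit 2, nat_lit 1])) (.leaf ((nat_lit 105), [nat_lit 2]))) (.node (nat_lit 1004) (.leaf ((nat_lit 523), [nat_lit 1, nat_lit 3, nat_lit 0])) (.node (nat_lit 1005) (.leaf ((nat_lit 170), [nat_lit 1])) (.leaf ((nat_lit 522), [nat_lit 3, nat_lit 1])))))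
 (.node (nat_lit 1009) (.node (nat_lit 1007) (.leaf ((nat_lit 40), [nat_lit 3, nat_lit 1])) (.node (nat_lit 1008) (.leaf ((nat_lit 524), [nat_lit 2, nat_lit 1])) (.leaf ((nat_lit 44), [nat_lit 3])))) (.node (nat_lit 1010) (.leaf ((nat_lit 525), [nat_lit 2, nat_lit 0])) (.node (nat_lit 1011) (.leaf ((nat_lit 526), [nat_lit 1, nat_lit 2, nat_lit 1])) (.leaf ((nat_lit 208), [nat_lit 0, nat_lit 3, nat_lit 0])))))))
 (.node (nat_lit 1023) (.node (nat_lit 1017) (.node (nat_lit 1014) (.node (nat_lit 1013) (.leaf ((nat_lit 453), [nat_lit 0, nat_lit 3, nat_lit 1])) (.leaf ((nat_lit 40), [nat_lit 3]))) (.node (nat_lit 1015) (.leaf ((nat_lit 518), [nat_lit 1, nat_lit 3, nat_lit 1])) (.node (nat_lit 1016) (.leaf ((nat_lit 42), [nat_lit 3, nat_lit 0])) (.leaf ((nat_lit 41), [nat_lit 3, nat_lit 0])))))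
 (.node (nat_lit 1020) (.node (nat_lit 1018) (.leaf ((nat_lit 527), [nat_lit 1, nat_lit 2])) (.node (nat_lit 1019) (.leaf ((nat_lit 165), [])) (.leaf ((nat_lit 528), [nat_lit 1, nat_lit 3, nat_lit 0])))) (.node (nat_lit 1021) (.leaf ((nat_lit 206), [])) (.node (nat_lit 1022) (.leaf ((nat_lit 205), [nat_lit 0])) (.leaf ((nat_lit 167), [nat_lit 0]))))))
 (.node (nat_lit 1029) (.node (nat_lit 1026) (.node (nat_lit 1024) (.leaf ((nat_lit 462), [nat_lit 0, nat_lit 3, nat_lit 1])) (.node (nat_lit 1025) (.leaf ((nat_lit 41), [nat_lit 3])) (.leaf ((nat_lit 529), [nat_lit 0, nat_lit 2])))) (.node (nat_lit 1027) (.leaf ((nat_lit 530), [nat_lit 0, nat_lit 2, nat_lit 0])) (.node (nat_lit 1028) (.leaf ((nat_lit 531), [nat_lit 2, nat_lit 1])) (.leaf ((nat_lit 532), [nat_lit 1, nat_lit 2, nat_lit 0])))))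
 (.node (nat_lit 1032) (.node (nat_lit 1030) (.leaf ((nat_lit 533), [nat_lit 1, nat_lit 2])) (.node (nat_lit 1031) (.leaf ((nat_lit 534), [nat_lit 0, nat_lit 3, nat_lit 0])) (.leaf ((nat_lit 41), [nat_lit 0, nat_lit 3])))) (.node (nat_lit 1033) (.leaf ((nat_lit 93), [nat_lit 3])) (.node (nat_lit 1034) (.leaf ((nat_lit 535), [nat_lit 0, nat_lit 2, nat_lit 1])) (.leaf ((nat_lit 291), [nat_lit 3]))))))))
 (.node (nat_lit 1057) (.node (nat_lit 1046) (.node (nat_lit 1040) (.node (nat_lit 1037) (.node (nat_lit 1036) (.leaf ((nat_lit 42), [])) (.leaf ((nat_lit 536), [nat_lit 1, nat_lit 2, nat_lit 1]))) (.node (nat_lit 1038) (.leaf ((nat_lit 537), [nat_lit 0])) (.node (nat_lit 1039) (.leaf ((nat_lit 538), [nat_lit 2, nat_lit 1])) (.leaf ((nat_lit 539), [nat_lit 1, nat_lit 3, nat_lit 1])))))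
 (.node (nat_lit 1043) (.node (nat_lit 1041) (.leaf ((nat_lit 540), [])) (.node (nat_lit 1042) (.leaf ((nat_lit 536), [nat_lit 0, nat_lit 2])) (.leaf ((nat_lit 42), [nat_lit 2, nat_lit 1])))) (.node (nat_lit 1044) (.leaf ((nat_lit 479), [nat_lit 1, nat_lit 2])) (.node (nat_lit 1045) (.leaf ((nat_lit 541), [nat_lit 0])) (.leaf ((nat_lit 308), [nat_lit 0, nat_lit 3]))))))
 (.node (nat_lit 1051) (.node (nat_lit 1048) (.node (nat_lit 1047) (.leaf ((nat_lit 542), [nat_lit 1, nat_lit 2, nat_lit 0])) (.leaf ((nat_lit 308), [nat_lit 2]))) (.node (nat_lit 1049) (.leaf ((nat_lit 307), [nat_lit 1, nat_lit 2, nat_lit 1])) (.node (nat_lit 1050) (.leaf ((nat_lit 42), [])) (.leaf ((nat_lit 43), [nat_lit 2])))))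
 (.node (nat_lit 1054) (.node (nat_lit 1052) (.leaf ((nat_lit 249), [nat_lit 0, nat_lit 3])) (.node (nat_lit 1053) (.leaf ((nat_lit 519), [nat_lit 3, nat_lit 1])) (.leaf ((nat_lit 432), [nat_lit 1, nat_lit 3])))) (.node (nat_lit 1055) (.leaf ((nat_lit 543), [nat_lit 0, nat_lit 2, nat_lit 1])) (.node (nat_lit 1056) (.leaf ((nat_lit 544), [nat_lit 0, nat_lit 2, nat_lit 1])) (.leaf ((nat_lit 249), [nat_lit 1, nat_lit 3, nat_lit 0])))))))
 (.node (nat_lit 1068) (.node (nat_lit 1062) (.node (nat_lit 1059) (.node (nat_lit 1058) (.leaf ((nat_lit 43), [nat_lit 1, nat_lit 3, nat_lit 1])) (.leaf ((nat_lit 545), [nat_lit 0, nat_lit 2, nat_lit 0]))) (.node (nat_lit 1060) (.leaf ((nat_lit 546), [nat_lit 1, nat_lit 2, nat_lit 0])) (.node (nat_lit 1061) (.leaf ((nat_lit 205), [nat_lit 0, nat_lit 2, nat_lit 1])) (.leaf ((nat_lit 547), [nat_lit 0])))))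
 (.node (nat_lit 1065) (.node (nat_lit 1063) (.leaf ((nat_lit 519), [nat_lit 1, nat_lit 3, nat_lit 1])) (.node (nat_lit 1064) (.leaf ((nat_lit 545), [])) (.leaf ((nat_lit 43), [nat_lit 0, nat_lit 3])))) (.node (nat_lit 1066) (.leaf ((nat_lit 548), [nat_lit 1, nat_lit 3, nat_lit 0])) (.node (nat_lit 1067) (.leaf ((nat_lit 540), [nat_lit 3])) (.leaf ((nat_lit 549), [nat_lit 0, nat_lit 2, nat_lit 1]))))))
 (.node (nat_lit 1074) (.node (nat_lit 1071) (.node (nat_lit 1069) (.leaf ((nat_lit 550), [nat_lit 1, nat_lit 3, nat_lit 1])) (.node (nat_lit 1070) (.leaf ((nat_lit 551), [nat_lit 0, nat_lit 3, nat_lit 1])) (.leaf ((nat_lit 382), [nat_lit 1, nat_lit 2, nat_lit 1])))) (.node (nat_lit 1072) (.leaf ((nat_lit 552), [nat_lit 2, nat_lit 1])) (.node (nat_lit 1073) (.leaf ((nat_lit 553), [nat_lit 2])) (.leaf ((nat_lit 43), [nat_lit 3])))))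
 (.node (nat_lit 1077) (.node (nat_lit 1075) (.leaf ((nat_lit 525), [nat_lit 1, nat_lit 3])) (.node (nat_lit 1076) (.leaf ((nat_lit 44), [nat_lit 0])) (.leaf ((nat_lit 554), [nat_lit 3])))) (.node (nat_lit 1078) (.leaf ((nat_lit 64), [nat_lit 0, nat_lit 3, nat_lit 0])) (.node (nat_lit 1079) (.leaf ((nat_lit 555), [nat_lit 1, nat_lit 2])) (.leaf ((nat_lit 381), [nat_lit 2]))))))))))
noncomputable def n1Wd_6 : Tr (ℕ × List ℕ) := (.node (nat_lit 1170) (.node (nat_lit 1125) (.node (nat_lit 1102) (.node (nat_lit 1091) (.node (nat_lit 1085) (.node (nat_lit 1082) (.node (nat_lit 1081) (.leaf ((nat_lit 526), [nat_lit 0])) (.leaf ((nat_lit 554), [nat_lit 1, nat_lit 3, nat_lit 0]))) (.node (nat_lit 1083) (.leaf ((nat_lit 44), [nat_lit 1, nat_lit 3])) (.node (nat_lit 1084) (.leaf ((nat_lit 556), [nat_lit 1, nat_lit 3])) (.leaf ((nat_lit 360), [nat_lit 0, nat_lit 2, nat_lit 1])))))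
 (.node (nat_lit 1088) (.node (nat_lit 1086) (.leaf ((nat_lit 557), [nat_lit 0, nat_lit 3])) (.node (nat_lit 1087) (.leaf ((nat_lit 547), [nat_lit 0, nat_lit 2, nat_lit 0])) (.leaf ((nat_lit 558), [nat_lit 2, nat_lit 1])))) (.node (nat_lit 1089) (.leaf ((nat_lit 245), [nat_lit 0, nat_lit 2, nat_lit 1])) (.node (nat_lit 1090) (.leaf ((nat_lit 44), [nat_lit 1, nat_lit 2, nat_lit 0])) (.leaf ((nat_lit 559), [nat_lit 1, nat_lit 3]))))))
 (.node (nat_lit 1096) (.node (nat_lit 1093) (.node (nat_lit 1092) (.leaf ((nat_lit 545), [nat_lit 1, nat_lit 3])) (.leaf ((nat_lit 210), [nat_lit 1, nat_lit 3, nat_lit 1]))) (.node (nat_lit 1094) (.leaf ((nat_lit 209), [nat_lit 0, nat_lit 3, nat_lit 1])) (.node (nat_lit 1095) (.leaf ((nat_lit 362), [nat_lit 2, nat_lit 0])) (.leaf ((nat_lit 559), [nat_lit 1, nat_lit 2])))))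
 (.node (nat_lit 1099) (.node (nat_lit 1097) (.leaf ((nat_lit 44), [nat_lit 2, nat_lit 1])) (.node (nat_lit 1098) (.leaf ((nat_lit 560), [nat_lit 3, nat_lit 1])) (.leaf ((nat_lit 46), [])))) (.node (nat_lit 1100) (.leaf ((nat_lit 45), [])) (.node (nat_lit 1101) (.leaf ((nat_lit 235), [nat_lit 1, nat_lit 2])) (.leaf ((nat_lit 453), [nat_lit 3, nat_lit 1])))))))
 (.node (nat_lit 1113) (.node (nat_lit 1107) (.node (nat_lit 1104) (.node (nat_lit 1103) (.leaf ((nat_lit 208), [nat_lit 0, nat_lit 2, nat_lit 0])) (.leaf ((nat_lit 69), [nat_lit 0, nat_lit 2, nat_lit 1]))) (.node (nat_lit 1105) (.leaf ((nat_lit 47), [nat_lit 1])) (.node (nat_lit 1106) (.leaf ((nat_lit 235), [nat_lit 1, nat_lit 2])) (.leaf ((nat_lit 45), [])))))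
 (.node (nat_lit 1110) (.node (nat_lit 1108) (.leaf ((nat_lit 561), [nat_lit 3, nat_lit 1])) (.node (nat_lit 1109) (.leaf ((nat_lit 287), [nat_lit 1, nat_lit 2, nat_lit 0])) (.leaf ((nat_lit 562), [nat_lit 1, nat_lit 2, nat_lit 1])))) (.node (nat_lit 1111) (.leaf ((nat_lit 88), [nat_lit 2])) (.node (nat_lit 1112) (.leaf ((nat_lit 456), [nat_lit 1, nat_lit 2])) (.leaf ((nat_lit 321), [nat_lit 1, nat_lit 2, nat_lit 0]))))))
 (.node (nat_lit 1119) (.node (nat_lit 1116) (.node (nat_lit 1114) (.leaf ((nat_lit 45), [nat_lit 0, nat_lit 2])) (.node (nat_lit 1115) (.leaf ((nat_lit 563), [nat_lit 1, nat_lit 2, nat_lit 1])) (.leaf ((nat_lit 564), [nat_lit 1])))) (.node (nat_lit 1117) (.leaf ((nat_lit 106), [nat_lit 1, nat_lit 2, nat_lit 0])) (.node (nat_lit 1118) (.leaf ((nat_lit 246), [])) (.leaf ((nat_lit 289), [])))))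
 (.node (nat_lit 1122) (.node (nat_lit 1120) (.leaf ((nat_lit 563), [])) (.node (nat_lit 1121) (.leaf ((nat_lit 45), [nat_lit 1, nat_lit 2])) (.leaf ((nat_lit 565), [nat_lit 0])))) (.node (nat_lit 1123) (.leaf ((nat_lit 566), [nat_lit 3, nat_lit 1])) (.node (nat_lit 1124) (.leaf ((nat_lit 567), [nat_lit 0, nat_lit 2, nat_lit 0])) (.leaf ((nat_lit 568), [nat_lit 0]))))))))
 (.node (nat_lit 1147) (.node (nat_lit 1136) (.node (nat_lit 1130) (.node (nat_lit 1127) (.node (nat_lit 1126) (.leaf ((nat_lit 475), [nat_lit 1])) (.leaf ((nat_lit 569), [nat_lit 2, nat_lit 0]))) (.node (nat_lit 1128) (.leaf ((nat_lit 45), [nat_lit 0, nat_lit 3])) (.node (nat_lit 1129) (.leaf ((nat_lit 235), [nat_lit 0, nat_lit 3, nat_lit 1])) (.leaf ((nat_lit 47), [nat_lit 2])))))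
 (.node (nat_lit 1133) (.node (nat_lit 1131) (.leaf ((nat_lit 46), [nat_lit 0, nat_lit 2])) (.node (nat_lit 1132) (.leaf ((nat_lit 423), [nat_lit 1])) (.leaf ((nat_lit 570), [nat_lit 0, nat_lit 2])))) (.node (nat_lit 1134) (.leaf ((nat_lit 497), [nat_lit 1, nat_lit 3])) (.node (nat_lit 1135) (.leaf ((nat_lit 571), [nat_lit 3, nat_lit 0])) (.leaf ((nat_lit 546), [nat_lit 0, nat_lit 2]))))))
 (.node (nat_lit 1141) (.node (nat_lit 1138) (.node (nat_lit 1137) (.leaf ((nat_lit 572), [])) (.leaf ((nat_lit 46), [nat_lit 0, nat_lit 2, nat_lit 1]))) (.node (nat_lit 1139) (.leaf ((nat_lit 367), [nat_lit 1, nat_lit 3])) (.node (nat_lit 1140) (.leaf ((nat_lit 356), [nat_lit 0, nat_lit 3])) (.leaf ((nat_lit 553), [nat_lit 2])))))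
 (.node (nat_lit 1144) (.node (nat_lit 1142) (.leaf ((nat_lit 195), [nat_lit 0])) (.node (nat_lit 1143) (.leaf ((nat_lit 573), [nat_lit 2, nat_lit 0])) (.leaf ((nat_lit 574), [nat_lit 1, nat_lit 2, nat_lit 1])))) (.node (nat_lit 1145) (.leaf ((nat_lit 575), [nat_lit 3, nat_lit 0])) (.node (nat_lit 1146) (.leaf ((nat_lit 46), [nat_lit 0, nat_lit 3])) (.leaf ((nat_lit 576), [])))))))
 (.node (nat_lit 1158) (.node (nat_lit 1152) (.node (nat_lit 1149) (.node (nat_lit 1148) (.leaf ((nat_lit 575), [nat_lit 3])) (.leaf ((nat_lit 577), [nat_lit 2, nat_lit 1]))) (.node (nat_lit 1150) (.leaf ((nat_lit 473), [nat_lit 2])) (.node (nat_lit 1151) (.leaf ((nat_lit 193), [nat_lit 0])) (.leaf ((nat_lit 47), [nat_lit 1, nat_lit 2, nat_lit 1])))))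
 (.node (nat_lit 1155) (.node (nat_lit 1153) (.leaf ((nat_lit 48), [nat_lit 0, nat_lit 2])) (.node (nat_lit 1154) (.leaf ((nat_lit 312), [nat_lit 2])) (.leaf ((nat_lit 311), [nat_lit 0, nat_lit 2, nat_lit 0])))) (.node (nat_lit 1156) (.leaf ((nat_lit 578), [nat_lit 0, nat_lit 3])) (.node (nat_lit 1157) (.leaf ((nat_lit 420), [nat_lit 1, nat_lit 3, nat_lit 1])) (.leaf ((nat_lit 405), [nat_lit 3, nat_lit 1]))))))
 (.node (nat_lit 1164) (.node (nat_lit 1161) (.node (nat_lit 1159) (.leaf ((nat_lit 312), [nat_lit 1, nat_lit 3, nat_lit 1])) (.node (nat_lit 1160) (.leaf ((nat_lit 48), [nat_lit 3, nat_lit 1])) (.leaf ((nat_lit 310), [nat_lit 3, nat_lit 0])))) (.node (nat_lit 1162) (.leaf ((nat_lit 143), [nat_lit 1, nat_lit 3])) (.node (nat_lit 1163) (.leaf ((nat_lit 191), [nat_lit 1])) (.leaf ((nat_lit 579), [nat_lit 3, nat_lit 0])))))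
 (.node (nat_lit 1167) (.node (nat_lit 1165) (.leaf ((nat_lit 311), [nat_lit 2, nat_lit 0])) (.node (nat_lit 1166) (.leaf ((nat_lit 310), [nat_lit 3, nat_lit 0])) (.leaf ((nat_lit 48), [nat_lit 3, nat_lit 1])))) (.node (nat_lit 1168) (.leaf ((nat_lit 115), [nat_lit 3, nat_lit 1])) (.node (nat_lit 1169) (.leaf ((nat_lit 580), [nat_lit 0, nat_lit 3, nat_lit 0])) (.leaf ((nat_lit 581), [nat_lit 1, nat_lit 3])))))))))
 (.node (nat_lit 1215) (.node (nat_lit 1192) (.node (nat_lit 1181) (.node (nat_lit 1175) (.node (nat_lit 1172) (.node (nat_lit 1171) (.leaf ((nat_lit 409), [nat_lit 1, nat_lit 2, nat_lit 1])) (.leaf ((nat_lit 190), [nat_lit 1]))) (.node (nat_lit 1173) (.leaf ((nat_lit 582), [nat_lit 0])) (.node (nat_lit 1174) (.leaf ((nat_lit 254), [nat_lit 3])) (.leaf ((nat_lit 48), [nat_lit 3])))))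
 (.node (nat_lit 1178) (.node (nat_lit 1176) (.leaf ((nat_lit 548), [nat_lit 0, nat_lit 3, nat_lit 1])) (.node (nat_lit 1177) (.leaf ((nat_lit 50), [nat_lit 3, nat_lit 0])) (.leaf ((nat_lit 49), [nat_lit 0, nat_lit 2, nat_lit 1])))) (.node (nat_lit 1179) (.leaf ((nat_lit 440), [nat_lit 1, nat_lit 3, nat_lit 0])) (.node (nat_lit 1180) (.leaf ((nat_lit 583), [nat_lit 1, nat_lit 3, nat_lit 1])) (.leaf ((nat_lit 525), [nat_lit 1, nat_lit 2, nat_lit 0]))))))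
 (.node (nat_lit 1186) (.node (nat_lit 1183) (.node (nat_lit 1182) (.leaf ((nat_lit 584), [nat_lit 0, nat_lit 2, nat_lit 0])) (.leaf ((nat_lit 77), [nat_lit 3, nat_lit 0]))) (.node (nat_lit 1184) (.leaf ((nat_lit 76), [nat_lit 0, nat_lit 2, nat_lit 1])) (.node (nat_lit 1185) (.leaf ((nat_lit 152), [nat_lit 1, nat_lit 2, nat_lit 0])) (.leaf ((nat_lit 585), [nat_lit 1])))))
 (.node (nat_lit 1189) (.node (nat_lit 1187) (.leaf ((nat_lit 314), [nat_lit 0, nat_lit 2, nat_lit 0])) (.node (nat_lit 1188) (.leaf ((nat_lit 49), [nat_lit 3])) (.leaf ((nat_lit 440), [nat_lit 1, nat_lit 2])))) (.node (nat_lit 1190) (.leaf ((nat_lit 51), [nat_lit 1, nat_lit 2, nat_lit 1])) (.node (nat_lit 1191) (.leaf ((nat_lit 50), [nat_lit 2])) (.leaf ((nat_lit 377), [nat_lit 1])))))))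
 (.node (nat_lit 1203) (.node (nat_lit 1197) (.node (nat_lit 1194) (.node (nat_lit 1193) (.leaf ((nat_lit 586), [nat_lit 1])) (.leaf ((nat_lit 587), []))) (.node (nat_lit 1195) (.leaf ((nat_lit 588), [nat_lit 3])) (.node (nat_lit 1196) (.leaf ((nat_lit 589), [nat_lit 0, nat_lit 2, nat_lit 1])) (.leaf ((nat_lit 137), [nat_lit 1, nat_lit 3, nat_lit 0])))))
 (.node (nat_lit 1200) (.node (nat_lit 1198) (.leaf ((nat_lit 50), [nat_lit 2, nat_lit 0])) (.node (nat_lit 1199) (.leaf ((nat_lit 146), [nat_lit 0, nat_lit 3, nat_lit 0])) (.leaf ((nat_lit 590), [nat_lit 3, nat_lit 1])))) (.node (nat_lit 1201) (.leaf ((nat_lit 591), [nat_lit 3, nat_lit 0])) (.node (nat_lit 1202) (.leaf ((nat_lit 452), [nat_lit 0, nat_lit 2, nat_lit 0])) (.leaf ((nat_lit 592), [nat_lit 1, nat_lit 2, nat_lit 1]))))))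
 (.node (nat_lit 1209) (.node (nat_lit 1206) (.node (nat_lit 1204) (.leaf ((nat_lit 146), [nat_lit 0, nat_lit 3, nat_lit 0])) (.node (nat_lit 1205) (.leaf ((nat_lit 50), [nat_lit 2, nat_lit 0])) (.leaf ((nat_lit 593), [nat_lit 2, nat_lit 1])))) (.node (nat_lit 1207) (.leaf ((nat_lit 262), [nat_lit 1])) (.node (nat_lit 1208) (.leaf ((nat_lit 436), [])) (.leaf ((nat_lit 594), [])))))
 (.node (nat_lit 1212) (.node (nat_lit 1210) (.leaf ((nat_lit 595), [nat_lit 1, nat_lit 2, nat_lit 0])) (.node (nat_lit 1211) (.leaf ((nat_lit 581), [nat_lit 0, nat_lit 3, nat_lit 1])) (.leaf ((nat_lit 50), [nat_lit 2, nat_lit 0])))) (.node (nat_lit 1213) (.leaf ((nat_lit 225), [nat_lit 1, nat_lit 3, nat_lit 1])) (.node (nat_lit 1214) (.leaf ((nat_lit 378), [nat_lit 0, nat_lit 3, nat_lit 1])) (.leaf ((nat_lit 565), [nat_lit 1, nat_lit 3, nat_lit 0]))))))))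
 (.node (nat_lit 1237) (.node (nat_lit 1226) (.node (nat_lit 1220) (.node (nat_lit 1217) (.node (nat_lit 1216) (.leaf ((nat_lit 51), [nat_lit 1, nat_lit 2])) (.leaf ((nat_lit 236), []))) (.node (nat_lit 1218) (.leaf ((nat_lit 320), [nat_lit 1, nat_lit 2, nat_lit 0])) (.node (nat_lit 1219) (.leaf ((nat_lit 425), [nat_lit 0, nat_lit 3, nat_lit 0])) (.leaf ((nat_lit 399), [nat_lit 2])))))
 (.node (nat_lit 1223) (.node (nat_lit 1221) (.leaf ((nat_lit 398), [nat_lit 0, nat_lit 3])) (.node (nat_lit 1222) (.leaf ((nat_lit 236), [])) (.leaf ((nat_lit 51), [nat_lit 1, nat_lit 2])))) (.node (nat_lit 1224) (.leaf ((nat_lit 157), [nat_lit 2, nat_lit 0])) (.node (nat_lit 1225) (.leaf ((nat_lit 467), [])) (.leaf ((nat_lit 466), [nat_lit 2, nat_lit 0]))))))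
 (.node (nat_lit 1231) (.node (nat_lit 1228) (.node (nat_lit 1227) (.leaf ((nat_lit 596), [nat_lit 1, nat_lit 2, nat_lit 1])) (.leaf ((nat_lit 591), [nat_lit 0, nat_lit 2]))) (.node (nat_lit 1229) (.leaf ((nat_lit 579), [nat_lit 0, nat_lit 2])) (.node (nat_lit 1230) (.leaf ((nat_lit 51), [nat_lit 1, nat_lit 2, nat_lit 0])) (.leaf ((nat_lit 52), [nat_lit 1])))))
 (.node (nat_lit 1234) (.node (nat_lit 1232) (.leaf ((nat_lit 170), [nat_lit 1])) (.node (nat_lit 1233) (.leaf ((nat_lit 523), [nat_lit 1, nat_lit 3, nat_lit 0])) (.leaf ((nat_lit 597), [nat_lit 3, nat_lit 0])))) (.node (nat_lit 1235) (.leaf ((nat_lit 176), [nat_lit 0, nat_lit 3, nat_lit 1])) (.node (nat_lit 1236) (.leaf ((nat_lit 238), [nat_lit 1, nat_lit 3])) (.leaf ((nat_lit 170), [])))))))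
 (.node (nat_lit 1248) (.node (nat_lit 1242) (.node (nat_lit 1239) (.node (nat_lit 1238) (.leaf ((nat_lit 52), [])) (.leaf ((nat_lit 105), [nat_lit 2, nat_lit 0]))) (.node (nat_lit 1240) (.leaf ((nat_lit 589), [nat_lit 1, nat_lit 2, nat_lit 1])) (.node (nat_lit 1241) (.leaf ((nat_lit 598), [nat_lit 0, nat_lit 3])) (.leaf ((nat_lit 599), [nat_lit 2])))))
 (.node (nat_lit 1245) (.node (nat_lit 1243) (.leaf ((nat_lit 523), [nat_lit 1, nat_lit 2, nat_lit 1])) (.node (nat_lit 1244) (.leaf ((nat_lit 105), [nat_lit 0, nat_lit 3, nat_lit 0])) (.leaf ((nat_lit 52), [nat_lit 0, nat_lit 3, nat_lit 1])))) (.node (nat_lit 1246) (.leaf ((nat_lit 53), [nat_lit 1, nat_lit 3, nat_lit 0])) (.node (nat_lit 1247) (.leaf ((nat_lit 52), [nat_lit 1, nat_lit 3])) (.leaf ((nat_lit 533), []))))))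
 (.node (nat_lit 1254) (.node (nat_lit 1251) (.node (nat_lit 1249) (.leaf ((nat_lit 63), [nat_lit 0, nat_lit 3, nat_lit 1])) (.node (nat_lit 1250) (.leaf ((nat_lit 62), [nat_lit 1, nat_lit 3, nat_lit 1])) (.leaf ((nat_lit 60), [nat_lit 1, nat_lit 3])))) (.node (nat_lit 1252) (.leaf ((nat_lit 168), [nat_lit 1, nat_lit 2, nat_lit 1])) (.node (nat_lit 1253) (.leaf ((nat_lit 183), [nat_lit 1, nat_lit 3, nat_lit 1])) (.leaf ((nat_lit 52), [nat_lit 1, nat_lit 2, nat_lit 0])))))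
 (.node (nat_lit 1257) (.node (nat_lit 1255) (.leaf ((nat_lit 53), [nat_lit 1, nat_lit 3])) (.node (nat_lit 1256) (.leaf ((nat_lit 182), [nat_lit 0, nat_lit 2, nat_lit 1])) (.leaf ((nat_lit 121), [nat_lit 0, nat_lit 2])))) (.node (nat_lit 1258) (.leaf ((nat_lit 348), [nat_lit 3])) (.node (nat_lit 1259) (.leaf ((nat_lit 292), [nat_lit 3, nat_lit 1])) (.leaf ((nat_lit 600), [nat_lit 0, nat_lit 3, nat_lit 0]))))))))))
noncomputable def n1Wd_7 : Tr (ℕ × List ℕ) := (.node (nat_lit 1350) (.node (nat_lit 1305) (.node (nat_lit 1282) (.node (nat_lit 1271) (.node (nat_lit 1265) (.node (nat_lit 1262) (.node (nat_lit 1261) (.leaf ((nat_lit 182), [nat_lit 0, nat_lit 2, nat_lit 0])) (.leaf ((nat_lit 53), [nat_lit 1, nat_lit 3, nat_lit 1]))) (.node (nat_lit 1263) (.leaf ((nat_lit 332), [nat_lit 1, nat_lit 2, nat_lit 0])) (.node (nat_lit 1264) (.leaf ((nat_lit 103), [nat_lit 2, nat_lit 1])) (.leaf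 ((nat_lit 452), [nat_lit 3, nat_lit 0])))))
 (.node (nat_lit 1268) (.node (nat_lit 1266) (.leaf ((nat_lit 601), [nat_lit 0, nat_lit 2])) (.node (nat_lit 1267) (.leaf ((nat_lit 121), [nat_lit 2])) (.leaf ((nat_lit 332), [nat_lit 0, nat_lit 3, nat_lit 0])))) (.node (nat_lit 1269) (.leaf ((nat_lit 53), [nat_lit 0, nat_lit 2, nat_lit 0])) (.node (nat_lit 1270) (.leaf ((nat_lit 565), [nat_lit 1, nat_lit 2])) (.leaf ((nat_lit 398), [nat_lit 2, nat_lit 1]))))))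
 (.node (nat_lit 1276) (.node (nat_lit 1273) (.node (nat_lit 1272) (.leaf ((nat_lit 145), [nat_lit 1, nat_lit 2])) (.leaf ((nat_lit 602), [nat_lit 0, nat_lit 3, nat_lit 0]))) (.node (nat_lit 1274) (.leaf ((nat_lit 517), [nat_lit 1, nat_lit 3, nat_lit 1])) (.node (nat_lit 1275) (.leaf ((nat_lit 273), [nat_lit 0, nat_lit 2, nat_lit 0])) (.leaf ((nat_lit 540), [nat_lit 0, nat_lit 3])))))
 (.node (nat_lit 1279) (.node (nat_lit 1277) (.leaf ((nat_lit 548), [nat_lit 0, nat_lit 2, nat_lit 0])) (.node (nat_lit 1278) (.leaf ((nat_lit 53), [nat_lit 1, nat_lit 3])) (.leaf ((nat_lit 54), [nat_lit 3, nat_lit 1])))) (.node (nat_lit 1280) (.leaf ((nat_lit 603), [nat_lit 1, nat_lit 3, nat_lit 1])) (.node (nat_lit 1281) (.leaf ((nat_lit 604), [nat_lit 2])) (.leaf ((nat_lit 605), [nat_lit 1, nat_lit 2, nat_lit 0])))))))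
 (.node (nat_lit 1293) (.node (nat_lit 1287) (.node (nat_lit 1284) (.node (nat_lit 1283) (.leaf ((nat_lit 606), [nat_lit 3])) (.leaf ((nat_lit 85), [nat_lit 3, nat_lit 0]))) (.node (nat_lit 1285) (.leaf ((nat_lit 603), [nat_lit 1, nat_lit 3, nat_lit 1])) (.node (nat_lit 1286) (.leaf ((nat_lit 54), [nat_lit 3, nat_lit 1])) (.leaf ((nat_lit 333), [nat_lit 3])))))
 (.node (nat_lit 1290) (.node (nat_lit 1288) (.leaf ((nat_lit 72), [])) (.node (nat_lit 1289) (.leaf ((nat_lit 607), [nat_lit 3])) (.leaf ((nat_lit 234), [nat_lit 1, nat_lit 3, nat_lit 0])))) (.node (nat_lit 1291) (.leaf ((nat_lit 604), [nat_lit 0])) (.node (nat_lit 1292) (.leaf ((nat_lit 333), [nat_lit 2, nat_lit 0])) (.leaf ((nat_lit 54), [nat_lit 0, nat_lit 2, nat_lit 1]))))))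
 (.node (nat_lit 1299) (.node (nat_lit 1296) (.node (nat_lit 1294) (.leaf ((nat_lit 342), [nat_lit 1, nat_lit 2, nat_lit 1])) (.node (nat_lit 1295) (.leaf ((nat_lit 608), [nat_lit 0, nat_lit 3, nat_lit 1])) (.leaf ((nat_lit 609), [nat_lit 1, nat_lit 3])))) (.node (nat_lit 1297) (.leaf ((nat_lit 572), [nat_lit 0, nat_lit 3])) (.node (nat_lit 1298) (.leaf ((nat_lit 56), [nat_lit 0, nat_lit 3])) (.leaf ((nat_lit 571), [nat_lit 0, nat_lit 2, nat_lit 0])))))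
 (.node (nat_lit 1302) (.node (nat_lit 1300) (.leaf ((nat_lit 55), [nat_lit 1, nat_lit 3, nat_lit 0])) (.node (nat_lit 1301) (.leaf ((nat_lit 54), [nat_lit 1, nat_lit 2, nat_lit 1])) (.leaf ((nat_lit 437), [nat_lit 2])))) (.node (nat_lit 1303) (.leaf ((nat_lit 593), [nat_lit 2, nat_lit 0])) (.node (nat_lit 1304) (.leaf ((nat_lit 435), [nat_lit 3, nat_lit 1])) (.leaf ((nat_lit 610), [nat_lit 0, nat_lit 2]))))))))
 (.node (nat_lit 1327) (.node (nat_lit 1316) (.node (nat_lit 1310) (.node (nat_lit 1307) (.node (nat_lit 1306) (.leaf ((nat_lit 379), [nat_lit 2, nat_lit 1])) (.leaf ((nat_lit 378), [nat_lit 0, nat_lit 3]))) (.node (nat_lit 1308) (.leaf ((nat_lit 54), [nat_lit 3])) (.node (nat_lit 1309) (.leaf ((nat_lit 55), [nat_lit 3])) (.leaf ((nat_lit 427), [nat_lit 0])))))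
 (.node (nat_lit 1313) (.node (nat_lit 1311) (.leaf ((nat_lit 611), [nat_lit 0])) (.node (nat_lit 1312) (.leaf ((nat_lit 102), [nat_lit 0, nat_lit 2, nat_lit 1])) (.leaf ((nat_lit 101), [nat_lit 3, nat_lit 0])))) (.node (nat_lit 1314) (.leaf ((nat_lit 612), [nat_lit 0, nat_lit 3, nat_lit 1])) (.node (nat_lit 1315) (.leaf ((nat_lit 427), [nat_lit 0])) (.leaf ((nat_lit 55), [nat_lit 3]))))))
 (.node (nat_lit 1321) (.node (nat_lit 1318) (.node (nat_lit 1317) (.leaf ((nat_lit 412), [nat_lit 0])) (.leaf ((nat_lit 613), [nat_lit 1]))) (.node (nat_lit 1319) (.leaf ((nat_lit 77), [nat_lit 0, nat_lit 2])) (.node (nat_lit 1320) (.leaf ((nat_lit 614), [nat_lit 0, nat_lit 3, nat_lit 1])) (.leaf ((nat_lit 611), [])))))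
 (.node (nat_lit 1324) (.node (nat_lit 1322) (.leaf ((nat_lit 412), [])) (.node (nat_lit 1323) (.leaf ((nat_lit 55), [nat_lit 3, nat_lit 1])) (.leaf ((nat_lit 555), [nat_lit 1, nat_lit 2, nat_lit 0])))) (.node (nat_lit 1325) (.leaf ((nat_lit 64), [nat_lit 0, nat_lit 3, nat_lit 1])) (.node (nat_lit 1326) (.leaf ((nat_lit 243), [nat_lit 0, nat_lit 2, nat_lit 1])) (.leaf ((nat_lit 407), [nat_lit 1])))))))
 (.node (nat_lit 1338) (.node (nat_lit 1332) (.node (nat_lit 1329) (.node (nat_lit 1328) (.leaf ((nat_lit 112), [nat_lit 2, nat_lit 1])) (.leaf ((nat_lit 615), [nat_lit 0, nat_lit 2]))) (.node (nat_lit 1330) (.leaf ((nat_lit 158), [nat_lit 3, nat_lit 1])) (.node (nat_lit 1331) (.leaf ((nat_lit 616), [nat_lit 3, nat_lit 1])) (.leaf ((nat_lit 55), [nat_lit 1, nat_lit 3, nat_lit 0])))))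
 (.node (nat_lit 1335) (.node (nat_lit 1333) (.leaf ((nat_lit 56), [nat_lit 0, nat_lit 2])) (.node (nat_lit 1334) (.leaf ((nat_lit 572), [nat_lit 0, nat_lit 2])) (.leaf ((nat_lit 546), [nat_lit 3, nat_lit 1])))) (.node (nat_lit 1336) (.leaf ((nat_lit 119), [nat_lit 1, nat_lit 3, nat_lit 0])) (.node (nat_lit 1337) (.leaf ((nat_lit 617), [nat_lit 2, nat_lit 0])) (.leaf ((nat_lit 468), [nat_lit 1, nat_lit 3]))))))
 (.node (nat_lit 1344) (.node (nat_lit 1341) (.node (nat_lit 1339) (.leaf ((nat_lit 546), [nat_lit 0, nat_lit 3, nat_lit 1])) (.node (nat_lit 1340) (.leaf ((nat_lit 571), [nat_lit 0, nat_lit 3])) (.leaf ((nat_lit 56), [nat_lit 2, nat_lit 1])))) (.node (nat_lit 1342) (.leaf ((nat_lit 327), [nat_lit 1, nat_lit 3, nat_lit 1])) (.node (nat_lit 1343) (.leaf ((nat_lit 445), [nat_lit 1, nat_lit 2])) (.leaf ((nat_lit 78), [nat_lit 1])))))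
 (.node (nat_lit 1347) (.node (nat_lit 1345) (.leaf ((nat_lit 132), [nat_lit 0, nat_lit 2, nat_lit 1])) (.node (nat_lit 1346) (.leaf ((nat_lit 613), [nat_lit 1, nat_lit 3, nat_lit 0])) (.leaf ((nat_lit 617), [nat_lit 0, nat_lit 3, nat_lit 1])))) (.node (nat_lit 1348) (.leaf ((nat_lit 56), [nat_lit 3, nat_lit 0])) (.node (nat_lit 1349) (.leaf ((nat_lit 618), [nat_lit 0, nat_lit 2, nat_lit 1])) (.leaf ((nat_lit 499), [nat_lit 0, nat_lit 2, nat_lit 1])))))))))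
 (.node (nat_lit 1395) (.node (nat_lit 1372) (.node (nat_lit 1361) (.node (nat_lit 1355) (.node (nat_lit 1352) (.node (nat_lit 1351) (.leaf ((nat_lit 202), [nat_lit 0, nat_lit 2, nat_lit 0])) (.leaf ((nat_lit 607), [nat_lit 1, nat_lit 2, nat_lit 1]))) (.node (nat_lit 1353) (.leaf ((nat_lit 233), [nat_lit 1, nat_lit 3, nat_lit 0])) (.node (nat_lit 1354) (.leaf ((nat_lit 618), [nat_lit 1, nat_lit 2])) (.leaf ((nat_lit 56), [nat_lit 2, nat_lit 0])))))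
 (.node (nat_lit 1358) (.node (nat_lit 1356) (.leaf ((nat_lit 602), [nat_lit 0, nat_lit 3, nat_lit 0])) (.node (nat_lit 1357) (.leaf ((nat_lit 58), [nat_lit 3])) (.leaf ((nat_lit 57), [nat_lit 3])))) (.node (nat_lit 1359) (.leaf ((nat_lit 288), [])) (.node (nat_lit 1360) (.leaf ((nat_lit 164), [nat_lit 0, nat_lit 3, nat_lit 1])) (.leaf ((nat_lit 619), [nat_lit 1, nat_lit 2, nat_lit 1]))))))
 (.node (nat_lit 1366) (.node (nat_lit 1363) (.node (nat_lit 1362) (.leaf ((nat_lit 131), [nat_lit 0, nat_lit 3])) (.leaf ((nat_lit 59), [nat_lit 0]))) (.node (nat_lit 1364) (.leaf ((nat_lit 288), [nat_lit 2, nat_lit 0])) (.node (nat_lit 1365) (.leaf ((nat_lit 57), [nat_lit 0])) (.leaf ((nat_lit 586), [nat_lit 1, nat_lit 3, nat_lit 0])))))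
 (.node (nat_lit 1369) (.node (nat_lit 1367) (.leaf ((nat_lit 377), [nat_lit 1, nat_lit 3, nat_lit 0])) (.node (nat_lit 1368) (.leaf ((nat_lit 327), [nat_lit 0, nat_lit 2])) (.leaf ((nat_lit 325), [nat_lit 0, nat_lit 3, nat_lit 1])))) (.node (nat_lit 1370) (.leaf ((nat_lit 166), [nat_lit 0, nat_lit 3, nat_lit 1])) (.node (nat_lit 1371) (.leaf ((nat_lit 605), [nat_lit 0, nat_lit 2, nat_lit 1])) (.leaf ((nat_lit 57), [nat_lit 1, nat_lit 3])))))))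
 (.node (nat_lit 1383) (.node (nat_lit 1377) (.node (nat_lit 1374) (.node (nat_lit 1373) (.leaf ((nat_lit 620), [nat_lit 2])) (.leaf ((nat_lit 621), [nat_lit 0, nat_lit 2, nat_lit 0]))) (.node (nat_lit 1375) (.leaf ((nat_lit 474), [nat_lit 0, nat_lit 2])) (.node (nat_lit 1376) (.leaf ((nat_lit 439), [nat_lit 1, nat_lit 3])) (.leaf ((nat_lit 133), [nat_lit 2])))))
 (.node (nat_lit 1380) (.node (nat_lit 1378) (.leaf ((nat_lit 620), [nat_lit 1])) (.node (nat_lit 1379) (.leaf ((nat_lit 57), [nat_lit 1, nat_lit 2, nat_lit 1])) (.leaf ((nat_lit 286), [nat_lit 0, nat_lit 2, nat_lit 0])))) (.node (nat_lit 1381) (.leaf ((nat_lit 622), [nat_lit 1])) (.node (nat_lit 1382) (.leaf ((nat_lit 623), [nat_lit 0, nat_lit 2, nat_lit 1])) (.leaf ((nat_lit 624), [nat_lit 1, nat_lit 2]))))))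
 (.node (nat_lit 1389) (.node (nat_lit 1386) (.node (nat_lit 1384) (.leaf ((nat_lit 590), [nat_lit 0, nat_lit 3, nat_lit 1])) (.node (nat_lit 1385) (.leaf ((nat_lit 281), [nat_lit 0, nat_lit 3, nat_lit 1])) (.leaf ((nat_lit 57), [nat_lit 2, nat_lit 0])))) (.node (nat_lit 1387) (.leaf ((nat_lit 288), [])) (.node (nat_lit 1388) (.leaf ((nat_lit 59), [nat_lit 3])) (.leaf ((nat_lit 58), [nat_lit 3])))))
 (.node (nat_lit 1392) (.node (nat_lit 1390) (.leaf ((nat_lit 275), [nat_lit 1, nat_lit 3, nat_lit 1])) (.node (nat_lit 1391) (.leaf ((nat_lit 152), [nat_lit 3, nat_lit 1])) (.leaf ((nat_lit 403), [nat_lit 2])))) (.node (nat_lit 1393) (.leaf ((nat_lit 589), [nat_lit 0, nat_lit 2, nat_lit 0])) (.node (nat_lit 1394) (.leaf ((nat_lit 588), [nat_lit 3, nat_lit 1])) (.leaf ((nat_lit 314), [nat_lit 0, nat_lit 2, nat_lit 1]))))))))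
 (.node (nat_lit 1417) (.node (nat_lit 1406) (.node (nat_lit 1400) (.node (nat_lit 1397) (.node (nat_lit 1396) (.leaf ((nat_lit 91), [nat_lit 0, nat_lit 2, nat_lit 1])) (.leaf ((nat_lit 58), []))) (.node (nat_lit 1398) (.leaf ((nat_lit 625), [nat_lit 3, nat_lit 1])) (.node (nat_lit 1399) (.leaf ((nat_lit 565), [nat_lit 2, nat_lit 1])) (.leaf ((nat_lit 626), [nat_lit 1, nat_lit 2, nat_lit 0])))))
 (.node (nat_lit 1403) (.node (nat_lit 1401) (.leaf ((nat_lit 225), [nat_lit 1, nat_lit 2, nat_lit 0])) (.node (nat_lit 1402) (.leaf ((nat_lit 476), [nat_lit 2])) (.leaf ((nat_lit 129), [nat_lit 0, nat_lit 3, nat_lit 0])))) (.node (nat_lit 1404) (.leaf ((nat_lit 58), [nat_lit 1, nat_lit 3])) (.node (nat_lit 1405) (.leaf ((nat_lit 463), [nat_lit 1, nat_lit 2, nat_lit 0])) (.leaf ((nat_lit 277), [nat_lit 1, nat_lit 3]))))))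
 (.node (nat_lit 1411) (.node (nat_lit 1408) (.node (nat_lit 1407) (.leaf ((nat_lit 342), [])) (.leaf ((nat_lit 59), [nat_lit 1, nat_lit 3, nat_lit 0]))) (.node (nat_lit 1409) (.leaf ((nat_lit 444), [nat_lit 1, nat_lit 3, nat_lit 1])) (.node (nat_lit 1410) (.leaf ((nat_lit 214), [nat_lit 1, nat_lit 2, nat_lit 0])) (.leaf ((nat_lit 188), [nat_lit 0, nat_lit 2, nat_lit 1])))))
 (.node (nat_lit 1414) (.node (nat_lit 1412) (.leaf ((nat_lit 184), [nat_lit 3, nat_lit 0])) (.node (nat_lit 1413) (.leaf ((nat_lit 183), [nat_lit 3, nat_lit 0])) (.leaf ((nat_lit 444), [nat_lit 1])))) (.node (nat_lit 1415) (.leaf ((nat_lit 59), [nat_lit 0, nat_lit 2, nat_lit 1])) (.node (nat_lit 1416) (.leaf ((nat_lit 627), [nat_lit 1, nat_lit 3])) (.leaf ((nat_lit 476), [nat_lit 3])))))))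
 (.node (nat_lit 1428) (.node (nat_lit 1422) (.node (nat_lit 1419) (.node (nat_lit 1418) (.leaf ((nat_lit 392), [nat_lit 1, nat_lit 3])) (.leaf ((nat_lit 352), [nat_lit 0]))) (.node (nat_lit 1420) (.leaf ((nat_lit 203), [])) (.node (nat_lit 1421) (.leaf ((nat_lit 202), [])) (.leaf ((nat_lit 59), [nat_lit 2])))))
 (.node (nat_lit 1425) (.node (nat_lit 1423) (.leaf ((nat_lit 60), [nat_lit 3, nat_lit 0])) (.node (nat_lit 1424) (.leaf ((nat_lit 64), [nat_lit 0, nat_lit 3, nat_lit 1])) (.leaf ((nat_lit 63), [nat_lit 0])))) (.node (nat_lit 1426) (.leaf ((nat_lit 558), [nat_lit 0, nat_lit 2, nat_lit 1])) (.node (nat_lit 1427) (.leaf ((nat_lit 442), [nat_lit 3, nat_lit 1])) (.leaf ((nat_lit 628), [nat_lit 0, nat_lit 2, nat_lit 0]))))))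
 (.node (nat_lit 1434) (.node (nat_lit 1431) (.node (nat_lit 1429) (.leaf ((nat_lit 64), [nat_lit 3, nat_lit 1])) (.node (nat_lit 1430) (.leaf ((nat_lit 60), [nat_lit 2, nat_lit 0])) (.leaf ((nat_lit 62), [nat_lit 0, nat_lit 3, nat_lit 0])))) (.node (nat_lit 1432) (.leaf ((nat_lit 530), [nat_lit 1, nat_lit 2])) (.node (nat_lit 1433) (.leaf ((nat_lit 588), [nat_lit 1, nat_lit 2])) (.leaf ((nat_lit 205), [nat_lit 2, nat_lit 0])))))
 (.node (nat_lit 1437) (.node (nat_lit 1435) (.leaf ((nat_lit 629), [nat_lit 0, nat_lit 3, nat_lit 1])) (.node (nat_lit 1436) (.leaf ((nat_lit 482), [nat_lit 1, nat_lit 3, nat_lit 1])) (.leaf ((nat_lit 630), [nat_lit 0, nat_lit 3])))) (.node (nat_lit 1438) (.leaf ((nat_lit 486), [nat_lit 3, nat_lit 1])) (.node (nat_lit 1439) (.leaf ((nat_lit 631), [nat_lit 3])) (.leaf ((nat_lit 60), [nat_lit 0, nat_lit 3, nat_lit 1]))))))))))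
noncomputable def n1Wd_8 : Tr (ℕ × List ℕ) := (.node (nat_lit 1530) (.node (nat_lit 1485) (.node (nat_lit 1462) (.node (nat_lit 1451) (.node (nat_lit 1445) (.node (nat_lit 1442) (.node (nat_lit 1441) (.leaf ((nat_lit 61), [nat_lit 1, nat_lit 3, nat_lit 1])) (.leaf ((nat_lit 396), []))) (.node (nat_lit 1443) (.leaf ((nat_lit 244), [nat_lit 0])) (.node (nat_lit 1444) (.leaf ((nat_lit 241), [nat_lit 0, nat_lit 3, nat_lit 1])) (.leaf ((nat_lit 632), [nat_lit 0, nat_lit 3, nat_lit 1])))))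
 (.node (nat_lit 1448) (.node (nat_lit 1446) (.leaf ((nat_lit 633), [nat_lit 1, nat_lit 3, nat_lit 1])) (.node (nat_lit 1447) (.leaf ((nat_lit 396), [nat_lit 1])) (.leaf ((nat_lit 61), [nat_lit 1, nat_lit 3, nat_lit 0])))) (.node (nat_lit 1449) (.leaf ((nat_lit 70), [nat_lit 0, nat_lit 2, nat_lit 0])) (.node (nat_lit 1450) (.leaf ((nat_lit 240), [nat_lit 0, nat_lit 2, nat_lit 1])) (.leaf ((nat_lit 634), [nat_lit 1, nat_lit 3]))))))
 (.node (nat_lit 1456) (.node (nat_lit 1453) (.node (nat_lit 1452) (.leaf ((nat_lit 635), [nat_lit 1, nat_lit 2])) (.leaf ((nat_lit 244), [nat_lit 3]))) (.node (nat_lit 1454) (.leaf ((nat_lit 70), [nat_lit 1, nat_lit 2, nat_lit 1])) (.node (nat_lit 1455) (.leaf ((nat_lit 61), [nat_lit 0, nat_lit 3, nat_lit 0])) (.leaf ((nat_lit 67), [nat_lit 0, nat_lit 2, nat_lit 0])))))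
 (.node (nat_lit 1459) (.node (nat_lit 1457) (.leaf ((nat_lit 636), [nat_lit 0, nat_lit 3, nat_lit 1])) (.node (nat_lit 1458) (.leaf ((nat_lit 637), [])) (.leaf ((nat_lit 638), [])))) (.node (nat_lit 1460) (.leaf ((nat_lit 110), [nat_lit 0, nat_lit 3, nat_lit 0])) (.node (nat_lit 1461) (.leaf ((nat_lit 639), [nat_lit 1, nat_lit 2])) (.leaf ((nat_lit 61), [nat_lit 0, nat_lit 2])))))))
 (.node (nat_lit 1473) (.node (nat_lit 1467) (.node (nat_lit 1464) (.node (nat_lit 1463) (.leaf ((nat_lit 640), [nat_lit 1])) (.leaf ((nat_lit 220), [nat_lit 0, nat_lit 3, nat_lit 1]))) (.node (nat_lit 1465) (.leaf ((nat_lit 242), [nat_lit 2])) (.node (nat_lit 1466) (.leaf ((nat_lit 263), [nat_lit 1])) (.leaf ((nat_lit 240), [nat_lit 1])))))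
 (.node (nat_lit 1470) (.node (nat_lit 1468) (.leaf ((nat_lit 640), [])) (.node (nat_lit 1469) (.leaf ((nat_lit 61), [nat_lit 0, nat_lit 2, nat_lit 0])) (.leaf ((nat_lit 139), [nat_lit 0, nat_lit 3, nat_lit 1])))) (.node (nat_lit 1471) (.leaf ((nat_lit 461), [nat_lit 1])) (.node (nat_lit 1472) (.leaf ((nat_lit 641), [nat_lit 2, nat_lit 0])) (.leaf ((nat_lit 181), [nat_lit 0, nat_lit 3, nat_lit 1]))))))
 (.node (nat_lit 1479) (.node (nat_lit 1476) (.node (nat_lit 1474) (.leaf ((nat_lit 62), [nat_lit 1, nat_lit 3])) (.node (nat_lit 1475) (.leaf ((nat_lit 269), [nat_lit 1, nat_lit 2])) (.leaf ((nat_lit 254), [nat_lit 0, nat_lit 3, nat_lit 1])))) (.node (nat_lit 1477) (.leaf ((nat_lit 373), [nat_lit 2])) (.node (nat_lit 1478) (.leaf ((nat_lit 186), [])) (.leaf ((nat_lit 371), [nat_lit 2])))))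
 (.node (nat_lit 1482) (.node (nat_lit 1480) (.leaf ((nat_lit 269), [nat_lit 1])) (.node (nat_lit 1481) (.leaf ((nat_lit 62), [nat_lit 1, nat_lit 2])) (.leaf ((nat_lit 396), [nat_lit 1, nat_lit 3, nat_lit 0])))) (.node (nat_lit 1483) (.leaf ((nat_lit 482), [nat_lit 3, nat_lit 1])) (.node (nat_lit 1484) (.leaf ((nat_lit 629), [nat_lit 1, nat_lit 3, nat_lit 1])) (.leaf ((nat_lit 642), [nat_lit 0, nat_lit 3, nat_lit 0]))))))))
 (.node (nat_lit 1507) (.node (nat_lit 1496) (.node (nat_lit 1490) (.node (nat_lit 1487) (.node (nat_lit 1486) (.leaf ((nat_lit 107), [nat_lit 3])) (.leaf ((nat_lit 643), [nat_lit 0, nat_lit 3, nat_lit 1]))) (.node (nat_lit 1488) (.leaf ((nat_lit 62), [nat_lit 0, nat_lit 2, nat_lit 1])) (.node (nat_lit 1489) (.leaf ((nat_lit 531), [nat_lit 2, nat_lit 1])) (.leaf ((nat_lit 530), [nat_lit 0, nat_lit 2, nat_lit 0])))))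
 (.node (nat_lit 1493) (.node (nat_lit 1491) (.leaf ((nat_lit 644), [nat_lit 2])) (.node (nat_lit 1492) (.leaf ((nat_lit 63), [nat_lit 3])) (.leaf ((nat_lit 109), [nat_lit 3])))) (.node (nat_lit 1494) (.leaf ((nat_lit 164), [nat_lit 2, nat_lit 0])) (.node (nat_lit 1495) (.leaf ((nat_lit 176), [nat_lit 1, nat_lit 2, nat_lit 0])) (.leaf ((nat_lit 175), [nat_lit 2, nat_lit 1]))))))
 (.node (nat_lit 1501) (.node (nat_lit 1498) (.node (nat_lit 1497) (.leaf ((nat_lit 250), [nat_lit 1, nat_lit 3, nat_lit 1])) (.leaf ((nat_lit 383), [nat_lit 1]))) (.node (nat_lit 1499) (.leaf ((nat_lit 545), [])) (.node (nat_lit 1500) (.leaf ((nat_lit 63), [nat_lit 1, nat_lit 2])) (.leaf ((nat_lit 545), [nat_lit 2])))))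
 (.node (nat_lit 1504) (.node (nat_lit 1502) (.leaf ((nat_lit 519), [nat_lit 0, nat_lit 2, nat_lit 1])) (.node (nat_lit 1503) (.leaf ((nat_lit 249), [nat_lit 0, nat_lit 2, nat_lit 0])) (.leaf ((nat_lit 131), [nat_lit 1])))) (.node (nat_lit 1505) (.leaf ((nat_lit 523), [nat_lit 0, nat_lit 2, nat_lit 0])) (.node (nat_lit 1506) (.leaf ((nat_lit 64), [nat_lit 1, nat_lit 3, nat_lit 1])) (.leaf ((nat_lit 65), [nat_lit 1, nat_lit 3])))))))
 (.node (nat_lit 1518) (.node (nat_lit 1512) (.node (nat_lit 1509) (.node (nat_lit 1508) (.leaf ((nat_lit 643), [nat_lit 2, nat_lit 1])) (.leaf ((nat_lit 645), [nat_lit 1]))) (.node (nat_lit 1510) (.leaf ((nat_lit 294), [nat_lit 1, nat_lit 3, nat_lit 0])) (.node (nat_lit 1511) (.leaf ((nat_lit 557), [nat_lit 1, nat_lit 2])) (.leaf ((nat_lit 551), [nat_lit 1])))))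
 (.node (nat_lit 1515) (.node (nat_lit 1513) (.leaf ((nat_lit 643), [])) (.node (nat_lit 1514) (.leaf ((nat_lit 65), [nat_lit 0, nat_lit 3, nat_lit 0])) (.leaf ((nat_lit 628), [nat_lit 1, nat_lit 3, nat_lit 0])))) (.node (nat_lit 1516) (.leaf ((nat_lit 471), [nat_lit 0])) (.node (nat_lit 1517) (.leaf ((nat_lit 646), [nat_lit 1, nat_lit 2, nat_lit 0])) (.leaf ((nat_lit 647), [nat_lit 1, nat_lit 3, nat_lit 1]))))))
 (.node (nat_lit 1524) (.node (nat_lit 1521) (.node (nat_lit 1519) (.leaf ((nat_lit 645), [nat_lit 1, nat_lit 2])) (.node (nat_lit 1520) (.leaf ((nat_lit 628), [])) (.leaf ((nat_lit 65), [nat_lit 1])))) (.node (nat_lit 1522) (.leaf ((nat_lit 417), [nat_lit 2, nat_lit 1])) (.node (nat_lit 1523) (.leaf ((nat_lit 648), [nat_lit 3])) (.leaf ((nat_lit 649), [nat_lit 1, nat_lit 2, nat_lit 0])))))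
 (.node (nat_lit 1527) (.node (nat_lit 1525) (.leaf ((nat_lit 642), [nat_lit 0])) (.node (nat_lit 1526) (.leaf ((nat_lit 630), [nat_lit 1, nat_lit 2, nat_lit 0])) (.leaf ((nat_lit 482), [nat_lit 0, nat_lit 3, nat_lit 0])))) (.node (nat_lit 1528) (.leaf ((nat_lit 195), [nat_lit 2])) (.node (nat_lit 1529) (.leaf ((nat_lit 65), [nat_lit 0, nat_lit 2, nat_lit 1])) (.leaf ((nat_lit 245), [nat_lit 0, nat_lit 2, nat_lit 1])))))))))
 (.node (nat_lit 1575) (.node (nat_lit 1552) (.node (nat_lit 1541) (.node (nat_lit 1535) (.node (nat_lit 1532) (.node (nat_lit 1531) (.leaf ((nat_lit 67), [nat_lit 0, nat_lit 3, nat_lit 0])) (.leaf ((nat_lit 66), [nat_lit 2, nat_lit 1]))) (.node (nat_lit 1533) (.leaf ((nat_lit 257), [nat_lit 3, nat_lit 1])) (.node (nat_lit 1534) (.leaf ((nat_lit 397), [nat_lit 1, nat_lit 3, nat_lit 1])) (.leaf ((nat_lit 396), [nat_lit 1, nat_lit 3])))))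
 (.node (nat_lit 1538) (.node (nat_lit 1536) (.leaf ((nat_lit 325), [nat_lit 1, nat_lit 2])) (.node (nat_lit 1537) (.leaf ((nat_lit 68), [])) (.leaf ((nat_lit 257), [nat_lit 1, nat_lit 3, nat_lit 1])))) (.node (nat_lit 1539) (.leaf ((nat_lit 66), [nat_lit 0, nat_lit 2])) (.node (nat_lit 1540) (.leaf ((nat_lit 650), [nat_lit 3, nat_lit 0])) (.leaf ((nat_lit 260), [nat_lit 0, nat_lit 2, nat_lit 1]))))))
 (.node (nat_lit 1546) (.node (nat_lit 1543) (.node (nat_lit 1542) (.leaf ((nat_lit 651), [nat_lit 3, nat_lit 0])) (.leaf ((nat_lit 260), [nat_lit 1]))) (.node (nat_lit 1544) (.leaf ((nat_lit 256), [nat_lit 0, nat_lit 2, nat_lit 0])) (.node (nat_lit 1545) (.leaf ((nat_lit 255), [nat_lit 0, nat_lit 2])) (.leaf ((nat_lit 66), [nat_lit 0, nat_lit 3, nat_lit 0])))))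
 (.node (nat_lit 1549) (.node (nat_lit 1547) (.leaf ((nat_lit 652), [nat_lit 0, nat_lit 2, nat_lit 1])) (.node (nat_lit 1548) (.leaf ((nat_lit 653), [nat_lit 1, nat_lit 3, nat_lit 1])) (.leaf ((nat_lit 654), [nat_lit 1])))) (.node (nat_lit 1550) (.leaf ((nat_lit 632), [nat_lit 0, nat_lit 3, nat_lit 1])) (.node (nat_lit 1551) (.leaf ((nat_lit 261), [nat_lit 3])) (.leaf ((nat_lit 652), [nat_lit 1])))))))
 (.node (nat_lit 1563) (.node (nat_lit 1557) (.node (nat_lit 1554) (.node (nat_lit 1553) (.leaf ((nat_lit 66), [nat_lit 1, nat_lit 2, nat_lit 1])) (.leaf ((nat_lit 655), [nat_lit 0, nat_lit 3]))) (.node (nat_lit 1555) (.leaf ((nat_lit 656), [nat_lit 1, nat_lit 3])) (.node (nat_lit 1556) (.leaf ((nat_lit 420), [nat_lit 3])) (.leaf ((nat_lit 657), [])))))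
 (.node (nat_lit 1560) (.node (nat_lit 1558) (.leaf ((nat_lit 658), [nat_lit 0, nat_lit 3, nat_lit 0])) (.node (nat_lit 1559) (.leaf ((nat_lit 550), [nat_lit 0, nat_lit 3, nat_lit 0])) (.leaf ((nat_lit 66), [nat_lit 1, nat_lit 2])))) (.node (nat_lit 1561) (.leaf ((nat_lit 257), [nat_lit 0])) (.node (nat_lit 1562) (.leaf ((nat_lit 68), [nat_lit 0, nat_lit 2, nat_lit 1])) (.leaf ((nat_lit 67), [nat_lit 2]))))))
 (.node (nat_lit 1569) (.node (nat_lit 1566) (.node (nat_lit 1564) (.leaf ((nat_lit 659), [nat_lit 0, nat_lit 3, nat_lit 1])) (.node (nat_lit 1565) (.leaf ((nat_lit 256), [nat_lit 0, nat_lit 3, nat_lit 1])) (.leaf ((nat_lit 442), [nat_lit 1, nat_lit 3, nat_lit 1])))) (.node (nat_lit 1567) (.leaf ((nat_lit 660), [nat_lit 1, nat_lit 3])) (.node (nat_lit 1568) (.leaf ((nat_lit 636), [])) (.leaf ((nat_lit 258), [nat_lit 2])))))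
 (.node (nat_lit 1572) (.node (nat_lit 1570) (.leaf ((nat_lit 636), [nat_lit 0, nat_lit 2])) (.node (nat_lit 1571) (.leaf ((nat_lit 67), [nat_lit 1, nat_lit 3, nat_lit 1])) (.leaf ((nat_lit 661), [nat_lit 0])))) (.node (nat_lit 1573) (.leaf ((nat_lit 201), [nat_lit 0])) (.node (nat_lit 1574) (.leaf ((nat_lit 125), [nat_lit 0, nat_lit 3, nat_lit 0])) (.leaf ((nat_lit 306), [nat_lit 1, nat_lit 3, nat_lit 0]))))))))
 (.node (nat_lit 1597) (.node (nat_lit 1586) (.node (nat_lit 1580) (.node (nat_lit 1577) (.node (nat_lit 1576) (.leaf ((nat_lit 662), [nat_lit 0, nat_lit 2, nat_lit 0])) (.leaf ((nat_lit 649), [nat_lit 0, nat_lit 2, nat_lit 0]))) (.node (nat_lit 1578) (.leaf ((nat_lit 67), [nat_lit 1, nat_lit 2, nat_lit 0])) (.node (nat_lit 1579) (.leaf ((nat_lit 70), [nat_lit 0, nat_lit 2, nat_lit 1])) (.leaf ((nat_lit 244), [nat_lit 0])))))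
 (.node (nat_lit 1583) (.node (nat_lit 1581) (.leaf ((nat_lit 396), [])) (.node (nat_lit 1582) (.leaf ((nat_lit 68), [nat_lit 0, nat_lit 2, nat_lit 0])) (.leaf ((nat_lit 609), [nat_lit 0])))) (.node (nat_lit 1584) (.leaf ((nat_lit 663), [nat_lit 2, nat_lit 1])) (.node (nat_lit 1585) (.leaf ((nat_lit 664), [nat_lit 0])) (.leaf ((nat_lit 652), [nat_lit 1, nat_lit 2, nat_lit 0]))))))
 (.node (nat_lit 1591) (.node (nat_lit 1588) (.node (nat_lit 1587) (.leaf ((nat_lit 634), [nat_lit 0, nat_lit 3])) (.leaf ((nat_lit 609), [nat_lit 2, nat_lit 1]))) (.node (nat_lit 1589) (.leaf ((nat_lit 68), [nat_lit 0, nat_lit 3, nat_lit 1])) (.node (nat_lit 1590) (.leaf ((nat_lit 665), [nat_lit 0, nat_lit 3])) (.leaf ((nat_lit 666), [nat_lit 1, nat_lit 3, nat_lit 0])))))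
 (.node (nat_lit 1594) (.node (nat_lit 1592) (.leaf ((nat_lit 429), [nat_lit 1, nat_lit 2])) (.node (nat_lit 1593) (.leaf ((nat_lit 667), [nat_lit 0, nat_lit 2])) (.leaf ((nat_lit 668), [nat_lit 0, nat_lit 2])))) (.node (nat_lit 1595) (.leaf ((nat_lit 647), [nat_lit 1, nat_lit 3])) (.node (nat_lit 1596) (.leaf ((nat_lit 68), [nat_lit 1, nat_lit 3, nat_lit 0])) (.leaf ((nat_lit 69), [])))))))
 (.node (nat_lit 1608) (.node (nat_lit 1602) (.node (nat_lit 1599) (.node (nat_lit 1598) (.leaf ((nat_lit 669), [nat_lit 1, nat_lit 2, nat_lit 1])) (.leaf ((nat_lit 640), [nat_lit 0, nat_lit 3, nat_lit 0]))) (.node (nat_lit 1600) (.leaf ((nat_lit 670), [nat_lit 0, nat_lit 2, nat_lit 1])) (.node (nat_lit 1601) (.leaf ((nat_lit 671), [nat_lit 0, nat_lit 3, nat_lit 0])) (.leaf ((nat_lit 672), [nat_lit 1])))))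
 (.node (nat_lit 1605) (.node (nat_lit 1603) (.leaf ((nat_lit 669), [nat_lit 3])) (.node (nat_lit 1604) (.leaf ((nat_lit 69), [nat_lit 3, nat_lit 0])) (.leaf ((nat_lit 670), [nat_lit 1, nat_lit 3, nat_lit 0])))) (.node (nat_lit 1606) (.leaf ((nat_lit 70), [nat_lit 1, nat_lit 2])) (.node (nat_lit 1607) (.leaf ((nat_lit 69), [nat_lit 2, nat_lit 0])) (.leaf ((nat_lit 673), [nat_lit 2]))))))
 (.node (nat_lit 1614) (.node (nat_lit 1611) (.node (nat_lit 1609) (.leaf ((nat_lit 640), [nat_lit 3])) (.node (nat_lit 1610) (.leaf ((nat_lit 670), [nat_lit 1, nat_lit 3, nat_lit 1])) (.leaf ((nat_lit 69), [nat_lit 3, nat_lit 1])))) (.node (nat_lit 1612) (.leaf ((nat_lit 395), [nat_lit 0])) (.node (nat_lit 1613) (.leaf ((nat_lit 674), [nat_lit 2, nat_lit 1])) (.leaf ((nat_lit 402), [nat_lit 1])))))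
 (.node (nat_lit 1617) (.node (nat_lit 1615) (.leaf ((nat_lit 517), [nat_lit 1, nat_lit 2, nat_lit 1])) (.node (nat_lit 1616) (.leaf ((nat_lit 602), [nat_lit 1, nat_lit 2])) (.leaf ((nat_lit 136), [])))) (.node (nat_lit 1618) (.leaf ((nat_lit 246), [nat_lit 0])) (.node (nat_lit 1619) (.leaf ((nat_lit 245), [nat_lit 3, nat_lit 0])) (.leaf ((nat_lit 70), [nat_lit 0, nat_lit 3]))))))))))
noncomputable def n1Wd_9 : Tr (ℕ × List ℕ) := (.node (nat_lit 1710) (.node (nat_lit 1665) (.node (nat_lit 1642) (.node (nat_lit 1631) (.node (nat_lit 1625) (.node (nat_lit 1622) (.node (nat_lit 1621) (.leaf ((nat_lit 72), [nat_lit 0, nat_lit 2, nat_lit 0])) (.leaf ((nat_lit 71), [nat_lit 1, nat_lit 3]))) (.node (nat_lit 1623) (.leaf ((nat_lit 675), [nat_lit 3, nat_lit 0])) (.node (nat_lit 1624) (.leaf ((nat_lit 124), [nat_lit 1, nat_lit 2, nat_lit 1])) (.leaf ((nat_lit 123), [nat_lit 3, nat_lit 1])))))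
 (.node (nat_lit 1628) (.node (nat_lit 1626) (.leaf ((nat_lit 446), [nat_lit 1, nat_lit 3, nat_lit 0])) (.node (nat_lit 1627) (.leaf ((nat_lit 73), [nat_lit 0, nat_lit 2])) (.leaf ((nat_lit 675), [nat_lit 1, nat_lit 3])))) (.node (nat_lit 1629) (.leaf ((nat_lit 71), [nat_lit 1, nat_lit 2, nat_lit 1])) (.node (nat_lit 1630) (.leaf ((nat_lit 363), [nat_lit 0, nat_lit 3, nat_lit 0])) (.leaf ((nat_lit 676), [nat_lit 1, nat_lit 3]))))))
 (.node (nat_lit 1636) (.node (nat_lit 1633) (.node (nat_lit 1632) (.leaf ((nat_lit 398), [nat_lit 0, nat_lit 3, nat_lit 1])) (.leaf ((nat_lit 492), [nat_lit 0, nat_lit 3]))) (.node (nat_lit 1634) (.leaf ((nat_lit 677), [])) (.node (nat_lit 1635) (.leaf ((nat_lit 87), [nat_lit 0, nat_lit 3])) (.leaf ((nat_lit 71), [nat_lit 1, nat_lit 2])))))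
 (.node (nat_lit 1639) (.node (nat_lit 1637) (.leaf ((nat_lit 678), [nat_lit 2, nat_lit 1])) (.node (nat_lit 1638) (.leaf ((nat_lit 679), [nat_lit 0])) (.leaf ((nat_lit 318), [nat_lit 3])))) (.node (nat_lit 1640) (.leaf ((nat_lit 341), [])) (.node (nat_lit 1641) (.leaf ((nat_lit 212), [nat_lit 1, nat_lit 3, nat_lit 1])) (.leaf ((nat_lit 678), [nat_lit 1, nat_lit 2])))))))
 (.node (nat_lit 1653) (.node (nat_lit 1647) (.node (nat_lit 1644) (.node (nat_lit 1643) (.leaf ((nat_lit 71), [nat_lit 1, nat_lit 3, nat_lit 1])) (.leaf ((nat_lit 151), [nat_lit 1, nat_lit 3, nat_lit 1]))) (.node (nat_lit 1645) (.leaf ((nat_lit 680), [nat_lit 1, nat_lit 3, nat_lit 0])) (.node (nat_lit 1646) (.leaf ((nat_lit 284), [nat_lit 0, nat_lit 3, nat_lit 1])) (.leaf ((nat_lit 283), [nat_lit 0, nat_lit 2, nat_lit 0])))))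
 (.node (nat_lit 1650) (.node (nat_lit 1648) (.leaf ((nat_lit 117), [nat_lit 1, nat_lit 3, nat_lit 1])) (.node (nat_lit 1649) (.leaf ((nat_lit 116), [nat_lit 3, nat_lit 1])) (.leaf ((nat_lit 71), [nat_lit 2])))) (.node (nat_lit 1651) (.leaf ((nat_lit 675), [nat_lit 0, nat_lit 2, nat_lit 1])) (.node (nat_lit 1652) (.leaf ((nat_lit 73), [nat_lit 2, nat_lit 0])) (.leaf ((nat_lit 72), [nat_lit 1, nat_lit 3]))))))
 (.node (nat_lit 1659) (.node (nat_lit 1656) (.node (nat_lit 1654) (.leaf ((nat_lit 231), [nat_lit 0, nat_lit 2, nat_lit 0])) (.node (nat_lit 1655) (.leaf ((nat_lit 492), [nat_lit 0])) (.leaf ((nat_lit 681), [nat_lit 0])))) (.node (nat_lit 1657) (.leaf ((nat_lit 682), [nat_lit 2, nat_lit 1])) (.node (nat_lit 1658) (.leaf ((nat_lit 464), [nat_lit 0, nat_lit 3, nat_lit 1])) (.leaf ((nat_lit 522), [nat_lit 2, nat_lit 0])))))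
 (.node (nat_lit 1662) (.node (nat_lit 1660) (.leaf ((nat_lit 607), [nat_lit 3, nat_lit 0])) (.node (nat_lit 1661) (.leaf ((nat_lit 72), [nat_lit 0])) (.leaf ((nat_lit 488), [nat_lit 1, nat_lit 2, nat_lit 1])))) (.node (nat_lit 1663) (.leaf ((nat_lit 291), [nat_lit 2, nat_lit 1])) (.node (nat_lit 1664) (.leaf ((nat_lit 234), [nat_lit 2, nat_lit 0])) (.leaf ((nat_lit 93), [nat_lit 2, nat_lit 1]))))))))
 (.node (nat_lit 1687) (.node (nat_lit 1676) (.node (nat_lit 1670) (.node (nat_lit 1667) (.node (nat_lit 1666) (.leaf ((nat_lit 73), [nat_lit 0])) (.leaf ((nat_lit 626), [nat_lit 1, nat_lit 3]))) (.node (nat_lit 1668) (.leaf ((nat_lit 330), [nat_lit 3, nat_lit 0])) (.node (nat_lit 1669) (.leaf ((nat_lit 683), [nat_lit 1, nat_lit 2])) (.leaf ((nat_lit 684), [nat_lit 0, nat_lit 2, nat_lit 0])))))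
 (.node (nat_lit 1673) (.node (nat_lit 1671) (.leaf ((nat_lit 462), [nat_lit 0, nat_lit 2])) (.node (nat_lit 1672) (.leaf ((nat_lit 626), [nat_lit 1, nat_lit 2, nat_lit 0])) (.leaf ((nat_lit 73), [nat_lit 0, nat_lit 3, nat_lit 0])))) (.node (nat_lit 1674) (.leaf ((nat_lit 685), [nat_lit 0])) (.node (nat_lit 1675) (.leaf ((nat_lit 398), [nat_lit 0, nat_lit 3, nat_lit 1])) (.leaf ((nat_lit 366), [nat_lit 0]))))))
 (.node (nat_lit 1681) (.node (nat_lit 1678) (.node (nat_lit 1677) (.leaf ((nat_lit 425), [nat_lit 0, nat_lit 3])) (.leaf ((nat_lit 127), [nat_lit 3]))) (.node (nat_lit 1679) (.leaf ((nat_lit 126), [nat_lit 0, nat_lit 3])) (.node (nat_lit 1680) (.leaf ((nat_lit 73), [nat_lit 2])) (.leaf ((nat_lit 74), [nat_lit 1])))))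
 (.node (nat_lit 1684) (.node (nat_lit 1682) (.leaf ((nat_lit 447), [nat_lit 0, nat_lit 2, nat_lit 0])) (.node (nat_lit 1683) (.leaf ((nat_lit 320), [nat_lit 3])) (.leaf ((nat_lit 675), [nat_lit 2, nat_lit 0])))) (.node (nat_lit 1685) (.leaf ((nat_lit 686), [nat_lit 2, nat_lit 1])) (.node (nat_lit 1686) (.leaf ((nat_lit 687), [nat_lit 1, nat_lit 3])) (.leaf ((nat_lit 688), [nat_lit 0])))))))
 (.node (nat_lit 1698) (.node (nat_lit 1692) (.node (nat_lit 1689) (.node (nat_lit 1688) (.leaf ((nat_lit 491), [nat_lit 0, nat_lit 3, nat_lit 1])) (.leaf ((nat_lit 490), [nat_lit 3]))) (.node (nat_lit 1690) (.leaf ((nat_lit 433), [nat_lit 1, nat_lit 3, nat_lit 0])) (.node (nat_lit 1691) (.leaf ((nat_lit 230), [nat_lit 0, nat_lit 2, nat_lit 1])) (.leaf ((nat_lit 74), [nat_lit 3, nat_lit 0])))))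
 (.node (nat_lit 1695) (.node (nat_lit 1693) (.leaf ((nat_lit 75), [nat_lit 0, nat_lit 3, nat_lit 0])) (.node (nat_lit 1694) (.leaf ((nat_lit 500), [nat_lit 1, nat_lit 2, nat_lit 0])) (.leaf ((nat_lit 689), [nat_lit 3])))) (.node (nat_lit 1696) (.leaf ((nat_lit 690), [nat_lit 2, nat_lit 1])) (.node (nat_lit 1697) (.leaf ((nat_lit 691), [nat_lit 1, nat_lit 3])) (.leaf ((nat_lit 692), [nat_lit 0, nat_lit 2, nat_lit 0]))))))
 (.node (nat_lit 1704) (.node (nat_lit 1701) (.node (nat_lit 1699) (.leaf ((nat_lit 500), [nat_lit 1, nat_lit 2, nat_lit 0])) (.node (nat_lit 1700) (.leaf ((nat_lit 75), [nat_lit 0, nat_lit 3, nat_lit 0])) (.leaf ((nat_lit 274), [nat_lit 1, nat_lit 3, nat_lit 1])))) (.node (nat_lit 1702) (.leaf ((nat_lit 693), [nat_lit 2])) (.node (nat_lit 1703) (.leaf ((nat_lit 345), [nat_lit 0, nat_lit 3])) (.leaf ((nat_lit 694), [nat_lit 0, nat_lit 2, nat_lit 1])))))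
 (.node (nat_lit 1707) (.node (nat_lit 1705) (.leaf ((nat_lit 689), [])) (.node (nat_lit 1706) (.leaf ((nat_lit 274), [nat_lit 0, nat_lit 2, nat_lit 1])) (.leaf ((nat_lit 75), [nat_lit 1, nat_lit 3, nat_lit 0])))) (.node (nat_lit 1708) (.leaf ((nat_lit 316), [nat_lit 3, nat_lit 0])) (.node (nat_lit 1709) (.leaf ((nat_lit 695), [nat_lit 3])) (.leaf ((nat_lit 696), [nat_lit 0, nat_lit 2])))))))))
 (.node (nat_lit 1755) (.node (nat_lit 1732) (.node (nat_lit 1721) (.node (nat_lit 1715) (.node (nat_lit 1712) (.node (nat_lit 1711) (.leaf ((nat_lit 697), [nat_lit 3])) (.leaf ((nat_lit 404), [nat_lit 1]))) (.node (nat_lit 1713) (.leaf ((nat_lit 698), [nat_lit 1])) (.node (nat_lit 1714) (.leaf ((nat_lit 75), [nat_lit 1, nat_lit 3])) (.leaf ((nat_lit 625), [nat_lit 1, nat_lit 2])))))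
 (.node (nat_lit 1718) (.node (nat_lit 1716) (.leaf ((nat_lit 699), [nat_lit 3, nat_lit 1])) (.node (nat_lit 1717) (.leaf ((nat_lit 316), [])) (.leaf ((nat_lit 315), [nat_lit 2, nat_lit 1])))) (.node (nat_lit 1719) (.leaf ((nat_lit 700), [])) (.node (nat_lit 1720) (.leaf ((nat_lit 625), [nat_lit 1, nat_lit 2])) (.leaf ((nat_lit 75), [nat_lit 1, nat_lit 3]))))))
 (.node (nat_lit 1726) (.node (nat_lit 1723) (.node (nat_lit 1722) (.leaf ((nat_lit 229), [nat_lit 1, nat_lit 3, nat_lit 1])) (.leaf ((nat_lit 78), [nat_lit 3, nat_lit 0]))) (.node (nat_lit 1724) (.leaf ((nat_lit 152), [nat_lit 2, nat_lit 0])) (.node (nat_lit 1725) (.leaf ((nat_lit 76), [nat_lit 1, nat_lit 3, nat_lit 0])) (.leaf ((nat_lit 603), [nat_lit 1, nat_lit 2, nat_lit 0])))))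
 (.node (nat_lit 1729) (.node (nat_lit 1727) (.leaf ((nat_lit 184), [nat_lit 1, nat_lit 3, nat_lit 0])) (.node (nat_lit 1728) (.leaf ((nat_lit 701), [nat_lit 1, nat_lit 2])) (.leaf ((nat_lit 231), [])))) (.node (nat_lit 1730) (.leaf ((nat_lit 227), [nat_lit 1, nat_lit 3])) (.node (nat_lit 1731) (.leaf ((nat_lit 226), [])) (.leaf ((nat_lit 76), [nat_lit 0, nat_lit 2])))))))
 (.node (nat_lit 1743) (.node (nat_lit 1737) (.node (nat_lit 1734) (.node (nat_lit 1733) (.leaf ((nat_lit 702), [nat_lit 3, nat_lit 1])) (.leaf ((nat_lit 473), [nat_lit 0, nat_lit 2]))) (.node (nat_lit 1735) (.leaf ((nat_lit 372), [nat_lit 2])) (.node (nat_lit 1736) (.leaf ((nat_lit 371), [nat_lit 2])) (.leaf ((nat_lit 186), [])))))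
 (.node (nat_lit 1740) (.node (nat_lit 1738) (.leaf ((nat_lit 702), [nat_lit 2, nat_lit 0])) (.node (nat_lit 1739) (.leaf ((nat_lit 76), [nat_lit 1, nat_lit 2])) (.leaf ((nat_lit 703), [nat_lit 2, nat_lit 1])))) (.node (nat_lit 1741) (.leaf ((nat_lit 148), [nat_lit 0, nat_lit 3, nat_lit 0])) (.node (nat_lit 1742) (.leaf ((nat_lit 147), [nat_lit 3, nat_lit 0])) (.leaf ((nat_lit 704), [nat_lit 2, nat_lit 1]))))))
 (.node (nat_lit 1749) (.node (nat_lit 1746) (.node (nat_lit 1744) (.leaf ((nat_lit 612), [nat_lit 3, nat_lit 1])) (.node (nat_lit 1745) (.leaf ((nat_lit 705), [nat_lit 0, nat_lit 2, nat_lit 0])) (.leaf ((nat_lit 76), [nat_lit 1, nat_lit 3, nat_lit 0])))) (.node (nat_lit 1747) (.leaf ((nat_lit 277), [nat_lit 0, nat_lit 3])) (.node (nat_lit 1748) (.leaf ((nat_lit 463), [nat_lit 3, nat_lit 0])) (.leaf ((nat_lit 172), [nat_lit 2])))))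
 (.node (nat_lit 1752) (.node (nat_lit 1750) (.leaf ((nat_lit 77), [nat_lit 0, nat_lit 2, nat_lit 0])) (.node (nat_lit 1751) (.leaf ((nat_lit 613), [])) (.leaf ((nat_lit 452), [nat_lit 1, nat_lit 3])))) (.node (nat_lit 1753) (.leaf ((nat_lit 424), [nat_lit 2, nat_lit 1])) (.node (nat_lit 1754) (.leaf ((nat_lit 555), [nat_lit 1, nat_lit 2, nat_lit 1])) (.leaf ((nat_lit 421), [nat_lit 2, nat_lit 1]))))))))
 (.node (nat_lit 1777) (.node (nat_lit 1766) (.node (nat_lit 1760) (.node (nat_lit 1757) (.node (nat_lit 1756) (.leaf ((nat_lit 374), [nat_lit 1])) (.leaf ((nat_lit 209), [nat_lit 0, nat_lit 2]))) (.node (nat_lit 1758) (.leaf ((nat_lit 77), [nat_lit 3])) (.node (nat_lit 1759) (.leaf ((nat_lit 124), [nat_lit 2, nat_lit 0])) (.leaf ((nat_lit 89), [nat_lit 0])))))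
 (.node (nat_lit 1763) (.node (nat_lit 1761) (.leaf ((nat_lit 527), [nat_lit 3, nat_lit 1])) (.node (nat_lit 1762) (.leaf ((nat_lit 78), [nat_lit 1])) (.leaf ((nat_lit 111), [nat_lit 0, nat_lit 2, nat_lit 0])))) (.node (nat_lit 1764) (.leaf ((nat_lit 706), [nat_lit 1, nat_lit 2, nat_lit 1])) (.node (nat_lit 1765) (.leaf ((nat_lit 79), [nat_lit 1])) (.leaf ((nat_lit 621), [nat_lit 1, nat_lit 2, nat_lit 0]))))))
 (.node (nat_lit 1771) (.node (nat_lit 1768) (.node (nat_lit 1767) (.leaf ((nat_lit 707), [nat_lit 2, nat_lit 0])) (.leaf ((nat_lit 251), [nat_lit 1, nat_lit 2, nat_lit 0]))) (.node (nat_lit 1769) (.leaf ((nat_lit 708), [nat_lit 1, nat_lit 3, nat_lit 0])) (.node (nat_lit 1770) (.leaf ((nat_lit 709), [nat_lit 0, nat_lit 3, nat_lit 1])) (.leaf ((nat_lit 621), [])))))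
 (.node (nat_lit 1774) (.node (nat_lit 1772) (.leaf ((nat_lit 79), [nat_lit 0, nat_lit 3, nat_lit 0])) (.node (nat_lit 1773) (.leaf ((nat_lit 495), [nat_lit 0])) (.leaf ((nat_lit 470), [nat_lit 3])))) (.node (nat_lit 1775) (.leaf ((nat_lit 710), [nat_lit 1, nat_lit 2, nat_lit 0])) (.node (nat_lit 1776) (.leaf ((nat_lit 711), [nat_lit 1, nat_lit 2])) (.leaf ((nat_lit 707), [nat_lit 1, nat_lit 2])))))))
 (.node (nat_lit 1788) (.node (nat_lit 1782) (.node (nat_lit 1779) (.node (nat_lit 1778) (.leaf ((nat_lit 495), [nat_lit 1, nat_lit 2])) (.leaf ((nat_lit 79), [nat_lit 2, nat_lit 1]))) (.node (nat_lit 1780) (.leaf ((nat_lit 505), [nat_lit 3, nat_lit 0])) (.node (nat_lit 1781) (.leaf ((nat_lit 712), [nat_lit 0, nat_lit 2, nat_lit 0])) (.leaf ((nat_lit 667), [nat_lit 3])))))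
 (.node (nat_lit 1785) (.node (nat_lit 1783) (.leaf ((nat_lit 578), [nat_lit 1, nat_lit 3, nat_lit 1])) (.node (nat_lit 1784) (.leaf ((nat_lit 713), [nat_lit 3])) (.leaf ((nat_lit 714), [nat_lit 2, nat_lit 1])))) (.node (nat_lit 1786) (.leaf ((nat_lit 79), [nat_lit 0, nat_lit 3])) (.node (nat_lit 1787) (.leaf ((nat_lit 715), [nat_lit 2, nat_lit 1])) (.leaf ((nat_lit 137), [nat_lit 0, nat_lit 3]))))))
 (.node (nat_lit 1794) (.node (nat_lit 1791) (.node (nat_lit 1789) (.leaf ((nat_lit 623), [nat_lit 1])) (.node (nat_lit 1790) (.leaf ((nat_lit 622), [nat_lit 3, nat_lit 0])) (.leaf ((nat_lit 693), [nat_lit 1])))) (.node (nat_lit 1792) (.leaf ((nat_lit 715), [nat_lit 0, nat_lit 3])) (.node (nat_lit 1793) (.leaf ((nat_lit 79), [nat_lit 0, nat_lit 2, nat_lit 0])) (.leaf ((nat_lit 716), [])))))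
 (.node (nat_lit 1797) (.node (nat_lit 1795) (.leaf ((nat_lit 81), [nat_lit 3])) (.node (nat_lit 1796) (.leaf ((nat_lit 80), [nat_lit 0, nat_lit 2, nat_lit 1])) (.leaf ((nat_lit 496), [nat_lit 2, nat_lit 0])))) (.node (nat_lit 1798) (.leaf ((nat_lit 717), [nat_lit 0, nat_lit 3])) (.node (nat_lit 1799) (.leaf ((nat_lit 500), [nat_lit 0, nat_lit 3])) (.leaf ((nat_lit 620), [nat_lit 0, nat_lit 3, nat_lit 0]))))))))))
noncomputable def n1Wd_10 : Tr (ℕ × List ℕ) := (.node (nat_lit 1890) (.node (nat_lit 1845) (.node (nat_lit 1822) (.node (nat_lit 1811) (.node (nat_lit 1805) (.node (nat_lit 1802) (.node (nat_lit 1801) (.leaf ((nat_lit 82), [])) (.leaf ((nat_lit 496), [nat_lit 1, nat_lit 2, nat_lit 0]))) (.node (nat_lit 1803) (.leaf ((nat_lit 80), [nat_lit 0, nat_lit 3])) (.node (nat_lit 1804) (.leaf ((nat_lit 718), [nat_lit 2])) (.leaf ((nat_lit 506), [nat_lit 0, nat_lit 2, nat_lit 1])))))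
 (.node (nat_lit 1808) (.node (nat_lit 1806) (.leaf ((nat_lit 719), [nat_lit 0, nat_lit 2, nat_lit 0])) (.node (nat_lit 1807) (.leaf ((nat_lit 495), [])) (.leaf ((nat_lit 707), [])))) (.node (nat_lit 1809) (.leaf ((nat_lit 621), [nat_lit 1])) (.node (nat_lit 1810) (.leaf ((nat_lit 80), [nat_lit 0, nat_lit 2, nat_lit 1])) (.leaf ((nat_lit 720), [nat_lit 1, nat_lit 2]))))))
 (.node (nat_lit 1816) (.node (nat_lit 1813) (.node (nat_lit 1812) (.leaf ((nat_lit 721), [nat_lit 3, nat_lit 1])) (.leaf ((nat_lit 722), [nat_lit 2]))) (.node (nat_lit 1814) (.leaf ((nat_lit 691), [nat_lit 1])) (.node (nat_lit 1815) (.leaf ((nat_lit 370), [nat_lit 2])) (.leaf ((nat_lit 720), [nat_lit 1, nat_lit 2, nat_lit 1])))))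
 (.node (nat_lit 1819) (.node (nat_lit 1817) (.leaf ((nat_lit 80), [nat_lit 0, nat_lit 2, nat_lit 0])) (.node (nat_lit 1818) (.leaf ((nat_lit 723), [nat_lit 1, nat_lit 2, nat_lit 0])) (.leaf ((nat_lit 724), [nat_lit 0, nat_lit 2, nat_lit 1])))) (.node (nat_lit 1820) (.leaf ((nat_lit 725), [])) (.node (nat_lit 1821) (.leaf ((nat_lit 726), [nat_lit 0])) (.leaf ((nat_lit 727), [nat_lit 2, nat_lit 1])))))))
 (.node (nat_lit 1833) (.node (nat_lit 1827) (.node (nat_lit 1824) (.node (nat_lit 1823) (.leaf ((nat_lit 721), [nat_lit 0, nat_lit 2, nat_lit 1])) (.leaf ((nat_lit 80), [nat_lit 1, nat_lit 2]))) (.node (nat_lit 1825) (.leaf ((nat_lit 681), [nat_lit 1, nat_lit 2, nat_lit 1])) (.node (nat_lit 1826) (.leaf ((nat_lit 728), [nat_lit 0, nat_lit 2, nat_lit 0])) (.leaf ((nat_lit 729), [nat_lit 1, nat_lit 3, nat_lit 0])))))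
 (.node (nat_lit 1830) (.node (nat_lit 1828) (.leaf ((nat_lit 81), [])) (.node (nat_lit 1829) (.leaf ((nat_lit 730), [nat_lit 1, nat_lit 2])) (.leaf ((nat_lit 731), [nat_lit 0, nat_lit 3])))) (.node (nat_lit 1831) (.leaf ((nat_lit 732), [])) (.node (nat_lit 1832) (.leaf ((nat_lit 343), [nat_lit 1, nat_lit 2, nat_lit 0])) (.leaf ((nat_lit 733), [nat_lit 1, nat_lit 3]))))))
 (.node (nat_lit 1839) (.node (nat_lit 1836) (.node (nat_lit 1834) (.leaf ((nat_lit 730), [nat_lit 2, nat_lit 1])) (.node (nat_lit 1835) (.leaf ((nat_lit 81), [nat_lit 0, nat_lit 3])) (.leaf ((nat_lit 610), [nat_lit 2, nat_lit 0])))) (.node (nat_lit 1837) (.leaf ((nat_lit 594), [nat_lit 2, nat_lit 0])) (.node (nat_lit 1838) (.leaf ((nat_lit 437), [nat_lit 1, nat_lit 2, nat_lit 0])) (.leaf ((nat_lit 262), [nat_lit 1, nat_lit 2, nat_lit 0])))))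
 (.node (nat_lit 1842) (.node (nat_lit 1840) (.leaf ((nat_lit 734), [nat_lit 0, nat_lit 3])) (.node (nat_lit 1841) (.leaf ((nat_lit 667), [nat_lit 0, nat_lit 3, nat_lit 0])) (.leaf ((nat_lit 81), [nat_lit 2, nat_lit 1])))) (.node (nat_lit 1843) (.leaf ((nat_lit 163), [nat_lit 0, nat_lit 2, nat_lit 0])) (.node (nat_lit 1844) (.leaf ((nat_lit 498), [nat_lit 3])) (.leaf ((nat_lit 703), [nat_lit 3, nat_lit 1]))))))))
 (.node (nat_lit 1867) (.node (nat_lit 1856) (.node (nat_lit 1850) (.node (nat_lit 1847) (.node (nat_lit 1846) (.leaf ((nat_lit 82), [nat_lit 0, nat_lit 3])) (.leaf ((nat_lit 174), [nat_lit 0, nat_lit 3, nat_lit 0]))) (.node (nat_lit 1848) (.leaf ((nat_lit 735), [nat_lit 2, nat_lit 0])) (.node (nat_lit 1849) (.leaf ((nat_lit 736), [nat_lit 0, nat_lit 3, nat_lit 1])) (.leaf ((nat_lit 174), [nat_lit 2, nat_lit 1])))))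
 (.node (nat_lit 1853) (.node (nat_lit 1851) (.leaf ((nat_lit 521), [nat_lit 1, nat_lit 3, nat_lit 1])) (.node (nat_lit 1852) (.leaf ((nat_lit 174), [nat_lit 3])) (.leaf ((nat_lit 82), [nat_lit 0, nat_lit 2, nat_lit 1])))) (.node (nat_lit 1854) (.leaf ((nat_lit 538), [])) (.node (nat_lit 1855) (.leaf ((nat_lit 737), [nat_lit 1, nat_lit 2, nat_lit 0])) (.leaf ((nat_lit 674), []))))))
 (.node (nat_lit 1861) (.node (nat_lit 1858) (.node (nat_lit 1857) (.leaf ((nat_lit 711), [])) (.leaf ((nat_lit 660), [nat_lit 1, nat_lit 2, nat_lit 1]))) (.node (nat_lit 1859) (.leaf ((nat_lit 711), [nat_lit 3])) (.node (nat_lit 1860) (.leaf ((nat_lit 82), [nat_lit 1, nat_lit 3, nat_lit 1])) (.leaf ((nat_lit 83), [nat_lit 1, nat_lit 2, nat_lit 1])))))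
 (.node (nat_lit 1864) (.node (nat_lit 1862) (.leaf ((nat_lit 194), [nat_lit 1, nat_lit 2])) (.node (nat_lit 1863) (.leaf ((nat_lit 193), [nat_lit 1, nat_lit 2])) (.leaf ((nat_lit 738), [nat_lit 0, nat_lit 3])))) (.node (nat_lit 1865) (.leaf ((nat_lit 739), [nat_lit 2, nat_lit 0])) (.node (nat_lit 1866) (.leaf ((nat_lit 740), [nat_lit 1, nat_lit 2])) (.leaf ((nat_lit 194), [nat_lit 1, nat_lit 3])))))))
 (.node (nat_lit 1878) (.node (nat_lit 1872) (.node (nat_lit 1869) (.node (nat_lit 1868) (.leaf ((nat_lit 83), [nat_lit 0, nat_lit 2, nat_lit 0])) (.leaf ((nat_lit 192), [nat_lit 1, nat_lit 3, nat_lit 1]))) (.node (nat_lit 1870) (.leaf ((nat_lit 728), [nat_lit 1])) (.node (nat_lit 1871) (.leaf ((nat_lit 114), [nat_lit 1])) (.leaf ((nat_lit 741), [nat_lit 0, nat_lit 3, nat_lit 0])))))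
 (.node (nat_lit 1875) (.node (nat_lit 1873) (.leaf ((nat_lit 193), [nat_lit 0, nat_lit 2, nat_lit 0])) (.node (nat_lit 1874) (.leaf ((nat_lit 192), [nat_lit 3])) (.leaf ((nat_lit 83), [nat_lit 0, nat_lit 3, nat_lit 1])))) (.node (nat_lit 1876) (.leaf ((nat_lit 742), [nat_lit 1, nat_lit 2])) (.node (nat_lit 1877) (.leaf ((nat_lit 549), [])) (.leaf ((nat_lit 394), [nat_lit 0, nat_lit 2, nat_lit 1]))))))
 (.node (nat_lit 1884) (.node (nat_lit 1881) (.node (nat_lit 1879) (.leaf ((nat_lit 358), [nat_lit 1, nat_lit 2, nat_lit 0])) (.node (nat_lit 1880) (.leaf ((nat_lit 117), [nat_lit 1, nat_lit 3, nat_lit 0])) (.leaf ((nat_lit 672), [nat_lit 1, nat_lit 3, nat_lit 0])))) (.node (nat_lit 1882) (.leaf ((nat_lit 84), [nat_lit 3, nat_lit 0])) (.node (nat_lit 1883) (.leaf ((nat_lit 83), [nat_lit 1])) (.leaf ((nat_lit 430), [nat_lit 1, nat_lit 3, nat_lit 0])))))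
 (.node (nat_lit 1887) (.node (nat_lit 1885) (.leaf ((nat_lit 460), [nat_lit 0, nat_lit 2])) (.node (nat_lit 1886) (.leaf ((nat_lit 459), [nat_lit 0, nat_lit 2, nat_lit 1])) (.leaf ((nat_lit 232), [nat_lit 0, nat_lit 3, nat_lit 1])))) (.node (nat_lit 1888) (.leaf ((nat_lit 399), [nat_lit 3, nat_lit 0])) (.node (nat_lit 1889) (.leaf ((nat_lit 197), [nat_lit 1, nat_lit 3, nat_lit 1])) (.leaf ((nat_lit 83), [nat_lit 3])))))))))
 (.node (nat_lit 1935) (.node (nat_lit 1912) (.node (nat_lit 1901) (.node (nat_lit 1895) (.node (nat_lit 1892) (.node (nat_lit 1891) (.leaf ((nat_lit 84), [nat_lit 1, nat_lit 2, nat_lit 1])) (.leaf ((nat_lit 286), [nat_lit 0, nat_lit 3]))) (.node (nat_lit 1893) (.leaf ((nat_lit 574), [nat_lit 2])) (.node (nat_lit 1894) (.leaf ((nat_lit 149), [nat_lit 1, nat_lit 3, nat_lit 1])) (.leaf ((nat_lit 94), [nat_lit 2])))))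
 (.node (nat_lit 1898) (.node (nat_lit 1896) (.leaf ((nat_lit 743), [nat_lit 0, nat_lit 2, nat_lit 1])) (.node (nat_lit 1897) (.leaf ((nat_lit 286), [])) (.leaf ((nat_lit 84), [nat_lit 0, nat_lit 2])))) (.node (nat_lit 1899) (.leaf ((nat_lit 744), [nat_lit 0, nat_lit 3])) (.node (nat_lit 1900) (.leaf ((nat_lit 284), [nat_lit 1, nat_lit 2])) (.leaf ((nat_lit 343), [nat_lit 3, nat_lit 1]))))))
 (.node (nat_lit 1906) (.node (nat_lit 1903) (.node (nat_lit 1902) (.leaf ((nat_lit 745), [nat_lit 0, nat_lit 2, nat_lit 1])) (.leaf ((nat_lit 574), [nat_lit 0, nat_lit 3, nat_lit 0]))) (.node (nat_lit 1904) (.leaf ((nat_lit 744), [nat_lit 2, nat_lit 1])) (.node (nat_lit 1905) (.leaf ((nat_lit 84), [nat_lit 2, nat_lit 0])) (.leaf ((nat_lit 622), [nat_lit 2, nat_lit 1])))))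
 (.node (nat_lit 1909) (.node (nat_lit 1907) (.leaf ((nat_lit 521), [nat_lit 0, nat_lit 3, nat_lit 0])) (.node (nat_lit 1908) (.leaf ((nat_lit 746), [nat_lit 3, nat_lit 0])) (.leaf ((nat_lit 273), [nat_lit 2])))) (.node (nat_lit 1910) (.leaf ((nat_lit 136), [nat_lit 0, nat_lit 3, nat_lit 1])) (.node (nat_lit 1911) (.leaf ((nat_lit 602), [nat_lit 2, nat_lit 0])) (.leaf ((nat_lit 155), [nat_lit 1, nat_lit 2, nat_lit 1])))))))
 (.node (nat_lit 1923) (.node (nat_lit 1917) (.node (nat_lit 1914) (.node (nat_lit 1913) (.leaf ((nat_lit 716), [nat_lit 1, nat_lit 3, nat_lit 0])) (.leaf ((nat_lit 84), [nat_lit 3]))) (.node (nat_lit 1915) (.leaf ((nat_lit 90), [nat_lit 3, nat_lit 0])) (.node (nat_lit 1916) (.leaf ((nat_lit 86), [nat_lit 1, nat_lit 3, nat_lit 1])) (.leaf ((nat_lit 85), [nat_lit 0, nat_lit 2])))))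
 (.node (nat_lit 1920) (.node (nat_lit 1918) (.leaf ((nat_lit 434), [nat_lit 1, nat_lit 2, nat_lit 1])) (.node (nat_lit 1919) (.leaf ((nat_lit 747), [nat_lit 0, nat_lit 3])) (.leaf ((nat_lit 748), [nat_lit 1, nat_lit 3])))) (.node (nat_lit 1921) (.leaf ((nat_lit 140), [nat_lit 1, nat_lit 2, nat_lit 0])) (.node (nat_lit 1922) (.leaf ((nat_lit 139), [nat_lit 1, nat_lit 3, nat_lit 0])) (.leaf ((nat_lit 280), [nat_lit 2]))))))
 (.node (nat_lit 1929) (.node (nat_lit 1926) (.node (nat_lit 1924) (.leaf ((nat_lit 85), [nat_lit 0, nat_lit 3, nat_lit 1])) (.node (nat_lit 1925) (.leaf ((nat_lit 749), [nat_lit 0, nat_lit 3])) (.leaf ((nat_lit 202), [nat_lit 1, nat_lit 3, nat_lit 0])))) (.node (nat_lit 1927) (.leaf ((nat_lit 328), [nat_lit 1, nat_lit 3, nat_lit 0])) (.node (nat_lit 1928) (.leaf ((nat_lit 465), [nat_lit 0, nat_lit 3, nat_lit 0])) (.leaf ((nat_lit 185), [nat_lit 1, nat_lit 3,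 nat_lit 0])))))
 (.node (nat_lit 1932) (.node (nat_lit 1930) (.leaf ((nat_lit 749), [nat_lit 1, nat_lit 3, nat_lit 1])) (.node (nat_lit 1931) (.leaf ((nat_lit 85), [nat_lit 1])) (.leaf ((nat_lit 357), [nat_lit 0, nat_lit 3])))) (.node (nat_lit 1933) (.leaf ((nat_lit 520), [nat_lit 3, nat_lit 0])) (.node (nat_lit 1934) (.leaf ((nat_lit 750), [nat_lit 1, nat_lit 3, nat_lit 1])) (.leaf ((nat_lit 363), [nat_lit 0, nat_lit 2]))))))))
 (.node (nat_lit 1957) (.node (nat_lit 1946) (.node (nat_lit 1940) (.node (nat_lit 1937) (.node (nat_lit 1936) (.leaf ((nat_lit 86), [nat_lit 1, nat_lit 2, nat_lit 1])) (.leaf ((nat_lit 751), [nat_lit 0, nat_lit 3]))) (.node (nat_lit 1938) (.leaf ((nat_lit 733), [nat_lit 0, nat_lit 2, nat_lit 0])) (.node (nat_lit 1939) (.leaf ((nat_lit 723), [nat_lit 2])) (.leaf ((nat_lit 752), [nat_lit 0, nat_lit 2, nat_lit 0])))))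
 (.node (nat_lit 1943) (.node (nat_lit 1941) (.leaf ((nat_lit 443), [nat_lit 2])) (.node (nat_lit 1942) (.leaf ((nat_lit 751), [nat_lit 1, nat_lit 3, nat_lit 0])) (.leaf ((nat_lit 86), [nat_lit 1, nat_lit 3])))) (.node (nat_lit 1944) (.leaf ((nat_lit 347), [nat_lit 3, nat_lit 1])) (.node (nat_lit 1945) (.leaf ((nat_lit 753), [nat_lit 0])) (.leaf ((nat_lit 695), [nat_lit 0, nat_lit 2]))))))
 (.node (nat_lit 1951) (.node (nat_lit 1948) (.node (nat_lit 1947) (.leaf ((nat_lit 512), [nat_lit 1])) (.leaf ((nat_lit 748), [nat_lit 0]))) (.node (nat_lit 1949) (.leaf ((nat_lit 416), [nat_lit 0, nat_lit 3])) (.node (nat_lit 1950) (.leaf ((nat_lit 86), [nat_lit 0, nat_lit 2, nat_lit 1])) (.leaf ((nat_lit 228), [nat_lit 0, nat_lit 2, nat_lit 1])))))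
 (.node (nat_lit 1954) (.node (nat_lit 1952) (.leaf ((nat_lit 87), [nat_lit 1, nat_lit 2, nat_lit 1])) (.node (nat_lit 1953) (.leaf ((nat_lit 677), [nat_lit 1, nat_lit 3, nat_lit 0])) (.leaf ((nat_lit 139), [nat_lit 2, nat_lit 1])))) (.node (nat_lit 1955) (.leaf ((nat_lit 754), [nat_lit 2])) (.node (nat_lit 1956) (.leaf ((nat_lit 255), [nat_lit 3, nat_lit 0])) (.leaf ((nat_lit 432), [])))))))
 (.node (nat_lit 1968) (.node (nat_lit 1962) (.node (nat_lit 1959) (.node (nat_lit 1958) (.leaf ((nat_lit 755), [])) (.leaf ((nat_lit 430), [nat_lit 1, nat_lit 2]))) (.node (nat_lit 1960) (.leaf ((nat_lit 88), [nat_lit 0, nat_lit 2])) (.node (nat_lit 1961) (.leaf ((nat_lit 87), [nat_lit 2, nat_lit 0])) (.leaf ((nat_lit 717), [nat_lit 3, nat_lit 1])))))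
 (.node (nat_lit 1965) (.node (nat_lit 1963) (.leaf ((nat_lit 456), [nat_lit 3])) (.node (nat_lit 1964) (.leaf ((nat_lit 88), [nat_lit 0, nat_lit 3])) (.leaf ((nat_lit 374), [nat_lit 1, nat_lit 3, nat_lit 0])))) (.node (nat_lit 1966) (.leaf ((nat_lit 223), [nat_lit 0, nat_lit 2, nat_lit 0])) (.node (nat_lit 1967) (.leaf ((nat_lit 465), [nat_lit 2, nat_lit 1])) (.leaf ((nat_lit 227), [nat_lit 3, nat_lit 1]))))))
 (.node (nat_lit 1974) (.node (nat_lit 1971) (.node (nat_lit 1969) (.leaf ((nat_lit 321), [nat_lit 1, nat_lit 2, nat_lit 0])) (.node (nat_lit 1970) (.leaf ((nat_lit 374), [])) (.leaf ((nat_lit 88), [nat_lit 2])))) (.node (nat_lit 1972) (.leaf ((nat_lit 412), [nat_lit 1])) (.node (nat_lit 1973) (.leaf ((nat_lit 443), [])) (.leaf ((nat_lit 739), [nat_lit 1])))))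
 (.node (nat_lit 1977) (.node (nat_lit 1975) (.leaf ((nat_lit 756), [nat_lit 3])) (.node (nat_lit 1976) (.leaf ((nat_lit 757), [nat_lit 1, nat_lit 2, nat_lit 1])) (.leaf ((nat_lit 758), [nat_lit 1, nat_lit 2])))) (.node (nat_lit 1978) (.leaf ((nat_lit 337), [nat_lit 3])) (.node (nat_lit 1979) (.leaf ((nat_lit 573), [nat_lit 3])) (.leaf ((nat_lit 88), [nat_lit 3, nat_lit 1]))))))))))
noncomputable def n1Wd_11 : Tr (ℕ × List ℕ) := (.node (nat_lit 2070) (.node (nat_lit 2025) (.node (nat_lit 2002) (.node (nat_lit 1991) (.node (nat_lit 1985) (.node (nat_lit 1982) (.node (nat_lit 1981) (.leaf ((nat_lit 89), [nat_lit 0, nat_lit 2])) (.leaf ((nat_lit 124), [nat_lit 1, nat_lit 3, nat_lit 1]))) (.node (nat_lit 1983) (.leaf ((nat_lit 759), [nat_lit 3])) (.node (nat_lit 1984) (.leaf ((nat_lit 677), [nat_lit 1, nat_lit 3, nat_lit 0])) (.leaf ((nat_lit 134), [nat_lit 2, nat_lit 1])))))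
 (.node (nat_lit 1988) (.node (nat_lit 1986) (.leaf ((nat_lit 277), [nat_lit 1, nat_lit 2])) (.node (nat_lit 1987) (.leaf ((nat_lit 759), [nat_lit 1])) (.leaf ((nat_lit 527), [nat_lit 0, nat_lit 2])))) (.node (nat_lit 1989) (.leaf ((nat_lit 89), [nat_lit 0, nat_lit 3, nat_lit 1])) (.node (nat_lit 1990) (.leaf ((nat_lit 535), [nat_lit 0, nat_lit 2, nat_lit 0])) (.leaf ((nat_lit 760), [nat_lit 0, nat_lit 3]))))))
 (.node (nat_lit 1996) (.node (nat_lit 1993) (.node (nat_lit 1992) (.leaf ((nat_lit 761), [nat_lit 2, nat_lit 1])) (.leaf ((nat_lit 362), [nat_lit 2]))) (.node (nat_lit 1994) (.leaf ((nat_lit 211), [nat_lit 1, nat_lit 2, nat_lit 1])) (.node (nat_lit 1995) (.leaf ((nat_lit 210), [nat_lit 1, nat_lit 3, nat_lit 0])) (.leaf ((nat_lit 137), [nat_lit 0, nat_lit 2])))))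
 (.node (nat_lit 1999) (.node (nat_lit 1997) (.leaf ((nat_lit 89), [nat_lit 2, nat_lit 0])) (.node (nat_lit 1998) (.leaf ((nat_lit 438), [])) (.leaf ((nat_lit 762), [nat_lit 2, nat_lit 1])))) (.node (nat_lit 2000) (.leaf ((nat_lit 215), [nat_lit 1, nat_lit 3])) (.node (nat_lit 2001) (.leaf ((nat_lit 214), [nat_lit 2])) (.leaf ((nat_lit 90), [nat_lit 3, nat_lit 1])))))))
 (.node (nat_lit 2013) (.node (nat_lit 2007) (.node (nat_lit 2004) (.node (nat_lit 2003) (.leaf ((nat_lit 93), [])) (.leaf ((nat_lit 763), [nat_lit 1, nat_lit 3]))) (.node (nat_lit 2005) (.leaf ((nat_lit 764), [nat_lit 1, nat_lit 2, nat_lit 0])) (.node (nat_lit 2006) (.leaf ((nat_lit 765), [nat_lit 1])) (.leaf ((nat_lit 766), [nat_lit 0, nat_lit 3])))))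
 (.node (nat_lit 2010) (.node (nat_lit 2008) (.leaf ((nat_lit 767), [nat_lit 3, nat_lit 1])) (.node (nat_lit 2009) (.leaf ((nat_lit 624), [nat_lit 0, nat_lit 3, nat_lit 0])) (.leaf ((nat_lit 90), [nat_lit 1, nat_lit 2])))) (.node (nat_lit 2011) (.leaf ((nat_lit 91), [nat_lit 3])) (.node (nat_lit 2012) (.leaf ((nat_lit 138), [nat_lit 0, nat_lit 2, nat_lit 0])) (.leaf ((nat_lit 95), [nat_lit 0, nat_lit 3]))))))
 (.node (nat_lit 2019) (.node (nat_lit 2016) (.node (nat_lit 2014) (.leaf ((nat_lit 768), [nat_lit 1])) (.node (nat_lit 2015) (.leaf ((nat_lit 769), [nat_lit 0])) (.leaf ((nat_lit 594), [nat_lit 1, nat_lit 3])))) (.node (nat_lit 2017) (.leaf ((nat_lit 138), [nat_lit 1, nat_lit 3])) (.node (nat_lit 2018) (.leaf ((nat_lit 91), [nat_lit 1, nat_lit 3, nat_lit 1])) (.leaf ((nat_lit 96), [nat_lit 3, nat_lit 0])))))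
 (.node (nat_lit 2022) (.node (nat_lit 2020) (.leaf ((nat_lit 701), [])) (.node (nat_lit 2021) (.leaf ((nat_lit 96), [nat_lit 0, nat_lit 3, nat_lit 0])) (.leaf ((nat_lit 570), [nat_lit 0, nat_lit 3, nat_lit 1])))) (.node (nat_lit 2023) (.leaf ((nat_lit 667), [nat_lit 1, nat_lit 2, nat_lit 1])) (.node (nat_lit 2024) (.leaf ((nat_lit 509), [nat_lit 1, nat_lit 2, nat_lit 1])) (.leaf ((nat_lit 666), [nat_lit 2, nat_lit 0]))))))))
 (.node (nat_lit 2047) (.node (nat_lit 2036) (.node (nat_lit 2030) (.node (nat_lit 2027) (.node (nat_lit 2026) (.leaf ((nat_lit 329), [nat_lit 2])) (.leaf ((nat_lit 487), [nat_lit 2]))) (.node (nat_lit 2028) (.leaf ((nat_lit 91), [nat_lit 3, nat_lit 0])) (.node (nat_lit 2029) (.leaf ((nat_lit 92), [nat_lit 1, nat_lit 2, nat_lit 1])) (.leaf ((nat_lit 502), [nat_lit 1])))))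
 (.node (nat_lit 2033) (.node (nat_lit 2031) (.leaf ((nat_lit 665), [nat_lit 2, nat_lit 1])) (.node (nat_lit 2032) (.leaf ((nat_lit 389), [nat_lit 2])) (.leaf ((nat_lit 388), [])))) (.node (nat_lit 2034) (.leaf ((nat_lit 428), [nat_lit 3])) (.node (nat_lit 2035) (.leaf ((nat_lit 502), [nat_lit 1, nat_lit 3])) (.leaf ((nat_lit 92), [nat_lit 3, nat_lit 1]))))))
 (.node (nat_lit 2041) (.node (nat_lit 2038) (.node (nat_lit 2037) (.leaf ((nat_lit 770), [])) (.leaf ((nat_lit 771), [nat_lit 0, nat_lit 3, nat_lit 1]))) (.node (nat_lit 2039) (.leaf ((nat_lit 451), [nat_lit 1, nat_lit 2, nat_lit 1])) (.node (nat_lit 2040) (.leaf ((nat_lit 772), [nat_lit 2])) (.leaf ((nat_lit 665), [nat_lit 2, nat_lit 0])))))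
 (.node (nat_lit 2044) (.node (nat_lit 2042) (.leaf ((nat_lit 770), [nat_lit 2, nat_lit 1])) (.node (nat_lit 2043) (.leaf ((nat_lit 92), [nat_lit 1, nat_lit 2, nat_lit 0])) (.leaf ((nat_lit 773), [nat_lit 0, nat_lit 3, nat_lit 1])))) (.node (nat_lit 2045) (.leaf ((nat_lit 774), [nat_lit 3])) (.node (nat_lit 2046) (.leaf ((nat_lit 508), [nat_lit 3, nat_lit 1])) (.leaf ((nat_lit 136), [nat_lit 1, nat_lit 2, nat_lit 0])))))))
 (.node (nat_lit 2058) (.node (nat_lit 2052) (.node (nat_lit 2049) (.node (nat_lit 2048) (.leaf ((nat_lit 273), [])) (.leaf ((nat_lit 517), [nat_lit 0, nat_lit 3]))) (.node (nat_lit 2050) (.leaf ((nat_lit 92), [nat_lit 1, nat_lit 3])) (.node (nat_lit 2051) (.leaf ((nat_lit 431), [nat_lit 3])) (.leaf ((nat_lit 456), [nat_lit 1, nat_lit 3, nat_lit 1])))))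
 (.node (nat_lit 2055) (.node (nat_lit 2053) (.leaf ((nat_lit 535), [nat_lit 1, nat_lit 2])) (.node (nat_lit 2054) (.leaf ((nat_lit 93), [nat_lit 0, nat_lit 2, nat_lit 1])) (.leaf ((nat_lit 234), [])))) (.node (nat_lit 2056) (.leaf ((nat_lit 215), [nat_lit 0, nat_lit 3, nat_lit 0])) (.node (nat_lit 2057) (.leaf ((nat_lit 532), [])) (.leaf ((nat_lit 636), [nat_lit 1]))))))
 (.node (nat_lit 2064) (.node (nat_lit 2061) (.node (nat_lit 2059) (.leaf ((nat_lit 775), [nat_lit 1, nat_lit 2, nat_lit 0])) (.node (nat_lit 2060) (.leaf ((nat_lit 305), [nat_lit 1, nat_lit 3, nat_lit 0])) (.leaf ((nat_lit 776), [])))) (.node (nat_lit 2062) (.leaf ((nat_lit 695), [nat_lit 1, nat_lit 3])) (.node (nat_lit 2063) (.leaf ((nat_lit 316), [nat_lit 0, nat_lit 2])) (.leaf ((nat_lit 93), [nat_lit 2, nat_lit 1])))))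
 (.node (nat_lit 2067) (.node (nat_lit 2065) (.leaf ((nat_lit 94), [nat_lit 0, nat_lit 3, nat_lit 0])) (.node (nat_lit 2066) (.leaf ((nat_lit 777), [nat_lit 1, nat_lit 2])) (.leaf ((nat_lit 668), [nat_lit 3, nat_lit 0])))) (.node (nat_lit 2068) (.leaf ((nat_lit 354), [nat_lit 3, nat_lit 1])) (.node (nat_lit 2069) (.leaf ((nat_lit 722), [nat_lit 1, nat_lit 3, nat_lit 1])) (.leaf ((nat_lit 778), [nat_lit 2, nat_lit 0])))))))))
 (.node (nat_lit 2115) (.node (nat_lit 2092) (.node (nat_lit 2081) (.node (nat_lit 2075) (.node (nat_lit 2072) (.node (nat_lit 2071) (.leaf ((nat_lit 777), [])) (.leaf ((nat_lit 94), [nat_lit 3, nat_lit 1]))) (.node (nat_lit 2073) (.leaf ((nat_lit 537), [nat_lit 3])) (.node (nat_lit 2074) (.leaf ((nat_lit 763), [nat_lit 1, nat_lit 3, nat_lit 0])) (.leaf ((nat_lit 283), [nat_lit 2, nat_lit 1])))))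
 (.node (nat_lit 2078) (.node (nat_lit 2076) (.leaf ((nat_lit 779), [nat_lit 1, nat_lit 3, nat_lit 0])) (.node (nat_lit 2077) (.leaf ((nat_lit 668), [nat_lit 0, nat_lit 3, nat_lit 0])) (.leaf ((nat_lit 537), [nat_lit 0, nat_lit 2, nat_lit 0])))) (.node (nat_lit 2079) (.leaf ((nat_lit 94), [nat_lit 1, nat_lit 3, nat_lit 0])) (.node (nat_lit 2080) (.leaf ((nat_lit 508), [nat_lit 1, nat_lit 3])) (.leaf ((nat_lit 160), [nat_lit 0, nat_lit 2, nat_lit 1]))))))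
 (.node (nat_lit 2086) (.node (nat_lit 2083) (.node (nat_lit 2082) (.leaf ((nat_lit 773), [nat_lit 1, nat_lit 3, nat_lit 1])) (.leaf ((nat_lit 780), [nat_lit 1, nat_lit 2, nat_lit 1]))) (.node (nat_lit 2084) (.leaf ((nat_lit 781), [nat_lit 1, nat_lit 3, nat_lit 1])) (.node (nat_lit 2085) (.leaf ((nat_lit 782), [nat_lit 2])) (.leaf ((nat_lit 94), [nat_lit 1, nat_lit 3, nat_lit 0])))))
 (.node (nat_lit 2089) (.node (nat_lit 2087) (.leaf ((nat_lit 149), [nat_lit 0])) (.node (nat_lit 2088) (.leaf ((nat_lit 323), [nat_lit 0, nat_lit 2])) (.leaf ((nat_lit 96), [nat_lit 2, nat_lit 0])))) (.node (nat_lit 2090) (.leaf ((nat_lit 95), [nat_lit 1, nat_lit 3, nat_lit 1])) (.node (nat_lit 2091) (.leaf ((nat_lit 138), [nat_lit 2, nat_lit 1])) (.leaf ((nat_lit 209), [nat_lit 2])))))))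
 (.node (nat_lit 2103) (.node (nat_lit 2097) (.node (nat_lit 2094) (.node (nat_lit 2093) (.leaf ((nat_lit 374), [nat_lit 0, nat_lit 2, nat_lit 1])) (.leaf ((nat_lit 605), [nat_lit 1]))) (.node (nat_lit 2095) (.leaf ((nat_lit 522), [nat_lit 3])) (.node (nat_lit 2096) (.leaf ((nat_lit 559), [])) (.leaf ((nat_lit 682), [nat_lit 1, nat_lit 3, nat_lit 1])))))
 (.node (nat_lit 2100) (.node (nat_lit 2098) (.leaf ((nat_lit 95), [nat_lit 3, nat_lit 1])) (.node (nat_lit 2099) (.leaf ((nat_lit 422), [nat_lit 0, nat_lit 2, nat_lit 0])) (.leaf ((nat_lit 406), [nat_lit 0, nat_lit 2, nat_lit 0])))) (.node (nat_lit 2101) (.leaf ((nat_lit 563), [nat_lit 0, nat_lit 2, nat_lit 1])) (.node (nat_lit 2102) (.leaf ((nat_lit 443), [nat_lit 0])) (.leaf ((nat_lit 752), [nat_lit 1, nat_lit 2]))))))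
 (.node (nat_lit 2109) (.node (nat_lit 2106) (.node (nat_lit 2104) (.leaf ((nat_lit 422), [nat_lit 3])) (.node (nat_lit 2105) (.leaf ((nat_lit 95), [nat_lit 1, nat_lit 2])) (.leaf ((nat_lit 783), [nat_lit 3, nat_lit 0])))) (.node (nat_lit 2107) (.leaf ((nat_lit 657), [nat_lit 0, nat_lit 2])) (.node (nat_lit 2108) (.leaf ((nat_lit 513), [nat_lit 0, nat_lit 3, nat_lit 0])) (.leaf ((nat_lit 656), [nat_lit 3, nat_lit 0])))))
 (.node (nat_lit 2112) (.node (nat_lit 2110) (.leaf ((nat_lit 594), [nat_lit 1, nat_lit 3, nat_lit 0])) (.node (nat_lit 2111) (.leaf ((nat_lit 784), [nat_lit 3])) (.leaf ((nat_lit 95), [nat_lit 0, nat_lit 3, nat_lit 1])))) (.node (nat_lit 2113) (.leaf ((nat_lit 450), [nat_lit 1, nat_lit 2, nat_lit 1])) (.node (nat_lit 2114) (.leaf ((nat_lit 109), [nat_lit 2])) (.leaf ((nat_lit 236), [nat_lit 1]))))))))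
 (.node (nat_lit 2137) (.node (nat_lit 2126) (.node (nat_lit 2120) (.node (nat_lit 2117) (.node (nat_lit 2116) (.leaf ((nat_lit 96), [nat_lit 3, nat_lit 0])) (.leaf ((nat_lit 701), [nat_lit 3]))) (.node (nat_lit 2118) (.leaf ((nat_lit 771), [nat_lit 1, nat_lit 3, nat_lit 1])) (.node (nat_lit 2119) (.leaf ((nat_lit 361), [nat_lit 1, nat_lit 2, nat_lit 1])) (.leaf ((nat_lit 785), [nat_lit 1, nat_lit 2, nat_lit 1])))))
 (.node (nat_lit 2123) (.node (nat_lit 2121) (.leaf ((nat_lit 719), [])) (.node (nat_lit 2122) (.leaf ((nat_lit 786), [nat_lit 1, nat_lit 2, nat_lit 1])) (.leaf ((nat_lit 787), [nat_lit 1, nat_lit 2, nat_lit 1])))) (.node (nat_lit 2124) (.leaf ((nat_lit 96), [nat_lit 1, nat_lit 2, nat_lit 0])) (.node (nat_lit 2125) (.leaf ((nat_lit 97), [])) (.leaf ((nat_lit 788), [nat_lit 0, nat_lit 3, nat_lit 1]))))))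
 (.node (nat_lit 2131) (.node (nat_lit 2128) (.node (nat_lit 2127) (.leaf ((nat_lit 653), [])) (.leaf ((nat_lit 344), [nat_lit 0, nat_lit 2]))) (.node (nat_lit 2129) (.leaf ((nat_lit 789), [nat_lit 3, nat_lit 1])) (.node (nat_lit 2130) (.leaf ((nat_lit 704), [nat_lit 3, nat_lit 0])) (.leaf ((nat_lit 788), [nat_lit 1])))))
 (.node (nat_lit 2134) (.node (nat_lit 2132) (.leaf ((nat_lit 97), [nat_lit 0, nat_lit 2, nat_lit 0])) (.node (nat_lit 2133) (.leaf ((nat_lit 790), [])) (.leaf ((nat_lit 791), [nat_lit 0])))) (.node (nat_lit 2135) (.leaf ((nat_lit 792), [])) (.node (nat_lit 2136) (.leaf ((nat_lit 793), [nat_lit 1, nat_lit 2])) (.leaf ((nat_lit 653), [nat_lit 3])))))))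
 (.node (nat_lit 2148) (.node (nat_lit 2142) (.node (nat_lit 2139) (.node (nat_lit 2138) (.leaf ((nat_lit 790), [nat_lit 2, nat_lit 0])) (.leaf ((nat_lit 97), [nat_lit 3]))) (.node (nat_lit 2140) (.leaf ((nat_lit 758), [nat_lit 1, nat_lit 2])) (.node (nat_lit 2141) (.leaf ((nat_lit 576), [nat_lit 2, nat_lit 0])) (.leaf ((nat_lit 189), [nat_lit 2, nat_lit 1])))))
 (.node (nat_lit 2145) (.node (nat_lit 2143) (.leaf ((nat_lit 794), [nat_lit 0, nat_lit 3, nat_lit 0])) (.node (nat_lit 2144) (.leaf ((nat_lit 795), [nat_lit 0, nat_lit 2])) (.leaf ((nat_lit 796), [nat_lit 0, nat_lit 3, nat_lit 0])))) (.node (nat_lit 2146) (.leaf ((nat_lit 97), [nat_lit 1, nat_lit 3, nat_lit 0])) (.node (nat_lit 2147) (.leaf ((nat_lit 797), [nat_lit 2, nat_lit 0])) (.leaf ((nat_lit 321), [nat_lit 2, nat_lit 1]))))))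
 (.node (nat_lit 2154) (.node (nat_lit 2151) (.node (nat_lit 2149) (.leaf ((nat_lit 313), [nat_lit 1, nat_lit 3, nat_lit 0])) (.node (nat_lit 2150) (.leaf ((nat_lit 386), [nat_lit 0, nat_lit 2, nat_lit 1])) (.leaf ((nat_lit 385), [nat_lit 0, nat_lit 2])))) (.node (nat_lit 2152) (.leaf ((nat_lit 797), [nat_lit 1, nat_lit 3])) (.node (nat_lit 2153) (.leaf ((nat_lit 97), [nat_lit 3, nat_lit 1])) (.leaf ((nat_lit 578), [nat_lit 1, nat_lit 2, nat_lit 0])))))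
 (.node (nat_lit 2157) (.node (nat_lit 2155) (.leaf ((nat_lit 99), [nat_lit 0, nat_lit 3, nat_lit 0])) (.node (nat_lit 2156) (.leaf ((nat_lit 98), [nat_lit 0])) (.leaf ((nat_lit 751), [nat_lit 3, nat_lit 0])))) (.node (nat_lit 2158) (.leaf ((nat_lit 157), [nat_lit 1, nat_lit 3, nat_lit 1])) (.node (nat_lit 2159) (.leaf ((nat_lit 118), [nat_lit 0, nat_lit 3])) (.leaf ((nat_lit 458), [nat_lit 2]))))))))))
noncomputable def n1Wd_12 : Tr (ℕ × List ℕ) := (.node (nat_lit 2250) (.node (nat_lit 2205) (.node (nat_lit 2182) (.node (nat_lit 2171) (.node (nat_lit 2165) (.node (nat_lit 2162) (.node (nat_lit 2161) (.leaf ((nat_lit 100), [nat_lit 2, nat_lit 0])) (.leaf ((nat_lit 751), [nat_lit 1, nat_lit 3, nat_lit 0]))) (.node (nat_lit 2163) (.leaf ((nat_lit 98), [nat_lit 0, nat_lit 3])) (.node (nat_lit 2164) (.leaf ((nat_lit 665), [nat_lit 1, nat_lit 2, nat_lit 0])) (.leaf ((nat_lit 180), [nat_lit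 0, nat_lit 3, nat_lit 1])))))
 (.node (nat_lit 2168) (.node (nat_lit 2166) (.leaf ((nat_lit 652), [nat_lit 2])) (.node (nat_lit 2167) (.leaf ((nat_lit 353), [nat_lit 0, nat_lit 3, nat_lit 0])) (.leaf ((nat_lit 798), [nat_lit 1, nat_lit 2, nat_lit 1])))) (.node (nat_lit 2169) (.leaf ((nat_lit 651), [nat_lit 1, nat_lit 2, nat_lit 0])) (.node (nat_lit 2170) (.leaf ((nat_lit 98), [nat_lit 2, nat_lit 1])) (.leaf ((nat_lit 741), [nat_lit 3]))))))
 (.node (nat_lit 2176) (.node (nat_lit 2173) (.node (nat_lit 2172) (.leaf ((nat_lit 127), [nat_lit 1, nat_lit 3, nat_lit 0])) (.leaf ((nat_lit 332), [nat_lit 3]))) (.node (nat_lit 2174) (.leaf ((nat_lit 121), [nat_lit 1])) (.node (nat_lit 2175) (.leaf ((nat_lit 182), [nat_lit 1, nat_lit 3])) (.leaf ((nat_lit 741), [nat_lit 0, nat_lit 2, nat_lit 0])))))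
 (.node (nat_lit 2179) (.node (nat_lit 2177) (.leaf ((nat_lit 98), [nat_lit 0, nat_lit 2, nat_lit 1])) (.node (nat_lit 2178) (.leaf ((nat_lit 408), [nat_lit 1, nat_lit 2, nat_lit 0])) (.leaf ((nat_lit 585), [nat_lit 0, nat_lit 2])))) (.node (nat_lit 2180) (.leaf ((nat_lit 799), [nat_lit 1, nat_lit 3])) (.node (nat_lit 2181) (.leaf ((nat_lit 322), [nat_lit 3, nat_lit 1])) (.leaf ((nat_lit 271), [nat_lit 1, nat_lit 2, nat_lit 1])))))))
 (.node (nat_lit 2193) (.node (nat_lit 2187) (.node (nat_lit 2184) (.node (nat_lit 2183) (.leaf ((nat_lit 419), [nat_lit 2, nat_lit 0])) (.leaf ((nat_lit 98), [nat_lit 2]))) (.node (nat_lit 2185) (.leaf ((nat_lit 751), [nat_lit 0, nat_lit 2, nat_lit 1])) (.node (nat_lit 2186) (.leaf ((nat_lit 100), [nat_lit 1, nat_lit 2, nat_lit 0])) (.leaf ((nat_lit 99), [nat_lit 1, nat_lit 2, nat_lit 1])))))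
 (.node (nat_lit 2190) (.node (nat_lit 2188) (.leaf ((nat_lit 538), [nat_lit 0, nat_lit 3, nat_lit 0])) (.node (nat_lit 2189) (.leaf ((nat_lit 800), [nat_lit 1, nat_lit 3])) (.leaf ((nat_lit 801), [])))) (.node (nat_lit 2191) (.leaf ((nat_lit 457), [nat_lit 2, nat_lit 0])) (.node (nat_lit 2192) (.leaf ((nat_lit 716), [nat_lit 2, nat_lit 1])) (.leaf ((nat_lit 802), [nat_lit 1, nat_lit 3]))))))
 (.node (nat_lit 2199) (.node (nat_lit 2196) (.node (nat_lit 2194) (.leaf ((nat_lit 99), [nat_lit 3])) (.node (nat_lit 2195) (.leaf ((nat_lit 682), [nat_lit 0, nat_lit 2, nat_lit 0])) (.leaf ((nat_lit 445), [nat_lit 3, nat_lit 0])))) (.node (nat_lit 2197) (.leaf ((nat_lit 111), [nat_lit 3, nat_lit 0])) (.node (nat_lit 2198) (.leaf ((nat_lit 279), [nat_lit 1])) (.leaf ((nat_lit 803), [nat_lit 1, nat_lit 2, nat_lit 1])))))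
 (.node (nat_lit 2202) (.node (nat_lit 2200) (.leaf ((nat_lit 682), [nat_lit 1, nat_lit 3, nat_lit 0])) (.node (nat_lit 2201) (.leaf ((nat_lit 99), [nat_lit 1, nat_lit 3])) (.leaf ((nat_lit 804), [nat_lit 0, nat_lit 2])))) (.node (nat_lit 2203) (.leaf ((nat_lit 805), [nat_lit 1, nat_lit 2])) (.node (nat_lit 2204) (.leaf ((nat_lit 772), [nat_lit 0, nat_lit 3])) (.leaf ((nat_lit 806), [nat_lit 1]))))))))
 (.node (nat_lit 2227) (.node (nat_lit 2216) (.node (nat_lit 2210) (.node (nat_lit 2207) (.node (nat_lit 2206) (.leaf ((nat_lit 145), [nat_lit 1, nat_lit 3])) (.leaf ((nat_lit 189), [nat_lit 2, nat_lit 0]))) (.node (nat_lit 2208) (.leaf ((nat_lit 99), [nat_lit 0, nat_lit 3, nat_lit 0])) (.node (nat_lit 2209) (.leaf ((nat_lit 655), [nat_lit 0, nat_lit 2])) (.leaf ((nat_lit 800), [nat_lit 1, nat_lit 3, nat_lit 0])))))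
 (.node (nat_lit 2213) (.node (nat_lit 2211) (.leaf ((nat_lit 783), [nat_lit 2])) (.node (nat_lit 2212) (.leaf ((nat_lit 100), [nat_lit 0, nat_lit 3, nat_lit 0])) (.leaf ((nat_lit 807), [nat_lit 1, nat_lit 3])))) (.node (nat_lit 2214) (.leaf ((nat_lit 512), [nat_lit 0, nat_lit 3, nat_lit 1])) (.node (nat_lit 2215) (.leaf ((nat_lit 760), [nat_lit 3])) (.leaf ((nat_lit 807), [nat_lit 1]))))))
 (.node (nat_lit 2221) (.node (nat_lit 2218) (.node (nat_lit 2217) (.leaf ((nat_lit 808), [])) (.leaf ((nat_lit 807), [nat_lit 2, nat_lit 1]))) (.node (nat_lit 2219) (.leaf ((nat_lit 100), [nat_lit 0, nat_lit 2, nat_lit 0])) (.node (nat_lit 2220) (.leaf ((nat_lit 809), [nat_lit 3, nat_lit 1])) (.leaf ((nat_lit 658), [nat_lit 0, nat_lit 3, nat_lit 1])))))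
 (.node (nat_lit 2224) (.node (nat_lit 2222) (.leaf ((nat_lit 810), [nat_lit 3, nat_lit 1])) (.node (nat_lit 2223) (.leaf ((nat_lit 302), [nat_lit 3])) (.leaf ((nat_lit 811), [nat_lit 3, nat_lit 0])))) (.node (nat_lit 2225) (.leaf ((nat_lit 793), [nat_lit 0, nat_lit 3, nat_lit 0])) (.node (nat_lit 2226) (.leaf ((nat_lit 100), [nat_lit 1, nat_lit 2])) (.leaf ((nat_lit 101), [nat_lit 3])))))))
 (.node (nat_lit 2238) (.node (nat_lit 2232) (.node (nat_lit 2229) (.node (nat_lit 2228) (.leaf ((nat_lit 289), [nat_lit 3])) (.leaf ((nat_lit 246), [nat_lit 3]))) (.node (nat_lit 2230) (.leaf ((nat_lit 435), [nat_lit 3, nat_lit 0])) (.node (nat_lit 2231) (.leaf ((nat_lit 459), [nat_lit 1, nat_lit 2, nat_lit 1])) (.leaf ((nat_lit 121), [nat_lit 0, nat_lit 3])))))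
 (.node (nat_lit 2235) (.node (nat_lit 2233) (.leaf ((nat_lit 289), [nat_lit 3])) (.node (nat_lit 2234) (.leaf ((nat_lit 101), [nat_lit 3])) (.leaf ((nat_lit 106), [nat_lit 2, nat_lit 1])))) (.node (nat_lit 2236) (.leaf ((nat_lit 716), [nat_lit 2, nat_lit 0])) (.node (nat_lit 2237) (.leaf ((nat_lit 155), [nat_lit 1])) (.leaf ((nat_lit 812), [nat_lit 0, nat_lit 3, nat_lit 1]))))))
 (.node (nat_lit 2244) (.node (nat_lit 2241) (.node (nat_lit 2239) (.leaf ((nat_lit 246), [nat_lit 3])) (.node (nat_lit 2240) (.leaf ((nat_lit 106), [nat_lit 2, nat_lit 1])) (.leaf ((nat_lit 101), [nat_lit 3])))) (.node (nat_lit 2242) (.leaf ((nat_lit 813), [nat_lit 0, nat_lit 2, nat_lit 0])) (.node (nat_lit 2243) (.leaf ((nat_lit 144), [nat_lit 1])) (.leaf ((nat_lit 574), [nat_lit 0, nat_lit 2, nat_lit 1])))))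
 (.node (nat_lit 2247) (.node (nat_lit 2245) (.leaf ((nat_lit 465), [nat_lit 1])) (.node (nat_lit 2246) (.leaf ((nat_lit 328), [])) (.leaf ((nat_lit 327), [nat_lit 1, nat_lit 2, nat_lit 0])))) (.node (nat_lit 2248) (.leaf ((nat_lit 292), [nat_lit 0])) (.node (nat_lit 2249) (.leaf ((nat_lit 348), [nat_lit 0, nat_lit 3, nat_lit 1])) (.leaf ((nat_lit 101), [nat_lit 1, nat_lit 2, nat_lit 0])))))))))
 (.node (nat_lit 2295) (.node (nat_lit 2272) (.node (nat_lit 2261) (.node (nat_lit 2255) (.node (nat_lit 2252) (.node (nat_lit 2251) (.leaf ((nat_lit 453), [nat_lit 3, nat_lit 1])) (.leaf ((nat_lit 383), [nat_lit 0, nat_lit 3, nat_lit 0]))) (.node (nat_lit 2253) (.leaf ((nat_lit 102), [])) (.node (nat_lit 2254) (.leaf ((nat_lit 814), [nat_lit 2, nat_lit 1])) (.leaf ((nat_lit 808), [])))))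
 (.node (nat_lit 2258) (.node (nat_lit 2256) (.leaf ((nat_lit 595), [nat_lit 1, nat_lit 2, nat_lit 1])) (.node (nat_lit 2257) (.leaf ((nat_lit 815), [nat_lit 0, nat_lit 2, nat_lit 0])) (.leaf ((nat_lit 743), [nat_lit 1, nat_lit 3, nat_lit 1])))) (.node (nat_lit 2259) (.leaf ((nat_lit 449), [nat_lit 0, nat_lit 3, nat_lit 1])) (.node (nat_lit 2260) (.leaf ((nat_lit 420), [nat_lit 0, nat_lit 3, nat_lit 1])) (.leaf ((nat_lit 578), [nat_lit 1, nat_lit 2, nat_lit 1]))))))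
 (.node (nat_lit 2266) (.node (nat_lit 2263) (.node (nat_lit 2262) (.leaf ((nat_lit 102), [nat_lit 0, nat_lit 3, nat_lit 0])) (.leaf ((nat_lit 108), [nat_lit 1, nat_lit 3, nat_lit 0]))) (.node (nat_lit 2264) (.leaf ((nat_lit 104), [nat_lit 3, nat_lit 0])) (.node (nat_lit 2265) (.leaf ((nat_lit 103), [nat_lit 1, nat_lit 3, nat_lit 0])) (.leaf ((nat_lit 198), [nat_lit 0])))))
 (.node (nat_lit 2269) (.node (nat_lit 2267) (.leaf ((nat_lit 227), [nat_lit 1, nat_lit 2, nat_lit 0])) (.node (nat_lit 2268) (.leaf ((nat_lit 816), [nat_lit 3])) (.leaf ((nat_lit 607), [nat_lit 1, nat_lit 2])))) (.node (nat_lit 2270) (.leaf ((nat_lit 202), [nat_lit 0, nat_lit 2, nat_lit 1])) (.node (nat_lit 2271) (.leaf ((nat_lit 817), [nat_lit 0])) (.leaf ((nat_lit 104), [nat_lit 1, nat_lit 2, nat_lit 0])))))))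
 (.node (nat_lit 2283) (.node (nat_lit 2277) (.node (nat_lit 2274) (.node (nat_lit 2273) (.leaf ((nat_lit 217), [nat_lit 2, nat_lit 1])) (.leaf ((nat_lit 818), [nat_lit 1]))) (.node (nat_lit 2275) (.leaf ((nat_lit 157), [nat_lit 0, nat_lit 2, nat_lit 1])) (.node (nat_lit 2276) (.leaf ((nat_lit 702), [nat_lit 1, nat_lit 2, nat_lit 1])) (.leaf ((nat_lit 155), [nat_lit 0, nat_lit 2])))))
 (.node (nat_lit 2280) (.node (nat_lit 2278) (.leaf ((nat_lit 217), [nat_lit 0, nat_lit 3])) (.node (nat_lit 2279) (.leaf ((nat_lit 104), [nat_lit 2])) (.leaf ((nat_lit 617), [])))) (.node (nat_lit 2281) (.leaf ((nat_lit 819), [nat_lit 0, nat_lit 3])) (.node (nat_lit 2282) (.leaf ((nat_lit 162), [nat_lit 2, nat_lit 0])) (.leaf ((nat_lit 581), [nat_lit 0, nat_lit 2, nat_lit 1]))))))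
 (.node (nat_lit 2289) (.node (nat_lit 2286) (.node (nat_lit 2284) (.leaf ((nat_lit 506), [nat_lit 1, nat_lit 2, nat_lit 0])) (.node (nat_lit 2285) (.leaf ((nat_lit 718), [nat_lit 0, nat_lit 3, nat_lit 0])) (.leaf ((nat_lit 104), [nat_lit 2])))) (.node (nat_lit 2287) (.leaf ((nat_lit 543), [nat_lit 1, nat_lit 2, nat_lit 1])) (.node (nat_lit 2288) (.leaf ((nat_lit 598), [nat_lit 1, nat_lit 3, nat_lit 0])) (.leaf ((nat_lit 820), [nat_lit 0, nat_lit 2])))))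
 (.node (nat_lit 2292) (.node (nat_lit 2290) (.leaf ((nat_lit 106), [nat_lit 0, nat_lit 3])) (.node (nat_lit 2291) (.leaf ((nat_lit 105), [nat_lit 1])) (.leaf ((nat_lit 179), [nat_lit 3])))) (.node (nat_lit 2293) (.leaf ((nat_lit 821), [nat_lit 0, nat_lit 3])) (.node (nat_lit 2294) (.leaf ((nat_lit 822), [nat_lit 1, nat_lit 2, nat_lit 0])) (.leaf ((nat_lit 178), [nat_lit 0, nat_lit 3, nat_lit 0]))))))))
 (.node (nat_lit 2317) (.node (nat_lit 2306) (.node (nat_lit 2300) (.node (nat_lit 2297) (.node (nat_lit 2296) (.leaf ((nat_lit 549), [nat_lit 0, nat_lit 2, nat_lit 1])) (.leaf ((nat_lit 742), [nat_lit 0, nat_lit 3, nat_lit 0]))) (.node (nat_lit 2298) (.leaf ((nat_lit 105), [nat_lit 0, nat_lit 3, nat_lit 0])) (.node (nat_lit 2299) (.leaf ((nat_lit 135), [nat_lit 2, nat_lit 1])) (.leaf ((nat_lit 375), [nat_lit 1, nat_lit 2, nat_lit 1])))))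
 (.node (nat_lit 2303) (.node (nat_lit 2301) (.leaf ((nat_lit 126), [nat_lit 1, nat_lit 3])) (.node (nat_lit 2302) (.leaf ((nat_lit 249), [nat_lit 0])) (.leaf ((nat_lit 424), [nat_lit 0, nat_lit 3])))) (.node (nat_lit 2304) (.leaf ((nat_lit 106), [nat_lit 3, nat_lit 0])) (.node (nat_lit 2305) (.leaf ((nat_lit 107), [nat_lit 0, nat_lit 3, nat_lit 1])) (.leaf ((nat_lit 672), [nat_lit 0, nat_lit 3, nat_lit 1]))))))
 (.node (nat_lit 2311) (.node (nat_lit 2308) (.node (nat_lit 2307) (.leaf ((nat_lit 117), [nat_lit 0, nat_lit 3, nat_lit 1])) (.leaf ((nat_lit 823), [nat_lit 0, nat_lit 2, nat_lit 0]))) (.node (nat_lit 2309) (.leaf ((nat_lit 824), [])) (.node (nat_lit 2310) (.leaf ((nat_lit 825), [nat_lit 0])) (.leaf ((nat_lit 672), [nat_lit 2, nat_lit 0])))))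
 (.node (nat_lit 2314) (.node (nat_lit 2312) (.leaf ((nat_lit 107), [nat_lit 2, nat_lit 0])) (.node (nat_lit 2313) (.leaf ((nat_lit 358), [nat_lit 3, nat_lit 1])) (.leaf ((nat_lit 826), [nat_lit 3, nat_lit 0])))) (.node (nat_lit 2315) (.leaf ((nat_lit 685), [nat_lit 0, nat_lit 3, nat_lit 0])) (.node (nat_lit 2316) (.leaf ((nat_lit 611), [nat_lit 1, nat_lit 2, nat_lit 0])) (.leaf ((nat_lit 117), [nat_lit 3, nat_lit 0])))))))
 (.node (nat_lit 2328) (.node (nat_lit 2322) (.node (nat_lit 2319) (.node (nat_lit 2318) (.leaf ((nat_lit 358), [nat_lit 0, nat_lit 3, nat_lit 1])) (.leaf ((nat_lit 107), [nat_lit 3, nat_lit 0]))) (.node (nat_lit 2320) (.leaf ((nat_lit 568), [nat_lit 0, nat_lit 3])) (.node (nat_lit 2321) (.leaf ((nat_lit 827), [nat_lit 0, nat_lit 3, nat_lit 0])) (.leaf ((nat_lit 577), [nat_lit 0, nat_lit 2, nat_lit 0])))))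
 (.node (nat_lit 2325) (.node (nat_lit 2323) (.leaf ((nat_lit 828), [nat_lit 0, nat_lit 3, nat_lit 0])) (.node (nat_lit 2324) (.leaf ((nat_lit 829), [nat_lit 0, nat_lit 2])) (.leaf ((nat_lit 830), [nat_lit 1, nat_lit 3, nat_lit 1])))) (.node (nat_lit 2326) (.leaf ((nat_lit 643), [nat_lit 3, nat_lit 0])) (.node (nat_lit 2327) (.leaf ((nat_lit 107), [nat_lit 0, nat_lit 2, nat_lit 0])) (.leaf ((nat_lit 522), [nat_lit 1, nat_lit 2]))))))
 (.node (nat_lit 2334) (.node (nat_lit 2331) (.node (nat_lit 2329) (.leaf ((nat_lit 831), [nat_lit 0, nat_lit 2, nat_lit 0])) (.node (nat_lit 2330) (.leaf ((nat_lit 832), [nat_lit 1, nat_lit 3])) (.leaf ((nat_lit 833), [nat_lit 0, nat_lit 2, nat_lit 0])))) (.node (nat_lit 2332) (.leaf ((nat_lit 108), [nat_lit 1])) (.node (nat_lit 2333) (.leaf ((nat_lit 338), [])) (.leaf ((nat_lit 834), [nat_lit 0, nat_lit 3, nat_lit 0])))))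
 (.node (nat_lit 2337) (.node (nat_lit 2335) (.leaf ((nat_lit 570), [nat_lit 0, nat_lit 3])) (.node (nat_lit 2336) (.leaf ((nat_lit 153), [nat_lit 0, nat_lit 3])) (.leaf ((nat_lit 442), [nat_lit 1, nat_lit 3, nat_lit 0])))) (.node (nat_lit 2338) (.leaf ((nat_lit 338), [nat_lit 3])) (.node (nat_lit 2339) (.leaf ((nat_lit 108), [nat_lit 1, nat_lit 3])) (.leaf ((nat_lit 421), [nat_lit 1]))))))))))
noncomputable def n1Wd_13 : Tr (ℕ × List ℕ) := (.node (nat_lit 2430) (.node (nat_lit 2385) (.node (nat_lit 2362) (.node (nat_lit 2351) (.node (nat_lit 2345) (.node (nat_lit 2342) (.node (nat_lit 2341) (.leaf ((nat_lit 830), [nat_lit 1, nat_lit 3])) (.leaf ((nat_lit 614), [nat_lit 0, nat_lit 2, nat_lit 0]))) (.node (nat_lit 2343) (.leaf ((nat_lit 828), [nat_lit 0, nat_lit 3, nat_lit 1])) (.node (nat_lit 2344) (.leaf ((nat_lit 729), [])) (.leaf ((nat_lit 406), [nat_lit 1, nat_lit 3])))))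
 (.node (nat_lit 2348) (.node (nat_lit 2346) (.leaf ((nat_lit 108), [nat_lit 1, nat_lit 2])) (.node (nat_lit 2347) (.leaf ((nat_lit 109), [nat_lit 2])) (.leaf ((nat_lit 450), [nat_lit 1, nat_lit 2, nat_lit 1])))) (.node (nat_lit 2349) (.leaf ((nat_lit 606), [nat_lit 2])) (.node (nat_lit 2350) (.leaf ((nat_lit 835), [nat_lit 3, nat_lit 0])) (.leaf ((nat_lit 805), [nat_lit 3]))))))
 (.node (nat_lit 2356) (.node (nat_lit 2353) (.node (nat_lit 2352) (.leaf ((nat_lit 796), [nat_lit 0, nat_lit 3, nat_lit 1])) (.leaf ((nat_lit 606), [nat_lit 1, nat_lit 3]))) (.node (nat_lit 2354) (.leaf ((nat_lit 236), [nat_lit 2, nat_lit 0])) (.node (nat_lit 2355) (.leaf ((nat_lit 109), [nat_lit 1, nat_lit 3])) (.leaf ((nat_lit 459), [nat_lit 0, nat_lit 2, nat_lit 1])))))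
 (.node (nat_lit 2359) (.node (nat_lit 2357) (.leaf ((nat_lit 435), [nat_lit 0, nat_lit 3, nat_lit 1])) (.node (nat_lit 2358) (.leaf ((nat_lit 413), [nat_lit 1, nat_lit 3])) (.leaf ((nat_lit 735), [nat_lit 1, nat_lit 2])))) (.node (nat_lit 2360) (.leaf ((nat_lit 836), [nat_lit 1, nat_lit 3, nat_lit 1])) (.node (nat_lit 2361) (.leaf ((nat_lit 671), [nat_lit 0, nat_lit 3, nat_lit 1])) (.leaf ((nat_lit 837), [nat_lit 1, nat_lit 3, nat_lit 1])))))))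
 (.node (nat_lit 2373) (.node (nat_lit 2367) (.node (nat_lit 2364) (.node (nat_lit 2363) (.leaf ((nat_lit 639), [nat_lit 3, nat_lit 0])) (.leaf ((nat_lit 109), [nat_lit 0, nat_lit 3, nat_lit 1]))) (.node (nat_lit 2365) (.leaf ((nat_lit 110), [nat_lit 0, nat_lit 2, nat_lit 0])) (.node (nat_lit 2366) (.leaf ((nat_lit 638), [nat_lit 1, nat_lit 3, nat_lit 0])) (.leaf ((nat_lit 397), [])))))
 (.node (nat_lit 2370) (.node (nat_lit 2368) (.leaf ((nat_lit 638), [nat_lit 1, nat_lit 2])) (.node (nat_lit 2369) (.leaf ((nat_lit 584), [nat_lit 1, nat_lit 2])) (.leaf ((nat_lit 312), [nat_lit 0, nat_lit 3, nat_lit 1])))) (.node (nat_lit 2371) (.leaf ((nat_lit 397), [nat_lit 0, nat_lit 3, nat_lit 0])) (.node (nat_lit 2372) (.leaf ((nat_lit 639), [nat_lit 1, nat_lit 3, nat_lit 1])) (.leaf ((nat_lit 110), [nat_lit 1, nat_lit 3]))))))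
 (.node (nat_lit 2379) (.node (nat_lit 2376) (.node (nat_lit 2374) (.leaf ((nat_lit 268), [nat_lit 1])) (.node (nat_lit 2375) (.leaf ((nat_lit 737), [nat_lit 3])) (.leaf ((nat_lit 838), [nat_lit 1, nat_lit 2, nat_lit 1])))) (.node (nat_lit 2377) (.leaf ((nat_lit 241), [nat_lit 0])) (.node (nat_lit 2378) (.leaf ((nat_lit 240), [])) (.leaf ((nat_lit 263), [])))))
 (.node (nat_lit 2382) (.node (nat_lit 2380) (.leaf ((nat_lit 110), [])) (.node (nat_lit 2381) (.leaf ((nat_lit 255), [nat_lit 2, nat_lit 0])) (.leaf ((nat_lit 246), [nat_lit 1, nat_lit 2, nat_lit 0])))) (.node (nat_lit 2383) (.leaf ((nat_lit 395), [nat_lit 1, nat_lit 2, nat_lit 1])) (.node (nat_lit 2384) (.leaf ((nat_lit 650), [nat_lit 1])) (.leaf ((nat_lit 394), []))))))))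
 (.node (nat_lit 2407) (.node (nat_lit 2396) (.node (nat_lit 2390) (.node (nat_lit 2387) (.node (nat_lit 2386) (.leaf ((nat_lit 255), [nat_lit 0, nat_lit 2, nat_lit 0])) (.leaf ((nat_lit 110), [nat_lit 3, nat_lit 1]))) (.node (nat_lit 2388) (.leaf ((nat_lit 559), [nat_lit 0, nat_lit 2, nat_lit 1])) (.node (nat_lit 2389) (.leaf ((nat_lit 279), [nat_lit 0, nat_lit 2, nat_lit 1])) (.leaf ((nat_lit 111), [nat_lit 1])))))
 (.node (nat_lit 2393) (.node (nat_lit 2391) (.leaf ((nat_lit 203), [nat_lit 2, nat_lit 1])) (.node (nat_lit 2392) (.leaf ((nat_lit 832), [nat_lit 2, nat_lit 1])) (.leaf ((nat_lit 211), [nat_lit 0, nat_lit 3])))) (.node (nat_lit 2394) (.leaf ((nat_lit 271), [nat_lit 0, nat_lit 2, nat_lit 1])) (.node (nat_lit 2395) (.leaf ((nat_lit 803), [nat_lit 2, nat_lit 1])) (.leaf ((nat_lit 203), [nat_lit 3]))))))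
 (.node (nat_lit 2401) (.node (nat_lit 2398) (.node (nat_lit 2397) (.leaf ((nat_lit 111), [nat_lit 2])) (.leaf ((nat_lit 314), [nat_lit 1, nat_lit 2]))) (.node (nat_lit 2399) (.leaf ((nat_lit 585), [nat_lit 1, nat_lit 3, nat_lit 0])) (.node (nat_lit 2400) (.leaf ((nat_lit 827), [nat_lit 0, nat_lit 3])) (.leaf ((nat_lit 839), [nat_lit 0, nat_lit 2, nat_lit 1])))))
 (.node (nat_lit 2404) (.node (nat_lit 2402) (.leaf ((nat_lit 731), [nat_lit 1, nat_lit 3, nat_lit 1])) (.node (nat_lit 2403) (.leaf ((nat_lit 840), [nat_lit 2, nat_lit 0])) (.leaf ((nat_lit 455), [nat_lit 1, nat_lit 3])))) (.node (nat_lit 2405) (.leaf ((nat_lit 697), [nat_lit 2])) (.node (nat_lit 2406) (.leaf ((nat_lit 111), [nat_lit 1, nat_lit 3, nat_lit 1])) (.leaf ((nat_lit 112), [nat_lit 1, nat_lit 2, nat_lit 1])))))))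
 (.node (nat_lit 2418) (.node (nat_lit 2412) (.node (nat_lit 2409) (.node (nat_lit 2408) (.leaf ((nat_lit 407), [nat_lit 1, nat_lit 2, nat_lit 0])) (.leaf ((nat_lit 718), [nat_lit 0, nat_lit 3]))) (.node (nat_lit 2410) (.leaf ((nat_lit 784), [nat_lit 2])) (.node (nat_lit 2411) (.leaf ((nat_lit 594), [nat_lit 0, nat_lit 3, nat_lit 0])) (.leaf ((nat_lit 714), [nat_lit 3, nat_lit 1])))))
 (.node (nat_lit 2415) (.node (nat_lit 2413) (.leaf ((nat_lit 718), [nat_lit 3, nat_lit 0])) (.node (nat_lit 2414) (.leaf ((nat_lit 615), [nat_lit 1, nat_lit 2, nat_lit 0])) (.leaf ((nat_lit 112), [nat_lit 1])))) (.node (nat_lit 2416) (.leaf ((nat_lit 838), [nat_lit 1, nat_lit 3, nat_lit 0])) (.node (nat_lit 2417) (.leaf ((nat_lit 599), [])) (.leaf ((nat_lit 268), [nat_lit 0]))))))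
 (.node (nat_lit 2424) (.node (nat_lit 2421) (.node (nat_lit 2419) (.leaf ((nat_lit 472), [nat_lit 2])) (.node (nat_lit 2420) (.leaf ((nat_lit 841), [nat_lit 0, nat_lit 2])) (.leaf ((nat_lit 470), [nat_lit 0, nat_lit 3, nat_lit 1])))) (.node (nat_lit 2422) (.leaf ((nat_lit 112), [nat_lit 3])) (.node (nat_lit 2423) (.leaf ((nat_lit 687), [nat_lit 0, nat_lit 2, nat_lit 0])) (.leaf ((nat_lit 231), [nat_lit 3])))))
 (.node (nat_lit 2427) (.node (nat_lit 2425) (.leaf ((nat_lit 487), [nat_lit 0, nat_lit 3, nat_lit 1])) (.node (nat_lit 2426) (.leaf ((nat_lit 285), [nat_lit 0])) (.leaf ((nat_lit 485), [nat_lit 1, nat_lit 2, nat_lit 0])))) (.node (nat_lit 2428) (.leaf ((nat_lit 687), [nat_lit 3, nat_lit 0])) (.node (nat_lit 2429) (.leaf ((nat_lit 112), [nat_lit 1])) (.leaf ((nat_lit 682), [nat_lit 2, nat_lit 0])))))))))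
 (.node (nat_lit 2475) (.node (nat_lit 2452) (.node (nat_lit 2441) (.node (nat_lit 2435) (.node (nat_lit 2432) (.node (nat_lit 2431) (.leaf ((nat_lit 114), [nat_lit 0, nat_lit 3, nat_lit 0])) (.leaf ((nat_lit 113), [nat_lit 0, nat_lit 2, nat_lit 1]))) (.node (nat_lit 2433) (.leaf ((nat_lit 717), [nat_lit 1, nat_lit 2, nat_lit 0])) (.node (nat_lit 2434) (.leaf ((nat_lit 830), [nat_lit 3, nat_lit 0])) (.leaf ((nat_lit 788), [nat_lit 0, nat_lit 2, nat_lit 1])))))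
 (.node (nat_lit 2438) (.node (nat_lit 2436) (.leaf ((nat_lit 192), [nat_lit 0, nat_lit 2])) (.node (nat_lit 2437) (.leaf ((nat_lit 115), [nat_lit 1, nat_lit 3])) (.leaf ((nat_lit 717), [nat_lit 3])))) (.node (nat_lit 2439) (.leaf ((nat_lit 113), [nat_lit 1])) (.node (nat_lit 2440) (.leaf ((nat_lit 707), [nat_lit 0, nat_lit 3, nat_lit 1])) (.leaf ((nat_lit 390), [nat_lit 2, nat_lit 0]))))))
 (.node (nat_lit 2446) (.node (nat_lit 2443) (.node (nat_lit 2442) (.leaf ((nat_lit 349), [nat_lit 1, nat_lit 3, nat_lit 1])) (.leaf ((nat_lit 221), [nat_lit 0]))) (.node (nat_lit 2444) (.leaf ((nat_lit 401), [nat_lit 1, nat_lit 3, nat_lit 0])) (.node (nat_lit 2445) (.leaf ((nat_lit 842), [nat_lit 0, nat_lit 3])) (.leaf ((nat_lit 113), [nat_lit 1, nat_lit 2])))))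
 (.node (nat_lit 2449) (.node (nat_lit 2447) (.leaf ((nat_lit 804), [nat_lit 1, nat_lit 3])) (.node (nat_lit 2448) (.leaf ((nat_lit 576), [nat_lit 1, nat_lit 3, nat_lit 1])) (.leaf ((nat_lit 843), [nat_lit 0, nat_lit 2])))) (.node (nat_lit 2450) (.leaf ((nat_lit 789), [nat_lit 0, nat_lit 2])) (.node (nat_lit 2451) (.leaf ((nat_lit 844), [nat_lit 1, nat_lit 3, nat_lit 0])) (.leaf ((nat_lit 804), [nat_lit 1, nat_lit 3])))))))
 (.node (nat_lit 2463) (.node (nat_lit 2457) (.node (nat_lit 2454) (.node (nat_lit 2453) (.leaf ((nat_lit 113), [nat_lit 1, nat_lit 2])) (.leaf ((nat_lit 362), [nat_lit 1, nat_lit 3, nat_lit 0]))) (.node (nat_lit 2455) (.leaf ((nat_lit 195), [nat_lit 0, nat_lit 3, nat_lit 0])) (.node (nat_lit 2456) (.leaf ((nat_lit 553), [nat_lit 0])) (.leaf ((nat_lit 845), [nat_lit 0, nat_lit 2])))))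
 (.node (nat_lit 2460) (.node (nat_lit 2458) (.leaf ((nat_lit 740), [nat_lit 1, nat_lit 3, nat_lit 1])) (.node (nat_lit 2459) (.leaf ((nat_lit 846), [nat_lit 1, nat_lit 3, nat_lit 1])) (.leaf ((nat_lit 113), [nat_lit 3, nat_lit 1])))) (.node (nat_lit 2461) (.leaf ((nat_lit 717), [nat_lit 1, nat_lit 2, nat_lit 1])) (.node (nat_lit 2462) (.leaf ((nat_lit 115), [nat_lit 0, nat_lit 2, nat_lit 1])) (.leaf ((nat_lit 114), [nat_lit 0, nat_lit 3, nat_lit 1]))))))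
 (.node (nat_lit 2469) (.node (nat_lit 2466) (.node (nat_lit 2464) (.leaf ((nat_lit 847), [nat_lit 0, nat_lit 3, nat_lit 0])) (.node (nat_lit 2465) (.leaf ((nat_lit 834), [nat_lit 0, nat_lit 3, nat_lit 0])) (.leaf ((nat_lit 848), [nat_lit 1, nat_lit 3])))) (.node (nat_lit 2467) (.leaf ((nat_lit 841), [nat_lit 2])) (.node (nat_lit 2468) (.leaf ((nat_lit 472), [nat_lit 1, nat_lit 2])) (.leaf ((nat_lit 471), [])))))
 (.node (nat_lit 2472) (.node (nat_lit 2470) (.leaf ((nat_lit 114), [nat_lit 0, nat_lit 3])) (.node (nat_lit 2471) (.leaf ((nat_lit 728), [nat_lit 0, nat_lit 3])) (.leaf ((nat_lit 474), [nat_lit 0, nat_lit 3, nat_lit 0])))) (.node (nat_lit 2473) (.leaf ((nat_lit 619), [nat_lit 1, nat_lit 2])) (.node (nat_lit 2474) (.leaf ((nat_lit 220), [])) (.leaf ((nat_lit 219), [nat_lit 1]))))))))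
 (.node (nat_lit 2497) (.node (nat_lit 2486) (.node (nat_lit 2480) (.node (nat_lit 2477) (.node (nat_lit 2476) (.leaf ((nat_lit 328), [nat_lit 0])) (.leaf ((nat_lit 128), [nat_lit 3, nat_lit 1]))) (.node (nat_lit 2478) (.leaf ((nat_lit 114), [nat_lit 2, nat_lit 0])) (.node (nat_lit 2479) (.leaf ((nat_lit 757), [nat_lit 0, nat_lit 3, nat_lit 0])) (.leaf ((nat_lit 756), [nat_lit 1, nat_lit 2, nat_lit 0])))))
 (.node (nat_lit 2483) (.node (nat_lit 2481) (.leaf ((nat_lit 824), [nat_lit 1, nat_lit 2, nat_lit 0])) (.node (nat_lit 2482) (.leaf ((nat_lit 580), [nat_lit 3, nat_lit 1])) (.leaf ((nat_lit 115), [nat_lit 0, nat_lit 2, nat_lit 1])))) (.node (nat_lit 2484) (.leaf ((nat_lit 392), [nat_lit 2, nat_lit 0])) (.node (nat_lit 2485) (.leaf ((nat_lit 849), [nat_lit 3, nat_lit 0])) (.leaf ((nat_lit 850), [nat_lit 1, nat_lit 3, nat_lit 1]))))))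
 (.node (nat_lit 2491) (.node (nat_lit 2488) (.node (nat_lit 2487) (.leaf ((nat_lit 627), [nat_lit 3, nat_lit 1])) (.leaf ((nat_lit 851), [nat_lit 2, nat_lit 0]))) (.node (nat_lit 2489) (.leaf ((nat_lit 125), [nat_lit 0, nat_lit 2, nat_lit 1])) (.node (nat_lit 2490) (.leaf ((nat_lit 115), [nat_lit 0, nat_lit 2, nat_lit 0])) (.leaf ((nat_lit 116), [nat_lit 1])))))
 (.node (nat_lit 2494) (.node (nat_lit 2492) (.leaf ((nat_lit 703), [nat_lit 1, nat_lit 2, nat_lit 1])) (.node (nat_lit 2493) (.leaf ((nat_lit 498), [])) (.leaf ((nat_lit 503), [nat_lit 3])))) (.node (nat_lit 2495) (.leaf ((nat_lit 733), [nat_lit 0, nat_lit 3, nat_lit 1])) (.node (nat_lit 2496) (.leaf ((nat_lit 789), [nat_lit 1, nat_lit 3])) (.leaf ((nat_lit 703), [nat_lit 1, nat_lit 3, nat_lit 0])))))))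
 (.node (nat_lit 2508) (.node (nat_lit 2502) (.node (nat_lit 2499) (.node (nat_lit 2498) (.leaf ((nat_lit 116), [nat_lit 2, nat_lit 0])) (.leaf ((nat_lit 163), [nat_lit 0]))) (.node (nat_lit 2500) (.leaf ((nat_lit 472), [])) (.node (nat_lit 2501) (.leaf ((nat_lit 324), [nat_lit 2, nat_lit 1])) (.leaf ((nat_lit 852), [])))))
 (.node (nat_lit 2505) (.node (nat_lit 2503) (.leaf ((nat_lit 498), [nat_lit 3])) (.node (nat_lit 2504) (.leaf ((nat_lit 163), [nat_lit 0, nat_lit 2, nat_lit 0])) (.leaf ((nat_lit 116), [nat_lit 1, nat_lit 3])))) (.node (nat_lit 2506) (.leaf ((nat_lit 253), [nat_lit 0, nat_lit 3])) (.node (nat_lit 2507) (.leaf ((nat_lit 537), [nat_lit 1, nat_lit 3, nat_lit 0])) (.leaf ((nat_lit 853), [nat_lit 3, nat_lit 1]))))))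
 (.node (nat_lit 2514) (.node (nat_lit 2511) (.node (nat_lit 2509) (.leaf ((nat_lit 464), [nat_lit 1, nat_lit 3, nat_lit 0])) (.node (nat_lit 2510) (.leaf ((nat_lit 682), [nat_lit 1, nat_lit 3, nat_lit 1])) (.leaf ((nat_lit 559), [])))) (.node (nat_lit 2512) (.leaf ((nat_lit 440), [nat_lit 1])) (.node (nat_lit 2513) (.leaf ((nat_lit 136), [nat_lit 1, nat_lit 3, nat_lit 1])) (.leaf ((nat_lit 117), [nat_lit 0, nat_lit 2, nat_lit 1])))))
 (.node (nat_lit 2517) (.node (nat_lit 2515) (.leaf ((nat_lit 122), [nat_lit 2])) (.node (nat_lit 2516) (.leaf ((nat_lit 119), [nat_lit 1, nat_lit 2, nat_lit 1])) (.leaf ((nat_lit 118), [nat_lit 1, nat_lit 3, nat_lit 0])))) (.node (nat_lit 2518) (.leaf ((nat_lit 676), [nat_lit 0])) (.node (nat_lit 2519) (.leaf ((nat_lit 363), [nat_lit 1, nat_lit 3])) (.leaf ((nat_lit 846), [nat_lit 3, nat_lit 1]))))))))))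
noncomputable def n1Wd_14 : Tr (ℕ × List ℕ) := (.node (nat_lit 2610) (.node (nat_lit 2565) (.node (nat_lit 2542) (.node (nat_lit 2531) (.node (nat_lit 2525) (.node (nat_lit 2522) (.node (nat_lit 2521) (.leaf ((nat_lit 709), [nat_lit 1, nat_lit 3, nat_lit 1])) (.leaf ((nat_lit 259), [nat_lit 2]))) (.node (nat_lit 2523) (.leaf ((nat_lit 834), [nat_lit 3, nat_lit 1])) (.node (nat_lit 2524) (.leaf ((nat_lit 376), [nat_lit 0, nat_lit 2, nat_lit 1])) (.leaf ((nat_lit 192), [nat_lit 0, nat_lit 2, nat_lit 0])))))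
 (.node (nat_lit 2528) (.node (nat_lit 2526) (.leaf ((nat_lit 118), [nat_lit 2, nat_lit 0])) (.node (nat_lit 2527) (.leaf ((nat_lit 120), [nat_lit 1])) (.leaf ((nat_lit 854), [])))) (.node (nat_lit 2529) (.leaf ((nat_lit 292), [nat_lit 0, nat_lit 3])) (.node (nat_lit 2530) (.leaf ((nat_lit 617), [nat_lit 2, nat_lit 0])) (.leaf ((nat_lit 119), [nat_lit 1, nat_lit 3, nat_lit 0]))))))
 (.node (nat_lit 2536) (.node (nat_lit 2533) (.node (nat_lit 2532) (.leaf ((nat_lit 389), [nat_lit 0])) (.leaf ((nat_lit 855), [nat_lit 1, nat_lit 3, nat_lit 1]))) (.node (nat_lit 2534) (.leaf ((nat_lit 651), [nat_lit 0, nat_lit 2])) (.node (nat_lit 2535) (.leaf ((nat_lit 798), [nat_lit 1, nat_lit 3, nat_lit 1])) (.leaf ((nat_lit 350), [nat_lit 2])))))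
 (.node (nat_lit 2539) (.node (nat_lit 2537) (.leaf ((nat_lit 349), [nat_lit 1, nat_lit 3, nat_lit 1])) (.node (nat_lit 2538) (.leaf ((nat_lit 119), [nat_lit 1, nat_lit 3, nat_lit 0])) (.leaf ((nat_lit 854), [nat_lit 2, nat_lit 0])))) (.node (nat_lit 2540) (.leaf ((nat_lit 120), [nat_lit 1, nat_lit 2, nat_lit 0])) (.node (nat_lit 2541) (.leaf ((nat_lit 856), [nat_lit 0, nat_lit 3, nat_lit 1])) (.leaf ((nat_lit 188), [nat_lit 0])))))))
 (.node (nat_lit 2553) (.node (nat_lit 2547) (.node (nat_lit 2544) (.node (nat_lit 2543) (.leaf ((nat_lit 783), [nat_lit 1, nat_lit 3, nat_lit 1])) (.leaf ((nat_lit 724), [nat_lit 1, nat_lit 2, nat_lit 0]))) (.node (nat_lit 2545) (.leaf ((nat_lit 292), [nat_lit 0, nat_lit 3])) (.node (nat_lit 2546) (.leaf ((nat_lit 856), [nat_lit 3, nat_lit 0])) (.leaf ((nat_lit 120), [nat_lit 1])))))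
 (.node (nat_lit 2550) (.node (nat_lit 2548) (.leaf ((nat_lit 545), [nat_lit 0, nat_lit 2, nat_lit 1])) (.node (nat_lit 2549) (.leaf ((nat_lit 383), [nat_lit 2, nat_lit 1])) (.leaf ((nat_lit 166), [nat_lit 0, nat_lit 3])))) (.node (nat_lit 2551) (.leaf ((nat_lit 203), [nat_lit 1, nat_lit 2, nat_lit 1])) (.node (nat_lit 2552) (.leaf ((nat_lit 803), [nat_lit 1, nat_lit 3, nat_lit 1])) (.leaf ((nat_lit 279), [nat_lit 2, nat_lit 1]))))))
 (.node (nat_lit 2559) (.node (nat_lit 2556) (.node (nat_lit 2554) (.leaf ((nat_lit 121), [nat_lit 3, nat_lit 1])) (.node (nat_lit 2555) (.leaf ((nat_lit 120), [nat_lit 0])) (.leaf ((nat_lit 156), [nat_lit 2, nat_lit 1])))) (.node (nat_lit 2557) (.leaf ((nat_lit 468), [nat_lit 3, nat_lit 0])) (.node (nat_lit 2558) (.leaf ((nat_lit 596), [nat_lit 1, nat_lit 3])) (.leaf ((nat_lit 466), [nat_lit 1, nat_lit 2, nat_lit 0])))))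
 (.node (nat_lit 2562) (.node (nat_lit 2560) (.leaf ((nat_lit 808), [nat_lit 0, nat_lit 2, nat_lit 1])) (.node (nat_lit 2561) (.leaf ((nat_lit 814), [nat_lit 3, nat_lit 1])) (.leaf ((nat_lit 120), [nat_lit 3, nat_lit 1])))) (.node (nat_lit 2563) (.leaf ((nat_lit 219), [nat_lit 1])) (.node (nat_lit 2564) (.leaf ((nat_lit 218), [nat_lit 1])) (.leaf ((nat_lit 619), [nat_lit 1, nat_lit 2]))))))))
 (.node (nat_lit 2587) (.node (nat_lit 2576) (.node (nat_lit 2570) (.node (nat_lit 2567) (.node (nat_lit 2566) (.leaf ((nat_lit 122), [nat_lit 1, nat_lit 2, nat_lit 0])) (.leaf ((nat_lit 499), [nat_lit 1, nat_lit 3, nat_lit 1]))) (.node (nat_lit 2568) (.leaf ((nat_lit 162), [nat_lit 3, nat_lit 0])) (.node (nat_lit 2569) (.leaf ((nat_lit 857), [nat_lit 1, nat_lit 3, nat_lit 0])) (.leaf ((nat_lit 458), [nat_lit 3, nat_lit 1])))))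
 (.node (nat_lit 2573) (.node (nat_lit 2571) (.leaf ((nat_lit 858), [nat_lit 1, nat_lit 3])) (.node (nat_lit 2572) (.leaf ((nat_lit 499), [nat_lit 2])) (.leaf ((nat_lit 122), [nat_lit 2, nat_lit 0])))) (.node (nat_lit 2574) (.leaf ((nat_lit 338), [nat_lit 2])) (.node (nat_lit 2575) (.leaf ((nat_lit 859), [nat_lit 2])) (.leaf ((nat_lit 265), [nat_lit 3, nat_lit 0]))))))
 (.node (nat_lit 2581) (.node (nat_lit 2578) (.node (nat_lit 2577) (.leaf ((nat_lit 860), [nat_lit 0, nat_lit 3, nat_lit 0])) (.leaf ((nat_lit 724), [nat_lit 1]))) (.node (nat_lit 2579) (.leaf ((nat_lit 848), [nat_lit 1, nat_lit 2, nat_lit 0])) (.node (nat_lit 2580) (.leaf ((nat_lit 122), [nat_lit 1, nat_lit 3])) (.leaf ((nat_lit 123), [nat_lit 1, nat_lit 3, nat_lit 1])))))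
 (.node (nat_lit 2584) (.node (nat_lit 2582) (.leaf ((nat_lit 699), [nat_lit 0, nat_lit 3, nat_lit 1])) (.node (nat_lit 2583) (.leaf ((nat_lit 326), [nat_lit 3, nat_lit 0])) (.leaf ((nat_lit 861), [nat_lit 2, nat_lit 1])))) (.node (nat_lit 2585) (.leaf ((nat_lit 457), [nat_lit 1, nat_lit 2])) (.node (nat_lit 2586) (.leaf ((nat_lit 313), [nat_lit 1, nat_lit 2, nat_lit 0])) (.leaf ((nat_lit 699), [nat_lit 3, nat_lit 0])))))))
 (.node (nat_lit 2598) (.node (nat_lit 2592) (.node (nat_lit 2589) (.node (nat_lit 2588) (.leaf ((nat_lit 123), [nat_lit 0, nat_lit 3, nat_lit 0])) (.leaf ((nat_lit 814), [nat_lit 0, nat_lit 2, nat_lit 1]))) (.node (nat_lit 2590) (.leaf ((nat_lit 130), [nat_lit 0, nat_lit 2, nat_lit 1])) (.node (nat_lit 2591) (.leaf ((nat_lit 341), [nat_lit 2])) (.leaf ((nat_lit 715), [nat_lit 1, nat_lit 2, nat_lit 1])))))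
 (.node (nat_lit 2595) (.node (nat_lit 2593) (.leaf ((nat_lit 326), [])) (.node (nat_lit 2594) (.leaf ((nat_lit 814), [nat_lit 1, nat_lit 3, nat_lit 1])) (.leaf ((nat_lit 123), [nat_lit 3, nat_lit 0])))) (.node (nat_lit 2596) (.leaf ((nat_lit 175), [nat_lit 2, nat_lit 0])) (.node (nat_lit 2597) (.leaf ((nat_lit 855), [nat_lit 0, nat_lit 3, nat_lit 0])) (.leaf ((nat_lit 842), [nat_lit 1, nat_lit 3, nat_lit 1]))))))
 (.node (nat_lit 2604) (.node (nat_lit 2601) (.node (nat_lit 2599) (.leaf ((nat_lit 515), [nat_lit 3, nat_lit 1])) (.node (nat_lit 2600) (.leaf ((nat_lit 488), [nat_lit 1])) (.leaf ((nat_lit 514), [nat_lit 0, nat_lit 2, nat_lit 0])))) (.node (nat_lit 2602) (.leaf ((nat_lit 281), [nat_lit 1, nat_lit 2, nat_lit 0])) (.node (nat_lit 2603) (.leaf ((nat_lit 590), [nat_lit 1, nat_lit 2, nat_lit 0])) (.leaf ((nat_lit 123), [nat_lit 1, nat_lit 2, nat_lit 0])))))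
 (.node (nat_lit 2607) (.node (nat_lit 2605) (.leaf ((nat_lit 527), [nat_lit 3])) (.node (nat_lit 2606) (.leaf ((nat_lit 759), [nat_lit 2, nat_lit 0])) (.leaf ((nat_lit 124), [nat_lit 2, nat_lit 1])))) (.node (nat_lit 2608) (.leaf ((nat_lit 319), [nat_lit 0, nat_lit 3, nat_lit 0])) (.node (nat_lit 2609) (.leaf ((nat_lit 858), [nat_lit 2, nat_lit 0])) (.leaf ((nat_lit 862), [nat_lit 1, nat_lit 2, nat_lit 1])))))))))
 (.node (nat_lit 2655) (.node (nat_lit 2632) (.node (nat_lit 2621) (.node (nat_lit 2615) (.node (nat_lit 2612) (.node (nat_lit 2611) (.leaf ((nat_lit 786), [nat_lit 0, nat_lit 3, nat_lit 0])) (.leaf ((nat_lit 217), [nat_lit 0, nat_lit 2]))) (.node (nat_lit 2613) (.leaf ((nat_lit 661), [nat_lit 1])) (.node (nat_lit 2614) (.leaf ((nat_lit 371), [nat_lit 1, nat_lit 2])) (.leaf ((nat_lit 392), [nat_lit 0, nat_lit 2, nat_lit 1])))))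
 (.node (nat_lit 2618) (.node (nat_lit 2616) (.leaf ((nat_lit 124), [nat_lit 0, nat_lit 2, nat_lit 0])) (.node (nat_lit 2617) (.leaf ((nat_lit 125), [nat_lit 0, nat_lit 3])) (.leaf ((nat_lit 201), [])))) (.node (nat_lit 2619) (.leaf ((nat_lit 511), [nat_lit 3, nat_lit 0])) (.node (nat_lit 2620) (.leaf ((nat_lit 863), [nat_lit 0])) (.leaf ((nat_lit 853), [nat_lit 0, nat_lit 2]))))))
 (.node (nat_lit 2626) (.node (nat_lit 2623) (.node (nat_lit 2622) (.leaf ((nat_lit 148), [nat_lit 1, nat_lit 3])) (.leaf ((nat_lit 511), [nat_lit 3, nat_lit 1]))) (.node (nat_lit 2624) (.leaf ((nat_lit 306), [nat_lit 1, nat_lit 3, nat_lit 0])) (.node (nat_lit 2625) (.leaf ((nat_lit 125), [nat_lit 0, nat_lit 3, nat_lit 0])) (.leaf ((nat_lit 840), [nat_lit 0, nat_lit 2, nat_lit 0])))))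
 (.node (nat_lit 2629) (.node (nat_lit 2627) (.leaf ((nat_lit 864), [nat_lit 0, nat_lit 2, nat_lit 0])) (.node (nat_lit 2628) (.leaf ((nat_lit 216), [nat_lit 3])) (.leaf ((nat_lit 865), [nat_lit 1, nat_lit 2, nat_lit 0])))) (.node (nat_lit 2630) (.leaf ((nat_lit 852), [nat_lit 2, nat_lit 1])) (.node (nat_lit 2631) (.leaf ((nat_lit 866), [nat_lit 0, nat_lit 3, nat_lit 0])) (.leaf ((nat_lit 125), [nat_lit 0, nat_lit 2, nat_lit 1])))))))
 (.node (nat_lit 2643) (.node (nat_lit 2637) (.node (nat_lit 2634) (.node (nat_lit 2633) (.leaf ((nat_lit 851), [nat_lit 2, nat_lit 0])) (.leaf ((nat_lit 332), []))) (.node (nat_lit 2635) (.leaf ((nat_lit 146), [nat_lit 1, nat_lit 3])) (.node (nat_lit 2636) (.leaf ((nat_lit 229), [nat_lit 2, nat_lit 0])) (.leaf ((nat_lit 144), [nat_lit 3, nat_lit 0])))))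
 (.node (nat_lit 2640) (.node (nat_lit 2638) (.leaf ((nat_lit 706), [nat_lit 0, nat_lit 3])) (.node (nat_lit 2639) (.leaf ((nat_lit 611), [nat_lit 0, nat_lit 3, nat_lit 0])) (.leaf ((nat_lit 126), [nat_lit 2, nat_lit 1])))) (.node (nat_lit 2641) (.leaf ((nat_lit 198), [nat_lit 3, nat_lit 0])) (.node (nat_lit 2642) (.leaf ((nat_lit 127), [nat_lit 3, nat_lit 0])) (.leaf ((nat_lit 196), [nat_lit 1, nat_lit 2, nat_lit 0]))))))
 (.node (nat_lit 2649) (.node (nat_lit 2646) (.node (nat_lit 2644) (.leaf ((nat_lit 418), [nat_lit 0])) (.node (nat_lit 2645) (.leaf ((nat_lit 458), [nat_lit 1, nat_lit 3, nat_lit 0])) (.leaf ((nat_lit 788), [nat_lit 0, nat_lit 3, nat_lit 0])))) (.node (nat_lit 2647) (.leaf ((nat_lit 128), [])) (.node (nat_lit 2648) (.leaf ((nat_lit 813), [nat_lit 2])) (.leaf ((nat_lit 494), [])))))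
 (.node (nat_lit 2652) (.node (nat_lit 2650) (.leaf ((nat_lit 598), [nat_lit 2, nat_lit 1])) (.node (nat_lit 2651) (.leaf ((nat_lit 589), [nat_lit 0, nat_lit 3, nat_lit 1])) (.leaf ((nat_lit 597), [nat_lit 1])))) (.node (nat_lit 2653) (.leaf ((nat_lit 813), [nat_lit 2])) (.node (nat_lit 2654) (.leaf ((nat_lit 128), [])) (.leaf ((nat_lit 389), [nat_lit 1, nat_lit 2, nat_lit 0]))))))))
 (.node (nat_lit 2677) (.node (nat_lit 2666) (.node (nat_lit 2660) (.node (nat_lit 2657) (.node (nat_lit 2656) (.leaf ((nat_lit 651), [nat_lit 1, nat_lit 2])) (.leaf ((nat_lit 237), [nat_lit 0, nat_lit 2]))) (.node (nat_lit 2658) (.leaf ((nat_lit 260), [nat_lit 0, nat_lit 2, nat_lit 0])) (.node (nat_lit 2659) (.leaf ((nat_lit 769), [nat_lit 1, nat_lit 3, nat_lit 0])) (.leaf ((nat_lit 350), [nat_lit 1])))))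
 (.node (nat_lit 2663) (.node (nat_lit 2661) (.leaf ((nat_lit 323), [nat_lit 3])) (.node (nat_lit 2662) (.leaf ((nat_lit 128), [nat_lit 3, nat_lit 0])) (.leaf ((nat_lit 328), [])))) (.node (nat_lit 2664) (.leaf ((nat_lit 586), [nat_lit 3])) (.node (nat_lit 2665) (.leaf ((nat_lit 130), [nat_lit 0, nat_lit 3, nat_lit 0])) (.leaf ((nat_lit 129), [nat_lit 0, nat_lit 3, nat_lit 1]))))))
 (.node (nat_lit 2671) (.node (nat_lit 2668) (.node (nat_lit 2667) (.leaf ((nat_lit 534), [nat_lit 2, nat_lit 1])) (.leaf ((nat_lit 235), [nat_lit 0]))) (.node (nat_lit 2669) (.leaf ((nat_lit 234), [nat_lit 0, nat_lit 2, nat_lit 0])) (.node (nat_lit 2670) (.leaf ((nat_lit 867), [nat_lit 1])) (.leaf ((nat_lit 131), [nat_lit 2])))))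
 (.node (nat_lit 2674) (.node (nat_lit 2672) (.leaf ((nat_lit 534), [nat_lit 1, nat_lit 3, nat_lit 0])) (.node (nat_lit 2673) (.leaf ((nat_lit 129), [nat_lit 1, nat_lit 3])) (.leaf ((nat_lit 465), [nat_lit 1, nat_lit 2])))) (.node (nat_lit 2675) (.leaf ((nat_lit 223), [nat_lit 3, nat_lit 0])) (.node (nat_lit 2676) (.leaf ((nat_lit 365), [nat_lit 1, nat_lit 2])) (.leaf ((nat_lit 617), [nat_lit 3])))))))
 (.node (nat_lit 2688) (.node (nat_lit 2682) (.node (nat_lit 2679) (.node (nat_lit 2678) (.leaf ((nat_lit 561), [nat_lit 1, nat_lit 2, nat_lit 1])) (.leaf ((nat_lit 132), [nat_lit 1, nat_lit 2, nat_lit 0]))) (.node (nat_lit 2680) (.leaf ((nat_lit 129), [nat_lit 0, nat_lit 2])) (.node (nat_lit 2681) (.leaf ((nat_lit 476), [nat_lit 0, nat_lit 3, nat_lit 1])) (.leaf ((nat_lit 270), [nat_lit 1, nat_lit 2, nat_lit 0])))))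
 (.node (nat_lit 2685) (.node (nat_lit 2683) (.leaf ((nat_lit 141), [nat_lit 0, nat_lit 2, nat_lit 1])) (.node (nat_lit 2684) (.leaf ((nat_lit 280), [nat_lit 1, nat_lit 3, nat_lit 1])) (.leaf ((nat_lit 139), [nat_lit 0, nat_lit 2, nat_lit 1])))) (.node (nat_lit 2686) (.leaf ((nat_lit 799), [nat_lit 2, nat_lit 1])) (.node (nat_lit 2687) (.leaf ((nat_lit 699), [nat_lit 1, nat_lit 2, nat_lit 0])) (.leaf ((nat_lit 129), [nat_lit 0, nat_lit 3, nat_lit 1]))))))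
 (.node (nat_lit 2694) (.node (nat_lit 2691) (.node (nat_lit 2689) (.leaf ((nat_lit 534), [nat_lit 1, nat_lit 2, nat_lit 1])) (.node (nat_lit 2690) (.leaf ((nat_lit 131), [nat_lit 0, nat_lit 3, nat_lit 0])) (.leaf ((nat_lit 130), [nat_lit 1, nat_lit 3, nat_lit 1])))) (.node (nat_lit 2692) (.leaf ((nat_lit 611), [nat_lit 3, nat_lit 0])) (.node (nat_lit 2693) (.leaf ((nat_lit 706), [nat_lit 0, nat_lit 2])) (.leaf ((nat_lit 758), [nat_lit 1, nat_lit 3, nat_lit 1])))))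
 (.node (nat_lit 2697) (.node (nat_lit 2695) (.leaf ((nat_lit 852), [nat_lit 3, nat_lit 0])) (.node (nat_lit 2696) (.leaf ((nat_lit 865), [nat_lit 0, nat_lit 2, nat_lit 1])) (.leaf ((nat_lit 376), [nat_lit 0, nat_lit 2, nat_lit 1])))) (.node (nat_lit 2698) (.leaf ((nat_lit 844), [nat_lit 2, nat_lit 0])) (.node (nat_lit 2699) (.leaf ((nat_lit 868), [nat_lit 0, nat_lit 3, nat_lit 1])) (.leaf ((nat_lit 130), [nat_lit 0]))))))))))
noncomputable def n1Wd_15 : Tr (ℕ × List ℕ) := (.node (nat_lit 2790) (.node (nat_lit 2745) (.node (nat_lit 2722) (.node (nat_lit 2711) (.node (nat_lit 2705) (.node (nat_lit 2702) (.node (nat_lit 2701) (.leaf ((nat_lit 352), [nat_lit 0, nat_lit 3, nat_lit 0])) (.leaf ((nat_lit 391), [nat_lit 0, nat_lit 3, nat_lit 0]))) (.node (nat_lit 2703) (.leaf ((nat_lit 476), [nat_lit 2, nat_lit 0])) (.node (nat_lit 2704) (.leaf ((nat_lit 523), [nat_lit 1, nat_lit 2, nat_lit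 0])) (.leaf ((nat_lit 131), [nat_lit 1, nat_lit 3, nat_lit 1])))))
 (.node (nat_lit 2708) (.node (nat_lit 2706) (.leaf ((nat_lit 140), [nat_lit 1, nat_lit 2])) (.node (nat_lit 2707) (.leaf ((nat_lit 613), [nat_lit 0, nat_lit 3, nat_lit 0])) (.leaf ((nat_lit 132), [nat_lit 1, nat_lit 3, nat_lit 1])))) (.node (nat_lit 2709) (.leaf ((nat_lit 561), [nat_lit 0, nat_lit 3, nat_lit 0])) (.node (nat_lit 2710) (.leaf ((nat_lit 869), [nat_lit 0, nat_lit 3])) (.leaf ((nat_lit 339), [nat_lit 0, nat_lit 3, nat_lit 0]))))))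
 (.node (nat_lit 2716) (.node (nat_lit 2713) (.node (nat_lit 2712) (.leaf ((nat_lit 870), [nat_lit 1, nat_lit 3, nat_lit 1])) (.leaf ((nat_lit 808), [nat_lit 0, nat_lit 3, nat_lit 1]))) (.node (nat_lit 2714) (.leaf ((nat_lit 200), [nat_lit 1, nat_lit 3, nat_lit 1])) (.node (nat_lit 2715) (.leaf ((nat_lit 760), [nat_lit 1, nat_lit 3])) (.leaf ((nat_lit 133), [nat_lit 0, nat_lit 3, nat_lit 1])))))
 (.node (nat_lit 2719) (.node (nat_lit 2717) (.leaf ((nat_lit 210), [nat_lit 1, nat_lit 2])) (.node (nat_lit 2718) (.leaf ((nat_lit 291), [nat_lit 2, nat_lit 0])) (.leaf ((nat_lit 375), [nat_lit 0, nat_lit 2])))) (.node (nat_lit 2720) (.leaf ((nat_lit 135), [nat_lit 1, nat_lit 2])) (.node (nat_lit 2721) (.leaf ((nat_lit 134), [nat_lit 1, nat_lit 2, nat_lit 0])) (.leaf ((nat_lit 183), [nat_lit 0, nat_lit 2])))))))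
 (.node (nat_lit 2733) (.node (nat_lit 2727) (.node (nat_lit 2724) (.node (nat_lit 2723) (.leaf ((nat_lit 168), [nat_lit 0, nat_lit 2, nat_lit 1])) (.leaf ((nat_lit 671), [nat_lit 2, nat_lit 0]))) (.node (nat_lit 2725) (.leaf ((nat_lit 787), [nat_lit 0, nat_lit 3, nat_lit 0])) (.node (nat_lit 2726) (.leaf ((nat_lit 869), [nat_lit 1, nat_lit 3, nat_lit 1])) (.leaf ((nat_lit 673), [nat_lit 2])))))
 (.node (nat_lit 2730) (.node (nat_lit 2728) (.leaf ((nat_lit 134), [nat_lit 0, nat_lit 3, nat_lit 1])) (.node (nat_lit 2729) (.leaf ((nat_lit 677), [nat_lit 0, nat_lit 3, nat_lit 0])) (.leaf ((nat_lit 569), [nat_lit 3, nat_lit 0])))) (.node (nat_lit 2731) (.leaf ((nat_lit 871), [nat_lit 2, nat_lit 1])) (.node (nat_lit 2732) (.leaf ((nat_lit 745), [nat_lit 0, nat_lit 3, nat_lit 0])) (.leaf ((nat_lit 872), [nat_lit 0, nat_lit 3, nat_lit 0]))))))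
 (.node (nat_lit 2739) (.node (nat_lit 2736) (.node (nat_lit 2734) (.leaf ((nat_lit 400), [nat_lit 2, nat_lit 0])) (.node (nat_lit 2735) (.leaf ((nat_lit 825), [nat_lit 0, nat_lit 3, nat_lit 1])) (.leaf ((nat_lit 134), [nat_lit 0, nat_lit 3, nat_lit 0])))) (.node (nat_lit 2737) (.leaf ((nat_lit 327), [nat_lit 2])) (.node (nat_lit 2738) (.leaf ((nat_lit 185), [nat_lit 3, nat_lit 0])) (.leaf ((nat_lit 465), [nat_lit 1, nat_lit 3, nat_lit 0])))))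
 (.node (nat_lit 2742) (.node (nat_lit 2740) (.leaf ((nat_lit 135), [])) (.node (nat_lit 2741) (.leaf ((nat_lit 138), [])) (.leaf ((nat_lit 341), [nat_lit 0, nat_lit 2, nat_lit 0])))) (.node (nat_lit 2743) (.leaf ((nat_lit 365), [nat_lit 1, nat_lit 3])) (.node (nat_lit 2744) (.leaf ((nat_lit 686), [nat_lit 0, nat_lit 2, nat_lit 1])) (.leaf ((nat_lit 678), [nat_lit 1, nat_lit 2, nat_lit 1]))))))))
 (.node (nat_lit 2767) (.node (nat_lit 2756) (.node (nat_lit 2750) (.node (nat_lit 2747) (.node (nat_lit 2746) (.leaf ((nat_lit 593), [])) (.leaf ((nat_lit 430), [nat_lit 3, nat_lit 0]))) (.node (nat_lit 2748) (.leaf ((nat_lit 135), [nat_lit 0, nat_lit 3])) (.node (nat_lit 2749) (.leaf ((nat_lit 783), [nat_lit 3, nat_lit 1])) (.leaf ((nat_lit 428), [nat_lit 0, nat_lit 2])))))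
 (.node (nat_lit 2753) (.node (nat_lit 2751) (.leaf ((nat_lit 655), [nat_lit 0, nat_lit 3, nat_lit 1])) (.node (nat_lit 2752) (.leaf ((nat_lit 136), [nat_lit 0, nat_lit 2])) (.leaf ((nat_lit 440), [nat_lit 1, nat_lit 2, nat_lit 0])))) (.node (nat_lit 2754) (.leaf ((nat_lit 359), [nat_lit 3])) (.node (nat_lit 2755) (.leaf ((nat_lit 137), [nat_lit 3])) (.leaf ((nat_lit 314), [nat_lit 0, nat_lit 3, nat_lit 1]))))))
 (.node (nat_lit 2761) (.node (nat_lit 2758) (.node (nat_lit 2757) (.leaf ((nat_lit 588), [nat_lit 1])) (.leaf ((nat_lit 392), [nat_lit 0, nat_lit 3, nat_lit 1]))) (.node (nat_lit 2759) (.leaf ((nat_lit 371), [nat_lit 0, nat_lit 3, nat_lit 0])) (.node (nat_lit 2760) (.leaf ((nat_lit 845), [nat_lit 3, nat_lit 1])) (.leaf ((nat_lit 314), [nat_lit 3, nat_lit 1])))))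
 (.node (nat_lit 2764) (.node (nat_lit 2762) (.leaf ((nat_lit 137), [nat_lit 0, nat_lit 2, nat_lit 1])) (.node (nat_lit 2763) (.leaf ((nat_lit 589), [nat_lit 0, nat_lit 3])) (.leaf ((nat_lit 817), [nat_lit 1])))) (.node (nat_lit 2765) (.leaf ((nat_lit 156), [nat_lit 0, nat_lit 2])) (.node (nat_lit 2766) (.leaf ((nat_lit 873), [nat_lit 1, nat_lit 3, nat_lit 1])) (.leaf ((nat_lit 245), [nat_lit 0])))))))
 (.node (nat_lit 2778) (.node (nat_lit 2772) (.node (nat_lit 2769) (.node (nat_lit 2768) (.leaf ((nat_lit 533), [nat_lit 0, nat_lit 3, nat_lit 1])) (.leaf ((nat_lit 547), [nat_lit 1, nat_lit 3, nat_lit 1]))) (.node (nat_lit 2770) (.leaf ((nat_lit 754), [nat_lit 1, nat_lit 3, nat_lit 1])) (.node (nat_lit 2771) (.leaf ((nat_lit 139), [nat_lit 3])) (.leaf ((nat_lit 631), [nat_lit 0, nat_lit 3])))))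
 (.node (nat_lit 2775) (.node (nat_lit 2773) (.leaf ((nat_lit 768), [nat_lit 1, nat_lit 2, nat_lit 0])) (.node (nat_lit 2774) (.leaf ((nat_lit 874), [nat_lit 0, nat_lit 2, nat_lit 1])) (.leaf ((nat_lit 278), [nat_lit 3, nat_lit 1])))) (.node (nat_lit 2776) (.leaf ((nat_lit 170), [nat_lit 0, nat_lit 2, nat_lit 1])) (.node (nat_lit 2777) (.leaf ((nat_lit 140), [nat_lit 0, nat_lit 3])) (.leaf ((nat_lit 849), [nat_lit 0, nat_lit 2, nat_lit 0]))))))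
 (.node (nat_lit 2784) (.node (nat_lit 2781) (.node (nat_lit 2779) (.leaf ((nat_lit 234), [nat_lit 1, nat_lit 3, nat_lit 0])) (.node (nat_lit 2780) (.leaf ((nat_lit 291), [nat_lit 1, nat_lit 2])) (.leaf ((nat_lit 535), [nat_lit 3])))) (.node (nat_lit 2782) (.leaf ((nat_lit 141), [nat_lit 1, nat_lit 3, nat_lit 0])) (.node (nat_lit 2783) (.leaf ((nat_lit 831), [nat_lit 0, nat_lit 3, nat_lit 1])) (.leaf ((nat_lit 563), [nat_lit 2, nat_lit 0])))))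
 (.node (nat_lit 2787) (.node (nat_lit 2785) (.leaf ((nat_lit 418), [nat_lit 1, nat_lit 2, nat_lit 0])) (.node (nat_lit 2786) (.leaf ((nat_lit 276), [nat_lit 0, nat_lit 2, nat_lit 1])) (.leaf ((nat_lit 835), [nat_lit 0])))) (.node (nat_lit 2788) (.leaf ((nat_lit 831), [nat_lit 0, nat_lit 3, nat_lit 1])) (.node (nat_lit 2789) (.leaf ((nat_lit 141), [nat_lit 1, nat_lit 3, nat_lit 0])) (.leaf ((nat_lit 875), [nat_lit 3])))))))))
 (.node (nat_lit 2835) (.node (nat_lit 2812) (.node (nat_lit 2801) (.node (nat_lit 2795) (.node (nat_lit 2792) (.node (nat_lit 2791) (.leaf ((nat_lit 374), [nat_lit 0])) (.leaf ((nat_lit 321), [nat_lit 1, nat_lit 2, nat_lit 1]))) (.node (nat_lit 2793) (.leaf ((nat_lit 456), [nat_lit 1, nat_lit 2, nat_lit 0])) (.node (nat_lit 2794) (.leaf ((nat_lit 445), [nat_lit 3, nat_lit 0])) (.leaf ((nat_lit 327), [nat_lit 0, nat_lit 3])))))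
 (.node (nat_lit 2798) (.node (nat_lit 2796) (.leaf ((nat_lit 141), [nat_lit 0, nat_lit 3, nat_lit 0])) (.node (nat_lit 2797) (.leaf ((nat_lit 142), [nat_lit 1, nat_lit 2, nat_lit 1])) (.leaf ((nat_lit 204), [nat_lit 1, nat_lit 3])))) (.node (nat_lit 2799) (.leaf ((nat_lit 426), [nat_lit 1, nat_lit 3, nat_lit 0])) (.node (nat_lit 2800) (.leaf ((nat_lit 596), [nat_lit 1, nat_lit 2, nat_lit 1])) (.leaf ((nat_lit 517), [nat_lit 0, nat_lit 3]))))))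
 (.node (nat_lit 2806) (.node (nat_lit 2803) (.node (nat_lit 2802) (.leaf ((nat_lit 481), [nat_lit 0, nat_lit 2, nat_lit 0])) (.leaf ((nat_lit 204), []))) (.node (nat_lit 2804) (.leaf ((nat_lit 142), [nat_lit 0, nat_lit 2, nat_lit 1])) (.node (nat_lit 2805) (.leaf ((nat_lit 620), [nat_lit 0, nat_lit 2, nat_lit 1])) (.leaf ((nat_lit 772), [nat_lit 1, nat_lit 3])))))
 (.node (nat_lit 2809) (.node (nat_lit 2807) (.leaf ((nat_lit 874), [nat_lit 0, nat_lit 3, nat_lit 0])) (.node (nat_lit 2808) (.leaf ((nat_lit 618), [nat_lit 0, nat_lit 3, nat_lit 1])) (.leaf ((nat_lit 426), [nat_lit 1, nat_lit 2])))) (.node (nat_lit 2810) (.leaf ((nat_lit 620), [nat_lit 2, nat_lit 1])) (.node (nat_lit 2811) (.leaf ((nat_lit 142), [nat_lit 2, nat_lit 1])) (.leaf ((nat_lit 805), [nat_lit 0, nat_lit 3, nat_lit 0])))))))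
 (.node (nat_lit 2823) (.node (nat_lit 2817) (.node (nat_lit 2814) (.node (nat_lit 2813) (.leaf ((nat_lit 835), [nat_lit 1, nat_lit 2, nat_lit 1])) (.leaf ((nat_lit 222), [nat_lit 2, nat_lit 0]))) (.node (nat_lit 2815) (.leaf ((nat_lit 690), [nat_lit 2, nat_lit 0])) (.node (nat_lit 2816) (.leaf ((nat_lit 876), [nat_lit 2, nat_lit 0])) (.leaf ((nat_lit 877), [nat_lit 3])))))
 (.node (nat_lit 2820) (.node (nat_lit 2818) (.leaf ((nat_lit 567), [nat_lit 0, nat_lit 2, nat_lit 1])) (.node (nat_lit 2819) (.leaf ((nat_lit 689), [nat_lit 2, nat_lit 0])) (.leaf ((nat_lit 142), [])))) (.node (nat_lit 2821) (.leaf ((nat_lit 143), [nat_lit 0, nat_lit 2, nat_lit 1])) (.node (nat_lit 2822) (.leaf ((nat_lit 705), [nat_lit 0, nat_lit 2, nat_lit 1])) (.leaf ((nat_lit 403), [nat_lit 0, nat_lit 2, nat_lit 1]))))))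
 (.node (nat_lit 2829) (.node (nat_lit 2826) (.node (nat_lit 2824) (.leaf ((nat_lit 295), [nat_lit 2])) (.node (nat_lit 2825) (.leaf ((nat_lit 878), [nat_lit 0])) (.leaf ((nat_lit 836), [nat_lit 2])))) (.node (nat_lit 2827) (.leaf ((nat_lit 705), [nat_lit 1, nat_lit 2, nat_lit 1])) (.node (nat_lit 2828) (.leaf ((nat_lit 143), [nat_lit 1, nat_lit 2, nat_lit 1])) (.leaf ((nat_lit 411), [])))))
 (.node (nat_lit 2832) (.node (nat_lit 2830) (.leaf ((nat_lit 252), [nat_lit 1])) (.node (nat_lit 2831) (.leaf ((nat_lit 879), [nat_lit 3, nat_lit 0])) (.leaf ((nat_lit 880), [nat_lit 1, nat_lit 3, nat_lit 0])))) (.node (nat_lit 2833) (.leaf ((nat_lit 403), [nat_lit 3])) (.node (nat_lit 2834) (.leaf ((nat_lit 411), [nat_lit 3, nat_lit 0])) (.leaf ((nat_lit 143), [nat_lit 3]))))))))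
 (.node (nat_lit 2857) (.node (nat_lit 2846) (.node (nat_lit 2840) (.node (nat_lit 2837) (.node (nat_lit 2836) (.leaf ((nat_lit 416), [])) (.leaf ((nat_lit 748), [nat_lit 0, nat_lit 2, nat_lit 1]))) (.node (nat_lit 2838) (.leaf ((nat_lit 815), [nat_lit 0, nat_lit 3])) (.node (nat_lit 2839) (.leaf ((nat_lit 490), [])) (.leaf ((nat_lit 489), [nat_lit 0, nat_lit 3, nat_lit 0])))))
 (.node (nat_lit 2843) (.node (nat_lit 2841) (.leaf ((nat_lit 688), [nat_lit 0, nat_lit 2])) (.node (nat_lit 2842) (.leaf ((nat_lit 191), [nat_lit 3])) (.leaf ((nat_lit 143), [nat_lit 0, nat_lit 3, nat_lit 0])))) (.node (nat_lit 2844) (.leaf ((nat_lit 288), [nat_lit 3, nat_lit 1])) (.node (nat_lit 2845) (.leaf ((nat_lit 229), [nat_lit 3, nat_lit 1])) (.leaf ((nat_lit 146), [nat_lit 0, nat_lit 2, nat_lit 0]))))))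
 (.node (nat_lit 2851) (.node (nat_lit 2848) (.node (nat_lit 2847) (.leaf ((nat_lit 145), [nat_lit 0, nat_lit 3])) (.leaf ((nat_lit 144), [nat_lit 0, nat_lit 3, nat_lit 0]))) (.node (nat_lit 2849) (.leaf ((nat_lit 813), [nat_lit 1])) (.node (nat_lit 2850) (.leaf ((nat_lit 411), [nat_lit 1, nat_lit 2, nat_lit 1])) (.leaf ((nat_lit 693), [nat_lit 2, nat_lit 1])))))
 (.node (nat_lit 2854) (.node (nat_lit 2852) (.leaf ((nat_lit 624), [nat_lit 1, nat_lit 3, nat_lit 0])) (.node (nat_lit 2853) (.leaf ((nat_lit 623), [nat_lit 2, nat_lit 1])) (.leaf ((nat_lit 187), [nat_lit 0])))) (.node (nat_lit 2855) (.leaf ((nat_lit 681), [nat_lit 1, nat_lit 3])) (.node (nat_lit 2856) (.leaf ((nat_lit 144), [nat_lit 0, nat_lit 3, nat_lit 0])) (.leaf ((nat_lit 236), [nat_lit 2])))))))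
 (.node (nat_lit 2868) (.node (nat_lit 2862) (.node (nat_lit 2859) (.node (nat_lit 2858) (.leaf ((nat_lit 606), [nat_lit 1, nat_lit 3, nat_lit 1])) (.leaf ((nat_lit 450), [nat_lit 1, nat_lit 3]))) (.node (nat_lit 2860) (.leaf ((nat_lit 233), [nat_lit 3])) (.node (nat_lit 2861) (.leaf ((nat_lit 446), [nat_lit 0, nat_lit 2, nat_lit 1])) (.leaf ((nat_lit 146), [nat_lit 2, nat_lit 1])))))
 (.node (nat_lit 2865) (.node (nat_lit 2863) (.leaf ((nat_lit 149), [nat_lit 1, nat_lit 3, nat_lit 0])) (.node (nat_lit 2864) (.leaf ((nat_lit 704), [nat_lit 0, nat_lit 2, nat_lit 0])) (.leaf ((nat_lit 147), [nat_lit 2, nat_lit 1])))) (.node (nat_lit 2866) (.leaf ((nat_lit 881), [nat_lit 0])) (.node (nat_lit 2867) (.leaf ((nat_lit 495), [nat_lit 1, nat_lit 3, nat_lit 1])) (.leaf ((nat_lit 798), [nat_lit 0]))))))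
 (.node (nat_lit 2874) (.node (nat_lit 2871) (.node (nat_lit 2869) (.leaf ((nat_lit 826), [nat_lit 3, nat_lit 1])) (.node (nat_lit 2870) (.leaf ((nat_lit 493), [nat_lit 0, nat_lit 2])) (.leaf ((nat_lit 679), [])))) (.node (nat_lit 2872) (.leaf ((nat_lit 147), [nat_lit 3, nat_lit 0])) (.node (nat_lit 2873) (.leaf ((nat_lit 542), [nat_lit 1, nat_lit 3, nat_lit 1])) (.leaf ((nat_lit 882), [nat_lit 1, nat_lit 3, nat_lit 0])))))
 (.node (nat_lit 2877) (.node (nat_lit 2875) (.leaf ((nat_lit 883), [nat_lit 1, nat_lit 2])) (.node (nat_lit 2876) (.leaf ((nat_lit 878), [nat_lit 3, nat_lit 1])) (.leaf ((nat_lit 710), [nat_lit 0])))) (.node (nat_lit 2878) (.leaf ((nat_lit 542), [nat_lit 2])) (.node (nat_lit 2879) (.leaf ((nat_lit 147), [nat_lit 1, nat_lit 3])) (.leaf ((nat_lit 173), [nat_lit 3, nat_lit 0]))))))))))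
noncomputable def n1Wd_16 : Tr (ℕ × List ℕ) := (.node (nat_lit 2970) (.node (nat_lit 2925) (.node (nat_lit 2902) (.node (nat_lit 2891) (.node (nat_lit 2885) (.node (nat_lit 2882) (.node (nat_lit 2881) (.leaf ((nat_lit 884), [nat_lit 3])) (.leaf ((nat_lit 584), [nat_lit 0, nat_lit 3, nat_lit 0]))) (.node (nat_lit 2883) (.leaf ((nat_lit 882), [nat_lit 0, nat_lit 3])) (.node (nat_lit 2884) (.leaf ((nat_lit 885), [nat_lit 1])) (.leaf ((nat_lit 735), [nat_lit 1])))))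
 (.node (nat_lit 2888) (.node (nat_lit 2886) (.leaf ((nat_lit 147), [nat_lit 1, nat_lit 2, nat_lit 1])) (.node (nat_lit 2887) (.leaf ((nat_lit 704), [nat_lit 0, nat_lit 3, nat_lit 1])) (.leaf ((nat_lit 149), [nat_lit 0])))) (.node (nat_lit 2889) (.leaf ((nat_lit 148), [nat_lit 3, nat_lit 0])) (.node (nat_lit 2890) (.leaf ((nat_lit 616), [])) (.leaf ((nat_lit 158), []))))))
 (.node (nat_lit 2896) (.node (nat_lit 2893) (.node (nat_lit 2892) (.leaf ((nat_lit 466), [nat_lit 1, nat_lit 3, nat_lit 1])) (.leaf ((nat_lit 247), [nat_lit 0, nat_lit 2]))) (.node (nat_lit 2894) (.leaf ((nat_lit 239), [nat_lit 0, nat_lit 2, nat_lit 0])) (.node (nat_lit 2895) (.leaf ((nat_lit 254), [nat_lit 1, nat_lit 2, nat_lit 1])) (.leaf ((nat_lit 148), [nat_lit 3])))))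
 (.node (nat_lit 2899) (.node (nat_lit 2897) (.leaf ((nat_lit 886), [nat_lit 0, nat_lit 2, nat_lit 1])) (.node (nat_lit 2898) (.leaf ((nat_lit 887), [nat_lit 2])) (.leaf ((nat_lit 888), [])))) (.node (nat_lit 2900) (.leaf ((nat_lit 766), [nat_lit 0])) (.node (nat_lit 2901) (.leaf ((nat_lit 765), [nat_lit 1, nat_lit 2])) (.leaf ((nat_lit 886), [nat_lit 2])))))))
 (.node (nat_lit 2913) (.node (nat_lit 2907) (.node (nat_lit 2904) (.node (nat_lit 2903) (.leaf ((nat_lit 148), [nat_lit 1])) (.leaf ((nat_lit 536), [nat_lit 1, nat_lit 2, nat_lit 1]))) (.node (nat_lit 2905) (.leaf ((nat_lit 889), [nat_lit 1, nat_lit 3, nat_lit 1])) (.node (nat_lit 2906) (.leaf ((nat_lit 587), [nat_lit 0])) (.leaf ((nat_lit 721), [nat_lit 2, nat_lit 0])))))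
 (.node (nat_lit 2910) (.node (nat_lit 2908) (.leaf ((nat_lit 888), [nat_lit 1, nat_lit 3, nat_lit 1])) (.node (nat_lit 2909) (.leaf ((nat_lit 852), [nat_lit 0, nat_lit 2, nat_lit 0])) (.leaf ((nat_lit 149), [nat_lit 0, nat_lit 3, nat_lit 1])))) (.node (nat_lit 2911) (.leaf ((nat_lit 150), [nat_lit 3])) (.node (nat_lit 2912) (.leaf ((nat_lit 698), [nat_lit 1, nat_lit 3, nat_lit 0])) (.leaf ((nat_lit 404), [nat_lit 1, nat_lit 3, nat_lit 0]))))))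
 (.node (nat_lit 2919) (.node (nat_lit 2916) (.node (nat_lit 2914) (.leaf ((nat_lit 672), [nat_lit 3, nat_lit 0])) (.node (nat_lit 2915) (.leaf ((nat_lit 529), [nat_lit 1, nat_lit 3, nat_lit 0])) (.leaf ((nat_lit 669), [nat_lit 2, nat_lit 0])))) (.node (nat_lit 2917) (.leaf ((nat_lit 698), [nat_lit 3])) (.node (nat_lit 2918) (.leaf ((nat_lit 150), [nat_lit 1])) (.leaf ((nat_lit 697), [nat_lit 1, nat_lit 3, nat_lit 0])))))
 (.node (nat_lit 2922) (.node (nat_lit 2920) (.leaf ((nat_lit 239), [nat_lit 0, nat_lit 2])) (.node (nat_lit 2921) (.leaf ((nat_lit 849), [nat_lit 0, nat_lit 2])) (.leaf ((nat_lit 619), [nat_lit 0, nat_lit 2, nat_lit 1])))) (.node (nat_lit 2923) (.leaf ((nat_lit 404), [nat_lit 0, nat_lit 2, nat_lit 1])) (.node (nat_lit 2924) (.leaf ((nat_lit 697), [nat_lit 1, nat_lit 2, nat_lit 0])) (.leaf ((nat_lit 150), [nat_lit 0, nat_lit 3, nat_lit 0]))))))))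
 (.node (nat_lit 2947) (.node (nat_lit 2936) (.node (nat_lit 2930) (.node (nat_lit 2927) (.node (nat_lit 2926) (.leaf ((nat_lit 573), [nat_lit 3])) (.leaf ((nat_lit 337), [nat_lit 3]))) (.node (nat_lit 2928) (.leaf ((nat_lit 868), [nat_lit 0, nat_lit 2, nat_lit 1])) (.node (nat_lit 2929) (.leaf ((nat_lit 581), [nat_lit 2, nat_lit 1])) (.leaf ((nat_lit 433), [nat_lit 0])))))
 (.node (nat_lit 2933) (.node (nat_lit 2931) (.leaf ((nat_lit 819), [nat_lit 1])) (.node (nat_lit 2932) (.leaf ((nat_lit 151), [nat_lit 0, nat_lit 3])) (.leaf ((nat_lit 150), [])))) (.node (nat_lit 2934) (.leaf ((nat_lit 276), [nat_lit 0, nat_lit 3, nat_lit 0])) (.node (nat_lit 2935) (.leaf ((nat_lit 151), [nat_lit 1, nat_lit 2, nat_lit 1])) (.leaf ((nat_lit 473), [nat_lit 1, nat_lit 2, nat_lit 1]))))))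
 (.node (nat_lit 2941) (.node (nat_lit 2938) (.node (nat_lit 2937) (.leaf ((nat_lit 812), [nat_lit 1, nat_lit 3, nat_lit 1])) (.leaf ((nat_lit 161), [nat_lit 1, nat_lit 2, nat_lit 0]))) (.node (nat_lit 2939) (.leaf ((nat_lit 761), [nat_lit 1, nat_lit 3])) (.node (nat_lit 2940) (.leaf ((nat_lit 757), [nat_lit 0])) (.leaf ((nat_lit 473), [])))))
 (.node (nat_lit 2944) (.node (nat_lit 2942) (.leaf ((nat_lit 151), [])) (.node (nat_lit 2943) (.leaf ((nat_lit 281), [nat_lit 2])) (.leaf ((nat_lit 491), [nat_lit 0])))) (.node (nat_lit 2945) (.leaf ((nat_lit 766), [nat_lit 0])) (.node (nat_lit 2946) (.leaf ((nat_lit 871), [nat_lit 1])) (.leaf ((nat_lit 812), [nat_lit 3, nat_lit 1])))))))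
 (.node (nat_lit 2958) (.node (nat_lit 2952) (.node (nat_lit 2949) (.node (nat_lit 2948) (.leaf ((nat_lit 281), [nat_lit 0, nat_lit 2, nat_lit 1])) (.leaf ((nat_lit 151), [nat_lit 0, nat_lit 3]))) (.node (nat_lit 2950) (.leaf ((nat_lit 490), [nat_lit 1])) (.node (nat_lit 2951) (.leaf ((nat_lit 782), [nat_lit 2, nat_lit 1])) (.leaf ((nat_lit 795), [nat_lit 1, nat_lit 3, nat_lit 1])))))
 (.node (nat_lit 2955) (.node (nat_lit 2953) (.leaf ((nat_lit 272), [nat_lit 2, nat_lit 1])) (.node (nat_lit 2954) (.leaf ((nat_lit 605), [nat_lit 0, nat_lit 2, nat_lit 0])) (.leaf ((nat_lit 166), [nat_lit 0, nat_lit 3, nat_lit 0])))) (.node (nat_lit 2956) (.leaf ((nat_lit 152), [])) (.node (nat_lit 2957) (.leaf ((nat_lit 275), [nat_lit 1])) (.leaf ((nat_lit 510), [nat_lit 3]))))))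
 (.node (nat_lit 2964) (.node (nat_lit 2961) (.node (nat_lit 2959) (.leaf ((nat_lit 877), [nat_lit 3, nat_lit 1])) (.node (nat_lit 2960) (.leaf ((nat_lit 478), [nat_lit 3, nat_lit 1])) (.leaf ((nat_lit 690), [nat_lit 2])))) (.node (nat_lit 2962) (.leaf ((nat_lit 816), [nat_lit 0, nat_lit 2])) (.node (nat_lit 2963) (.leaf ((nat_lit 744), [nat_lit 1, nat_lit 3, nat_lit 0])) (.leaf ((nat_lit 152), [nat_lit 1, nat_lit 2, nat_lit 0])))))
 (.node (nat_lit 2967) (.node (nat_lit 2965) (.leaf ((nat_lit 153), [nat_lit 2])) (.node (nat_lit 2966) (.leaf ((nat_lit 570), [nat_lit 2])) (.leaf ((nat_lit 441), [])))) (.node (nat_lit 2968) (.leaf ((nat_lit 802), [nat_lit 0])) (.node (nat_lit 2969) (.leaf ((nat_lit 501), [nat_lit 0, nat_lit 2])) (.leaf ((nat_lit 506), [nat_lit 1, nat_lit 3, nat_lit 1])))))))))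
 (.node (nat_lit 3015) (.node (nat_lit 2992) (.node (nat_lit 2981) (.node (nat_lit 2975) (.node (nat_lit 2972) (.node (nat_lit 2971) (.leaf ((nat_lit 301), [])) (.leaf ((nat_lit 296), [nat_lit 3, nat_lit 0]))) (.node (nat_lit 2973) (.leaf ((nat_lit 295), [nat_lit 1])) (.node (nat_lit 2974) (.leaf ((nat_lit 562), [nat_lit 0, nat_lit 3, nat_lit 0])) (.leaf ((nat_lit 477), [nat_lit 0, nat_lit 2, nat_lit 0])))))
 (.node (nat_lit 2978) (.node (nat_lit 2976) (.leaf ((nat_lit 153), [nat_lit 1, nat_lit 2, nat_lit 1])) (.node (nat_lit 2977) (.leaf ((nat_lit 154), [])) (.leaf ((nat_lit 300), [nat_lit 1, nat_lit 3, nat_lit 0])))) (.node (nat_lit 2979) (.leaf ((nat_lit 299), [nat_lit 1, nat_lit 3])) (.node (nat_lit 2980) (.leaf ((nat_lit 890), [nat_lit 1, nat_lit 3, nat_lit 0])) (.leaf ((nat_lit 801), [nat_lit 3, nat_lit 0]))))))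
 (.node (nat_lit 2986) (.node (nat_lit 2983) (.node (nat_lit 2982) (.leaf ((nat_lit 790), [nat_lit 1])) (.leaf ((nat_lit 891), [nat_lit 2, nat_lit 1]))) (.node (nat_lit 2984) (.leaf ((nat_lit 892), [nat_lit 1, nat_lit 2, nat_lit 0])) (.node (nat_lit 2985) (.leaf ((nat_lit 868), [nat_lit 0, nat_lit 2, nat_lit 1])) (.leaf ((nat_lit 154), [nat_lit 1, nat_lit 2])))))
 (.node (nat_lit 2989) (.node (nat_lit 2987) (.leaf ((nat_lit 892), [nat_lit 0, nat_lit 2])) (.node (nat_lit 2988) (.leaf ((nat_lit 188), [nat_lit 2, nat_lit 0])) (.leaf ((nat_lit 417), [nat_lit 2])))) (.node (nat_lit 2990) (.leaf ((nat_lit 307), [nat_lit 2])) (.node (nat_lit 2991) (.leaf ((nat_lit 415), [])) (.leaf ((nat_lit 892), [nat_lit 1, nat_lit 2])))))))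
 (.node (nat_lit 3003) (.node (nat_lit 2997) (.node (nat_lit 2994) (.node (nat_lit 2993) (.leaf ((nat_lit 154), [nat_lit 2])) (.leaf ((nat_lit 802), [nat_lit 1]))) (.node (nat_lit 2995) (.leaf ((nat_lit 156), [nat_lit 0, nat_lit 2])) (.node (nat_lit 2996) (.leaf ((nat_lit 155), [nat_lit 2, nat_lit 0])) (.leaf ((nat_lit 702), [nat_lit 0, nat_lit 3, nat_lit 1])))))
 (.node (nat_lit 3000) (.node (nat_lit 2998) (.leaf ((nat_lit 428), [nat_lit 3])) (.node (nat_lit 2999) (.leaf ((nat_lit 427), [nat_lit 0, nat_lit 2, nat_lit 0])) (.leaf ((nat_lit 224), [nat_lit 0, nat_lit 3, nat_lit 1])))) (.node (nat_lit 3001) (.leaf ((nat_lit 283), [nat_lit 1, nat_lit 3, nat_lit 0])) (.node (nat_lit 3002) (.leaf ((nat_lit 282), [nat_lit 1, nat_lit 3, nat_lit 0])) (.leaf ((nat_lit 680), [nat_lit 2]))))))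
 (.node (nat_lit 3009) (.node (nat_lit 3006) (.node (nat_lit 3004) (.leaf ((nat_lit 845), [nat_lit 3])) (.node (nat_lit 3005) (.leaf ((nat_lit 299), [nat_lit 2, nat_lit 1])) (.leaf ((nat_lit 155), [nat_lit 3, nat_lit 1])))) (.node (nat_lit 3007) (.leaf ((nat_lit 702), [nat_lit 3])) (.node (nat_lit 3008) (.leaf ((nat_lit 157), [nat_lit 1, nat_lit 3])) (.leaf ((nat_lit 156), [nat_lit 1, nat_lit 3, nat_lit 0])))))
 (.node (nat_lit 3012) (.node (nat_lit 3010) (.leaf ((nat_lit 798), [nat_lit 0])) (.node (nat_lit 3011) (.leaf ((nat_lit 494), [nat_lit 3, nat_lit 1])) (.leaf ((nat_lit 729), [nat_lit 3, nat_lit 0])))) (.node (nat_lit 3013) (.leaf ((nat_lit 339), [nat_lit 2, nat_lit 0])) (.node (nat_lit 3014) (.leaf ((nat_lit 338), [nat_lit 0])) (.leaf ((nat_lit 893), [nat_lit 1, nat_lit 2]))))))))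
 (.node (nat_lit 3037) (.node (nat_lit 3026) (.node (nat_lit 3020) (.node (nat_lit 3017) (.node (nat_lit 3016) (.leaf ((nat_lit 156), [])) (.leaf ((nat_lit 817), [nat_lit 1, nat_lit 3, nat_lit 1]))) (.node (nat_lit 3018) (.leaf ((nat_lit 799), [nat_lit 3, nat_lit 1])) (.node (nat_lit 3019) (.leaf ((nat_lit 158), [nat_lit 0, nat_lit 3])) (.leaf ((nat_lit 729), [nat_lit 3])))))
 (.node (nat_lit 3023) (.node (nat_lit 3021) (.leaf ((nat_lit 728), [nat_lit 3, nat_lit 0])) (.node (nat_lit 3022) (.leaf ((nat_lit 415), [nat_lit 2])) (.leaf ((nat_lit 809), [nat_lit 0])))) (.node (nat_lit 3024) (.leaf ((nat_lit 792), [nat_lit 0])) (.node (nat_lit 3025) (.leaf ((nat_lit 729), [nat_lit 0])) (.leaf ((nat_lit 158), [nat_lit 1]))))))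
 (.node (nat_lit 3031) (.node (nat_lit 3028) (.node (nat_lit 3027) (.leaf ((nat_lit 681), [nat_lit 0, nat_lit 3, nat_lit 0])) (.leaf ((nat_lit 841), [nat_lit 0, nat_lit 2, nat_lit 1]))) (.node (nat_lit 3029) (.leaf ((nat_lit 781), [nat_lit 1, nat_lit 3, nat_lit 0])) (.node (nat_lit 3030) (.leaf ((nat_lit 894), [nat_lit 0])) (.leaf ((nat_lit 728), [nat_lit 1, nat_lit 3, nat_lit 0])))))
 (.node (nat_lit 3034) (.node (nat_lit 3032) (.leaf ((nat_lit 681), [nat_lit 0])) (.node (nat_lit 3033) (.leaf ((nat_lit 158), [nat_lit 0, nat_lit 2])) (.leaf ((nat_lit 296), [nat_lit 1, nat_lit 2])))) (.node (nat_lit 3035) (.leaf ((nat_lit 765), [nat_lit 1, nat_lit 3, nat_lit 1])) (.node (nat_lit 3036) (.leaf ((nat_lit 839), [nat_lit 1, nat_lit 2, nat_lit 1])) (.leaf ((nat_lit 160), [nat_lit 3, nat_lit 0])))))))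
 (.node (nat_lit 3048) (.node (nat_lit 3042) (.node (nat_lit 3039) (.node (nat_lit 3038) (.leaf ((nat_lit 159), [nat_lit 3, nat_lit 1])) (.leaf ((nat_lit 793), [nat_lit 3, nat_lit 1]))) (.node (nat_lit 3040) (.leaf ((nat_lit 380), [nat_lit 1, nat_lit 3, nat_lit 0])) (.node (nat_lit 3041) (.leaf ((nat_lit 300), [nat_lit 0, nat_lit 3, nat_lit 1])) (.leaf ((nat_lit 494), [nat_lit 0, nat_lit 2, nat_lit 0])))))
 (.node (nat_lit 3045) (.node (nat_lit 3043) (.leaf ((nat_lit 161), [nat_lit 0, nat_lit 2, nat_lit 0])) (.node (nat_lit 3044) (.leaf ((nat_lit 793), [nat_lit 1, nat_lit 2, nat_lit 0])) (.leaf ((nat_lit 159), [nat_lit 1, nat_lit 2, nat_lit 0])))) (.node (nat_lit 3046) (.leaf ((nat_lit 685), [nat_lit 0, nat_lit 3, nat_lit 0])) (.node (nat_lit 3047) (.leaf ((nat_lit 826), [nat_lit 3, nat_lit 0])) (.leaf ((nat_lit 785), [nat_lit 1, nat_lit 2]))))))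
 (.node (nat_lit 3054) (.node (nat_lit 3051) (.node (nat_lit 3049) (.leaf ((nat_lit 895), [nat_lit 0, nat_lit 2, nat_lit 1])) (.node (nat_lit 3050) (.leaf ((nat_lit 801), [nat_lit 0, nat_lit 2])) (.leaf ((nat_lit 767), [nat_lit 0, nat_lit 2, nat_lit 1])))) (.node (nat_lit 3052) (.leaf ((nat_lit 346), [nat_lit 2, nat_lit 0])) (.node (nat_lit 3053) (.leaf ((nat_lit 159), [nat_lit 1, nat_lit 2])) (.leaf ((nat_lit 340), [nat_lit 0, nat_lit 2])))))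
 (.node (nat_lit 3057) (.node (nat_lit 3055) (.leaf ((nat_lit 860), [nat_lit 0, nat_lit 3, nat_lit 1])) (.node (nat_lit 3056) (.leaf ((nat_lit 337), [nat_lit 0, nat_lit 3, nat_lit 0])) (.leaf ((nat_lit 859), [nat_lit 2, nat_lit 0])))) (.node (nat_lit 3058) (.leaf ((nat_lit 896), [])) (.node (nat_lit 3059) (.leaf ((nat_lit 731), [nat_lit 1, nat_lit 2, nat_lit 1])) (.leaf ((nat_lit 159), [nat_lit 1, nat_lit 3, nat_lit 1]))))))))))
noncomputable def n1Wd_17 : Tr (ℕ × List ℕ) := (.node (nat_lit 3150) (.node (nat_lit 3105) (.node (nat_lit 3082) (.node (nat_lit 3071) (.node (nat_lit 3065) (.node (nat_lit 3062) (.node (nat_lit 3061) (.leaf ((nat_lit 793), [nat_lit 1, nat_lit 3, nat_lit 1])) (.leaf ((nat_lit 161), [nat_lit 0, nat_lit 3, nat_lit 1]))) (.node (nat_lit 3063) (.leaf ((nat_lit 160), [nat_lit 2, nat_lit 0])) (.node (nat_lit 3064) (.leaf ((nat_lit 575), [nat_lit 1, nat_lit 3]))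 (.leaf ((nat_lit 574), [nat_lit 3, nat_lit 0])))))
 (.node (nat_lit 3068) (.node (nat_lit 3066) (.leaf ((nat_lit 492), [nat_lit 2])) (.node (nat_lit 3067) (.leaf ((nat_lit 437), [nat_lit 0, nat_lit 2])) (.leaf ((nat_lit 594), [nat_lit 1, nat_lit 2])))) (.node (nat_lit 3069) (.leaf ((nat_lit 436), [nat_lit 1, nat_lit 2])) (.node (nat_lit 3070) (.leaf ((nat_lit 775), [nat_lit 2, nat_lit 0])) (.leaf ((nat_lit 839), [nat_lit 2, nat_lit 0]))))))
 (.node (nat_lit 3076) (.node (nat_lit 3073) (.node (nat_lit 3072) (.leaf ((nat_lit 160), [nat_lit 1, nat_lit 3, nat_lit 0])) (.leaf ((nat_lit 897), [nat_lit 0, nat_lit 3]))) (.node (nat_lit 3074) (.leaf ((nat_lit 898), [nat_lit 0, nat_lit 2, nat_lit 0])) (.node (nat_lit 3075) (.leaf ((nat_lit 324), [nat_lit 0])) (.leaf ((nat_lit 761), [nat_lit 3])))))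
 (.node (nat_lit 3079) (.node (nat_lit 3077) (.leaf ((nat_lit 161), [nat_lit 0, nat_lit 2])) (.node (nat_lit 3078) (.leaf ((nat_lit 368), [nat_lit 0, nat_lit 2, nat_lit 1])) (.leaf ((nat_lit 834), [nat_lit 3, nat_lit 1])))) (.node (nat_lit 3080) (.leaf ((nat_lit 351), [nat_lit 1, nat_lit 2, nat_lit 1])) (.node (nat_lit 3081) (.leaf ((nat_lit 709), [nat_lit 1, nat_lit 3, nat_lit 1])) (.leaf ((nat_lit 732), [nat_lit 0, nat_lit 2, nat_lit 1])))))))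
 (.node (nat_lit 3093) (.node (nat_lit 3087) (.node (nat_lit 3084) (.node (nat_lit 3083) (.leaf ((nat_lit 894), [nat_lit 0, nat_lit 2, nat_lit 0])) (.leaf ((nat_lit 161), [nat_lit 0]))) (.node (nat_lit 3085) (.leaf ((nat_lit 162), [nat_lit 0, nat_lit 3])) (.node (nat_lit 3086) (.leaf ((nat_lit 819), [nat_lit 3, nat_lit 1])) (.leaf ((nat_lit 433), [nat_lit 1, nat_lit 3, nat_lit 1])))))
 (.node (nat_lit 3090) (.node (nat_lit 3088) (.leaf ((nat_lit 819), [nat_lit 3, nat_lit 0])) (.node (nat_lit 3089) (.leaf ((nat_lit 796), [nat_lit 1, nat_lit 3])) (.leaf ((nat_lit 899), [nat_lit 3, nat_lit 1])))) (.node (nat_lit 3091) (.leaf ((nat_lit 433), [nat_lit 0, nat_lit 2])) (.node (nat_lit 3092) (.leaf ((nat_lit 581), [nat_lit 1, nat_lit 2, nat_lit 0])) (.leaf ((nat_lit 162), [nat_lit 1]))))))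
 (.node (nat_lit 3099) (.node (nat_lit 3096) (.node (nat_lit 3094) (.leaf ((nat_lit 900), [nat_lit 1])) (.node (nat_lit 3095) (.leaf ((nat_lit 601), [])) (.leaf ((nat_lit 582), [nat_lit 1, nat_lit 2, nat_lit 1])))) (.node (nat_lit 3097) (.leaf ((nat_lit 838), [nat_lit 0, nat_lit 3, nat_lit 1])) (.node (nat_lit 3098) (.leaf ((nat_lit 901), [nat_lit 0, nat_lit 2, nat_lit 0])) (.leaf ((nat_lit 738), [nat_lit 1, nat_lit 3, nat_lit 0])))))
 (.node (nat_lit 3102) (.node (nat_lit 3100) (.leaf ((nat_lit 163), [nat_lit 1, nat_lit 2, nat_lit 1])) (.node (nat_lit 3101) (.leaf ((nat_lit 162), [nat_lit 2, nat_lit 0])) (.leaf ((nat_lit 874), [nat_lit 0, nat_lit 3, nat_lit 0])))) (.node (nat_lit 3103) (.leaf ((nat_lit 269), [nat_lit 0, nat_lit 3, nat_lit 0])) (.node (nat_lit 3104) (.leaf ((nat_lit 212), [nat_lit 0, nat_lit 2, nat_lit 0])) (.leaf ((nat_lit 341), [nat_lit 2, nat_lit 1]))))))))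
 (.node (nat_lit 3127) (.node (nat_lit 3116) (.node (nat_lit 3110) (.node (nat_lit 3107) (.node (nat_lit 3106) (.leaf ((nat_lit 719), [nat_lit 1, nat_lit 3, nat_lit 0])) (.leaf ((nat_lit 466), [nat_lit 2, nat_lit 1]))) (.node (nat_lit 3108) (.leaf ((nat_lit 163), [nat_lit 1, nat_lit 2])) (.node (nat_lit 3109) (.leaf ((nat_lit 169), [nat_lit 0, nat_lit 2, nat_lit 0])) (.leaf ((nat_lit 165), [nat_lit 0, nat_lit 2, nat_lit 1])))))
 (.node (nat_lit 3113) (.node (nat_lit 3111) (.leaf ((nat_lit 164), [nat_lit 1, nat_lit 3, nat_lit 1])) (.node (nat_lit 3112) (.leaf ((nat_lit 762), [nat_lit 1, nat_lit 3])) (.leaf ((nat_lit 539), [nat_lit 0, nat_lit 2, nat_lit 1])))) (.node (nat_lit 3114) (.leaf ((nat_lit 878), [nat_lit 0, nat_lit 3, nat_lit 0])) (.node (nat_lit 3115) (.leaf ((nat_lit 177), [nat_lit 0, nat_lit 2, nat_lit 0])) (.leaf ((nat_lit 250), [nat_lit 0, nat_lit 3, nat_lit 1]))))))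
 (.node (nat_lit 3121) (.node (nat_lit 3118) (.node (nat_lit 3117) (.leaf ((nat_lit 175), [nat_lit 0, nat_lit 2])) (.leaf ((nat_lit 619), [nat_lit 3, nat_lit 0]))) (.node (nat_lit 3119) (.leaf ((nat_lit 164), [nat_lit 1, nat_lit 2])) (.node (nat_lit 3120) (.leaf ((nat_lit 552), [nat_lit 1, nat_lit 2, nat_lit 1])) (.leaf ((nat_lit 322), [nat_lit 1, nat_lit 2])))))
 (.node (nat_lit 3124) (.node (nat_lit 3122) (.leaf ((nat_lit 902), [nat_lit 0, nat_lit 3])) (.node (nat_lit 3123) (.leaf ((nat_lit 585), [nat_lit 0, nat_lit 3, nat_lit 0])) (.leaf ((nat_lit 165), [nat_lit 2])))) (.node (nat_lit 3125) (.leaf ((nat_lit 527), [nat_lit 1, nat_lit 3])) (.node (nat_lit 3126) (.leaf ((nat_lit 898), [nat_lit 1, nat_lit 3, nat_lit 0])) (.leaf ((nat_lit 903), [nat_lit 1, nat_lit 2])))))))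
 (.node (nat_lit 3138) (.node (nat_lit 3132) (.node (nat_lit 3129) (.node (nat_lit 3128) (.leaf ((nat_lit 542), [nat_lit 2])) (.leaf ((nat_lit 308), [nat_lit 0, nat_lit 2, nat_lit 0]))) (.node (nat_lit 3130) (.leaf ((nat_lit 528), [nat_lit 1, nat_lit 2, nat_lit 1])) (.node (nat_lit 3131) (.leaf ((nat_lit 317), [nat_lit 1, nat_lit 2, nat_lit 1])) (.leaf ((nat_lit 165), [nat_lit 1, nat_lit 2, nat_lit 1])))))
 (.node (nat_lit 3135) (.node (nat_lit 3133) (.leaf ((nat_lit 349), [nat_lit 2])) (.node (nat_lit 3134) (.leaf ((nat_lit 835), [nat_lit 0, nat_lit 3, nat_lit 0])) (.leaf ((nat_lit 276), [nat_lit 1, nat_lit 3])))) (.node (nat_lit 3136) (.leaf ((nat_lit 167), [nat_lit 0, nat_lit 2])) (.node (nat_lit 3137) (.leaf ((nat_lit 166), [])) (.leaf ((nat_lit 387), [nat_lit 3, nat_lit 0]))))))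
 (.node (nat_lit 3144) (.node (nat_lit 3141) (.node (nat_lit 3139) (.leaf ((nat_lit 207), [nat_lit 0, nat_lit 3, nat_lit 0])) (.node (nat_lit 3140) (.leaf ((nat_lit 167), [nat_lit 1, nat_lit 2, nat_lit 0])) (.leaf ((nat_lit 205), [nat_lit 1, nat_lit 2, nat_lit 0])))) (.node (nat_lit 3142) (.leaf ((nat_lit 450), [nat_lit 1, nat_lit 3, nat_lit 0])) (.node (nat_lit 3143) (.leaf ((nat_lit 250), [nat_lit 1, nat_lit 3, nat_lit 1])) (.leaf ((nat_lit 641), [nat_lit 0, nat_lit 3, nat_lit 0])))))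
 (.node (nat_lit 3147) (.node (nat_lit 3145) (.leaf ((nat_lit 822), [])) (.node (nat_lit 3146) (.leaf ((nat_lit 821), [nat_lit 1, nat_lit 2, nat_lit 1])) (.leaf ((nat_lit 549), [nat_lit 0, nat_lit 2])))) (.node (nat_lit 3148) (.leaf ((nat_lit 529), [nat_lit 0, nat_lit 3])) (.node (nat_lit 3149) (.leaf ((nat_lit 672), [nat_lit 1, nat_lit 3])) (.leaf ((nat_lit 167), [nat_lit 0, nat_lit 3])))))))))
 (.node (nat_lit 3195) (.node (nat_lit 3172) (.node (nat_lit 3161) (.node (nat_lit 3155) (.node (nat_lit 3152) (.node (nat_lit 3151) (.leaf ((nat_lit 179), [nat_lit 2, nat_lit 0])) (.leaf ((nat_lit 168), [nat_lit 1, nat_lit 3]))) (.node (nat_lit 3153) (.leaf ((nat_lit 904), [nat_lit 1, nat_lit 2, nat_lit 0])) (.node (nat_lit 3154) (.leaf ((nat_lit 641), [nat_lit 1, nat_lit 3, nat_lit 1])) (.leaf ((nat_lit 196), [nat_lit 1, nat_lit 3, nat_lit 0])))))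
 (.node (nat_lit 3158) (.node (nat_lit 3156) (.leaf ((nat_lit 540), [nat_lit 0, nat_lit 2])) (.node (nat_lit 3157) (.leaf ((nat_lit 180), [nat_lit 1])) (.leaf ((nat_lit 904), [nat_lit 3, nat_lit 1])))) (.node (nat_lit 3159) (.leaf ((nat_lit 168), [nat_lit 0, nat_lit 3, nat_lit 0])) (.node (nat_lit 3160) (.leaf ((nat_lit 554), [nat_lit 0, nat_lit 3, nat_lit 1])) (.leaf ((nat_lit 759), [nat_lit 0, nat_lit 2, nat_lit 0]))))))
 (.node (nat_lit 3166) (.node (nat_lit 3163) (.node (nat_lit 3162) (.leaf ((nat_lit 905), [nat_lit 1, nat_lit 2, nat_lit 0])) (.leaf ((nat_lit 434), [nat_lit 2]))) (.node (nat_lit 3164) (.leaf ((nat_lit 331), [nat_lit 3, nat_lit 1])) (.node (nat_lit 3165) (.leaf ((nat_lit 293), [nat_lit 0, nat_lit 2])) (.leaf ((nat_lit 169), [nat_lit 3, nat_lit 0])))))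
 (.node (nat_lit 3169) (.node (nat_lit 3167) (.leaf ((nat_lit 520), [nat_lit 2, nat_lit 0])) (.node (nat_lit 3168) (.leaf ((nat_lit 906), [nat_lit 0, nat_lit 3, nat_lit 1])) (.leaf ((nat_lit 907), [nat_lit 3, nat_lit 1])))) (.node (nat_lit 3170) (.leaf ((nat_lit 710), [nat_lit 1, nat_lit 3, nat_lit 1])) (.node (nat_lit 3171) (.leaf ((nat_lit 878), [nat_lit 2, nat_lit 1])) (.leaf ((nat_lit 521), [nat_lit 0, nat_lit 3, nat_lit 0])))))))
 (.node (nat_lit 3183) (.node (nat_lit 3177) (.node (nat_lit 3174) (.node (nat_lit 3173) (.leaf ((nat_lit 622), [nat_lit 2, nat_lit 1])) (.leaf ((nat_lit 169), [nat_lit 1, nat_lit 2, nat_lit 0]))) (.node (nat_lit 3175) (.leaf ((nat_lit 649), [nat_lit 2, nat_lit 1])) (.node (nat_lit 3176) (.leaf ((nat_lit 887), [nat_lit 0, nat_lit 3, nat_lit 0])) (.leaf ((nat_lit 599), [])))))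
 (.node (nat_lit 3180) (.node (nat_lit 3178) (.leaf ((nat_lit 524), [nat_lit 2, nat_lit 1])) (.node (nat_lit 3179) (.leaf ((nat_lit 485), [nat_lit 1, nat_lit 2, nat_lit 0])) (.leaf ((nat_lit 170), [nat_lit 3, nat_lit 1])))) (.node (nat_lit 3181) (.leaf ((nat_lit 171), [nat_lit 1, nat_lit 3, nat_lit 1])) (.node (nat_lit 3182) (.leaf ((nat_lit 248), [nat_lit 1, nat_lit 3, nat_lit 1])) (.leaf ((nat_lit 556), [nat_lit 1, nat_lit 2]))))))
 (.node (nat_lit 3189) (.node (nat_lit 3186) (.node (nat_lit 3184) (.leaf ((nat_lit 238), [nat_lit 3, nat_lit 0])) (.node (nat_lit 3185) (.leaf ((nat_lit 833), [nat_lit 1, nat_lit 3])) (.leaf ((nat_lit 543), [nat_lit 0, nat_lit 3, nat_lit 0])))) (.node (nat_lit 3187) (.leaf ((nat_lit 248), [nat_lit 0, nat_lit 3])) (.node (nat_lit 3188) (.leaf ((nat_lit 171), [nat_lit 0, nat_lit 3])) (.leaf ((nat_lit 608), [nat_lit 2, nat_lit 0])))))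
 (.node (nat_lit 3192) (.node (nat_lit 3190) (.leaf ((nat_lit 547), [nat_lit 0, nat_lit 3])) (.node (nat_lit 3191) (.leaf ((nat_lit 571), [nat_lit 1])) (.leaf ((nat_lit 598), [nat_lit 3])))) (.node (nat_lit 3193) (.leaf ((nat_lit 556), [nat_lit 1, nat_lit 2, nat_lit 1])) (.node (nat_lit 3194) (.leaf ((nat_lit 608), [nat_lit 1, nat_lit 2, nat_lit 0])) (.leaf ((nat_lit 171), [nat_lit 1, nat_lit 3, nat_lit 0]))))))))
 (.node (nat_lit 3217) (.node (nat_lit 3206) (.node (nat_lit 3200) (.node (nat_lit 3197) (.node (nat_lit 3196) (.leaf ((nat_lit 608), [nat_lit 0, nat_lit 2, nat_lit 0])) (.leaf ((nat_lit 342), []))) (.node (nat_lit 3198) (.leaf ((nat_lit 886), [nat_lit 0, nat_lit 3])) (.node (nat_lit 3199) (.leaf ((nat_lit 641), [nat_lit 3, nat_lit 1])) (.leaf ((nat_lit 461), [nat_lit 0, nat_lit 2, nat_lit 1])))))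
 (.node (nat_lit 3203) (.node (nat_lit 3201) (.leaf ((nat_lit 754), [nat_lit 2, nat_lit 0])) (.node (nat_lit 3202) (.leaf ((nat_lit 171), [nat_lit 3, nat_lit 0])) (.leaf ((nat_lit 673), [nat_lit 3, nat_lit 0])))) (.node (nat_lit 3204) (.leaf ((nat_lit 207), [])) (.node (nat_lit 3205) (.leaf ((nat_lit 448), [nat_lit 0, nat_lit 3, nat_lit 0])) (.leaf ((nat_lit 445), [nat_lit 1, nat_lit 2, nat_lit 0]))))))
 (.node (nat_lit 3211) (.node (nat_lit 3208) (.node (nat_lit 3207) (.leaf ((nat_lit 444), [nat_lit 0, nat_lit 3])) (.leaf ((nat_lit 673), [nat_lit 1, nat_lit 2, nat_lit 1]))) (.node (nat_lit 3209) (.leaf ((nat_lit 171), [nat_lit 1, nat_lit 2, nat_lit 1])) (.node (nat_lit 3210) (.leaf ((nat_lit 837), [nat_lit 2, nat_lit 0])) (.leaf ((nat_lit 342), [nat_lit 3, nat_lit 0])))))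
 (.node (nat_lit 3214) (.node (nat_lit 3212) (.leaf ((nat_lit 172), [nat_lit 0, nat_lit 3, nat_lit 1])) (.node (nat_lit 3213) (.leaf ((nat_lit 463), [nat_lit 2])) (.leaf ((nat_lit 331), [nat_lit 1, nat_lit 3, nat_lit 1])))) (.node (nat_lit 3215) (.leaf ((nat_lit 779), [nat_lit 2, nat_lit 0])) (.node (nat_lit 3216) (.leaf ((nat_lit 766), [nat_lit 1, nat_lit 3, nat_lit 0])) (.leaf ((nat_lit 610), [nat_lit 2, nat_lit 0])))))))
 (.node (nat_lit 3228) (.node (nat_lit 3222) (.node (nat_lit 3219) (.node (nat_lit 3218) (.leaf ((nat_lit 773), [nat_lit 1, nat_lit 2])) (.leaf ((nat_lit 593), [nat_lit 3]))) (.node (nat_lit 3220) (.leaf ((nat_lit 173), [nat_lit 3, nat_lit 1])) (.node (nat_lit 3221) (.leaf ((nat_lit 172), [nat_lit 0, nat_lit 3, nat_lit 0])) (.leaf ((nat_lit 483), [nat_lit 0, nat_lit 3, nat_lit 0])))))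
 (.node (nat_lit 3225) (.node (nat_lit 3223) (.leaf ((nat_lit 908), [nat_lit 0, nat_lit 3])) (.node (nat_lit 3224) (.leaf ((nat_lit 346), [nat_lit 1, nat_lit 3, nat_lit 1])) (.leaf ((nat_lit 345), [nat_lit 2])))) (.node (nat_lit 3226) (.leaf ((nat_lit 648), [])) (.node (nat_lit 3227) (.leaf ((nat_lit 417), [nat_lit 1, nat_lit 2, nat_lit 0])) (.leaf ((nat_lit 172), [nat_lit 1]))))))
 (.node (nat_lit 3234) (.node (nat_lit 3231) (.node (nat_lit 3229) (.leaf ((nat_lit 173), [nat_lit 0, nat_lit 3])) (.node (nat_lit 3230) (.leaf ((nat_lit 820), [nat_lit 3])) (.leaf ((nat_lit 598), [nat_lit 0, nat_lit 2])))) (.node (nat_lit 3232) (.leaf ((nat_lit 364), [nat_lit 1, nat_lit 2, nat_lit 1])) (.node (nat_lit 3233) (.leaf ((nat_lit 820), [nat_lit 2])) (.leaf ((nat_lit 308), [])))))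
 (.node (nat_lit 3237) (.node (nat_lit 3235) (.leaf ((nat_lit 820), [nat_lit 2, nat_lit 0])) (.node (nat_lit 3236) (.leaf ((nat_lit 173), [nat_lit 0, nat_lit 2, nat_lit 0])) (.leaf ((nat_lit 543), [nat_lit 0, nat_lit 3, nat_lit 1])))) (.node (nat_lit 3238) (.leaf ((nat_lit 770), [nat_lit 3, nat_lit 0])) (.node (nat_lit 3239) (.leaf ((nat_lit 518), [nat_lit 0, nat_lit 3, nat_lit 1])) (.leaf ((nat_lit 542), [nat_lit 1, nat_lit 2]))))))))))
noncomputable def n1Wd_18 : Tr (ℕ × List ℕ) := (.node (nat_lit 3330) (.node (nat_lit 3285) (.node (nat_lit 3262) (.node (nat_lit 3251) (.node (nat_lit 3245) (.node (nat_lit 3242) (.node (nat_lit 3241) (.leaf ((nat_lit 598), [nat_lit 0, nat_lit 3, nat_lit 1])) (.leaf ((nat_lit 543), [nat_lit 3]))) (.node (nat_lit 3243) (.leaf ((nat_lit 173), [])) (.node (nat_lit 3244) (.leaf ((nat_lit 212), [nat_lit 2, nat_lit 1])) (.leaf ((nat_lit 177), [nat_lit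 2])))))
 (.node (nat_lit 3248) (.node (nat_lit 3246) (.leaf ((nat_lit 525), [nat_lit 3, nat_lit 1])) (.node (nat_lit 3247) (.leaf ((nat_lit 174), [nat_lit 1])) (.leaf ((nat_lit 736), [nat_lit 0, nat_lit 2, nat_lit 1])))) (.node (nat_lit 3249) (.leaf ((nat_lit 909), [nat_lit 0])) (.node (nat_lit 3250) (.leaf ((nat_lit 910), [nat_lit 1, nat_lit 2])) (.leaf ((nat_lit 895), [nat_lit 1, nat_lit 3, nat_lit 1]))))))
 (.node (nat_lit 3256) (.node (nat_lit 3253) (.node (nat_lit 3252) (.leaf ((nat_lit 911), [nat_lit 0])) (.leaf ((nat_lit 909), [nat_lit 0, nat_lit 3, nat_lit 0]))) (.node (nat_lit 3254) (.leaf ((nat_lit 521), [nat_lit 3])) (.node (nat_lit 3255) (.leaf ((nat_lit 174), [nat_lit 1, nat_lit 3, nat_lit 0])) (.leaf ((nat_lit 479), [nat_lit 3])))))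
 (.node (nat_lit 3259) (.node (nat_lit 3257) (.leaf ((nat_lit 478), [nat_lit 0, nat_lit 2, nat_lit 0])) (.node (nat_lit 3258) (.leaf ((nat_lit 539), [nat_lit 3, nat_lit 0])) (.leaf ((nat_lit 381), [nat_lit 0, nat_lit 3, nat_lit 0])))) (.node (nat_lit 3260) (.leaf ((nat_lit 540), [nat_lit 2])) (.node (nat_lit 3261) (.leaf ((nat_lit 539), [nat_lit 0, nat_lit 2, nat_lit 1])) (.leaf ((nat_lit 855), [nat_lit 1, nat_lit 2, nat_lit 0])))))))
 (.node (nat_lit 3273) (.node (nat_lit 3267) (.node (nat_lit 3264) (.node (nat_lit 3263) (.leaf ((nat_lit 175), [nat_lit 0, nat_lit 3, nat_lit 1])) (.leaf ((nat_lit 530), [nat_lit 1, nat_lit 2, nat_lit 1]))) (.node (nat_lit 3265) (.leaf ((nat_lit 910), [nat_lit 1, nat_lit 3, nat_lit 0])) (.node (nat_lit 3266) (.leaf ((nat_lit 647), [nat_lit 1, nat_lit 3])) (.leaf ((nat_lit 552), [nat_lit 0, nat_lit 3])))))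
 (.node (nat_lit 3270) (.node (nat_lit 3268) (.leaf ((nat_lit 599), [nat_lit 1, nat_lit 2, nat_lit 0])) (.node (nat_lit 3269) (.leaf ((nat_lit 838), [])) (.leaf ((nat_lit 175), [nat_lit 0, nat_lit 3, nat_lit 1])))) (.node (nat_lit 3271) (.leaf ((nat_lit 250), [nat_lit 3])) (.node (nat_lit 3272) (.leaf ((nat_lit 177), [])) (.leaf ((nat_lit 176), [nat_lit 1, nat_lit 3, nat_lit 1]))))))
 (.node (nat_lit 3279) (.node (nat_lit 3276) (.node (nat_lit 3274) (.leaf ((nat_lit 424), [nat_lit 0, nat_lit 3, nat_lit 1])) (.node (nat_lit 3275) (.leaf ((nat_lit 249), [])) (.leaf ((nat_lit 181), [nat_lit 2, nat_lit 0])))) (.node (nat_lit 3277) (.leaf ((nat_lit 223), [nat_lit 0, nat_lit 2, nat_lit 1])) (.node (nat_lit 3278) (.leaf ((nat_lit 189), [nat_lit 3, nat_lit 1])) (.leaf ((nat_lit 222), [nat_lit 0, nat_lit 2])))))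
 (.node (nat_lit 3282) (.node (nat_lit 3280) (.leaf ((nat_lit 176), [nat_lit 1, nat_lit 3, nat_lit 0])) (.node (nat_lit 3281) (.leaf ((nat_lit 597), [])) (.leaf ((nat_lit 855), [nat_lit 0])))) (.node (nat_lit 3283) (.leaf ((nat_lit 181), [nat_lit 1, nat_lit 3, nat_lit 1])) (.node (nat_lit 3284) (.leaf ((nat_lit 754), [nat_lit 2])) (.leaf ((nat_lit 461), [nat_lit 0, nat_lit 2, nat_lit 0]))))))))
 (.node (nat_lit 3307) (.node (nat_lit 3296) (.node (nat_lit 3290) (.node (nat_lit 3287) (.node (nat_lit 3286) (.leaf ((nat_lit 531), [nat_lit 2, nat_lit 1])) (.leaf ((nat_lit 755), [nat_lit 0, nat_lit 2, nat_lit 0]))) (.node (nat_lit 3288) (.leaf ((nat_lit 176), [nat_lit 1])) (.node (nat_lit 3289) (.leaf ((nat_lit 749), [])) (.leaf ((nat_lit 579), [nat_lit 1, nat_lit 3, nat_lit 1])))))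
 (.node (nat_lit 3293) (.node (nat_lit 3291) (.leaf ((nat_lit 676), [nat_lit 3])) (.node (nat_lit 3292) (.leaf ((nat_lit 177), [nat_lit 1, nat_lit 2, nat_lit 0])) (.leaf ((nat_lit 212), [nat_lit 1, nat_lit 3, nat_lit 1])))) (.node (nat_lit 3294) (.leaf ((nat_lit 195), [nat_lit 0, nat_lit 2, nat_lit 1])) (.node (nat_lit 3295) (.leaf ((nat_lit 551), [nat_lit 1, nat_lit 3, nat_lit 1])) (.leaf ((nat_lit 550), [nat_lit 3, nat_lit 1]))))))
 (.node (nat_lit 3301) (.node (nat_lit 3298) (.node (nat_lit 3297) (.leaf ((nat_lit 524), [nat_lit 3, nat_lit 1])) (.leaf ((nat_lit 382), [nat_lit 0, nat_lit 3, nat_lit 1]))) (.node (nat_lit 3299) (.leaf ((nat_lit 312), [])) (.node (nat_lit 3300) (.leaf ((nat_lit 177), [nat_lit 0, nat_lit 3, nat_lit 1])) (.leaf ((nat_lit 178), [nat_lit 0, nat_lit 2, nat_lit 0])))))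
 (.node (nat_lit 3304) (.node (nat_lit 3302) (.leaf ((nat_lit 549), [nat_lit 0, nat_lit 2])) (.node (nat_lit 3303) (.leaf ((nat_lit 821), [nat_lit 1, nat_lit 2, nat_lit 1])) (.leaf ((nat_lit 903), [nat_lit 3])))) (.node (nat_lit 3305) (.leaf ((nat_lit 259), [nat_lit 1, nat_lit 2, nat_lit 1])) (.node (nat_lit 3306) (.leaf ((nat_lit 890), [nat_lit 3, nat_lit 1])) (.leaf ((nat_lit 549), [nat_lit 0, nat_lit 2, nat_lit 0])))))))
 (.node (nat_lit 3318) (.node (nat_lit 3312) (.node (nat_lit 3309) (.node (nat_lit 3308) (.leaf ((nat_lit 178), [nat_lit 0, nat_lit 2, nat_lit 1])) (.leaf ((nat_lit 822), [nat_lit 0]))) (.node (nat_lit 3310) (.leaf ((nat_lit 912), [nat_lit 0, nat_lit 2])) (.node (nat_lit 3311) (.leaf ((nat_lit 653), [nat_lit 0, nat_lit 3, nat_lit 1])) (.leaf ((nat_lit 251), [nat_lit 0])))))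
 (.node (nat_lit 3315) (.node (nat_lit 3313) (.leaf ((nat_lit 887), [nat_lit 3, nat_lit 0])) (.node (nat_lit 3314) (.leaf ((nat_lit 649), [nat_lit 0, nat_lit 3, nat_lit 1])) (.leaf ((nat_lit 544), [nat_lit 2, nat_lit 1])))) (.node (nat_lit 3316) (.leaf ((nat_lit 178), [nat_lit 0, nat_lit 3])) (.node (nat_lit 3317) (.leaf ((nat_lit 850), [nat_lit 1, nat_lit 2, nat_lit 1])) (.leaf ((nat_lit 519), [nat_lit 0, nat_lit 3, nat_lit 0]))))))
 (.node (nat_lit 3324) (.node (nat_lit 3321) (.node (nat_lit 3319) (.leaf ((nat_lit 190), [nat_lit 3])) (.node (nat_lit 3320) (.leaf ((nat_lit 409), [nat_lit 1])) (.leaf ((nat_lit 913), [nat_lit 1])))) (.node (nat_lit 3322) (.leaf ((nat_lit 850), [nat_lit 0])) (.node (nat_lit 3323) (.leaf ((nat_lit 178), [nat_lit 3])) (.leaf ((nat_lit 638), [nat_lit 1, nat_lit 2, nat_lit 1])))))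
 (.node (nat_lit 3327) (.node (nat_lit 3325) (.leaf ((nat_lit 904), [nat_lit 1, nat_lit 2])) (.node (nat_lit 3326) (.leaf ((nat_lit 180), [nat_lit 1, nat_lit 2, nat_lit 0])) (.leaf ((nat_lit 179), [nat_lit 2])))) (.node (nat_lit 3328) (.leaf ((nat_lit 526), [nat_lit 0, nat_lit 2, nat_lit 1])) (.node (nat_lit 3329) (.leaf ((nat_lit 750), [nat_lit 1, nat_lit 3])) (.leaf ((nat_lit 914), [nat_lit 3, nat_lit 0])))))))))
 (.node (nat_lit 3375) (.node (nat_lit 3352) (.node (nat_lit 3341) (.node (nat_lit 3335) (.node (nat_lit 3332) (.node (nat_lit 3331) (.leaf ((nat_lit 856), [nat_lit 3, nat_lit 1])) (.leaf ((nat_lit 292), [nat_lit 0, nat_lit 3, nat_lit 0]))) (.node (nat_lit 3333) (.leaf ((nat_lit 854), [nat_lit 0])) (.node (nat_lit 3334) (.leaf ((nat_lit 220), [nat_lit 1, nat_lit 3, nat_lit 0])) (.leaf ((nat_lit 179), [nat_lit 3, nat_lit 0])))))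
 (.node (nat_lit 3338) (.node (nat_lit 3336) (.leaf ((nat_lit 884), [nat_lit 2, nat_lit 0])) (.node (nat_lit 3337) (.leaf ((nat_lit 532), [nat_lit 0, nat_lit 3, nat_lit 0])) (.leaf ((nat_lit 644), [nat_lit 3, nat_lit 1])))) (.node (nat_lit 3339) (.leaf ((nat_lit 530), [nat_lit 3, nat_lit 0])) (.node (nat_lit 3340) (.leaf ((nat_lit 180), [nat_lit 2, nat_lit 0])) (.leaf ((nat_lit 665), [nat_lit 0, nat_lit 3, nat_lit 0]))))))
 (.node (nat_lit 3346) (.node (nat_lit 3343) (.node (nat_lit 3342) (.leaf ((nat_lit 646), [nat_lit 3, nat_lit 0])) (.leaf ((nat_lit 915), [nat_lit 0]))) (.node (nat_lit 3344) (.leaf ((nat_lit 916), [nat_lit 0])) (.node (nat_lit 3345) (.leaf ((nat_lit 646), [nat_lit 1, nat_lit 3, nat_lit 1])) (.leaf ((nat_lit 708), [nat_lit 2])))))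
 (.node (nat_lit 3349) (.node (nat_lit 3347) (.leaf ((nat_lit 251), [nat_lit 3, nat_lit 0])) (.node (nat_lit 3348) (.leaf ((nat_lit 180), [nat_lit 2, nat_lit 1])) (.leaf ((nat_lit 754), [nat_lit 0, nat_lit 3, nat_lit 0])))) (.node (nat_lit 3350) (.leaf ((nat_lit 181), [nat_lit 0, nat_lit 3])) (.node (nat_lit 3351) (.leaf ((nat_lit 641), [nat_lit 2, nat_lit 1])) (.leaf ((nat_lit 237), [nat_lit 0, nat_lit 3, nat_lit 1])))))))
 (.node (nat_lit 3363) (.node (nat_lit 3357) (.node (nat_lit 3354) (.node (nat_lit 3353) (.leaf ((nat_lit 651), [nat_lit 1, nat_lit 3, nat_lit 1])) (.leaf ((nat_lit 645), [nat_lit 0, nat_lit 3, nat_lit 0]))) (.node (nat_lit 3355) (.leaf ((nat_lit 835), [nat_lit 3, nat_lit 0])) (.node (nat_lit 3356) (.leaf ((nat_lit 349), [])) (.leaf ((nat_lit 418), [])))))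
 (.node (nat_lit 3360) (.node (nat_lit 3358) (.leaf ((nat_lit 182), [nat_lit 3, nat_lit 0])) (.node (nat_lit 3359) (.leaf ((nat_lit 181), [nat_lit 2, nat_lit 0])) (.leaf ((nat_lit 397), [nat_lit 0, nat_lit 3, nat_lit 1])))) (.node (nat_lit 3361) (.leaf ((nat_lit 836), [nat_lit 0, nat_lit 2, nat_lit 0])) (.node (nat_lit 3362) (.leaf ((nat_lit 735), [nat_lit 1, nat_lit 3, nat_lit 1])) (.leaf ((nat_lit 837), [nat_lit 1, nat_lit 3, nat_lit 0]))))))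
 (.node (nat_lit 3369) (.node (nat_lit 3366) (.node (nat_lit 3364) (.leaf ((nat_lit 584), [nat_lit 1, nat_lit 2, nat_lit 0])) (.node (nat_lit 3365) (.leaf ((nat_lit 638), [nat_lit 1, nat_lit 2, nat_lit 0])) (.leaf ((nat_lit 182), [nat_lit 0, nat_lit 2])))) (.node (nat_lit 3367) (.leaf ((nat_lit 861), [nat_lit 3])) (.node (nat_lit 3368) (.leaf ((nat_lit 446), [nat_lit 0, nat_lit 3, nat_lit 0])) (.leaf ((nat_lit 451), [nat_lit 1, nat_lit 2, nat_lit 1])))))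
 (.node (nat_lit 3372) (.node (nat_lit 3370) (.leaf ((nat_lit 184), [nat_lit 0, nat_lit 2])) (.node (nat_lit 3371) (.leaf ((nat_lit 603), [nat_lit 0, nat_lit 2, nat_lit 1])) (.leaf ((nat_lit 840), [nat_lit 3, nat_lit 1])))) (.node (nat_lit 3373) (.leaf ((nat_lit 738), [nat_lit 3, nat_lit 0])) (.node (nat_lit 3374) (.leaf ((nat_lit 569), [nat_lit 1])) (.leaf ((nat_lit 838), [nat_lit 2, nat_lit 1]))))))))
 (.node (nat_lit 3397) (.node (nat_lit 3386) (.node (nat_lit 3380) (.node (nat_lit 3377) (.node (nat_lit 3376) (.leaf ((nat_lit 495), [nat_lit 1, nat_lit 2, nat_lit 1])) (.leaf ((nat_lit 881), [nat_lit 1, nat_lit 3, nat_lit 1]))) (.node (nat_lit 3378) (.leaf ((nat_lit 184), [nat_lit 0, nat_lit 3, nat_lit 0])) (.node (nat_lit 3379) (.leaf ((nat_lit 350), [nat_lit 0, nat_lit 3, nat_lit 1])) (.leaf ((nat_lit 769), [nat_lit 1, nat_lit 2, nat_lit 1])))))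
 (.node (nat_lit 3383) (.node (nat_lit 3381) (.leaf ((nat_lit 747), [nat_lit 1, nat_lit 2, nat_lit 1])) (.node (nat_lit 3382) (.leaf ((nat_lit 186), [])) (.leaf ((nat_lit 185), [nat_lit 0, nat_lit 3, nat_lit 0])))) (.node (nat_lit 3384) (.leaf ((nat_lit 463), [nat_lit 1, nat_lit 3])) (.node (nat_lit 3385) (.leaf ((nat_lit 745), [nat_lit 0, nat_lit 2, nat_lit 1])) (.leaf ((nat_lit 871), [nat_lit 0, nat_lit 2, nat_lit 0]))))))
 (.node (nat_lit 3391) (.node (nat_lit 3388) (.node (nat_lit 3387) (.leaf ((nat_lit 601), [nat_lit 0, nat_lit 3, nat_lit 0])) (.leaf ((nat_lit 739), [nat_lit 1, nat_lit 3, nat_lit 0]))) (.node (nat_lit 3389) (.leaf ((nat_lit 738), [])) (.node (nat_lit 3390) (.leaf ((nat_lit 185), [nat_lit 0])) (.leaf ((nat_lit 233), [nat_lit 0, nat_lit 3])))))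
 (.node (nat_lit 3394) (.node (nat_lit 3392) (.leaf ((nat_lit 817), [nat_lit 3, nat_lit 1])) (.node (nat_lit 3393) (.leaf ((nat_lit 202), [nat_lit 1, nat_lit 2, nat_lit 0])) (.leaf ((nat_lit 211), [nat_lit 3, nat_lit 0])))) (.node (nat_lit 3395) (.leaf ((nat_lit 832), [])) (.node (nat_lit 3396) (.leaf ((nat_lit 186), [nat_lit 1])) (.leaf ((nat_lit 187), [nat_lit 0, nat_lit 2])))))))
 (.node (nat_lit 3408) (.node (nat_lit 3402) (.node (nat_lit 3399) (.node (nat_lit 3398) (.leaf ((nat_lit 825), [nat_lit 1, nat_lit 3])) (.leaf ((nat_lit 616), [nat_lit 2]))) (.node (nat_lit 3400) (.leaf ((nat_lit 582), [nat_lit 1, nat_lit 3, nat_lit 1])) (.node (nat_lit 3401) (.leaf ((nat_lit 867), [nat_lit 0, nat_lit 3, nat_lit 1])) (.leaf ((nat_lit 698), [nat_lit 2, nat_lit 0])))))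
 (.node (nat_lit 3405) (.node (nat_lit 3403) (.leaf ((nat_lit 825), [nat_lit 2, nat_lit 0])) (.node (nat_lit 3404) (.leaf ((nat_lit 187), [nat_lit 1, nat_lit 3, nat_lit 1])) (.leaf ((nat_lit 864), [nat_lit 0, nat_lit 3, nat_lit 1])))) (.node (nat_lit 3406) (.leaf ((nat_lit 469), [nat_lit 0, nat_lit 3, nat_lit 1])) (.node (nat_lit 3407) (.leaf ((nat_lit 627), [nat_lit 2, nat_lit 1])) (.leaf ((nat_lit 749), [nat_lit 1, nat_lit 2]))))))
 (.node (nat_lit 3414) (.node (nat_lit 3411) (.node (nat_lit 3409) (.leaf ((nat_lit 616), [nat_lit 0])) (.node (nat_lit 3410) (.leaf ((nat_lit 864), [nat_lit 0])) (.leaf ((nat_lit 187), [nat_lit 1])))) (.node (nat_lit 3412) (.leaf ((nat_lit 386), [nat_lit 2, nat_lit 1])) (.node (nat_lit 3413) (.leaf ((nat_lit 860), [nat_lit 0, nat_lit 3])) (.leaf ((nat_lit 828), [nat_lit 1, nat_lit 3])))))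
 (.node (nat_lit 3417) (.node (nat_lit 3415) (.leaf ((nat_lit 847), [nat_lit 0, nat_lit 2])) (.node (nat_lit 3416) (.leaf ((nat_lit 562), [nat_lit 0])) (.leaf ((nat_lit 848), [nat_lit 1])))) (.node (nat_lit 3418) (.leaf ((nat_lit 681), [nat_lit 0, nat_lit 3, nat_lit 0])) (.node (nat_lit 3419) (.leaf ((nat_lit 187), [nat_lit 1, nat_lit 3])) (.leaf ((nat_lit 454), [nat_lit 1, nat_lit 2]))))))))))
noncomputable def n1Wd_19 : Tr (ℕ × List ℕ) := (.node (nat_lit 3510) (.node (nat_lit 3465) (.node (nat_lit 3442) (.node (nat_lit 3431) (.node (nat_lit 3425) (.node (nat_lit 3422) (.node (nat_lit 3421) (.leaf ((nat_lit 389), [nat_lit 2, nat_lit 1])) (.leaf ((nat_lit 494), [nat_lit 3]))) (.node (nat_lit 3423) (.leaf ((nat_lit 813), [])) (.node (nat_lit 3424) (.leaf ((nat_lit 783), [nat_lit 0, nat_lit 3])) (.leaf ((nat_lit 188), [nat_lit 3, nat_lit 1])))))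
 (.node (nat_lit 3428) (.node (nat_lit 3426) (.leaf ((nat_lit 336), [nat_lit 0, nat_lit 2, nat_lit 1])) (.node (nat_lit 3427) (.leaf ((nat_lit 189), [nat_lit 1, nat_lit 2])) (.leaf ((nat_lit 223), [nat_lit 2, nat_lit 1])))) (.node (nat_lit 3429) (.leaf ((nat_lit 216), [nat_lit 1, nat_lit 3, nat_lit 1])) (.node (nat_lit 3430) (.leaf ((nat_lit 755), [nat_lit 1, nat_lit 3])) (.leaf ((nat_lit 531), [nat_lit 0]))))))
 (.node (nat_lit 3436) (.node (nat_lit 3433) (.node (nat_lit 3432) (.leaf ((nat_lit 674), [nat_lit 1, nat_lit 3, nat_lit 0])) (.leaf ((nat_lit 216), [nat_lit 2, nat_lit 1]))) (.node (nat_lit 3434) (.leaf ((nat_lit 222), [nat_lit 3, nat_lit 1])) (.node (nat_lit 3435) (.leaf ((nat_lit 189), [])) (.leaf ((nat_lit 787), [nat_lit 3])))))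
 (.node (nat_lit 3439) (.node (nat_lit 3437) (.leaf ((nat_lit 786), [nat_lit 3])) (.node (nat_lit 3438) (.leaf ((nat_lit 725), [nat_lit 0, nat_lit 3, nat_lit 1])) (.leaf ((nat_lit 913), [nat_lit 3, nat_lit 1])))) (.node (nat_lit 3440) (.leaf ((nat_lit 582), [nat_lit 0, nat_lit 3])) (.node (nat_lit 3441) (.leaf ((nat_lit 190), [nat_lit 1, nat_lit 3])) (.leaf ((nat_lit 487), [nat_lit 2])))))))
 (.node (nat_lit 3453) (.node (nat_lit 3447) (.node (nat_lit 3444) (.node (nat_lit 3443) (.leaf ((nat_lit 329), [nat_lit 2])) (.leaf ((nat_lit 851), [nat_lit 0, nat_lit 2]))) (.node (nat_lit 3445) (.leaf ((nat_lit 317), [nat_lit 1, nat_lit 2, nat_lit 1])) (.node (nat_lit 3446) (.leaf ((nat_lit 700), [nat_lit 0, nat_lit 2])) (.leaf ((nat_lit 315), [nat_lit 3])))))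
 (.node (nat_lit 3450) (.node (nat_lit 3448) (.leaf ((nat_lit 190), [nat_lit 0, nat_lit 3, nat_lit 0])) (.node (nat_lit 3449) (.leaf ((nat_lit 510), [nat_lit 1, nat_lit 2])) (.leaf ((nat_lit 373), [nat_lit 0, nat_lit 3, nat_lit 1])))) (.node (nat_lit 3451) (.leaf ((nat_lit 900), [nat_lit 0, nat_lit 3])) (.node (nat_lit 3452) (.leaf ((nat_lit 191), [nat_lit 2])) (.leaf ((nat_lit 917), [nat_lit 1, nat_lit 3, nat_lit 0]))))))
 (.node (nat_lit 3459) (.node (nat_lit 3456) (.node (nat_lit 3454) (.leaf ((nat_lit 510), [nat_lit 2, nat_lit 0])) (.node (nat_lit 3455) (.leaf ((nat_lit 190), [nat_lit 1, nat_lit 2])) (.leaf ((nat_lit 676), [nat_lit 1, nat_lit 2])))) (.node (nat_lit 3457) (.leaf ((nat_lit 191), [])) (.node (nat_lit 3458) (.leaf ((nat_lit 900), [nat_lit 0, nat_lit 2])) (.leaf ((nat_lit 685), [nat_lit 0, nat_lit 3, nat_lit 1])))))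
 (.node (nat_lit 3462) (.node (nat_lit 3460) (.leaf ((nat_lit 917), [nat_lit 1, nat_lit 2])) (.node (nat_lit 3461) (.leaf ((nat_lit 356), [nat_lit 1, nat_lit 3])) (.leaf ((nat_lit 407), [nat_lit 0, nat_lit 2, nat_lit 0])))) (.node (nat_lit 3463) (.leaf ((nat_lit 685), [nat_lit 0, nat_lit 2])) (.node (nat_lit 3464) (.leaf ((nat_lit 917), [nat_lit 1, nat_lit 2, nat_lit 0])) (.leaf ((nat_lit 191), [nat_lit 0, nat_lit 3]))))))))
 (.node (nat_lit 3487) (.node (nat_lit 3476) (.node (nat_lit 3470) (.node (nat_lit 3467) (.node (nat_lit 3466) (.leaf ((nat_lit 581), [nat_lit 1, nat_lit 3, nat_lit 0])) (.leaf ((nat_lit 595), [nat_lit 1, nat_lit 3]))) (.node (nat_lit 3468) (.leaf ((nat_lit 386), [nat_lit 1, nat_lit 3, nat_lit 1])) (.node (nat_lit 3469) (.leaf ((nat_lit 297), [nat_lit 0, nat_lit 2, nat_lit 0])) (.leaf ((nat_lit 868), [nat_lit 0, nat_lit 2, nat_lit 0])))))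
 (.node (nat_lit 3473) (.node (nat_lit 3471) (.leaf ((nat_lit 892), [nat_lit 1, nat_lit 2])) (.node (nat_lit 3472) (.leaf ((nat_lit 192), [nat_lit 2, nat_lit 1])) (.leaf ((nat_lit 376), [nat_lit 0, nat_lit 3, nat_lit 0])))) (.node (nat_lit 3474) (.leaf ((nat_lit 358), [nat_lit 1, nat_lit 3, nat_lit 0])) (.node (nat_lit 3475) (.leaf ((nat_lit 673), [nat_lit 3])) (.leaf ((nat_lit 548), [nat_lit 0, nat_lit 2, nat_lit 0]))))))
 (.node (nat_lit 3481) (.node (nat_lit 3478) (.node (nat_lit 3477) (.leaf ((nat_lit 787), [nat_lit 1, nat_lit 3, nat_lit 0])) (.leaf ((nat_lit 856), [nat_lit 3, nat_lit 0]))) (.node (nat_lit 3479) (.leaf ((nat_lit 204), [nat_lit 3, nat_lit 1])) (.node (nat_lit 3480) (.leaf ((nat_lit 193), [nat_lit 1, nat_lit 2])) (.leaf ((nat_lit 792), [nat_lit 0, nat_lit 2, nat_lit 1])))))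
 (.node (nat_lit 3484) (.node (nat_lit 3482) (.leaf ((nat_lit 918), [nat_lit 1, nat_lit 3, nat_lit 0])) (.node (nat_lit 3483) (.leaf ((nat_lit 919), [nat_lit 0, nat_lit 2, nat_lit 0])) (.leaf ((nat_lit 413), [nat_lit 0, nat_lit 2])))) (.node (nat_lit 3485) (.leaf ((nat_lit 194), [nat_lit 1, nat_lit 2, nat_lit 1])) (.node (nat_lit 3486) (.leaf ((nat_lit 861), [nat_lit 0, nat_lit 3, nat_lit 0])) (.leaf ((nat_lit 488), [nat_lit 0, nat_lit 3])))))))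
 (.node (nat_lit 3498) (.node (nat_lit 3492) (.node (nat_lit 3489) (.node (nat_lit 3488) (.leaf ((nat_lit 515), [nat_lit 1, nat_lit 3, nat_lit 0])) (.leaf ((nat_lit 380), [nat_lit 0, nat_lit 3, nat_lit 1]))) (.node (nat_lit 3490) (.leaf ((nat_lit 577), [nat_lit 1, nat_lit 2, nat_lit 0])) (.node (nat_lit 3491) (.leaf ((nat_lit 201), [nat_lit 0, nat_lit 2, nat_lit 1])) (.leaf ((nat_lit 194), [nat_lit 2, nat_lit 0])))))
 (.node (nat_lit 3495) (.node (nat_lit 3493) (.leaf ((nat_lit 845), [nat_lit 2, nat_lit 1])) (.node (nat_lit 3494) (.leaf ((nat_lit 573), [nat_lit 2, nat_lit 1])) (.leaf ((nat_lit 195), [nat_lit 1])))) (.node (nat_lit 3496) (.leaf ((nat_lit 566), [nat_lit 0, nat_lit 2, nat_lit 0])) (.node (nat_lit 3497) (.leaf ((nat_lit 919), [nat_lit 1, nat_lit 3])) (.leaf ((nat_lit 515), [nat_lit 0, nat_lit 3, nat_lit 0]))))))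
 (.node (nat_lit 3504) (.node (nat_lit 3501) (.node (nat_lit 3499) (.leaf ((nat_lit 874), [nat_lit 1, nat_lit 2])) (.node (nat_lit 3500) (.leaf ((nat_lit 768), [])) (.leaf ((nat_lit 741), [nat_lit 3])))) (.node (nat_lit 3502) (.leaf ((nat_lit 196), [nat_lit 0, nat_lit 2, nat_lit 0])) (.node (nat_lit 3503) (.leaf ((nat_lit 641), [nat_lit 0])) (.leaf ((nat_lit 640), [nat_lit 1, nat_lit 2, nat_lit 0])))))
 (.node (nat_lit 3507) (.node (nat_lit 3505) (.leaf ((nat_lit 711), [nat_lit 0])) (.node (nat_lit 3506) (.leaf ((nat_lit 480), [nat_lit 1, nat_lit 2, nat_lit 1])) (.leaf ((nat_lit 737), [nat_lit 1, nat_lit 2, nat_lit 1])))) (.node (nat_lit 3508) (.leaf ((nat_lit 560), [nat_lit 1, nat_lit 3, nat_lit 0])) (.node (nat_lit 3509) (.leaf ((nat_lit 394), [nat_lit 3, nat_lit 0])) (.leaf ((nat_lit 196), [nat_lit 1, nat_lit 3, nat_lit 1])))))))))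
 (.node (nat_lit 3555) (.node (nat_lit 3532) (.node (nat_lit 3521) (.node (nat_lit 3515) (.node (nat_lit 3512) (.node (nat_lit 3511) (.leaf ((nat_lit 363), [nat_lit 3, nat_lit 1])) (.leaf ((nat_lit 586), [nat_lit 1, nat_lit 2]))) (.node (nat_lit 3513) (.leaf ((nat_lit 520), [nat_lit 1, nat_lit 2, nat_lit 1])) (.node (nat_lit 3514) (.leaf ((nat_lit 197), [nat_lit 0])) (.leaf ((nat_lit 399), [nat_lit 1, nat_lit 2, nat_lit 0])))))
 (.node (nat_lit 3518) (.node (nat_lit 3516) (.leaf ((nat_lit 808), [nat_lit 0, nat_lit 3, nat_lit 1])) (.node (nat_lit 3517) (.leaf ((nat_lit 799), [nat_lit 3])) (.leaf ((nat_lit 585), [nat_lit 3, nat_lit 0])))) (.node (nat_lit 3519) (.leaf ((nat_lit 902), [nat_lit 0, nat_lit 2])) (.node (nat_lit 3520) (.leaf ((nat_lit 227), [nat_lit 1, nat_lit 2, nat_lit 0])) (.leaf ((nat_lit 198), [nat_lit 0]))))))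
 (.node (nat_lit 3526) (.node (nat_lit 3523) (.node (nat_lit 3522) (.leaf ((nat_lit 443), [nat_lit 2])) (.leaf ((nat_lit 726), []))) (.node (nat_lit 3524) (.leaf ((nat_lit 484), [nat_lit 1])) (.node (nat_lit 3525) (.leaf ((nat_lit 724), [nat_lit 0, nat_lit 2, nat_lit 0])) (.leaf ((nat_lit 846), [nat_lit 0, nat_lit 3])))))
 (.node (nat_lit 3529) (.node (nat_lit 3527) (.leaf ((nat_lit 740), [nat_lit 0, nat_lit 3])) (.node (nat_lit 3528) (.leaf ((nat_lit 198), [])) (.leaf ((nat_lit 199), [nat_lit 2])))) (.node (nat_lit 3530) (.leaf ((nat_lit 232), [nat_lit 0, nat_lit 2])) (.node (nat_lit 3531) (.leaf ((nat_lit 459), [nat_lit 0])) (.leaf ((nat_lit 833), [nat_lit 1, nat_lit 3])))))))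
 (.node (nat_lit 3543) (.node (nat_lit 3537) (.node (nat_lit 3534) (.node (nat_lit 3533) (.leaf ((nat_lit 238), [nat_lit 3, nat_lit 0])) (.leaf ((nat_lit 659), [nat_lit 1, nat_lit 2, nat_lit 1]))) (.node (nat_lit 3535) (.leaf ((nat_lit 232), [nat_lit 1, nat_lit 3, nat_lit 1])) (.node (nat_lit 3536) (.leaf ((nat_lit 199), [nat_lit 0, nat_lit 3, nat_lit 1])) (.leaf ((nat_lit 460), [nat_lit 2, nat_lit 1])))))
 (.node (nat_lit 3540) (.node (nat_lit 3538) (.leaf ((nat_lit 206), [nat_lit 0, nat_lit 3, nat_lit 0])) (.node (nat_lit 3539) (.leaf ((nat_lit 441), [nat_lit 0, nat_lit 2, nat_lit 1])) (.leaf ((nat_lit 901), [nat_lit 1, nat_lit 3])))) (.node (nat_lit 3541) (.leaf ((nat_lit 850), [nat_lit 2])) (.node (nat_lit 3542) (.leaf ((nat_lit 849), [nat_lit 1, nat_lit 3])) (.leaf ((nat_lit 797), [nat_lit 1, nat_lit 3]))))))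
 (.node (nat_lit 3549) (.node (nat_lit 3546) (.node (nat_lit 3544) (.leaf ((nat_lit 230), [nat_lit 0, nat_lit 2, nat_lit 1])) (.node (nat_lit 3545) (.leaf ((nat_lit 433), [nat_lit 1, nat_lit 3, nat_lit 0])) (.leaf ((nat_lit 199), [nat_lit 0, nat_lit 2])))) (.node (nat_lit 3547) (.leaf ((nat_lit 200), [nat_lit 1, nat_lit 2])) (.node (nat_lit 3548) (.leaf ((nat_lit 808), [nat_lit 0, nat_lit 2])) (.leaf ((nat_lit 807), [nat_lit 2])))))
 (.node (nat_lit 3552) (.node (nat_lit 3550) (.leaf ((nat_lit 204), [nat_lit 3, nat_lit 1])) (.node (nat_lit 3551) (.leaf ((nat_lit 856), [nat_lit 3, nat_lit 0])) (.leaf ((nat_lit 857), [])))) (.node (nat_lit 3553) (.leaf ((nat_lit 807), [nat_lit 1, nat_lit 3, nat_lit 0])) (.node (nat_lit 3554) (.leaf ((nat_lit 760), [nat_lit 2, nat_lit 0])) (.leaf ((nat_lit 200), [nat_lit 0, nat_lit 3, nat_lit 0]))))))))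
 (.node (nat_lit 3577) (.node (nat_lit 3566) (.node (nat_lit 3560) (.node (nat_lit 3557) (.node (nat_lit 3556) (.leaf ((nat_lit 920), [nat_lit 0, nat_lit 3, nat_lit 0])) (.leaf ((nat_lit 902), [nat_lit 1, nat_lit 2]))) (.node (nat_lit 3558) (.leaf ((nat_lit 921), [nat_lit 0, nat_lit 3, nat_lit 0])) (.node (nat_lit 3559) (.leaf ((nat_lit 217), [nat_lit 1, nat_lit 3])) (.leaf ((nat_lit 786), [nat_lit 0, nat_lit 2, nat_lit 0])))))
 (.node (nat_lit 3563) (.node (nat_lit 3561) (.leaf ((nat_lit 536), [nat_lit 2])) (.node (nat_lit 3562) (.leaf ((nat_lit 457), [])) (.leaf ((nat_lit 861), [nat_lit 0, nat_lit 3])))) (.node (nat_lit 3564) (.leaf ((nat_lit 200), [nat_lit 0, nat_lit 3])) (.node (nat_lit 3565) (.leaf ((nat_lit 306), [nat_lit 1, nat_lit 3])) (.leaf ((nat_lit 511), [nat_lit 3, nat_lit 0]))))))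
 (.node (nat_lit 3571) (.node (nat_lit 3568) (.node (nat_lit 3567) (.leaf ((nat_lit 201), [])) (.leaf ((nat_lit 351), [nat_lit 1, nat_lit 2, nat_lit 0]))) (.node (nat_lit 3569) (.leaf ((nat_lit 401), [nat_lit 1, nat_lit 2, nat_lit 1])) (.node (nat_lit 3570) (.leaf ((nat_lit 335), [nat_lit 2, nat_lit 0])) (.leaf ((nat_lit 633), [nat_lit 3, nat_lit 0])))))
 (.node (nat_lit 3574) (.node (nat_lit 3572) (.leaf ((nat_lit 922), [nat_lit 2, nat_lit 1])) (.node (nat_lit 3573) (.leaf ((nat_lit 739), [nat_lit 0, nat_lit 2])) (.leaf ((nat_lit 201), [nat_lit 1, nat_lit 3, nat_lit 0])))) (.node (nat_lit 3575) (.leaf ((nat_lit 577), [nat_lit 2, nat_lit 0])) (.node (nat_lit 3576) (.leaf ((nat_lit 375), [nat_lit 0, nat_lit 3, nat_lit 0])) (.leaf ((nat_lit 620), [nat_lit 1])))))))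
 (.node (nat_lit 3588) (.node (nat_lit 3582) (.node (nat_lit 3579) (.node (nat_lit 3578) (.leaf ((nat_lit 426), [nat_lit 2, nat_lit 0])) (.leaf ((nat_lit 204), [nat_lit 0, nat_lit 3, nat_lit 0]))) (.node (nat_lit 3580) (.leaf ((nat_lit 466), [nat_lit 0, nat_lit 3, nat_lit 0])) (.node (nat_lit 3581) (.leaf ((nat_lit 719), [nat_lit 0, nat_lit 3])) (.leaf ((nat_lit 707), [nat_lit 0, nat_lit 2, nat_lit 0])))))
 (.node (nat_lit 3585) (.node (nat_lit 3583) (.leaf ((nat_lit 701), [nat_lit 0, nat_lit 2])) (.node (nat_lit 3584) (.leaf ((nat_lit 923), [nat_lit 1, nat_lit 3, nat_lit 1])) (.leaf ((nat_lit 618), [nat_lit 1, nat_lit 3, nat_lit 1])))) (.node (nat_lit 3586) (.leaf ((nat_lit 205), [nat_lit 1, nat_lit 2])) (.node (nat_lit 3587) (.leaf ((nat_lit 546), [])) (.leaf ((nat_lit 441), [nat_lit 0]))))))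
 (.node (nat_lit 3594) (.node (nat_lit 3591) (.node (nat_lit 3589) (.leaf ((nat_lit 540), [nat_lit 0, nat_lit 2, nat_lit 1])) (.node (nat_lit 3590) (.leaf ((nat_lit 381), [nat_lit 1, nat_lit 2, nat_lit 0])) (.leaf ((nat_lit 538), [nat_lit 3, nat_lit 1])))) (.node (nat_lit 3592) (.leaf ((nat_lit 441), [nat_lit 0, nat_lit 3])) (.node (nat_lit 3593) (.leaf ((nat_lit 206), [nat_lit 2, nat_lit 1])) (.leaf ((nat_lit 531), [nat_lit 2])))))
 (.node (nat_lit 3597) (.node (nat_lit 3595) (.leaf ((nat_lit 647), [nat_lit 0, nat_lit 2])) (.node (nat_lit 3596) (.leaf ((nat_lit 910), [])) (.leaf ((nat_lit 529), [])))) (.node (nat_lit 3598) (.leaf ((nat_lit 544), [nat_lit 1, nat_lit 3, nat_lit 0])) (.node (nat_lit 3599) (.leaf ((nat_lit 402), [])) (.leaf ((nat_lit 206), [nat_lit 3]))))))))))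
noncomputable def n1Wd_20 : Tr (ℕ × List ℕ) := (.node (nat_lit 3690) (.node (nat_lit 3645) (.node (nat_lit 3622) (.node (nat_lit 3611) (.node (nat_lit 3605) (.node (nat_lit 3602) (.node (nat_lit 3601) (.leaf ((nat_lit 771), [nat_lit 3])) (.leaf ((nat_lit 802), [nat_lit 2, nat_lit 1]))) (.node (nat_lit 3603) (.leaf ((nat_lit 716), [nat_lit 0, nat_lit 2])) (.node (nat_lit 3604) (.leaf ((nat_lit 857), [])) (.leaf ((nat_lit 683), [nat_lit 0, nat_lit 3])))))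
 (.node (nat_lit 3608) (.node (nat_lit 3606) (.leaf ((nat_lit 209), [nat_lit 1, nat_lit 2, nat_lit 1])) (.node (nat_lit 3607) (.leaf ((nat_lit 637), [nat_lit 1, nat_lit 3, nat_lit 0])) (.leaf ((nat_lit 853), [nat_lit 0])))) (.node (nat_lit 3609) (.leaf ((nat_lit 564), [nat_lit 1, nat_lit 2, nat_lit 1])) (.node (nat_lit 3610) (.leaf ((nat_lit 656), [nat_lit 1, nat_lit 3, nat_lit 0])) (.leaf ((nat_lit 515), []))))))
 (.node (nat_lit 3616) (.node (nat_lit 3613) (.node (nat_lit 3612) (.leaf ((nat_lit 210), [nat_lit 3, nat_lit 1])) (.leaf ((nat_lit 212), [nat_lit 1, nat_lit 2, nat_lit 1]))) (.node (nat_lit 3614) (.leaf ((nat_lit 269), [nat_lit 3, nat_lit 0])) (.node (nat_lit 3615) (.leaf ((nat_lit 318), [nat_lit 1, nat_lit 3])) (.leaf ((nat_lit 769), [])))))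
 (.node (nat_lit 3619) (.node (nat_lit 3617) (.leaf ((nat_lit 768), [nat_lit 0])) (.node (nat_lit 3618) (.leaf ((nat_lit 225), [nat_lit 1, nat_lit 2, nat_lit 1])) (.leaf ((nat_lit 214), [nat_lit 0, nat_lit 2, nat_lit 0])))) (.node (nat_lit 3620) (.leaf ((nat_lit 213), [nat_lit 0, nat_lit 2, nat_lit 0])) (.node (nat_lit 3621) (.leaf ((nat_lit 762), [nat_lit 1])) (.leaf ((nat_lit 287), [nat_lit 1, nat_lit 3, nat_lit 0])))))))
 (.node (nat_lit 3633) (.node (nat_lit 3627) (.node (nat_lit 3624) (.node (nat_lit 3623) (.leaf ((nat_lit 561), [nat_lit 0, nat_lit 3, nat_lit 1])) (.leaf ((nat_lit 805), [nat_lit 3]))) (.node (nat_lit 3625) (.leaf ((nat_lit 215), [nat_lit 1])) (.node (nat_lit 3626) (.leaf ((nat_lit 762), [nat_lit 1, nat_lit 2, nat_lit 0])) (.leaf ((nat_lit 213), [nat_lit 3])))))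
 (.node (nat_lit 3630) (.node (nat_lit 3628) (.leaf ((nat_lit 902), [nat_lit 1, nat_lit 3, nat_lit 1])) (.node (nat_lit 3629) (.leaf ((nat_lit 920), [nat_lit 1, nat_lit 3])) (.leaf ((nat_lit 782), [nat_lit 1, nat_lit 3, nat_lit 0])))) (.node (nat_lit 3631) (.leaf ((nat_lit 677), [nat_lit 0, nat_lit 2, nat_lit 0])) (.node (nat_lit 3632) (.leaf ((nat_lit 492), [nat_lit 1, nat_lit 3, nat_lit 1])) (.leaf ((nat_lit 228), [nat_lit 0, nat_lit 3, nat_lit 1]))))))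
 (.node (nat_lit 3639) (.node (nat_lit 3636) (.node (nat_lit 3634) (.leaf ((nat_lit 213), [nat_lit 1, nat_lit 3, nat_lit 0])) (.node (nat_lit 3635) (.leaf ((nat_lit 684), [nat_lit 0, nat_lit 2, nat_lit 0])) (.leaf ((nat_lit 348), [nat_lit 0])))) (.node (nat_lit 3637) (.leaf ((nat_lit 392), [nat_lit 2, nat_lit 0])) (.node (nat_lit 3638) (.leaf ((nat_lit 476), [nat_lit 0, nat_lit 2, nat_lit 0])) (.leaf ((nat_lit 391), [nat_lit 3])))))
 (.node (nat_lit 3642) (.node (nat_lit 3640) (.leaf ((nat_lit 684), [nat_lit 1, nat_lit 3, nat_lit 0])) (.node (nat_lit 3641) (.leaf ((nat_lit 213), [nat_lit 2])) (.leaf ((nat_lit 866), [nat_lit 3])))) (.node (nat_lit 3643) (.leaf ((nat_lit 378), [nat_lit 3, nat_lit 0])) (.node (nat_lit 3644) (.leaf ((nat_lit 225), [nat_lit 0, nat_lit 3, nat_lit 0])) (.leaf ((nat_lit 626), [nat_lit 0, nat_lit 3, nat_lit 0]))))))))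
 (.node (nat_lit 3667) (.node (nat_lit 3656) (.node (nat_lit 3650) (.node (nat_lit 3647) (.node (nat_lit 3646) (.leaf ((nat_lit 276), [nat_lit 1, nat_lit 2])) (.leaf ((nat_lit 214), [nat_lit 2]))) (.node (nat_lit 3648) (.leaf ((nat_lit 872), [nat_lit 2])) (.node (nat_lit 3649) (.leaf ((nat_lit 644), [nat_lit 1, nat_lit 2, nat_lit 1])) (.leaf ((nat_lit 532), [nat_lit 1, nat_lit 3, nat_lit 0])))))
 (.node (nat_lit 3653) (.node (nat_lit 3651) (.leaf ((nat_lit 531), [nat_lit 1, nat_lit 3])) (.node (nat_lit 3652) (.leaf ((nat_lit 532), [nat_lit 1, nat_lit 3, nat_lit 1])) (.leaf ((nat_lit 215), [nat_lit 0, nat_lit 2, nat_lit 1])))) (.node (nat_lit 3654) (.leaf ((nat_lit 916), [nat_lit 1, nat_lit 3])) (.node (nat_lit 3655) (.leaf ((nat_lit 924), [nat_lit 1])) (.leaf ((nat_lit 634), [nat_lit 3]))))))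
 (.node (nat_lit 3661) (.node (nat_lit 3658) (.node (nat_lit 3657) (.leaf ((nat_lit 652), [nat_lit 3, nat_lit 0])) (.leaf ((nat_lit 264), [nat_lit 0, nat_lit 3]))) (.node (nat_lit 3659) (.leaf ((nat_lit 263), [nat_lit 1])) (.node (nat_lit 3660) (.leaf ((nat_lit 215), [nat_lit 2, nat_lit 0])) (.leaf ((nat_lit 536), [nat_lit 1, nat_lit 3])))))
 (.node (nat_lit 3664) (.node (nat_lit 3662) (.leaf ((nat_lit 661), [nat_lit 2])) (.node (nat_lit 3663) (.leaf ((nat_lit 217), [nat_lit 3, nat_lit 1])) (.leaf ((nat_lit 723), [nat_lit 0, nat_lit 3, nat_lit 0])))) (.node (nat_lit 3665) (.leaf ((nat_lit 893), [nat_lit 2, nat_lit 0])) (.node (nat_lit 3666) (.leaf ((nat_lit 305), [nat_lit 1, nat_lit 3])) (.leaf ((nat_lit 220), [])))))))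
 (.node (nat_lit 3678) (.node (nat_lit 3672) (.node (nat_lit 3669) (.node (nat_lit 3668) (.leaf ((nat_lit 619), [nat_lit 1, nat_lit 2])) (.leaf ((nat_lit 218), [nat_lit 1]))) (.node (nat_lit 3670) (.leaf ((nat_lit 448), [nat_lit 1, nat_lit 2])) (.node (nat_lit 3671) (.leaf ((nat_lit 439), [nat_lit 1, nat_lit 2, nat_lit 1])) (.leaf ((nat_lit 385), [nat_lit 1, nat_lit 3, nat_lit 0])))))
 (.node (nat_lit 3675) (.node (nat_lit 3673) (.leaf ((nat_lit 823), [])) (.node (nat_lit 3674) (.leaf ((nat_lit 816), [])) (.leaf ((nat_lit 740), [nat_lit 3, nat_lit 0])))) (.node (nat_lit 3676) (.leaf ((nat_lit 290), [nat_lit 0, nat_lit 2])) (.node (nat_lit 3677) (.leaf ((nat_lit 713), [nat_lit 1, nat_lit 3, nat_lit 0])) (.leaf ((nat_lit 218), [nat_lit 0, nat_lit 2, nat_lit 1]))))))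
 (.node (nat_lit 3684) (.node (nat_lit 3681) (.node (nat_lit 3679) (.leaf ((nat_lit 451), [nat_lit 1, nat_lit 2, nat_lit 1])) (.node (nat_lit 3680) (.leaf ((nat_lit 224), [nat_lit 1, nat_lit 2, nat_lit 0])) (.leaf ((nat_lit 861), [nat_lit 3])))) (.node (nat_lit 3682) (.leaf ((nat_lit 219), [nat_lit 0])) (.node (nat_lit 3683) (.leaf ((nat_lit 291), [])) (.leaf ((nat_lit 919), [nat_lit 0, nat_lit 2, nat_lit 0])))))
 (.node (nat_lit 3687) (.node (nat_lit 3685) (.leaf ((nat_lit 784), [nat_lit 0, nat_lit 3, nat_lit 1])) (.node (nat_lit 3686) (.leaf ((nat_lit 390), [nat_lit 1, nat_lit 3, nat_lit 1])) (.leaf ((nat_lit 742), [nat_lit 1, nat_lit 2])))) (.node (nat_lit 3688) (.leaf ((nat_lit 703), [nat_lit 1, nat_lit 3])) (.node (nat_lit 3689) (.leaf ((nat_lit 913), [nat_lit 0, nat_lit 2, nat_lit 0])) (.leaf ((nat_lit 219), [nat_lit 0, nat_lit 2, nat_lit 1])))))))))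
 (.node (nat_lit 3735) (.node (nat_lit 3712) (.node (nat_lit 3701) (.node (nat_lit 3695) (.node (nat_lit 3692) (.node (nat_lit 3691) (.leaf ((nat_lit 842), [nat_lit 1, nat_lit 2])) (.leaf ((nat_lit 402), [nat_lit 1, nat_lit 3, nat_lit 0]))) (.node (nat_lit 3693) (.leaf ((nat_lit 221), [nat_lit 3, nat_lit 1])) (.node (nat_lit 3694) (.leaf ((nat_lit 714), [nat_lit 3, nat_lit 0])) (.leaf ((nat_lit 818), [nat_lit 0, nat_lit 2, nat_lit 0])))))
 (.node (nat_lit 3698) (.node (nat_lit 3696) (.leaf ((nat_lit 864), [nat_lit 1, nat_lit 2, nat_lit 1])) (.node (nat_lit 3697) (.leaf ((nat_lit 568), [nat_lit 1])) (.leaf ((nat_lit 625), [nat_lit 3, nat_lit 1])))) (.node (nat_lit 3699) (.leaf ((nat_lit 566), [nat_lit 3])) (.node (nat_lit 3700) (.leaf ((nat_lit 481), [])) (.leaf ((nat_lit 221), [nat_lit 0, nat_lit 2]))))))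
 (.node (nat_lit 3706) (.node (nat_lit 3703) (.node (nat_lit 3702) (.leaf ((nat_lit 768), [nat_lit 2, nat_lit 0])) (.leaf ((nat_lit 446), [nat_lit 2]))) (.node (nat_lit 3704) (.leaf ((nat_lit 861), [nat_lit 0, nat_lit 3, nat_lit 1])) (.node (nat_lit 3705) (.leaf ((nat_lit 224), [nat_lit 0, nat_lit 2, nat_lit 1])) (.leaf ((nat_lit 421), [nat_lit 1, nat_lit 3])))))
 (.node (nat_lit 3709) (.node (nat_lit 3707) (.leaf ((nat_lit 222), [nat_lit 1, nat_lit 3])) (.node (nat_lit 3708) (.leaf ((nat_lit 379), [])) (.leaf ((nat_lit 832), [nat_lit 1, nat_lit 3])))) (.node (nat_lit 3710) (.leaf ((nat_lit 831), [nat_lit 0, nat_lit 2, nat_lit 0])) (.node (nat_lit 3711) (.leaf ((nat_lit 597), [nat_lit 0, nat_lit 2, nat_lit 0])) (.leaf ((nat_lit 225), [nat_lit 3, nat_lit 0])))))))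
 (.node (nat_lit 3723) (.node (nat_lit 3717) (.node (nat_lit 3714) (.node (nat_lit 3713) (.leaf ((nat_lit 224), [nat_lit 0, nat_lit 3, nat_lit 1])) (.leaf ((nat_lit 467), [nat_lit 0, nat_lit 2, nat_lit 1]))) (.node (nat_lit 3715) (.leaf ((nat_lit 412), [nat_lit 3, nat_lit 0])) (.node (nat_lit 3716) (.leaf ((nat_lit 611), [nat_lit 3, nat_lit 0])) (.leaf ((nat_lit 427), [nat_lit 3, nat_lit 0])))))
 (.node (nat_lit 3720) (.node (nat_lit 3718) (.leaf ((nat_lit 519), [nat_lit 1, nat_lit 2])) (.node (nat_lit 3719) (.leaf ((nat_lit 226), [nat_lit 0, nat_lit 3, nat_lit 0])) (.leaf ((nat_lit 486), [nat_lit 0, nat_lit 3, nat_lit 1])))) (.node (nat_lit 3721) (.leaf ((nat_lit 596), [nat_lit 0])) (.node (nat_lit 3722) (.leaf ((nat_lit 468), [nat_lit 0, nat_lit 3])) (.leaf ((nat_lit 467), [nat_lit 0, nat_lit 3, nat_lit 1]))))))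
 (.node (nat_lit 3729) (.node (nat_lit 3726) (.node (nat_lit 3724) (.leaf ((nat_lit 229), [nat_lit 0])) (.node (nat_lit 3725) (.leaf ((nat_lit 228), [nat_lit 3])) (.leaf ((nat_lit 299), [nat_lit 1, nat_lit 2, nat_lit 1])))) (.node (nat_lit 3727) (.leaf ((nat_lit 295), [])) (.node (nat_lit 3728) (.leaf ((nat_lit 294), [nat_lit 1, nat_lit 3, nat_lit 0])) (.leaf ((nat_lit 301), [nat_lit 0])))))
 (.node (nat_lit 3732) (.node (nat_lit 3730) (.leaf ((nat_lit 829), [nat_lit 1, nat_lit 3, nat_lit 0])) (.node (nat_lit 3731) (.leaf ((nat_lit 812), [nat_lit 0])) (.leaf ((nat_lit 228), [nat_lit 1, nat_lit 3, nat_lit 1])))) (.node (nat_lit 3733) (.leaf ((nat_lit 230), [nat_lit 0])) (.node (nat_lit 3734) (.leaf ((nat_lit 298), [nat_lit 1, nat_lit 2])) (.leaf ((nat_lit 687), [nat_lit 2, nat_lit 1]))))))))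
 (.node (nat_lit 3757) (.node (nat_lit 3746) (.node (nat_lit 3740) (.node (nat_lit 3737) (.node (nat_lit 3736) (.leaf ((nat_lit 317), [nat_lit 0, nat_lit 3])) (.leaf ((nat_lit 528), [nat_lit 0, nat_lit 3]))) (.node (nat_lit 3738) (.leaf ((nat_lit 925), [nat_lit 0, nat_lit 3, nat_lit 0])) (.node (nat_lit 3739) (.leaf ((nat_lit 298), [nat_lit 0])) (.leaf ((nat_lit 230), [nat_lit 0, nat_lit 3, nat_lit 1])))))
 (.node (nat_lit 3743) (.node (nat_lit 3741) (.leaf ((nat_lit 475), [nat_lit 0, nat_lit 3])) (.node (nat_lit 3742) (.leaf ((nat_lit 642), [nat_lit 0, nat_lit 2, nat_lit 1])) (.leaf ((nat_lit 906), [nat_lit 0, nat_lit 2, nat_lit 1])))) (.node (nat_lit 3744) (.leaf ((nat_lit 926), [nat_lit 0, nat_lit 3, nat_lit 1])) (.node (nat_lit 3745) (.leaf ((nat_lit 687), [nat_lit 0, nat_lit 2])) (.leaf ((nat_lit 475), [nat_lit 1, nat_lit 2, nat_lit 0]))))))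
 (.node (nat_lit 3751) (.node (nat_lit 3748) (.node (nat_lit 3747) (.leaf ((nat_lit 230), [nat_lit 3, nat_lit 0])) (.leaf ((nat_lit 876), [nat_lit 3, nat_lit 0]))) (.node (nat_lit 3749) (.leaf ((nat_lit 334), [nat_lit 1, nat_lit 2, nat_lit 1])) (.node (nat_lit 3750) (.leaf ((nat_lit 865), [nat_lit 0, nat_lit 3, nat_lit 1])) (.leaf ((nat_lit 864), [nat_lit 0, nat_lit 2])))))
 (.node (nat_lit 3754) (.node (nat_lit 3752) (.leaf ((nat_lit 616), [nat_lit 0, nat_lit 2])) (.node (nat_lit 3753) (.leaf ((nat_lit 825), [nat_lit 0, nat_lit 3, nat_lit 1])) (.leaf ((nat_lit 286), [nat_lit 3, nat_lit 0])))) (.node (nat_lit 3755) (.leaf ((nat_lit 285), [nat_lit 3, nat_lit 0])) (.node (nat_lit 3756) (.leaf ((nat_lit 232), [nat_lit 0, nat_lit 2])) (.leaf ((nat_lit 817), [])))))))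
 (.node (nat_lit 3768) (.node (nat_lit 3762) (.node (nat_lit 3759) (.node (nat_lit 3758) (.leaf ((nat_lit 233), [nat_lit 1, nat_lit 3, nat_lit 0])) (.leaf ((nat_lit 607), [nat_lit 1, nat_lit 2, nat_lit 1]))) (.node (nat_lit 3760) (.leaf ((nat_lit 278), [nat_lit 1, nat_lit 3, nat_lit 0])) (.node (nat_lit 3761) (.leaf ((nat_lit 277), [nat_lit 2, nat_lit 0])) (.leaf ((nat_lit 824), [nat_lit 0, nat_lit 3, nat_lit 1])))))
 (.node (nat_lit 3765) (.node (nat_lit 3763) (.leaf ((nat_lit 899), [nat_lit 2, nat_lit 0])) (.node (nat_lit 3764) (.leaf ((nat_lit 881), [nat_lit 1, nat_lit 2])) (.leaf ((nat_lit 414), [nat_lit 0, nat_lit 2])))) (.node (nat_lit 3766) (.leaf ((nat_lit 689), [nat_lit 1, nat_lit 2, nat_lit 0])) (.node (nat_lit 3767) (.leaf ((nat_lit 567), [nat_lit 0, nat_lit 3])) (.leaf ((nat_lit 235), [nat_lit 2, nat_lit 0]))))))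
 (.node (nat_lit 3774) (.node (nat_lit 3771) (.node (nat_lit 3769) (.leaf ((nat_lit 890), [])) (.node (nat_lit 3770) (.leaf ((nat_lit 253), [])) (.leaf ((nat_lit 252), [nat_lit 1, nat_lit 2, nat_lit 0])))) (.node (nat_lit 3772) (.leaf ((nat_lit 901), [nat_lit 1, nat_lit 2, nat_lit 0])) (.node (nat_lit 3773) (.leaf ((nat_lit 645), [nat_lit 1, nat_lit 3])) (.leaf ((nat_lit 237), [nat_lit 1, nat_lit 3, nat_lit 1])))))
 (.node (nat_lit 3777) (.node (nat_lit 3775) (.leaf ((nat_lit 239), [nat_lit 0, nat_lit 2, nat_lit 1])) (.node (nat_lit 3776) (.leaf ((nat_lit 247), [nat_lit 0, nat_lit 2, nat_lit 0])) (.leaf ((nat_lit 631), [nat_lit 3, nat_lit 1])))) (.node (nat_lit 3778) (.leaf ((nat_lit 877), [nat_lit 3])) (.node (nat_lit 3779) (.leaf ((nat_lit 916), [nat_lit 0, nat_lit 2, nat_lit 0])) (.leaf ((nat_lit 910), [nat_lit 2, nat_lit 1]))))))))))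
noncomputable def n1Wd_21 : Tr (ℕ × List ℕ) := (.node (nat_lit 3870) (.node (nat_lit 3825) (.node (nat_lit 3802) (.node (nat_lit 3791) (.node (nat_lit 3785) (.node (nat_lit 3782) (.node (nat_lit 3781) (.leaf ((nat_lit 631), [nat_lit 1, nat_lit 2])) (.leaf ((nat_lit 254), [nat_lit 1, nat_lit 3, nat_lit 0]))) (.node (nat_lit 3783) (.leaf ((nat_lit 239), [nat_lit 2, nat_lit 1])) (.node (nat_lit 3784) (.leaf ((nat_lit 700), [])) (.leaf ((nat_lit 905), [nat_lit 3, nat_lit 1])))))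
 (.node (nat_lit 3788) (.node (nat_lit 3786) (.leaf ((nat_lit 821), [nat_lit 0, nat_lit 3, nat_lit 0])) (.node (nat_lit 3787) (.leaf ((nat_lit 630), [nat_lit 3, nat_lit 0])) (.leaf ((nat_lit 642), [nat_lit 1, nat_lit 3, nat_lit 1])))) (.node (nat_lit 3789) (.leaf ((nat_lit 629), [nat_lit 0, nat_lit 2])) (.node (nat_lit 3790) (.leaf ((nat_lit 849), [nat_lit 2])) (.leaf ((nat_lit 239), [nat_lit 2]))))))
 (.node (nat_lit 3796) (.node (nat_lit 3793) (.node (nat_lit 3792) (.leaf ((nat_lit 461), [nat_lit 2, nat_lit 1])) (.leaf ((nat_lit 927), [nat_lit 0, nat_lit 3]))) (.node (nat_lit 3794) (.leaf ((nat_lit 258), [nat_lit 0, nat_lit 2, nat_lit 1])) (.node (nat_lit 3795) (.leaf ((nat_lit 636), [nat_lit 0, nat_lit 3])) (.leaf ((nat_lit 634), [nat_lit 1, nat_lit 3])))))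
 (.node (nat_lit 3799) (.node (nat_lit 3797) (.leaf ((nat_lit 240), [nat_lit 0, nat_lit 2, nat_lit 1])) (.node (nat_lit 3798) (.leaf ((nat_lit 750), [nat_lit 2, nat_lit 0])) (.leaf ((nat_lit 595), [nat_lit 1, nat_lit 2])))) (.node (nat_lit 3800) (.leaf ((nat_lit 844), [nat_lit 2, nat_lit 1])) (.node (nat_lit 3801) (.leaf ((nat_lit 789), [nat_lit 1, nat_lit 2])) (.leaf ((nat_lit 897), [nat_lit 0])))))))
 (.node (nat_lit 3813) (.node (nat_lit 3807) (.node (nat_lit 3804) (.node (nat_lit 3803) (.leaf ((nat_lit 822), [nat_lit 0, nat_lit 2, nat_lit 1])) (.leaf ((nat_lit 240), [nat_lit 0, nat_lit 2, nat_lit 0]))) (.node (nat_lit 3805) (.leaf ((nat_lit 928), [nat_lit 1, nat_lit 2, nat_lit 0])) (.node (nat_lit 3806) (.leaf ((nat_lit 609), [nat_lit 2])) (.leaf ((nat_lit 264), [nat_lit 2, nat_lit 1])))))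
 (.node (nat_lit 3810) (.node (nat_lit 3808) (.leaf ((nat_lit 632), [nat_lit 2, nat_lit 0])) (.node (nat_lit 3809) (.leaf ((nat_lit 241), [nat_lit 2, nat_lit 0])) (.leaf ((nat_lit 759), [nat_lit 3])))) (.node (nat_lit 3811) (.leaf ((nat_lit 758), [nat_lit 0, nat_lit 2])) (.node (nat_lit 3812) (.leaf ((nat_lit 824), [nat_lit 1, nat_lit 2, nat_lit 0])) (.leaf ((nat_lit 756), [nat_lit 1, nat_lit 2, nat_lit 0]))))))
 (.node (nat_lit 3819) (.node (nat_lit 3816) (.node (nat_lit 3814) (.leaf ((nat_lit 929), [nat_lit 3, nat_lit 1])) (.node (nat_lit 3815) (.leaf ((nat_lit 821), [nat_lit 1, nat_lit 2, nat_lit 0])) (.leaf ((nat_lit 241), [nat_lit 3, nat_lit 0])))) (.node (nat_lit 3817) (.leaf ((nat_lit 930), [nat_lit 3, nat_lit 0])) (.node (nat_lit 3818) (.leaf ((nat_lit 261), [])) (.leaf ((nat_lit 632), [nat_lit 2, nat_lit 1])))))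
 (.node (nat_lit 3822) (.node (nat_lit 3820) (.leaf ((nat_lit 261), [nat_lit 3, nat_lit 1])) (.node (nat_lit 3821) (.leaf ((nat_lit 242), [nat_lit 0, nat_lit 2, nat_lit 1])) (.leaf ((nat_lit 342), [nat_lit 0])))) (.node (nat_lit 3823) (.leaf ((nat_lit 601), [nat_lit 1, nat_lit 2, nat_lit 0])) (.node (nat_lit 3824) (.leaf ((nat_lit 872), [nat_lit 0])) (.leaf ((nat_lit 745), [nat_lit 0]))))))))
 (.node (nat_lit 3847) (.node (nat_lit 3836) (.node (nat_lit 3830) (.node (nat_lit 3827) (.node (nat_lit 3826) (.leaf ((nat_lit 931), [])) (.leaf ((nat_lit 887), [nat_lit 0, nat_lit 3]))) (.node (nat_lit 3828) (.leaf ((nat_lit 242), [])) (.node (nat_lit 3829) (.leaf ((nat_lit 243), [])) (.leaf ((nat_lit 394), [nat_lit 1, nat_lit 2, nat_lit 0])))))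
 (.node (nat_lit 3833) (.node (nat_lit 3831) (.leaf ((nat_lit 650), [nat_lit 0, nat_lit 2, nat_lit 0])) (.node (nat_lit 3832) (.leaf ((nat_lit 394), [nat_lit 3, nat_lit 0])) (.leaf ((nat_lit 560), [nat_lit 1, nat_lit 3, nat_lit 0])))) (.node (nat_lit 3834) (.leaf ((nat_lit 553), [nat_lit 0, nat_lit 3, nat_lit 0])) (.node (nat_lit 3835) (.leaf ((nat_lit 650), [nat_lit 1, nat_lit 2])) (.leaf ((nat_lit 395), [nat_lit 0, nat_lit 2, nat_lit 0]))))))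
 (.node (nat_lit 3841) (.node (nat_lit 3838) (.node (nat_lit 3837) (.leaf ((nat_lit 243), [nat_lit 3, nat_lit 0])) (.leaf ((nat_lit 669), [nat_lit 1, nat_lit 2]))) (.node (nat_lit 3839) (.leaf ((nat_lit 393), [nat_lit 1, nat_lit 2])) (.node (nat_lit 3840) (.leaf ((nat_lit 850), [nat_lit 2, nat_lit 1])) (.leaf ((nat_lit 268), [nat_lit 2])))))
 (.node (nat_lit 3844) (.node (nat_lit 3842) (.leaf ((nat_lit 659), [nat_lit 0, nat_lit 3])) (.node (nat_lit 3843) (.leaf ((nat_lit 266), [nat_lit 1, nat_lit 2, nat_lit 1])) (.leaf ((nat_lit 244), [])))) (.node (nat_lit 3845) (.leaf ((nat_lit 243), [nat_lit 0])) (.node (nat_lit 3846) (.leaf ((nat_lit 583), [nat_lit 1, nat_lit 3, nat_lit 0])) (.leaf ((nat_lit 533), [nat_lit 0, nat_lit 2])))))))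
 (.node (nat_lit 3858) (.node (nat_lit 3852) (.node (nat_lit 3849) (.node (nat_lit 3848) (.leaf ((nat_lit 245), [nat_lit 1, nat_lit 3])) (.leaf ((nat_lit 558), [nat_lit 0, nat_lit 3]))) (.node (nat_lit 3850) (.leaf ((nat_lit 525), [nat_lit 0, nat_lit 2, nat_lit 0])) (.node (nat_lit 3851) (.leaf ((nat_lit 583), [nat_lit 1])) (.leaf ((nat_lit 523), [nat_lit 1, nat_lit 2, nat_lit 1])))))
 (.node (nat_lit 3855) (.node (nat_lit 3853) (.leaf ((nat_lit 254), [nat_lit 1])) (.node (nat_lit 3854) (.leaf ((nat_lit 631), [nat_lit 0, nat_lit 2, nat_lit 0])) (.leaf ((nat_lit 247), [nat_lit 1, nat_lit 2, nat_lit 1])))) (.node (nat_lit 3856) (.leaf ((nat_lit 623), [nat_lit 0, nat_lit 3, nat_lit 1])) (.node (nat_lit 3857) (.leaf ((nat_lit 914), [nat_lit 0, nat_lit 3, nat_lit 1])) (.leaf ((nat_lit 822), [nat_lit 1, nat_lit 3, nat_lit 1]))))))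
 (.node (nat_lit 3864) (.node (nat_lit 3861) (.node (nat_lit 3859) (.leaf ((nat_lit 252), [])) (.node (nat_lit 3860) (.leaf ((nat_lit 251), [nat_lit 0, nat_lit 3])) (.leaf ((nat_lit 890), [nat_lit 1, nat_lit 3, nat_lit 0])))) (.node (nat_lit 3862) (.leaf ((nat_lit 387), [nat_lit 1, nat_lit 2])) (.node (nat_lit 3863) (.leaf ((nat_lit 247), [nat_lit 0, nat_lit 2, nat_lit 1])) (.leaf ((nat_lit 754), [nat_lit 1, nat_lit 3])))))
 (.node (nat_lit 3867) (.node (nat_lit 3865) (.leaf ((nat_lit 608), [nat_lit 0, nat_lit 3, nat_lit 0])) (.node (nat_lit 3866) (.leaf ((nat_lit 556), [nat_lit 0, nat_lit 2])) (.leaf ((nat_lit 248), [nat_lit 3])))) (.node (nat_lit 3868) (.leaf ((nat_lit 904), [nat_lit 1])) (.node (nat_lit 3869) (.leaf ((nat_lit 661), [nat_lit 1, nat_lit 3])) (.leaf ((nat_lit 648), [nat_lit 0, nat_lit 3])))))))))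
 (.node (nat_lit 3915) (.node (nat_lit 3892) (.node (nat_lit 3881) (.node (nat_lit 3875) (.node (nat_lit 3872) (.node (nat_lit 3871) (.leaf ((nat_lit 253), [nat_lit 3, nat_lit 0])) (.leaf ((nat_lit 890), [nat_lit 3, nat_lit 0]))) (.node (nat_lit 3873) (.leaf ((nat_lit 251), [nat_lit 0])) (.node (nat_lit 3874) (.leaf ((nat_lit 842), [nat_lit 3])) (.leaf ((nat_lit 628), [nat_lit 2, nat_lit 0])))))
 (.node (nat_lit 3878) (.node (nat_lit 3876) (.leaf ((nat_lit 558), [nat_lit 1, nat_lit 2, nat_lit 1])) (.node (nat_lit 3877) (.leaf ((nat_lit 932), [nat_lit 3, nat_lit 1])) (.leaf ((nat_lit 905), [nat_lit 0, nat_lit 3, nat_lit 0])))) (.node (nat_lit 3879) (.leaf ((nat_lit 557), [nat_lit 0, nat_lit 2, nat_lit 0])) (.node (nat_lit 3880) (.leaf ((nat_lit 879), [nat_lit 1, nat_lit 3, nat_lit 1])) (.leaf ((nat_lit 252), [nat_lit 1, nat_lit 3, nat_lit 0]))))))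
 (.node (nat_lit 3886) (.node (nat_lit 3883) (.node (nat_lit 3882) (.leaf ((nat_lit 556), [nat_lit 1, nat_lit 2])) (.leaf ((nat_lit 599), [nat_lit 3, nat_lit 1]))) (.node (nat_lit 3884) (.leaf ((nat_lit 544), [nat_lit 2, nat_lit 0])) (.node (nat_lit 3885) (.leaf ((nat_lit 649), [nat_lit 0, nat_lit 3, nat_lit 0])) (.leaf ((nat_lit 736), [nat_lit 0, nat_lit 3, nat_lit 0])))))
 (.node (nat_lit 3889) (.node (nat_lit 3887) (.leaf ((nat_lit 265), [nat_lit 2, nat_lit 0])) (.node (nat_lit 3888) (.leaf ((nat_lit 252), [nat_lit 0, nat_lit 2, nat_lit 0])) (.leaf ((nat_lit 933), [nat_lit 1])))) (.node (nat_lit 3890) (.leaf ((nat_lit 934), [nat_lit 1, nat_lit 2])) (.node (nat_lit 3891) (.leaf ((nat_lit 886), [nat_lit 0, nat_lit 3, nat_lit 0])) (.leaf ((nat_lit 537), [])))))))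
 (.node (nat_lit 3903) (.node (nat_lit 3897) (.node (nat_lit 3894) (.node (nat_lit 3893) (.leaf ((nat_lit 253), [nat_lit 2])) (.leaf ((nat_lit 644), [nat_lit 2, nat_lit 1]))) (.node (nat_lit 3895) (.leaf ((nat_lit 529), [nat_lit 0, nat_lit 3])) (.node (nat_lit 3896) (.leaf ((nat_lit 552), [nat_lit 0, nat_lit 2, nat_lit 1])) (.leaf ((nat_lit 647), [nat_lit 1, nat_lit 2, nat_lit 1])))))
 (.node (nat_lit 3900) (.node (nat_lit 3898) (.leaf ((nat_lit 883), [nat_lit 1, nat_lit 3, nat_lit 1])) (.node (nat_lit 3899) (.leaf ((nat_lit 262), [nat_lit 1, nat_lit 3, nat_lit 1])) (.leaf ((nat_lit 253), [nat_lit 1, nat_lit 3, nat_lit 0])))) (.node (nat_lit 3901) (.leaf ((nat_lit 639), [nat_lit 3, nat_lit 0])) (.node (nat_lit 3902) (.leaf ((nat_lit 397), [nat_lit 0])) (.leaf ((nat_lit 638), [nat_lit 1, nat_lit 3, nat_lit 1]))))))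
 (.node (nat_lit 3909) (.node (nat_lit 3906) (.node (nat_lit 3904) (.leaf ((nat_lit 256), [nat_lit 1, nat_lit 2])) (.node (nat_lit 3905) (.leaf ((nat_lit 659), [nat_lit 1, nat_lit 2])) (.leaf ((nat_lit 755), [nat_lit 0, nat_lit 2, nat_lit 0])))) (.node (nat_lit 3907) (.leaf ((nat_lit 719), [nat_lit 0, nat_lit 2, nat_lit 0])) (.node (nat_lit 3908) (.leaf ((nat_lit 422), [nat_lit 3, nat_lit 1])) (.leaf ((nat_lit 361), [nat_lit 1, nat_lit 3, nat_lit 0])))))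
 (.node (nat_lit 3912) (.node (nat_lit 3910) (.leaf ((nat_lit 442), [nat_lit 3, nat_lit 0])) (.node (nat_lit 3911) (.leaf ((nat_lit 558), [nat_lit 0, nat_lit 2, nat_lit 0])) (.leaf ((nat_lit 256), [nat_lit 1, nat_lit 2])))) (.node (nat_lit 3913) (.leaf ((nat_lit 885), [nat_lit 1, nat_lit 2])) (.node (nat_lit 3914) (.leaf ((nat_lit 264), [nat_lit 1, nat_lit 3, nat_lit 0])) (.leaf ((nat_lit 609), [nat_lit 1, nat_lit 2]))))))))
 (.node (nat_lit 3937) (.node (nat_lit 3926) (.node (nat_lit 3920) (.node (nat_lit 3917) (.node (nat_lit 3916) (.leaf ((nat_lit 258), [nat_lit 0])) (.leaf ((nat_lit 257), [nat_lit 0, nat_lit 3, nat_lit 1]))) (.node (nat_lit 3918) (.leaf ((nat_lit 360), [nat_lit 3])) (.node (nat_lit 3919) (.leaf ((nat_lit 356), [nat_lit 2])) (.leaf ((nat_lit 846), [nat_lit 0, nat_lit 2])))))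
 (.node (nat_lit 3923) (.node (nat_lit 3921) (.leaf ((nat_lit 354), [])) (.node (nat_lit 3922) (.leaf ((nat_lit 935), [nat_lit 3])) (.leaf ((nat_lit 551), [nat_lit 0, nat_lit 2, nat_lit 1])))) (.node (nat_lit 3924) (.leaf ((nat_lit 257), [nat_lit 0, nat_lit 2, nat_lit 0])) (.node (nat_lit 3925) (.leaf ((nat_lit 258), [nat_lit 0])) (.leaf ((nat_lit 927), [nat_lit 3, nat_lit 0]))))))
 (.node (nat_lit 3931) (.node (nat_lit 3928) (.node (nat_lit 3927) (.leaf ((nat_lit 660), [nat_lit 1, nat_lit 2, nat_lit 0])) (.leaf ((nat_lit 925), [nat_lit 1, nat_lit 2, nat_lit 0]))) (.node (nat_lit 3929) (.leaf ((nat_lit 924), [nat_lit 3, nat_lit 0])) (.node (nat_lit 3930) (.leaf ((nat_lit 929), [nat_lit 0, nat_lit 3])) (.leaf ((nat_lit 368), [nat_lit 3, nat_lit 1])))))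
 (.node (nat_lit 3934) (.node (nat_lit 3932) (.leaf ((nat_lit 858), [nat_lit 1, nat_lit 2, nat_lit 0])) (.node (nat_lit 3933) (.leaf ((nat_lit 458), [nat_lit 0, nat_lit 2, nat_lit 1])) (.leaf ((nat_lit 661), [nat_lit 0, nat_lit 2, nat_lit 1])))) (.node (nat_lit 3935) (.leaf ((nat_lit 904), [nat_lit 0, nat_lit 2])) (.node (nat_lit 3936) (.leaf ((nat_lit 258), [nat_lit 2, nat_lit 1])) (.leaf ((nat_lit 259), [nat_lit 2, nat_lit 0])))))))
 (.node (nat_lit 3948) (.node (nat_lit 3942) (.node (nat_lit 3939) (.node (nat_lit 3938) (.leaf ((nat_lit 709), [nat_lit 1, nat_lit 3])) (.leaf ((nat_lit 351), [nat_lit 1, nat_lit 2]))) (.node (nat_lit 3940) (.leaf ((nat_lit 601), [nat_lit 1, nat_lit 2, nat_lit 0])) (.node (nat_lit 3941) (.leaf ((nat_lit 900), [nat_lit 0, nat_lit 2, nat_lit 0])) (.leaf ((nat_lit 856), [nat_lit 1, nat_lit 3, nat_lit 0])))))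
 (.node (nat_lit 3945) (.node (nat_lit 3943) (.leaf ((nat_lit 351), [nat_lit 3, nat_lit 1])) (.node (nat_lit 3944) (.leaf ((nat_lit 834), [nat_lit 0, nat_lit 2, nat_lit 0])) (.leaf ((nat_lit 259), [])))) (.node (nat_lit 3946) (.leaf ((nat_lit 753), [nat_lit 3, nat_lit 1])) (.node (nat_lit 3947) (.leaf ((nat_lit 756), [])) (.leaf ((nat_lit 690), [nat_lit 0, nat_lit 2, nat_lit 0]))))))
 (.node (nat_lit 3954) (.node (nat_lit 3951) (.node (nat_lit 3949) (.leaf ((nat_lit 370), [nat_lit 0, nat_lit 2, nat_lit 1])) (.node (nat_lit 3950) (.leaf ((nat_lit 936), [nat_lit 1])) (.leaf ((nat_lit 722), [nat_lit 0, nat_lit 2, nat_lit 1])))) (.node (nat_lit 3952) (.leaf ((nat_lit 259), [nat_lit 1, nat_lit 2, nat_lit 1])) (.node (nat_lit 3953) (.leaf ((nat_lit 903), [nat_lit 3])) (.leaf ((nat_lit 930), [nat_lit 0, nat_lit 3])))))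
 (.node (nat_lit 3957) (.node (nat_lit 3955) (.leaf ((nat_lit 670), [nat_lit 2])) (.node (nat_lit 3956) (.leaf ((nat_lit 640), [nat_lit 2, nat_lit 1])) (.leaf ((nat_lit 669), [nat_lit 1, nat_lit 3])))) (.node (nat_lit 3958) (.leaf ((nat_lit 260), [nat_lit 0, nat_lit 2, nat_lit 1])) (.node (nat_lit 3959) (.leaf ((nat_lit 650), [nat_lit 3, nat_lit 0])) (.leaf ((nat_lit 588), [nat_lit 0, nat_lit 3, nat_lit 0]))))))))))
noncomputable def n1Wd_22 : Tr (ℕ × List ℕ) := (.node (nat_lit 4050) (.node (nat_lit 4005) (.node (nat_lit 3982) (.node (nat_lit 3971) (.node (nat_lit 3965) (.node (nat_lit 3962) (.node (nat_lit 3961) (.leaf ((nat_lit 261), [nat_lit 2, nat_lit 0])) (.leaf ((nat_lit 930), [nat_lit 0, nat_lit 3, nat_lit 1]))) (.node (nat_lit 3963) (.leaf ((nat_lit 654), [nat_lit 1, nat_lit 3, nat_lit 0])) (.node (nat_lit 3964) (.leaf ((nat_lit 309), [nat_lit 0, nat_lit 3, nat_lit 0]))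 (.leaf ((nat_lit 928), [nat_lit 2, nat_lit 0])))))
 (.node (nat_lit 3968) (.node (nat_lit 3966) (.leaf ((nat_lit 895), [nat_lit 3, nat_lit 1])) (.node (nat_lit 3967) (.leaf ((nat_lit 773), [nat_lit 0, nat_lit 2, nat_lit 0])) (.leaf ((nat_lit 610), [nat_lit 3])))) (.node (nat_lit 3969) (.leaf ((nat_lit 435), [nat_lit 0])) (.node (nat_lit 3970) (.leaf ((nat_lit 655), [nat_lit 0, nat_lit 3, nat_lit 1])) (.leaf ((nat_lit 644), [nat_lit 2, nat_lit 0]))))))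
 (.node (nat_lit 3976) (.node (nat_lit 3973) (.node (nat_lit 3972) (.leaf ((nat_lit 261), [nat_lit 1])) (.leaf ((nat_lit 761), [nat_lit 0, nat_lit 3, nat_lit 1]))) (.node (nat_lit 3974) (.leaf ((nat_lit 937), [nat_lit 1, nat_lit 2, nat_lit 0])) (.node (nat_lit 3975) (.leaf ((nat_lit 938), [nat_lit 0, nat_lit 3])) (.leaf ((nat_lit 262), [nat_lit 1, nat_lit 3, nat_lit 1])))))
 (.node (nat_lit 3979) (.node (nat_lit 3977) (.leaf ((nat_lit 883), [nat_lit 1, nat_lit 3, nat_lit 1])) (.node (nat_lit 3978) (.leaf ((nat_lit 927), [nat_lit 0, nat_lit 3])) (.leaf ((nat_lit 796), [nat_lit 2, nat_lit 0])))) (.node (nat_lit 3980) (.leaf ((nat_lit 818), [nat_lit 0, nat_lit 2, nat_lit 1])) (.node (nat_lit 3981) (.leaf ((nat_lit 794), [nat_lit 2, nat_lit 0])) (.leaf ((nat_lit 895), [nat_lit 0, nat_lit 2, nat_lit 0])))))))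
 (.node (nat_lit 3993) (.node (nat_lit 3987) (.node (nat_lit 3984) (.node (nat_lit 3983) (.leaf ((nat_lit 910), [nat_lit 1, nat_lit 3, nat_lit 1])) (.leaf ((nat_lit 263), [nat_lit 0, nat_lit 3]))) (.node (nat_lit 3985) (.leaf ((nat_lit 264), [nat_lit 1])) (.node (nat_lit 3986) (.leaf ((nat_lit 885), [nat_lit 0, nat_lit 2, nat_lit 0])) (.leaf ((nat_lit 928), [nat_lit 3, nat_lit 0])))))
 (.node (nat_lit 3990) (.node (nat_lit 3988) (.leaf ((nat_lit 735), [nat_lit 0, nat_lit 3, nat_lit 0])) (.node (nat_lit 3989) (.leaf ((nat_lit 885), [nat_lit 0, nat_lit 3, nat_lit 0])) (.leaf ((nat_lit 668), [nat_lit 2, nat_lit 0])))) (.node (nat_lit 3991) (.leaf ((nat_lit 340), [nat_lit 1, nat_lit 3])) (.node (nat_lit 3992) (.leaf ((nat_lit 893), [nat_lit 1])) (.leaf ((nat_lit 338), [nat_lit 0, nat_lit 3]))))))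
 (.node (nat_lit 3999) (.node (nat_lit 3996) (.node (nat_lit 3994) (.leaf ((nat_lit 360), [nat_lit 1, nat_lit 3, nat_lit 0])) (.node (nat_lit 3995) (.leaf ((nat_lit 556), [nat_lit 1, nat_lit 2, nat_lit 1])) (.leaf ((nat_lit 264), [nat_lit 2, nat_lit 1])))) (.node (nat_lit 3997) (.leaf ((nat_lit 265), [nat_lit 1, nat_lit 2, nat_lit 0])) (.node (nat_lit 3998) (.leaf ((nat_lit 859), [nat_lit 1, nat_lit 3, nat_lit 0])) (.leaf ((nat_lit 337), [nat_lit 1, nat_lit 3])))))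
 (.node (nat_lit 4002) (.node (nat_lit 4000) (.leaf ((nat_lit 796), [nat_lit 0, nat_lit 3])) (.node (nat_lit 4001) (.leaf ((nat_lit 819), [nat_lit 0, nat_lit 2])) (.leaf ((nat_lit 923), [nat_lit 0])))) (.node (nat_lit 4003) (.leaf ((nat_lit 337), [nat_lit 0, nat_lit 3, nat_lit 0])) (.node (nat_lit 4004) (.leaf ((nat_lit 860), [nat_lit 0, nat_lit 3, nat_lit 1])) (.leaf ((nat_lit 265), [nat_lit 3, nat_lit 1]))))))))
 (.node (nat_lit 4027) (.node (nat_lit 4016) (.node (nat_lit 4010) (.node (nat_lit 4007) (.node (nat_lit 4006) (.leaf ((nat_lit 764), [nat_lit 1, nat_lit 3])) (.leaf ((nat_lit 306), [nat_lit 1, nat_lit 2, nat_lit 1]))) (.node (nat_lit 4008) (.leaf ((nat_lit 296), [nat_lit 2])) (.node (nat_lit 4009) (.leaf ((nat_lit 346), [nat_lit 1, nat_lit 2, nat_lit 1])) (.leaf ((nat_lit 908), [nat_lit 3])))))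
 (.node (nat_lit 4013) (.node (nat_lit 4011) (.leaf ((nat_lit 344), [nat_lit 1, nat_lit 2])) (.node (nat_lit 4012) (.leaf ((nat_lit 265), [nat_lit 3, nat_lit 1])) (.leaf ((nat_lit 736), [])))) (.node (nat_lit 4014) (.leaf ((nat_lit 664), [nat_lit 1, nat_lit 3])) (.node (nat_lit 4015) (.leaf ((nat_lit 267), [nat_lit 2])) (.leaf ((nat_lit 266), [nat_lit 0, nat_lit 3, nat_lit 0]))))))
 (.node (nat_lit 4021) (.node (nat_lit 4018) (.node (nat_lit 4017) (.leaf ((nat_lit 659), [nat_lit 2, nat_lit 0])) (.leaf ((nat_lit 639), [nat_lit 3, nat_lit 0]))) (.node (nat_lit 4019) (.leaf ((nat_lit 837), [nat_lit 1, nat_lit 3, nat_lit 1])) (.node (nat_lit 4020) (.leaf ((nat_lit 485), [nat_lit 1, nat_lit 3])) (.leaf ((nat_lit 659), [nat_lit 3])))))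
 (.node (nat_lit 4024) (.node (nat_lit 4022) (.leaf ((nat_lit 268), [nat_lit 0, nat_lit 2, nat_lit 0])) (.node (nat_lit 4023) (.leaf ((nat_lit 267), [nat_lit 1, nat_lit 2, nat_lit 0])) (.leaf ((nat_lit 266), [nat_lit 0, nat_lit 3, nat_lit 1])))) (.node (nat_lit 4025) (.leaf ((nat_lit 884), [nat_lit 1, nat_lit 3, nat_lit 0])) (.node (nat_lit 4026) (.leaf ((nat_lit 742), [nat_lit 2, nat_lit 1])) (.leaf ((nat_lit 925), [nat_lit 3, nat_lit 0])))))))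
 (.node (nat_lit 4038) (.node (nat_lit 4032) (.node (nat_lit 4029) (.node (nat_lit 4028) (.leaf ((nat_lit 746), [nat_lit 1, nat_lit 2, nat_lit 0])) (.leaf ((nat_lit 393), [nat_lit 0, nat_lit 2, nat_lit 1]))) (.node (nat_lit 4030) (.leaf ((nat_lit 884), [nat_lit 0, nat_lit 3, nat_lit 1])) (.node (nat_lit 4031) (.leaf ((nat_lit 266), [nat_lit 1, nat_lit 2, nat_lit 1])) (.leaf ((nat_lit 453), [nat_lit 1, nat_lit 3])))))
 (.node (nat_lit 4035) (.node (nat_lit 4033) (.leaf ((nat_lit 385), [nat_lit 1, nat_lit 3])) (.node (nat_lit 4034) (.leaf ((nat_lit 384), [nat_lit 0, nat_lit 2, nat_lit 1])) (.leaf ((nat_lit 313), [nat_lit 1, nat_lit 2, nat_lit 0])))) (.node (nat_lit 4036) (.leaf ((nat_lit 485), [nat_lit 1, nat_lit 2])) (.node (nat_lit 4037) (.leaf ((nat_lit 524), [nat_lit 2, nat_lit 0])) (.leaf ((nat_lit 266), [nat_lit 0]))))))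
 (.node (nat_lit 4044) (.node (nat_lit 4041) (.node (nat_lit 4039) (.leaf ((nat_lit 579), [nat_lit 2])) (.node (nat_lit 4040) (.leaf ((nat_lit 749), [nat_lit 3, nat_lit 1])) (.leaf ((nat_lit 454), [nat_lit 3])))) (.node (nat_lit 4042) (.leaf ((nat_lit 534), [nat_lit 0, nat_lit 3, nat_lit 0])) (.node (nat_lit 4043) (.leaf ((nat_lit 533), [nat_lit 1, nat_lit 2])) (.leaf ((nat_lit 267), [nat_lit 3])))))
 (.node (nat_lit 4047) (.node (nat_lit 4045) (.leaf ((nat_lit 882), [nat_lit 2])) (.node (nat_lit 4046) (.leaf ((nat_lit 309), [])) (.leaf ((nat_lit 884), [nat_lit 1, nat_lit 2])))) (.node (nat_lit 4048) (.leaf ((nat_lit 737), [nat_lit 0, nat_lit 2, nat_lit 0])) (.node (nat_lit 4049) (.leaf ((nat_lit 268), [nat_lit 0, nat_lit 3])) (.leaf ((nat_lit 571), [nat_lit 1, nat_lit 2, nat_lit 0])))))))))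
 (.node (nat_lit 4095) (.node (nat_lit 4072) (.node (nat_lit 4061) (.node (nat_lit 4055) (.node (nat_lit 4052) (.node (nat_lit 4051) (.leaf ((nat_lit 275), [nat_lit 0, nat_lit 3, nat_lit 1])) (.leaf ((nat_lit 271), [nat_lit 2, nat_lit 0]))) (.node (nat_lit 4053) (.leaf ((nat_lit 270), [nat_lit 1, nat_lit 2])) (.node (nat_lit 4054) (.leaf ((nat_lit 280), [nat_lit 1, nat_lit 3])) (.leaf ((nat_lit 785), [nat_lit 0, nat_lit 2, nat_lit 0])))))
 (.node (nat_lit 4058) (.node (nat_lit 4056) (.leaf ((nat_lit 728), [])) (.node (nat_lit 4057) (.leaf ((nat_lit 869), [nat_lit 0, nat_lit 3, nat_lit 1])) (.leaf ((nat_lit 787), [nat_lit 0, nat_lit 2, nat_lit 0])))) (.node (nat_lit 4059) (.leaf ((nat_lit 548), [nat_lit 2])) (.node (nat_lit 4060) (.leaf ((nat_lit 419), [nat_lit 1])) (.leaf ((nat_lit 271), [nat_lit 2, nat_lit 0]))))))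
 (.node (nat_lit 4066) (.node (nat_lit 4063) (.node (nat_lit 4062) (.leaf ((nat_lit 575), [nat_lit 3, nat_lit 0])) (.leaf ((nat_lit 605), [nat_lit 1, nat_lit 3, nat_lit 1]))) (.node (nat_lit 4064) (.leaf ((nat_lit 272), [])) (.node (nat_lit 4065) (.leaf ((nat_lit 325), [nat_lit 1, nat_lit 2, nat_lit 0])) (.leaf ((nat_lit 330), [nat_lit 1, nat_lit 2, nat_lit 0])))))
 (.node (nat_lit 4069) (.node (nat_lit 4067) (.leaf ((nat_lit 454), [nat_lit 1, nat_lit 2, nat_lit 1])) (.node (nat_lit 4068) (.leaf ((nat_lit 832), [nat_lit 0])) (.leaf ((nat_lit 802), [nat_lit 0, nat_lit 3])))) (.node (nat_lit 4070) (.leaf ((nat_lit 771), [nat_lit 2, nat_lit 0])) (.node (nat_lit 4071) (.leaf ((nat_lit 457), [nat_lit 0, nat_lit 3, nat_lit 0])) (.leaf ((nat_lit 273), [nat_lit 3, nat_lit 0])))))))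
 (.node (nat_lit 4083) (.node (nat_lit 4077) (.node (nat_lit 4074) (.node (nat_lit 4073) (.leaf ((nat_lit 272), [nat_lit 0, nat_lit 3])) (.leaf ((nat_lit 705), [nat_lit 1, nat_lit 3]))) (.node (nat_lit 4075) (.leaf ((nat_lit 876), [nat_lit 1, nat_lit 3, nat_lit 1])) (.node (nat_lit 4076) (.leaf ((nat_lit 690), [nat_lit 1, nat_lit 3, nat_lit 1])) (.leaf ((nat_lit 478), [])))))
 (.node (nat_lit 4080) (.node (nat_lit 4078) (.leaf ((nat_lit 913), [nat_lit 0])) (.node (nat_lit 4079) (.leaf ((nat_lit 703), [nat_lit 2, nat_lit 0])) (.leaf ((nat_lit 272), [nat_lit 1])))) (.node (nat_lit 4081) (.leaf ((nat_lit 274), [nat_lit 1, nat_lit 2, nat_lit 0])) (.node (nat_lit 4082) (.leaf ((nat_lit 689), [nat_lit 1, nat_lit 3, nat_lit 1])) (.leaf ((nat_lit 500), [nat_lit 3]))))))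
 (.node (nat_lit 4089) (.node (nat_lit 4086) (.node (nat_lit 4084) (.leaf ((nat_lit 704), [nat_lit 3, nat_lit 1])) (.node (nat_lit 4085) (.leaf ((nat_lit 921), [nat_lit 3, nat_lit 1])) (.leaf ((nat_lit 918), [nat_lit 0, nat_lit 3, nat_lit 1])))) (.node (nat_lit 4087) (.leaf ((nat_lit 304), [nat_lit 0, nat_lit 3, nat_lit 0])) (.node (nat_lit 4088) (.leaf ((nat_lit 505), [nat_lit 1])) (.leaf ((nat_lit 504), [nat_lit 1, nat_lit 2, nat_lit 1])))))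
 (.node (nat_lit 4092) (.node (nat_lit 4090) (.leaf ((nat_lit 569), [nat_lit 1, nat_lit 2, nat_lit 1])) (.node (nat_lit 4091) (.leaf ((nat_lit 475), [nat_lit 2, nat_lit 0])) (.leaf ((nat_lit 275), [nat_lit 1])))) (.node (nat_lit 4093) (.leaf ((nat_lit 276), [nat_lit 0, nat_lit 3])) (.node (nat_lit 4094) (.leaf ((nat_lit 418), [nat_lit 0, nat_lit 2, nat_lit 0])) (.leaf ((nat_lit 349), [nat_lit 0, nat_lit 2, nat_lit 0]))))))))
 (.node (nat_lit 4117) (.node (nat_lit 4106) (.node (nat_lit 4100) (.node (nat_lit 4097) (.node (nat_lit 4096) (.leaf ((nat_lit 366), [nat_lit 1, nat_lit 2, nat_lit 0])) (.leaf ((nat_lit 365), [nat_lit 1, nat_lit 3, nat_lit 1]))) (.node (nat_lit 4098) (.leaf ((nat_lit 404), [nat_lit 1, nat_lit 3])) (.node (nat_lit 4099) (.leaf ((nat_lit 278), [nat_lit 3, nat_lit 0])) (.leaf ((nat_lit 741), [nat_lit 1, nat_lit 2, nat_lit 1])))))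
 (.node (nat_lit 4103) (.node (nat_lit 4101) (.leaf ((nat_lit 768), [nat_lit 1, nat_lit 2])) (.node (nat_lit 4102) (.leaf ((nat_lit 803), [nat_lit 0, nat_lit 3])) (.leaf ((nat_lit 600), [nat_lit 2, nat_lit 1])))) (.node (nat_lit 4104) (.leaf ((nat_lit 913), [nat_lit 0, nat_lit 2])) (.node (nat_lit 4105) (.leaf ((nat_lit 741), [nat_lit 3])) (.leaf ((nat_lit 278), [nat_lit 1, nat_lit 3, nat_lit 1]))))))
 (.node (nat_lit 4111) (.node (nat_lit 4108) (.node (nat_lit 4107) (.leaf ((nat_lit 874), [nat_lit 1, nat_lit 2])) (.leaf ((nat_lit 606), [nat_lit 1, nat_lit 2, nat_lit 0]))) (.node (nat_lit 4109) (.leaf ((nat_lit 605), [nat_lit 1, nat_lit 3, nat_lit 1])) (.node (nat_lit 4110) (.leaf ((nat_lit 713), [nat_lit 1, nat_lit 2, nat_lit 0])) (.leaf ((nat_lit 577), [nat_lit 3, nat_lit 1])))))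
 (.node (nat_lit 4114) (.node (nat_lit 4112) (.leaf ((nat_lit 873), [nat_lit 0, nat_lit 3])) (.node (nat_lit 4113) (.leaf ((nat_lit 576), [nat_lit 0, nat_lit 2, nat_lit 1])) (.leaf ((nat_lit 507), [nat_lit 1, nat_lit 2, nat_lit 1])))) (.node (nat_lit 4115) (.leaf ((nat_lit 385), [nat_lit 1, nat_lit 2, nat_lit 1])) (.node (nat_lit 4116) (.leaf ((nat_lit 278), [nat_lit 1])) (.leaf ((nat_lit 716), [])))))))
 (.node (nat_lit 4128) (.node (nat_lit 4122) (.node (nat_lit 4119) (.node (nat_lit 4118) (.leaf ((nat_lit 457), [nat_lit 0, nat_lit 3, nat_lit 1])) (.leaf ((nat_lit 771), [nat_lit 2, nat_lit 1]))) (.node (nat_lit 4120) (.leaf ((nat_lit 785), [nat_lit 1, nat_lit 3, nat_lit 0])) (.node (nat_lit 4121) (.leaf ((nat_lit 280), [nat_lit 0, nat_lit 3])) (.leaf ((nat_lit 744), [nat_lit 3])))))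
 (.node (nat_lit 4125) (.node (nat_lit 4123) (.leaf ((nat_lit 624), [nat_lit 3, nat_lit 1])) (.node (nat_lit 4124) (.leaf ((nat_lit 693), [nat_lit 1, nat_lit 2, nat_lit 1])) (.leaf ((nat_lit 622), [nat_lit 0, nat_lit 3])))) (.node (nat_lit 4126) (.leaf ((nat_lit 404), [nat_lit 1, nat_lit 2])) (.node (nat_lit 4127) (.leaf ((nat_lit 403), [nat_lit 1, nat_lit 3, nat_lit 1])) (.leaf ((nat_lit 280), [nat_lit 2, nat_lit 0]))))))
 (.node (nat_lit 4134) (.node (nat_lit 4131) (.node (nat_lit 4129) (.leaf ((nat_lit 281), [nat_lit 1])) (.node (nat_lit 4130) (.leaf ((nat_lit 812), [nat_lit 2, nat_lit 0])) (.leaf ((nat_lit 473), [nat_lit 3, nat_lit 1])))) (.node (nat_lit 4132) (.leaf ((nat_lit 793), [nat_lit 0, nat_lit 2, nat_lit 0])) (.node (nat_lit 4133) (.leaf ((nat_lit 811), [nat_lit 2, nat_lit 0])) (.leaf ((nat_lit 843), [nat_lit 2])))))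
 (.node (nat_lit 4137) (.node (nat_lit 4135) (.leaf ((nat_lit 284), [])) (.node (nat_lit 4136) (.leaf ((nat_lit 680), [nat_lit 0, nat_lit 2, nat_lit 0])) (.leaf ((nat_lit 282), [nat_lit 2])))) (.node (nat_lit 4138) (.leaf ((nat_lit 627), [nat_lit 1, nat_lit 3, nat_lit 0])) (.node (nat_lit 4139) (.leaf ((nat_lit 469), [nat_lit 1, nat_lit 3])) (.leaf ((nat_lit 702), [nat_lit 1, nat_lit 3]))))))))))
noncomputable def n1Wd_23 : Tr (ℕ × List ℕ) := (.node (nat_lit 4230) (.node (nat_lit 4185) (.node (nat_lit 4162) (.node (nat_lit 4151) (.node (nat_lit 4145) (.node (nat_lit 4142) (.node (nat_lit 4141) (.leaf ((nat_lit 469), [nat_lit 1, nat_lit 3])) (.leaf ((nat_lit 679), [nat_lit 0, nat_lit 2, nat_lit 0]))) (.node (nat_lit 4143) (.leaf ((nat_lit 493), [nat_lit 3])) (.node (nat_lit 4144) (.leaf ((nat_lit 282), [nat_lit 0, nat_lit 3])) (.leaf ((nat_lit 776), [nat_lit 3])))))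
 (.node (nat_lit 4148) (.node (nat_lit 4146) (.leaf ((nat_lit 657), [nat_lit 1, nat_lit 3, nat_lit 1])) (.node (nat_lit 4147) (.leaf ((nat_lit 939), [nat_lit 1])) (.leaf ((nat_lit 302), [nat_lit 0])))) (.node (nat_lit 4149) (.leaf ((nat_lit 810), [nat_lit 1, nat_lit 2])) (.node (nat_lit 4150) (.leaf ((nat_lit 776), [nat_lit 1, nat_lit 2, nat_lit 0])) (.leaf ((nat_lit 282), [nat_lit 2, nat_lit 0]))))))
 (.node (nat_lit 4156) (.node (nat_lit 4153) (.node (nat_lit 4152) (.leaf ((nat_lit 760), [nat_lit 1, nat_lit 3, nat_lit 0])) (.leaf ((nat_lit 940), [nat_lit 3]))) (.node (nat_lit 4154) (.leaf ((nat_lit 919), [nat_lit 0, nat_lit 3, nat_lit 0])) (.node (nat_lit 4155) (.leaf ((nat_lit 918), [])) (.leaf ((nat_lit 778), [nat_lit 2, nat_lit 0])))))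
 (.node (nat_lit 4159) (.node (nat_lit 4157) (.leaf ((nat_lit 757), [nat_lit 0, nat_lit 2, nat_lit 0])) (.node (nat_lit 4158) (.leaf ((nat_lit 282), [nat_lit 1, nat_lit 3, nat_lit 1])) (.leaf ((nat_lit 475), [nat_lit 0, nat_lit 3])))) (.node (nat_lit 4160) (.leaf ((nat_lit 687), [nat_lit 0, nat_lit 3, nat_lit 0])) (.node (nat_lit 4161) (.leaf ((nat_lit 298), [nat_lit 0])) (.leaf ((nat_lit 283), [nat_lit 3])))))))
 (.node (nat_lit 4173) (.node (nat_lit 4167) (.node (nat_lit 4164) (.node (nat_lit 4163) (.leaf ((nat_lit 763), [nat_lit 0, nat_lit 2, nat_lit 1])) (.leaf ((nat_lit 794), [nat_lit 1, nat_lit 2]))) (.node (nat_lit 4165) (.leaf ((nat_lit 840), [nat_lit 0, nat_lit 2])) (.node (nat_lit 4166) (.leaf ((nat_lit 870), [nat_lit 3])) (.leaf ((nat_lit 839), [nat_lit 1, nat_lit 3])))))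
 (.node (nat_lit 4170) (.node (nat_lit 4168) (.leaf ((nat_lit 941), [])) (.node (nat_lit 4169) (.leaf ((nat_lit 871), [nat_lit 0, nat_lit 2])) (.leaf ((nat_lit 283), [nat_lit 0, nat_lit 3, nat_lit 1])))) (.node (nat_lit 4171) (.leaf ((nat_lit 941), [nat_lit 2])) (.node (nat_lit 4172) (.leaf ((nat_lit 324), [nat_lit 3, nat_lit 1])) (.leaf ((nat_lit 898), []))))))
 (.node (nat_lit 4179) (.node (nat_lit 4176) (.node (nat_lit 4174) (.leaf ((nat_lit 343), [nat_lit 2, nat_lit 0])) (.node (nat_lit 4175) (.leaf ((nat_lit 284), [nat_lit 2])) (.leaf ((nat_lit 920), [nat_lit 0, nat_lit 2])))) (.node (nat_lit 4177) (.leaf ((nat_lit 870), [nat_lit 2])) (.node (nat_lit 4178) (.leaf ((nat_lit 840), [nat_lit 0])) (.leaf ((nat_lit 731), [nat_lit 0, nat_lit 3, nat_lit 1])))))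
 (.node (nat_lit 4182) (.node (nat_lit 4180) (.leaf ((nat_lit 942), [])) (.node (nat_lit 4181) (.leaf ((nat_lit 795), [nat_lit 1, nat_lit 3, nat_lit 1])) (.leaf ((nat_lit 284), [nat_lit 3, nat_lit 1])))) (.node (nat_lit 4183) (.leaf ((nat_lit 285), [nat_lit 2])) (.node (nat_lit 4184) (.leaf ((nat_lit 487), [nat_lit 1, nat_lit 3, nat_lit 0])) (.leaf ((nat_lit 486), [nat_lit 1, nat_lit 2, nat_lit 0]))))))))
 (.node (nat_lit 4207) (.node (nat_lit 4196) (.node (nat_lit 4190) (.node (nat_lit 4187) (.node (nat_lit 4186) (.leaf ((nat_lit 825), [nat_lit 1, nat_lit 3, nat_lit 0])) (.leaf ((nat_lit 400), [nat_lit 3]))) (.node (nat_lit 4188) (.leaf ((nat_lit 917), [nat_lit 0, nat_lit 2, nat_lit 1])) (.node (nat_lit 4189) (.leaf ((nat_lit 486), [nat_lit 2])) (.leaf ((nat_lit 485), [nat_lit 1, nat_lit 2, nat_lit 0])))))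
 (.node (nat_lit 4193) (.node (nat_lit 4191) (.leaf ((nat_lit 285), [nat_lit 0])) (.node (nat_lit 4192) (.leaf ((nat_lit 943), [nat_lit 1, nat_lit 3, nat_lit 0])) (.leaf ((nat_lit 872), [nat_lit 1])))) (.node (nat_lit 4194) (.leaf ((nat_lit 566), [nat_lit 1, nat_lit 3])) (.node (nat_lit 4195) (.leaf ((nat_lit 431), [nat_lit 1, nat_lit 2])) (.leaf ((nat_lit 430), [nat_lit 0, nat_lit 2, nat_lit 1]))))))
 (.node (nat_lit 4201) (.node (nat_lit 4198) (.node (nat_lit 4197) (.leaf ((nat_lit 755), [nat_lit 1, nat_lit 2, nat_lit 0])) (.leaf ((nat_lit 854), [nat_lit 2, nat_lit 1]))) (.node (nat_lit 4199) (.leaf ((nat_lit 447), [nat_lit 1, nat_lit 3, nat_lit 0])) (.node (nat_lit 4200) (.leaf ((nat_lit 285), [nat_lit 0, nat_lit 2])) (.leaf ((nat_lit 744), [nat_lit 0, nat_lit 3])))))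
 (.node (nat_lit 4204) (.node (nat_lit 4202) (.leaf ((nat_lit 574), [nat_lit 3, nat_lit 1])) (.node (nat_lit 4203) (.leaf ((nat_lit 286), [])) (.leaf ((nat_lit 630), [])))) (.node (nat_lit 4205) (.leaf ((nat_lit 898), [nat_lit 3, nat_lit 1])) (.node (nat_lit 4206) (.leaf ((nat_lit 922), [nat_lit 0, nat_lit 3, nat_lit 0])) (.leaf ((nat_lit 597), [nat_lit 3, nat_lit 1])))))))
 (.node (nat_lit 4218) (.node (nat_lit 4212) (.node (nat_lit 4209) (.node (nat_lit 4208) (.leaf ((nat_lit 833), [nat_lit 3, nat_lit 1])) (.leaf ((nat_lit 832), [nat_lit 1]))) (.node (nat_lit 4210) (.leaf ((nat_lit 336), [])) (.node (nat_lit 4211) (.leaf ((nat_lit 352), [nat_lit 2])) (.leaf ((nat_lit 287), [nat_lit 3, nat_lit 0])))))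
 (.node (nat_lit 4215) (.node (nat_lit 4213) (.leaf ((nat_lit 501), [nat_lit 2])) (.node (nat_lit 4214) (.leaf ((nat_lit 379), [nat_lit 0, nat_lit 3, nat_lit 0])) (.leaf ((nat_lit 499), [nat_lit 0, nat_lit 2, nat_lit 1])))) (.node (nat_lit 4216) (.leaf ((nat_lit 289), [nat_lit 1, nat_lit 3])) (.node (nat_lit 4217) (.leaf ((nat_lit 288), [nat_lit 0, nat_lit 2])) (.leaf ((nat_lit 689), [nat_lit 2, nat_lit 0]))))))
 (.node (nat_lit 4224) (.node (nat_lit 4221) (.node (nat_lit 4219) (.leaf ((nat_lit 416), [nat_lit 1, nat_lit 2, nat_lit 0])) (.node (nat_lit 4220) (.leaf ((nat_lit 415), [nat_lit 0, nat_lit 3, nat_lit 0])) (.leaf ((nat_lit 307), [nat_lit 0, nat_lit 2])))) (.node (nat_lit 4222) (.leaf ((nat_lit 614), [nat_lit 2, nat_lit 0])) (.node (nat_lit 4223) (.leaf ((nat_lit 679), [nat_lit 1, nat_lit 3])) (.leaf ((nat_lit 289), [nat_lit 0, nat_lit 3])))))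
 (.node (nat_lit 4227) (.node (nat_lit 4225) (.leaf ((nat_lit 481), [nat_lit 0, nat_lit 2, nat_lit 1])) (.node (nat_lit 4226) (.leaf ((nat_lit 477), [nat_lit 1, nat_lit 3, nat_lit 1])) (.leaf ((nat_lit 290), [nat_lit 0, nat_lit 3])))) (.node (nat_lit 4228) (.leaf ((nat_lit 680), [nat_lit 0, nat_lit 2])) (.node (nat_lit 4229) (.leaf ((nat_lit 944), [nat_lit 0])) (.leaf ((nat_lit 354), [nat_lit 1, nat_lit 2])))))))))
 (.node (nat_lit 4275) (.node (nat_lit 4252) (.node (nat_lit 4241) (.node (nat_lit 4235) (.node (nat_lit 4232) (.node (nat_lit 4231) (.leaf ((nat_lit 471), [nat_lit 0, nat_lit 3, nat_lit 0])) (.leaf ((nat_lit 470), [nat_lit 0, nat_lit 3, nat_lit 1]))) (.node (nat_lit 4233) (.leaf ((nat_lit 841), [nat_lit 0, nat_lit 2])) (.node (nat_lit 4234) (.leaf ((nat_lit 713), [nat_lit 1, nat_lit 2])) (.leaf ((nat_lit 290), [nat_lit 1, nat_lit 3, nat_lit 1])))))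
 (.node (nat_lit 4238) (.node (nat_lit 4236) (.leaf ((nat_lit 678), [nat_lit 2, nat_lit 0])) (.node (nat_lit 4237) (.leaf ((nat_lit 772), [nat_lit 1, nat_lit 2, nat_lit 1])) (.leaf ((nat_lit 805), [nat_lit 3])))) (.node (nat_lit 4239) (.leaf ((nat_lit 774), [nat_lit 3, nat_lit 0])) (.node (nat_lit 4240) (.leaf ((nat_lit 439), [nat_lit 2, nat_lit 1])) (.leaf ((nat_lit 448), [nat_lit 3, nat_lit 1]))))))
 (.node (nat_lit 4246) (.node (nat_lit 4243) (.node (nat_lit 4242) (.leaf ((nat_lit 293), [nat_lit 0, nat_lit 3, nat_lit 0])) (.leaf ((nat_lit 296), [nat_lit 3, nat_lit 0]))) (.node (nat_lit 4244) (.leaf ((nat_lit 301), [])) (.node (nat_lit 4245) (.leaf ((nat_lit 294), [nat_lit 1, nat_lit 3])) (.leaf ((nat_lit 406), [nat_lit 0, nat_lit 2, nat_lit 1])))))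
 (.node (nat_lit 4249) (.node (nat_lit 4247) (.leaf ((nat_lit 729), [nat_lit 1, nat_lit 2])) (.node (nat_lit 4248) (.leaf ((nat_lit 596), [nat_lit 1, nat_lit 3, nat_lit 1])) (.leaf ((nat_lit 945), [nat_lit 1])))) (.node (nat_lit 4250) (.leaf ((nat_lit 811), [nat_lit 3, nat_lit 0])) (.node (nat_lit 4251) (.leaf ((nat_lit 730), [nat_lit 0, nat_lit 2, nat_lit 1])) (.leaf ((nat_lit 557), [nat_lit 3])))))))
 (.node (nat_lit 4263) (.node (nat_lit 4257) (.node (nat_lit 4254) (.node (nat_lit 4253) (.leaf ((nat_lit 294), [nat_lit 1, nat_lit 2, nat_lit 0])) (.leaf ((nat_lit 800), [nat_lit 1, nat_lit 2, nat_lit 1]))) (.node (nat_lit 4255) (.leaf ((nat_lit 420), [nat_lit 0, nat_lit 2, nat_lit 0])) (.node (nat_lit 4256) (.leaf ((nat_lit 656), [nat_lit 2, nat_lit 0])) (.leaf ((nat_lit 513), [nat_lit 0, nat_lit 2, nat_lit 0])))))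
 (.node (nat_lit 4260) (.node (nat_lit 4258) (.leaf ((nat_lit 915), [nat_lit 3, nat_lit 0])) (.node (nat_lit 4259) (.leaf ((nat_lit 790), [nat_lit 0, nat_lit 2, nat_lit 0])) (.leaf ((nat_lit 294), [nat_lit 0, nat_lit 2, nat_lit 1])))) (.node (nat_lit 4261) (.leaf ((nat_lit 946), [nat_lit 1])) (.node (nat_lit 4262) (.leaf ((nat_lit 528), [nat_lit 0, nat_lit 2, nat_lit 0])) (.leaf ((nat_lit 479), [nat_lit 1]))))))
 (.node (nat_lit 4269) (.node (nat_lit 4266) (.node (nat_lit 4264) (.leaf ((nat_lit 878), [nat_lit 1, nat_lit 2, nat_lit 1])) (.node (nat_lit 4265) (.leaf ((nat_lit 295), [nat_lit 1, nat_lit 3, nat_lit 0])) (.leaf ((nat_lit 820), [])))) (.node (nat_lit 4267) (.leaf ((nat_lit 584), [nat_lit 1])) (.node (nat_lit 4268) (.leaf ((nat_lit 884), [nat_lit 1, nat_lit 2])) (.leaf ((nat_lit 309), [])))))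
 (.node (nat_lit 4272) (.node (nat_lit 4270) (.leaf ((nat_lit 928), [nat_lit 1, nat_lit 2, nat_lit 1])) (.node (nat_lit 4271) (.leaf ((nat_lit 309), [nat_lit 2])) (.leaf ((nat_lit 295), [nat_lit 3, nat_lit 0])))) (.node (nat_lit 4273) (.leaf ((nat_lit 947), [nat_lit 1, nat_lit 2, nat_lit 1])) (.node (nat_lit 4274) (.leaf ((nat_lit 944), [nat_lit 1, nat_lit 3])) (.leaf ((nat_lit 763), [nat_lit 0, nat_lit 2, nat_lit 0]))))))))
 (.node (nat_lit 4297) (.node (nat_lit 4286) (.node (nat_lit 4280) (.node (nat_lit 4277) (.node (nat_lit 4276) (.leaf ((nat_lit 765), [nat_lit 0, nat_lit 2, nat_lit 0])) (.leaf ((nat_lit 296), [nat_lit 1, nat_lit 3, nat_lit 1]))) (.node (nat_lit 4278) (.leaf ((nat_lit 893), [nat_lit 1, nat_lit 2, nat_lit 1])) (.node (nat_lit 4279) (.leaf ((nat_lit 868), [nat_lit 2])) (.leaf ((nat_lit 297), [nat_lit 2])))))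
 (.node (nat_lit 4283) (.node (nat_lit 4281) (.leaf ((nat_lit 891), [nat_lit 1, nat_lit 2])) (.node (nat_lit 4282) (.leaf ((nat_lit 705), [nat_lit 3, nat_lit 0])) (.leaf ((nat_lit 612), [nat_lit 1, nat_lit 2, nat_lit 0])))) (.node (nat_lit 4284) (.leaf ((nat_lit 684), [nat_lit 1, nat_lit 3, nat_lit 0])) (.node (nat_lit 4285) (.leaf ((nat_lit 892), [nat_lit 0, nat_lit 2, nat_lit 0])) (.leaf ((nat_lit 891), [nat_lit 3]))))))
 (.node (nat_lit 4291) (.node (nat_lit 4288) (.node (nat_lit 4287) (.leaf ((nat_lit 297), [nat_lit 0, nat_lit 3])) (.leaf ((nat_lit 615), [nat_lit 1, nat_lit 2]))) (.node (nat_lit 4289) (.leaf ((nat_lit 725), [])) (.node (nat_lit 4290) (.leaf ((nat_lit 401), [nat_lit 0, nat_lit 2])) (.leaf ((nat_lit 740), [nat_lit 1, nat_lit 3, nat_lit 0])))))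
 (.node (nat_lit 4294) (.node (nat_lit 4292) (.leaf ((nat_lit 875), [nat_lit 0, nat_lit 3, nat_lit 1])) (.node (nat_lit 4293) (.leaf ((nat_lit 823), [nat_lit 3])) (.leaf ((nat_lit 298), [nat_lit 2, nat_lit 1])))) (.node (nat_lit 4295) (.leaf ((nat_lit 297), [nat_lit 0, nat_lit 3])) (.node (nat_lit 4296) (.leaf ((nat_lit 431), [nat_lit 0, nat_lit 3, nat_lit 0])) (.leaf ((nat_lit 686), [])))))))
 (.node (nat_lit 4308) (.node (nat_lit 4302) (.node (nat_lit 4299) (.node (nat_lit 4298) (.leaf ((nat_lit 365), [nat_lit 0, nat_lit 3])) (.leaf ((nat_lit 600), [nat_lit 3, nat_lit 1]))) (.node (nat_lit 4300) (.leaf ((nat_lit 372), [nat_lit 1, nat_lit 3])) (.node (nat_lit 4301) (.leaf ((nat_lit 318), [nat_lit 1, nat_lit 2, nat_lit 0])) (.leaf ((nat_lit 298), [])))))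
 (.node (nat_lit 4305) (.node (nat_lit 4303) (.leaf ((nat_lit 410), [nat_lit 0, nat_lit 3, nat_lit 0])) (.node (nat_lit 4304) (.leaf ((nat_lit 406), [nat_lit 2])) (.leaf ((nat_lit 405), [nat_lit 1, nat_lit 3, nat_lit 0])))) (.node (nat_lit 4306) (.leaf ((nat_lit 299), [nat_lit 2, nat_lit 1])) (.node (nat_lit 4307) (.leaf ((nat_lit 845), [nat_lit 3])) (.leaf ((nat_lit 326), [nat_lit 0, nat_lit 2]))))))
 (.node (nat_lit 4314) (.node (nat_lit 4311) (.node (nat_lit 4309) (.leaf ((nat_lit 402), [nat_lit 1, nat_lit 2])) (.node (nat_lit 4310) (.leaf ((nat_lit 842), [nat_lit 3, nat_lit 1])) (.leaf ((nat_lit 401), [nat_lit 2, nat_lit 1])))) (.node (nat_lit 4312) (.leaf ((nat_lit 300), [nat_lit 3])) (.node (nat_lit 4313) (.leaf ((nat_lit 380), [nat_lit 1, nat_lit 2, nat_lit 1])) (.leaf ((nat_lit 835), [nat_lit 3, nat_lit 0])))))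
 (.node (nat_lit 4317) (.node (nat_lit 4315) (.leaf ((nat_lit 651), [nat_lit 1, nat_lit 3, nat_lit 1])) (.node (nat_lit 4316) (.leaf ((nat_lit 855), [nat_lit 0, nat_lit 3, nat_lit 0])) (.leaf ((nat_lit 353), [])))) (.node (nat_lit 4318) (.leaf ((nat_lit 517), [nat_lit 1, nat_lit 2, nat_lit 0])) (.node (nat_lit 4319) (.leaf ((nat_lit 596), [nat_lit 2, nat_lit 1])) (.leaf ((nat_lit 300), [nat_lit 1, nat_lit 3, nat_lit 1]))))))))))
noncomputable def n1Wd_24 : Tr (ℕ × List ℕ) := (.node (nat_lit 4410) (.node (nat_lit 4365) (.node (nat_lit 4342) (.node (nat_lit 4331) (.node (nat_lit 4325) (.node (nat_lit 4322) (.node (nat_lit 4321) (.leaf ((nat_lit 938), [nat_lit 3])) (.leaf ((nat_lit 809), [nat_lit 0, nat_lit 2]))) (.node (nat_lit 4323) (.leaf ((nat_lit 761), [nat_lit 0, nat_lit 2, nat_lit 1])) (.node (nat_lit 4324) (.leaf ((nat_lit 302), [nat_lit 0, nat_lit 3, nat_lit 0])) (.leaf ((nat_lit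 301), [nat_lit 3, nat_lit 0])))))
 (.node (nat_lit 4328) (.node (nat_lit 4326) (.leaf ((nat_lit 752), [nat_lit 1, nat_lit 2, nat_lit 1])) (.node (nat_lit 4327) (.leaf ((nat_lit 725), [nat_lit 1, nat_lit 3])) (.leaf ((nat_lit 724), [nat_lit 1, nat_lit 2, nat_lit 1])))) (.node (nat_lit 4329) (.leaf ((nat_lit 484), [nat_lit 1, nat_lit 3])) (.node (nat_lit 4330) (.leaf ((nat_lit 908), [nat_lit 1, nat_lit 2, nat_lit 0])) (.leaf ((nat_lit 303), [nat_lit 0, nat_lit 3, nat_lit 1]))))))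
 (.node (nat_lit 4336) (.node (nat_lit 4333) (.node (nat_lit 4332) (.leaf ((nat_lit 301), [nat_lit 0, nat_lit 2])) (.leaf ((nat_lit 302), [nat_lit 3]))) (.node (nat_lit 4334) (.leaf ((nat_lit 939), [nat_lit 0, nat_lit 3])) (.node (nat_lit 4335) (.leaf ((nat_lit 658), [nat_lit 0, nat_lit 3, nat_lit 1])) (.leaf ((nat_lit 789), [nat_lit 3])))))
 (.node (nat_lit 4339) (.node (nat_lit 4337) (.leaf ((nat_lit 344), [nat_lit 0, nat_lit 2, nat_lit 0])) (.node (nat_lit 4338) (.leaf ((nat_lit 941), [nat_lit 0, nat_lit 2, nat_lit 1])) (.leaf ((nat_lit 323), [nat_lit 3])))) (.node (nat_lit 4340) (.leaf ((nat_lit 747), [nat_lit 1, nat_lit 3, nat_lit 0])) (.node (nat_lit 4341) (.leaf ((nat_lit 769), [nat_lit 1, nat_lit 3, nat_lit 0])) (.leaf ((nat_lit 610), [nat_lit 1, nat_lit 2, nat_lit 1])))))))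
 (.node (nat_lit 4353) (.node (nat_lit 4347) (.node (nat_lit 4344) (.node (nat_lit 4343) (.leaf ((nat_lit 752), [nat_lit 3, nat_lit 1])) (.leaf ((nat_lit 302), [nat_lit 1, nat_lit 3, nat_lit 0]))) (.node (nat_lit 4345) (.leaf ((nat_lit 303), [nat_lit 0, nat_lit 3, nat_lit 1])) (.node (nat_lit 4346) (.leaf ((nat_lit 721), [nat_lit 0, nat_lit 3, nat_lit 0])) (.leaf ((nat_lit 587), [nat_lit 1, nat_lit 3, nat_lit 1])))))
 (.node (nat_lit 4350) (.node (nat_lit 4348) (.leaf ((nat_lit 429), [nat_lit 0])) (.node (nat_lit 4349) (.leaf ((nat_lit 891), [nat_lit 0, nat_lit 3, nat_lit 1])) (.leaf ((nat_lit 423), [nat_lit 1, nat_lit 3, nat_lit 0])))) (.node (nat_lit 4351) (.leaf ((nat_lit 721), [nat_lit 2, nat_lit 0])) (.node (nat_lit 4352) (.leaf ((nat_lit 303), [])) (.leaf ((nat_lit 889), [nat_lit 1, nat_lit 3, nat_lit 1]))))))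
 (.node (nat_lit 4359) (.node (nat_lit 4356) (.node (nat_lit 4354) (.leaf ((nat_lit 818), [nat_lit 0, nat_lit 3])) (.node (nat_lit 4355) (.leaf ((nat_lit 714), [])) (.leaf ((nat_lit 572), [nat_lit 0, nat_lit 2, nat_lit 1])))) (.node (nat_lit 4357) (.leaf ((nat_lit 587), [])) (.node (nat_lit 4358) (.leaf ((nat_lit 889), [nat_lit 1, nat_lit 3, nat_lit 0])) (.leaf ((nat_lit 303), [nat_lit 1])))))
 (.node (nat_lit 4362) (.node (nat_lit 4360) (.leaf ((nat_lit 948), [nat_lit 3])) (.node (nat_lit 4361) (.leaf ((nat_lit 815), [nat_lit 1, nat_lit 3, nat_lit 0])) (.leaf ((nat_lit 876), [nat_lit 1, nat_lit 2, nat_lit 0])))) (.node (nat_lit 4363) (.leaf ((nat_lit 801), [nat_lit 3, nat_lit 0])) (.node (nat_lit 4364) (.leaf ((nat_lit 895), [nat_lit 0, nat_lit 3, nat_lit 1])) (.leaf ((nat_lit 949), [nat_lit 2, nat_lit 0]))))))))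
 (.node (nat_lit 4387) (.node (nat_lit 4376) (.node (nat_lit 4370) (.node (nat_lit 4367) (.node (nat_lit 4366) (.leaf ((nat_lit 303), [nat_lit 0, nat_lit 3])) (.leaf ((nat_lit 908), [nat_lit 1, nat_lit 2, nat_lit 1]))) (.node (nat_lit 4368) (.leaf ((nat_lit 775), [nat_lit 3, nat_lit 0])) (.node (nat_lit 4369) (.leaf ((nat_lit 505), [nat_lit 1, nat_lit 2, nat_lit 0])) (.leaf ((nat_lit 304), [nat_lit 1, nat_lit 3, nat_lit 1])))))
 (.node (nat_lit 4373) (.node (nat_lit 4371) (.leaf ((nat_lit 503), [nat_lit 1, nat_lit 2])) (.node (nat_lit 4372) (.leaf ((nat_lit 311), [nat_lit 0])) (.leaf ((nat_lit 411), [nat_lit 2, nat_lit 1])))) (.node (nat_lit 4374) (.leaf ((nat_lit 675), [])) (.node (nat_lit 4375) (.leaf ((nat_lit 504), [nat_lit 1])) (.leaf ((nat_lit 503), [nat_lit 2]))))))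
 (.node (nat_lit 4381) (.node (nat_lit 4378) (.node (nat_lit 4377) (.leaf ((nat_lit 304), [nat_lit 1, nat_lit 2, nat_lit 0])) (.leaf ((nat_lit 390), []))) (.node (nat_lit 4379) (.leaf ((nat_lit 707), [nat_lit 3, nat_lit 0])) (.node (nat_lit 4380) (.leaf ((nat_lit 501), [nat_lit 1, nat_lit 2])) (.leaf ((nat_lit 942), [nat_lit 1, nat_lit 2, nat_lit 0])))))
 (.node (nat_lit 4384) (.node (nat_lit 4382) (.leaf ((nat_lit 748), [nat_lit 1, nat_lit 3])) (.node (nat_lit 4383) (.leaf ((nat_lit 708), [nat_lit 0, nat_lit 3, nat_lit 1])) (.leaf ((nat_lit 305), [nat_lit 0, nat_lit 3])))) (.node (nat_lit 4385) (.leaf ((nat_lit 304), [nat_lit 3, nat_lit 0])) (.node (nat_lit 4386) (.leaf ((nat_lit 774), [nat_lit 1])) (.leaf ((nat_lit 804), [nat_lit 3, nat_lit 0])))))))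
 (.node (nat_lit 4398) (.node (nat_lit 4392) (.node (nat_lit 4389) (.node (nat_lit 4388) (.leaf ((nat_lit 400), [nat_lit 0, nat_lit 2, nat_lit 0])) (.leaf ((nat_lit 696), [nat_lit 0, nat_lit 2, nat_lit 1]))) (.node (nat_lit 4390) (.leaf ((nat_lit 950), [nat_lit 0, nat_lit 3])) (.node (nat_lit 4391) (.leaf ((nat_lit 509), [nat_lit 0, nat_lit 3, nat_lit 0])) (.leaf ((nat_lit 304), [nat_lit 2, nat_lit 1])))))
 (.node (nat_lit 4395) (.node (nat_lit 4393) (.leaf ((nat_lit 305), [])) (.node (nat_lit 4394) (.leaf ((nat_lit 775), [nat_lit 1, nat_lit 3, nat_lit 0])) (.leaf ((nat_lit 951), [nat_lit 2])))) (.node (nat_lit 4396) (.leaf ((nat_lit 513), [nat_lit 0, nat_lit 3, nat_lit 1])) (.node (nat_lit 4397) (.leaf ((nat_lit 777), [nat_lit 2, nat_lit 1])) (.leaf ((nat_lit 936), [nat_lit 0, nat_lit 2, nat_lit 1]))))))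
 (.node (nat_lit 4404) (.node (nat_lit 4401) (.node (nat_lit 4399) (.leaf ((nat_lit 951), [nat_lit 3, nat_lit 0])) (.node (nat_lit 4400) (.leaf ((nat_lit 776), [nat_lit 0, nat_lit 3])) (.leaf ((nat_lit 305), [nat_lit 2, nat_lit 0])))) (.node (nat_lit 4402) (.leaf ((nat_lit 809), [nat_lit 1, nat_lit 3])) (.node (nat_lit 4403) (.leaf ((nat_lit 415), [nat_lit 0, nat_lit 2, nat_lit 1])) (.leaf ((nat_lit 322), [nat_lit 1, nat_lit 3, nat_lit 1])))))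
 (.node (nat_lit 4407) (.node (nat_lit 4405) (.leaf ((nat_lit 748), [])) (.node (nat_lit 4406) (.leaf ((nat_lit 942), [nat_lit 0, nat_lit 3])) (.leaf ((nat_lit 931), [nat_lit 3, nat_lit 0])))) (.node (nat_lit 4408) (.leaf ((nat_lit 306), [nat_lit 2, nat_lit 1])) (.node (nat_lit 4409) (.leaf ((nat_lit 764), [nat_lit 2, nat_lit 0])) (.leaf ((nat_lit 939), [nat_lit 0, nat_lit 2, nat_lit 0])))))))))
 (.node (nat_lit 4455) (.node (nat_lit 4432) (.node (nat_lit 4421) (.node (nat_lit 4415) (.node (nat_lit 4412) (.node (nat_lit 4411) (.leaf ((nat_lit 393), [nat_lit 3, nat_lit 0])) (.leaf ((nat_lit 560), [nat_lit 0, nat_lit 2, nat_lit 0]))) (.node (nat_lit 4413) (.leaf ((nat_lit 925), [nat_lit 1])) (.node (nat_lit 4414) (.leaf ((nat_lit 664), [nat_lit 1, nat_lit 2, nat_lit 1])) (.leaf ((nat_lit 480), [nat_lit 0])))))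
 (.node (nat_lit 4418) (.node (nat_lit 4416) (.leaf ((nat_lit 307), [nat_lit 1, nat_lit 3])) (.node (nat_lit 4417) (.leaf ((nat_lit 308), [nat_lit 0, nat_lit 2, nat_lit 1])) (.leaf ((nat_lit 541), [nat_lit 0, nat_lit 3, nat_lit 1])))) (.node (nat_lit 4419) (.leaf ((nat_lit 903), [nat_lit 1, nat_lit 2, nat_lit 0])) (.node (nat_lit 4420) (.leaf ((nat_lit 647), [nat_lit 1, nat_lit 2, nat_lit 1])) (.leaf ((nat_lit 668), []))))))
 (.node (nat_lit 4426) (.node (nat_lit 4423) (.node (nat_lit 4422) (.leaf ((nat_lit 952), [nat_lit 1, nat_lit 3, nat_lit 0])) (.leaf ((nat_lit 309), [nat_lit 1, nat_lit 3, nat_lit 0]))) (.node (nat_lit 4424) (.leaf ((nat_lit 882), [nat_lit 0, nat_lit 3])) (.node (nat_lit 4425) (.leaf ((nat_lit 584), [nat_lit 0, nat_lit 3, nat_lit 0])) (.leaf ((nat_lit 674), [nat_lit 1, nat_lit 3, nat_lit 1])))))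
 (.node (nat_lit 4429) (.node (nat_lit 4427) (.leaf ((nat_lit 395), [nat_lit 2])) (.node (nat_lit 4428) (.leaf ((nat_lit 833), [nat_lit 2, nat_lit 1])) (.leaf ((nat_lit 562), [nat_lit 1, nat_lit 2])))) (.node (nat_lit 4430) (.leaf ((nat_lit 847), [nat_lit 3, nat_lit 1])) (.node (nat_lit 4431) (.leaf ((nat_lit 516), [nat_lit 1, nat_lit 2, nat_lit 0])) (.leaf ((nat_lit 310), [nat_lit 2, nat_lit 1])))))))
 (.node (nat_lit 4443) (.node (nat_lit 4437) (.node (nat_lit 4434) (.node (nat_lit 4433) (.leaf ((nat_lit 564), [])) (.leaf ((nat_lit 823), [nat_lit 0]))) (.node (nat_lit 4435) (.leaf ((nat_lit 789), [nat_lit 3, nat_lit 1])) (.node (nat_lit 4436) (.leaf ((nat_lit 843), [nat_lit 3, nat_lit 1])) (.leaf ((nat_lit 595), [nat_lit 3, nat_lit 1])))))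
 (.node (nat_lit 4440) (.node (nat_lit 4438) (.leaf ((nat_lit 564), [nat_lit 1, nat_lit 2, nat_lit 0])) (.node (nat_lit 4439) (.leaf ((nat_lit 310), [nat_lit 1, nat_lit 3])) (.leaf ((nat_lit 328), [nat_lit 0])))) (.node (nat_lit 4441) (.leaf ((nat_lit 715), [nat_lit 1, nat_lit 2, nat_lit 0])) (.node (nat_lit 4442) (.leaf ((nat_lit 851), [nat_lit 0, nat_lit 2, nat_lit 1])) (.leaf ((nat_lit 612), [nat_lit 1, nat_lit 2]))))))
 (.node (nat_lit 4449) (.node (nat_lit 4446) (.node (nat_lit 4444) (.leaf ((nat_lit 409), [nat_lit 0, nat_lit 2, nat_lit 0])) (.node (nat_lit 4445) (.leaf ((nat_lit 587), [nat_lit 2, nat_lit 1])) (.leaf ((nat_lit 310), [nat_lit 3, nat_lit 0])))) (.node (nat_lit 4447) (.leaf ((nat_lit 684), [nat_lit 2])) (.node (nat_lit 4448) (.leaf ((nat_lit 683), [nat_lit 0, nat_lit 3, nat_lit 0])) (.leaf ((nat_lit 583), [nat_lit 2])))))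
 (.node (nat_lit 4452) (.node (nat_lit 4450) (.leaf ((nat_lit 362), [nat_lit 1, nat_lit 3, nat_lit 1])) (.node (nat_lit 4451) (.leaf ((nat_lit 361), [nat_lit 2])) (.leaf ((nat_lit 311), [nat_lit 1, nat_lit 2, nat_lit 1])))) (.node (nat_lit 4453) (.leaf ((nat_lit 829), [nat_lit 3, nat_lit 0])) (.node (nat_lit 4454) (.leaf ((nat_lit 828), [nat_lit 2, nat_lit 0])) (.leaf ((nat_lit 614), [nat_lit 3, nat_lit 0]))))))))
 (.node (nat_lit 4477) (.node (nat_lit 4466) (.node (nat_lit 4460) (.node (nat_lit 4457) (.node (nat_lit 4456) (.leaf ((nat_lit 312), [nat_lit 3, nat_lit 0])) (.leaf ((nat_lit 382), [nat_lit 1, nat_lit 2, nat_lit 1]))) (.node (nat_lit 4458) (.leaf ((nat_lit 670), [nat_lit 0, nat_lit 3])) (.node (nat_lit 4459) (.leaf ((nat_lit 866), [nat_lit 2, nat_lit 1])) (.leaf ((nat_lit 376), [nat_lit 0, nat_lit 2, nat_lit 0])))))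
 (.node (nat_lit 4463) (.node (nat_lit 4461) (.leaf ((nat_lit 865), [nat_lit 0, nat_lit 2, nat_lit 0])) (.node (nat_lit 4462) (.leaf ((nat_lit 936), [nat_lit 0, nat_lit 3])) (.leaf ((nat_lit 865), [nat_lit 0, nat_lit 3, nat_lit 0])))) (.node (nat_lit 4464) (.leaf ((nat_lit 315), [nat_lit 0, nat_lit 3, nat_lit 1])) (.node (nat_lit 4465) (.leaf ((nat_lit 700), [nat_lit 2, nat_lit 1])) (.leaf ((nat_lit 317), [nat_lit 0, nat_lit 3]))))))
 (.node (nat_lit 4471) (.node (nat_lit 4468) (.node (nat_lit 4467) (.leaf ((nat_lit 316), [nat_lit 2, nat_lit 1])) (.leaf ((nat_lit 875), [nat_lit 2, nat_lit 0]))) (.node (nat_lit 4469) (.leaf ((nat_lit 493), [nat_lit 1, nat_lit 2, nat_lit 0])) (.node (nat_lit 4470) (.leaf ((nat_lit 686), [nat_lit 2])) (.leaf ((nat_lit 564), [nat_lit 0, nat_lit 3, nat_lit 1])))))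
 (.node (nat_lit 4474) (.node (nat_lit 4472) (.leaf ((nat_lit 455), [nat_lit 1, nat_lit 2, nat_lit 1])) (.node (nat_lit 4473) (.leaf ((nat_lit 637), [nat_lit 1])) (.leaf ((nat_lit 938), [nat_lit 1, nat_lit 3, nat_lit 1])))) (.node (nat_lit 4475) (.leaf ((nat_lit 794), [nat_lit 1, nat_lit 2])) (.node (nat_lit 4476) (.leaf ((nat_lit 316), [nat_lit 0, nat_lit 3, nat_lit 1])) (.leaf ((nat_lit 837), [nat_lit 3])))))))
 (.node (nat_lit 4488) (.node (nat_lit 4482) (.node (nat_lit 4479) (.node (nat_lit 4478) (.leaf ((nat_lit 671), [nat_lit 1, nat_lit 3, nat_lit 0])) (.leaf ((nat_lit 836), [nat_lit 3, nat_lit 0]))) (.node (nat_lit 4480) (.leaf ((nat_lit 924), [nat_lit 1])) (.node (nat_lit 4481) (.leaf ((nat_lit 925), [nat_lit 1, nat_lit 3, nat_lit 1])) (.leaf ((nat_lit 317), [nat_lit 1, nat_lit 2])))))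
 (.node (nat_lit 4485) (.node (nat_lit 4483) (.leaf ((nat_lit 752), [nat_lit 0, nat_lit 3])) (.node (nat_lit 4484) (.leaf ((nat_lit 723), [nat_lit 1, nat_lit 2, nat_lit 0])) (.leaf ((nat_lit 563), [nat_lit 0, nat_lit 3, nat_lit 0])))) (.node (nat_lit 4486) (.leaf ((nat_lit 858), [nat_lit 1, nat_lit 2, nat_lit 0])) (.node (nat_lit 4487) (.leaf ((nat_lit 319), [nat_lit 2, nat_lit 1])) (.leaf ((nat_lit 767), [nat_lit 1]))))))
 (.node (nat_lit 4494) (.node (nat_lit 4491) (.node (nat_lit 4489) (.leaf ((nat_lit 734), [])) (.node (nat_lit 4490) (.leaf ((nat_lit 730), [nat_lit 2, nat_lit 0])) (.leaf ((nat_lit 811), [nat_lit 0, nat_lit 3, nat_lit 0])))) (.node (nat_lit 4492) (.leaf ((nat_lit 324), [nat_lit 1])) (.node (nat_lit 4493) (.leaf ((nat_lit 472), [nat_lit 0, nat_lit 3, nat_lit 1])) (.leaf ((nat_lit 319), [nat_lit 2, nat_lit 0])))))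
 (.node (nat_lit 4497) (.node (nat_lit 4495) (.leaf ((nat_lit 548), [])) (.node (nat_lit 4496) (.leaf ((nat_lit 673), [nat_lit 0, nat_lit 2])) (.leaf ((nat_lit 869), [nat_lit 1, nat_lit 2, nat_lit 0])))) (.node (nat_lit 4498) (.leaf ((nat_lit 321), [nat_lit 0, nat_lit 2, nat_lit 0])) (.node (nat_lit 4499) (.leaf ((nat_lit 320), [nat_lit 2, nat_lit 1])) (.leaf ((nat_lit 567), [nat_lit 3, nat_lit 0]))))))))))
noncomputable def n1Wd_25 : Tr (ℕ × List ℕ) := (.node (nat_lit 4590) (.node (nat_lit 4545) (.node (nat_lit 4522) (.node (nat_lit 4511) (.node (nat_lit 4505) (.node (nat_lit 4502) (.node (nat_lit 4501) (.leaf ((nat_lit 902), [nat_lit 2, nat_lit 1])) (.leaf ((nat_lit 322), [nat_lit 0, nat_lit 2, nat_lit 0]))) (.node (nat_lit 4503) (.leaf ((nat_lit 799), [nat_lit 1, nat_lit 2])) (.node (nat_lit 4504) (.leaf ((nat_lit 759), [nat_lit 3, nat_lit 0])) (.leaf ((nat_lit 554), [nat_lit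 2, nat_lit 0])))))
 (.node (nat_lit 4508) (.node (nat_lit 4506) (.leaf ((nat_lit 632), [nat_lit 1, nat_lit 3])) (.node (nat_lit 4507) (.leaf ((nat_lit 364), [nat_lit 0, nat_lit 3, nat_lit 1])) (.leaf ((nat_lit 360), [nat_lit 1, nat_lit 2, nat_lit 0])))) (.node (nat_lit 4509) (.leaf ((nat_lit 359), [nat_lit 1, nat_lit 2])) (.node (nat_lit 4510) (.leaf ((nat_lit 323), [nat_lit 1, nat_lit 2, nat_lit 0])) (.leaf ((nat_lit 322), [nat_lit 2, nat_lit 1]))))))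
 (.node (nat_lit 4516) (.node (nat_lit 4513) (.node (nat_lit 4512) (.leaf ((nat_lit 944), [nat_lit 1, nat_lit 2, nat_lit 1])) (.leaf ((nat_lit 747), [nat_lit 2, nat_lit 1]))) (.node (nat_lit 4514) (.leaf ((nat_lit 323), [nat_lit 1, nat_lit 3, nat_lit 1])) (.node (nat_lit 4515) (.leaf ((nat_lit 350), [nat_lit 3, nat_lit 0])) (.leaf ((nat_lit 893), [])))))
 (.node (nat_lit 4519) (.node (nat_lit 4517) (.leaf ((nat_lit 723), [nat_lit 0, nat_lit 2])) (.node (nat_lit 4518) (.leaf ((nat_lit 720), [nat_lit 0, nat_lit 3, nat_lit 0])) (.leaf ((nat_lit 324), [nat_lit 1])))) (.node (nat_lit 4520) (.leaf ((nat_lit 941), [nat_lit 1, nat_lit 3, nat_lit 0])) (.node (nat_lit 4521) (.leaf ((nat_lit 897), [nat_lit 0, nat_lit 3, nat_lit 0])) (.leaf ((nat_lit 657), [nat_lit 0, nat_lit 2])))))))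
 (.node (nat_lit 4533) (.node (nat_lit 4527) (.node (nat_lit 4524) (.node (nat_lit 4523) (.leaf ((nat_lit 953), [nat_lit 0, nat_lit 2, nat_lit 1])) (.leaf ((nat_lit 949), [nat_lit 0, nat_lit 2]))) (.node (nat_lit 4525) (.leaf ((nat_lit 558), [nat_lit 1, nat_lit 2, nat_lit 1])) (.node (nat_lit 4526) (.leaf ((nat_lit 547), [nat_lit 3])) (.leaf ((nat_lit 533), [nat_lit 1, nat_lit 3])))))
 (.node (nat_lit 4530) (.node (nat_lit 4528) (.leaf ((nat_lit 461), [nat_lit 0, nat_lit 2, nat_lit 0])) (.node (nat_lit 4529) (.leaf ((nat_lit 325), [nat_lit 3])) (.leaf ((nat_lit 643), [nat_lit 2, nat_lit 0])))) (.node (nat_lit 4531) (.leaf ((nat_lit 814), [nat_lit 1, nat_lit 3, nat_lit 1])) (.node (nat_lit 4532) (.leaf ((nat_lit 326), [])) (.leaf ((nat_lit 699), [nat_lit 1, nat_lit 3, nat_lit 0]))))))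
 (.node (nat_lit 4539) (.node (nat_lit 4536) (.node (nat_lit 4534) (.leaf ((nat_lit 571), [nat_lit 2, nat_lit 0])) (.node (nat_lit 4535) (.leaf ((nat_lit 547), [nat_lit 1, nat_lit 3, nat_lit 1])) (.leaf ((nat_lit 650), [nat_lit 1, nat_lit 3, nat_lit 1])))) (.node (nat_lit 4537) (.leaf ((nat_lit 329), [nat_lit 2])) (.node (nat_lit 4538) (.leaf ((nat_lit 413), [nat_lit 1, nat_lit 3, nat_lit 0])) (.leaf ((nat_lit 635), [nat_lit 1, nat_lit 3, nat_lit 0])))))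
 (.node (nat_lit 4542) (.node (nat_lit 4540) (.leaf ((nat_lit 953), [nat_lit 1, nat_lit 3, nat_lit 0])) (.node (nat_lit 4541) (.leaf ((nat_lit 657), [])) (.leaf ((nat_lit 841), [nat_lit 0, nat_lit 3, nat_lit 1])))) (.node (nat_lit 4543) (.leaf ((nat_lit 413), [nat_lit 1, nat_lit 2, nat_lit 1])) (.node (nat_lit 4544) (.leaf ((nat_lit 329), [nat_lit 0, nat_lit 3, nat_lit 0])) (.leaf ((nat_lit 926), [nat_lit 2, nat_lit 0]))))))))
 (.node (nat_lit 4567) (.node (nat_lit 4556) (.node (nat_lit 4550) (.node (nat_lit 4547) (.node (nat_lit 4546) (.leaf ((nat_lit 947), [nat_lit 0, nat_lit 3])) (.leaf ((nat_lit 692), [nat_lit 1, nat_lit 3, nat_lit 1]))) (.node (nat_lit 4548) (.leaf ((nat_lit 489), [nat_lit 1])) (.node (nat_lit 4549) (.leaf ((nat_lit 635), [nat_lit 3, nat_lit 1])) (.leaf ((nat_lit 926), [nat_lit 0, nat_lit 2, nat_lit 1])))))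
 (.node (nat_lit 4553) (.node (nat_lit 4551) (.leaf ((nat_lit 329), [nat_lit 3, nat_lit 0])) (.node (nat_lit 4552) (.leaf ((nat_lit 356), [nat_lit 3, nat_lit 0])) (.leaf ((nat_lit 917), [nat_lit 0, nat_lit 3, nat_lit 1])))) (.node (nat_lit 4554) (.leaf ((nat_lit 448), [nat_lit 0, nat_lit 2, nat_lit 0])) (.node (nat_lit 4555) (.leaf ((nat_lit 331), [nat_lit 0])) (.leaf ((nat_lit 434), [nat_lit 1, nat_lit 3]))))))
 (.node (nat_lit 4561) (.node (nat_lit 4558) (.node (nat_lit 4557) (.leaf ((nat_lit 330), [nat_lit 2])) (.leaf ((nat_lit 750), [nat_lit 1, nat_lit 2]))) (.node (nat_lit 4559) (.leaf ((nat_lit 526), [nat_lit 1, nat_lit 3, nat_lit 1])) (.node (nat_lit 4560) (.leaf ((nat_lit 634), [nat_lit 2])) (.leaf ((nat_lit 369), [nat_lit 2])))))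
 (.node (nat_lit 4564) (.node (nat_lit 4562) (.leaf ((nat_lit 592), [nat_lit 1, nat_lit 3])) (.node (nat_lit 4563) (.leaf ((nat_lit 452), [nat_lit 2, nat_lit 0])) (.leaf ((nat_lit 779), [nat_lit 0, nat_lit 2])))) (.node (nat_lit 4565) (.leaf ((nat_lit 331), [nat_lit 2, nat_lit 1])) (.node (nat_lit 4566) (.leaf ((nat_lit 691), [nat_lit 1, nat_lit 2, nat_lit 0])) (.leaf ((nat_lit 662), [nat_lit 0, nat_lit 2, nat_lit 1])))))))
 (.node (nat_lit 4578) (.node (nat_lit 4572) (.node (nat_lit 4569) (.node (nat_lit 4568) (.leaf ((nat_lit 879), [nat_lit 2, nat_lit 1])) (.leaf ((nat_lit 720), [nat_lit 0, nat_lit 3, nat_lit 1]))) (.node (nat_lit 4570) (.leaf ((nat_lit 512), [nat_lit 2])) (.node (nat_lit 4571) (.leaf ((nat_lit 489), [nat_lit 2, nat_lit 0])) (.leaf ((nat_lit 331), [nat_lit 0, nat_lit 3])))))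
 (.node (nat_lit 4575) (.node (nat_lit 4573) (.leaf ((nat_lit 333), [nat_lit 0, nat_lit 3])) (.node (nat_lit 4574) (.leaf ((nat_lit 604), [nat_lit 1, nat_lit 3, nat_lit 0])) (.leaf ((nat_lit 603), [nat_lit 0])))) (.node (nat_lit 4576) (.leaf ((nat_lit 518), [nat_lit 2, nat_lit 0])) (.node (nat_lit 4577) (.leaf ((nat_lit 770), [nat_lit 0, nat_lit 3])) (.leaf ((nat_lit 879), [nat_lit 0, nat_lit 2, nat_lit 1]))))))
 (.node (nat_lit 4584) (.node (nat_lit 4581) (.node (nat_lit 4579) (.leaf ((nat_lit 954), [nat_lit 0])) (.node (nat_lit 4580) (.leaf ((nat_lit 862), [nat_lit 1])) (.leaf ((nat_lit 712), [nat_lit 1, nat_lit 3, nat_lit 1])))) (.node (nat_lit 4582) (.leaf ((nat_lit 345), [nat_lit 1, nat_lit 2, nat_lit 0])) (.node (nat_lit 4583) (.leaf ((nat_lit 693), [nat_lit 0, nat_lit 3, nat_lit 1])) (.leaf ((nat_lit 333), [nat_lit 2, nat_lit 0])))))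
 (.node (nat_lit 4587) (.node (nat_lit 4585) (.leaf ((nat_lit 334), [nat_lit 1, nat_lit 3, nat_lit 0])) (.node (nat_lit 4586) (.leaf ((nat_lit 955), [nat_lit 1, nat_lit 2, nat_lit 0])) (.leaf ((nat_lit 935), [nat_lit 0, nat_lit 2])))) (.node (nat_lit 4588) (.leaf ((nat_lit 667), [nat_lit 2, nat_lit 0])) (.node (nat_lit 4589) (.leaf ((nat_lit 734), [nat_lit 1, nat_lit 3])) (.leaf ((nat_lit 950), [nat_lit 1, nat_lit 3, nat_lit 1])))))))))
 (.node (nat_lit 4635) (.node (nat_lit 4612) (.node (nat_lit 4601) (.node (nat_lit 4595) (.node (nat_lit 4592) (.node (nat_lit 4591) (.leaf ((nat_lit 955), [nat_lit 1, nat_lit 3, nat_lit 1])) (.leaf ((nat_lit 334), [nat_lit 0]))) (.node (nat_lit 4593) (.leaf ((nat_lit 483), [nat_lit 3, nat_lit 0])) (.node (nat_lit 4594) (.leaf ((nat_lit 712), [nat_lit 1, nat_lit 3, nat_lit 1])) (.leaf ((nat_lit 505), [nat_lit 0, nat_lit 2, nat_lit 0])))))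
 (.node (nat_lit 4598) (.node (nat_lit 4596) (.leaf ((nat_lit 806), [nat_lit 0, nat_lit 2, nat_lit 1])) (.node (nat_lit 4597) (.leaf ((nat_lit 935), [nat_lit 1, nat_lit 2])) (.leaf ((nat_lit 483), [nat_lit 1])))) (.node (nat_lit 4599) (.leaf ((nat_lit 334), [nat_lit 2, nat_lit 1])) (.node (nat_lit 4600) (.leaf ((nat_lit 782), [nat_lit 2, nat_lit 1])) (.leaf ((nat_lit 490), [nat_lit 1]))))))
 (.node (nat_lit 4606) (.node (nat_lit 4603) (.node (nat_lit 4602) (.leaf ((nat_lit 535), [nat_lit 1, nat_lit 2, nat_lit 0])) (.leaf ((nat_lit 953), [nat_lit 1, nat_lit 3, nat_lit 0]))) (.node (nat_lit 4604) (.leaf ((nat_lit 921), [nat_lit 1, nat_lit 3])) (.node (nat_lit 4605) (.leaf ((nat_lit 508), [nat_lit 0, nat_lit 3, nat_lit 1])) (.leaf ((nat_lit 334), [nat_lit 0, nat_lit 2])))))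
 (.node (nat_lit 4609) (.node (nat_lit 4607) (.leaf ((nat_lit 876), [nat_lit 0, nat_lit 3])) (.node (nat_lit 4608) (.leaf ((nat_lit 747), [nat_lit 0])) (.leaf ((nat_lit 462), [nat_lit 1, nat_lit 3, nat_lit 0])))) (.node (nat_lit 4610) (.leaf ((nat_lit 583), [])) (.node (nat_lit 4611) (.leaf ((nat_lit 683), [nat_lit 3, nat_lit 0])) (.leaf ((nat_lit 335), [nat_lit 0])))))))
 (.node (nat_lit 4623) (.node (nat_lit 4617) (.node (nat_lit 4614) (.node (nat_lit 4613) (.leaf ((nat_lit 602), [nat_lit 1])) (.leaf ((nat_lit 616), [nat_lit 1, nat_lit 3]))) (.node (nat_lit 4615) (.leaf ((nat_lit 443), [nat_lit 1, nat_lit 2, nat_lit 0])) (.node (nat_lit 4616) (.leaf ((nat_lit 563), [nat_lit 0, nat_lit 3, nat_lit 0])) (.leaf ((nat_lit 723), [nat_lit 1, nat_lit 2, nat_lit 0])))))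
 (.node (nat_lit 4620) (.node (nat_lit 4618) (.leaf ((nat_lit 602), [])) (.node (nat_lit 4619) (.leaf ((nat_lit 335), [nat_lit 1])) (.leaf ((nat_lit 786), [nat_lit 2, nat_lit 1])))) (.node (nat_lit 4621) (.leaf ((nat_lit 893), [nat_lit 3, nat_lit 1])) (.node (nat_lit 4622) (.leaf ((nat_lit 340), [nat_lit 0, nat_lit 3])) (.leaf ((nat_lit 339), []))))))
 (.node (nat_lit 4629) (.node (nat_lit 4626) (.node (nat_lit 4624) (.leaf ((nat_lit 539), [nat_lit 1, nat_lit 2])) (.node (nat_lit 4625) (.leaf ((nat_lit 762), [nat_lit 2, nat_lit 1])) (.leaf ((nat_lit 810), [nat_lit 1, nat_lit 3, nat_lit 0])))) (.node (nat_lit 4627) (.leaf ((nat_lit 600), [nat_lit 2])) (.node (nat_lit 4628) (.leaf ((nat_lit 678), [nat_lit 1, nat_lit 3])) (.leaf ((nat_lit 686), [nat_lit 0, nat_lit 3])))))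
 (.node (nat_lit 4632) (.node (nat_lit 4630) (.leaf ((nat_lit 339), [nat_lit 0, nat_lit 2, nat_lit 1])) (.node (nat_lit 4631) (.leaf ((nat_lit 869), [nat_lit 1, nat_lit 2])) (.leaf ((nat_lit 352), [nat_lit 0, nat_lit 2, nat_lit 0])))) (.node (nat_lit 4633) (.leaf ((nat_lit 706), [nat_lit 0, nat_lit 3, nat_lit 0])) (.node (nat_lit 4634) (.leaf ((nat_lit 367), [nat_lit 2, nat_lit 1])) (.leaf ((nat_lit 779), [nat_lit 3, nat_lit 0]))))))))
 (.node (nat_lit 4657) (.node (nat_lit 4646) (.node (nat_lit 4640) (.node (nat_lit 4637) (.node (nat_lit 4636) (.leaf ((nat_lit 467), [nat_lit 2, nat_lit 0])) (.leaf ((nat_lit 923), [nat_lit 0, nat_lit 3, nat_lit 0]))) (.node (nat_lit 4638) (.leaf ((nat_lit 339), [nat_lit 3])) (.node (nat_lit 4639) (.leaf ((nat_lit 661), [nat_lit 1, nat_lit 3, nat_lit 1])) (.leaf ((nat_lit 536), [nat_lit 3, nat_lit 0])))))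
 (.node (nat_lit 4643) (.node (nat_lit 4641) (.leaf ((nat_lit 786), [nat_lit 3])) (.node (nat_lit 4642) (.leaf ((nat_lit 340), [nat_lit 0, nat_lit 2, nat_lit 1])) (.leaf ((nat_lit 806), [nat_lit 0, nat_lit 3])))) (.node (nat_lit 4644) (.leaf ((nat_lit 346), [nat_lit 0, nat_lit 2, nat_lit 0])) (.node (nat_lit 4645) (.leaf ((nat_lit 779), [nat_lit 0, nat_lit 2])) (.leaf ((nat_lit 920), [nat_lit 0, nat_lit 2, nat_lit 1]))))))
 (.node (nat_lit 4651) (.node (nat_lit 4648) (.node (nat_lit 4647) (.leaf ((nat_lit 706), [nat_lit 1, nat_lit 2])) (.leaf ((nat_lit 806), []))) (.node (nat_lit 4649) (.leaf ((nat_lit 340), [nat_lit 2])) (.node (nat_lit 4650) (.leaf ((nat_lit 730), [nat_lit 0])) (.leaf ((nat_lit 343), [nat_lit 1, nat_lit 3, nat_lit 0])))))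
 (.node (nat_lit 4654) (.node (nat_lit 4652) (.leaf ((nat_lit 732), [nat_lit 1, nat_lit 2, nat_lit 0])) (.node (nat_lit 4653) (.leaf ((nat_lit 956), [nat_lit 0, nat_lit 3])) (.leaf ((nat_lit 511), [nat_lit 1, nat_lit 3])))) (.node (nat_lit 4655) (.leaf ((nat_lit 939), [nat_lit 1, nat_lit 3])) (.node (nat_lit 4656) (.leaf ((nat_lit 727), [nat_lit 1, nat_lit 2])) (.leaf ((nat_lit 956), [nat_lit 2])))))))
 (.node (nat_lit 4668) (.node (nat_lit 4662) (.node (nat_lit 4659) (.node (nat_lit 4658) (.leaf ((nat_lit 733), [nat_lit 2, nat_lit 1])) (.leaf ((nat_lit 343), []))) (.node (nat_lit 4660) (.leaf ((nat_lit 691), [nat_lit 1, nat_lit 3, nat_lit 0])) (.node (nat_lit 4661) (.leaf ((nat_lit 690), [nat_lit 2])) (.leaf ((nat_lit 858), [nat_lit 0, nat_lit 3])))))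
 (.node (nat_lit 4665) (.node (nat_lit 4663) (.leaf ((nat_lit 345), [])) (.node (nat_lit 4664) (.leaf ((nat_lit 344), [nat_lit 3, nat_lit 0])) (.leaf ((nat_lit 908), [nat_lit 0, nat_lit 2])))) (.node (nat_lit 4666) (.leaf ((nat_lit 894), [nat_lit 2, nat_lit 0])) (.node (nat_lit 4667) (.leaf ((nat_lit 732), [nat_lit 0, nat_lit 3])) (.leaf ((nat_lit 938), [nat_lit 0]))))))
 (.node (nat_lit 4674) (.node (nat_lit 4671) (.node (nat_lit 4669) (.leaf ((nat_lit 781), [nat_lit 0, nat_lit 2, nat_lit 0])) (.node (nat_lit 4670) (.leaf ((nat_lit 780), [nat_lit 0, nat_lit 2])) (.leaf ((nat_lit 948), [nat_lit 1, nat_lit 3, nat_lit 1])))) (.node (nat_lit 4672) (.leaf ((nat_lit 692), [nat_lit 1, nat_lit 3])) (.node (nat_lit 4673) (.leaf ((nat_lit 947), [nat_lit 0, nat_lit 3, nat_lit 0])) (.leaf ((nat_lit 344), [nat_lit 1, nat_lit 3])))))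
 (.node (nat_lit 4677) (.node (nat_lit 4675) (.leaf ((nat_lit 774), [nat_lit 3, nat_lit 1])) (.node (nat_lit 4676) (.leaf ((nat_lit 806), [nat_lit 0, nat_lit 3, nat_lit 1])) (.leaf ((nat_lit 772), [nat_lit 1, nat_lit 2])))) (.node (nat_lit 4678) (.leaf ((nat_lit 760), [nat_lit 3, nat_lit 1])) (.node (nat_lit 4679) (.leaf ((nat_lit 535), [nat_lit 1, nat_lit 3])) (.leaf ((nat_lit 345), [nat_lit 1, nat_lit 2, nat_lit 0]))))))))))
noncomputable def n1Wd_26 : Tr (ℕ × List ℕ) := (.node (nat_lit 4770) (.node (nat_lit 4725) (.node (nat_lit 4702) (.node (nat_lit 4691) (.node (nat_lit 4685) (.node (nat_lit 4682) (.node (nat_lit 4681) (.leaf ((nat_lit 347), [nat_lit 0, nat_lit 3, nat_lit 0])) (.leaf ((nat_lit 778), [nat_lit 3, nat_lit 1]))) (.node (nat_lit 4683) (.leaf ((nat_lit 929), [nat_lit 1, nat_lit 3, nat_lit 1])) (.node (nat_lit 4684) (.leaf ((nat_lit 794), [nat_lit 1])) (.leaf ((nat_lit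 938), [nat_lit 2, nat_lit 0])))))
 (.node (nat_lit 4688) (.node (nat_lit 4686) (.leaf ((nat_lit 955), [nat_lit 1, nat_lit 2, nat_lit 1])) (.node (nat_lit 4687) (.leaf ((nat_lit 778), [nat_lit 1, nat_lit 3, nat_lit 1])) (.leaf ((nat_lit 347), [nat_lit 0, nat_lit 2, nat_lit 0])))) (.node (nat_lit 4689) (.leaf ((nat_lit 906), [nat_lit 3])) (.node (nat_lit 4690) (.leaf ((nat_lit 862), [nat_lit 3])) (.leaf ((nat_lit 504), [nat_lit 1, nat_lit 2, nat_lit 0]))))))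
 (.node (nat_lit 4696) (.node (nat_lit 4693) (.node (nat_lit 4692) (.leaf ((nat_lit 807), [nat_lit 1, nat_lit 3, nat_lit 1])) (.leaf ((nat_lit 929), [nat_lit 2]))) (.node (nat_lit 4694) (.leaf ((nat_lit 906), [nat_lit 0])) (.node (nat_lit 4695) (.leaf ((nat_lit 347), [nat_lit 3])) (.leaf ((nat_lit 766), [nat_lit 0, nat_lit 3])))))
 (.node (nat_lit 4699) (.node (nat_lit 4697) (.leaf ((nat_lit 491), [nat_lit 0, nat_lit 3])) (.node (nat_lit 4698) (.leaf ((nat_lit 604), [nat_lit 1, nat_lit 2, nat_lit 0])) (.leaf ((nat_lit 458), [nat_lit 0, nat_lit 2])))) (.node (nat_lit 4700) (.leaf ((nat_lit 857), [nat_lit 0, nat_lit 3])) (.node (nat_lit 4701) (.leaf ((nat_lit 368), [nat_lit 3])) (.leaf ((nat_lit 570), [nat_lit 2, nat_lit 1])))))))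
 (.node (nat_lit 4713) (.node (nat_lit 4707) (.node (nat_lit 4704) (.node (nat_lit 4703) (.leaf ((nat_lit 423), [nat_lit 0, nat_lit 2, nat_lit 0])) (.leaf ((nat_lit 350), [nat_lit 1, nat_lit 2]))) (.node (nat_lit 4705) (.leaf ((nat_lit 614), [nat_lit 0, nat_lit 2, nat_lit 1])) (.node (nat_lit 4706) (.leaf ((nat_lit 830), [nat_lit 1, nat_lit 3, nat_lit 0])) (.leaf ((nat_lit 829), [nat_lit 0, nat_lit 2, nat_lit 1])))))
 (.node (nat_lit 4710) (.node (nat_lit 4708) (.leaf ((nat_lit 401), [nat_lit 3])) (.node (nat_lit 4709) (.leaf ((nat_lit 351), [nat_lit 2])) (.leaf ((nat_lit 891), [nat_lit 0, nat_lit 2, nat_lit 0])))) (.node (nat_lit 4711) (.leaf ((nat_lit 798), [nat_lit 1, nat_lit 2, nat_lit 1])) (.node (nat_lit 4712) (.leaf ((nat_lit 353), [nat_lit 0, nat_lit 3, nat_lit 0])) (.leaf ((nat_lit 855), [nat_lit 1, nat_lit 2, nat_lit 1]))))))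
 (.node (nat_lit 4719) (.node (nat_lit 4716) (.node (nat_lit 4714) (.leaf ((nat_lit 686), [nat_lit 1, nat_lit 2, nat_lit 0])) (.node (nat_lit 4715) (.leaf ((nat_lit 675), [nat_lit 1, nat_lit 3, nat_lit 1])) (.leaf ((nat_lit 507), [nat_lit 3, nat_lit 0])))) (.node (nat_lit 4717) (.leaf ((nat_lit 435), [nat_lit 1, nat_lit 2, nat_lit 1])) (.node (nat_lit 4718) (.leaf ((nat_lit 593), [nat_lit 1, nat_lit 3, nat_lit 1])) (.leaf ((nat_lit 773), [nat_lit 2])))))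
 (.node (nat_lit 4722) (.node (nat_lit 4720) (.leaf ((nat_lit 353), [nat_lit 0, nat_lit 3, nat_lit 0])) (.node (nat_lit 4721) (.leaf ((nat_lit 572), [nat_lit 2])) (.leaf ((nat_lit 769), [nat_lit 0, nat_lit 3])))) (.node (nat_lit 4723) (.leaf ((nat_lit 454), [nat_lit 1, nat_lit 2, nat_lit 1])) (.node (nat_lit 4724) (.leaf ((nat_lit 676), [nat_lit 1, nat_lit 3, nat_lit 1])) (.leaf ((nat_lit 579), [nat_lit 1, nat_lit 2, nat_lit 0]))))))))
 (.node (nat_lit 4747) (.node (nat_lit 4736) (.node (nat_lit 4730) (.node (nat_lit 4727) (.node (nat_lit 4726) (.leaf ((nat_lit 572), [nat_lit 2])) (.leaf ((nat_lit 353), [nat_lit 0, nat_lit 3, nat_lit 0]))) (.node (nat_lit 4728) (.leaf ((nat_lit 892), [nat_lit 1, nat_lit 2, nat_lit 0])) (.node (nat_lit 4729) (.leaf ((nat_lit 355), [nat_lit 0])) (.leaf ((nat_lit 354), [nat_lit 0, nat_lit 2, nat_lit 1])))))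
 (.node (nat_lit 4733) (.node (nat_lit 4731) (.leaf ((nat_lit 846), [nat_lit 3, nat_lit 0])) (.node (nat_lit 4732) (.leaf ((nat_lit 940), [nat_lit 0, nat_lit 2])) (.leaf ((nat_lit 405), [nat_lit 0, nat_lit 3, nat_lit 1])))) (.node (nat_lit 4734) (.leaf ((nat_lit 440), [nat_lit 1, nat_lit 2, nat_lit 1])) (.node (nat_lit 4735) (.leaf ((nat_lit 739), [nat_lit 0, nat_lit 2])) (.leaf ((nat_lit 408), [nat_lit 3, nat_lit 1]))))))
 (.node (nat_lit 4741) (.node (nat_lit 4738) (.node (nat_lit 4737) (.leaf ((nat_lit 633), [nat_lit 3, nat_lit 0])) (.leaf ((nat_lit 722), [nat_lit 2]))) (.node (nat_lit 4739) (.leaf ((nat_lit 354), [nat_lit 0, nat_lit 2])) (.node (nat_lit 4740) (.leaf ((nat_lit 415), [nat_lit 2, nat_lit 0])) (.leaf ((nat_lit 846), [nat_lit 3])))))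
 (.node (nat_lit 4744) (.node (nat_lit 4742) (.leaf ((nat_lit 356), [nat_lit 1, nat_lit 3])) (.node (nat_lit 4743) (.leaf ((nat_lit 355), [])) (.leaf ((nat_lit 911), [nat_lit 3, nat_lit 1])))) (.node (nat_lit 4745) (.leaf ((nat_lit 709), [nat_lit 1, nat_lit 3, nat_lit 1])) (.node (nat_lit 4746) (.leaf ((nat_lit 496), [nat_lit 0])) (.leaf ((nat_lit 862), [nat_lit 0, nat_lit 3, nat_lit 1])))))))
 (.node (nat_lit 4758) (.node (nat_lit 4752) (.node (nat_lit 4749) (.node (nat_lit 4748) (.leaf ((nat_lit 954), [nat_lit 3, nat_lit 1])) (.leaf ((nat_lit 896), [nat_lit 1, nat_lit 3]))) (.node (nat_lit 4750) (.leaf ((nat_lit 355), [nat_lit 1])) (.node (nat_lit 4751) (.leaf ((nat_lit 955), [nat_lit 1, nat_lit 2, nat_lit 1])) (.leaf ((nat_lit 957), [nat_lit 0, nat_lit 3, nat_lit 0])))))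
 (.node (nat_lit 4755) (.node (nat_lit 4753) (.leaf ((nat_lit 580), [nat_lit 0, nat_lit 3, nat_lit 1])) (.node (nat_lit 4754) (.leaf ((nat_lit 827), [nat_lit 0, nat_lit 2, nat_lit 1])) (.leaf ((nat_lit 894), [nat_lit 0, nat_lit 2, nat_lit 0])))) (.node (nat_lit 4756) (.leaf ((nat_lit 955), [nat_lit 1, nat_lit 2])) (.node (nat_lit 4757) (.leaf ((nat_lit 355), [])) (.leaf ((nat_lit 503), [nat_lit 1]))))))
 (.node (nat_lit 4764) (.node (nat_lit 4761) (.node (nat_lit 4759) (.leaf ((nat_lit 510), [nat_lit 0, nat_lit 2, nat_lit 0])) (.node (nat_lit 4760) (.leaf ((nat_lit 507), [nat_lit 1, nat_lit 3, nat_lit 0])) (.leaf ((nat_lit 506), [nat_lit 0, nat_lit 2])))) (.node (nat_lit 4762) (.leaf ((nat_lit 688), [nat_lit 1, nat_lit 3, nat_lit 1])) (.node (nat_lit 4763) (.leaf ((nat_lit 370), [nat_lit 1, nat_lit 2, nat_lit 1])) (.leaf ((nat_lit 355), [nat_lit 3, nat_lit 0])))))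
 (.node (nat_lit 4767) (.node (nat_lit 4765) (.leaf ((nat_lit 357), [nat_lit 1, nat_lit 2, nat_lit 1])) (.node (nat_lit 4766) (.leaf ((nat_lit 867), [nat_lit 1, nat_lit 2, nat_lit 1])) (.leaf ((nat_lit 663), [nat_lit 1, nat_lit 3])))) (.node (nat_lit 4768) (.leaf ((nat_lit 780), [nat_lit 0])) (.node (nat_lit 4769) (.leaf ((nat_lit 745), [nat_lit 3, nat_lit 0])) (.leaf ((nat_lit 693), [nat_lit 3, nat_lit 0])))))))))
 (.node (nat_lit 4815) (.node (nat_lit 4792) (.node (nat_lit 4781) (.node (nat_lit 4775) (.node (nat_lit 4772) (.node (nat_lit 4771) (.leaf ((nat_lit 867), [nat_lit 3, nat_lit 1])) (.leaf ((nat_lit 357), [nat_lit 3, nat_lit 1]))) (.node (nat_lit 4773) (.leaf ((nat_lit 880), [nat_lit 1])) (.node (nat_lit 4774) (.leaf ((nat_lit 954), [nat_lit 1, nat_lit 2, nat_lit 1])) (.leaf ((nat_lit 696), [nat_lit 0, nat_lit 2, nat_lit 0])))))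
 (.node (nat_lit 4778) (.node (nat_lit 4776) (.leaf ((nat_lit 491), [nat_lit 0, nat_lit 2, nat_lit 0])) (.node (nat_lit 4777) (.leaf ((nat_lit 663), [nat_lit 1, nat_lit 3])) (.leaf ((nat_lit 880), [nat_lit 1, nat_lit 2])))) (.node (nat_lit 4779) (.leaf ((nat_lit 357), [nat_lit 1, nat_lit 2, nat_lit 1])) (.node (nat_lit 4780) (.leaf ((nat_lit 666), [nat_lit 2, nat_lit 1])) (.leaf ((nat_lit 514), [nat_lit 2, nat_lit 0]))))))
 (.node (nat_lit 4786) (.node (nat_lit 4783) (.node (nat_lit 4782) (.leaf ((nat_lit 391), [nat_lit 0, nat_lit 2, nat_lit 1])) (.leaf ((nat_lit 881), [nat_lit 2]))) (.node (nat_lit 4784) (.leaf ((nat_lit 899), [nat_lit 0, nat_lit 3])) (.node (nat_lit 4785) (.leaf ((nat_lit 590), [nat_lit 2, nat_lit 0])) (.leaf ((nat_lit 358), [nat_lit 2, nat_lit 0])))))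
 (.node (nat_lit 4789) (.node (nat_lit 4787) (.leaf ((nat_lit 357), [nat_lit 1, nat_lit 3])) (.node (nat_lit 4788) (.leaf ((nat_lit 943), [nat_lit 0, nat_lit 3])) (.leaf ((nat_lit 785), [nat_lit 0, nat_lit 3, nat_lit 0])))) (.node (nat_lit 4790) (.leaf ((nat_lit 361), [nat_lit 0, nat_lit 3, nat_lit 0])) (.node (nat_lit 4791) (.leaf ((nat_lit 422), [nat_lit 0, nat_lit 2, nat_lit 0])) (.leaf ((nat_lit 501), [nat_lit 1])))))))
 (.node (nat_lit 4803) (.node (nat_lit 4797) (.node (nat_lit 4794) (.node (nat_lit 4793) (.leaf ((nat_lit 802), [nat_lit 0, nat_lit 3, nat_lit 0])) (.leaf ((nat_lit 477), [nat_lit 1]))) (.node (nat_lit 4795) (.leaf ((nat_lit 586), [nat_lit 2])) (.node (nat_lit 4796) (.leaf ((nat_lit 363), [nat_lit 2, nat_lit 0])) (.leaf ((nat_lit 750), [nat_lit 3, nat_lit 0])))))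
 (.node (nat_lit 4800) (.node (nat_lit 4798) (.leaf ((nat_lit 447), [nat_lit 0, nat_lit 3])) (.node (nat_lit 4799) (.leaf ((nat_lit 854), [nat_lit 0, nat_lit 3, nat_lit 0])) (.leaf ((nat_lit 502), [nat_lit 0, nat_lit 2])))) (.node (nat_lit 4801) (.leaf ((nat_lit 858), [nat_lit 0, nat_lit 3, nat_lit 0])) (.node (nat_lit 4802) (.leaf ((nat_lit 368), [nat_lit 1, nat_lit 2, nat_lit 0])) (.leaf ((nat_lit 857), [nat_lit 2, nat_lit 0]))))))
 (.node (nat_lit 4809) (.node (nat_lit 4806) (.node (nat_lit 4804) (.leaf ((nat_lit 820), [nat_lit 0, nat_lit 3, nat_lit 0])) (.node (nat_lit 4805) (.leaf ((nat_lit 364), [nat_lit 2, nat_lit 0])) (.leaf ((nat_lit 708), [nat_lit 0, nat_lit 3, nat_lit 0])))) (.node (nat_lit 4807) (.leaf ((nat_lit 727), [nat_lit 1, nat_lit 2])) (.node (nat_lit 4808) (.leaf ((nat_lit 508), [nat_lit 3, nat_lit 1])) (.leaf ((nat_lit 921), [nat_lit 2, nat_lit 1])))))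
 (.node (nat_lit 4812) (.node (nat_lit 4810) (.leaf ((nat_lit 934), [nat_lit 1, nat_lit 3, nat_lit 1])) (.node (nat_lit 4811) (.leaf ((nat_lit 496), [nat_lit 1, nat_lit 2])) (.leaf ((nat_lit 364), [])))) (.node (nat_lit 4813) (.leaf ((nat_lit 678), [nat_lit 2, nat_lit 1])) (.node (nat_lit 4814) (.leaf ((nat_lit 600), [nat_lit 0, nat_lit 3])) (.leaf ((nat_lit 365), [nat_lit 2, nat_lit 0]))))))))
 (.node (nat_lit 4837) (.node (nat_lit 4826) (.node (nat_lit 4820) (.node (nat_lit 4817) (.node (nat_lit 4816) (.leaf ((nat_lit 494), [nat_lit 1])) (.leaf ((nat_lit 798), [nat_lit 1, nat_lit 2, nat_lit 1]))) (.node (nat_lit 4818) (.leaf ((nat_lit 498), [nat_lit 0])) (.node (nat_lit 4819) (.leaf ((nat_lit 399), [nat_lit 0, nat_lit 3])) (.leaf ((nat_lit 425), [nat_lit 0, nat_lit 2, nat_lit 0])))))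
 (.node (nat_lit 4823) (.node (nat_lit 4821) (.leaf ((nat_lit 366), [nat_lit 0, nat_lit 3, nat_lit 0])) (.node (nat_lit 4822) (.leaf ((nat_lit 683), [nat_lit 2, nat_lit 1])) (.leaf ((nat_lit 857), [nat_lit 1, nat_lit 2])))) (.node (nat_lit 4824) (.leaf ((nat_lit 940), [nat_lit 1, nat_lit 2])) (.node (nat_lit 4825) (.leaf ((nat_lit 731), [nat_lit 1, nat_lit 2])) (.leaf ((nat_lit 839), [nat_lit 0]))))))
 (.node (nat_lit 4831) (.node (nat_lit 4828) (.node (nat_lit 4827) (.leaf ((nat_lit 870), [nat_lit 1])) (.leaf ((nat_lit 408), [nat_lit 2, nat_lit 0]))) (.node (nat_lit 4829) (.leaf ((nat_lit 407), [nat_lit 2, nat_lit 0])) (.node (nat_lit 4830) (.leaf ((nat_lit 366), [nat_lit 3, nat_lit 1])) (.leaf ((nat_lit 367), [nat_lit 3, nat_lit 0])))))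
 (.node (nat_lit 4834) (.node (nat_lit 4832) (.leaf ((nat_lit 706), [nat_lit 2])) (.node (nat_lit 4833) (.leaf ((nat_lit 920), [nat_lit 1])) (.leaf ((nat_lit 468), [nat_lit 1, nat_lit 2, nat_lit 1])))) (.node (nat_lit 4835) (.leaf ((nat_lit 391), [nat_lit 2])) (.node (nat_lit 4836) (.leaf ((nat_lit 603), [nat_lit 2])) (.leaf ((nat_lit 920), [nat_lit 0, nat_lit 2, nat_lit 0])))))))
 (.node (nat_lit 4848) (.node (nat_lit 4842) (.node (nat_lit 4839) (.node (nat_lit 4838) (.leaf ((nat_lit 779), [nat_lit 0, nat_lit 2, nat_lit 1])) (.leaf ((nat_lit 367), [nat_lit 0]))) (.node (nat_lit 4840) (.leaf ((nat_lit 774), [])) (.node (nat_lit 4841) (.leaf ((nat_lit 773), [nat_lit 2, nat_lit 1])) (.leaf ((nat_lit 765), [nat_lit 0, nat_lit 3, nat_lit 1])))))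
 (.node (nat_lit 4845) (.node (nat_lit 4843) (.leaf ((nat_lit 592), [nat_lit 1, nat_lit 2, nat_lit 0])) (.node (nat_lit 4844) (.leaf ((nat_lit 369), [nat_lit 0])) (.leaf ((nat_lit 591), [nat_lit 3])))) (.node (nat_lit 4846) (.leaf ((nat_lit 369), [nat_lit 0, nat_lit 3])) (.node (nat_lit 4847) (.leaf ((nat_lit 368), [nat_lit 2, nat_lit 0])) (.leaf ((nat_lit 781), [nat_lit 0, nat_lit 2, nat_lit 0]))))))
 (.node (nat_lit 4854) (.node (nat_lit 4851) (.node (nat_lit 4849) (.leaf ((nat_lit 452), [nat_lit 0, nat_lit 2, nat_lit 1])) (.node (nat_lit 4850) (.leaf ((nat_lit 591), [nat_lit 3, nat_lit 1])) (.leaf ((nat_lit 369), [])))) (.node (nat_lit 4852) (.leaf ((nat_lit 426), [nat_lit 0, nat_lit 3, nat_lit 1])) (.node (nat_lit 4853) (.leaf ((nat_lit 375), [])) (.leaf ((nat_lit 585), [nat_lit 0, nat_lit 2, nat_lit 1])))))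
 (.node (nat_lit 4857) (.node (nat_lit 4855) (.leaf ((nat_lit 950), [nat_lit 0, nat_lit 3, nat_lit 0])) (.node (nat_lit 4856) (.leaf ((nat_lit 720), [nat_lit 3, nat_lit 1])) (.leaf ((nat_lit 879), [nat_lit 0, nat_lit 2])))) (.node (nat_lit 4858) (.leaf ((nat_lit 733), [nat_lit 2, nat_lit 0])) (.node (nat_lit 4859) (.leaf ((nat_lit 503), [nat_lit 1])) (.leaf ((nat_lit 369), [nat_lit 0, nat_lit 2]))))))))))
noncomputable def n1Wd_27 : Tr (ℕ × List ℕ) := (.node (nat_lit 4950) (.node (nat_lit 4905) (.node (nat_lit 4882) (.node (nat_lit 4871) (.node (nat_lit 4865) (.node (nat_lit 4862) (.node (nat_lit 4861) (.leaf ((nat_lit 936), [])) (.leaf ((nat_lit 370), [nat_lit 0, nat_lit 2]))) (.node (nat_lit 4863) (.leaf ((nat_lit 691), [nat_lit 3, nat_lit 0])) (.node (nat_lit 4864) (.leaf ((nat_lit 916), [nat_lit 1, nat_lit 3, nat_lit 0])) (.leaf ((nat_lit 877), [nat_lit 1, nat_lit 3])))))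
 (.node (nat_lit 4868) (.node (nat_lit 4866) (.leaf ((nat_lit 770), [nat_lit 1, nat_lit 2, nat_lit 0])) (.node (nat_lit 4867) (.leaf ((nat_lit 931), [nat_lit 1])) (.leaf ((nat_lit 708), [nat_lit 1, nat_lit 2])))) (.node (nat_lit 4869) (.leaf ((nat_lit 748), [nat_lit 1, nat_lit 2, nat_lit 1])) (.node (nat_lit 4870) (.leaf ((nat_lit 370), [nat_lit 1, nat_lit 2])) (.leaf ((nat_lit 688), [nat_lit 1, nat_lit 3]))))))
 (.node (nat_lit 4876) (.node (nat_lit 4873) (.node (nat_lit 4872) (.leaf ((nat_lit 902), [nat_lit 0, nat_lit 2, nat_lit 0])) (.leaf ((nat_lit 491), [nat_lit 0, nat_lit 2]))) (.node (nat_lit 4874) (.leaf ((nat_lit 688), [nat_lit 1, nat_lit 3])) (.node (nat_lit 4875) (.leaf ((nat_lit 489), [nat_lit 0, nat_lit 2, nat_lit 0])) (.leaf ((nat_lit 873), [nat_lit 1, nat_lit 3])))))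
 (.node (nat_lit 4879) (.node (nat_lit 4877) (.leaf ((nat_lit 621), [nat_lit 1])) (.node (nat_lit 4878) (.leaf ((nat_lit 372), [nat_lit 0, nat_lit 2, nat_lit 1])) (.leaf ((nat_lit 442), [nat_lit 3])))) (.node (nat_lit 4880) (.leaf ((nat_lit 441), [nat_lit 3])) (.node (nat_lit 4881) (.leaf ((nat_lit 570), [])) (.leaf ((nat_lit 373), [nat_lit 1, nat_lit 3, nat_lit 1])))))))
 (.node (nat_lit 4893) (.node (nat_lit 4887) (.node (nat_lit 4884) (.node (nat_lit 4883) (.leaf ((nat_lit 474), [nat_lit 0])) (.leaf ((nat_lit 826), [nat_lit 2, nat_lit 1]))) (.node (nat_lit 4885) (.leaf ((nat_lit 755), [nat_lit 0, nat_lit 2, nat_lit 0])) (.node (nat_lit 4886) (.leaf ((nat_lit 432), [nat_lit 0, nat_lit 2, nat_lit 0])) (.leaf ((nat_lit 431), [nat_lit 0, nat_lit 3, nat_lit 1])))))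
 (.node (nat_lit 4890) (.node (nat_lit 4888) (.leaf ((nat_lit 375), [nat_lit 0, nat_lit 3])) (.node (nat_lit 4889) (.leaf ((nat_lit 426), [nat_lit 0, nat_lit 2])) (.leaf ((nat_lit 829), [nat_lit 3, nat_lit 0])))) (.node (nat_lit 4891) (.leaf ((nat_lit 376), [nat_lit 1, nat_lit 3, nat_lit 1])) (.node (nat_lit 4892) (.leaf ((nat_lit 866), [])) (.leaf ((nat_lit 852), [nat_lit 1, nat_lit 3, nat_lit 0]))))))
 (.node (nat_lit 4899) (.node (nat_lit 4896) (.node (nat_lit 4894) (.leaf ((nat_lit 945), [nat_lit 0])) (.node (nat_lit 4895) (.leaf ((nat_lit 726), [nat_lit 1, nat_lit 2, nat_lit 0])) (.leaf ((nat_lit 472), [nat_lit 2, nat_lit 1])))) (.node (nat_lit 4897) (.leaf ((nat_lit 943), [nat_lit 1, nat_lit 2])) (.node (nat_lit 4898) (.leaf ((nat_lit 612), [])) (.leaf ((nat_lit 851), [nat_lit 1, nat_lit 3])))))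
 (.node (nat_lit 4902) (.node (nat_lit 4900) (.leaf ((nat_lit 493), [nat_lit 3, nat_lit 1])) (.node (nat_lit 4901) (.leaf ((nat_lit 875), [nat_lit 0, nat_lit 3, nat_lit 1])) (.leaf ((nat_lit 377), [nat_lit 2])))) (.node (nat_lit 4903) (.leaf ((nat_lit 626), [])) (.node (nat_lit 4904) (.leaf ((nat_lit 565), [nat_lit 0, nat_lit 2])) (.leaf ((nat_lit 378), [nat_lit 1]))))))))
 (.node (nat_lit 4927) (.node (nat_lit 4916) (.node (nat_lit 4910) (.node (nat_lit 4907) (.node (nat_lit 4906) (.leaf ((nat_lit 460), [nat_lit 0])) (.leaf ((nat_lit 502), [nat_lit 0, nat_lit 2, nat_lit 0]))) (.node (nat_lit 4908) (.leaf ((nat_lit 844), [nat_lit 1, nat_lit 2])) (.node (nat_lit 4909) (.leaf ((nat_lit 880), [nat_lit 2])) (.leaf ((nat_lit 663), [nat_lit 0, nat_lit 3, nat_lit 1])))))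
 (.node (nat_lit 4913) (.node (nat_lit 4911) (.leaf ((nat_lit 867), [])) (.node (nat_lit 4912) (.leaf ((nat_lit 725), [nat_lit 2, nat_lit 1])) (.leaf ((nat_lit 615), [nat_lit 1, nat_lit 3, nat_lit 1])))) (.node (nat_lit 4914) (.leaf ((nat_lit 378), [nat_lit 0])) (.node (nat_lit 4915) (.leaf ((nat_lit 380), [nat_lit 2, nat_lit 1])) (.leaf ((nat_lit 514), [nat_lit 0, nat_lit 2]))))))
 (.node (nat_lit 4921) (.node (nat_lit 4918) (.node (nat_lit 4917) (.leaf ((nat_lit 488), [nat_lit 0])) (.leaf ((nat_lit 514), [nat_lit 1, nat_lit 2]))) (.node (nat_lit 4919) (.leaf ((nat_lit 666), [nat_lit 3, nat_lit 1])) (.node (nat_lit 4920) (.leaf ((nat_lit 847), [nat_lit 1, nat_lit 3, nat_lit 1])) (.leaf ((nat_lit 539), [nat_lit 1, nat_lit 3])))))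
 (.node (nat_lit 4924) (.node (nat_lit 4922) (.leaf ((nat_lit 538), [nat_lit 2])) (.node (nat_lit 4923) (.leaf ((nat_lit 381), [nat_lit 3, nat_lit 1])) (.leaf ((nat_lit 800), [nat_lit 1, nat_lit 2, nat_lit 1])))) (.node (nat_lit 4925) (.leaf ((nat_lit 538), [nat_lit 3])) (.node (nat_lit 4926) (.leaf ((nat_lit 710), [])) (.leaf ((nat_lit 382), [nat_lit 2, nat_lit 1])))))))
 (.node (nat_lit 4938) (.node (nat_lit 4932) (.node (nat_lit 4929) (.node (nat_lit 4928) (.leaf ((nat_lit 524), [nat_lit 0, nat_lit 3, nat_lit 0])) (.leaf ((nat_lit 550), [nat_lit 0, nat_lit 3, nat_lit 0]))) (.node (nat_lit 4930) (.leaf ((nat_lit 946), [nat_lit 1, nat_lit 3, nat_lit 0])) (.node (nat_lit 4931) (.leaf ((nat_lit 635), [nat_lit 1, nat_lit 3, nat_lit 0])) (.leaf ((nat_lit 630), [nat_lit 1, nat_lit 2, nat_lit 1])))))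
 (.node (nat_lit 4935) (.node (nat_lit 4933) (.leaf ((nat_lit 524), [])) (.node (nat_lit 4934) (.leaf ((nat_lit 382), [nat_lit 1, nat_lit 3, nat_lit 0])) (.leaf ((nat_lit 551), [nat_lit 1])))) (.node (nat_lit 4936) (.leaf ((nat_lit 909), [nat_lit 3])) (.node (nat_lit 4937) (.leaf ((nat_lit 633), [nat_lit 0, nat_lit 3, nat_lit 1])) (.leaf ((nat_lit 642), [nat_lit 0, nat_lit 2, nat_lit 0]))))))
 (.node (nat_lit 4944) (.node (nat_lit 4941) (.node (nat_lit 4939) (.leaf ((nat_lit 612), [])) (.node (nat_lit 4940) (.leaf ((nat_lit 943), [nat_lit 1, nat_lit 2])) (.leaf ((nat_lit 715), [nat_lit 2])))) (.node (nat_lit 4942) (.leaf ((nat_lit 384), [nat_lit 1, nat_lit 3, nat_lit 1])) (.node (nat_lit 4943) (.leaf ((nat_lit 889), [nat_lit 0, nat_lit 2, nat_lit 1])) (.leaf ((nat_lit 738), [nat_lit 1])))))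
 (.node (nat_lit 4947) (.node (nat_lit 4945) (.leaf ((nat_lit 926), [nat_lit 1, nat_lit 2, nat_lit 1])) (.node (nat_lit 4946) (.leaf ((nat_lit 635), [nat_lit 1, nat_lit 3, nat_lit 0])) (.leaf ((nat_lit 413), [nat_lit 1, nat_lit 3, nat_lit 0])))) (.node (nat_lit 4948) (.leaf ((nat_lit 889), [nat_lit 0, nat_lit 3, nat_lit 0])) (.node (nat_lit 4949) (.leaf ((nat_lit 384), [])) (.leaf ((nat_lit 626), [nat_lit 0, nat_lit 2, nat_lit 1])))))))))
 (.node (nat_lit 4995) (.node (nat_lit 4972) (.node (nat_lit 4961) (.node (nat_lit 4955) (.node (nat_lit 4952) (.node (nat_lit 4951) (.leaf ((nat_lit 567), [nat_lit 1, nat_lit 3])) (.leaf ((nat_lit 566), [nat_lit 2, nat_lit 0]))) (.node (nat_lit 4953) (.leaf ((nat_lit 625), [nat_lit 0, nat_lit 2, nat_lit 1])) (.node (nat_lit 4954) (.leaf ((nat_lit 697), [nat_lit 1, nat_lit 2, nat_lit 0])) (.leaf ((nat_lit 455), [nat_lit 0, nat_lit 2, nat_lit 1])))))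
 (.node (nat_lit 4958) (.node (nat_lit 4956) (.leaf ((nat_lit 384), [nat_lit 1])) (.node (nat_lit 4957) (.leaf ((nat_lit 478), [nat_lit 0, nat_lit 2])) (.leaf ((nat_lit 877), [nat_lit 0, nat_lit 2])))) (.node (nat_lit 4959) (.leaf ((nat_lit 876), [nat_lit 1])) (.node (nat_lit 4960) (.leaf ((nat_lit 385), [nat_lit 1, nat_lit 2])) (.leaf ((nat_lit 507), [nat_lit 1, nat_lit 2]))))))
 (.node (nat_lit 4966) (.node (nat_lit 4963) (.node (nat_lit 4962) (.leaf ((nat_lit 813), [nat_lit 0, nat_lit 3])) (.leaf ((nat_lit 918), [nat_lit 0, nat_lit 2, nat_lit 0]))) (.node (nat_lit 4964) (.leaf ((nat_lit 792), [nat_lit 0, nat_lit 3, nat_lit 1])) (.node (nat_lit 4965) (.leaf ((nat_lit 940), [nat_lit 0, nat_lit 3, nat_lit 1])) (.leaf ((nat_lit 860), [nat_lit 1])))))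
 (.node (nat_lit 4969) (.node (nat_lit 4967) (.leaf ((nat_lit 386), [nat_lit 1, nat_lit 2, nat_lit 1])) (.node (nat_lit 4968) (.leaf ((nat_lit 399), [nat_lit 2, nat_lit 1])) (.leaf ((nat_lit 387), [nat_lit 1, nat_lit 2, nat_lit 1])))) (.node (nat_lit 4970) (.leaf ((nat_lit 742), [nat_lit 1, nat_lit 3])) (.node (nat_lit 4971) (.leaf ((nat_lit 390), [nat_lit 0, nat_lit 2, nat_lit 1])) (.leaf ((nat_lit 868), [nat_lit 1, nat_lit 3, nat_lit 1])))))))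
 (.node (nat_lit 4983) (.node (nat_lit 4977) (.node (nat_lit 4974) (.node (nat_lit 4973) (.leaf ((nat_lit 844), [nat_lit 3, nat_lit 0])) (.leaf ((nat_lit 568), [nat_lit 2, nat_lit 0]))) (.node (nat_lit 4975) (.leaf ((nat_lit 742), [nat_lit 1, nat_lit 2])) (.node (nat_lit 4976) (.leaf ((nat_lit 387), [nat_lit 3, nat_lit 1])) (.leaf ((nat_lit 784), [nat_lit 0, nat_lit 3, nat_lit 1])))))
 (.node (nat_lit 4980) (.node (nat_lit 4978) (.leaf ((nat_lit 621), [nat_lit 1, nat_lit 2, nat_lit 0])) (.node (nat_lit 4979) (.leaf ((nat_lit 873), [])) (.leaf ((nat_lit 814), [nat_lit 1, nat_lit 2])))) (.node (nat_lit 4981) (.leaf ((nat_lit 390), [nat_lit 2, nat_lit 0])) (.node (nat_lit 4982) (.leaf ((nat_lit 784), [nat_lit 1, nat_lit 2, nat_lit 0])) (.leaf ((nat_lit 387), [nat_lit 0, nat_lit 2, nat_lit 0]))))))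
 (.node (nat_lit 4989) (.node (nat_lit 4986) (.node (nat_lit 4984) (.leaf ((nat_lit 405), [nat_lit 1, nat_lit 2])) (.node (nat_lit 4985) (.leaf ((nat_lit 940), [])) (.leaf ((nat_lit 900), [nat_lit 3, nat_lit 1])))) (.node (nat_lit 4987) (.leaf ((nat_lit 388), [nat_lit 1, nat_lit 3, nat_lit 1])) (.node (nat_lit 4988) (.leaf ((nat_lit 618), [nat_lit 1, nat_lit 3, nat_lit 1])) (.leaf ((nat_lit 923), [nat_lit 1, nat_lit 3, nat_lit 1])))))
 (.node (nat_lit 4992) (.node (nat_lit 4990) (.leaf ((nat_lit 464), [nat_lit 0, nat_lit 2, nat_lit 1])) (.node (nat_lit 4991) (.leaf ((nat_lit 463), [nat_lit 0, nat_lit 2, nat_lit 1])) (.leaf ((nat_lit 889), [nat_lit 0, nat_lit 2])))) (.node (nat_lit 4993) (.leaf ((nat_lit 618), [nat_lit 2, nat_lit 0])) (.node (nat_lit 4994) (.leaf ((nat_lit 388), [nat_lit 2, nat_lit 0])) (.leaf ((nat_lit 701), [nat_lit 0]))))))))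
 (.node (nat_lit 5017) (.node (nat_lit 5006) (.node (nat_lit 5000) (.node (nat_lit 4997) (.node (nat_lit 4996) (.leaf ((nat_lit 398), [nat_lit 0, nat_lit 3])) (.leaf ((nat_lit 565), []))) (.node (nat_lit 4998) (.leaf ((nat_lit 677), [nat_lit 1])) (.node (nat_lit 4999) (.leaf ((nat_lit 923), [nat_lit 1, nat_lit 3, nat_lit 1])) (.leaf ((nat_lit 701), [nat_lit 0, nat_lit 2])))))
 (.node (nat_lit 5003) (.node (nat_lit 5001) (.leaf ((nat_lit 388), [nat_lit 1, nat_lit 3, nat_lit 1])) (.node (nat_lit 5002) (.leaf ((nat_lit 588), [nat_lit 2, nat_lit 0])) (.leaf ((nat_lit 530), [nat_lit 2, nat_lit 0])))) (.node (nat_lit 5004) (.leaf ((nat_lit 737), [nat_lit 0, nat_lit 3])) (.node (nat_lit 5005) (.leaf ((nat_lit 513), [nat_lit 0, nat_lit 2])) (.leaf ((nat_lit 657), [nat_lit 1, nat_lit 3, nat_lit 1]))))))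
 (.node (nat_lit 5011) (.node (nat_lit 5008) (.node (nat_lit 5007) (.leaf ((nat_lit 420), [nat_lit 0, nat_lit 2])) (.leaf ((nat_lit 870), [nat_lit 1, nat_lit 2, nat_lit 1]))) (.node (nat_lit 5009) (.leaf ((nat_lit 410), [nat_lit 1, nat_lit 2, nat_lit 1])) (.node (nat_lit 5010) (.leaf ((nat_lit 388), [nat_lit 1, nat_lit 2, nat_lit 1])) (.leaf ((nat_lit 559), [nat_lit 1, nat_lit 2])))))
 (.node (nat_lit 5014) (.node (nat_lit 5012) (.leaf ((nat_lit 522), [nat_lit 1, nat_lit 2, nat_lit 1])) (.node (nat_lit 5013) (.leaf ((nat_lit 464), [nat_lit 1])) (.leaf ((nat_lit 391), [nat_lit 1, nat_lit 2])))) (.node (nat_lit 5015) (.leaf ((nat_lit 468), [nat_lit 0, nat_lit 3, nat_lit 0])) (.node (nat_lit 5016) (.leaf ((nat_lit 718), [nat_lit 1, nat_lit 2])) (.leaf ((nat_lit 560), [nat_lit 1, nat_lit 3, nat_lit 1])))))))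
 (.node (nat_lit 5028) (.node (nat_lit 5022) (.node (nat_lit 5019) (.node (nat_lit 5018) (.leaf ((nat_lit 393), [nat_lit 0, nat_lit 2, nat_lit 0])) (.leaf ((nat_lit 746), [nat_lit 1, nat_lit 2]))) (.node (nat_lit 5020) (.leaf ((nat_lit 927), [nat_lit 1])) (.node (nat_lit 5021) (.leaf ((nat_lit 882), [nat_lit 1, nat_lit 2, nat_lit 1])) (.leaf ((nat_lit 470), [nat_lit 3])))))
 (.node (nat_lit 5025) (.node (nat_lit 5023) (.leaf ((nat_lit 746), [nat_lit 2])) (.node (nat_lit 5024) (.leaf ((nat_lit 925), [nat_lit 1, nat_lit 3, nat_lit 1])) (.leaf ((nat_lit 560), [nat_lit 1, nat_lit 2, nat_lit 0])))) (.node (nat_lit 5026) (.leaf ((nat_lit 393), [nat_lit 0, nat_lit 2, nat_lit 0])) (.node (nat_lit 5027) (.leaf ((nat_lit 669), [nat_lit 0, nat_lit 2, nat_lit 0])) (.leaf ((nat_lit 534), [nat_lit 1, nat_lit 3]))))))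
 (.node (nat_lit 5034) (.node (nat_lit 5031) (.node (nat_lit 5029) (.leaf ((nat_lit 516), [nat_lit 0, nat_lit 2, nat_lit 1])) (.node (nat_lit 5030) (.leaf ((nat_lit 848), [nat_lit 1, nat_lit 3])) (.leaf ((nat_lit 562), [nat_lit 0, nat_lit 3])))) (.node (nat_lit 5032) (.leaf ((nat_lit 402), [nat_lit 1, nat_lit 2, nat_lit 0])) (.node (nat_lit 5033) (.leaf ((nat_lit 544), [])) (.leaf ((nat_lit 395), [nat_lit 0, nat_lit 3, nat_lit 0])))))
 (.node (nat_lit 5037) (.node (nat_lit 5035) (.leaf ((nat_lit 400), [nat_lit 0, nat_lit 3, nat_lit 1])) (.node (nat_lit 5036) (.leaf ((nat_lit 804), [nat_lit 1])) (.leaf ((nat_lit 694), [nat_lit 2, nat_lit 0])))) (.node (nat_lit 5038) (.leaf ((nat_lit 939), [nat_lit 1, nat_lit 3])) (.node (nat_lit 5039) (.leaf ((nat_lit 511), [nat_lit 1, nat_lit 3])) (.leaf ((nat_lit 505), [nat_lit 0, nat_lit 3, nat_lit 0]))))))))))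
noncomputable def n1Wd_28 : Tr (ℕ × List ℕ) := (.node (nat_lit 5130) (.node (nat_lit 5085) (.node (nat_lit 5062) (.node (nat_lit 5051) (.node (nat_lit 5045) (.node (nat_lit 5042) (.node (nat_lit 5041) (.leaf ((nat_lit 694), [nat_lit 3, nat_lit 1])) (.leaf ((nat_lit 696), [nat_lit 1]))) (.node (nat_lit 5043) (.leaf ((nat_lit 400), [nat_lit 1, nat_lit 3])) (.node (nat_lit 5044) (.leaf ((nat_lit 437), [nat_lit 1, nat_lit 3, nat_lit 1])) (.leaf ((nat_lit 899), [nat_lit 0, nat_lit 3, nat_lit 1])))))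
 (.node (nat_lit 5048) (.node (nat_lit 5046) (.leaf ((nat_lit 561), [nat_lit 0, nat_lit 2])) (.node (nat_lit 5047) (.leaf ((nat_lit 411), [nat_lit 3])) (.leaf ((nat_lit 403), [nat_lit 3, nat_lit 1])))) (.node (nat_lit 5049) (.leaf ((nat_lit 705), [nat_lit 3, nat_lit 1])) (.node (nat_lit 5050) (.leaf ((nat_lit 504), [nat_lit 0, nat_lit 3, nat_lit 1])) (.leaf ((nat_lit 862), []))))))
 (.node (nat_lit 5056) (.node (nat_lit 5053) (.node (nat_lit 5052) (.leaf ((nat_lit 756), [nat_lit 0, nat_lit 2, nat_lit 1])) (.leaf ((nat_lit 615), [nat_lit 3, nat_lit 0]))) (.node (nat_lit 5054) (.leaf ((nat_lit 718), [nat_lit 0, nat_lit 2])) (.node (nat_lit 5055) (.leaf ((nat_lit 407), [nat_lit 2, nat_lit 1])) (.leaf ((nat_lit 645), [nat_lit 2])))))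
 (.node (nat_lit 5059) (.node (nat_lit 5057) (.leaf ((nat_lit 901), [nat_lit 0])) (.node (nat_lit 5058) (.leaf ((nat_lit 432), [nat_lit 0, nat_lit 2, nat_lit 0])) (.leaf ((nat_lit 408), [nat_lit 3, nat_lit 1])))) (.node (nat_lit 5060) (.leaf ((nat_lit 739), [nat_lit 0, nat_lit 2])) (.node (nat_lit 5061) (.leaf ((nat_lit 922), [nat_lit 2, nat_lit 1])) (.leaf ((nat_lit 951), [nat_lit 2, nat_lit 1])))))))
 (.node (nat_lit 5073) (.node (nat_lit 5067) (.node (nat_lit 5064) (.node (nat_lit 5063) (.leaf ((nat_lit 918), [nat_lit 2, nat_lit 1])) (.leaf ((nat_lit 688), [nat_lit 3]))) (.node (nat_lit 5065) (.leaf ((nat_lit 922), [nat_lit 1, nat_lit 2])) (.node (nat_lit 5066) (.leaf ((nat_lit 633), [nat_lit 0, nat_lit 3])) (.leaf ((nat_lit 408), [nat_lit 1, nat_lit 2, nat_lit 0])))))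
 (.node (nat_lit 5070) (.node (nat_lit 5068) (.leaf ((nat_lit 449), [nat_lit 1, nat_lit 3])) (.node (nat_lit 5069) (.leaf ((nat_lit 828), [nat_lit 1, nat_lit 2])) (.leaf ((nat_lit 817), [nat_lit 3, nat_lit 0])))) (.node (nat_lit 5071) (.leaf ((nat_lit 582), [nat_lit 0, nat_lit 3])) (.node (nat_lit 5072) (.leaf ((nat_lit 913), [nat_lit 3, nat_lit 1])) (.leaf ((nat_lit 409), [nat_lit 3, nat_lit 1]))))))
 (.node (nat_lit 5079) (.node (nat_lit 5076) (.node (nat_lit 5074) (.leaf ((nat_lit 500), [nat_lit 2])) (.node (nat_lit 5075) (.leaf ((nat_lit 717), [nat_lit 2])) (.leaf ((nat_lit 459), [nat_lit 0, nat_lit 2])))) (.node (nat_lit 5077) (.leaf ((nat_lit 790), [nat_lit 2])) (.node (nat_lit 5078) (.leaf ((nat_lit 653), [nat_lit 3, nat_lit 1])) (.leaf ((nat_lit 788), [nat_lit 1, nat_lit 2])))))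
 (.node (nat_lit 5082) (.node (nat_lit 5080) (.leaf ((nat_lit 587), [nat_lit 2, nat_lit 1])) (.node (nat_lit 5081) (.leaf ((nat_lit 409), [nat_lit 0, nat_lit 2, nat_lit 0])) (.leaf ((nat_lit 419), [nat_lit 0, nat_lit 2])))) (.node (nat_lit 5083) (.leaf ((nat_lit 569), [nat_lit 3, nat_lit 1])) (.node (nat_lit 5084) (.leaf ((nat_lit 738), [nat_lit 0, nat_lit 2])) (.leaf ((nat_lit 901), [nat_lit 2, nat_lit 1]))))))))
 (.node (nat_lit 5107) (.node (nat_lit 5096) (.node (nat_lit 5090) (.node (nat_lit 5087) (.node (nat_lit 5086) (.leaf ((nat_lit 410), [nat_lit 1, nat_lit 2, nat_lit 1])) (.leaf ((nat_lit 870), [nat_lit 1, nat_lit 2, nat_lit 1]))) (.node (nat_lit 5088) (.leaf ((nat_lit 819), [nat_lit 0, nat_lit 2, nat_lit 0])) (.node (nat_lit 5089) (.leaf ((nat_lit 901), [nat_lit 3, nat_lit 0])) (.leaf ((nat_lit 838), [nat_lit 2, nat_lit 0])))))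
 (.node (nat_lit 5093) (.node (nat_lit 5091) (.leaf ((nat_lit 569), [nat_lit 0])) (.node (nat_lit 5092) (.leaf ((nat_lit 891), [nat_lit 0, nat_lit 2, nat_lit 0])) (.leaf ((nat_lit 429), [nat_lit 1, nat_lit 3, nat_lit 0])))) (.node (nat_lit 5094) (.leaf ((nat_lit 410), [nat_lit 2, nat_lit 0])) (.node (nat_lit 5095) (.leaf ((nat_lit 414), [nat_lit 1, nat_lit 2])) (.leaf ((nat_lit 590), [nat_lit 2, nat_lit 0]))))))
 (.node (nat_lit 5101) (.node (nat_lit 5098) (.node (nat_lit 5097) (.leaf ((nat_lit 899), [nat_lit 0, nat_lit 3])) (.leaf ((nat_lit 631), [nat_lit 3]))) (.node (nat_lit 5099) (.leaf ((nat_lit 486), [nat_lit 3, nat_lit 1])) (.node (nat_lit 5100) (.leaf ((nat_lit 462), [nat_lit 1, nat_lit 3, nat_lit 1])) (.leaf ((nat_lit 590), [nat_lit 3])))))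
 (.node (nat_lit 5104) (.node (nat_lit 5102) (.leaf ((nat_lit 414), [nat_lit 0, nat_lit 2, nat_lit 0])) (.node (nat_lit 5103) (.leaf ((nat_lit 881), [nat_lit 1, nat_lit 2, nat_lit 0])) (.leaf ((nat_lit 553), [nat_lit 1])))) (.node (nat_lit 5105) (.leaf ((nat_lit 552), [nat_lit 0, nat_lit 3, nat_lit 0])) (.node (nat_lit 5106) (.leaf ((nat_lit 639), [nat_lit 0, nat_lit 3])) (.leaf ((nat_lit 875), [nat_lit 1, nat_lit 2, nat_lit 1])))))))
 (.node (nat_lit 5118) (.node (nat_lit 5112) (.node (nat_lit 5109) (.node (nat_lit 5108) (.leaf ((nat_lit 740), [nat_lit 0, nat_lit 3, nat_lit 1])) (.leaf ((nat_lit 816), [nat_lit 2, nat_lit 0]))) (.node (nat_lit 5110) (.leaf ((nat_lit 414), [nat_lit 1, nat_lit 3])) (.node (nat_lit 5111) (.leaf ((nat_lit 438), [nat_lit 1, nat_lit 3])) (.leaf ((nat_lit 573), [nat_lit 3, nat_lit 1])))))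
 (.node (nat_lit 5115) (.node (nat_lit 5113) (.leaf ((nat_lit 449), [nat_lit 1, nat_lit 2])) (.node (nat_lit 5114) (.leaf ((nat_lit 438), [nat_lit 0, nat_lit 3])) (.leaf ((nat_lit 815), [nat_lit 1, nat_lit 2, nat_lit 0])))) (.node (nat_lit 5116) (.leaf ((nat_lit 937), [nat_lit 3, nat_lit 1])) (.node (nat_lit 5117) (.leaf ((nat_lit 484), [nat_lit 1, nat_lit 3, nat_lit 1])) (.leaf ((nat_lit 416), []))))))
 (.node (nat_lit 5124) (.node (nat_lit 5121) (.node (nat_lit 5119) (.leaf ((nat_lit 872), [nat_lit 3])) (.node (nat_lit 5120) (.leaf ((nat_lit 601), [nat_lit 1])) (.leaf ((nat_lit 871), [nat_lit 0, nat_lit 3, nat_lit 0])))) (.node (nat_lit 5122) (.leaf ((nat_lit 952), [nat_lit 2])) (.node (nat_lit 5123) (.leaf ((nat_lit 436), [nat_lit 3, nat_lit 1])) (.leaf ((nat_lit 417), [nat_lit 0, nat_lit 2])))))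
 (.node (nat_lit 5127) (.node (nat_lit 5125) (.leaf ((nat_lit 423), [nat_lit 1, nat_lit 3])) (.node (nat_lit 5126) (.leaf ((nat_lit 421), [])) (.leaf ((nat_lit 555), [nat_lit 1])))) (.node (nat_lit 5128) (.leaf ((nat_lit 699), [nat_lit 0, nat_lit 3])) (.node (nat_lit 5129) (.leaf ((nat_lit 799), [nat_lit 1, nat_lit 2, nat_lit 1])) (.leaf ((nat_lit 860), [nat_lit 1, nat_lit 2])))))))))
 (.node (nat_lit 5175) (.node (nat_lit 5152) (.node (nat_lit 5141) (.node (nat_lit 5135) (.node (nat_lit 5132) (.node (nat_lit 5131) (.leaf ((nat_lit 422), [nat_lit 0, nat_lit 2, nat_lit 0])) (.leaf ((nat_lit 719), [nat_lit 1, nat_lit 2, nat_lit 1]))) (.node (nat_lit 5133) (.leaf ((nat_lit 785), [nat_lit 0, nat_lit 3, nat_lit 0])) (.node (nat_lit 5134) (.leaf ((nat_lit 543), [nat_lit 1, nat_lit 3, nat_lit 0])) (.leaf ((nat_lit 432), [nat_lit 1, nat_lit 2, nat_lit 1])))))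
 (.node (nat_lit 5138) (.node (nat_lit 5136) (.leaf ((nat_lit 546), [nat_lit 1])) (.node (nat_lit 5137) (.leaf ((nat_lit 555), [nat_lit 0, nat_lit 2])) (.leaf ((nat_lit 424), [nat_lit 1, nat_lit 2])))) (.node (nat_lit 5139) (.leaf ((nat_lit 423), [nat_lit 0, nat_lit 2, nat_lit 1])) (.node (nat_lit 5140) (.leaf ((nat_lit 579), [nat_lit 1, nat_lit 2])) (.leaf ((nat_lit 591), [nat_lit 1, nat_lit 2]))))))
 (.node (nat_lit 5146) (.node (nat_lit 5143) (.node (nat_lit 5142) (.leaf ((nat_lit 656), [nat_lit 1, nat_lit 2, nat_lit 0])) (.leaf ((nat_lit 428), [nat_lit 1, nat_lit 2, nat_lit 0]))) (.node (nat_lit 5144) (.leaf ((nat_lit 783), [nat_lit 2, nat_lit 1])) (.node (nat_lit 5145) (.leaf ((nat_lit 800), [nat_lit 1, nat_lit 3])) (.leaf ((nat_lit 600), [])))))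
 (.node (nat_lit 5149) (.node (nat_lit 5147) (.leaf ((nat_lit 803), [nat_lit 3, nat_lit 0])) (.node (nat_lit 5148) (.leaf ((nat_lit 591), [])) (.leaf ((nat_lit 800), [nat_lit 1, nat_lit 2, nat_lit 1])))) (.node (nat_lit 5150) (.leaf ((nat_lit 655), [nat_lit 1, nat_lit 3, nat_lit 0])) (.node (nat_lit 5151) (.leaf ((nat_lit 428), [nat_lit 2, nat_lit 0])) (.leaf ((nat_lit 747), [nat_lit 1, nat_lit 3, nat_lit 0])))))))
 (.node (nat_lit 5163) (.node (nat_lit 5157) (.node (nat_lit 5154) (.node (nat_lit 5153) (.leaf ((nat_lit 434), [nat_lit 1, nat_lit 3])) (.leaf ((nat_lit 776), [nat_lit 2, nat_lit 1]))) (.node (nat_lit 5155) (.leaf ((nat_lit 429), [nat_lit 3])) (.node (nat_lit 5156) (.leaf ((nat_lit 666), [nat_lit 1, nat_lit 2, nat_lit 0])) (.leaf ((nat_lit 509), [nat_lit 1, nat_lit 3])))))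
 (.node (nat_lit 5160) (.node (nat_lit 5158) (.leaf ((nat_lit 958), [nat_lit 1])) (.node (nat_lit 5159) (.leaf ((nat_lit 880), [nat_lit 2, nat_lit 1])) (.leaf ((nat_lit 877), [])))) (.node (nat_lit 5161) (.leaf ((nat_lit 509), [nat_lit 0, nat_lit 2, nat_lit 1])) (.node (nat_lit 5162) (.leaf ((nat_lit 667), [nat_lit 0, nat_lit 2, nat_lit 1])) (.leaf ((nat_lit 429), [nat_lit 1, nat_lit 2, nat_lit 1]))))))
 (.node (nat_lit 5169) (.node (nat_lit 5166) (.node (nat_lit 5164) (.leaf ((nat_lit 827), [nat_lit 0])) (.node (nat_lit 5165) (.leaf ((nat_lit 568), [nat_lit 2, nat_lit 1])) (.leaf ((nat_lit 854), [nat_lit 3, nat_lit 0])))) (.node (nat_lit 5167) (.leaf ((nat_lit 561), [nat_lit 2])) (.node (nat_lit 5168) (.leaf ((nat_lit 617), [nat_lit 0, nat_lit 2, nat_lit 1])) (.leaf ((nat_lit 613), [nat_lit 2])))))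
 (.node (nat_lit 5172) (.node (nat_lit 5170) (.leaf ((nat_lit 430), [nat_lit 0, nat_lit 3])) (.node (nat_lit 5171) (.leaf ((nat_lit 593), [nat_lit 2, nat_lit 1])) (.leaf ((nat_lit 580), [nat_lit 1, nat_lit 2, nat_lit 1])))) (.node (nat_lit 5173) (.leaf ((nat_lit 791), [nat_lit 0, nat_lit 2, nat_lit 1])) (.node (nat_lit 5174) (.leaf ((nat_lit 763), [nat_lit 0])) (.leaf ((nat_lit 944), [nat_lit 2, nat_lit 0]))))))))
 (.node (nat_lit 5197) (.node (nat_lit 5186) (.node (nat_lit 5180) (.node (nat_lit 5177) (.node (nat_lit 5176) (.leaf ((nat_lit 781), [nat_lit 2])) (.leaf ((nat_lit 841), []))) (.node (nat_lit 5178) (.leaf ((nat_lit 434), [nat_lit 0, nat_lit 3, nat_lit 0])) (.node (nat_lit 5179) (.leaf ((nat_lit 905), [nat_lit 3, nat_lit 1])) (.leaf ((nat_lit 932), [nat_lit 0, nat_lit 2, nat_lit 1])))))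
 (.node (nat_lit 5183) (.node (nat_lit 5181) (.leaf ((nat_lit 952), [nat_lit 3, nat_lit 0])) (.node (nat_lit 5182) (.leaf ((nat_lit 436), [nat_lit 1])) (.leaf ((nat_lit 952), [nat_lit 1, nat_lit 3, nat_lit 0])))) (.node (nat_lit 5184) (.leaf ((nat_lit 912), [nat_lit 1, nat_lit 3, nat_lit 1])) (.node (nat_lit 5185) (.leaf ((nat_lit 625), [nat_lit 3, nat_lit 1])) (.leaf ((nat_lit 568), [nat_lit 1]))))))
 (.node (nat_lit 5191) (.node (nat_lit 5188) (.node (nat_lit 5187) (.leaf ((nat_lit 567), [nat_lit 0, nat_lit 2, nat_lit 1])) (.leaf ((nat_lit 899), [nat_lit 0, nat_lit 3, nat_lit 1]))) (.node (nat_lit 5189) (.leaf ((nat_lit 437), [nat_lit 1, nat_lit 3, nat_lit 1])) (.node (nat_lit 5190) (.leaf ((nat_lit 615), [nat_lit 0, nat_lit 3, nat_lit 0])) (.leaf ((nat_lit 438), [nat_lit 1, nat_lit 3, nat_lit 0])))))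
 (.node (nat_lit 5194) (.node (nat_lit 5192) (.leaf ((nat_lit 449), [nat_lit 0, nat_lit 3, nat_lit 1])) (.node (nat_lit 5193) (.leaf ((nat_lit 743), [nat_lit 1, nat_lit 3, nat_lit 1])) (.leaf ((nat_lit 957), [nat_lit 0, nat_lit 3, nat_lit 0])))) (.node (nat_lit 5195) (.leaf ((nat_lit 743), [nat_lit 1, nat_lit 2, nat_lit 1])) (.node (nat_lit 5196) (.leaf ((nat_lit 624), [nat_lit 0, nat_lit 2, nat_lit 1])) (.leaf ((nat_lit 743), [nat_lit 0, nat_lit 3])))))))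
 (.node (nat_lit 5208) (.node (nat_lit 5202) (.node (nat_lit 5199) (.node (nat_lit 5198) (.leaf ((nat_lit 815), [])) (.leaf ((nat_lit 438), [nat_lit 1, nat_lit 2, nat_lit 1]))) (.node (nat_lit 5200) (.leaf ((nat_lit 872), [nat_lit 3])) (.node (nat_lit 5201) (.leaf ((nat_lit 943), [nat_lit 2, nat_lit 0])) (.leaf ((nat_lit 606), [nat_lit 2])))))
 (.node (nat_lit 5205) (.node (nat_lit 5203) (.leaf ((nat_lit 795), [nat_lit 0, nat_lit 2])) (.node (nat_lit 5204) (.leaf ((nat_lit 794), [nat_lit 0, nat_lit 3, nat_lit 0])) (.leaf ((nat_lit 818), [])))) (.node (nat_lit 5206) (.leaf ((nat_lit 919), [nat_lit 1, nat_lit 3, nat_lit 0])) (.node (nat_lit 5207) (.leaf ((nat_lit 566), [nat_lit 0, nat_lit 2, nat_lit 1])) (.leaf ((nat_lit 444), [nat_lit 0]))))))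
 (.node (nat_lit 5214) (.node (nat_lit 5211) (.node (nat_lit 5209) (.leaf ((nat_lit 713), [nat_lit 3])) (.node (nat_lit 5210) (.leaf ((nat_lit 578), [nat_lit 1, nat_lit 3, nat_lit 1])) (.leaf ((nat_lit 497), [nat_lit 0, nat_lit 3, nat_lit 1])))) (.node (nat_lit 5212) (.leaf ((nat_lit 828), [nat_lit 0, nat_lit 2, nat_lit 0])) (.node (nat_lit 5213) (.leaf ((nat_lit 449), [nat_lit 0, nat_lit 2, nat_lit 1])) (.leaf ((nat_lit 487), [nat_lit 0, nat_lit 3, nat_lit 1])))))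
 (.node (nat_lit 5217) (.node (nat_lit 5215) (.leaf ((nat_lit 676), [nat_lit 0, nat_lit 2, nat_lit 1])) (.node (nat_lit 5216) (.leaf ((nat_lit 454), [nat_lit 0, nat_lit 2, nat_lit 0])) (.leaf ((nat_lit 749), [nat_lit 1, nat_lit 3, nat_lit 0])))) (.node (nat_lit 5218) (.leaf ((nat_lit 451), [nat_lit 2, nat_lit 1])) (.node (nat_lit 5219) (.leaf ((nat_lit 771), [nat_lit 3, nat_lit 0])) (.leaf ((nat_lit 881), [nat_lit 0, nat_lit 2, nat_lit 0]))))))))))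
noncomputable def n1Wd_29 : Tr (ℕ × List ℕ) := (.node (nat_lit 5310) (.node (nat_lit 5265) (.node (nat_lit 5242) (.node (nat_lit 5231) (.node (nat_lit 5225) (.node (nat_lit 5222) (.node (nat_lit 5221) (.leaf ((nat_lit 696), [nat_lit 3])) (.leaf ((nat_lit 694), [nat_lit 2]))) (.node (nat_lit 5223) (.leaf ((nat_lit 804), [nat_lit 0])) (.node (nat_lit 5224) (.leaf ((nat_lit 834), [nat_lit 0, nat_lit 3, nat_lit 0])) (.leaf ((nat_lit 847), [nat_lit 0, nat_lit 3, nat_lit 0])))))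
 (.node (nat_lit 5228) (.node (nat_lit 5226) (.leaf ((nat_lit 451), [nat_lit 0, nat_lit 2, nat_lit 0])) (.node (nat_lit 5227) (.leaf ((nat_lit 455), [nat_lit 0, nat_lit 3])) (.leaf ((nat_lit 564), [nat_lit 1, nat_lit 3, nat_lit 1])))) (.node (nat_lit 5229) (.leaf ((nat_lit 853), [nat_lit 1, nat_lit 2, nat_lit 1])) (.node (nat_lit 5230) (.leaf ((nat_lit 956), [nat_lit 3, nat_lit 1])) (.leaf ((nat_lit 694), [nat_lit 3, nat_lit 1]))))))
 (.node (nat_lit 5236) (.node (nat_lit 5233) (.node (nat_lit 5232) (.leaf ((nat_lit 490), [nat_lit 0])) (.leaf ((nat_lit 853), [nat_lit 2]))) (.node (nat_lit 5234) (.leaf ((nat_lit 637), [nat_lit 1])) (.node (nat_lit 5235) (.leaf ((nat_lit 455), [nat_lit 1, nat_lit 2, nat_lit 1])) (.leaf ((nat_lit 866), [nat_lit 2])))))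
 (.node (nat_lit 5239) (.node (nat_lit 5237) (.leaf ((nat_lit 698), [nat_lit 0])) (.node (nat_lit 5238) (.leaf ((nat_lit 607), [nat_lit 3])) (.leaf ((nat_lit 917), [nat_lit 1, nat_lit 3, nat_lit 0])))) (.node (nat_lit 5240) (.leaf ((nat_lit 685), [nat_lit 2, nat_lit 1])) (.node (nat_lit 5241) (.leaf ((nat_lit 900), [nat_lit 0, nat_lit 3])) (.leaf ((nat_lit 812), [nat_lit 2, nat_lit 0])))))))
 (.node (nat_lit 5253) (.node (nat_lit 5247) (.node (nat_lit 5244) (.node (nat_lit 5243) (.leaf ((nat_lit 829), [])) (.leaf ((nat_lit 460), [nat_lit 0, nat_lit 2, nat_lit 0]))) (.node (nat_lit 5245) (.leaf ((nat_lit 583), [nat_lit 3, nat_lit 0])) (.node (nat_lit 5246) (.leaf ((nat_lit 462), [nat_lit 0, nat_lit 3, nat_lit 1])) (.leaf ((nat_lit 684), [nat_lit 3, nat_lit 0])))))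
 (.node (nat_lit 5250) (.node (nat_lit 5248) (.leaf ((nat_lit 923), [nat_lit 2])) (.node (nat_lit 5249) (.leaf ((nat_lit 467), [nat_lit 1, nat_lit 2, nat_lit 1])) (.leaf ((nat_lit 516), [nat_lit 1, nat_lit 2, nat_lit 1])))) (.node (nat_lit 5251) (.leaf ((nat_lit 851), [nat_lit 0, nat_lit 3, nat_lit 0])) (.node (nat_lit 5252) (.leaf ((nat_lit 715), [nat_lit 0, nat_lit 2, nat_lit 1])) (.leaf ((nat_lit 943), [nat_lit 2, nat_lit 1]))))))
 (.node (nat_lit 5259) (.node (nat_lit 5256) (.node (nat_lit 5254) (.leaf ((nat_lit 744), [nat_lit 1, nat_lit 3])) (.node (nat_lit 5255) (.leaf ((nat_lit 816), [nat_lit 0, nat_lit 2, nat_lit 1])) (.leaf ((nat_lit 464), [nat_lit 2])))) (.node (nat_lit 5257) (.leaf ((nat_lit 679), [nat_lit 0, nat_lit 2, nat_lit 0])) (.node (nat_lit 5258) (.leaf ((nat_lit 469), [nat_lit 1, nat_lit 3])) (.leaf ((nat_lit 826), [nat_lit 0])))))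
 (.node (nat_lit 5262) (.node (nat_lit 5260) (.leaf ((nat_lit 624), [nat_lit 1, nat_lit 2])) (.node (nat_lit 5261) (.leaf ((nat_lit 767), [nat_lit 2, nat_lit 1])) (.leaf ((nat_lit 726), [nat_lit 1, nat_lit 3, nat_lit 0])))) (.node (nat_lit 5263) (.leaf ((nat_lit 493), [nat_lit 0, nat_lit 2])) (.node (nat_lit 5264) (.leaf ((nat_lit 826), [nat_lit 3, nat_lit 1])) (.leaf ((nat_lit 469), [nat_lit 2]))))))))
 (.node (nat_lit 5287) (.node (nat_lit 5276) (.node (nat_lit 5270) (.node (nat_lit 5267) (.node (nat_lit 5266) (.leaf ((nat_lit 629), [nat_lit 2])) (.leaf ((nat_lit 810), [nat_lit 2, nat_lit 0]))) (.node (nat_lit 5268) (.leaf ((nat_lit 859), [])) (.node (nat_lit 5269) (.leaf ((nat_lit 912), [nat_lit 0, nat_lit 3, nat_lit 0])) (.leaf ((nat_lit 479), [nat_lit 0, nat_lit 2])))))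
 (.node (nat_lit 5273) (.node (nat_lit 5271) (.leaf ((nat_lit 528), [nat_lit 0, nat_lit 3])) (.node (nat_lit 5272) (.leaf ((nat_lit 710), [nat_lit 0, nat_lit 3, nat_lit 0])) (.leaf ((nat_lit 470), [nat_lit 1])))) (.node (nat_lit 5274) (.leaf ((nat_lit 518), [nat_lit 1, nat_lit 2, nat_lit 1])) (.node (nat_lit 5275) (.leaf ((nat_lit 937), [nat_lit 1, nat_lit 2, nat_lit 1])) (.leaf ((nat_lit 761), [nat_lit 0, nat_lit 3]))))))
 (.node (nat_lit 5281) (.node (nat_lit 5278) (.node (nat_lit 5277) (.leaf ((nat_lit 809), [nat_lit 3, nat_lit 1])) (.leaf ((nat_lit 646), [nat_lit 0, nat_lit 2, nat_lit 0]))) (.node (nat_lit 5279) (.leaf ((nat_lit 471), [nat_lit 1, nat_lit 2])) (.node (nat_lit 5280) (.leaf ((nat_lit 762), [nat_lit 0, nat_lit 3, nat_lit 1])) (.leaf ((nat_lit 818), [nat_lit 3])))))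
 (.node (nat_lit 5284) (.node (nat_lit 5282) (.leaf ((nat_lit 796), [nat_lit 3, nat_lit 0])) (.node (nat_lit 5283) (.leaf ((nat_lit 795), [nat_lit 0])) (.leaf ((nat_lit 933), [nat_lit 3, nat_lit 1])))) (.node (nat_lit 5285) (.leaf ((nat_lit 859), [nat_lit 0, nat_lit 3])) (.node (nat_lit 5286) (.leaf ((nat_lit 471), [nat_lit 1, nat_lit 2, nat_lit 0])) (.leaf ((nat_lit 797), [nat_lit 3])))))))
 (.node (nat_lit 5298) (.node (nat_lit 5292) (.node (nat_lit 5289) (.node (nat_lit 5288) (.leaf ((nat_lit 627), [nat_lit 3, nat_lit 0])) (.leaf ((nat_lit 850), [nat_lit 1, nat_lit 3, nat_lit 0]))) (.node (nat_lit 5290) (.leaf ((nat_lit 477), [nat_lit 1])) (.node (nat_lit 5291) (.leaf ((nat_lit 562), [nat_lit 0, nat_lit 2, nat_lit 0])) (.leaf ((nat_lit 869), [nat_lit 1, nat_lit 3, nat_lit 1])))))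
 (.node (nat_lit 5295) (.node (nat_lit 5293) (.leaf ((nat_lit 674), [nat_lit 3])) (.node (nat_lit 5294) (.leaf ((nat_lit 737), [nat_lit 2, nat_lit 1])) (.leaf ((nat_lit 480), [nat_lit 2, nat_lit 1])))) (.node (nat_lit 5296) (.leaf ((nat_lit 930), [nat_lit 3, nat_lit 1])) (.node (nat_lit 5297) (.leaf ((nat_lit 836), [nat_lit 0, nat_lit 3, nat_lit 0])) (.leaf ((nat_lit 478), [nat_lit 1, nat_lit 2, nat_lit 0]))))))
 (.node (nat_lit 5304) (.node (nat_lit 5301) (.node (nat_lit 5299) (.leaf ((nat_lit 479), [nat_lit 3, nat_lit 0])) (.node (nat_lit 5300) (.leaf ((nat_lit 912), [nat_lit 2, nat_lit 0])) (.leaf ((nat_lit 946), [nat_lit 3, nat_lit 0])))) (.node (nat_lit 5302) (.leaf ((nat_lit 649), [nat_lit 0, nat_lit 2, nat_lit 0])) (.node (nat_lit 5303) (.leaf ((nat_lit 662), [nat_lit 0, nat_lit 2, nat_lit 0])) (.leaf ((nat_lit 933), [nat_lit 0, nat_lit 3, nat_lit 1])))))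
 (.node (nat_lit 5307) (.node (nat_lit 5305) (.leaf ((nat_lit 480), [nat_lit 2])) (.node (nat_lit 5306) (.leaf ((nat_lit 711), [nat_lit 3, nat_lit 0])) (.leaf ((nat_lit 674), [nat_lit 3, nat_lit 0])))) (.node (nat_lit 5308) (.leaf ((nat_lit 671), [nat_lit 0, nat_lit 2, nat_lit 1])) (.node (nat_lit 5309) (.leaf ((nat_lit 670), [nat_lit 1, nat_lit 2, nat_lit 0])) (.leaf ((nat_lit 555), [nat_lit 1, nat_lit 3])))))))))
 (.node (nat_lit 5355) (.node (nat_lit 5332) (.node (nat_lit 5321) (.node (nat_lit 5315) (.node (nat_lit 5312) (.node (nat_lit 5311) (.leaf ((nat_lit 652), [nat_lit 3, nat_lit 0])) (.leaf ((nat_lit 664), [nat_lit 1, nat_lit 3, nat_lit 1]))) (.node (nat_lit 5313) (.leaf ((nat_lit 924), [nat_lit 1])) (.node (nat_lit 5314) (.leaf ((nat_lit 480), [nat_lit 0])) (.leaf ((nat_lit 664), [nat_lit 1, nat_lit 2, nat_lit 1])))))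
 (.node (nat_lit 5318) (.node (nat_lit 5316) (.leaf ((nat_lit 935), [nat_lit 0, nat_lit 2, nat_lit 0])) (.node (nat_lit 5317) (.leaf ((nat_lit 959), [nat_lit 0, nat_lit 3, nat_lit 0])) (.leaf ((nat_lit 914), [nat_lit 0, nat_lit 3])))) (.node (nat_lit 5319) (.leaf ((nat_lit 648), [nat_lit 1, nat_lit 2, nat_lit 1])) (.node (nat_lit 5320) (.leaf ((nat_lit 483), [nat_lit 3])) (.leaf ((nat_lit 482), [nat_lit 0, nat_lit 3, nat_lit 1]))))))
 (.node (nat_lit 5326) (.node (nat_lit 5323) (.node (nat_lit 5322) (.leaf ((nat_lit 532), [nat_lit 2, nat_lit 1])) (.leaf ((nat_lit 552), [nat_lit 1, nat_lit 2]))) (.node (nat_lit 5324) (.leaf ((nat_lit 529), [nat_lit 1, nat_lit 2, nat_lit 1])) (.node (nat_lit 5325) (.leaf ((nat_lit 910), [nat_lit 1, nat_lit 2, nat_lit 1])) (.leaf ((nat_lit 907), [nat_lit 1, nat_lit 3, nat_lit 0])))))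
 (.node (nat_lit 5329) (.node (nat_lit 5327) (.leaf ((nat_lit 637), [nat_lit 2, nat_lit 1])) (.node (nat_lit 5328) (.leaf ((nat_lit 482), [nat_lit 3])) (.leaf ((nat_lit 483), [])))) (.node (nat_lit 5330) (.leaf ((nat_lit 935), [nat_lit 1, nat_lit 2, nat_lit 0])) (.node (nat_lit 5331) (.leaf ((nat_lit 955), [nat_lit 3, nat_lit 0])) (.leaf ((nat_lit 484), [nat_lit 0, nat_lit 2, nat_lit 0])))))))
 (.node (nat_lit 5343) (.node (nat_lit 5337) (.node (nat_lit 5334) (.node (nat_lit 5333) (.leaf ((nat_lit 937), [nat_lit 1, nat_lit 2, nat_lit 0])) (.leaf ((nat_lit 947), [nat_lit 1, nat_lit 2, nat_lit 1]))) (.node (nat_lit 5335) (.leaf ((nat_lit 484), [nat_lit 0, nat_lit 2, nat_lit 0])) (.node (nat_lit 5336) (.leaf ((nat_lit 726), [nat_lit 1, nat_lit 2, nat_lit 0])) (.leaf ((nat_lit 725), [nat_lit 0, nat_lit 2, nat_lit 0])))))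
 (.node (nat_lit 5340) (.node (nat_lit 5338) (.leaf ((nat_lit 824), [nat_lit 1, nat_lit 2, nat_lit 1])) (.node (nat_lit 5339) (.leaf ((nat_lit 823), [nat_lit 0, nat_lit 3, nat_lit 1])) (.leaf ((nat_lit 831), [nat_lit 3, nat_lit 1])))) (.node (nat_lit 5341) (.leaf ((nat_lit 628), [])) (.node (nat_lit 5342) (.leaf ((nat_lit 645), [nat_lit 1, nat_lit 2])) (.leaf ((nat_lit 643), [nat_lit 1, nat_lit 2, nat_lit 0]))))))
 (.node (nat_lit 5349) (.node (nat_lit 5346) (.node (nat_lit 5344) (.leaf ((nat_lit 496), [nat_lit 1, nat_lit 2, nat_lit 0])) (.node (nat_lit 5345) (.leaf ((nat_lit 934), [nat_lit 1, nat_lit 3])) (.leaf ((nat_lit 550), [nat_lit 0, nat_lit 2])))) (.node (nat_lit 5347) (.leaf ((nat_lit 497), [nat_lit 0, nat_lit 3])) (.node (nat_lit 5348) (.leaf ((nat_lit 714), [nat_lit 2])) (.leaf ((nat_lit 713), [nat_lit 3, nat_lit 0])))))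
 (.node (nat_lit 5352) (.node (nat_lit 5350) (.leaf ((nat_lit 848), [nat_lit 1, nat_lit 3, nat_lit 1])) (.node (nat_lit 5351) (.leaf ((nat_lit 724), [nat_lit 0, nat_lit 2, nat_lit 1])) (.leaf ((nat_lit 784), [nat_lit 1, nat_lit 3, nat_lit 1])))) (.node (nat_lit 5353) (.leaf ((nat_lit 714), [nat_lit 1, nat_lit 3, nat_lit 1])) (.node (nat_lit 5354) (.leaf ((nat_lit 497), [nat_lit 1, nat_lit 3, nat_lit 0])) (.leaf ((nat_lit 578), [nat_lit 3, nat_lit 0]))))))))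
 (.node (nat_lit 5377) (.node (nat_lit 5366) (.node (nat_lit 5360) (.node (nat_lit 5357) (.node (nat_lit 5356) (.leaf ((nat_lit 498), [nat_lit 3, nat_lit 0])) (.leaf ((nat_lit 497), [nat_lit 3, nat_lit 1]))) (.node (nat_lit 5358) (.leaf ((nat_lit 787), [nat_lit 1, nat_lit 3, nat_lit 0])) (.node (nat_lit 5359) (.leaf ((nat_lit 770), [nat_lit 0, nat_lit 2])) (.leaf ((nat_lit 665), [nat_lit 0])))))
 (.node (nat_lit 5363) (.node (nat_lit 5361) (.leaf ((nat_lit 502), [nat_lit 3, nat_lit 0])) (.node (nat_lit 5362) (.leaf ((nat_lit 752), [])) (.leaf ((nat_lit 610), [nat_lit 1, nat_lit 3])))) (.node (nat_lit 5364) (.leaf ((nat_lit 712), [nat_lit 0, nat_lit 3, nat_lit 0])) (.node (nat_lit 5365) (.leaf ((nat_lit 919), [nat_lit 1, nat_lit 2, nat_lit 1])) (.leaf ((nat_lit 940), [nat_lit 1, nat_lit 3, nat_lit 1]))))))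
 (.node (nat_lit 5371) (.node (nat_lit 5368) (.node (nat_lit 5367) (.leaf ((nat_lit 792), [nat_lit 1, nat_lit 3, nat_lit 1])) (.leaf ((nat_lit 777), [nat_lit 1, nat_lit 3]))) (.node (nat_lit 5369) (.leaf ((nat_lit 513), [nat_lit 1, nat_lit 3, nat_lit 1])) (.node (nat_lit 5370) (.leaf ((nat_lit 504), [nat_lit 1])) (.leaf ((nat_lit 508), [nat_lit 0, nat_lit 3, nat_lit 1])))))
 (.node (nat_lit 5374) (.node (nat_lit 5372) (.leaf ((nat_lit 727), [nat_lit 0, nat_lit 2, nat_lit 1])) (.node (nat_lit 5373) (.leaf ((nat_lit 953), [nat_lit 1, nat_lit 3, nat_lit 0])) (.leaf ((nat_lit 663), [nat_lit 1, nat_lit 3, nat_lit 1])))) (.node (nat_lit 5375) (.leaf ((nat_lit 541), [nat_lit 0, nat_lit 2, nat_lit 0])) (.node (nat_lit 5376) (.leaf ((nat_lit 660), [nat_lit 0, nat_lit 2])) (.leaf ((nat_lit 944), [nat_lit 1, nat_lit 3, nat_lit 1])))))))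
 (.node (nat_lit 5388) (.node (nat_lit 5382) (.node (nat_lit 5379) (.node (nat_lit 5378) (.leaf ((nat_lit 947), [nat_lit 1, nat_lit 2, nat_lit 0])) (.leaf ((nat_lit 791), [nat_lit 2, nat_lit 0]))) (.node (nat_lit 5380) (.leaf ((nat_lit 509), [])) (.node (nat_lit 5381) (.leaf ((nat_lit 950), [nat_lit 2, nat_lit 0])) (.leaf ((nat_lit 908), [nat_lit 0, nat_lit 2, nat_lit 1])))))
 (.node (nat_lit 5385) (.node (nat_lit 5383) (.leaf ((nat_lit 512), [nat_lit 2, nat_lit 1])) (.node (nat_lit 5384) (.leaf ((nat_lit 957), [nat_lit 2, nat_lit 0])) (.leaf ((nat_lit 753), [nat_lit 1, nat_lit 2, nat_lit 1])))) (.node (nat_lit 5386) (.leaf ((nat_lit 633), [nat_lit 1])) (.node (nat_lit 5387) (.leaf ((nat_lit 909), [nat_lit 0, nat_lit 3, nat_lit 1])) (.leaf ((nat_lit 924), [nat_lit 0, nat_lit 3, nat_lit 0]))))))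
 (.node (nat_lit 5394) (.node (nat_lit 5391) (.node (nat_lit 5389) (.leaf ((nat_lit 957), [nat_lit 3])) (.node (nat_lit 5390) (.leaf ((nat_lit 512), [nat_lit 1, nat_lit 3, nat_lit 1])) (.leaf ((nat_lit 695), [])))) (.node (nat_lit 5392) (.leaf ((nat_lit 905), [])) (.node (nat_lit 5393) (.leaf ((nat_lit 700), [nat_lit 0, nat_lit 2])) (.leaf ((nat_lit 520), [nat_lit 1, nat_lit 2, nat_lit 0])))))
 (.node (nat_lit 5397) (.node (nat_lit 5395) (.leaf ((nat_lit 627), [nat_lit 1, nat_lit 3])) (.node (nat_lit 5396) (.leaf ((nat_lit 797), [nat_lit 2, nat_lit 1])) (.leaf ((nat_lit 849), [nat_lit 2, nat_lit 1])))) (.node (nat_lit 5398) (.leaf ((nat_lit 864), [nat_lit 0, nat_lit 2, nat_lit 1])) (.node (nat_lit 5399) (.leaf ((nat_lit 840), [nat_lit 0, nat_lit 2, nat_lit 1])) (.leaf ((nat_lit 514), [nat_lit 0, nat_lit 2]))))))))))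
noncomputable def n1Wd_30 : Tr (ℕ × List ℕ) := (.node (nat_lit 5490) (.node (nat_lit 5445) (.node (nat_lit 5422) (.node (nat_lit 5411) (.node (nat_lit 5405) (.node (nat_lit 5402) (.node (nat_lit 5401) (.leaf ((nat_lit 575), [nat_lit 2, nat_lit 1])) (.leaf ((nat_lit 576), [nat_lit 3, nat_lit 1]))) (.node (nat_lit 5403) (.leaf ((nat_lit 873), [nat_lit 2, nat_lit 1])) (.node (nat_lit 5404) (.leaf ((nat_lit 515), [nat_lit 0])) (.leaf ((nat_lit 656), [nat_lit 1, nat_lit 3, nat_lit 1])))))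
 (.node (nat_lit 5408) (.node (nat_lit 5406) (.leaf ((nat_lit 830), [nat_lit 0, nat_lit 2])) (.node (nat_lit 5407) (.leaf ((nat_lit 848), [nat_lit 1, nat_lit 2])) (.leaf ((nat_lit 516), [nat_lit 1, nat_lit 3, nat_lit 1])))) (.node (nat_lit 5409) (.leaf ((nat_lit 847), [nat_lit 0, nat_lit 3])) (.node (nat_lit 5410) (.leaf ((nat_lit 628), [nat_lit 1, nat_lit 3, nat_lit 0])) (.leaf ((nat_lit 842), [nat_lit 1]))))))
 (.node (nat_lit 5416) (.node (nat_lit 5413) (.node (nat_lit 5412) (.leaf ((nat_lit 589), [nat_lit 2, nat_lit 0])) (.leaf ((nat_lit 750), [nat_lit 0, nat_lit 3]))) (.node (nat_lit 5414) (.leaf ((nat_lit 520), [nat_lit 2, nat_lit 1])) (.node (nat_lit 5415) (.leaf ((nat_lit 586), [nat_lit 3, nat_lit 1])) (.leaf ((nat_lit 604), [nat_lit 0, nat_lit 2, nat_lit 0])))))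
 (.node (nat_lit 5419) (.node (nat_lit 5417) (.leaf ((nat_lit 592), [nat_lit 3, nat_lit 0])) (.node (nat_lit 5418) (.leaf ((nat_lit 811), [nat_lit 1, nat_lit 3, nat_lit 1])) (.leaf ((nat_lit 521), [nat_lit 3, nat_lit 0])))) (.node (nat_lit 5420) (.leaf ((nat_lit 909), [nat_lit 0, nat_lit 3, nat_lit 1])) (.node (nat_lit 5421) (.leaf ((nat_lit 736), [nat_lit 1, nat_lit 3, nat_lit 0])) (.leaf ((nat_lit 550), [nat_lit 2])))))))
 (.node (nat_lit 5433) (.node (nat_lit 5427) (.node (nat_lit 5424) (.node (nat_lit 5423) (.leaf ((nat_lit 658), [nat_lit 2])) (.leaf ((nat_lit 958), [nat_lit 2, nat_lit 1]))) (.node (nat_lit 5425) (.leaf ((nat_lit 554), [nat_lit 3, nat_lit 0])) (.node (nat_lit 5426) (.leaf ((nat_lit 526), [nat_lit 0, nat_lit 2])) (.leaf ((nat_lit 525), [nat_lit 1, nat_lit 3, nat_lit 0])))))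
 (.node (nat_lit 5430) (.node (nat_lit 5428) (.leaf ((nat_lit 644), [nat_lit 0])) (.node (nat_lit 5429) (.leaf ((nat_lit 655), [nat_lit 3, nat_lit 1])) (.leaf ((nat_lit 934), [nat_lit 3, nat_lit 0])))) (.node (nat_lit 5431) (.leaf ((nat_lit 863), [nat_lit 0, nat_lit 2])) (.node (nat_lit 5432) (.leaf ((nat_lit 646), [nat_lit 1, nat_lit 2, nat_lit 1])) (.leaf ((nat_lit 916), [nat_lit 1, nat_lit 3, nat_lit 1]))))))
 (.node (nat_lit 5439) (.node (nat_lit 5436) (.node (nat_lit 5434) (.leaf ((nat_lit 898), [])) (.node (nat_lit 5435) (.leaf ((nat_lit 630), [nat_lit 0, nat_lit 2])) (.leaf ((nat_lit 526), [nat_lit 1, nat_lit 3, nat_lit 0])))) (.node (nat_lit 5437) (.leaf ((nat_lit 948), [nat_lit 0])) (.node (nat_lit 5438) (.leaf ((nat_lit 782), [nat_lit 1])) (.leaf ((nat_lit 781), [nat_lit 2])))))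
 (.node (nat_lit 5442) (.node (nat_lit 5440) (.leaf ((nat_lit 914), [nat_lit 0, nat_lit 3, nat_lit 1])) (.node (nat_lit 5441) (.leaf ((nat_lit 623), [nat_lit 0, nat_lit 3, nat_lit 1])) (.leaf ((nat_lit 527), [nat_lit 0, nat_lit 2, nat_lit 1])))) (.node (nat_lit 5443) (.leaf ((nat_lit 528), [nat_lit 0, nat_lit 2])) (.node (nat_lit 5444) (.leaf ((nat_lit 946), [nat_lit 0])) (.leaf ((nat_lit 912), [nat_lit 3, nat_lit 0]))))))))
 (.node (nat_lit 5467) (.node (nat_lit 5456) (.node (nat_lit 5450) (.node (nat_lit 5447) (.node (nat_lit 5446) (.leaf ((nat_lit 887), [nat_lit 1, nat_lit 2, nat_lit 0])) (.leaf ((nat_lit 931), [nat_lit 1, nat_lit 3]))) (.node (nat_lit 5448) (.leaf ((nat_lit 915), [nat_lit 2, nat_lit 0])) (.node (nat_lit 5449) (.leaf ((nat_lit 537), [nat_lit 2, nat_lit 1])) (.leaf ((nat_lit 668), [nat_lit 2])))))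
 (.node (nat_lit 5453) (.node (nat_lit 5451) (.leaf ((nat_lit 777), [nat_lit 3, nat_lit 1])) (.node (nat_lit 5452) (.leaf ((nat_lit 721), [nat_lit 1, nat_lit 3, nat_lit 0])) (.leaf ((nat_lit 727), [nat_lit 0, nat_lit 3, nat_lit 0])))) (.node (nat_lit 5454) (.leaf ((nat_lit 896), [nat_lit 0, nat_lit 3, nat_lit 1])) (.node (nat_lit 5455) (.leaf ((nat_lit 542), [nat_lit 1, nat_lit 2, nat_lit 1])) (.leaf ((nat_lit 903), [nat_lit 0, nat_lit 2, nat_lit 1]))))))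
 (.node (nat_lit 5461) (.node (nat_lit 5458) (.node (nat_lit 5457) (.leaf ((nat_lit 541), [nat_lit 1])) (.leaf ((nat_lit 822), [nat_lit 2]))) (.node (nat_lit 5459) (.leaf ((nat_lit 897), [nat_lit 0, nat_lit 2, nat_lit 1])) (.node (nat_lit 5460) (.leaf ((nat_lit 932), [nat_lit 0, nat_lit 2])) (.leaf ((nat_lit 544), [nat_lit 1, nat_lit 2, nat_lit 0])))))
 (.node (nat_lit 5464) (.node (nat_lit 5462) (.leaf ((nat_lit 599), [])) (.node (nat_lit 5463) (.leaf ((nat_lit 887), [nat_lit 0, nat_lit 3, nat_lit 0])) (.leaf ((nat_lit 541), [nat_lit 3, nat_lit 0])))) (.node (nat_lit 5465) (.leaf ((nat_lit 663), [nat_lit 0, nat_lit 2, nat_lit 0])) (.node (nat_lit 5466) (.leaf ((nat_lit 629), [nat_lit 0, nat_lit 3])) (.leaf ((nat_lit 914), [nat_lit 3, nat_lit 1])))))))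
 (.node (nat_lit 5478) (.node (nat_lit 5472) (.node (nat_lit 5469) (.node (nat_lit 5468) (.leaf ((nat_lit 959), [nat_lit 1, nat_lit 2, nat_lit 1])) (.leaf ((nat_lit 958), [nat_lit 0, nat_lit 2]))) (.node (nat_lit 5470) (.leaf ((nat_lit 790), [nat_lit 0, nat_lit 2])) (.node (nat_lit 5471) (.leaf ((nat_lit 915), [nat_lit 3])) (.leaf ((nat_lit 541), [nat_lit 1])))))
 (.node (nat_lit 5475) (.node (nat_lit 5473) (.leaf ((nat_lit 878), [nat_lit 1, nat_lit 2, nat_lit 1])) (.node (nat_lit 5474) (.leaf ((nat_lit 883), [nat_lit 1, nat_lit 3])) (.leaf ((nat_lit 907), [nat_lit 1, nat_lit 2])))) (.node (nat_lit 5476) (.leaf ((nat_lit 551), [nat_lit 3, nat_lit 1])) (.node (nat_lit 5477) (.leaf ((nat_lit 935), [nat_lit 1, nat_lit 2, nat_lit 1])) (.leaf ((nat_lit 863), [nat_lit 0, nat_lit 2, nat_lit 0]))))))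
 (.node (nat_lit 5484) (.node (nat_lit 5481) (.node (nat_lit 5479) (.leaf ((nat_lit 573), [nat_lit 0, nat_lit 2])) (.node (nat_lit 5480) (.leaf ((nat_lit 845), [nat_lit 0, nat_lit 2])) (.leaf ((nat_lit 553), [nat_lit 0])))) (.node (nat_lit 5482) (.leaf ((nat_lit 679), [nat_lit 1])) (.node (nat_lit 5483) (.leaf ((nat_lit 614), [nat_lit 1, nat_lit 3, nat_lit 1])) (.leaf ((nat_lit 683), [nat_lit 3, nat_lit 1])))))
 (.node (nat_lit 5487) (.node (nat_lit 5485) (.leaf ((nat_lit 911), [nat_lit 0, nat_lit 2])) (.node (nat_lit 5486) (.leaf ((nat_lit 886), [nat_lit 2, nat_lit 1])) (.leaf ((nat_lit 934), [nat_lit 0, nat_lit 3, nat_lit 1])))) (.node (nat_lit 5488) (.leaf ((nat_lit 906), [nat_lit 0, nat_lit 2, nat_lit 1])) (.node (nat_lit 5489) (.leaf ((nat_lit 642), [nat_lit 0, nat_lit 2, nat_lit 1])) (.leaf ((nat_lit 554), [nat_lit 1, nat_lit 2])))))))))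
 (.node (nat_lit 5535) (.node (nat_lit 5512) (.node (nat_lit 5501) (.node (nat_lit 5495) (.node (nat_lit 5492) (.node (nat_lit 5491) (.leaf ((nat_lit 557), [nat_lit 1])) (.leaf ((nat_lit 952), [nat_lit 1, nat_lit 3, nat_lit 0]))) (.node (nat_lit 5493) (.leaf ((nat_lit 932), [nat_lit 1, nat_lit 3, nat_lit 1])) (.node (nat_lit 5494) (.leaf ((nat_lit 709), [nat_lit 1, nat_lit 2])) (.leaf ((nat_lit 911), [nat_lit 2])))))
 (.node (nat_lit 5498) (.node (nat_lit 5496) (.leaf ((nat_lit 907), [nat_lit 1, nat_lit 3])) (.node (nat_lit 5497) (.leaf ((nat_lit 952), [nat_lit 1, nat_lit 3, nat_lit 0])) (.leaf ((nat_lit 557), [nat_lit 1])))) (.node (nat_lit 5499) (.leaf ((nat_lit 905), [nat_lit 0, nat_lit 2, nat_lit 0])) (.node (nat_lit 5500) (.leaf ((nat_lit 810), [nat_lit 1, nat_lit 2, nat_lit 0])) (.leaf ((nat_lit 629), [nat_lit 1, nat_lit 3, nat_lit 1]))))))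
 (.node (nat_lit 5506) (.node (nat_lit 5503) (.node (nat_lit 5502) (.leaf ((nat_lit 608), [nat_lit 2, nat_lit 0])) (.leaf ((nat_lit 873), [nat_lit 1, nat_lit 2, nat_lit 0]))) (.node (nat_lit 5504) (.leaf ((nat_lit 577), [nat_lit 1, nat_lit 3, nat_lit 0])) (.node (nat_lit 5505) (.leaf ((nat_lit 575), [nat_lit 1, nat_lit 2, nat_lit 0])) (.leaf ((nat_lit 576), [nat_lit 3, nat_lit 0])))))
 (.node (nat_lit 5509) (.node (nat_lit 5507) (.leaf ((nat_lit 758), [nat_lit 0, nat_lit 2, nat_lit 1])) (.node (nat_lit 5508) (.leaf ((nat_lit 697), [nat_lit 0, nat_lit 3, nat_lit 1])) (.leaf ((nat_lit 827), [nat_lit 1, nat_lit 3, nat_lit 1])))) (.node (nat_lit 5510) (.leaf ((nat_lit 580), [nat_lit 1, nat_lit 2, nat_lit 0])) (.node (nat_lit 5511) (.leaf ((nat_lit 692), [])) (.leaf ((nat_lit 949), [nat_lit 2])))))))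
 (.node (nat_lit 5523) (.node (nat_lit 5517) (.node (nat_lit 5514) (.node (nat_lit 5513) (.leaf ((nat_lit 843), [nat_lit 0, nat_lit 3])) (.leaf ((nat_lit 680), [nat_lit 0, nat_lit 2, nat_lit 1]))) (.node (nat_lit 5515) (.leaf ((nat_lit 894), [nat_lit 0, nat_lit 3, nat_lit 0])) (.node (nat_lit 5516) (.leaf ((nat_lit 692), [nat_lit 1, nat_lit 2, nat_lit 1])) (.leaf ((nat_lit 580), [nat_lit 1, nat_lit 3, nat_lit 1])))))
 (.node (nat_lit 5520) (.node (nat_lit 5518) (.leaf ((nat_lit 867), [nat_lit 1, nat_lit 2, nat_lit 0])) (.node (nat_lit 5519) (.leaf ((nat_lit 582), [nat_lit 2, nat_lit 0])) (.leaf ((nat_lit 613), [nat_lit 1, nat_lit 3, nat_lit 1])))) (.node (nat_lit 5521) (.leaf ((nat_lit 806), [nat_lit 1, nat_lit 3, nat_lit 1])) (.node (nat_lit 5522) (.leaf ((nat_lit 774), [nat_lit 0, nat_lit 3, nat_lit 1])) (.leaf ((nat_lit 805), [nat_lit 0]))))))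
 (.node (nat_lit 5529) (.node (nat_lit 5526) (.node (nat_lit 5524) (.leaf ((nat_lit 592), [nat_lit 1, nat_lit 2, nat_lit 1])) (.node (nat_lit 5525) (.leaf ((nat_lit 604), [nat_lit 2, nat_lit 0])) (.leaf ((nat_lit 695), [nat_lit 3, nat_lit 1])))) (.node (nat_lit 5527) (.leaf ((nat_lit 949), [nat_lit 1, nat_lit 3, nat_lit 0])) (.node (nat_lit 5528) (.leaf ((nat_lit 767), [nat_lit 2, nat_lit 0])) (.leaf ((nat_lit 801), [nat_lit 0, nat_lit 3])))))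
 (.node (nat_lit 5532) (.node (nat_lit 5530) (.leaf ((nat_lit 944), [nat_lit 0])) (.node (nat_lit 5531) (.leaf ((nat_lit 680), [nat_lit 0, nat_lit 2])) (.leaf ((nat_lit 592), [nat_lit 1, nat_lit 2, nat_lit 1])))) (.node (nat_lit 5533) (.leaf ((nat_lit 844), [nat_lit 3, nat_lit 0])) (.node (nat_lit 5534) (.leaf ((nat_lit 595), [nat_lit 0, nat_lit 3])) (.leaf ((nat_lit 843), [nat_lit 0, nat_lit 3]))))))))
 (.node (nat_lit 5557) (.node (nat_lit 5546) (.node (nat_lit 5540) (.node (nat_lit 5537) (.node (nat_lit 5536) (.leaf ((nat_lit 932), [nat_lit 0, nat_lit 3, nat_lit 0])) (.leaf ((nat_lit 926), [nat_lit 1, nat_lit 2, nat_lit 1]))) (.node (nat_lit 5538) (.leaf ((nat_lit 700), [nat_lit 1, nat_lit 2, nat_lit 1])) (.node (nat_lit 5539) (.leaf ((nat_lit 833), [nat_lit 0, nat_lit 2, nat_lit 0])) (.leaf ((nat_lit 597), [nat_lit 0, nat_lit 2, nat_lit 0])))))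
 (.node (nat_lit 5543) (.node (nat_lit 5541) (.leaf ((nat_lit 831), [nat_lit 0, nat_lit 2, nat_lit 0])) (.node (nat_lit 5542) (.leaf ((nat_lit 874), [nat_lit 3])) (.leaf ((nat_lit 772), [nat_lit 1, nat_lit 2, nat_lit 1])))) (.node (nat_lit 5544) (.leaf ((nat_lit 666), [nat_lit 1])) (.node (nat_lit 5545) (.leaf ((nat_lit 609), [nat_lit 0])) (.leaf ((nat_lit 928), [nat_lit 2]))))))
 (.node (nat_lit 5551) (.node (nat_lit 5548) (.node (nat_lit 5547) (.leaf ((nat_lit 885), [nat_lit 0])) (.leaf ((nat_lit 746), [nat_lit 0]))) (.node (nat_lit 5549) (.leaf ((nat_lit 654), [nat_lit 1, nat_lit 2])) (.node (nat_lit 5550) (.leaf ((nat_lit 897), [nat_lit 1, nat_lit 2, nat_lit 1])) (.leaf ((nat_lit 671), [nat_lit 1, nat_lit 2])))))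
 (.node (nat_lit 5554) (.node (nat_lit 5552) (.leaf ((nat_lit 837), [nat_lit 0, nat_lit 2, nat_lit 0])) (.node (nat_lit 5553) (.leaf ((nat_lit 735), [nat_lit 0])) (.leaf ((nat_lit 654), [nat_lit 1, nat_lit 3, nat_lit 0])))) (.node (nat_lit 5555) (.leaf ((nat_lit 746), [nat_lit 0, nat_lit 2, nat_lit 0])) (.node (nat_lit 5556) (.leaf ((nat_lit 622), [nat_lit 1, nat_lit 2, nat_lit 1])) (.leaf ((nat_lit 824), [nat_lit 0, nat_lit 3, nat_lit 0])))))))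
 (.node (nat_lit 5568) (.node (nat_lit 5562) (.node (nat_lit 5559) (.node (nat_lit 5558) (.leaf ((nat_lit 758), [nat_lit 0, nat_lit 3, nat_lit 1])) (.leaf ((nat_lit 757), [nat_lit 1, nat_lit 3]))) (.node (nat_lit 5560) (.leaf ((nat_lit 959), [nat_lit 0])) (.node (nat_lit 5561) (.leaf ((nat_lit 922), [nat_lit 0, nat_lit 3, nat_lit 0])) (.leaf ((nat_lit 623), [nat_lit 0, nat_lit 2, nat_lit 1])))))
 (.node (nat_lit 5565) (.node (nat_lit 5563) (.leaf ((nat_lit 632), [nat_lit 2, nat_lit 1])) (.node (nat_lit 5564) (.leaf ((nat_lit 654), [nat_lit 1, nat_lit 2])) (.leaf ((nat_lit 930), [nat_lit 3, nat_lit 0])))) (.node (nat_lit 5566) (.leaf ((nat_lit 836), [nat_lit 0])) (.node (nat_lit 5567) (.leaf ((nat_lit 930), [nat_lit 0, nat_lit 3, nat_lit 0])) (.leaf ((nat_lit 662), [nat_lit 2, nat_lit 1]))))))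
 (.node (nat_lit 5574) (.node (nat_lit 5571) (.node (nat_lit 5569) (.leaf ((nat_lit 634), [nat_lit 1, nat_lit 3, nat_lit 0])) (.node (nat_lit 5570) (.leaf ((nat_lit 924), [nat_lit 3])) (.leaf ((nat_lit 664), [nat_lit 1, nat_lit 2])))) (.node (nat_lit 5572) (.leaf ((nat_lit 711), [nat_lit 0, nat_lit 3, nat_lit 0])) (.node (nat_lit 5573) (.leaf ((nat_lit 660), [nat_lit 1, nat_lit 3])) (.leaf ((nat_lit 931), [nat_lit 0, nat_lit 2, nat_lit 1])))))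
 (.node (nat_lit 5577) (.node (nat_lit 5575) (.leaf ((nat_lit 782), [nat_lit 3])) (.node (nat_lit 5576) (.leaf ((nat_lit 948), [nat_lit 1, nat_lit 3])) (.leaf ((nat_lit 780), [nat_lit 0, nat_lit 2, nat_lit 0])))) (.node (nat_lit 5578) (.leaf ((nat_lit 635), [nat_lit 0, nat_lit 2])) (.node (nat_lit 5579) (.leaf ((nat_lit 946), [nat_lit 0, nat_lit 2])) (.leaf ((nat_lit 654), [nat_lit 2, nat_lit 1]))))))))))
noncomputable def n1Wd_31 : Tr (ℕ × List ℕ) := (.node (nat_lit 5670) (.node (nat_lit 5625) (.node (nat_lit 5602) (.node (nat_lit 5591) (.node (nat_lit 5585) (.node (nat_lit 5582) (.node (nat_lit 5581) (.leaf ((nat_lit 636), [nat_lit 1, nat_lit 2])) (.leaf ((nat_lit 660), [nat_lit 0, nat_lit 2, nat_lit 1]))) (.node (nat_lit 5583) (.leaf ((nat_lit 927), [nat_lit 1, nat_lit 2])) (.node (nat_lit 5584) (.leaf ((nat_lit 882), [nat_lit 0, nat_lit 2])) (.leaf ((nat_lit 927), [nat_lit 1,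 nat_lit 2, nat_lit 1])))))
 (.node (nat_lit 5588) (.node (nat_lit 5586) (.leaf ((nat_lit 658), [nat_lit 2, nat_lit 1])) (.node (nat_lit 5587) (.leaf ((nat_lit 811), [nat_lit 0])) (.leaf ((nat_lit 945), [nat_lit 0, nat_lit 2, nat_lit 0])))) (.node (nat_lit 5589) (.leaf ((nat_lit 734), [nat_lit 1, nat_lit 2])) (.node (nat_lit 5590) (.leaf ((nat_lit 637), [])) (.leaf ((nat_lit 907), [nat_lit 2, nat_lit 0]))))))
 (.node (nat_lit 5596) (.node (nat_lit 5593) (.node (nat_lit 5592) (.leaf ((nat_lit 928), [nat_lit 0, nat_lit 3, nat_lit 1])) (.leaf ((nat_lit 646), [nat_lit 0, nat_lit 2]))) (.node (nat_lit 5594) (.leaf ((nat_lit 863), [nat_lit 0, nat_lit 3, nat_lit 1])) (.node (nat_lit 5595) (.leaf ((nat_lit 915), [nat_lit 0, nat_lit 2, nat_lit 0])) (.leaf ((nat_lit 922), [nat_lit 1, nat_lit 2, nat_lit 1])))))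
 (.node (nat_lit 5599) (.node (nat_lit 5597) (.leaf ((nat_lit 959), [nat_lit 1, nat_lit 3, nat_lit 0])) (.node (nat_lit 5598) (.leaf ((nat_lit 909), [nat_lit 3, nat_lit 1])) (.leaf ((nat_lit 648), [nat_lit 0])))) (.node (nat_lit 5600) (.leaf ((nat_lit 958), [nat_lit 0, nat_lit 2, nat_lit 0])) (.node (nat_lit 5601) (.leaf ((nat_lit 959), [nat_lit 1, nat_lit 2])) (.leaf ((nat_lit 880), [nat_lit 0, nat_lit 2])))))))
 (.node (nat_lit 5613) (.node (nat_lit 5607) (.node (nat_lit 5604) (.node (nat_lit 5603) (.leaf ((nat_lit 958), [nat_lit 0, nat_lit 3, nat_lit 0])) (.leaf ((nat_lit 883), [nat_lit 0, nat_lit 2, nat_lit 1]))) (.node (nat_lit 5605) (.leaf ((nat_lit 958), [nat_lit 1])) (.node (nat_lit 5606) (.leaf ((nat_lit 648), [nat_lit 3, nat_lit 0])) (.leaf ((nat_lit 914), [nat_lit 0, nat_lit 2, nat_lit 1])))))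
 (.node (nat_lit 5610) (.node (nat_lit 5608) (.leaf ((nat_lit 801), [nat_lit 0, nat_lit 2, nat_lit 0])) (.node (nat_lit 5609) (.leaf ((nat_lit 890), [nat_lit 2, nat_lit 0])) (.leaf ((nat_lit 904), [nat_lit 1, nat_lit 2])))) (.node (nat_lit 5611) (.leaf ((nat_lit 766), [nat_lit 3, nat_lit 0])) (.node (nat_lit 5612) (.leaf ((nat_lit 888), [nat_lit 1, nat_lit 3, nat_lit 0])) (.leaf ((nat_lit 764), [nat_lit 3, nat_lit 1]))))))
 (.node (nat_lit 5619) (.node (nat_lit 5616) (.node (nat_lit 5614) (.leaf ((nat_lit 653), [nat_lit 2])) (.node (nat_lit 5615) (.leaf ((nat_lit 912), [nat_lit 0, nat_lit 3, nat_lit 0])) (.leaf ((nat_lit 885), [nat_lit 1, nat_lit 3, nat_lit 1])))) (.node (nat_lit 5617) (.leaf ((nat_lit 810), [])) (.node (nat_lit 5618) (.leaf ((nat_lit 658), [nat_lit 0])) (.leaf ((nat_lit 939), [nat_lit 1, nat_lit 3, nat_lit 0])))))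
 (.node (nat_lit 5622) (.node (nat_lit 5620) (.leaf ((nat_lit 743), [nat_lit 2, nat_lit 1])) (.node (nat_lit 5621) (.leaf ((nat_lit 957), [nat_lit 0, nat_lit 2])) (.leaf ((nat_lit 732), [nat_lit 0, nat_lit 3, nat_lit 1])))) (.node (nat_lit 5623) (.leaf ((nat_lit 879), [nat_lit 0, nat_lit 3, nat_lit 0])) (.node (nat_lit 5624) (.leaf ((nat_lit 662), [nat_lit 1, nat_lit 3, nat_lit 0])) (.leaf ((nat_lit 950), [nat_lit 1, nat_lit 3, nat_lit 1]))))))))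
 (.node (nat_lit 5647) (.node (nat_lit 5636) (.node (nat_lit 5630) (.node (nat_lit 5627) (.node (nat_lit 5626) (.leaf ((nat_lit 852), [nat_lit 0, nat_lit 2])) (.leaf ((nat_lit 888), [nat_lit 1, nat_lit 3, nat_lit 0]))) (.node (nat_lit 5628) (.leaf ((nat_lit 956), [nat_lit 2, nat_lit 0])) (.node (nat_lit 5629) (.leaf ((nat_lit 720), [nat_lit 2])) (.leaf ((nat_lit 950), [nat_lit 1, nat_lit 2, nat_lit 0])))))
 (.node (nat_lit 5633) (.node (nat_lit 5631) (.leaf ((nat_lit 662), [nat_lit 2, nat_lit 1])) (.node (nat_lit 5632) (.leaf ((nat_lit 745), [nat_lit 0, nat_lit 2, nat_lit 0])) (.leaf ((nat_lit 780), [nat_lit 1, nat_lit 3])))) (.node (nat_lit 5634) (.leaf ((nat_lit 777), [nat_lit 1])) (.node (nat_lit 5635) (.leaf ((nat_lit 691), [nat_lit 0])) (.leaf ((nat_lit 722), [nat_lit 2, nat_lit 1]))))))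
 (.node (nat_lit 5641) (.node (nat_lit 5638) (.node (nat_lit 5637) (.leaf ((nat_lit 936), [nat_lit 1, nat_lit 2, nat_lit 0])) (.leaf ((nat_lit 839), [nat_lit 2, nat_lit 0]))) (.node (nat_lit 5639) (.leaf ((nat_lit 775), [nat_lit 2, nat_lit 0])) (.node (nat_lit 5640) (.leaf ((nat_lit 734), [nat_lit 1, nat_lit 3, nat_lit 1])) (.leaf ((nat_lit 692), [nat_lit 2])))))
 (.node (nat_lit 5644) (.node (nat_lit 5642) (.leaf ((nat_lit 894), [nat_lit 0, nat_lit 2, nat_lit 0])) (.node (nat_lit 5643) (.leaf ((nat_lit 827), [nat_lit 0, nat_lit 2, nat_lit 1])) (.leaf ((nat_lit 788), [nat_lit 3, nat_lit 1])))) (.node (nat_lit 5645) (.leaf ((nat_lit 830), [])) (.node (nat_lit 5646) (.leaf ((nat_lit 803), [nat_lit 3, nat_lit 0])) (.leaf ((nat_lit 695), [nat_lit 3])))))))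
 (.node (nat_lit 5658) (.node (nat_lit 5652) (.node (nat_lit 5649) (.node (nat_lit 5648) (.leaf ((nat_lit 753), [nat_lit 1, nat_lit 2, nat_lit 0])) (.leaf ((nat_lit 957), [nat_lit 2]))) (.node (nat_lit 5650) (.leaf ((nat_lit 694), [])) (.node (nat_lit 5651) (.leaf ((nat_lit 956), [])) (.leaf ((nat_lit 722), [nat_lit 0, nat_lit 3, nat_lit 1])))))
 (.node (nat_lit 5655) (.node (nat_lit 5653) (.leaf ((nat_lit 730), [nat_lit 1, nat_lit 3, nat_lit 0])) (.node (nat_lit 5654) (.leaf ((nat_lit 734), [nat_lit 2, nat_lit 1])) (.leaf ((nat_lit 945), [nat_lit 1, nat_lit 3, nat_lit 1])))) (.node (nat_lit 5656) (.leaf ((nat_lit 696), [])) (.node (nat_lit 5657) (.leaf ((nat_lit 954), [nat_lit 2, nat_lit 0])) (.leaf ((nat_lit 953), [nat_lit 2, nat_lit 1]))))))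
 (.node (nat_lit 5664) (.node (nat_lit 5661) (.node (nat_lit 5659) (.leaf ((nat_lit 816), [nat_lit 3, nat_lit 0])) (.node (nat_lit 5660) (.leaf ((nat_lit 823), [nat_lit 3, nat_lit 0])) (.leaf ((nat_lit 875), [nat_lit 0, nat_lit 3])))) (.node (nat_lit 5662) (.leaf ((nat_lit 698), [nat_lit 1, nat_lit 2, nat_lit 0])) (.node (nat_lit 5663) (.leaf ((nat_lit 866), [nat_lit 1, nat_lit 3])) (.leaf ((nat_lit 797), [nat_lit 2, nat_lit 1])))))
 (.node (nat_lit 5667) (.node (nat_lit 5665) (.leaf ((nat_lit 896), [nat_lit 0, nat_lit 2, nat_lit 0])) (.node (nat_lit 5666) (.leaf ((nat_lit 712), [nat_lit 2, nat_lit 0])) (.leaf ((nat_lit 862), [nat_lit 1, nat_lit 3])))) (.node (nat_lit 5668) (.leaf ((nat_lit 921), [nat_lit 1])) (.node (nat_lit 5669) (.leaf ((nat_lit 704), [nat_lit 1])) (.leaf ((nat_lit 751), [nat_lit 0, nat_lit 3, nat_lit 0])))))))))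
 (.node (nat_lit 5715) (.node (nat_lit 5692) (.node (nat_lit 5681) (.node (nat_lit 5675) (.node (nat_lit 5672) (.node (nat_lit 5671) (.leaf ((nat_lit 708), [nat_lit 0])) (.leaf ((nat_lit 931), [nat_lit 1, nat_lit 3, nat_lit 1]))) (.node (nat_lit 5673) (.leaf ((nat_lit 942), [nat_lit 0, nat_lit 2, nat_lit 0])) (.node (nat_lit 5674) (.leaf ((nat_lit 815), [nat_lit 1])) (.leaf ((nat_lit 948), [nat_lit 1, nat_lit 2, nat_lit 1])))))
 (.node (nat_lit 5678) (.node (nat_lit 5676) (.leaf ((nat_lit 954), [nat_lit 2, nat_lit 0])) (.node (nat_lit 5677) (.leaf ((nat_lit 710), [nat_lit 0])) (.leaf ((nat_lit 907), [nat_lit 1])))) (.node (nat_lit 5679) (.leaf ((nat_lit 883), [nat_lit 1, nat_lit 2])) (.node (nat_lit 5680) (.leaf ((nat_lit 821), [nat_lit 1, nat_lit 2, nat_lit 0])) (.leaf ((nat_lit 929), [nat_lit 3, nat_lit 1]))))))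
 (.node (nat_lit 5686) (.node (nat_lit 5683) (.node (nat_lit 5682) (.leaf ((nat_lit 959), [nat_lit 1, nat_lit 3, nat_lit 1])) (.leaf ((nat_lit 712), [nat_lit 0, nat_lit 3, nat_lit 0]))) (.node (nat_lit 5684) (.leaf ((nat_lit 896), [nat_lit 1, nat_lit 3, nat_lit 0])) (.node (nat_lit 5685) (.leaf ((nat_lit 954), [nat_lit 3])) (.leaf ((nat_lit 757), [nat_lit 2, nat_lit 1])))))
 (.node (nat_lit 5689) (.node (nat_lit 5687) (.leaf ((nat_lit 778), [nat_lit 1, nat_lit 2, nat_lit 1])) (.node (nat_lit 5688) (.leaf ((nat_lit 888), [nat_lit 0, nat_lit 3, nat_lit 0])) (.leaf ((nat_lit 906), [nat_lit 1])))) (.node (nat_lit 5690) (.leaf ((nat_lit 929), [nat_lit 2, nat_lit 0])) (.node (nat_lit 5691) (.leaf ((nat_lit 778), [nat_lit 0, nat_lit 2, nat_lit 0])) (.leaf ((nat_lit 726), [nat_lit 2])))))))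
 (.node (nat_lit 5703) (.node (nat_lit 5697) (.node (nat_lit 5694) (.node (nat_lit 5693) (.leaf ((nat_lit 945), [nat_lit 0, nat_lit 3, nat_lit 0])) (.leaf ((nat_lit 951), [nat_lit 1, nat_lit 2, nat_lit 0]))) (.node (nat_lit 5695) (.leaf ((nat_lit 921), [nat_lit 1, nat_lit 2, nat_lit 0])) (.node (nat_lit 5696) (.leaf ((nat_lit 953), [nat_lit 0, nat_lit 3, nat_lit 1])) (.leaf ((nat_lit 727), [nat_lit 1, nat_lit 3])))))
 (.node (nat_lit 5700) (.node (nat_lit 5698) (.leaf ((nat_lit 918), [nat_lit 3])) (.node (nat_lit 5699) (.leaf ((nat_lit 951), [nat_lit 3])) (.leaf ((nat_lit 753), [nat_lit 3, nat_lit 1])))) (.node (nat_lit 5701) (.leaf ((nat_lit 809), [nat_lit 1, nat_lit 2, nat_lit 1])) (.node (nat_lit 5702) (.leaf ((nat_lit 938), [nat_lit 1, nat_lit 3, nat_lit 0])) (.leaf ((nat_lit 937), [nat_lit 0, nat_lit 2, nat_lit 0]))))))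
 (.node (nat_lit 5709) (.node (nat_lit 5706) (.node (nat_lit 5704) (.leaf ((nat_lit 731), [nat_lit 2, nat_lit 1])) (.node (nat_lit 5705) (.leaf ((nat_lit 896), [nat_lit 1, nat_lit 3])) (.leaf ((nat_lit 764), [nat_lit 0, nat_lit 2, nat_lit 0])))) (.node (nat_lit 5707) (.leaf ((nat_lit 733), [nat_lit 1, nat_lit 2])) (.node (nat_lit 5708) (.leaf ((nat_lit 956), [nat_lit 3, nat_lit 1])) (.leaf ((nat_lit 732), [nat_lit 3])))))
 (.node (nat_lit 5712) (.node (nat_lit 5710) (.leaf ((nat_lit 843), [nat_lit 0, nat_lit 3])) (.node (nat_lit 5711) (.leaf ((nat_lit 949), [nat_lit 2])) (.leaf ((nat_lit 948), [nat_lit 1, nat_lit 3, nat_lit 0])))) (.node (nat_lit 5713) (.leaf ((nat_lit 916), [nat_lit 1, nat_lit 2, nat_lit 0])) (.node (nat_lit 5714) (.leaf ((nat_lit 915), [nat_lit 1, nat_lit 2, nat_lit 0])) (.leaf ((nat_lit 863), [nat_lit 1, nat_lit 2]))))))))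
 (.node (nat_lit 5737) (.node (nat_lit 5726) (.node (nat_lit 5720) (.node (nat_lit 5717) (.node (nat_lit 5716) (.leaf ((nat_lit 853), [nat_lit 3])) (.leaf ((nat_lit 863), [nat_lit 1, nat_lit 2, nat_lit 0]))) (.node (nat_lit 5718) (.leaf ((nat_lit 736), [nat_lit 1, nat_lit 2, nat_lit 0])) (.node (nat_lit 5719) (.leaf ((nat_lit 767), [nat_lit 1, nat_lit 2, nat_lit 0])) (.leaf ((nat_lit 949), [nat_lit 0, nat_lit 2, nat_lit 1])))))
 (.node (nat_lit 5723) (.node (nat_lit 5721) (.leaf ((nat_lit 895), [nat_lit 1, nat_lit 2, nat_lit 0])) (.node (nat_lit 5722) (.leaf ((nat_lit 756), [nat_lit 1, nat_lit 2, nat_lit 0])) (.leaf ((nat_lit 753), [nat_lit 0, nat_lit 3, nat_lit 1])))) (.node (nat_lit 5724) (.leaf ((nat_lit 942), [nat_lit 0, nat_lit 3])) (.node (nat_lit 5725) (.leaf ((nat_lit 763), [nat_lit 1])) (.leaf ((nat_lit 791), [nat_lit 0, nat_lit 2]))))))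
 (.node (nat_lit 5731) (.node (nat_lit 5728) (.node (nat_lit 5727) (.leaf ((nat_lit 947), [nat_lit 2])) (.leaf ((nat_lit 795), [nat_lit 0, nat_lit 3, nat_lit 0]))) (.node (nat_lit 5729) (.leaf ((nat_lit 942), [nat_lit 1, nat_lit 3])) (.node (nat_lit 5730) (.leaf ((nat_lit 945), [nat_lit 1, nat_lit 3])) (.leaf ((nat_lit 765), [nat_lit 0, nat_lit 2, nat_lit 0])))))
 (.node (nat_lit 5734) (.node (nat_lit 5732) (.leaf ((nat_lit 764), [nat_lit 1, nat_lit 3, nat_lit 0])) (.node (nat_lit 5733) (.leaf ((nat_lit 888), [nat_lit 1, nat_lit 2])) (.leaf ((nat_lit 792), [nat_lit 3, nat_lit 0])))) (.node (nat_lit 5735) (.leaf ((nat_lit 791), [nat_lit 0, nat_lit 3, nat_lit 0])) (.node (nat_lit 5736) (.leaf ((nat_lit 780), [nat_lit 0, nat_lit 3, nat_lit 0])) (.leaf ((nat_lit 776), [nat_lit 3])))))))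
 (.node (nat_lit 5748) (.node (nat_lit 5742) (.node (nat_lit 5739) (.node (nat_lit 5738) (.leaf ((nat_lit 951), [nat_lit 0, nat_lit 2])) (.leaf ((nat_lit 775), [nat_lit 2, nat_lit 1]))) (.node (nat_lit 5740) (.leaf ((nat_lit 871), [nat_lit 0, nat_lit 2])) (.node (nat_lit 5741) (.leaf ((nat_lit 941), [])) (.leaf ((nat_lit 937), [nat_lit 1, nat_lit 3])))))
 (.node (nat_lit 5745) (.node (nat_lit 5743) (.leaf ((nat_lit 898), [nat_lit 2])) (.node (nat_lit 5744) (.leaf ((nat_lit 897), [nat_lit 1, nat_lit 3])) (.leaf ((nat_lit 941), [nat_lit 3])))) (.node (nat_lit 5746) (.leaf ((nat_lit 865), [nat_lit 1, nat_lit 2, nat_lit 1])) (.node (nat_lit 5747) (.leaf ((nat_lit 936), [nat_lit 3, nat_lit 1])) (.leaf ((nat_lit 791), [nat_lit 1, nat_lit 2, nat_lit 1]))))))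
 (.node (nat_lit 5754) (.node (nat_lit 5751) (.node (nat_lit 5749) (.leaf ((nat_lit 934), [nat_lit 0])) (.node (nat_lit 5750) (.leaf ((nat_lit 933), [nat_lit 1, nat_lit 3, nat_lit 1])) (.leaf ((nat_lit 911), [nat_lit 3, nat_lit 1])))) (.node (nat_lit 5752) (.leaf ((nat_lit 859), [nat_lit 0])) (.node (nat_lit 5753) (.leaf ((nat_lit 933), [nat_lit 1, nat_lit 2, nat_lit 1])) (.leaf ((nat_lit 903), [nat_lit 0, nat_lit 3])))))
 (.node (nat_lit 5757) (.node (nat_lit 5755) (.leaf ((nat_lit 886), [nat_lit 1, nat_lit 2, nat_lit 1])) (.node (nat_lit 5756) (.leaf ((nat_lit 911), [nat_lit 0, nat_lit 3, nat_lit 0])) (.leaf ((nat_lit 933), [nat_lit 3, nat_lit 0])))) (.node (nat_lit 5758) (.leaf ((nat_lit 926), [nat_lit 1])) (.node (nat_lit 5759) (.leaf ((nat_lit 932), [nat_lit 1, nat_lit 2, nat_lit 0])) (.leaf ((nat_lit 946), [nat_lit 0, nat_lit 2, nat_lit 0]))))))))))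
noncomputable def n1Wd : Tr (ℕ × List ℕ) := (.node (nat_lit 2880) (.node (nat_lit 1440) (.node (nat_lit 720) (.node (nat_lit 360) (.node (nat_lit 180) n1Wd_0 n1Wd_1) (.node (nat_lit 540) n1Wd_2 n1Wd_3)) (.node (nat_lit 1080) (.node (nat_lit 900) n1Wd_4 n1Wd_5) (.node (nat_lit 1260) n1Wd_6 n1Wd_7))) (.node (nat_lit 2160) (.node (nat_lit 1800) (.node (nat_lit 1620) n1Wd_8 n1Wd_9) (.node (nat_lit 1980) n1Wd_10 n1Wd_11)) (.node (nat_lit 2520) (.node (nat_lit 2340) n1Wd_12 n1Wd_13) (.node (nat_lit 2700) n1Wd_14 n1Wd_15)))) (.node (nat_lit 4320) (.node (nat_lit 3600) (.node (nat_lit 3240) (.node (nat_lit 3060) n1Wd_16 n1Wd_17) (.node (nat_lit 3420) n1Wd_18 n1Wd_19)) (.node (nat_lit 3960) (.node (nat_lit 3780) n1Wd_20 n1Wd_21) (.node (nat_lit 4140) n1Wd_22 n1Wd_23))) (.node (nat_lit 5040) (.node (nat_lit 4680) (.node (nat_lit 4500) n1Wd_24 n1Wd_25) (.node (nat_lit 4860) n1Wd_26 n1Wd_27))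 (.node (nat_lit 5400) (.node (nat_lit 5220) n1Wd_28 n1Wd_29) (.node (nat_lit 5580) n1Wd_30 n1Wd_31)))))
theorem n1q_0 : allR 0 416 (dblChk (nat_lit 4) (nat_lit 15) (MG.gl42L.map Lev.b) MG.gl42T n1mT n1Dd (topN MG.gl42L) 960 54 n1PA n1Wd) = true := by decide +kernel
theorem n1q_1 : allR 416 416 (dblChk (nat_lit 4) (nat_lit 15) (MG.gl42L.map Lev.b) MG.gl42T n1mT n1Dd (topN MG.gl42L) 960 54 n1PA n1Wd) = true := by decide +kernel
theorem n1q_2 : allR 832 128 (dblChk (nat_lit 4) (nat_lit 15) (MG.gl42L.map Lev.b) MG.gl42T n1mT n1Dd (topN MG.gl42L) 960 54 n1PA n1Wd) = true := by decide +kernel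
theorem n1q : allR 0 960 (dblChk (nat_lit 4) (nat_lit 15) (MG.gl42L.map Lev.b) MG.gl42T n1mT n1Dd (topN MG.gl42L) 960 54 n1PA n1Wd) = true := (allR_add (allR_add n1q_0 n1q_1) n1q_2)
noncomputable def n1Ws : List (List ℕ) := [[nat_lit 0, nat_lit 3, nat_lit 0],
 [nat_lit 3, nat_lit 0],
 [nat_lit 1, nat_lit 3, nat_lit 0],
 [],
 [nat_lit 3],
 [nat_lit 2],
 [nat_lit 1, nat_lit 2, nat_lit 1],
 [nat_lit 0, nat_lit 2, nat_lit 0],
 [nat_lit 3, nat_lit 1],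
 [nat_lit 1],
 [nat_lit 1, nat_lit 2],
 [nat_lit 1, nat_lit 3],
 [nat_lit 0, nat_lit 2, nat_lit 1],
 [nat_lit 2, nat_lit 0],
 [nat_lit 1, nat_lit 3, nat_lit 1],
 [nat_lit 0],
 [nat_lit 0, nat_lit 3],
 [nat_lit 0, nat_lit 2],
 [nat_lit 1, nat_lit 2, nat_lit 0],
 [nat_lit 0, nat_lit 3, nat_lit 1],
 [nat_lit 2, nat_lit 1]]
theorem n1Wsc : band (incr (fun w => keyB 15 (n1mL.map Lev.b) (apL (nat_lit 4) (nat_lit 15) n1mT w)) n1Ws 0) (Nat.ble (chainOrd 15 n1mL) n1Ws.length) = true := by decide +kernel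
noncomputable def n1CE_0 : Tr (ℕ × List ℕ × List (List ℕ)) := (.node (nat_lit 70) (.node (nat_lit 35) (.node (nat_lit 17) (.node (nat_lit 8) (.node (nat_lit 4) (.node (nat_lit 2) (.node (nat_lit 1) (.leaf ((nat_lit 0), [nat_lit 0, nat_lit 3, nat_lit 0], [])) (.leaf ((nat_lit 0), [nat_lit 3, nat_lit 0], []))) (.node (nat_lit 3) (.leaf ((nat_lit 0), [nat_lit 1, nat_lit 3, nat_lit 0], [])) (.leaf ((nat_lit 0), [], []))))
 (.node (nat_lit 6) (.node (nat_lit 5) (.leaf ((nat_lit 0), [nat_lit 3], [])) (.leaf ((nat_lit 0), [nat_lit 2], []))) (.node (nat_lit 7) (.leaf ((nat_lit 0), [nat_lit 1, nat_lit 2, nat_lit 1], [])) (.leaf ((nat_lit 0), [nat_lit 0, nat_lit 2, nat_lit 0], [])))))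
 (.node (nat_lit 12) (.node (nat_lit 10) (.node (nat_lit 9) (.leaf ((nat_lit 0), [nat_lit 3, nat_lit 1], [])) (.leaf ((nat_lit 0), [nat_lit 1], []))) (.node (nat_lit 11) (.leaf ((nat_lit 0), [nat_lit 1, nat_lit 2], [])) (.leaf ((nat_lit 0), [nat_lit 1, nat_lit 3], []))))
 (.node (nat_lit 14) (.node (nat_lit 13) (.leaf ((nat_lit 0), [nat_lit 0, nat_lit 2, nat_lit 1], [])) (.leaf ((nat_lit 0), [nat_lit 2, nat_lit 0], []))) (.node (nat_lit 15) (.leaf ((nat_lit 0), [nat_lit 1, nat_lit 3, nat_lit 1], [])) (.node (nat_lit 16) (.leaf ((nat_lit 0), [nat_lit 0], [])) (.leaf ((nat_lit 0), [nat_lit 0, nat_lit 3], [])))))))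
 (.node (nat_lit 26) (.node (nat_lit 21) (.node (nat_lit 19) (.node (nat_lit 18) (.leaf ((nat_lit 0), [nat_lit 0, nat_lit 2], [])) (.leaf ((nat_lit 0), [nat_lit 1, nat_lit 2, nat_lit 0], []))) (.node (nat_lit 20) (.leaf ((nat_lit 0), [nat_lit 0, nat_lit 3, nat_lit 1], [])) (.leaf ((nat_lit 0), [nat_lit 2, nat_lit 1], []))))
 (.node (nat_lit 23) (.node (nat_lit 22) (.leaf ((nat_lit 12), [nat_lit 0, nat_lit 5, nat_lit 3, nat_lit 1, nat_lit 4, nat_lit 3, nat_lit 2, nat_lit 0, nat_lit 3, nat_lit 2, nat_lit 0], [[nat_lit 1, nat_lit 1], [nat_lit 99, nat_lit 1, nat_lit 99]])) (.leaf ((nat_lit 12), [nat_lit 0, nat_lit 5, nat_lit 3, nat_lit 1, nat_lit 4, nat_lit 3, nat_lit 2, nat_lit 0, nat_lit 3, nat_lit 2, nat_lit 0], [[nat_lit 1, nat_lit 1], [nat_lit 99, nat_lit 99, nat_lit 99, nat_lit 0]]))) (.node (nat_lit 24) (.leaf ((nat_lit 9), [nat_lit 3, nat_lit 1, nat_lit 5, nat_lit 2, nat_lit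 1, nat_lit 0, nat_lit 4, nat_lit 3, nat_lit 2, nat_lit 0, nat_lit 3, nat_lit 0], [[nat_lit 1], [nat_lit 99, nat_lit 99]])) (.node (nat_lit 25) (.leaf ((nat_lit 9), [nat_lit 1, nat_lit 4, nat_lit 0, nat_lit 3, nat_lit 2], [[nat_lit 0, nat_lit 99], [nat_lit 99, nat_lit 0, nat_lit 0, nat_lit 99, nat_lit 0, nat_lit 0]])) (.leaf ((nat_lit 11), [nat_lit 2, nat_lit 1, nat_lit 5, nat_lit 4, nat_lit 2, nat_lit 1, nat_lit 4, nat_lit 1, nat_lit 3, nat_lit 2, nat_lit 1], [[nat_lit 1, nat_lit 1, nat_lit 1], [nat_lit 99, nat_lit 99]]))))))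
 (.node (nat_lit 30) (.node (nat_lit 28) (.node (nat_lit 27) (.leaf ((nat_lit 12), [nat_lit 2, nat_lit 1, nat_lit 5, nat_lit 3, nat_lit 1, nat_lit 0, nat_lit 4, nat_lit 0, nat_lit 3, nat_lit 2, nat_lit 1, nat_lit 0], [[nat_lit 1, nat_lit 1], [nat_lit 99, nat_lit 99, nat_lit 99, nat_lit 0]])) (.leaf ((nat_lit 9), [nat_lit 3, nat_lit 1, nat_lit 5, nat_lit 2, nat_lit 1, nat_lit 0, nat_lit 4, nat_lit 3, nat_lit 2, nat_lit 0, nat_lit 3, nat_lit 0], [[nat_lit 1], [nat_lit 99, nat_lit 0, nat_lit 99, nat_lit 0]]))) (.node (nat_lit 29) (.leaf ((nat_lit 9), [nat_lit 1, nat_lit 4, nat_lit 0, nat_lit 3, nat_lit 2], [[nat_lit 0, nat_lit 99, nat_lit 1], [nat_lit 99, nat_lit 0, nat_lit 99, nat_lit 0]])) (.leaf ((nat_lit 11), [nat_lit 2, nat_lit 1, nat_lit 5, nat_lit 3, nat_lit 1, nat_lit 4, nat_lit 1, nat_lit 0, nat_lit 3, nat_lit 2, nat_lit 1, nat_lit 0], [[nat_lit 0, nat_lit 99, nat_lit 1, nat_lit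 1], [nat_lit 1, nat_lit 99, nat_lit 0, nat_lit 0]]))))
 (.node (nat_lit 32) (.node (nat_lit 31) (.leaf ((nat_lit 12), [nat_lit 5, nat_lit 4, nat_lit 5, nat_lit 4, nat_lit 2, nat_lit 1, nat_lit 4, nat_lit 2, nat_lit 3, nat_lit 1, nat_lit 0], [[nat_lit 1, nat_lit 1], [nat_lit 99, nat_lit 1, nat_lit 99]])) (.leaf ((nat_lit 12), [nat_lit 5, nat_lit 4, nat_lit 5, nat_lit 4, nat_lit 2, nat_lit 1, nat_lit 4, nat_lit 2, nat_lit 3, nat_lit 1, nat_lit 0], [[nat_lit 1, nat_lit 1], [nat_lit 99, nat_lit 99, nat_lit 99, nat_lit 0]]))) (.node (nat_lit 33) (.leaf ((nat_lit 9), [nat_lit 0, nat_lit 5, nat_lit 3, nat_lit 1, nat_lit 4, nat_lit 3, nat_lit 2, nat_lit 0, nat_lit 3, nat_lit 2], [[nat_lit 0, nat_lit 0, nat_lit 99, nat_lit 1], [nat_lit 99, nat_lit 99, nat_lit 99, nat_lit 1]])) (.node (nat_lit 34) (.leaf ((nat_lit 12), [nat_lit 0, nat_lit 5, nat_lit 3, nat_lit 1, nat_lit 4, nat_lit 3, nat_lit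 2, nat_lit 0, nat_lit 3, nat_lit 2, nat_lit 0], [[nat_lit 1, nat_lit 1], [nat_lit 99, nat_lit 99, nat_lit 0]])) (.leaf ((nat_lit 11), [nat_lit 0, nat_lit 5, nat_lit 1, nat_lit 4, nat_lit 0, nat_lit 3, nat_lit 2, nat_lit 1, nat_lit 0], [[nat_lit 99, nat_lit 99, nat_lit 1, nat_lit 1], [nat_lit 0, nat_lit 99, nat_lit 99, nat_lit 0]]))))))))
 (.node (nat_lit 52) (.node (nat_lit 43) (.node (nat_lit 39) (.node (nat_lit 37) (.node (nat_lit 36) (.leaf ((nat_lit 9), [nat_lit 1, nat_lit 0, nat_lit 4, nat_lit 0, nat_lit 3, nat_lit 2], [[nat_lit 99, nat_lit 0, nat_lit 0], [nat_lit 99, nat_lit 1, nat_lit 99, nat_lit 1]])) (.leaf ((nat_lit 9), [nat_lit 3, nat_lit 1, nat_lit 5, nat_lit 2, nat_lit 0, nat_lit 4, nat_lit 2, nat_lit 1, nat_lit 3], [[nat_lit 99, nat_lit 99, nat_lit 0, nat_lit 0], [nat_lit 99, nat_lit 0, nat_lit 99, nat_lit 0]]))) (.node (nat_lit 38) (.leaf ((nat_lit 9), [nat_lit 1,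 nat_lit 0, nat_lit 4, nat_lit 0, nat_lit 3, nat_lit 2], [[nat_lit 99, nat_lit 0, nat_lit 0, nat_lit 0], [nat_lit 99, nat_lit 99]])) (.leaf ((nat_lit 11), [nat_lit 2, nat_lit 1, nat_lit 5, nat_lit 4, nat_lit 2, nat_lit 1, nat_lit 4, nat_lit 1, nat_lit 3, nat_lit 2, nat_lit 1], [[nat_lit 1, nat_lit 1, nat_lit 1], [nat_lit 99, nat_lit 0, nat_lit 99, nat_lit 0]]))))
 (.node (nat_lit 41) (.node (nat_lit 40) (.leaf ((nat_lit 9), [nat_lit 2, nat_lit 1, nat_lit 0, nat_lit 5, nat_lit 2, nat_lit 1, nat_lit 4, nat_lit 1, nat_lit 3, nat_lit 0], [[nat_lit 1, nat_lit 1], [nat_lit 99, nat_lit 99]])) (.leaf ((nat_lit 12), [nat_lit 5, nat_lit 4, nat_lit 5, nat_lit 4, nat_lit 2, nat_lit 1, nat_lit 4, nat_lit 2, nat_lit 3, nat_lit 1, nat_lit 0], [[nat_lit 1, nat_lit 1], [nat_lit 99, nat_lit 99, nat_lit 0]]))) (.node (nat_lit 42) (.leaf ((nat_lit 9), [nat_lit 3, nat_lit 1, nat_lit 5, nat_lit 2, nat_lit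 4, nat_lit 3, nat_lit 2, nat_lit 3], [[nat_lit 1, nat_lit 1, nat_lit 99, nat_lit 0], [nat_lit 99, nat_lit 99]])) (.leaf ((nat_lit 10), [nat_lit 0, nat_lit 5, nat_lit 3, nat_lit 1, nat_lit 4, nat_lit 3, nat_lit 1, nat_lit 0], [[nat_lit 99, nat_lit 99, nat_lit 0, nat_lit 99, nat_lit 0, nat_lit 0], [nat_lit 1, nat_lit 1, nat_lit 1, nat_lit 99, nat_lit 99]])))))
 (.node (nat_lit 47) (.node (nat_lit 45) (.node (nat_lit 44) (.leaf ((nat_lit 9), [nat_lit 2, nat_lit 1, nat_lit 0, nat_lit 5, nat_lit 3, nat_lit 1, nat_lit 0, nat_lit 4, nat_lit 3, nat_lit 2, nat_lit 0, nat_lit 3, nat_lit 2, nat_lit 1, nat_lit 0], [[nat_lit 99, nat_lit 1, nat_lit 99, nat_lit 99, nat_lit 0], [nat_lit 99, nat_lit 99, nat_lit 99, nat_lit 0, nat_lit 99, nat_lit 0]])) (.leaf ((nat_lit 13), [nat_lit 0, nat_lit 5, nat_lit 2, nat_lit 4, nat_lit 3, nat_lit 2, nat_lit 0, nat_lit 3, nat_lit 2, nat_lit 0], [[nat_lit 99,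 nat_lit 1, nat_lit 99, nat_lit 0, nat_lit 0, nat_lit 0], [nat_lit 0, nat_lit 99, nat_lit 0, nat_lit 99]]))) (.node (nat_lit 46) (.leaf ((nat_lit 9), [nat_lit 2, nat_lit 1, nat_lit 5, nat_lit 2, nat_lit 1, nat_lit 0, nat_lit 4, nat_lit 3, nat_lit 2, nat_lit 3], [[nat_lit 99, nat_lit 1, nat_lit 1, nat_lit 1, nat_lit 99, nat_lit 1, nat_lit 99, nat_lit 0], [nat_lit 99, nat_lit 1, nat_lit 99, nat_lit 1, nat_lit 99, nat_lit 0, nat_lit 99, nat_lit 0]])) (.leaf ((nat_lit 11), [nat_lit 5, nat_lit 1, nat_lit 5, nat_lit 3, nat_lit 1, nat_lit 0, nat_lit 4, nat_lit 3, nat_lit 2, nat_lit 3, nat_lit 2, nat_lit 1, nat_lit 0], [[nat_lit 0, nat_lit 99, nat_lit 1, nat_lit 1, nat_lit 1], [nat_lit 99, nat_lit 1, nat_lit 99, nat_lit 0, nat_lit 0]]))))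
 (.node (nat_lit 49) (.node (nat_lit 48) (.leaf ((nat_lit 12), [nat_lit 2, nat_lit 5, nat_lit 3, nat_lit 1, nat_lit 4, nat_lit 1, nat_lit 0, nat_lit 3, nat_lit 1], [[nat_lit 1, nat_lit 1, nat_lit 99, nat_lit 1], [nat_lit 99, nat_lit 99, nat_lit 1, nat_lit 99, nat_lit 0]])) (.leaf ((nat_lit 11), [nat_lit 5, nat_lit 1, nat_lit 5, nat_lit 2, nat_lit 1, nat_lit 0, nat_lit 4, nat_lit 1, nat_lit 0, nat_lit 3, nat_lit 2], [[nat_lit 0, nat_lit 0, nat_lit 0, nat_lit 99], [nat_lit 1, nat_lit 99, nat_lit 99, nat_lit 1]]))) (.node (nat_lit 50) (.leaf ((nat_lit 10), [nat_lit 2, nat_lit 0, nat_lit 5, nat_lit 4, nat_lit 0, nat_lit 4, nat_lit 0, nat_lit 3, nat_lit 1], [[nat_lit 0, nat_lit 0, nat_lit 99, nat_lit 99, nat_lit 99, nat_lit 0, nat_lit 0], [nat_lit 99, nat_lit 99, nat_lit 0, nat_lit 99, nat_lit 99, nat_lit 0]])) (.node (nat_lit 51) (.leaf ((nat_lit 11), [nat_lit 4, nat_lit 0, nat_lit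 5, nat_lit 0, nat_lit 4, nat_lit 3, nat_lit 0, nat_lit 3, nat_lit 1], [[nat_lit 0, nat_lit 0, nat_lit 99, nat_lit 0, nat_lit 0], [nat_lit 99, nat_lit 1, nat_lit 1, nat_lit 99, nat_lit 0]])) (.leaf ((nat_lit 11), [nat_lit 2, nat_lit 5, nat_lit 1, nat_lit 3, nat_lit 1, nat_lit 0], [[nat_lit 0, nat_lit 99, nat_lit 1, nat_lit 1], [nat_lit 1, nat_lit 99, nat_lit 0, nat_lit 99, nat_lit 0]])))))))
 (.node (nat_lit 61) (.node (nat_lit 56) (.node (nat_lit 54) (.node (nat_lit 53) (.leaf ((nat_lit 9), [nat_lit 2, nat_lit 1, nat_lit 0, nat_lit 5, nat_lit 2, nat_lit 3, nat_lit 1], [[nat_lit 0, nat_lit 0, nat_lit 99, nat_lit 0, nat_lit 99, nat_lit 0], [nat_lit 99, nat_lit 1, nat_lit 99, nat_lit 99, nat_lit 99, nat_lit 1]])) (.leaf ((nat_lit 10), [nat_lit 3, nat_lit 2, nat_lit 1, nat_lit 5, nat_lit 2, nat_lit 1, nat_lit 4, nat_lit 3, nat_lit 1, nat_lit 0], [[nat_lit 99, nat_lit 99, nat_lit 99,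 nat_lit 99, nat_lit 1], [nat_lit 99, nat_lit 0, nat_lit 99, nat_lit 0, nat_lit 0]]))) (.node (nat_lit 55) (.leaf ((nat_lit 11), [nat_lit 4, nat_lit 5, nat_lit 2, nat_lit 4, nat_lit 3, nat_lit 0, nat_lit 3, nat_lit 2, nat_lit 1], [[nat_lit 0, nat_lit 99, nat_lit 0, nat_lit 0], [nat_lit 99, nat_lit 99, nat_lit 1, nat_lit 1]])) (.leaf ((nat_lit 13), [nat_lit 3, nat_lit 1, nat_lit 4, nat_lit 0, nat_lit 3, nat_lit 1], [[nat_lit 99, nat_lit 0, nat_lit 0, nat_lit 99], [nat_lit 0, nat_lit 99, nat_lit 99, nat_lit 1]]))))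
 (.node (nat_lit 58) (.node (nat_lit 57) (.leaf ((nat_lit 9), [nat_lit 2, nat_lit 1, nat_lit 5, nat_lit 2, nat_lit 1, nat_lit 0, nat_lit 4, nat_lit 3, nat_lit 2, nat_lit 3], [[nat_lit 99, nat_lit 1, nat_lit 1, nat_lit 99, nat_lit 99, nat_lit 0, nat_lit 0], [nat_lit 1, nat_lit 99, nat_lit 1, nat_lit 99, nat_lit 99, nat_lit 99]])) (.leaf ((nat_lit 11), [nat_lit 4, nat_lit 5, nat_lit 2, nat_lit 4, nat_lit 3, nat_lit 0, nat_lit 3, nat_lit 2, nat_lit 1], [[nat_lit 0, nat_lit 99, nat_lit 1, nat_lit 1, nat_lit 1], [nat_lit 99, nat_lit 0, nat_lit 0, nat_lit 99]]))) (.node (nat_lit 59) (.leaf ((nat_lit 9), [nat_lit 5, nat_lit 1, nat_lit 5, nat_lit 3, nat_lit 1, nat_lit 0, nat_lit 4, nat_lit 2, nat_lit 0, nat_lit 3, nat_lit 2, nat_lit 1, nat_lit 0], [[nat_lit 99, nat_lit 99, nat_lit 1, nat_lit 1, nat_lit 99, nat_lit 0], [nat_lit 0, nat_lit 99, nat_lit 99, nat_lit 99, nat_lit 1]])) (.node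 (nat_lit 60) (.leaf ((nat_lit 11), [nat_lit 5, nat_lit 1, nat_lit 5, nat_lit 3, nat_lit 1, nat_lit 0, nat_lit 4, nat_lit 3, nat_lit 2, nat_lit 3, nat_lit 2, nat_lit 1, nat_lit 0], [[nat_lit 0, nat_lit 99, nat_lit 1, nat_lit 1], [nat_lit 99, nat_lit 99, nat_lit 0, nat_lit 0, nat_lit 0]])) (.leaf ((nat_lit 12), [nat_lit 4, nat_lit 0, nat_lit 5, nat_lit 1, nat_lit 4, nat_lit 3, nat_lit 2, nat_lit 0, nat_lit 3, nat_lit 2, nat_lit 0], [[nat_lit 1, nat_lit 99, nat_lit 99, nat_lit 0], [nat_lit 99, nat_lit 0, nat_lit 0, nat_lit 99]]))))))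
 (.node (nat_lit 65) (.node (nat_lit 63) (.node (nat_lit 62) (.leaf ((nat_lit 11), [nat_lit 5, nat_lit 1, nat_lit 5, nat_lit 3, nat_lit 1, nat_lit 0, nat_lit 4, nat_lit 3, nat_lit 2, nat_lit 3, nat_lit 2, nat_lit 1, nat_lit 0], [[nat_lit 0, nat_lit 99, nat_lit 0, nat_lit 0, nat_lit 0], [nat_lit 99, nat_lit 1, nat_lit 1, nat_lit 99, nat_lit 0]])) (.leaf ((nat_lit 9), [nat_lit 5, nat_lit 3, nat_lit 1, nat_lit 0, nat_lit 4, nat_lit 2], [[nat_lit 99, nat_lit 0, nat_lit 99, nat_lit 99, nat_lit 0, nat_lit 0], [nat_lit 0, nat_lit 99, nat_lit 99, nat_lit 99, nat_lit 1]]))) (.node (nat_lit 64) (.leaf ((nat_lit 12), [nat_lit 4, nat_lit 0, nat_lit 5, nat_lit 3, nat_lit 1, nat_lit 4, nat_lit 1, nat_lit 0, nat_lit 3, nat_lit 1], [[nat_lit 1, nat_lit 99, nat_lit 0, nat_lit 0, nat_lit 0], [nat_lit 99, nat_lit 99, nat_lit 99, nat_lit 0, nat_lit 99]])) (.leaf ((nat_lit 10), [nat_lit 5, nat_lit 2,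 nat_lit 4, nat_lit 2, nat_lit 0, nat_lit 3, nat_lit 1, nat_lit 0], [[nat_lit 0, nat_lit 99, nat_lit 1, nat_lit 99], [nat_lit 99, nat_lit 1, nat_lit 99, nat_lit 0, nat_lit 0]]))))
 (.node (nat_lit 67) (.node (nat_lit 66) (.leaf ((nat_lit 10), [nat_lit 2, nat_lit 5, nat_lit 2, nat_lit 1, nat_lit 4, nat_lit 2, nat_lit 0, nat_lit 3, nat_lit 1], [[nat_lit 99, nat_lit 99, nat_lit 99, nat_lit 99, nat_lit 1], [nat_lit 99, nat_lit 1, nat_lit 1, nat_lit 99]])) (.leaf ((nat_lit 9), [nat_lit 2, nat_lit 0, nat_lit 5, nat_lit 4, nat_lit 0, nat_lit 4, nat_lit 0, nat_lit 3, nat_lit 1, nat_lit 0], [[nat_lit 0, nat_lit 99, nat_lit 1, nat_lit 1, nat_lit 99], [nat_lit 1, nat_lit 99, nat_lit 1, nat_lit 99, nat_lit 0, nat_lit 0]]))) (.node (nat_lit 68) (.leaf ((nat_lit 12), [nat_lit 2, nat_lit 1, nat_lit 0, nat_lit 5, nat_lit 1, nat_lit 0, nat_lit 4, nat_lit 2, nat_lit 1, nat_lit 3, nat_lit 2, nat_lit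 1], [[nat_lit 0, nat_lit 99, nat_lit 99, nat_lit 1, nat_lit 99], [nat_lit 99, nat_lit 1, nat_lit 99, nat_lit 0]])) (.node (nat_lit 69) (.leaf ((nat_lit 10), [nat_lit 5, nat_lit 1, nat_lit 5, nat_lit 3, nat_lit 1, nat_lit 4, nat_lit 3, nat_lit 0, nat_lit 3, nat_lit 1], [[nat_lit 99, nat_lit 1, nat_lit 99, nat_lit 0, nat_lit 0, nat_lit 0], [nat_lit 99, nat_lit 99, nat_lit 1, nat_lit 1, nat_lit 99, nat_lit 0]])) (.leaf ((nat_lit 9), [nat_lit 0, nat_lit 5, nat_lit 4, nat_lit 0, nat_lit 4, nat_lit 1, nat_lit 3, nat_lit 1, nat_lit 0], [[nat_lit 99, nat_lit 1, nat_lit 99, nat_lit 99, nat_lit 0], [nat_lit 1, nat_lit 99, nat_lit 99, nat_lit 0]])))))))))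
 (.node (nat_lit 105) (.node (nat_lit 87) (.node (nat_lit 78) (.node (nat_lit 74) (.node (nat_lit 72) (.node (nat_lit 71) (.leaf ((nat_lit 9), [nat_lit 3, nat_lit 2, nat_lit 1, nat_lit 5, nat_lit 2, nat_lit 0, nat_lit 4, nat_lit 1, nat_lit 3, nat_lit 2], [[nat_lit 99, nat_lit 1, nat_lit 1, nat_lit 1, nat_lit 99], [nat_lit 1, nat_lit 1, nat_lit 1, nat_lit 99, nat_lit 99, nat_lit 0]])) (.leaf ((nat_lit 11), [nat_lit 4, nat_lit 5, nat_lit 2, nat_lit 1, nat_lit 0, nat_lit 4, nat_lit 1, nat_lit 0, nat_lit 3, nat_lit 2, nat_lit 1, nat_lit 0], [[nat_lit 1, nat_lit 99, nat_lit 99], [nat_lit 0, nat_lit 99, nat_lit 99, nat_lit 1]]))) (.node (nat_lit 73) (.leaf ((nat_lit 10), [nat_lit 2, nat_lit 5, nat_lit 1, nat_lit 0, nat_lit 4, nat_lit 2, nat_lit 0, nat_lit 3, nat_lit 2, nat_lit 1], [[nat_lit 99, nat_lit 99, nat_lit 0, nat_lit 99, nat_lit 0], [nat_lit 99, nat_lit 99]])) (.leaf ((nat_lit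 10), [nat_lit 2, nat_lit 1, nat_lit 4, nat_lit 3, nat_lit 2, nat_lit 0, nat_lit 3, nat_lit 0], [[nat_lit 0, nat_lit 99, nat_lit 99, nat_lit 99, nat_lit 0], [nat_lit 1, nat_lit 1, nat_lit 99, nat_lit 0, nat_lit 99]]))))
 (.node (nat_lit 76) (.node (nat_lit 75) (.leaf ((nat_lit 11), [nat_lit 4, nat_lit 5, nat_lit 2, nat_lit 1, nat_lit 0, nat_lit 4, nat_lit 1, nat_lit 0, nat_lit 3, nat_lit 2, nat_lit 1, nat_lit 0], [[nat_lit 1, nat_lit 99, nat_lit 0, nat_lit 99, nat_lit 0], [nat_lit 0, nat_lit 99, nat_lit 0, nat_lit 99]])) (.leaf ((nat_lit 9), [nat_lit 1, nat_lit 5, nat_lit 2, nat_lit 1, nat_lit 0, nat_lit 4, nat_lit 0, nat_lit 3], [[nat_lit 99, nat_lit 1, nat_lit 99, nat_lit 1, nat_lit 1], [nat_lit 0, nat_lit 99, nat_lit 0, nat_lit 99]]))) (.node (nat_lit 77) (.leaf ((nat_lit 10), [nat_lit 5, nat_lit 2, nat_lit 1, nat_lit 4, nat_lit 2, nat_lit 0, nat_lit 3, nat_lit 2], [[nat_lit 99,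 nat_lit 99, nat_lit 99, nat_lit 1], [nat_lit 99, nat_lit 1, nat_lit 99, nat_lit 1]])) (.leaf ((nat_lit 9), [nat_lit 2, nat_lit 5, nat_lit 2, nat_lit 4, nat_lit 0, nat_lit 3], [[nat_lit 0, nat_lit 0, nat_lit 99, nat_lit 1, nat_lit 99], [nat_lit 99, nat_lit 99, nat_lit 0, nat_lit 0]])))))
 (.node (nat_lit 82) (.node (nat_lit 80) (.node (nat_lit 79) (.leaf ((nat_lit 11), [nat_lit 2, nat_lit 5, nat_lit 4, nat_lit 3, nat_lit 2, nat_lit 3, nat_lit 1], [[nat_lit 1, nat_lit 1, nat_lit 99, nat_lit 1, nat_lit 99], [nat_lit 99, nat_lit 1, nat_lit 99, nat_lit 1]])) (.leaf ((nat_lit 10), [nat_lit 4, nat_lit 0, nat_lit 5, nat_lit 1, nat_lit 4, nat_lit 2, nat_lit 1, nat_lit 3, nat_lit 0], [[nat_lit 99, nat_lit 99, nat_lit 1, nat_lit 1], [nat_lit 1, nat_lit 1, nat_lit 99, nat_lit 99, nat_lit 1]]))) (.node (nat_lit 81) (.leaf ((nat_lit 12), [nat_lit 2, nat_lit 1, nat_lit 5, nat_lit 0, nat_lit 4,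 nat_lit 2, nat_lit 1, nat_lit 0, nat_lit 3, nat_lit 0], [[nat_lit 0, nat_lit 99, nat_lit 0, nat_lit 99], [nat_lit 99, nat_lit 1, nat_lit 99, nat_lit 99, nat_lit 0]])) (.leaf ((nat_lit 10), [nat_lit 0, nat_lit 5, nat_lit 3], [[nat_lit 0, nat_lit 0, nat_lit 99, nat_lit 0, nat_lit 99], [nat_lit 1, nat_lit 1, nat_lit 99, nat_lit 99, nat_lit 1]]))))
 (.node (nat_lit 84) (.node (nat_lit 83) (.leaf ((nat_lit 12), [nat_lit 4, nat_lit 0, nat_lit 5, nat_lit 3, nat_lit 2, nat_lit 1, nat_lit 4, nat_lit 0, nat_lit 3, nat_lit 2], [[nat_lit 0, nat_lit 99, nat_lit 99, nat_lit 99, nat_lit 0], [nat_lit 1, nat_lit 99, nat_lit 99, nat_lit 0, nat_lit 99]])) (.leaf ((nat_lit 10), [nat_lit 5, nat_lit 2, nat_lit 4, nat_lit 2, nat_lit 0, nat_lit 3, nat_lit 1, nat_lit 0], [[nat_lit 0, nat_lit 99, nat_lit 99, nat_lit 0], [nat_lit 99, nat_lit 99, nat_lit 0, nat_lit 0, nat_lit 0]]))) (.node (nat_lit 85) (.leaf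 ((nat_lit 13), [nat_lit 3, nat_lit 2, nat_lit 1, nat_lit 5, nat_lit 1, nat_lit 4, nat_lit 2, nat_lit 1, nat_lit 0, nat_lit 3, nat_lit 2], [[nat_lit 1, nat_lit 1, nat_lit 1], [nat_lit 99, nat_lit 0, nat_lit 99]])) (.node (nat_lit 86) (.leaf ((nat_lit 13), [nat_lit 5, nat_lit 1, nat_lit 0, nat_lit 4, nat_lit 3, nat_lit 2, nat_lit 0, nat_lit 3, nat_lit 2], [[nat_lit 99, nat_lit 99, nat_lit 0, nat_lit 0, nat_lit 0], [nat_lit 1, nat_lit 1, nat_lit 99, nat_lit 0]])) (.leaf ((nat_lit 13), [nat_lit 4, nat_lit 0, nat_lit 5, nat_lit 4, nat_lit 0, nat_lit 4, nat_lit 3, nat_lit 2, nat_lit 0, nat_lit 3], [[nat_lit 99, nat_lit 0, nat_lit 99], [nat_lit 0, nat_lit 99, nat_lit 99, nat_lit 0]])))))))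
 (.node (nat_lit 96) (.node (nat_lit 91) (.node (nat_lit 89) (.node (nat_lit 88) (.leaf ((nat_lit 13), [nat_lit 2, nat_lit 5, nat_lit 0, nat_lit 4, nat_lit 3, nat_lit 2, nat_lit 1, nat_lit 0], [[nat_lit 1, nat_lit 99, nat_lit 1], [nat_lit 99, nat_lit 1, nat_lit 1, nat_lit 99]])) (.leaf ((nat_lit 13), [nat_lit 2, nat_lit 5, nat_lit 0, nat_lit 4, nat_lit 2, nat_lit 0, nat_lit 3, nat_lit 1], [[nat_lit 99, nat_lit 99, nat_lit 0], [nat_lit 1, nat_lit 1]]))) (.node (nat_lit 90) (.leaf ((nat_lit 13), [nat_lit 2, nat_lit 0, nat_lit 5, nat_lit 3, nat_lit 2, nat_lit 1, nat_lit 4, nat_lit 2, nat_lit 3, nat_lit 2, nat_lit 1, nat_lit 0], [[nat_lit 99, nat_lit 99, nat_lit 0], [nat_lit 1, nat_lit 1]])) (.leaf ((nat_lit 10), [nat_lit 3, nat_lit 2, nat_lit 1, nat_lit 4, nat_lit 2, nat_lit 1, nat_lit 0, nat_lit 3], [[nat_lit 0, nat_lit 99, nat_lit 99, nat_lit 0], [nat_lit 99, nat_lit 0, nat_lit 99,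 nat_lit 0]]))))
 (.node (nat_lit 93) (.node (nat_lit 92) (.leaf ((nat_lit 13), [nat_lit 2, nat_lit 0, nat_lit 5, nat_lit 3, nat_lit 1, nat_lit 4, nat_lit 3, nat_lit 2, nat_lit 3, nat_lit 2, nat_lit 1, nat_lit 0], [[nat_lit 1, nat_lit 99, nat_lit 99], [nat_lit 99, nat_lit 0, nat_lit 99, nat_lit 0]])) (.leaf ((nat_lit 10), [nat_lit 4, nat_lit 5, nat_lit 2, nat_lit 0, nat_lit 3, nat_lit 2, nat_lit 0], [[nat_lit 1, nat_lit 99, nat_lit 0], [nat_lit 0, nat_lit 99, nat_lit 99]]))) (.node (nat_lit 94) (.leaf ((nat_lit 10), [nat_lit 2, nat_lit 0, nat_lit 5, nat_lit 0, nat_lit 4, nat_lit 3, nat_lit 2, nat_lit 3, nat_lit 2, nat_lit 1, nat_lit 0], [[nat_lit 99, nat_lit 1, nat_lit 99, nat_lit 0], [nat_lit 1, nat_lit 99, nat_lit 99, nat_lit 0]])) (.node (nat_lit 95) (.leaf ((nat_lit 13), [nat_lit 5, nat_lit 1, nat_lit 0, nat_lit 4, nat_lit 3, nat_lit 2, nat_lit 0, nat_lit 3, nat_lit 2], [[nat_lit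 99, nat_lit 1, nat_lit 99, nat_lit 0, nat_lit 0], [nat_lit 1, nat_lit 1, nat_lit 99]])) (.leaf ((nat_lit 13), [nat_lit 5, nat_lit 4, nat_lit 5, nat_lit 4, nat_lit 0, nat_lit 4, nat_lit 2, nat_lit 0, nat_lit 3, nat_lit 1], [[nat_lit 1, nat_lit 99, nat_lit 1], [nat_lit 99, nat_lit 99]]))))))
 (.node (nat_lit 100) (.node (nat_lit 98) (.node (nat_lit 97) (.leaf ((nat_lit 11), [nat_lit 3, nat_lit 1, nat_lit 5, nat_lit 2, nat_lit 3, nat_lit 1, nat_lit 0], [[nat_lit 99, nat_lit 99, nat_lit 1, nat_lit 1], [nat_lit 1, nat_lit 99]])) (.leaf ((nat_lit 10), [nat_lit 1, nat_lit 0, nat_lit 5, nat_lit 4, nat_lit 2, nat_lit 1, nat_lit 4, nat_lit 2, nat_lit 0, nat_lit 3, nat_lit 2, nat_lit 1], [[nat_lit 99, nat_lit 99, nat_lit 1, nat_lit 1], [nat_lit 99, nat_lit 1, nat_lit 99, nat_lit 1]]))) (.node (nat_lit 99) (.leaf ((nat_lit 13), [nat_lit 2, nat_lit 5, nat_lit 0, nat_lit 4, nat_lit 3, nat_lit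 2, nat_lit 1, nat_lit 0], [[nat_lit 1, nat_lit 99], [nat_lit 99, nat_lit 1, nat_lit 99, nat_lit 0]])) (.leaf ((nat_lit 11), [nat_lit 2, nat_lit 1, nat_lit 5, nat_lit 3, nat_lit 1, nat_lit 4, nat_lit 1, nat_lit 0, nat_lit 3, nat_lit 2, nat_lit 1], [[nat_lit 0, nat_lit 0], [nat_lit 99, nat_lit 99]]))))
 (.node (nat_lit 102) (.node (nat_lit 101) (.leaf ((nat_lit 13), [nat_lit 2, nat_lit 5, nat_lit 0, nat_lit 4, nat_lit 3, nat_lit 2, nat_lit 1, nat_lit 0], [[nat_lit 1, nat_lit 99, nat_lit 0], [nat_lit 99, nat_lit 99, nat_lit 0, nat_lit 0]])) (.leaf ((nat_lit 13), [nat_lit 2, nat_lit 0, nat_lit 5, nat_lit 4, nat_lit 2, nat_lit 0, nat_lit 3, nat_lit 2, nat_lit 1], [[nat_lit 1, nat_lit 1, nat_lit 1], [nat_lit 99, nat_lit 0, nat_lit 99]]))) (.node (nat_lit 103) (.leaf ((nat_lit 11), [nat_lit 3, nat_lit 1, nat_lit 5, nat_lit 2, nat_lit 3, nat_lit 1, nat_lit 0], [[nat_lit 99, nat_lit 0, nat_lit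 99, nat_lit 1], [nat_lit 1, nat_lit 99, nat_lit 0]])) (.node (nat_lit 104) (.leaf ((nat_lit 13), [nat_lit 2, nat_lit 5, nat_lit 0, nat_lit 4, nat_lit 2, nat_lit 0, nat_lit 3, nat_lit 1], [[nat_lit 99, nat_lit 1, nat_lit 99], [nat_lit 1, nat_lit 1]])) (.leaf ((nat_lit 10), [nat_lit 2, nat_lit 1, nat_lit 5, nat_lit 4, nat_lit 2, nat_lit 1, nat_lit 4, nat_lit 1, nat_lit 0, nat_lit 3, nat_lit 2, nat_lit 1, nat_lit 0], [[nat_lit 0, nat_lit 0, nat_lit 99], [nat_lit 99, nat_lit 99, nat_lit 99, nat_lit 1]]))))))))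
 (.node (nat_lit 123) (.node (nat_lit 114) (.node (nat_lit 109) (.node (nat_lit 107) (.node (nat_lit 106) (.leaf ((nat_lit 9), [nat_lit 2, nat_lit 1, nat_lit 5, nat_lit 3, nat_lit 1, nat_lit 0, nat_lit 4, nat_lit 1, nat_lit 0, nat_lit 3, nat_lit 2, nat_lit 1, nat_lit 0], [[nat_lit 1], [nat_lit 99, nat_lit 99]])) (.leaf ((nat_lit 9), [nat_lit 3, nat_lit 1, nat_lit 5, nat_lit 2, nat_lit 1, nat_lit 0, nat_lit 4, nat_lit 2, nat_lit 1, nat_lit 0, nat_lit 3, nat_lit 2, nat_lit 0], [[nat_lit 99, nat_lit 99, nat_lit 99], [nat_lit 1, nat_lit 1, nat_lit 99, nat_lit 1]]))) (.node (nat_lit 108) (.leaf ((nat_lit 10), [nat_lit 2, nat_lit 1, nat_lit 0, nat_lit 5, nat_lit 3, nat_lit 2, nat_lit 1, nat_lit 4, nat_lit 2, nat_lit 0, nat_lit 3, nat_lit 2, nat_lit 1, nat_lit 0], [[nat_lit 0, nat_lit 99, nat_lit 1, nat_lit 1], [nat_lit 99, nat_lit 1, nat_lit 99]])) (.leaf ((nat_lit 9), [nat_lit 0, nat_lit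 5, nat_lit 2, nat_lit 4, nat_lit 0, nat_lit 3, nat_lit 2], [[nat_lit 99, nat_lit 1, nat_lit 1, nat_lit 99], [nat_lit 1, nat_lit 99, nat_lit 0]]))))
 (.node (nat_lit 111) (.node (nat_lit 110) (.leaf ((nat_lit 10), [nat_lit 4, nat_lit 0, nat_lit 5, nat_lit 0, nat_lit 4, nat_lit 0, nat_lit 3, nat_lit 1, nat_lit 0], [[nat_lit 0, nat_lit 99, nat_lit 99, nat_lit 0], [nat_lit 99, nat_lit 0, nat_lit 99, nat_lit 1]])) (.leaf ((nat_lit 9), [nat_lit 2, nat_lit 1, nat_lit 5, nat_lit 3, nat_lit 1, nat_lit 0, nat_lit 4, nat_lit 1, nat_lit 0, nat_lit 3, nat_lit 2, nat_lit 1, nat_lit 0], [[nat_lit 1], [nat_lit 99, nat_lit 1, nat_lit 99, nat_lit 1]]))) (.node (nat_lit 112) (.leaf ((nat_lit 9), [nat_lit 5, nat_lit 4, nat_lit 5, nat_lit 3, nat_lit 0, nat_lit 3, nat_lit 2, nat_lit 1], [[nat_lit 0, nat_lit 0, nat_lit 0], [nat_lit 99, nat_lit 99]])) (.node (nat_lit 113) (.leaf ((nat_lit 9), [nat_lit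 5, nat_lit 0, nat_lit 4, nat_lit 2, nat_lit 0, nat_lit 3, nat_lit 2, nat_lit 1], [[nat_lit 0, nat_lit 99, nat_lit 0, nat_lit 0], [nat_lit 99, nat_lit 99, nat_lit 99]])) (.leaf ((nat_lit 9), [nat_lit 4, nat_lit 0, nat_lit 5, nat_lit 2, nat_lit 4, nat_lit 3, nat_lit 2, nat_lit 3, nat_lit 0], [[nat_lit 99, nat_lit 99, nat_lit 99, nat_lit 99, nat_lit 1], [nat_lit 1, nat_lit 99, nat_lit 1, nat_lit 99]]))))))
 (.node (nat_lit 118) (.node (nat_lit 116) (.node (nat_lit 115) (.leaf ((nat_lit 10), [nat_lit 3, nat_lit 2, nat_lit 1, nat_lit 5, nat_lit 0, nat_lit 4, nat_lit 2, nat_lit 1, nat_lit 3, nat_lit 0], [[nat_lit 1, nat_lit 99, nat_lit 1], [nat_lit 99, nat_lit 0, nat_lit 99]])) (.leaf ((nat_lit 9), [nat_lit 3, nat_lit 1, nat_lit 5, nat_lit 4, nat_lit 1, nat_lit 3], [[nat_lit 0, nat_lit 99, nat_lit 99, nat_lit 0], [nat_lit 99, nat_lit 0, nat_lit 0, nat_lit 0]]))) (.node (nat_lit 117) (.leaf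 ((nat_lit 9), [nat_lit 3, nat_lit 1, nat_lit 0, nat_lit 4, nat_lit 1, nat_lit 3, nat_lit 2, nat_lit 1], [[nat_lit 99, nat_lit 1, nat_lit 99, nat_lit 99, nat_lit 0], [nat_lit 1, nat_lit 99, nat_lit 1, nat_lit 99]])) (.leaf ((nat_lit 9), [nat_lit 2, nat_lit 1, nat_lit 5, nat_lit 3, nat_lit 1, nat_lit 0, nat_lit 4, nat_lit 1, nat_lit 0, nat_lit 3, nat_lit 2, nat_lit 1, nat_lit 0], [[nat_lit 1], [nat_lit 99, nat_lit 0, nat_lit 99, nat_lit 0]]))))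
 (.node (nat_lit 120) (.node (nat_lit 119) (.leaf ((nat_lit 9), [nat_lit 2, nat_lit 1, nat_lit 0, nat_lit 4, nat_lit 2, nat_lit 3, nat_lit 2, nat_lit 1], [[nat_lit 1, nat_lit 99], [nat_lit 99, nat_lit 99]])) (.leaf ((nat_lit 9), [nat_lit 0, nat_lit 5, nat_lit 2, nat_lit 4, nat_lit 0, nat_lit 3, nat_lit 2], [[nat_lit 99, nat_lit 1, nat_lit 99, nat_lit 0], [nat_lit 1, nat_lit 99, nat_lit 0, nat_lit 0]]))) (.node (nat_lit 121) (.leaf ((nat_lit 10), [nat_lit 0, nat_lit 5, nat_lit 4, nat_lit 1, nat_lit 0, nat_lit 3, nat_lit 2], [[nat_lit 0, nat_lit 0, nat_lit 99, nat_lit 0, nat_lit 0], [nat_lit 99, nat_lit 1, nat_lit 1, nat_lit 99]])) (.node (nat_lit 122) (.leaf ((nat_lit 9), [nat_lit 2, nat_lit 1, nat_lit 5, nat_lit 4, nat_lit 2, nat_lit 0, nat_lit 3, nat_lit 2, nat_lit 0], [[nat_lit 0, nat_lit 99, nat_lit 99, nat_lit 0], [nat_lit 99, nat_lit 0, nat_lit 0]])) (.leaf ((nat_lit 10), [nat_lit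 2, nat_lit 5, nat_lit 1, nat_lit 0, nat_lit 4, nat_lit 3, nat_lit 0, nat_lit 3, nat_lit 1, nat_lit 0], [[nat_lit 0, nat_lit 0, nat_lit 0, nat_lit 99, nat_lit 0], [nat_lit 99, nat_lit 99, nat_lit 1, nat_lit 99, nat_lit 0]])))))))
 (.node (nat_lit 132) (.node (nat_lit 127) (.node (nat_lit 125) (.node (nat_lit 124) (.leaf ((nat_lit 10), [nat_lit 5, nat_lit 1, nat_lit 5, nat_lit 0, nat_lit 4, nat_lit 3, nat_lit 0, nat_lit 3, nat_lit 2, nat_lit 0], [[nat_lit 1, nat_lit 99, nat_lit 0, nat_lit 99, nat_lit 0], [nat_lit 99, nat_lit 0, nat_lit 0, nat_lit 99]])) (.leaf ((nat_lit 10), [nat_lit 5, nat_lit 1, nat_lit 5, nat_lit 2, nat_lit 1, nat_lit 4, nat_lit 2, nat_lit 1, nat_lit 0, nat_lit 3, nat_lit 2, nat_lit 0], [[nat_lit 99, nat_lit 1, nat_lit 99, nat_lit 0], [nat_lit 1, nat_lit 99, nat_lit 99, nat_lit 1]]))) (.node (nat_lit 126) (.leaf ((nat_lit 9), [nat_lit 2, nat_lit 1, nat_lit 0, nat_lit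 5, nat_lit 2, nat_lit 3], [[nat_lit 99, nat_lit 99, nat_lit 99, nat_lit 0, nat_lit 0], [nat_lit 1, nat_lit 1, nat_lit 1, nat_lit 99, nat_lit 0]])) (.leaf ((nat_lit 13), [nat_lit 1, nat_lit 5, nat_lit 4, nat_lit 0, nat_lit 4, nat_lit 2, nat_lit 3], [[nat_lit 0, nat_lit 99, nat_lit 1, nat_lit 1, nat_lit 99], [nat_lit 1, nat_lit 1, nat_lit 99, nat_lit 0]]))))
 (.node (nat_lit 129) (.node (nat_lit 128) (.leaf ((nat_lit 13), [nat_lit 2, nat_lit 5, nat_lit 0, nat_lit 4, nat_lit 1, nat_lit 0, nat_lit 3], [[nat_lit 99, nat_lit 1], [nat_lit 1, nat_lit 99, nat_lit 99]])) (.leaf ((nat_lit 12), [nat_lit 5, nat_lit 4, nat_lit 5, nat_lit 2, nat_lit 4, nat_lit 3], [[nat_lit 1, nat_lit 99, nat_lit 0, nat_lit 0], [nat_lit 0, nat_lit 99, nat_lit 99, nat_lit 0]]))) (.node (nat_lit 130) (.leaf ((nat_lit 13), [nat_lit 3, nat_lit 1, nat_lit 0, nat_lit 4, nat_lit 3, nat_lit 2, nat_lit 0, nat_lit 3, nat_lit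 2, nat_lit 1, nat_lit 0], [[nat_lit 0, nat_lit 99, nat_lit 1, nat_lit 1], [nat_lit 99, nat_lit 0, nat_lit 0, nat_lit 99, nat_lit 1]])) (.node (nat_lit 131) (.leaf ((nat_lit 12), [nat_lit 5, nat_lit 4, nat_lit 2, nat_lit 1, nat_lit 4, nat_lit 1, nat_lit 0, nat_lit 3, nat_lit 2, nat_lit 0], [[nat_lit 1, nat_lit 1, nat_lit 99, nat_lit 0], [nat_lit 99, nat_lit 1, nat_lit 1, nat_lit 99]])) (.leaf ((nat_lit 13), [nat_lit 2, nat_lit 1, nat_lit 5, nat_lit 1, nat_lit 4, nat_lit 0], [[nat_lit 1, nat_lit 99, nat_lit 99, nat_lit 0], [nat_lit 99, nat_lit 0, nat_lit 99, nat_lit 1, nat_lit 1]]))))))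
 (.node (nat_lit 136) (.node (nat_lit 134) (.node (nat_lit 133) (.leaf ((nat_lit 11), [nat_lit 2, nat_lit 1, nat_lit 0, nat_lit 5, nat_lit 3, nat_lit 1, nat_lit 4, nat_lit 3, nat_lit 0, nat_lit 3], [[nat_lit 99, nat_lit 99, nat_lit 99, nat_lit 0, nat_lit 0, nat_lit 0], [nat_lit 1, nat_lit 99, nat_lit 0, nat_lit 99, nat_lit 99]])) (.leaf ((nat_lit 13), [nat_lit 4, nat_lit 5, nat_lit 2, nat_lit 1, nat_lit 4, nat_lit 3, nat_lit 2, nat_lit 1], [[nat_lit 0, nat_lit 99], [nat_lit 99, nat_lit 0, nat_lit 0, nat_lit 99, nat_lit 0]]))) (.node (nat_lit 135) (.leaf ((nat_lit 9), [nat_lit 1, nat_lit 0, nat_lit 5, nat_lit 2, nat_lit 4, nat_lit 3, nat_lit 2, nat_lit 0, nat_lit 3, nat_lit 2, nat_lit 1], [[nat_lit 99, nat_lit 99, nat_lit 1, nat_lit 1, nat_lit 1], [nat_lit 1, nat_lit 1, nat_lit 1, nat_lit 99]])) (.leaf ((nat_lit 9), [nat_lit 2, nat_lit 5, nat_lit 0, nat_lit 4, nat_lit 2, nat_lit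 1, nat_lit 0, nat_lit 3, nat_lit 0], [[nat_lit 0, nat_lit 0, nat_lit 99, nat_lit 1, nat_lit 99], [nat_lit 1, nat_lit 99, nat_lit 99, nat_lit 0]]))))
 (.node (nat_lit 138) (.node (nat_lit 137) (.leaf ((nat_lit 12), [nat_lit 0, nat_lit 4, nat_lit 2, nat_lit 1], [[nat_lit 0, nat_lit 99, nat_lit 1, nat_lit 99, nat_lit 0], [nat_lit 1, nat_lit 1, nat_lit 99, nat_lit 99]])) (.leaf ((nat_lit 11), [nat_lit 5, nat_lit 3, nat_lit 2, nat_lit 1, nat_lit 4, nat_lit 3, nat_lit 0, nat_lit 3, nat_lit 1], [[nat_lit 99, nat_lit 99, nat_lit 99, nat_lit 0, nat_lit 0], [nat_lit 99, nat_lit 0, nat_lit 99, nat_lit 0]]))) (.node (nat_lit 139) (.leaf ((nat_lit 13), [nat_lit 1, nat_lit 5, nat_lit 4, nat_lit 0, nat_lit 4, nat_lit 2, nat_lit 3], [[nat_lit 0, nat_lit 99, nat_lit 1, nat_lit 99, nat_lit 0], [nat_lit 1, nat_lit 1, nat_lit 99, nat_lit 0, nat_lit 0]])) (.node (nat_lit 140) (.leaf ((nat_lit 9), [nat_lit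 5, nat_lit 4, nat_lit 5, nat_lit 1, nat_lit 0, nat_lit 4, nat_lit 1, nat_lit 0, nat_lit 3, nat_lit 0], [[nat_lit 99, nat_lit 99, nat_lit 99, nat_lit 99, nat_lit 1], [nat_lit 1, nat_lit 99, nat_lit 1, nat_lit 99]])) (.leaf ((nat_lit 12), [nat_lit 4, nat_lit 5, nat_lit 1, nat_lit 0, nat_lit 4, nat_lit 2, nat_lit 0, nat_lit 3, nat_lit 2, nat_lit 1, nat_lit 0], [[nat_lit 99, nat_lit 99, nat_lit 1, nat_lit 1, nat_lit 1], [nat_lit 0, nat_lit 0, nat_lit 99, nat_lit 0]]))))))))))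
noncomputable def n1CE_1 : Tr (ℕ × List ℕ × List (List ℕ)) := (.node (nat_lit 212) (.node (nat_lit 176) (.node (nat_lit 158) (.node (nat_lit 149) (.node (nat_lit 145) (.node (nat_lit 143) (.node (nat_lit 142) (.leaf ((nat_lit 9), [nat_lit 1, nat_lit 0, nat_lit 5, nat_lit 2, nat_lit 4, nat_lit 3, nat_lit 2, nat_lit 0, nat_lit 3, nat_lit 2, nat_lit 1], [[nat_lit 99, nat_lit 1, nat_lit 99, nat_lit 0, nat_lit 0, nat_lit 0], [nat_lit 1, nat_lit 1, nat_lit 1, nat_lit 99, nat_lit 1]])) (.leaf ((nat_lit 12), [nat_lit 4, nat_lit 5, nat_lit 1, nat_lit 0, nat_lit 4, nat_lit 2, nat_lit 0, nat_lit 3, nat_lit 2, nat_lit 1, nat_lit 0], [[nat_lit 99, nat_lit 0, nat_lit 99, nat_lit 1, nat_lit 1], [nat_lit 0, nat_lit 0, nat_lit 99, nat_lit 0, nat_lit 0]]))) (.node (nat_lit 144) (.leaf ((nat_lit 12), [nat_lit 5, nat_lit 4, nat_lit 5, nat_lit 2, nat_lit 4, nat_lit 3], [[nat_lit 1, nat_lit 99, nat_lit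 0], [nat_lit 0, nat_lit 99, nat_lit 1, nat_lit 99]])) (.leaf ((nat_lit 13), [nat_lit 1, nat_lit 5, nat_lit 2, nat_lit 4, nat_lit 2, nat_lit 3, nat_lit 1], [[nat_lit 0, nat_lit 0, nat_lit 99, nat_lit 99, nat_lit 0], [nat_lit 1, nat_lit 99, nat_lit 0, nat_lit 0]]))))
 (.node (nat_lit 147) (.node (nat_lit 146) (.leaf ((nat_lit 9), [nat_lit 4, nat_lit 5, nat_lit 2, nat_lit 1, nat_lit 4, nat_lit 2, nat_lit 3, nat_lit 1, nat_lit 0], [[nat_lit 0, nat_lit 0, nat_lit 0, nat_lit 99, nat_lit 99], [nat_lit 99, nat_lit 0, nat_lit 99, nat_lit 0]])) (.leaf ((nat_lit 13), [nat_lit 4, nat_lit 5, nat_lit 2, nat_lit 1, nat_lit 4, nat_lit 3, nat_lit 2, nat_lit 1], [[nat_lit 0, nat_lit 99, nat_lit 1], [nat_lit 99, nat_lit 0, nat_lit 99]]))) (.node (nat_lit 148) (.leaf ((nat_lit 9), [nat_lit 4, nat_lit 5, nat_lit 2, nat_lit 0, nat_lit 4, nat_lit 2, nat_lit 1, nat_lit 0, nat_lit 3], [[nat_lit 1, nat_lit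 99, nat_lit 1], [nat_lit 99, nat_lit 0, nat_lit 99, nat_lit 0]])) (.leaf ((nat_lit 12), [nat_lit 5, nat_lit 1, nat_lit 5, nat_lit 2, nat_lit 4, nat_lit 2, nat_lit 1, nat_lit 3, nat_lit 2, nat_lit 1], [[nat_lit 99, nat_lit 99, nat_lit 99, nat_lit 1], [nat_lit 0, nat_lit 99, nat_lit 99, nat_lit 0]])))))
 (.node (nat_lit 153) (.node (nat_lit 151) (.node (nat_lit 150) (.leaf ((nat_lit 11), [nat_lit 5, nat_lit 3, nat_lit 2, nat_lit 1, nat_lit 4, nat_lit 2, nat_lit 0, nat_lit 3, nat_lit 2, nat_lit 1], [[nat_lit 0, nat_lit 99, nat_lit 0, nat_lit 0], [nat_lit 99, nat_lit 1, nat_lit 99, nat_lit 1]])) (.leaf ((nat_lit 11), [nat_lit 5, nat_lit 4, nat_lit 5, nat_lit 1, nat_lit 4, nat_lit 0, nat_lit 3, nat_lit 2, nat_lit 0], [[nat_lit 1, nat_lit 99, nat_lit 99], [nat_lit 99, nat_lit 99, nat_lit 0, nat_lit 0, nat_lit 0]]))) (.node (nat_lit 152) (.leaf ((nat_lit 9), [nat_lit 2, nat_lit 1, nat_lit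 5, nat_lit 2, nat_lit 0, nat_lit 4, nat_lit 1], [[nat_lit 99, nat_lit 99, nat_lit 1, nat_lit 99, nat_lit 0], [nat_lit 99, nat_lit 99]])) (.leaf ((nat_lit 9), [nat_lit 4, nat_lit 5, nat_lit 2, nat_lit 0, nat_lit 4, nat_lit 2, nat_lit 1, nat_lit 0, nat_lit 3], [[nat_lit 1, nat_lit 99, nat_lit 1, nat_lit 1], [nat_lit 99, nat_lit 99]]))))
 (.node (nat_lit 155) (.node (nat_lit 154) (.leaf ((nat_lit 11), [nat_lit 2, nat_lit 1, nat_lit 5, nat_lit 2, nat_lit 1, nat_lit 0, nat_lit 4, nat_lit 2, nat_lit 1, nat_lit 3, nat_lit 2, nat_lit 1], [[nat_lit 99, nat_lit 1, nat_lit 1, nat_lit 1], [nat_lit 1, nat_lit 99, nat_lit 99, nat_lit 0]])) (.leaf ((nat_lit 11), [nat_lit 3, nat_lit 1, nat_lit 5, nat_lit 3, nat_lit 1, nat_lit 0, nat_lit 4, nat_lit 0, nat_lit 3, nat_lit 2, nat_lit 0], [[nat_lit 99, nat_lit 1, nat_lit 99, nat_lit 1, nat_lit 1], [nat_lit 0, nat_lit 99, nat_lit 1, nat_lit 99, nat_lit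 0]]))) (.node (nat_lit 156) (.leaf ((nat_lit 10), [nat_lit 2, nat_lit 5, nat_lit 2, nat_lit 1, nat_lit 0, nat_lit 4, nat_lit 2, nat_lit 3], [[nat_lit 0, nat_lit 99, nat_lit 1, nat_lit 1, nat_lit 1], [nat_lit 99, nat_lit 1, nat_lit 99, nat_lit 0]])) (.node (nat_lit 157) (.leaf ((nat_lit 11), [nat_lit 2, nat_lit 1, nat_lit 5, nat_lit 1, nat_lit 4, nat_lit 3, nat_lit 2, nat_lit 3, nat_lit 1, nat_lit 0], [[nat_lit 99, nat_lit 99, nat_lit 1], [nat_lit 1, nat_lit 99, nat_lit 99, nat_lit 0]])) (.leaf ((nat_lit 12), [nat_lit 2, nat_lit 1, nat_lit 0, nat_lit 5, nat_lit 3, nat_lit 2, nat_lit 1, nat_lit 4, nat_lit 2, nat_lit 1, nat_lit 3, nat_lit 1, nat_lit 0], [[nat_lit 99, nat_lit 99, nat_lit 1], [nat_lit 99, nat_lit 1, nat_lit 1, nat_lit 99, nat_lit 0]])))))))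
 (.node (nat_lit 167) (.node (nat_lit 162) (.node (nat_lit 160) (.node (nat_lit 159) (.leaf ((nat_lit 10), [nat_lit 2, nat_lit 5, nat_lit 2, nat_lit 1, nat_lit 0, nat_lit 4, nat_lit 2, nat_lit 3], [[nat_lit 0, nat_lit 99, nat_lit 1, nat_lit 1], [nat_lit 99, nat_lit 99, nat_lit 0, nat_lit 0]])) (.leaf ((nat_lit 9), [nat_lit 2, nat_lit 1, nat_lit 0, nat_lit 5, nat_lit 2, nat_lit 0, nat_lit 4, nat_lit 3, nat_lit 0, nat_lit 3, nat_lit 0], [[nat_lit 99, nat_lit 99, nat_lit 1, nat_lit 1, nat_lit 1], [nat_lit 99, nat_lit 0, nat_lit 99, nat_lit 0]]))) (.node (nat_lit 161) (.leaf ((nat_lit 13), [nat_lit 3, nat_lit 2, nat_lit 1, nat_lit 5, nat_lit 4, nat_lit 0, nat_lit 3, nat_lit 2, nat_lit 1, nat_lit 0], [[nat_lit 99, nat_lit 1, nat_lit 99, nat_lit 99, nat_lit 0], [nat_lit 1, nat_lit 99, nat_lit 0, nat_lit 0, nat_lit 0]])) (.leaf ((nat_lit 11), [nat_lit 5, nat_lit 1, nat_lit 4, nat_lit 3,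 nat_lit 2, nat_lit 0, nat_lit 3, nat_lit 2], [[nat_lit 0, nat_lit 0], [nat_lit 99, nat_lit 0, nat_lit 99, nat_lit 1, nat_lit 1]]))))
 (.node (nat_lit 164) (.node (nat_lit 163) (.leaf ((nat_lit 10), [nat_lit 2, nat_lit 0, nat_lit 5, nat_lit 1, nat_lit 4, nat_lit 0], [[nat_lit 0, nat_lit 99, nat_lit 0, nat_lit 0], [nat_lit 99, nat_lit 99, nat_lit 99, nat_lit 99]])) (.leaf ((nat_lit 12), [nat_lit 1, nat_lit 0, nat_lit 5, nat_lit 3, nat_lit 1, nat_lit 0, nat_lit 4, nat_lit 2, nat_lit 0, nat_lit 3, nat_lit 1, nat_lit 0], [[nat_lit 99, nat_lit 1, nat_lit 99, nat_lit 99, nat_lit 0], [nat_lit 99, nat_lit 99, nat_lit 1, nat_lit 1, nat_lit 1]]))) (.node (nat_lit 165) (.leaf ((nat_lit 12), [nat_lit 2, nat_lit 5, nat_lit 3, nat_lit 1, nat_lit 0, nat_lit 4, nat_lit 1, nat_lit 3], [[nat_lit 1, nat_lit 1, nat_lit 99, nat_lit 0], [nat_lit 99, nat_lit 99, nat_lit 1, nat_lit 1, nat_lit 1]])) (.node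 (nat_lit 166) (.leaf ((nat_lit 9), [nat_lit 2, nat_lit 1, nat_lit 0, nat_lit 5, nat_lit 2, nat_lit 0, nat_lit 4, nat_lit 3, nat_lit 0, nat_lit 3, nat_lit 0], [[nat_lit 99, nat_lit 0, nat_lit 99, nat_lit 1, nat_lit 1], [nat_lit 99, nat_lit 0, nat_lit 0, nat_lit 99, nat_lit 0, nat_lit 0]])) (.leaf ((nat_lit 9), [nat_lit 3, nat_lit 1, nat_lit 5, nat_lit 3, nat_lit 1, nat_lit 0, nat_lit 4, nat_lit 3, nat_lit 2, nat_lit 0, nat_lit 3, nat_lit 2], [[nat_lit 1, nat_lit 99, nat_lit 99, nat_lit 1, nat_lit 1], [nat_lit 99, nat_lit 1, nat_lit 99, nat_lit 1]]))))))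
 (.node (nat_lit 171) (.node (nat_lit 169) (.node (nat_lit 168) (.leaf ((nat_lit 12), [nat_lit 2, nat_lit 1, nat_lit 0, nat_lit 5, nat_lit 3, nat_lit 2, nat_lit 1, nat_lit 4, nat_lit 2, nat_lit 1, nat_lit 3, nat_lit 1, nat_lit 0], [[nat_lit 99, nat_lit 0, nat_lit 0, nat_lit 99, nat_lit 0], [nat_lit 99, nat_lit 99, nat_lit 0, nat_lit 0, nat_lit 0]])) (.leaf ((nat_lit 10), [nat_lit 1, nat_lit 5, nat_lit 2, nat_lit 1, nat_lit 4, nat_lit 3, nat_lit 2, nat_lit 1], [[nat_lit 1, nat_lit 1, nat_lit 99, nat_lit 1], [nat_lit 99, nat_lit 99, nat_lit 99, nat_lit 99]]))) (.node (nat_lit 170) (.leaf ((nat_lit 9), [nat_lit 2, nat_lit 1, nat_lit 0, nat_lit 5, nat_lit 3, nat_lit 1, nat_lit 4, nat_lit 0, nat_lit 3, nat_lit 2, nat_lit 0], [[nat_lit 0, nat_lit 0, nat_lit 99, nat_lit 1], [nat_lit 99, nat_lit 99, nat_lit 99]])) (.leaf ((nat_lit 11), [nat_lit 2, nat_lit 1, nat_lit 0, nat_lit 5, nat_lit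 2, nat_lit 1, nat_lit 0, nat_lit 4, nat_lit 1, nat_lit 3], [[nat_lit 1, nat_lit 1, nat_lit 1], [nat_lit 99, nat_lit 1, nat_lit 99]]))))
 (.node (nat_lit 173) (.node (nat_lit 172) (.leaf ((nat_lit 13), [nat_lit 4, nat_lit 0, nat_lit 5, nat_lit 3, nat_lit 1, nat_lit 0, nat_lit 4, nat_lit 2, nat_lit 1, nat_lit 0, nat_lit 3, nat_lit 0], [[nat_lit 1, nat_lit 99, nat_lit 99, nat_lit 99], [nat_lit 99, nat_lit 0, nat_lit 99, nat_lit 1, nat_lit 1]])) (.leaf ((nat_lit 11), [nat_lit 0, nat_lit 5, nat_lit 4, nat_lit 2, nat_lit 1, nat_lit 4, nat_lit 3, nat_lit 0, nat_lit 3, nat_lit 2, nat_lit 0], [[nat_lit 0, nat_lit 99, nat_lit 1, nat_lit 1], [nat_lit 99, nat_lit 99, nat_lit 1, nat_lit 99, nat_lit 1]]))) (.node (nat_lit 174) (.leaf ((nat_lit 10), [nat_lit 0, nat_lit 5, nat_lit 3, nat_lit 1, nat_lit 0, nat_lit 4, nat_lit 3, nat_lit 2, nat_lit 3], [[nat_lit 0, nat_lit 0, nat_lit 0, nat_lit 99,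 nat_lit 1], [nat_lit 1, nat_lit 99, nat_lit 0, nat_lit 99]])) (.node (nat_lit 175) (.leaf ((nat_lit 11), [nat_lit 2, nat_lit 1, nat_lit 0, nat_lit 5, nat_lit 2, nat_lit 1, nat_lit 0, nat_lit 4, nat_lit 1, nat_lit 3], [[nat_lit 1, nat_lit 1, nat_lit 1], [nat_lit 99, nat_lit 99, nat_lit 0]])) (.leaf ((nat_lit 12), [nat_lit 5, nat_lit 1, nat_lit 0, nat_lit 4, nat_lit 3, nat_lit 0, nat_lit 3, nat_lit 1], [[nat_lit 1, nat_lit 99, nat_lit 99, nat_lit 0, nat_lit 99], [nat_lit 0, nat_lit 0, nat_lit 99, nat_lit 99, nat_lit 0]]))))))))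
 (.node (nat_lit 194) (.node (nat_lit 185) (.node (nat_lit 180) (.node (nat_lit 178) (.node (nat_lit 177) (.leaf ((nat_lit 9), [nat_lit 2, nat_lit 1, nat_lit 5, nat_lit 1, nat_lit 0, nat_lit 4, nat_lit 3, nat_lit 0, nat_lit 3, nat_lit 2, nat_lit 0], [[nat_lit 99, nat_lit 1, nat_lit 99, nat_lit 1, nat_lit 1], [nat_lit 1, nat_lit 99, nat_lit 99, nat_lit 0]])) (.leaf ((nat_lit 11), [nat_lit 1, nat_lit 5, nat_lit 2, nat_lit 0, nat_lit 4, nat_lit 2, nat_lit 1], [[nat_lit 1, nat_lit 99, nat_lit 1, nat_lit 1], [nat_lit 99, nat_lit 0, nat_lit 99, nat_lit 0, nat_lit 0]]))) (.node (nat_lit 179) (.leaf ((nat_lit 12), [nat_lit 2, nat_lit 1, nat_lit 0, nat_lit 5, nat_lit 0, nat_lit 4, nat_lit 2, nat_lit 1, nat_lit 3, nat_lit 2, nat_lit 1], [[nat_lit 0, nat_lit 99, nat_lit 99, nat_lit 1], [nat_lit 99, nat_lit 1, nat_lit 1, nat_lit 1, nat_lit 99]])) (.leaf ((nat_lit 10), [nat_lit 2, nat_lit 4],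 [[nat_lit 0, nat_lit 0, nat_lit 99, nat_lit 1], [nat_lit 1, nat_lit 1, nat_lit 99, nat_lit 99]]))))
 (.node (nat_lit 182) (.node (nat_lit 181) (.leaf ((nat_lit 13), [nat_lit 2, nat_lit 1, nat_lit 3, nat_lit 0], [[nat_lit 99, nat_lit 99, nat_lit 99, nat_lit 99, nat_lit 0], [nat_lit 0, nat_lit 99, nat_lit 1, nat_lit 1]])) (.leaf ((nat_lit 11), [nat_lit 1, nat_lit 5, nat_lit 3, nat_lit 1, nat_lit 4, nat_lit 3], [[nat_lit 99, nat_lit 0, nat_lit 0, nat_lit 0], [nat_lit 0, nat_lit 99, nat_lit 99]]))) (.node (nat_lit 183) (.leaf ((nat_lit 9), [nat_lit 4, nat_lit 5, nat_lit 3, nat_lit 1, nat_lit 0, nat_lit 4, nat_lit 2, nat_lit 3, nat_lit 0], [[nat_lit 99, nat_lit 99, nat_lit 1, nat_lit 99, nat_lit 0, nat_lit 0], [nat_lit 0, nat_lit 99, nat_lit 0, nat_lit 0, nat_lit 99, nat_lit 0]])) (.node (nat_lit 184) (.leaf ((nat_lit 9), [nat_lit 2, nat_lit 1, nat_lit 0, nat_lit 5, nat_lit 0, nat_lit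 4, nat_lit 3, nat_lit 0, nat_lit 3, nat_lit 0], [[nat_lit 1, nat_lit 1, nat_lit 99, nat_lit 99, nat_lit 0], [nat_lit 0, nat_lit 99, nat_lit 99, nat_lit 1]])) (.leaf ((nat_lit 9), [nat_lit 1, nat_lit 0, nat_lit 5, nat_lit 2, nat_lit 0, nat_lit 4, nat_lit 1, nat_lit 3, nat_lit 0], [[nat_lit 1, nat_lit 99], [nat_lit 99, nat_lit 99, nat_lit 99]]))))))
 (.node (nat_lit 189) (.node (nat_lit 187) (.node (nat_lit 186) (.leaf ((nat_lit 11), [nat_lit 0, nat_lit 5, nat_lit 4, nat_lit 2, nat_lit 1, nat_lit 4, nat_lit 3, nat_lit 0, nat_lit 3, nat_lit 2, nat_lit 0], [[nat_lit 0, nat_lit 99, nat_lit 1], [nat_lit 99, nat_lit 0, nat_lit 99, nat_lit 99]])) (.leaf ((nat_lit 12), [nat_lit 2, nat_lit 1, nat_lit 0, nat_lit 5, nat_lit 2, nat_lit 4, nat_lit 1, nat_lit 3, nat_lit 1], [[nat_lit 99, nat_lit 99, nat_lit 0, nat_lit 99, nat_lit 0], [nat_lit 0, nat_lit 99, nat_lit 99, nat_lit 99, nat_lit 99]])))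 (.node (nat_lit 188) (.leaf ((nat_lit 9), [nat_lit 1, nat_lit 0, nat_lit 5, nat_lit 4, nat_lit 2, nat_lit 1, nat_lit 4, nat_lit 2, nat_lit 1, nat_lit 3, nat_lit 2, nat_lit 1], [[nat_lit 99, nat_lit 99, nat_lit 1, nat_lit 99, nat_lit 0], [nat_lit 1, nat_lit 99, nat_lit 99, nat_lit 0, nat_lit 99]])) (.leaf ((nat_lit 12), [nat_lit 3, nat_lit 1, nat_lit 5, nat_lit 3, nat_lit 2, nat_lit 1, nat_lit 4, nat_lit 3, nat_lit 0, nat_lit 3, nat_lit 2], [[nat_lit 1, nat_lit 99, nat_lit 99, nat_lit 99, nat_lit 0], [nat_lit 99, nat_lit 99, nat_lit 0, nat_lit 99]]))))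
 (.node (nat_lit 191) (.node (nat_lit 190) (.leaf ((nat_lit 10), [nat_lit 2, nat_lit 1, nat_lit 0, nat_lit 5, nat_lit 0, nat_lit 4, nat_lit 3, nat_lit 0, nat_lit 3, nat_lit 2, nat_lit 1], [[nat_lit 0, nat_lit 0, nat_lit 0, nat_lit 99, nat_lit 99], [nat_lit 1, nat_lit 99, nat_lit 99, nat_lit 0]])) (.leaf ((nat_lit 9), [nat_lit 4, nat_lit 5, nat_lit 2, nat_lit 4, nat_lit 1, nat_lit 0, nat_lit 3, nat_lit 1], [[nat_lit 1, nat_lit 99, nat_lit 0, nat_lit 99, nat_lit 0], [nat_lit 99, nat_lit 1, nat_lit 99, nat_lit 1]]))) (.node (nat_lit 192) (.leaf ((nat_lit 10), [nat_lit 2, nat_lit 1, nat_lit 0, nat_lit 5, nat_lit 1, nat_lit 3, nat_lit 2, nat_lit 0], [[nat_lit 0, nat_lit 0, nat_lit 0, nat_lit 99], [nat_lit 99, nat_lit 1, nat_lit 99, nat_lit 99, nat_lit 0]])) (.node (nat_lit 193) (.leaf ((nat_lit 13), [nat_lit 0, nat_lit 5, nat_lit 2, nat_lit 1, nat_lit 4, nat_lit 2, nat_lit 0, nat_lit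 3, nat_lit 2], [[nat_lit 99, nat_lit 0, nat_lit 99, nat_lit 99], [nat_lit 1, nat_lit 99, nat_lit 1, nat_lit 1]])) (.leaf ((nat_lit 9), [nat_lit 5, nat_lit 1, nat_lit 5, nat_lit 2, nat_lit 1, nat_lit 4, nat_lit 2, nat_lit 0, nat_lit 3, nat_lit 0], [[nat_lit 0, nat_lit 99, nat_lit 99, nat_lit 99], [nat_lit 1, nat_lit 99, nat_lit 0, nat_lit 99, nat_lit 0, nat_lit 0]])))))))
 (.node (nat_lit 203) (.node (nat_lit 198) (.node (nat_lit 196) (.node (nat_lit 195) (.leaf ((nat_lit 9), [nat_lit 2, nat_lit 0, nat_lit 5, nat_lit 0, nat_lit 4, nat_lit 3, nat_lit 2, nat_lit 0, nat_lit 3], [[nat_lit 0, nat_lit 99, nat_lit 99, nat_lit 1, nat_lit 99], [nat_lit 99, nat_lit 0, nat_lit 99, nat_lit 0]])) (.leaf ((nat_lit 10), [nat_lit 2, nat_lit 1, nat_lit 5, nat_lit 2, nat_lit 1, nat_lit 0], [[nat_lit 99, nat_lit 0, nat_lit 99, nat_lit 1, nat_lit 1], [nat_lit 99, nat_lit 99, nat_lit 1, nat_lit 99, nat_lit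 0]]))) (.node (nat_lit 197) (.leaf ((nat_lit 13), [nat_lit 0, nat_lit 5, nat_lit 2, nat_lit 1, nat_lit 4, nat_lit 2, nat_lit 0, nat_lit 3, nat_lit 2], [[nat_lit 99, nat_lit 99, nat_lit 1, nat_lit 99, nat_lit 1], [nat_lit 1, nat_lit 99, nat_lit 1, nat_lit 1, nat_lit 1]])) (.leaf ((nat_lit 9), [nat_lit 3, nat_lit 1, nat_lit 5, nat_lit 0, nat_lit 3, nat_lit 2, nat_lit 1, nat_lit 0], [[nat_lit 0, nat_lit 0, nat_lit 0], [nat_lit 99, nat_lit 99, nat_lit 0]]))))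
 (.node (nat_lit 200) (.node (nat_lit 199) (.leaf ((nat_lit 10), [nat_lit 2, nat_lit 1, nat_lit 0, nat_lit 5, nat_lit 1, nat_lit 0, nat_lit 3, nat_lit 2], [[nat_lit 99, nat_lit 99, nat_lit 99, nat_lit 0, nat_lit 0], [nat_lit 1, nat_lit 99, nat_lit 99, nat_lit 0, nat_lit 0]])) (.leaf ((nat_lit 12), [nat_lit 3, nat_lit 1, nat_lit 5, nat_lit 4, nat_lit 2, nat_lit 1, nat_lit 4, nat_lit 2, nat_lit 0, nat_lit 3, nat_lit 2], [[nat_lit 99, nat_lit 1, nat_lit 1, nat_lit 99, nat_lit 0, nat_lit 0], [nat_lit 1, nat_lit 1, nat_lit 99, nat_lit 0, nat_lit 99]]))) (.node (nat_lit 201) (.leaf ((nat_lit 9), [nat_lit 3, nat_lit 1, nat_lit 5, nat_lit 0, nat_lit 3, nat_lit 2, nat_lit 1, nat_lit 0], [[nat_lit 0, nat_lit 0, nat_lit 0], [nat_lit 99, nat_lit 0, nat_lit 99, nat_lit 0, nat_lit 0]])) (.node (nat_lit 202) (.leaf ((nat_lit 12), [nat_lit 5, nat_lit 4, nat_lit 2, nat_lit 1, nat_lit 4, nat_lit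 2, nat_lit 1, nat_lit 0, nat_lit 3, nat_lit 2, nat_lit 1], [[nat_lit 99, nat_lit 99, nat_lit 1, nat_lit 99, nat_lit 0, nat_lit 0], [nat_lit 99, nat_lit 99, nat_lit 99, nat_lit 99, nat_lit 99, nat_lit 0]])) (.leaf ((nat_lit 10), [nat_lit 2, nat_lit 1, nat_lit 5, nat_lit 2, nat_lit 1, nat_lit 0], [[nat_lit 99, nat_lit 0, nat_lit 0, nat_lit 99, nat_lit 1], [nat_lit 99, nat_lit 0, nat_lit 99, nat_lit 99, nat_lit 0, nat_lit 0]]))))))
 (.node (nat_lit 207) (.node (nat_lit 205) (.node (nat_lit 204) (.leaf ((nat_lit 10), [nat_lit 4, nat_lit 0, nat_lit 5, nat_lit 2, nat_lit 4, nat_lit 3, nat_lit 1, nat_lit 0], [[nat_lit 99, nat_lit 99, nat_lit 0, nat_lit 0, nat_lit 99], [nat_lit 0, nat_lit 0, nat_lit 99, nat_lit 1]])) (.leaf ((nat_lit 9), [nat_lit 3, nat_lit 1, nat_lit 5, nat_lit 0, nat_lit 3, nat_lit 2, nat_lit 1, nat_lit 0], [[nat_lit 0, nat_lit 0, nat_lit 0], [nat_lit 99, nat_lit 1, nat_lit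 99]]))) (.node (nat_lit 206) (.leaf ((nat_lit 13), [nat_lit 2, nat_lit 0, nat_lit 5, nat_lit 0, nat_lit 4, nat_lit 0, nat_lit 3, nat_lit 0], [[nat_lit 99, nat_lit 99, nat_lit 1, nat_lit 1, nat_lit 99], [nat_lit 99, nat_lit 99, nat_lit 99, nat_lit 0, nat_lit 0]])) (.leaf ((nat_lit 12), [nat_lit 1, nat_lit 5, nat_lit 1, nat_lit 0, nat_lit 4, nat_lit 3, nat_lit 2, nat_lit 3, nat_lit 0], [[nat_lit 99, nat_lit 99, nat_lit 1, nat_lit 99, nat_lit 99, nat_lit 0], [nat_lit 0, nat_lit 0, nat_lit 99, nat_lit 99, nat_lit 1, nat_lit 1]]))))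
 (.node (nat_lit 209) (.node (nat_lit 208) (.leaf ((nat_lit 11), [nat_lit 4, nat_lit 0, nat_lit 5, nat_lit 4, nat_lit 2, nat_lit 1, nat_lit 4, nat_lit 0], [[nat_lit 0, nat_lit 99], [nat_lit 99, nat_lit 1, nat_lit 99, nat_lit 99, nat_lit 0]])) (.leaf ((nat_lit 9), [nat_lit 3, nat_lit 2, nat_lit 1, nat_lit 5, nat_lit 1, nat_lit 0, nat_lit 4, nat_lit 2, nat_lit 3, nat_lit 0], [[nat_lit 99, nat_lit 99, nat_lit 1, nat_lit 99, nat_lit 99], [nat_lit 0, nat_lit 99, nat_lit 99, nat_lit 1]]))) (.node (nat_lit 210) (.leaf ((nat_lit 9), [nat_lit 1, nat_lit 0, nat_lit 5, nat_lit 2, nat_lit 1, nat_lit 0, nat_lit 4, nat_lit 0, nat_lit 3], [[nat_lit 99, nat_lit 0, nat_lit 0, nat_lit 99, nat_lit 0], [nat_lit 0, nat_lit 99, nat_lit 99, nat_lit 1]])) (.node (nat_lit 211) (.leaf ((nat_lit 10), [nat_lit 5, nat_lit 3, nat_lit 1, nat_lit 0, nat_lit 4, nat_lit 2, nat_lit 1, nat_lit 0, nat_lit 3, nat_lit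 1, nat_lit 0], [[nat_lit 99, nat_lit 99, nat_lit 0, nat_lit 99], [nat_lit 99, nat_lit 1, nat_lit 99, nat_lit 1]])) (.leaf ((nat_lit 10), [nat_lit 2, nat_lit 1, nat_lit 5, nat_lit 3, nat_lit 1, nat_lit 0, nat_lit 4, nat_lit 3, nat_lit 2, nat_lit 0, nat_lit 3, nat_lit 0], [[nat_lit 1, nat_lit 99, nat_lit 99, nat_lit 99], [nat_lit 99, nat_lit 1, nat_lit 1, nat_lit 1]])))))))))
 (.node (nat_lit 247) (.node (nat_lit 229) (.node (nat_lit 220) (.node (nat_lit 216) (.node (nat_lit 214) (.node (nat_lit 213) (.leaf ((nat_lit 13), [nat_lit 2, nat_lit 0, nat_lit 5, nat_lit 3, nat_lit 2, nat_lit 1, nat_lit 4, nat_lit 0, nat_lit 3, nat_lit 0], [[nat_lit 99, nat_lit 99, nat_lit 99, nat_lit 1, nat_lit 1], [nat_lit 1, nat_lit 1, nat_lit 1, nat_lit 99, nat_lit 1]])) (.leaf ((nat_lit 12), [nat_lit 2, nat_lit 0, nat_lit 5, nat_lit 2, nat_lit 1, nat_lit 0, nat_lit 4, nat_lit 1, nat_lit 3, nat_lit 2,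 nat_lit 1, nat_lit 0], [[nat_lit 1, nat_lit 99, nat_lit 1, nat_lit 99, nat_lit 1], [nat_lit 99, nat_lit 0, nat_lit 99, nat_lit 99]]))) (.node (nat_lit 215) (.leaf ((nat_lit 13), [nat_lit 1, nat_lit 0, nat_lit 5, nat_lit 4, nat_lit 3, nat_lit 2, nat_lit 1, nat_lit 0], [[nat_lit 99, nat_lit 1, nat_lit 99, nat_lit 0, nat_lit 0], [nat_lit 1, nat_lit 1, nat_lit 99, nat_lit 0, nat_lit 0]])) (.leaf ((nat_lit 11), [nat_lit 3, nat_lit 1, nat_lit 5, nat_lit 4, nat_lit 0, nat_lit 4, nat_lit 3, nat_lit 2, nat_lit 1], [[nat_lit 0], [nat_lit 99, nat_lit 99, nat_lit 99, nat_lit 0, nat_lit 0]]))))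
 (.node (nat_lit 218) (.node (nat_lit 217) (.leaf ((nat_lit 13), [nat_lit 2, nat_lit 0, nat_lit 5, nat_lit 4, nat_lit 2, nat_lit 1, nat_lit 4, nat_lit 1, nat_lit 3, nat_lit 2, nat_lit 1, nat_lit 0], [[nat_lit 99, nat_lit 1, nat_lit 99, nat_lit 99, nat_lit 1], [nat_lit 99, nat_lit 0, nat_lit 0, nat_lit 99]])) (.leaf ((nat_lit 11), [nat_lit 2, nat_lit 5, nat_lit 0, nat_lit 4, nat_lit 3, nat_lit 0, nat_lit 3, nat_lit 0], [[nat_lit 0, nat_lit 99, nat_lit 99, nat_lit 99, nat_lit 0], [nat_lit 1, nat_lit 99, nat_lit 0, nat_lit 99, nat_lit 99]]))) (.node (nat_lit 219) (.leaf ((nat_lit 12), [nat_lit 3, nat_lit 2, nat_lit 1, nat_lit 5, nat_lit 4, nat_lit 2, nat_lit 1, nat_lit 4, nat_lit 3, nat_lit 0, nat_lit 3, nat_lit 2, nat_lit 1], [[nat_lit 0, nat_lit 0, nat_lit 99, nat_lit 99], [nat_lit 1, nat_lit 99, nat_lit 0, nat_lit 0, nat_lit 0]])) (.leaf ((nat_lit 9), [nat_lit 4, nat_lit 5, nat_lit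 1, nat_lit 0, nat_lit 4, nat_lit 3, nat_lit 0, nat_lit 3], [[nat_lit 0, nat_lit 99, nat_lit 1, nat_lit 99, nat_lit 0], [nat_lit 1, nat_lit 99, nat_lit 99, nat_lit 99, nat_lit 0]])))))
 (.node (nat_lit 224) (.node (nat_lit 222) (.node (nat_lit 221) (.leaf ((nat_lit 13), [nat_lit 1, nat_lit 4, nat_lit 2, nat_lit 3, nat_lit 2, nat_lit 1], [[nat_lit 0, nat_lit 0, nat_lit 0, nat_lit 99, nat_lit 0], [nat_lit 99, nat_lit 0, nat_lit 99, nat_lit 99]])) (.leaf ((nat_lit 9), [nat_lit 4, nat_lit 5, nat_lit 0, nat_lit 4, nat_lit 2, nat_lit 1, nat_lit 0, nat_lit 3, nat_lit 2, nat_lit 0], [[nat_lit 99, nat_lit 0, nat_lit 99, nat_lit 0, nat_lit 0, nat_lit 0], [nat_lit 0, nat_lit 99, nat_lit 99, nat_lit 99, nat_lit 1]]))) (.node (nat_lit 223) (.leaf ((nat_lit 11), [nat_lit 0, nat_lit 5, nat_lit 3, nat_lit 1, nat_lit 4, nat_lit 2, nat_lit 3, nat_lit 2, nat_lit 1], [[nat_lit 99, nat_lit 1], [nat_lit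 1, nat_lit 99, nat_lit 99, nat_lit 0]])) (.leaf ((nat_lit 13), [nat_lit 3, nat_lit 2, nat_lit 1, nat_lit 5, nat_lit 3, nat_lit 1, nat_lit 4, nat_lit 3, nat_lit 2, nat_lit 0, nat_lit 3], [[nat_lit 99, nat_lit 1, nat_lit 99, nat_lit 0, nat_lit 0, nat_lit 0], [nat_lit 99, nat_lit 1, nat_lit 1, nat_lit 1]]))))
 (.node (nat_lit 226) (.node (nat_lit 225) (.leaf ((nat_lit 13), [nat_lit 3, nat_lit 1, nat_lit 5, nat_lit 2, nat_lit 1, nat_lit 0, nat_lit 4, nat_lit 3, nat_lit 2, nat_lit 0, nat_lit 3, nat_lit 2, nat_lit 1], [[nat_lit 99, nat_lit 99, nat_lit 99, nat_lit 1], [nat_lit 99, nat_lit 0, nat_lit 99]])) (.leaf ((nat_lit 9), [nat_lit 2, nat_lit 1, nat_lit 0, nat_lit 5, nat_lit 3, nat_lit 2, nat_lit 1, nat_lit 4, nat_lit 0, nat_lit 3, nat_lit 2, nat_lit 1], [[nat_lit 1], [nat_lit 99, nat_lit 99, nat_lit 99]]))) (.node (nat_lit 227) (.leaf ((nat_lit 13), [nat_lit 2, nat_lit 1, nat_lit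 0, nat_lit 5, nat_lit 1, nat_lit 4, nat_lit 3, nat_lit 2, nat_lit 3], [[nat_lit 99, nat_lit 0, nat_lit 99, nat_lit 99, nat_lit 0], [nat_lit 0, nat_lit 99, nat_lit 0, nat_lit 99, nat_lit 0]])) (.node (nat_lit 228) (.leaf ((nat_lit 13), [nat_lit 5, nat_lit 1, nat_lit 5, nat_lit 1, nat_lit 0, nat_lit 4, nat_lit 2, nat_lit 1], [[nat_lit 0, nat_lit 99, nat_lit 99, nat_lit 0, nat_lit 0], [nat_lit 1, nat_lit 99, nat_lit 0, nat_lit 0]])) (.leaf ((nat_lit 11), [nat_lit 2, nat_lit 1, nat_lit 5, nat_lit 3, nat_lit 1, nat_lit 0, nat_lit 4, nat_lit 2, nat_lit 1, nat_lit 0, nat_lit 3, nat_lit 2, nat_lit 0], [[nat_lit 0, nat_lit 99, nat_lit 1], [nat_lit 99, nat_lit 0, nat_lit 99, nat_lit 0]])))))))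
 (.node (nat_lit 238) (.node (nat_lit 233) (.node (nat_lit 231) (.node (nat_lit 230) (.leaf ((nat_lit 12), [nat_lit 3, nat_lit 1, nat_lit 5, nat_lit 3, nat_lit 1, nat_lit 4, nat_lit 3, nat_lit 2, nat_lit 3, nat_lit 2, nat_lit 1], [[nat_lit 99, nat_lit 99, nat_lit 0, nat_lit 0, nat_lit 0], [nat_lit 99, nat_lit 99, nat_lit 99, nat_lit 0, nat_lit 0]])) (.leaf ((nat_lit 10), [nat_lit 5, nat_lit 1, nat_lit 0, nat_lit 4, nat_lit 1, nat_lit 0, nat_lit 3, nat_lit 1, nat_lit 0], [[nat_lit 99, nat_lit 0, nat_lit 99, nat_lit 0, nat_lit 99], [nat_lit 0, nat_lit 99, nat_lit 1, nat_lit 1, nat_lit 1]]))) (.node (nat_lit 232) (.leaf ((nat_lit 13), [nat_lit 0, nat_lit 5, nat_lit 3, nat_lit 2, nat_lit 0, nat_lit 3, nat_lit 2], [[nat_lit 0, nat_lit 99, nat_lit 0, nat_lit 0, nat_lit 0], [nat_lit 99, nat_lit 1, nat_lit 99, nat_lit 99, nat_lit 0]])) (.leaf ((nat_lit 12), [nat_lit 1, nat_lit 0, nat_lit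 5, nat_lit 2, nat_lit 0, nat_lit 4, nat_lit 3, nat_lit 2, nat_lit 3, nat_lit 0], [[nat_lit 1, nat_lit 99, nat_lit 1, nat_lit 99, nat_lit 0], [nat_lit 0, nat_lit 99, nat_lit 99, nat_lit 99, nat_lit 0]]))))
 (.node (nat_lit 235) (.node (nat_lit 234) (.leaf ((nat_lit 12), [nat_lit 5, nat_lit 1, nat_lit 5, nat_lit 1, nat_lit 0, nat_lit 4, nat_lit 3, nat_lit 2, nat_lit 3, nat_lit 2, nat_lit 1], [[nat_lit 1, nat_lit 1, nat_lit 99, nat_lit 99], [nat_lit 99, nat_lit 99, nat_lit 1, nat_lit 1, nat_lit 99, nat_lit 0]])) (.leaf ((nat_lit 9), [nat_lit 5, nat_lit 3, nat_lit 1, nat_lit 4, nat_lit 1, nat_lit 0, nat_lit 3, nat_lit 1], [[nat_lit 1, nat_lit 99, nat_lit 1, nat_lit 99, nat_lit 99], [nat_lit 99, nat_lit 0, nat_lit 0, nat_lit 99, nat_lit 0, nat_lit 0]]))) (.node (nat_lit 236) (.leaf ((nat_lit 12), [nat_lit 2, nat_lit 0, nat_lit 5, nat_lit 3, nat_lit 2, nat_lit 1, nat_lit 4, nat_lit 3,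 nat_lit 2, nat_lit 3, nat_lit 0], [[nat_lit 99, nat_lit 0, nat_lit 99, nat_lit 0, nat_lit 0], [nat_lit 99, nat_lit 99, nat_lit 1, nat_lit 99]])) (.node (nat_lit 237) (.leaf ((nat_lit 12), [nat_lit 2, nat_lit 5, nat_lit 1, nat_lit 0, nat_lit 4, nat_lit 3, nat_lit 0, nat_lit 3], [[nat_lit 99, nat_lit 99, nat_lit 99, nat_lit 99, nat_lit 99], [nat_lit 0, nat_lit 99, nat_lit 1, nat_lit 99, nat_lit 0, nat_lit 0]])) (.leaf ((nat_lit 12), [nat_lit 2, nat_lit 1, nat_lit 5, nat_lit 2, nat_lit 1, nat_lit 0, nat_lit 4, nat_lit 0, nat_lit 3, nat_lit 1], [[nat_lit 0, nat_lit 99, nat_lit 0, nat_lit 0], [nat_lit 99, nat_lit 1, nat_lit 99, nat_lit 99]]))))))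
 (.node (nat_lit 242) (.node (nat_lit 240) (.node (nat_lit 239) (.leaf ((nat_lit 9), [nat_lit 2, nat_lit 1, nat_lit 0, nat_lit 5, nat_lit 2, nat_lit 1, nat_lit 0, nat_lit 4, nat_lit 2, nat_lit 1, nat_lit 0, nat_lit 3, nat_lit 2, nat_lit 1, nat_lit 0], [[nat_lit 99, nat_lit 99, nat_lit 0, nat_lit 0], [nat_lit 0, nat_lit 99, nat_lit 0, nat_lit 99]])) (.leaf ((nat_lit 13), [nat_lit 4, nat_lit 5, nat_lit 4, nat_lit 0, nat_lit 4, nat_lit 3, nat_lit 0, nat_lit 3, nat_lit 0], [[nat_lit 1, nat_lit 1, nat_lit 1, nat_lit 99, nat_lit 0], [nat_lit 0, nat_lit 99, nat_lit 0, nat_lit 99, nat_lit 1]]))) (.node (nat_lit 241) (.leaf ((nat_lit 12), [nat_lit 1, nat_lit 5, nat_lit 2, nat_lit 4, nat_lit 3, nat_lit 2, nat_lit 3, nat_lit 0], [[nat_lit 99, nat_lit 1, nat_lit 99, nat_lit 99], [nat_lit 0, nat_lit 99, nat_lit 99, nat_lit 99, nat_lit 1]])) (.leaf ((nat_lit 13), [nat_lit 4, nat_lit 0, nat_lit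 5, nat_lit 2, nat_lit 1, nat_lit 0, nat_lit 4, nat_lit 1, nat_lit 3, nat_lit 1, nat_lit 0], [[nat_lit 0, nat_lit 0, nat_lit 99, nat_lit 99, nat_lit 0, nat_lit 0], [nat_lit 99, nat_lit 0, nat_lit 0, nat_lit 99, nat_lit 99]]))))
 (.node (nat_lit 244) (.node (nat_lit 243) (.leaf ((nat_lit 13), [nat_lit 2, nat_lit 1, nat_lit 0, nat_lit 5, nat_lit 3, nat_lit 1, nat_lit 4, nat_lit 1, nat_lit 3, nat_lit 2, nat_lit 1, nat_lit 0], [[nat_lit 99, nat_lit 0, nat_lit 99, nat_lit 99, nat_lit 0], [nat_lit 0, nat_lit 0, nat_lit 99, nat_lit 99]])) (.leaf ((nat_lit 9), [nat_lit 3, nat_lit 2, nat_lit 1, nat_lit 5, nat_lit 4, nat_lit 2, nat_lit 1, nat_lit 4, nat_lit 2, nat_lit 1, nat_lit 0, nat_lit 3, nat_lit 1], [[nat_lit 99, nat_lit 99, nat_lit 1, nat_lit 99, nat_lit 99], [nat_lit 1, nat_lit 99, nat_lit 99, nat_lit 0]]))) (.node (nat_lit 245) (.leaf ((nat_lit 12), [nat_lit 2, nat_lit 1, nat_lit 5,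 nat_lit 2, nat_lit 1, nat_lit 0, nat_lit 4, nat_lit 0, nat_lit 3, nat_lit 1], [[nat_lit 0, nat_lit 99, nat_lit 0, nat_lit 0, nat_lit 0], [nat_lit 99, nat_lit 99, nat_lit 0, nat_lit 99, nat_lit 0]])) (.node (nat_lit 246) (.leaf ((nat_lit 13), [nat_lit 1, nat_lit 5, nat_lit 1, nat_lit 4, nat_lit 0, nat_lit 3, nat_lit 0], [[nat_lit 0, nat_lit 99, nat_lit 99, nat_lit 0, nat_lit 99, nat_lit 0], [nat_lit 99, nat_lit 1, nat_lit 99, nat_lit 0, nat_lit 99, nat_lit 1]])) (.leaf ((nat_lit 13), [nat_lit 2, nat_lit 0, nat_lit 5, nat_lit 1, nat_lit 4, nat_lit 2, nat_lit 1, nat_lit 3, nat_lit 2, nat_lit 1], [[nat_lit 0, nat_lit 0, nat_lit 99, nat_lit 0, nat_lit 0], [nat_lit 1, nat_lit 99, nat_lit 99]]))))))))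
 (.node (nat_lit 265) (.node (nat_lit 256) (.node (nat_lit 251) (.node (nat_lit 249) (.node (nat_lit 248) (.leaf ((nat_lit 12), [nat_lit 2, nat_lit 1, nat_lit 5, nat_lit 0, nat_lit 4, nat_lit 2, nat_lit 3, nat_lit 2, nat_lit 1], [[nat_lit 1, nat_lit 1, nat_lit 99, nat_lit 99], [nat_lit 99, nat_lit 0, nat_lit 99, nat_lit 99, nat_lit 0]])) (.leaf ((nat_lit 13), [nat_lit 2, nat_lit 1], [[nat_lit 99, nat_lit 99, nat_lit 0, nat_lit 99, nat_lit 1], [nat_lit 0, nat_lit 0, nat_lit 99, nat_lit 0]]))) (.node (nat_lit 250) (.leaf ((nat_lit 13), [nat_lit 2, nat_lit 5, nat_lit 2, nat_lit 1, nat_lit 0, nat_lit 4, nat_lit 2, nat_lit 3], [[nat_lit 0, nat_lit 0, nat_lit 0, nat_lit 99], [nat_lit 99, nat_lit 1, nat_lit 99, nat_lit 1, nat_lit 1]])) (.leaf ((nat_lit 12), [nat_lit 2, nat_lit 1, nat_lit 5, nat_lit 4, nat_lit 0, nat_lit 4, nat_lit 2, nat_lit 3, nat_lit 0], [[nat_lit 99, nat_lit 1, nat_lit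 99, nat_lit 0, nat_lit 0, nat_lit 0], [nat_lit 99, nat_lit 1, nat_lit 99, nat_lit 0, nat_lit 99]]))))
 (.node (nat_lit 253) (.node (nat_lit 252) (.leaf ((nat_lit 9), [nat_lit 2, nat_lit 1, nat_lit 0, nat_lit 5, nat_lit 2, nat_lit 1, nat_lit 0, nat_lit 4, nat_lit 2, nat_lit 1, nat_lit 0, nat_lit 3, nat_lit 2, nat_lit 1, nat_lit 0], [[nat_lit 99, nat_lit 1, nat_lit 99, nat_lit 0], [nat_lit 0, nat_lit 99, nat_lit 99, nat_lit 1]])) (.leaf ((nat_lit 12), [nat_lit 4, nat_lit 5, nat_lit 3, nat_lit 1, nat_lit 4, nat_lit 3, nat_lit 2, nat_lit 3, nat_lit 2, nat_lit 1, nat_lit 0], [[nat_lit 99, nat_lit 0, nat_lit 0, nat_lit 0, nat_lit 99, nat_lit 0], [nat_lit 99, nat_lit 0, nat_lit 99, nat_lit 99, nat_lit 0, nat_lit 0]]))) (.node (nat_lit 254) (.leaf ((nat_lit 9), [nat_lit 2, nat_lit 1, nat_lit 0, nat_lit 5, nat_lit 1, nat_lit 4, nat_lit 0, nat_lit 3, nat_lit 1], [[nat_lit 1, nat_lit 99, nat_lit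 99, nat_lit 0, nat_lit 99, nat_lit 0], [nat_lit 0, nat_lit 99, nat_lit 0, nat_lit 99, nat_lit 1]])) (.node (nat_lit 255) (.leaf ((nat_lit 9), [nat_lit 2, nat_lit 5, nat_lit 4, nat_lit 3, nat_lit 0, nat_lit 3, nat_lit 2, nat_lit 1], [[nat_lit 99, nat_lit 99, nat_lit 0, nat_lit 99, nat_lit 0], [nat_lit 0, nat_lit 0, nat_lit 99, nat_lit 99]])) (.leaf ((nat_lit 9), [nat_lit 5, nat_lit 4, nat_lit 5, nat_lit 3, nat_lit 1, nat_lit 4, nat_lit 2, nat_lit 0, nat_lit 3, nat_lit 0], [[nat_lit 99, nat_lit 99, nat_lit 1, nat_lit 99, nat_lit 0], [nat_lit 99, nat_lit 1, nat_lit 99, nat_lit 1]]))))))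
 (.node (nat_lit 260) (.node (nat_lit 258) (.node (nat_lit 257) (.leaf ((nat_lit 9), [nat_lit 4, nat_lit 0, nat_lit 5, nat_lit 1, nat_lit 0, nat_lit 4, nat_lit 3, nat_lit 2, nat_lit 3, nat_lit 1], [[nat_lit 99, nat_lit 99, nat_lit 99, nat_lit 0, nat_lit 0], [nat_lit 0, nat_lit 99, nat_lit 99, nat_lit 1, nat_lit 1, nat_lit 1]])) (.leaf ((nat_lit 11), [nat_lit 2, nat_lit 1, nat_lit 0, nat_lit 5, nat_lit 2, nat_lit 1, nat_lit 0, nat_lit 4, nat_lit 1, nat_lit 3], [[nat_lit 1, nat_lit 1, nat_lit 1], [nat_lit 99, nat_lit 99, nat_lit 99, nat_lit 0]]))) (.node (nat_lit 259) (.leaf ((nat_lit 9), [nat_lit 5, nat_lit 1, nat_lit 5, nat_lit 2, nat_lit 1, nat_lit 0], [[nat_lit 1, nat_lit 99, nat_lit 1, nat_lit 99, nat_lit 99], [nat_lit 0, nat_lit 99, nat_lit 0, nat_lit 99, nat_lit 0, nat_lit 0]])) (.leaf ((nat_lit 10), [nat_lit 4, nat_lit 0, nat_lit 5, nat_lit 3, nat_lit 2, nat_lit 1, nat_lit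 4, nat_lit 2, nat_lit 1, nat_lit 0, nat_lit 3, nat_lit 2, nat_lit 1], [[nat_lit 1, nat_lit 99, nat_lit 99, nat_lit 1, nat_lit 99], [nat_lit 99, nat_lit 0, nat_lit 99, nat_lit 1, nat_lit 99, nat_lit 0]]))))
 (.node (nat_lit 262) (.node (nat_lit 261) (.leaf ((nat_lit 9), [nat_lit 5, nat_lit 4, nat_lit 5, nat_lit 1, nat_lit 4, nat_lit 2, nat_lit 1, nat_lit 3, nat_lit 2, nat_lit 1, nat_lit 0], [[nat_lit 99, nat_lit 99, nat_lit 99, nat_lit 0], [nat_lit 99, nat_lit 1, nat_lit 99, nat_lit 0, nat_lit 0]])) (.leaf ((nat_lit 12), [nat_lit 3, nat_lit 1, nat_lit 5, nat_lit 1, nat_lit 4, nat_lit 2, nat_lit 1, nat_lit 0, nat_lit 3, nat_lit 2, nat_lit 0], [[nat_lit 1, nat_lit 99, nat_lit 0, nat_lit 99, nat_lit 1], [nat_lit 99, nat_lit 0, nat_lit 99, nat_lit 99, nat_lit 0]]))) (.node (nat_lit 263) (.leaf ((nat_lit 9), [nat_lit 1, nat_lit 0, nat_lit 5, nat_lit 0, nat_lit 4, nat_lit 2, nat_lit 1,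 nat_lit 0, nat_lit 3, nat_lit 2, nat_lit 1, nat_lit 0], [[nat_lit 0, nat_lit 99, nat_lit 99, nat_lit 99], [nat_lit 1, nat_lit 1, nat_lit 99, nat_lit 99, nat_lit 0]])) (.node (nat_lit 264) (.leaf ((nat_lit 11), [nat_lit 4, nat_lit 0, nat_lit 5, nat_lit 2, nat_lit 1, nat_lit 4, nat_lit 3, nat_lit 1], [[nat_lit 99, nat_lit 99], [nat_lit 99, nat_lit 99, nat_lit 1, nat_lit 99, nat_lit 1]])) (.leaf ((nat_lit 9), [nat_lit 2, nat_lit 5, nat_lit 2, nat_lit 1, nat_lit 4, nat_lit 0, nat_lit 3, nat_lit 1], [[nat_lit 99, nat_lit 1, nat_lit 99, nat_lit 1, nat_lit 99], [nat_lit 99, nat_lit 99, nat_lit 99, nat_lit 1]])))))))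
 (.node (nat_lit 274) (.node (nat_lit 269) (.node (nat_lit 267) (.node (nat_lit 266) (.leaf ((nat_lit 11), [nat_lit 1, nat_lit 0, nat_lit 5, nat_lit 3, nat_lit 1, nat_lit 4, nat_lit 3, nat_lit 2], [[nat_lit 99, nat_lit 0, nat_lit 99, nat_lit 0, nat_lit 0], [nat_lit 99, nat_lit 99, nat_lit 99, nat_lit 99]])) (.leaf ((nat_lit 9), [nat_lit 5, nat_lit 4, nat_lit 5, nat_lit 3, nat_lit 1, nat_lit 4, nat_lit 2, nat_lit 0, nat_lit 3, nat_lit 0], [[nat_lit 99, nat_lit 0, nat_lit 99, nat_lit 99, nat_lit 0, nat_lit 0], [nat_lit 99, nat_lit 99]]))) (.node (nat_lit 268) (.leaf ((nat_lit 9), [nat_lit 0, nat_lit 5, nat_lit 3, nat_lit 2, nat_lit 1, nat_lit 4, nat_lit 1, nat_lit 0, nat_lit 3, nat_lit 2, nat_lit 0], [[nat_lit 99, nat_lit 99, nat_lit 0, nat_lit 99, nat_lit 1], [nat_lit 99, nat_lit 1, nat_lit 1, nat_lit 99, nat_lit 0]])) (.leaf ((nat_lit 9), [nat_lit 2, nat_lit 1, nat_lit 0, nat_lit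 5, nat_lit 4, nat_lit 0, nat_lit 4, nat_lit 3, nat_lit 2, nat_lit 1, nat_lit 0], [[nat_lit 99, nat_lit 0, nat_lit 0, nat_lit 99, nat_lit 99], [nat_lit 1, nat_lit 99, nat_lit 1, nat_lit 99, nat_lit 1]]))))
 (.node (nat_lit 271) (.node (nat_lit 270) (.leaf ((nat_lit 9), [nat_lit 2, nat_lit 0, nat_lit 5, nat_lit 2, nat_lit 1, nat_lit 0, nat_lit 4, nat_lit 1, nat_lit 3, nat_lit 2, nat_lit 1], [[nat_lit 99, nat_lit 1, nat_lit 99, nat_lit 99, nat_lit 99], [nat_lit 1, nat_lit 1, nat_lit 99, nat_lit 0, nat_lit 99, nat_lit 0]])) (.leaf ((nat_lit 9), [nat_lit 3, nat_lit 2, nat_lit 1, nat_lit 5, nat_lit 2, nat_lit 1, nat_lit 4, nat_lit 2, nat_lit 3, nat_lit 2, nat_lit 1], [[nat_lit 99, nat_lit 99, nat_lit 0, nat_lit 99], [nat_lit 1, nat_lit 99, nat_lit 99, nat_lit 1, nat_lit 1]]))) (.node (nat_lit 272) (.leaf ((nat_lit 9), [nat_lit 2, nat_lit 5, nat_lit 3, nat_lit 1, nat_lit 4, nat_lit 0,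 nat_lit 3, nat_lit 2, nat_lit 0], [[nat_lit 99, nat_lit 0, nat_lit 99, nat_lit 99, nat_lit 99], [nat_lit 99, nat_lit 1, nat_lit 1, nat_lit 1, nat_lit 99, nat_lit 1]])) (.node (nat_lit 273) (.leaf ((nat_lit 11), [nat_lit 2, nat_lit 1, nat_lit 5, nat_lit 1, nat_lit 4, nat_lit 3, nat_lit 2, nat_lit 3, nat_lit 1], [[nat_lit 0], [nat_lit 99, nat_lit 99, nat_lit 99, nat_lit 0, nat_lit 0]])) (.leaf ((nat_lit 11), [nat_lit 5, nat_lit 4, nat_lit 5, nat_lit 1, nat_lit 0, nat_lit 4, nat_lit 2, nat_lit 1, nat_lit 0, nat_lit 3, nat_lit 2], [[nat_lit 1, nat_lit 1, nat_lit 1], [nat_lit 99, nat_lit 1, nat_lit 99, nat_lit 1, nat_lit 99]]))))))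
 (.node (nat_lit 278) (.node (nat_lit 276) (.node (nat_lit 275) (.leaf ((nat_lit 12), [nat_lit 2, nat_lit 1, nat_lit 5, nat_lit 3, nat_lit 2, nat_lit 0, nat_lit 3, nat_lit 2, nat_lit 1], [[nat_lit 99, nat_lit 99, nat_lit 0, nat_lit 0], [nat_lit 0, nat_lit 0, nat_lit 99, nat_lit 0]])) (.leaf ((nat_lit 13), [nat_lit 1, nat_lit 5, nat_lit 3, nat_lit 2, nat_lit 3, nat_lit 2], [[nat_lit 1, nat_lit 1, nat_lit 99, nat_lit 0, nat_lit 0], [nat_lit 99, nat_lit 0, nat_lit 99, nat_lit 1, nat_lit 1]]))) (.node (nat_lit 277) (.leaf ((nat_lit 13), [nat_lit 0, nat_lit 5, nat_lit 3, nat_lit 1, nat_lit 0, nat_lit 4, nat_lit 1, nat_lit 0, nat_lit 3], [[nat_lit 0, nat_lit 99, nat_lit 99, nat_lit 0, nat_lit 0], [nat_lit 99, nat_lit 1, nat_lit 99, nat_lit 99]])) (.leaf ((nat_lit 11), [nat_lit 5, nat_lit 4, nat_lit 5, nat_lit 2, nat_lit 1, nat_lit 0, nat_lit 4, nat_lit 2, nat_lit 1, nat_lit 0, nat_lit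 3, nat_lit 1, nat_lit 0], [[nat_lit 99, nat_lit 0, nat_lit 99, nat_lit 99], [nat_lit 1, nat_lit 99, nat_lit 0]]))))
 (.node (nat_lit 280) (.node (nat_lit 279) (.leaf ((nat_lit 10), [nat_lit 1, nat_lit 5, nat_lit 2, nat_lit 1, nat_lit 4, nat_lit 3, nat_lit 2, nat_lit 3, nat_lit 2], [[nat_lit 0, nat_lit 99, nat_lit 0, nat_lit 99, nat_lit 99, nat_lit 0], [nat_lit 1, nat_lit 1, nat_lit 99, nat_lit 1, nat_lit 1, nat_lit 99]])) (.leaf ((nat_lit 13), [nat_lit 2, nat_lit 0, nat_lit 5, nat_lit 1, nat_lit 0, nat_lit 4, nat_lit 3, nat_lit 2, nat_lit 0, nat_lit 3, nat_lit 0], [[nat_lit 99, nat_lit 99, nat_lit 1, nat_lit 99, nat_lit 1], [nat_lit 0, nat_lit 0, nat_lit 99, nat_lit 0, nat_lit 0]]))) (.node (nat_lit 281) (.leaf ((nat_lit 9), [nat_lit 3, nat_lit 1, nat_lit 5, nat_lit 0, nat_lit 4, nat_lit 2, nat_lit 1, nat_lit 3, nat_lit 2, nat_lit 0], [[nat_lit 99, nat_lit 0, nat_lit 0, nat_lit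 0], [nat_lit 99, nat_lit 99, nat_lit 99]])) (.node (nat_lit 282) (.leaf ((nat_lit 12), [nat_lit 3, nat_lit 1, nat_lit 5, nat_lit 4, nat_lit 0, nat_lit 4, nat_lit 0, nat_lit 3, nat_lit 0], [[nat_lit 99, nat_lit 1, nat_lit 99, nat_lit 99, nat_lit 0], [nat_lit 99, nat_lit 99, nat_lit 0, nat_lit 99, nat_lit 99, nat_lit 1]])) (.leaf ((nat_lit 9), [nat_lit 2, nat_lit 0, nat_lit 5, nat_lit 4, nat_lit 0, nat_lit 4, nat_lit 2, nat_lit 3, nat_lit 2, nat_lit 1, nat_lit 0], [[nat_lit 1, nat_lit 99, nat_lit 1, nat_lit 99, nat_lit 0], [nat_lit 0, nat_lit 99, nat_lit 99, nat_lit 99, nat_lit 1]]))))))))))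
noncomputable def n1CE_2 : Tr (ℕ × List ℕ × List (List ℕ)) := (.node (nat_lit 354) (.node (nat_lit 318) (.node (nat_lit 300) (.node (nat_lit 291) (.node (nat_lit 287) (.node (nat_lit 285) (.node (nat_lit 284) (.leaf ((nat_lit 12), [nat_lit 2, nat_lit 1, nat_lit 5, nat_lit 3, nat_lit 2, nat_lit 0, nat_lit 3, nat_lit 2, nat_lit 1], [[nat_lit 99, nat_lit 1, nat_lit 99, nat_lit 0], [nat_lit 0, nat_lit 0, nat_lit 99]])) (.leaf ((nat_lit 10), [nat_lit 4, nat_lit 5, nat_lit 4, nat_lit 2, nat_lit 1, nat_lit 4, nat_lit 3, nat_lit 2, nat_lit 0, nat_lit 3, nat_lit 2], [[nat_lit 1, nat_lit 99, nat_lit 99, nat_lit 0, nat_lit 0], [nat_lit 99, nat_lit 99, nat_lit 0, nat_lit 99, nat_lit 1, nat_lit 1]]))) (.node (nat_lit 286) (.leaf ((nat_lit 11), [nat_lit 5, nat_lit 4, nat_lit 5, nat_lit 1, nat_lit 0, nat_lit 4, nat_lit 2, nat_lit 1, nat_lit 0, nat_lit 3, nat_lit 2], [[nat_lit 1, nat_lit 1, nat_lit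 1], [nat_lit 99, nat_lit 99, nat_lit 99, nat_lit 0]])) (.leaf ((nat_lit 13), [nat_lit 2, nat_lit 0, nat_lit 5, nat_lit 1, nat_lit 0, nat_lit 4, nat_lit 3, nat_lit 2, nat_lit 0, nat_lit 3, nat_lit 0], [[nat_lit 99, nat_lit 0, nat_lit 99, nat_lit 99], [nat_lit 0, nat_lit 0, nat_lit 99, nat_lit 0, nat_lit 0, nat_lit 0]]))))
 (.node (nat_lit 289) (.node (nat_lit 288) (.leaf ((nat_lit 12), [nat_lit 4, nat_lit 5, nat_lit 1, nat_lit 4, nat_lit 2, nat_lit 1, nat_lit 0, nat_lit 3, nat_lit 2, nat_lit 1], [[nat_lit 99, nat_lit 0, nat_lit 99, nat_lit 1, nat_lit 99], [nat_lit 1, nat_lit 1, nat_lit 99, nat_lit 0, nat_lit 0]])) (.leaf ((nat_lit 11), [nat_lit 5, nat_lit 1, nat_lit 5, nat_lit 1, nat_lit 4, nat_lit 3, nat_lit 2, nat_lit 3, nat_lit 1, nat_lit 0], [[nat_lit 99, nat_lit 0, nat_lit 0, nat_lit 99, nat_lit 99, nat_lit 0, nat_lit 0], [nat_lit 0, nat_lit 99, nat_lit 0, nat_lit 0, nat_lit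 99, nat_lit 0]]))) (.node (nat_lit 290) (.leaf ((nat_lit 12), [nat_lit 2, nat_lit 1, nat_lit 5, nat_lit 3, nat_lit 2, nat_lit 0, nat_lit 3, nat_lit 2, nat_lit 1], [[nat_lit 99, nat_lit 1, nat_lit 1, nat_lit 99], [nat_lit 0, nat_lit 0, nat_lit 99, nat_lit 1]])) (.leaf ((nat_lit 13), [nat_lit 1, nat_lit 5, nat_lit 3, nat_lit 2, nat_lit 3, nat_lit 2], [[nat_lit 1, nat_lit 1, nat_lit 99, nat_lit 0], [nat_lit 99, nat_lit 99, nat_lit 1, nat_lit 1, nat_lit 1]])))))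
 (.node (nat_lit 295) (.node (nat_lit 293) (.node (nat_lit 292) (.leaf ((nat_lit 11), [nat_lit 1, nat_lit 5, nat_lit 3, nat_lit 1, nat_lit 4, nat_lit 1, nat_lit 3], [[nat_lit 99, nat_lit 1, nat_lit 99, nat_lit 0, nat_lit 99, nat_lit 0], [nat_lit 1, nat_lit 99, nat_lit 0, nat_lit 99, nat_lit 0, nat_lit 0]])) (.leaf ((nat_lit 11), [nat_lit 5, nat_lit 4, nat_lit 5, nat_lit 2, nat_lit 1, nat_lit 0, nat_lit 4, nat_lit 2, nat_lit 1, nat_lit 0, nat_lit 3, nat_lit 1, nat_lit 0], [[nat_lit 99, nat_lit 99, nat_lit 1, nat_lit 99, nat_lit 1], [nat_lit 1, nat_lit 99]]))) (.node (nat_lit 294) (.leaf ((nat_lit 11), [nat_lit 2, nat_lit 0, nat_lit 5, nat_lit 4, nat_lit 2, nat_lit 1, nat_lit 4, nat_lit 2, nat_lit 1, nat_lit 3, nat_lit 2, nat_lit 1], [[nat_lit 0, nat_lit 99, nat_lit 0, nat_lit 0, nat_lit 0], [nat_lit 99, nat_lit 99, nat_lit 0, nat_lit 99]])) (.leaf ((nat_lit 9), [nat_lit 4, nat_lit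 5, nat_lit 1, nat_lit 0, nat_lit 4, nat_lit 1, nat_lit 0, nat_lit 3, nat_lit 2, nat_lit 0], [[nat_lit 1, nat_lit 99, nat_lit 1, nat_lit 1, nat_lit 1], [nat_lit 99, nat_lit 1, nat_lit 99, nat_lit 1]]))))
 (.node (nat_lit 297) (.node (nat_lit 296) (.leaf ((nat_lit 11), [nat_lit 2, nat_lit 1, nat_lit 0, nat_lit 5, nat_lit 3, nat_lit 1, nat_lit 0, nat_lit 4, nat_lit 1, nat_lit 0, nat_lit 3, nat_lit 0], [[nat_lit 1, nat_lit 99, nat_lit 0, nat_lit 99, nat_lit 0], [nat_lit 0, nat_lit 99, nat_lit 0, nat_lit 99]])) (.leaf ((nat_lit 13), [nat_lit 2, nat_lit 1, nat_lit 0, nat_lit 5, nat_lit 1, nat_lit 0, nat_lit 4, nat_lit 3, nat_lit 2, nat_lit 0, nat_lit 3], [[nat_lit 99, nat_lit 99, nat_lit 0, nat_lit 0, nat_lit 0], [nat_lit 99, nat_lit 1, nat_lit 1, nat_lit 99, nat_lit 0]]))) (.node (nat_lit 298) (.leaf ((nat_lit 13), [nat_lit 0, nat_lit 5, nat_lit 2, nat_lit 1, nat_lit 4, nat_lit 2, nat_lit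 0, nat_lit 3, nat_lit 2], [[nat_lit 99, nat_lit 99, nat_lit 0, nat_lit 99], [nat_lit 1, nat_lit 99, nat_lit 99, nat_lit 1, nat_lit 1]])) (.node (nat_lit 299) (.leaf ((nat_lit 9), [nat_lit 5, nat_lit 4, nat_lit 5, nat_lit 1, nat_lit 4, nat_lit 2, nat_lit 1, nat_lit 3, nat_lit 2], [[nat_lit 1, nat_lit 1], [nat_lit 99, nat_lit 1, nat_lit 99, nat_lit 0, nat_lit 0]])) (.leaf ((nat_lit 12), [nat_lit 5, nat_lit 3, nat_lit 1, nat_lit 4, nat_lit 0, nat_lit 3, nat_lit 2, nat_lit 1], [[nat_lit 0, nat_lit 0, nat_lit 99, nat_lit 99, nat_lit 0, nat_lit 0], [nat_lit 99, nat_lit 99, nat_lit 0, nat_lit 99, nat_lit 99]])))))))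
 (.node (nat_lit 309) (.node (nat_lit 304) (.node (nat_lit 302) (.node (nat_lit 301) (.leaf ((nat_lit 10), [nat_lit 2, nat_lit 5, nat_lit 2, nat_lit 0, nat_lit 4, nat_lit 3, nat_lit 2, nat_lit 3, nat_lit 1, nat_lit 0], [[nat_lit 1, nat_lit 1, nat_lit 1, nat_lit 99, nat_lit 0, nat_lit 0], [nat_lit 0, nat_lit 99, nat_lit 0, nat_lit 99, nat_lit 99]])) (.leaf ((nat_lit 11), [nat_lit 5, nat_lit 2, nat_lit 0, nat_lit 3, nat_lit 0], [[nat_lit 99, nat_lit 99, nat_lit 99, nat_lit 0, nat_lit 0], [nat_lit 99, nat_lit 1]]))) (.node (nat_lit 303) (.leaf ((nat_lit 13), [nat_lit 1, nat_lit 0, nat_lit 5, nat_lit 2, nat_lit 0, nat_lit 4, nat_lit 2, nat_lit 3, nat_lit 2], [[nat_lit 99, nat_lit 99, nat_lit 1, nat_lit 99], [nat_lit 1, nat_lit 99, nat_lit 0]])) (.leaf ((nat_lit 12), [nat_lit 2, nat_lit 0, nat_lit 5, nat_lit 4, nat_lit 2, nat_lit 0], [[nat_lit 99, nat_lit 0, nat_lit 0, nat_lit 99], [nat_lit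 99, nat_lit 1, nat_lit 1, nat_lit 99, nat_lit 0]]))))
 (.node (nat_lit 306) (.node (nat_lit 305) (.leaf ((nat_lit 11), [nat_lit 2, nat_lit 1, nat_lit 0, nat_lit 5, nat_lit 3, nat_lit 1, nat_lit 0, nat_lit 4, nat_lit 1, nat_lit 0, nat_lit 3, nat_lit 0], [[nat_lit 1, nat_lit 99, nat_lit 99], [nat_lit 0, nat_lit 99, nat_lit 99, nat_lit 1]])) (.leaf ((nat_lit 13), [nat_lit 1, nat_lit 0, nat_lit 5, nat_lit 2, nat_lit 0, nat_lit 4, nat_lit 2, nat_lit 3, nat_lit 2], [[nat_lit 99, nat_lit 0, nat_lit 99, nat_lit 99, nat_lit 0], [nat_lit 1, nat_lit 99, nat_lit 0, nat_lit 0]]))) (.node (nat_lit 307) (.leaf ((nat_lit 9), [nat_lit 4, nat_lit 5, nat_lit 1, nat_lit 0, nat_lit 4, nat_lit 1, nat_lit 0, nat_lit 3, nat_lit 2, nat_lit 0], [[nat_lit 1, nat_lit 99, nat_lit 1, nat_lit 1], [nat_lit 99, nat_lit 99]])) (.node (nat_lit 308) (.leaf ((nat_lit 13), [nat_lit 2, nat_lit 0, nat_lit 5, nat_lit 2,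 nat_lit 1, nat_lit 4, nat_lit 2, nat_lit 1, nat_lit 0, nat_lit 3, nat_lit 1, nat_lit 0], [[nat_lit 99, nat_lit 99, nat_lit 1, nat_lit 99, nat_lit 0], [nat_lit 1, nat_lit 1, nat_lit 99]])) (.leaf ((nat_lit 9), [nat_lit 4, nat_lit 2, nat_lit 1, nat_lit 4, nat_lit 0, nat_lit 3, nat_lit 1], [[nat_lit 99, nat_lit 0, nat_lit 99, nat_lit 99, nat_lit 0], [nat_lit 1, nat_lit 99, nat_lit 1, nat_lit 99]]))))))
 (.node (nat_lit 313) (.node (nat_lit 311) (.node (nat_lit 310) (.leaf ((nat_lit 10), [nat_lit 2, nat_lit 0, nat_lit 5, nat_lit 2, nat_lit 1, nat_lit 0, nat_lit 4, nat_lit 2, nat_lit 1, nat_lit 3, nat_lit 1], [[nat_lit 1, nat_lit 99, nat_lit 0, nat_lit 99, nat_lit 0], [nat_lit 0, nat_lit 99, nat_lit 99, nat_lit 99, nat_lit 0]])) (.leaf ((nat_lit 11), [nat_lit 2, nat_lit 1, nat_lit 0, nat_lit 4, nat_lit 3, nat_lit 2, nat_lit 0, nat_lit 3, nat_lit 1, nat_lit 0], [[nat_lit 99, nat_lit 99,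 nat_lit 0, nat_lit 99, nat_lit 1], [nat_lit 99, nat_lit 99, nat_lit 1, nat_lit 1, nat_lit 99]]))) (.node (nat_lit 312) (.leaf ((nat_lit 9), [nat_lit 5, nat_lit 4, nat_lit 5, nat_lit 1, nat_lit 4, nat_lit 2, nat_lit 1, nat_lit 3, nat_lit 2], [[nat_lit 1, nat_lit 1], [nat_lit 99, nat_lit 99, nat_lit 0, nat_lit 0, nat_lit 0]])) (.leaf ((nat_lit 9), [nat_lit 4, nat_lit 5, nat_lit 1, nat_lit 0, nat_lit 4, nat_lit 1, nat_lit 0, nat_lit 3, nat_lit 2, nat_lit 0], [[nat_lit 1, nat_lit 99, nat_lit 1], [nat_lit 99, nat_lit 0, nat_lit 99, nat_lit 0]]))))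
 (.node (nat_lit 315) (.node (nat_lit 314) (.leaf ((nat_lit 9), [nat_lit 5, nat_lit 4, nat_lit 5, nat_lit 1, nat_lit 4, nat_lit 2, nat_lit 1, nat_lit 3, nat_lit 2], [[nat_lit 1, nat_lit 1], [nat_lit 99, nat_lit 1, nat_lit 1, nat_lit 99, nat_lit 0]])) (.leaf ((nat_lit 13), [nat_lit 1, nat_lit 0, nat_lit 5, nat_lit 4, nat_lit 2, nat_lit 1, nat_lit 3, nat_lit 0], [[nat_lit 99, nat_lit 99, nat_lit 99, nat_lit 1, nat_lit 1], [nat_lit 99, nat_lit 99, nat_lit 0, nat_lit 0, nat_lit 99]]))) (.node (nat_lit 316) (.leaf ((nat_lit 9), [nat_lit 5, nat_lit 3, nat_lit 1, nat_lit 4, nat_lit 0, nat_lit 3, nat_lit 2], [[nat_lit 0, nat_lit 0, nat_lit 99, nat_lit 1], [nat_lit 99, nat_lit 0, nat_lit 99, nat_lit 1, nat_lit 1]])) (.node (nat_lit 317) (.leaf ((nat_lit 9), [nat_lit 2, nat_lit 1, nat_lit 5, nat_lit 1, nat_lit 0, nat_lit 4, nat_lit 3, nat_lit 2, nat_lit 0, nat_lit 3], [[nat_lit 1, nat_lit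 1, nat_lit 99, nat_lit 0, nat_lit 0], [nat_lit 0, nat_lit 99, nat_lit 99]])) (.leaf ((nat_lit 9), [nat_lit 5, nat_lit 4, nat_lit 5, nat_lit 4, nat_lit 2, nat_lit 1, nat_lit 4, nat_lit 1, nat_lit 3], [[nat_lit 0, nat_lit 99, nat_lit 1, nat_lit 1, nat_lit 1], [nat_lit 99, nat_lit 1, nat_lit 1, nat_lit 99]]))))))))
 (.node (nat_lit 336) (.node (nat_lit 327) (.node (nat_lit 322) (.node (nat_lit 320) (.node (nat_lit 319) (.leaf ((nat_lit 11), [nat_lit 0, nat_lit 5, nat_lit 4, nat_lit 2, nat_lit 1, nat_lit 4, nat_lit 2, nat_lit 3], [[nat_lit 99, nat_lit 99, nat_lit 1, nat_lit 99, nat_lit 0], [nat_lit 99, nat_lit 99, nat_lit 1, nat_lit 99, nat_lit 99, nat_lit 0]])) (.leaf ((nat_lit 11), [nat_lit 5, nat_lit 2, nat_lit 1, nat_lit 0, nat_lit 4, nat_lit 1, nat_lit 0, nat_lit 3, nat_lit 2, nat_lit 0], [[nat_lit 99, nat_lit 1, nat_lit 99], [nat_lit 1, nat_lit 99, nat_lit 99, nat_lit 0]]))) (.node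 (nat_lit 321) (.leaf ((nat_lit 9), [nat_lit 5, nat_lit 3, nat_lit 1, nat_lit 4, nat_lit 0, nat_lit 3, nat_lit 2], [[nat_lit 0, nat_lit 0, nat_lit 99, nat_lit 1, nat_lit 1], [nat_lit 99, nat_lit 99, nat_lit 1, nat_lit 1, nat_lit 1]])) (.leaf ((nat_lit 9), [nat_lit 5, nat_lit 4, nat_lit 5, nat_lit 4, nat_lit 2, nat_lit 1, nat_lit 4, nat_lit 1, nat_lit 3], [[nat_lit 0, nat_lit 99, nat_lit 1, nat_lit 1], [nat_lit 99, nat_lit 1, nat_lit 99, nat_lit 0]]))))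
 (.node (nat_lit 324) (.node (nat_lit 323) (.leaf ((nat_lit 9), [nat_lit 0, nat_lit 5, nat_lit 3, nat_lit 2, nat_lit 1, nat_lit 4, nat_lit 2, nat_lit 1, nat_lit 0, nat_lit 3], [[nat_lit 0, nat_lit 99, nat_lit 0, nat_lit 99, nat_lit 99], [nat_lit 1, nat_lit 99, nat_lit 99, nat_lit 0]])) (.leaf ((nat_lit 11), [nat_lit 5, nat_lit 2, nat_lit 1, nat_lit 0, nat_lit 4, nat_lit 1, nat_lit 0, nat_lit 3, nat_lit 2, nat_lit 0], [[nat_lit 99, nat_lit 0, nat_lit 0, nat_lit 99, nat_lit 1], [nat_lit 1, nat_lit 99, nat_lit 1, nat_lit 99]]))) (.node (nat_lit 325) (.leaf ((nat_lit 9), [nat_lit 5, nat_lit 4, nat_lit 5, nat_lit 4, nat_lit 2, nat_lit 1, nat_lit 4, nat_lit 1, nat_lit 3], [[nat_lit 0, nat_lit 99], [nat_lit 99, nat_lit 0, nat_lit 99, nat_lit 0, nat_lit 0, nat_lit 0]])) (.node (nat_lit 326) (.leaf ((nat_lit 11), [nat_lit 3, nat_lit 2, nat_lit 1, nat_lit 5, nat_lit 2, nat_lit 1, nat_lit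 4, nat_lit 3, nat_lit 1, nat_lit 0], [[nat_lit 99, nat_lit 1, nat_lit 99, nat_lit 0], [nat_lit 0, nat_lit 99, nat_lit 0, nat_lit 99]])) (.leaf ((nat_lit 11), [nat_lit 0, nat_lit 5, nat_lit 2, nat_lit 1, nat_lit 4, nat_lit 3, nat_lit 2, nat_lit 1, nat_lit 0], [[nat_lit 1, nat_lit 1, nat_lit 1], [nat_lit 99, nat_lit 99, nat_lit 99, nat_lit 0]]))))))
 (.node (nat_lit 331) (.node (nat_lit 329) (.node (nat_lit 328) (.leaf ((nat_lit 9), [nat_lit 5, nat_lit 3, nat_lit 1, nat_lit 4, nat_lit 0, nat_lit 3, nat_lit 2], [[nat_lit 0, nat_lit 0, nat_lit 99], [nat_lit 99, nat_lit 0, nat_lit 0, nat_lit 99, nat_lit 1]])) (.leaf ((nat_lit 9), [nat_lit 5, nat_lit 4, nat_lit 5, nat_lit 4, nat_lit 2, nat_lit 1, nat_lit 4, nat_lit 1, nat_lit 3], [[nat_lit 0, nat_lit 99, nat_lit 1], [nat_lit 99, nat_lit 99, nat_lit 0, nat_lit 0]]))) (.node (nat_lit 330) (.leaf ((nat_lit 11), [nat_lit 0, nat_lit 5, nat_lit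 3, nat_lit 1, nat_lit 0, nat_lit 4, nat_lit 0, nat_lit 3, nat_lit 1, nat_lit 0], [[nat_lit 99, nat_lit 1, nat_lit 1, nat_lit 99, nat_lit 1], [nat_lit 1, nat_lit 1, nat_lit 99, nat_lit 1, nat_lit 99, nat_lit 0]])) (.leaf ((nat_lit 9), [nat_lit 1, nat_lit 5, nat_lit 2, nat_lit 1, nat_lit 4, nat_lit 1, nat_lit 3, nat_lit 0], [[nat_lit 1, nat_lit 99, nat_lit 1, nat_lit 1], [nat_lit 99, nat_lit 99, nat_lit 99, nat_lit 0]]))))
 (.node (nat_lit 333) (.node (nat_lit 332) (.leaf ((nat_lit 11), [nat_lit 3, nat_lit 2, nat_lit 1, nat_lit 5, nat_lit 2, nat_lit 1, nat_lit 4, nat_lit 3, nat_lit 1, nat_lit 0], [[nat_lit 99, nat_lit 1, nat_lit 1, nat_lit 99], [nat_lit 0, nat_lit 99, nat_lit 99, nat_lit 1]])) (.leaf ((nat_lit 11), [nat_lit 5, nat_lit 4, nat_lit 5, nat_lit 4, nat_lit 0, nat_lit 4, nat_lit 3, nat_lit 0, nat_lit 3, nat_lit 2], [[nat_lit 0, nat_lit 99, nat_lit 99], [nat_lit 99, nat_lit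 0, nat_lit 99, nat_lit 0]]))) (.node (nat_lit 334) (.leaf ((nat_lit 9), [nat_lit 5, nat_lit 3, nat_lit 1, nat_lit 4, nat_lit 0, nat_lit 3, nat_lit 2], [[nat_lit 0, nat_lit 0, nat_lit 99, nat_lit 0], [nat_lit 99, nat_lit 0, nat_lit 0, nat_lit 0, nat_lit 99]])) (.node (nat_lit 335) (.leaf ((nat_lit 11), [nat_lit 5, nat_lit 2, nat_lit 1, nat_lit 0, nat_lit 4, nat_lit 1, nat_lit 0, nat_lit 3, nat_lit 2, nat_lit 0], [[nat_lit 99, nat_lit 1, nat_lit 1, nat_lit 99, nat_lit 1], [nat_lit 1, nat_lit 99, nat_lit 1, nat_lit 99]])) (.leaf ((nat_lit 9), [nat_lit 1, nat_lit 5, nat_lit 4, nat_lit 1, nat_lit 3, nat_lit 1], [[nat_lit 1, nat_lit 99, nat_lit 0, nat_lit 0], [nat_lit 0, nat_lit 99, nat_lit 99, nat_lit 99, nat_lit 0]])))))))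
 (.node (nat_lit 345) (.node (nat_lit 340) (.node (nat_lit 338) (.node (nat_lit 337) (.leaf ((nat_lit 9), [nat_lit 2, nat_lit 0, nat_lit 5, nat_lit 2, nat_lit 4, nat_lit 2, nat_lit 1, nat_lit 3, nat_lit 1], [[nat_lit 99, nat_lit 99, nat_lit 99], [nat_lit 0, nat_lit 99, nat_lit 1, nat_lit 1]])) (.leaf ((nat_lit 9), [nat_lit 3, nat_lit 1, nat_lit 5, nat_lit 2, nat_lit 1, nat_lit 0, nat_lit 4, nat_lit 3, nat_lit 0, nat_lit 3, nat_lit 2], [[nat_lit 99, nat_lit 0, nat_lit 99, nat_lit 0], [nat_lit 0, nat_lit 99, nat_lit 0, nat_lit 0, nat_lit 0]]))) (.node (nat_lit 339) (.leaf ((nat_lit 9), [nat_lit 3, nat_lit 2, nat_lit 1, nat_lit 5, nat_lit 2, nat_lit 1, nat_lit 0, nat_lit 4, nat_lit 3, nat_lit 0, nat_lit 3, nat_lit 1], [[nat_lit 99, nat_lit 99, nat_lit 0, nat_lit 99], [nat_lit 0, nat_lit 99, nat_lit 0, nat_lit 0]])) (.leaf ((nat_lit 9), [nat_lit 1, nat_lit 5, nat_lit 4, nat_lit 3, nat_lit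 0, nat_lit 3, nat_lit 1], [[nat_lit 1, nat_lit 99, nat_lit 1, nat_lit 99, nat_lit 0], [nat_lit 0, nat_lit 99, nat_lit 1]]))))
 (.node (nat_lit 342) (.node (nat_lit 341) (.leaf ((nat_lit 9), [nat_lit 1, nat_lit 5, nat_lit 2, nat_lit 0, nat_lit 4, nat_lit 2, nat_lit 0, nat_lit 3, nat_lit 0], [[nat_lit 0, nat_lit 99, nat_lit 1, nat_lit 99], [nat_lit 1, nat_lit 1, nat_lit 99, nat_lit 0, nat_lit 0, nat_lit 0]])) (.leaf ((nat_lit 9), [nat_lit 2, nat_lit 1, nat_lit 0, nat_lit 5, nat_lit 1, nat_lit 4, nat_lit 2, nat_lit 0, nat_lit 3, nat_lit 2], [[nat_lit 0, nat_lit 99, nat_lit 99, nat_lit 1], [nat_lit 1, nat_lit 1, nat_lit 99]]))) (.node (nat_lit 343) (.leaf ((nat_lit 9), [nat_lit 5, nat_lit 2, nat_lit 0, nat_lit 4, nat_lit 3, nat_lit 2, nat_lit 0], [[nat_lit 99, nat_lit 99], [nat_lit 1, nat_lit 99, nat_lit 1, nat_lit 1]])) (.node (nat_lit 344) (.leaf ((nat_lit 9), [nat_lit 1, nat_lit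 5, nat_lit 4, nat_lit 3, nat_lit 0, nat_lit 3, nat_lit 1], [[nat_lit 99, nat_lit 99, nat_lit 99, nat_lit 0], [nat_lit 0, nat_lit 99, nat_lit 1, nat_lit 1]])) (.leaf ((nat_lit 9), [nat_lit 2, nat_lit 5, nat_lit 0], [[nat_lit 99, nat_lit 0, nat_lit 99, nat_lit 1], [nat_lit 99, nat_lit 99, nat_lit 0, nat_lit 99, nat_lit 0]]))))))
 (.node (nat_lit 349) (.node (nat_lit 347) (.node (nat_lit 346) (.leaf ((nat_lit 9), [nat_lit 5, nat_lit 4, nat_lit 5, nat_lit 1, nat_lit 4, nat_lit 1, nat_lit 3, nat_lit 0], [[nat_lit 1, nat_lit 99, nat_lit 99, nat_lit 0], [nat_lit 0, nat_lit 99, nat_lit 1, nat_lit 1]])) (.leaf ((nat_lit 9), [nat_lit 3, nat_lit 1, nat_lit 5, nat_lit 2, nat_lit 1, nat_lit 0, nat_lit 4, nat_lit 3, nat_lit 0, nat_lit 3, nat_lit 2], [[nat_lit 99, nat_lit 99], [nat_lit 0, nat_lit 99, nat_lit 0, nat_lit 0]]))) (.node (nat_lit 348) (.leaf ((nat_lit 9), [nat_lit 3, nat_lit 1, nat_lit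 5, nat_lit 2, nat_lit 0, nat_lit 3, nat_lit 2, nat_lit 1], [[nat_lit 99, nat_lit 1, nat_lit 99, nat_lit 1], [nat_lit 1, nat_lit 1, nat_lit 1, nat_lit 99]])) (.leaf ((nat_lit 9), [nat_lit 0, nat_lit 5, nat_lit 2, nat_lit 0, nat_lit 4, nat_lit 3, nat_lit 0, nat_lit 3], [[nat_lit 99, nat_lit 1, nat_lit 99, nat_lit 1], [nat_lit 1, nat_lit 1, nat_lit 99, nat_lit 0, nat_lit 0]]))))
 (.node (nat_lit 351) (.node (nat_lit 350) (.leaf ((nat_lit 9), [nat_lit 5, nat_lit 2, nat_lit 0, nat_lit 4, nat_lit 3, nat_lit 2, nat_lit 0], [[nat_lit 99, nat_lit 0, nat_lit 99, nat_lit 0], [nat_lit 1, nat_lit 99, nat_lit 1]])) (.leaf ((nat_lit 9), [nat_lit 1, nat_lit 5, nat_lit 1, nat_lit 0, nat_lit 4, nat_lit 3, nat_lit 2], [[nat_lit 99, nat_lit 99, nat_lit 0], [nat_lit 0, nat_lit 0, nat_lit 99, nat_lit 1]]))) (.node (nat_lit 352) (.leaf ((nat_lit 9), [nat_lit 2, nat_lit 5, nat_lit 0], [[nat_lit 99, nat_lit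 99, nat_lit 1, nat_lit 1], [nat_lit 99, nat_lit 1, nat_lit 99, nat_lit 99]])) (.node (nat_lit 353) (.leaf ((nat_lit 9), [nat_lit 5, nat_lit 3, nat_lit 0, nat_lit 3, nat_lit 2], [[nat_lit 1, nat_lit 99, nat_lit 99, nat_lit 0], [nat_lit 0, nat_lit 0, nat_lit 99]])) (.leaf ((nat_lit 9), [nat_lit 1, nat_lit 5, nat_lit 3, nat_lit 1, nat_lit 4, nat_lit 1, nat_lit 0, nat_lit 3, nat_lit 1], [[nat_lit 0, nat_lit 0, nat_lit 99, nat_lit 99], [nat_lit 1, nat_lit 99, nat_lit 0, nat_lit 0, nat_lit 0]])))))))))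
 (.node (nat_lit 389) (.node (nat_lit 371) (.node (nat_lit 362) (.node (nat_lit 358) (.node (nat_lit 356) (.node (nat_lit 355) (.leaf ((nat_lit 9), [nat_lit 2, nat_lit 1, nat_lit 5, nat_lit 0, nat_lit 4, nat_lit 2, nat_lit 0], [[nat_lit 0, nat_lit 99, nat_lit 99, nat_lit 1], [nat_lit 1, nat_lit 99, nat_lit 0, nat_lit 0]])) (.leaf ((nat_lit 9), [nat_lit 3, nat_lit 1, nat_lit 5, nat_lit 3, nat_lit 1, nat_lit 0, nat_lit 4, nat_lit 1, nat_lit 3, nat_lit 0], [[nat_lit 99, nat_lit 0, nat_lit 99, nat_lit 0], [nat_lit 0, nat_lit 0, nat_lit 99, nat_lit 1, nat_lit 1]]))) (.node (nat_lit 357) (.leaf ((nat_lit 9), [nat_lit 4, nat_lit 0, nat_lit 5, nat_lit 4, nat_lit 0, nat_lit 4, nat_lit 2, nat_lit 0, nat_lit 3, nat_lit 2, nat_lit 0], [[nat_lit 1, nat_lit 99, nat_lit 99, nat_lit 99, nat_lit 0], [nat_lit 0, nat_lit 99, nat_lit 1, nat_lit 1, nat_lit 1]])) (.leaf ((nat_lit 11), [nat_lit 5, nat_lit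 1, nat_lit 5, nat_lit 2, nat_lit 1, nat_lit 3, nat_lit 0], [[nat_lit 1, nat_lit 99, nat_lit 0, nat_lit 99], [nat_lit 0, nat_lit 99, nat_lit 99, nat_lit 1]]))))
 (.node (nat_lit 360) (.node (nat_lit 359) (.leaf ((nat_lit 11), [nat_lit 5, nat_lit 1, nat_lit 5, nat_lit 1, nat_lit 4, nat_lit 3, nat_lit 2, nat_lit 1, nat_lit 0], [[nat_lit 99, nat_lit 0, nat_lit 0, nat_lit 0, nat_lit 99], [nat_lit 99, nat_lit 1, nat_lit 99, nat_lit 99, nat_lit 1]])) (.leaf ((nat_lit 10), [nat_lit 5, nat_lit 3, nat_lit 2, nat_lit 1, nat_lit 4, nat_lit 3, nat_lit 2, nat_lit 0, nat_lit 3, nat_lit 2], [[nat_lit 99, nat_lit 1, nat_lit 1, nat_lit 1], [nat_lit 99, nat_lit 99]]))) (.node (nat_lit 361) (.leaf ((nat_lit 12), [nat_lit 1, nat_lit 0, nat_lit 5, nat_lit 1, nat_lit 0, nat_lit 4, nat_lit 1, nat_lit 3, nat_lit 0], [[nat_lit 99, nat_lit 1], [nat_lit 99, nat_lit 99, nat_lit 0, nat_lit 0]])) (.leaf ((nat_lit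 11), [nat_lit 0, nat_lit 4, nat_lit 3, nat_lit 2, nat_lit 0, nat_lit 3, nat_lit 1], [[nat_lit 1, nat_lit 1, nat_lit 99, nat_lit 99, nat_lit 0], [nat_lit 99, nat_lit 99, nat_lit 99, nat_lit 99]])))))
 (.node (nat_lit 366) (.node (nat_lit 364) (.node (nat_lit 363) (.leaf ((nat_lit 11), [nat_lit 1, nat_lit 0, nat_lit 5, nat_lit 4, nat_lit 0, nat_lit 4, nat_lit 3, nat_lit 2, nat_lit 3], [[nat_lit 1, nat_lit 1, nat_lit 99, nat_lit 99], [nat_lit 99, nat_lit 1, nat_lit 99, nat_lit 1]])) (.leaf ((nat_lit 10), [nat_lit 5, nat_lit 3, nat_lit 2, nat_lit 1, nat_lit 4, nat_lit 3, nat_lit 2, nat_lit 0, nat_lit 3, nat_lit 2], [[nat_lit 99, nat_lit 1, nat_lit 1], [nat_lit 99, nat_lit 0, nat_lit 99, nat_lit 0]]))) (.node (nat_lit 365) (.leaf ((nat_lit 12), [nat_lit 1, nat_lit 0, nat_lit 5, nat_lit 1, nat_lit 0, nat_lit 4, nat_lit 1, nat_lit 3, nat_lit 0], [[nat_lit 99, nat_lit 1, nat_lit 1], [nat_lit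 99, nat_lit 1, nat_lit 99, nat_lit 0]])) (.leaf ((nat_lit 9), [nat_lit 0, nat_lit 5, nat_lit 1, nat_lit 4, nat_lit 2, nat_lit 3], [[nat_lit 1, nat_lit 1, nat_lit 1, nat_lit 99, nat_lit 0], [nat_lit 99, nat_lit 99, nat_lit 99]]))))
 (.node (nat_lit 368) (.node (nat_lit 367) (.leaf ((nat_lit 9), [nat_lit 5, nat_lit 3, nat_lit 1, nat_lit 0, nat_lit 4, nat_lit 0], [[nat_lit 99, nat_lit 0], [nat_lit 99, nat_lit 99]])) (.leaf ((nat_lit 12), [nat_lit 2, nat_lit 1, nat_lit 0, nat_lit 5, nat_lit 1, nat_lit 0, nat_lit 3, nat_lit 0], [[nat_lit 99, nat_lit 99, nat_lit 0, nat_lit 0], [nat_lit 0, nat_lit 0, nat_lit 99, nat_lit 1]]))) (.node (nat_lit 369) (.leaf ((nat_lit 9), [nat_lit 0, nat_lit 5, nat_lit 1, nat_lit 4, nat_lit 2, nat_lit 3], [[nat_lit 1, nat_lit 1, nat_lit 1, nat_lit 99, nat_lit 0, nat_lit 0], [nat_lit 99, nat_lit 0, nat_lit 99, nat_lit 0, nat_lit 99, nat_lit 0]])) (.node (nat_lit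 370) (.leaf ((nat_lit 9), [nat_lit 5, nat_lit 4, nat_lit 5, nat_lit 2, nat_lit 1, nat_lit 4, nat_lit 3, nat_lit 2, nat_lit 0, nat_lit 3], [[nat_lit 0, nat_lit 0, nat_lit 99], [nat_lit 99, nat_lit 1, nat_lit 99, nat_lit 1]])) (.leaf ((nat_lit 9), [nat_lit 5, nat_lit 3, nat_lit 1, nat_lit 0, nat_lit 4, nat_lit 0], [[nat_lit 99], [nat_lit 99, nat_lit 1, nat_lit 99, nat_lit 1]])))))))
 (.node (nat_lit 380) (.node (nat_lit 375) (.node (nat_lit 373) (.node (nat_lit 372) (.leaf ((nat_lit 13), [nat_lit 5, nat_lit 4, nat_lit 5, nat_lit 3, nat_lit 1, nat_lit 4, nat_lit 3, nat_lit 2, nat_lit 0, nat_lit 3, nat_lit 2, nat_lit 1], [[nat_lit 1, nat_lit 1, nat_lit 99, nat_lit 0], [nat_lit 0, nat_lit 0, nat_lit 99, nat_lit 99]])) (.leaf ((nat_lit 9), [nat_lit 5, nat_lit 4, nat_lit 5, nat_lit 2, nat_lit 1, nat_lit 4, nat_lit 3, nat_lit 2, nat_lit 0, nat_lit 3], [[nat_lit 0, nat_lit 0, nat_lit 99,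 nat_lit 0, nat_lit 0], [nat_lit 99, nat_lit 0, nat_lit 99, nat_lit 0]]))) (.node (nat_lit 374) (.leaf ((nat_lit 12), [nat_lit 2, nat_lit 1, nat_lit 0, nat_lit 5, nat_lit 1, nat_lit 0, nat_lit 3, nat_lit 0], [[nat_lit 99, nat_lit 1, nat_lit 99, nat_lit 0], [nat_lit 0, nat_lit 0, nat_lit 99, nat_lit 1, nat_lit 1]])) (.leaf ((nat_lit 10), [nat_lit 5, nat_lit 3, nat_lit 2, nat_lit 1, nat_lit 4, nat_lit 3, nat_lit 2, nat_lit 0, nat_lit 3, nat_lit 2], [[nat_lit 99, nat_lit 0, nat_lit 0, nat_lit 0], [nat_lit 99, nat_lit 1, nat_lit 99, nat_lit 1]]))))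
 (.node (nat_lit 377) (.node (nat_lit 376) (.leaf ((nat_lit 9), [nat_lit 5, nat_lit 4, nat_lit 5, nat_lit 2, nat_lit 1, nat_lit 4, nat_lit 3, nat_lit 2, nat_lit 0, nat_lit 3], [[nat_lit 0, nat_lit 0, nat_lit 99, nat_lit 0], [nat_lit 99, nat_lit 99]])) (.leaf ((nat_lit 9), [nat_lit 5, nat_lit 3, nat_lit 1, nat_lit 0, nat_lit 4, nat_lit 0], [[nat_lit 99, nat_lit 0, nat_lit 0], [nat_lit 99, nat_lit 0, nat_lit 99, nat_lit 0]]))) (.node (nat_lit 378) (.leaf ((nat_lit 9), [nat_lit 3, nat_lit 2, nat_lit 1, nat_lit 5, nat_lit 2, nat_lit 1, nat_lit 4, nat_lit 2, nat_lit 1, nat_lit 0, nat_lit 3, nat_lit 2, nat_lit 0], [[nat_lit 1, nat_lit 99, nat_lit 1, nat_lit 1], [nat_lit 99, nat_lit 99, nat_lit 99]])) (.node (nat_lit 379) (.leaf ((nat_lit 11), [nat_lit 1, nat_lit 5, nat_lit 0, nat_lit 4, nat_lit 1, nat_lit 3, nat_lit 2, nat_lit 0], [[nat_lit 0, nat_lit 0, nat_lit 99, nat_lit 99, nat_lit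 0], [nat_lit 99, nat_lit 1, nat_lit 1, nat_lit 1, nat_lit 99]])) (.leaf ((nat_lit 10), [nat_lit 5, nat_lit 1, nat_lit 4, nat_lit 3, nat_lit 2, nat_lit 3, nat_lit 0], [[nat_lit 99, nat_lit 99, nat_lit 99, nat_lit 99, nat_lit 1], [nat_lit 0, nat_lit 99, nat_lit 0, nat_lit 0, nat_lit 0]]))))))
 (.node (nat_lit 384) (.node (nat_lit 382) (.node (nat_lit 381) (.leaf ((nat_lit 13), [nat_lit 4, nat_lit 5, nat_lit 3, nat_lit 1, nat_lit 0, nat_lit 4, nat_lit 3, nat_lit 2, nat_lit 3, nat_lit 2], [[nat_lit 0, nat_lit 99, nat_lit 99, nat_lit 99, nat_lit 0, nat_lit 0], [nat_lit 99, nat_lit 0, nat_lit 99, nat_lit 0, nat_lit 0]])) (.leaf ((nat_lit 11), [nat_lit 2, nat_lit 1, nat_lit 5, nat_lit 2, nat_lit 1, nat_lit 4, nat_lit 3, nat_lit 2, nat_lit 3, nat_lit 0], [[nat_lit 1, nat_lit 99, nat_lit 0, nat_lit 99, nat_lit 0], [nat_lit 0, nat_lit 99, nat_lit 1]]))) (.node (nat_lit 383) (.leaf ((nat_lit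 11), [nat_lit 2, nat_lit 1, nat_lit 0, nat_lit 5, nat_lit 2, nat_lit 1, nat_lit 0, nat_lit 4, nat_lit 1, nat_lit 3], [[nat_lit 1, nat_lit 1, nat_lit 1], [nat_lit 99, nat_lit 99, nat_lit 99, nat_lit 0]])) (.leaf ((nat_lit 13), [nat_lit 1, nat_lit 0, nat_lit 5, nat_lit 4, nat_lit 2, nat_lit 0, nat_lit 3, nat_lit 2, nat_lit 0], [[nat_lit 0, nat_lit 99, nat_lit 1, nat_lit 1, nat_lit 1], [nat_lit 1, nat_lit 99, nat_lit 99, nat_lit 99, nat_lit 0]]))))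
 (.node (nat_lit 386) (.node (nat_lit 385) (.leaf ((nat_lit 11), [nat_lit 4, nat_lit 5, nat_lit 2, nat_lit 1, nat_lit 0, nat_lit 4, nat_lit 2, nat_lit 0, nat_lit 3, nat_lit 0], [[nat_lit 0, nat_lit 99, nat_lit 0, nat_lit 99, nat_lit 0], [nat_lit 99, nat_lit 99, nat_lit 99, nat_lit 0, nat_lit 99]])) (.leaf ((nat_lit 11), [nat_lit 2, nat_lit 1, nat_lit 5, nat_lit 2, nat_lit 1, nat_lit 4, nat_lit 3, nat_lit 2, nat_lit 3, nat_lit 0], [[nat_lit 1, nat_lit 99, nat_lit 99], [nat_lit 0, nat_lit 99, nat_lit 1, nat_lit 1]]))) (.node (nat_lit 387) (.leaf ((nat_lit 13), [nat_lit 0, nat_lit 5, nat_lit 3, nat_lit 2, nat_lit 1, nat_lit 4, nat_lit 1, nat_lit 3, nat_lit 1, nat_lit 0], [[nat_lit 99, nat_lit 0, nat_lit 0, nat_lit 0], [nat_lit 99, nat_lit 0, nat_lit 99]])) (.node (nat_lit 388) (.leaf ((nat_lit 9), [nat_lit 0, nat_lit 5, nat_lit 3, nat_lit 2, nat_lit 1, nat_lit 4, nat_lit 1, nat_lit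 3], [[nat_lit 0, nat_lit 0, nat_lit 0], [nat_lit 99, nat_lit 99, nat_lit 99]])) (.leaf ((nat_lit 10), [nat_lit 5, nat_lit 1, nat_lit 5, nat_lit 2, nat_lit 1, nat_lit 4, nat_lit 2, nat_lit 3, nat_lit 2, nat_lit 0], [[nat_lit 99, nat_lit 99, nat_lit 99, nat_lit 0], [nat_lit 0, nat_lit 0, nat_lit 0, nat_lit 99]]))))))))
 (.node (nat_lit 407) (.node (nat_lit 398) (.node (nat_lit 393) (.node (nat_lit 391) (.node (nat_lit 390) (.leaf ((nat_lit 13), [nat_lit 4, nat_lit 5, nat_lit 4, nat_lit 0, nat_lit 4, nat_lit 2, nat_lit 0, nat_lit 3, nat_lit 2, nat_lit 1, nat_lit 0], [[nat_lit 99, nat_lit 1, nat_lit 99, nat_lit 1], [nat_lit 99, nat_lit 0, nat_lit 99, nat_lit 0, nat_lit 0]])) (.leaf ((nat_lit 13), [nat_lit 1, nat_lit 0, nat_lit 5, nat_lit 3, nat_lit 1, nat_lit 0, nat_lit 4, nat_lit 2, nat_lit 1, nat_lit 3, nat_lit 2, nat_lit 0], [[nat_lit 1, nat_lit 99, nat_lit 99, nat_lit 0, nat_lit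 0], [nat_lit 99, nat_lit 99, nat_lit 99, nat_lit 99, nat_lit 99]]))) (.node (nat_lit 392) (.leaf ((nat_lit 11), [nat_lit 5, nat_lit 4, nat_lit 5, nat_lit 3, nat_lit 2, nat_lit 0, nat_lit 3, nat_lit 2], [[nat_lit 0, nat_lit 99, nat_lit 1, nat_lit 1, nat_lit 99], [nat_lit 1, nat_lit 1, nat_lit 1, nat_lit 99, nat_lit 0]])) (.leaf ((nat_lit 11), [nat_lit 5, nat_lit 4, nat_lit 2, nat_lit 1, nat_lit 4, nat_lit 1, nat_lit 3, nat_lit 2], [[nat_lit 99, nat_lit 0, nat_lit 0, nat_lit 99, nat_lit 0], [nat_lit 0, nat_lit 0, nat_lit 99, nat_lit 1]]))))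
 (.node (nat_lit 395) (.node (nat_lit 394) (.leaf ((nat_lit 13), [nat_lit 0, nat_lit 5, nat_lit 3, nat_lit 2, nat_lit 1, nat_lit 4, nat_lit 1, nat_lit 3, nat_lit 1, nat_lit 0], [[nat_lit 99, nat_lit 0, nat_lit 0], [nat_lit 99, nat_lit 99, nat_lit 1]])) (.leaf ((nat_lit 9), [nat_lit 2, nat_lit 0, nat_lit 5, nat_lit 3, nat_lit 1, nat_lit 0, nat_lit 4, nat_lit 1, nat_lit 0, nat_lit 3, nat_lit 1], [[nat_lit 0, nat_lit 99, nat_lit 0, nat_lit 99], [nat_lit 99, nat_lit 99, nat_lit 0, nat_lit 99, nat_lit 1]]))) (.node (nat_lit 396) (.leaf ((nat_lit 12), [nat_lit 5, nat_lit 4, nat_lit 0, nat_lit 4, nat_lit 0, nat_lit 3, nat_lit 2, nat_lit 0], [[nat_lit 99, nat_lit 99, nat_lit 1, nat_lit 99, nat_lit 1], [nat_lit 99, nat_lit 99, nat_lit 99, nat_lit 0, nat_lit 0]])) (.node (nat_lit 397) (.leaf ((nat_lit 13), [nat_lit 3, nat_lit 2, nat_lit 1, nat_lit 5, nat_lit 0, nat_lit 4, nat_lit 3, nat_lit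 2, nat_lit 3, nat_lit 0], [[nat_lit 1, nat_lit 99, nat_lit 1, nat_lit 1, nat_lit 1], [nat_lit 99, nat_lit 99, nat_lit 99, nat_lit 1]])) (.leaf ((nat_lit 12), [nat_lit 0, nat_lit 5, nat_lit 3, nat_lit 2, nat_lit 1, nat_lit 4, nat_lit 2, nat_lit 1, nat_lit 3, nat_lit 2], [[nat_lit 99, nat_lit 0, nat_lit 99, nat_lit 0, nat_lit 0], [nat_lit 99, nat_lit 99, nat_lit 0, nat_lit 99]]))))))
 (.node (nat_lit 402) (.node (nat_lit 400) (.node (nat_lit 399) (.leaf ((nat_lit 11), [nat_lit 2, nat_lit 1, nat_lit 5, nat_lit 2, nat_lit 1, nat_lit 4, nat_lit 3, nat_lit 2, nat_lit 3, nat_lit 0], [[nat_lit 1, nat_lit 99, nat_lit 1, nat_lit 99, nat_lit 1], [nat_lit 0, nat_lit 99, nat_lit 1, nat_lit 1, nat_lit 1]])) (.leaf ((nat_lit 12), [nat_lit 1, nat_lit 0, nat_lit 5, nat_lit 4, nat_lit 2, nat_lit 1, nat_lit 4, nat_lit 3, nat_lit 1], [[nat_lit 99, nat_lit 99, nat_lit 1], [nat_lit 99, nat_lit 1, nat_lit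 99, nat_lit 0, nat_lit 0]]))) (.node (nat_lit 401) (.leaf ((nat_lit 13), [nat_lit 5, nat_lit 1, nat_lit 5, nat_lit 2, nat_lit 1, nat_lit 0, nat_lit 4, nat_lit 2, nat_lit 1, nat_lit 0, nat_lit 3, nat_lit 2], [[nat_lit 99, nat_lit 1, nat_lit 99], [nat_lit 99, nat_lit 99, nat_lit 0, nat_lit 0]])) (.leaf ((nat_lit 13), [nat_lit 1, nat_lit 0, nat_lit 5, nat_lit 2, nat_lit 1, nat_lit 4, nat_lit 1, nat_lit 0, nat_lit 3, nat_lit 2, nat_lit 0], [[nat_lit 99, nat_lit 99, nat_lit 0, nat_lit 99, nat_lit 99], [nat_lit 0, nat_lit 99, nat_lit 99, nat_lit 1, nat_lit 99, nat_lit 0, nat_lit 0]]))))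
 (.node (nat_lit 404) (.node (nat_lit 403) (.leaf ((nat_lit 12), [nat_lit 2, nat_lit 1, nat_lit 5, nat_lit 0, nat_lit 4, nat_lit 0, nat_lit 3, nat_lit 2, nat_lit 0], [[nat_lit 1, nat_lit 99, nat_lit 1], [nat_lit 99, nat_lit 1, nat_lit 99, nat_lit 0]])) (.leaf ((nat_lit 11), [nat_lit 1, nat_lit 5, nat_lit 2, nat_lit 4, nat_lit 1, nat_lit 3, nat_lit 2, nat_lit 1, nat_lit 0], [[nat_lit 99, nat_lit 99, nat_lit 1, nat_lit 99, nat_lit 0, nat_lit 0], [nat_lit 1, nat_lit 99, nat_lit 0, nat_lit 99, nat_lit 0, nat_lit 0]]))) (.node (nat_lit 405) (.leaf ((nat_lit 13), [nat_lit 2, nat_lit 0, nat_lit 5, nat_lit 3, nat_lit 1, nat_lit 0, nat_lit 4, nat_lit 3, nat_lit 2, nat_lit 0, nat_lit 3, nat_lit 2], [[nat_lit 0, nat_lit 99, nat_lit 0, nat_lit 99, nat_lit 0], [nat_lit 99, nat_lit 99, nat_lit 1, nat_lit 99]])) (.node (nat_lit 406) (.leaf ((nat_lit 12), [nat_lit 3, nat_lit 1, nat_lit 5, nat_lit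 1, nat_lit 4, nat_lit 3, nat_lit 2, nat_lit 0, nat_lit 3, nat_lit 2, nat_lit 1], [[nat_lit 99, nat_lit 99, nat_lit 0, nat_lit 99, nat_lit 1, nat_lit 1], [nat_lit 1, nat_lit 99, nat_lit 1, nat_lit 99, nat_lit 0]])) (.leaf ((nat_lit 12), [nat_lit 2, nat_lit 1, nat_lit 5, nat_lit 0, nat_lit 4, nat_lit 0, nat_lit 3, nat_lit 2, nat_lit 0], [[nat_lit 1, nat_lit 99, nat_lit 1, nat_lit 1], [nat_lit 99, nat_lit 1, nat_lit 1, nat_lit 99]])))))))
 (.node (nat_lit 416) (.node (nat_lit 411) (.node (nat_lit 409) (.node (nat_lit 408) (.leaf ((nat_lit 13), [nat_lit 5, nat_lit 4, nat_lit 5, nat_lit 2, nat_lit 4, nat_lit 3, nat_lit 2, nat_lit 3, nat_lit 2, nat_lit 1], [[nat_lit 99, nat_lit 0, nat_lit 99, nat_lit 0, nat_lit 0], [nat_lit 1, nat_lit 99, nat_lit 1, nat_lit 1]])) (.leaf ((nat_lit 13), [nat_lit 3, nat_lit 2, nat_lit 1, nat_lit 5, nat_lit 1, nat_lit 4, nat_lit 2, nat_lit 1, nat_lit 0, nat_lit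 3, nat_lit 2, nat_lit 0], [[nat_lit 0, nat_lit 0, nat_lit 99, nat_lit 0, nat_lit 99], [nat_lit 99, nat_lit 1, nat_lit 99, nat_lit 99, nat_lit 0, nat_lit 0, nat_lit 0]]))) (.node (nat_lit 410) (.leaf ((nat_lit 13), [nat_lit 5, nat_lit 1, nat_lit 5, nat_lit 2, nat_lit 1, nat_lit 0, nat_lit 4, nat_lit 2, nat_lit 1, nat_lit 0, nat_lit 3, nat_lit 2], [[nat_lit 99, nat_lit 1, nat_lit 1, nat_lit 99, nat_lit 1], [nat_lit 99, nat_lit 1, nat_lit 99, nat_lit 0]])) (.leaf ((nat_lit 12), [nat_lit 3, nat_lit 1, nat_lit 5, nat_lit 2, nat_lit 1, nat_lit 4, nat_lit 3, nat_lit 2, nat_lit 3, nat_lit 2], [[nat_lit 99, nat_lit 0, nat_lit 99, nat_lit 99], [nat_lit 99, nat_lit 99, nat_lit 1]]))))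
 (.node (nat_lit 413) (.node (nat_lit 412) (.leaf ((nat_lit 12), [nat_lit 1, nat_lit 0, nat_lit 5, nat_lit 4, nat_lit 2, nat_lit 1, nat_lit 4, nat_lit 3, nat_lit 1], [[nat_lit 99, nat_lit 0, nat_lit 99], [nat_lit 99, nat_lit 99, nat_lit 0, nat_lit 0, nat_lit 0]])) (.leaf ((nat_lit 9), [nat_lit 1, nat_lit 0, nat_lit 5, nat_lit 4, nat_lit 0, nat_lit 4, nat_lit 2, nat_lit 1, nat_lit 3, nat_lit 2], [[nat_lit 99, nat_lit 99, nat_lit 1, nat_lit 99, nat_lit 99], [nat_lit 99, nat_lit 99, nat_lit 99, nat_lit 0, nat_lit 0]]))) (.node (nat_lit 414) (.leaf ((nat_lit 9), [nat_lit 2, nat_lit 0, nat_lit 5, nat_lit 0, nat_lit 4, nat_lit 3, nat_lit 2, nat_lit 0, nat_lit 3, nat_lit 1, nat_lit 0], [[nat_lit 0, nat_lit 0, nat_lit 99], [nat_lit 99, nat_lit 99, nat_lit 99]])) (.node (nat_lit 415) (.leaf ((nat_lit 13), [nat_lit 3, nat_lit 1, nat_lit 5, nat_lit 2, nat_lit 0, nat_lit 4, nat_lit 1], [[nat_lit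 0, nat_lit 99, nat_lit 99], [nat_lit 99, nat_lit 0, nat_lit 0, nat_lit 0]])) (.leaf ((nat_lit 10), [nat_lit 2, nat_lit 1, nat_lit 0, nat_lit 5, nat_lit 1, nat_lit 4, nat_lit 3, nat_lit 2, nat_lit 3, nat_lit 2, nat_lit 0], [[nat_lit 99, nat_lit 99, nat_lit 0, nat_lit 0, nat_lit 0], [nat_lit 99, nat_lit 1, nat_lit 99, nat_lit 99]]))))))
 (.node (nat_lit 420) (.node (nat_lit 418) (.node (nat_lit 417) (.leaf ((nat_lit 11), [nat_lit 1, nat_lit 5, nat_lit 3, nat_lit 2, nat_lit 1, nat_lit 4, nat_lit 3, nat_lit 2, nat_lit 0, nat_lit 3, nat_lit 2], [[nat_lit 99, nat_lit 1, nat_lit 1, nat_lit 99, nat_lit 99, nat_lit 0], [nat_lit 0, nat_lit 0, nat_lit 99, nat_lit 0, nat_lit 0, nat_lit 99]])) (.leaf ((nat_lit 12), [nat_lit 1, nat_lit 0, nat_lit 5, nat_lit 3, nat_lit 2, nat_lit 1, nat_lit 4, nat_lit 2], [[nat_lit 99, nat_lit 1, nat_lit 99, nat_lit 99], [nat_lit 1, nat_lit 99, nat_lit 0, nat_lit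 0]]))) (.node (nat_lit 419) (.leaf ((nat_lit 11), [nat_lit 2, nat_lit 1, nat_lit 5, nat_lit 3, nat_lit 2, nat_lit 1, nat_lit 4, nat_lit 1, nat_lit 3, nat_lit 2, nat_lit 1, nat_lit 0], [[nat_lit 1, nat_lit 99, nat_lit 99, nat_lit 99], [nat_lit 99, nat_lit 99, nat_lit 99, nat_lit 0, nat_lit 0, nat_lit 0]])) (.leaf ((nat_lit 13), [nat_lit 3, nat_lit 1, nat_lit 5, nat_lit 2, nat_lit 4, nat_lit 1, nat_lit 0, nat_lit 3, nat_lit 1], [[nat_lit 99, nat_lit 1, nat_lit 1, nat_lit 99], [nat_lit 99, nat_lit 99, nat_lit 99, nat_lit 0, nat_lit 0]]))))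
 (.node (nat_lit 422) (.node (nat_lit 421) (.leaf ((nat_lit 10), [nat_lit 2, nat_lit 0, nat_lit 5, nat_lit 2, nat_lit 1, nat_lit 0, nat_lit 4, nat_lit 1, nat_lit 0, nat_lit 3, nat_lit 2, nat_lit 1], [[nat_lit 0, nat_lit 99, nat_lit 99, nat_lit 1, nat_lit 1], [nat_lit 99, nat_lit 99, nat_lit 0, nat_lit 99, nat_lit 0]])) (.leaf ((nat_lit 13), [nat_lit 1, nat_lit 0, nat_lit 5, nat_lit 2, nat_lit 0, nat_lit 4, nat_lit 2, nat_lit 0, nat_lit 3, nat_lit 1, nat_lit 0], [[nat_lit 0, nat_lit 0], [nat_lit 99, nat_lit 0, nat_lit 99, nat_lit 99]]))) (.node (nat_lit 423) (.leaf ((nat_lit 9), [nat_lit 3, nat_lit 1, nat_lit 0, nat_lit 4, nat_lit 1, nat_lit 0, nat_lit 3, nat_lit 1], [[nat_lit 1, nat_lit 1, nat_lit 99, nat_lit 0], [nat_lit 99, nat_lit 99]])) (.node (nat_lit 424) (.leaf ((nat_lit 13), [nat_lit 5, nat_lit 4, nat_lit 5, nat_lit 2, nat_lit 1, nat_lit 4, nat_lit 1, nat_lit 0, nat_lit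 3, nat_lit 0], [[nat_lit 0, nat_lit 99, nat_lit 0], [nat_lit 99, nat_lit 99, nat_lit 1, nat_lit 1, nat_lit 1]])) (.leaf ((nat_lit 12), [nat_lit 1, nat_lit 5, nat_lit 2, nat_lit 0, nat_lit 4, nat_lit 2, nat_lit 1, nat_lit 3, nat_lit 2, nat_lit 0], [[nat_lit 99, nat_lit 1, nat_lit 99], [nat_lit 0, nat_lit 99, nat_lit 0, nat_lit 0]]))))))))))
noncomputable def n1CE_3 : Tr (ℕ × List ℕ × List (List ℕ)) := (.node (nat_lit 496) (.node (nat_lit 460) (.node (nat_lit 442) (.node (nat_lit 433) (.node (nat_lit 429) (.node (nat_lit 427) (.node (nat_lit 426) (.leaf ((nat_lit 10), [nat_lit 0, nat_lit 5, nat_lit 2, nat_lit 4, nat_lit 3, nat_lit 2, nat_lit 0, nat_lit 3, nat_lit 2, nat_lit 1], [[nat_lit 99, nat_lit 99, nat_lit 0, nat_lit 0, nat_lit 0], [nat_lit 1, nat_lit 1, nat_lit 99, nat_lit 99]])) (.leaf ((nat_lit 9), [nat_lit 0, nat_lit 5, nat_lit 2, nat_lit 0, nat_lit 4, nat_lit 2, nat_lit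 0, nat_lit 3, nat_lit 2, nat_lit 1, nat_lit 0], [[nat_lit 1, nat_lit 99, nat_lit 0], [nat_lit 0, nat_lit 99, nat_lit 0, nat_lit 99]]))) (.node (nat_lit 428) (.leaf ((nat_lit 12), [nat_lit 2, nat_lit 1, nat_lit 5, nat_lit 2, nat_lit 1, nat_lit 0, nat_lit 4, nat_lit 2, nat_lit 3], [[nat_lit 99, nat_lit 0, nat_lit 99, nat_lit 1, nat_lit 99], [nat_lit 1, nat_lit 1, nat_lit 99, nat_lit 0, nat_lit 0, nat_lit 0]])) (.leaf ((nat_lit 11), [nat_lit 0, nat_lit 5, nat_lit 2, nat_lit 1, nat_lit 0, nat_lit 4, nat_lit 3, nat_lit 2, nat_lit 0, nat_lit 3, nat_lit 1, nat_lit 0], [[nat_lit 1, nat_lit 99, nat_lit 99, nat_lit 99], [nat_lit 99, nat_lit 99, nat_lit 99, nat_lit 0, nat_lit 0, nat_lit 0]]))))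
 (.node (nat_lit 431) (.node (nat_lit 430) (.leaf ((nat_lit 13), [nat_lit 5, nat_lit 1, nat_lit 5, nat_lit 3, nat_lit 1, nat_lit 0, nat_lit 4, nat_lit 3], [[nat_lit 1, nat_lit 1, nat_lit 1], [nat_lit 99, nat_lit 1, nat_lit 99, nat_lit 99]])) (.leaf ((nat_lit 13), [nat_lit 2, nat_lit 0, nat_lit 5, nat_lit 2, nat_lit 4, nat_lit 2, nat_lit 0, nat_lit 3, nat_lit 2, nat_lit 1], [[nat_lit 99, nat_lit 99, nat_lit 1, nat_lit 99], [nat_lit 1]]))) (.node (nat_lit 432) (.leaf ((nat_lit 11), [nat_lit 2, nat_lit 1, nat_lit 0, nat_lit 4, nat_lit 0, nat_lit 3, nat_lit 2, nat_lit 1, nat_lit 0], [[nat_lit 99, nat_lit 1, nat_lit 99, nat_lit 1], [nat_lit 99, nat_lit 0, nat_lit 99, nat_lit 0]])) (.leaf ((nat_lit 10), [nat_lit 2, nat_lit 5, nat_lit 2, nat_lit 1, nat_lit 4, nat_lit 1, nat_lit 3, nat_lit 1, nat_lit 0], [[nat_lit 99, nat_lit 1, nat_lit 1, nat_lit 99, nat_lit 99], [nat_lit 1, nat_lit 99,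 nat_lit 99, nat_lit 0, nat_lit 0, nat_lit 0]])))))
 (.node (nat_lit 437) (.node (nat_lit 435) (.node (nat_lit 434) (.leaf ((nat_lit 13), [nat_lit 0, nat_lit 5, nat_lit 3, nat_lit 1, nat_lit 0, nat_lit 4, nat_lit 0, nat_lit 3, nat_lit 2, nat_lit 1, nat_lit 0], [[nat_lit 1, nat_lit 1, nat_lit 99, nat_lit 0, nat_lit 0], [nat_lit 99, nat_lit 0, nat_lit 99, nat_lit 99]])) (.leaf ((nat_lit 13), [nat_lit 5, nat_lit 4, nat_lit 5, nat_lit 2, nat_lit 1, nat_lit 4, nat_lit 1, nat_lit 0, nat_lit 3, nat_lit 0], [[nat_lit 0, nat_lit 99, nat_lit 0, nat_lit 0], [nat_lit 99, nat_lit 0, nat_lit 99, nat_lit 1, nat_lit 1]]))) (.node (nat_lit 436) (.leaf ((nat_lit 11), [nat_lit 5, nat_lit 4, nat_lit 5, nat_lit 4, nat_lit 0, nat_lit 4, nat_lit 3, nat_lit 0, nat_lit 3, nat_lit 2, nat_lit 1], [[nat_lit 0], [nat_lit 99, nat_lit 99, nat_lit 99, nat_lit 0, nat_lit 0]])) (.leaf ((nat_lit 13), [nat_lit 5, nat_lit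 4, nat_lit 5, nat_lit 2, nat_lit 1, nat_lit 4, nat_lit 1, nat_lit 0, nat_lit 3, nat_lit 0], [[nat_lit 0, nat_lit 99, nat_lit 0, nat_lit 0, nat_lit 0], [nat_lit 99, nat_lit 0, nat_lit 0, nat_lit 99, nat_lit 1]]))))
 (.node (nat_lit 439) (.node (nat_lit 438) (.leaf ((nat_lit 9), [nat_lit 3, nat_lit 1, nat_lit 0, nat_lit 4, nat_lit 1, nat_lit 0, nat_lit 3, nat_lit 1], [[nat_lit 1, nat_lit 1, nat_lit 99], [nat_lit 99, nat_lit 1, nat_lit 99, nat_lit 1]])) (.leaf ((nat_lit 12), [nat_lit 5, nat_lit 2, nat_lit 1, nat_lit 4, nat_lit 0, nat_lit 3, nat_lit 1, nat_lit 0], [[nat_lit 99, nat_lit 0, nat_lit 99, nat_lit 1, nat_lit 1], [nat_lit 99, nat_lit 99, nat_lit 0, nat_lit 0, nat_lit 99]]))) (.node (nat_lit 440) (.leaf ((nat_lit 13), [nat_lit 4, nat_lit 5, nat_lit 2, nat_lit 0, nat_lit 4, nat_lit 2], [[nat_lit 0], [nat_lit 99, nat_lit 99, nat_lit 0, nat_lit 99]])) (.node (nat_lit 441) (.leaf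 ((nat_lit 11), [nat_lit 5, nat_lit 4, nat_lit 5, nat_lit 0, nat_lit 3, nat_lit 2, nat_lit 1], [[nat_lit 1, nat_lit 99, nat_lit 1, nat_lit 99, nat_lit 0], [nat_lit 99, nat_lit 1, nat_lit 99, nat_lit 0, nat_lit 99]])) (.leaf ((nat_lit 11), [nat_lit 2, nat_lit 1, nat_lit 0, nat_lit 5, nat_lit 2, nat_lit 1, nat_lit 0, nat_lit 4, nat_lit 1, nat_lit 3], [[nat_lit 1, nat_lit 1, nat_lit 1], [nat_lit 99, nat_lit 99, nat_lit 99, nat_lit 0]])))))))
 (.node (nat_lit 451) (.node (nat_lit 446) (.node (nat_lit 444) (.node (nat_lit 443) (.leaf ((nat_lit 13), [nat_lit 1, nat_lit 5, nat_lit 0, nat_lit 4, nat_lit 0, nat_lit 3, nat_lit 2, nat_lit 0], [[nat_lit 1, nat_lit 99, nat_lit 0, nat_lit 0, nat_lit 99], [nat_lit 0, nat_lit 99, nat_lit 99, nat_lit 99, nat_lit 0]])) (.leaf ((nat_lit 11), [nat_lit 5, nat_lit 4, nat_lit 3, nat_lit 0, nat_lit 3, nat_lit 2, nat_lit 1], [[nat_lit 99, nat_lit 1, nat_lit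 1, nat_lit 1, nat_lit 99, nat_lit 0], [nat_lit 0, nat_lit 99, nat_lit 1, nat_lit 1, nat_lit 99, nat_lit 0]]))) (.node (nat_lit 445) (.leaf ((nat_lit 12), [nat_lit 5, nat_lit 2, nat_lit 1, nat_lit 0, nat_lit 4, nat_lit 2, nat_lit 3, nat_lit 2], [[nat_lit 99, nat_lit 1, nat_lit 1, nat_lit 99, nat_lit 1], [nat_lit 99, nat_lit 0, nat_lit 99, nat_lit 99, nat_lit 0]])) (.leaf ((nat_lit 11), [nat_lit 4, nat_lit 5, nat_lit 3, nat_lit 2, nat_lit 1, nat_lit 4, nat_lit 1, nat_lit 0, nat_lit 3, nat_lit 0], [[nat_lit 99, nat_lit 1, nat_lit 99, nat_lit 0, nat_lit 0], [nat_lit 99, nat_lit 99, nat_lit 0, nat_lit 0, nat_lit 0]]))))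
 (.node (nat_lit 448) (.node (nat_lit 447) (.leaf ((nat_lit 12), [nat_lit 2, nat_lit 0, nat_lit 5, nat_lit 1, nat_lit 0, nat_lit 4, nat_lit 0, nat_lit 3, nat_lit 2, nat_lit 1, nat_lit 0], [[nat_lit 99, nat_lit 0, nat_lit 0, nat_lit 99, nat_lit 0], [nat_lit 0, nat_lit 0, nat_lit 0, nat_lit 99]])) (.leaf ((nat_lit 11), [nat_lit 5, nat_lit 4, nat_lit 3, nat_lit 0, nat_lit 3, nat_lit 2, nat_lit 1], [[nat_lit 99, nat_lit 1, nat_lit 1, nat_lit 99, nat_lit 0, nat_lit 0], [nat_lit 0, nat_lit 99, nat_lit 1, nat_lit 99, nat_lit 0, nat_lit 0]]))) (.node (nat_lit 449) (.leaf ((nat_lit 9), [nat_lit 5, nat_lit 1, nat_lit 5, nat_lit 1, nat_lit 4, nat_lit 3, nat_lit 2, nat_lit 3], [[nat_lit 99, nat_lit 1, nat_lit 1, nat_lit 1, nat_lit 99], [nat_lit 0, nat_lit 99, nat_lit 99, nat_lit 99, nat_lit 1]])) (.node (nat_lit 450) (.leaf ((nat_lit 12), [nat_lit 3, nat_lit 2, nat_lit 1, nat_lit 5, nat_lit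 4, nat_lit 0, nat_lit 4, nat_lit 0, nat_lit 3, nat_lit 1], [[nat_lit 1, nat_lit 99, nat_lit 99], [nat_lit 0, nat_lit 0, nat_lit 99, nat_lit 1]])) (.leaf ((nat_lit 9), [nat_lit 2, nat_lit 1, nat_lit 0, nat_lit 5, nat_lit 3, nat_lit 2, nat_lit 1, nat_lit 4, nat_lit 3, nat_lit 0, nat_lit 3, nat_lit 1, nat_lit 0], [[nat_lit 0, nat_lit 99, nat_lit 99, nat_lit 0], [nat_lit 99, nat_lit 1, nat_lit 99, nat_lit 1]]))))))
 (.node (nat_lit 455) (.node (nat_lit 453) (.node (nat_lit 452) (.leaf ((nat_lit 12), [nat_lit 1, nat_lit 5, nat_lit 3, nat_lit 2, nat_lit 0, nat_lit 3], [[nat_lit 99, nat_lit 1, nat_lit 99, nat_lit 99], [nat_lit 99, nat_lit 99, nat_lit 0, nat_lit 0]])) (.leaf ((nat_lit 12), [nat_lit 3, nat_lit 2, nat_lit 1, nat_lit 5, nat_lit 4, nat_lit 0, nat_lit 4, nat_lit 0, nat_lit 3, nat_lit 1], [[nat_lit 1, nat_lit 99, nat_lit 0, nat_lit 99, nat_lit 0], [nat_lit 0, nat_lit 0, nat_lit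 99]]))) (.node (nat_lit 454) (.leaf ((nat_lit 11), [nat_lit 4, nat_lit 0, nat_lit 5, nat_lit 1, nat_lit 4, nat_lit 2], [[nat_lit 99, nat_lit 1, nat_lit 99, nat_lit 0, nat_lit 0, nat_lit 0], [nat_lit 99, nat_lit 99]])) (.leaf ((nat_lit 11), [nat_lit 5, nat_lit 4, nat_lit 3, nat_lit 0, nat_lit 3, nat_lit 2, nat_lit 1], [[nat_lit 99, nat_lit 1, nat_lit 99, nat_lit 0, nat_lit 0, nat_lit 0], [nat_lit 0, nat_lit 99, nat_lit 99, nat_lit 0, nat_lit 0, nat_lit 0]]))))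
 (.node (nat_lit 457) (.node (nat_lit 456) (.leaf ((nat_lit 9), [nat_lit 2, nat_lit 1, nat_lit 5, nat_lit 2, nat_lit 1, nat_lit 4, nat_lit 2, nat_lit 1, nat_lit 3], [[nat_lit 99, nat_lit 99, nat_lit 1], [nat_lit 1, nat_lit 99, nat_lit 1, nat_lit 99]])) (.leaf ((nat_lit 9), [nat_lit 1, nat_lit 0, nat_lit 5, nat_lit 3, nat_lit 1, nat_lit 0, nat_lit 4, nat_lit 3, nat_lit 2, nat_lit 1], [[nat_lit 99, nat_lit 1, nat_lit 99, nat_lit 1, nat_lit 1], [nat_lit 99, nat_lit 99, nat_lit 0, nat_lit 99]]))) (.node (nat_lit 458) (.leaf ((nat_lit 9), [nat_lit 2, nat_lit 1, nat_lit 5, nat_lit 2, nat_lit 1, nat_lit 4, nat_lit 2, nat_lit 1, nat_lit 3], [[nat_lit 99, nat_lit 0, nat_lit 99], [nat_lit 1, nat_lit 99, nat_lit 99, nat_lit 0]])) (.node (nat_lit 459) (.leaf ((nat_lit 11), [nat_lit 1, nat_lit 3, nat_lit 1], [[nat_lit 0], [nat_lit 99, nat_lit 99, nat_lit 99, nat_lit 0, nat_lit 0]])) (.leaf ((nat_lit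 11), [nat_lit 4, nat_lit 0, nat_lit 5, nat_lit 1, nat_lit 4, nat_lit 2], [[nat_lit 99, nat_lit 99, nat_lit 1, nat_lit 1, nat_lit 1], [nat_lit 99, nat_lit 0, nat_lit 99, nat_lit 0]]))))))))
 (.node (nat_lit 478) (.node (nat_lit 469) (.node (nat_lit 464) (.node (nat_lit 462) (.node (nat_lit 461) (.leaf ((nat_lit 11), [nat_lit 4, nat_lit 5, nat_lit 3, nat_lit 2, nat_lit 1, nat_lit 4, nat_lit 1, nat_lit 0, nat_lit 3, nat_lit 0], [[nat_lit 99, nat_lit 1, nat_lit 1, nat_lit 99, nat_lit 0], [nat_lit 99, nat_lit 1, nat_lit 99, nat_lit 0, nat_lit 0]])) (.leaf ((nat_lit 12), [nat_lit 2, nat_lit 0, nat_lit 5, nat_lit 0, nat_lit 4, nat_lit 3, nat_lit 2, nat_lit 0, nat_lit 3, nat_lit 2], [[nat_lit 99, nat_lit 99, nat_lit 1, nat_lit 99, nat_lit 1], [nat_lit 99, nat_lit 0, nat_lit 0, nat_lit 99, nat_lit 99]]))) (.node (nat_lit 463) (.leaf ((nat_lit 11), [nat_lit 3, nat_lit 1, nat_lit 5, nat_lit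 4, nat_lit 0, nat_lit 4, nat_lit 3, nat_lit 2, nat_lit 1], [[nat_lit 0], [nat_lit 99, nat_lit 99, nat_lit 99, nat_lit 0, nat_lit 0]])) (.leaf ((nat_lit 13), [nat_lit 2, nat_lit 0, nat_lit 5, nat_lit 1, nat_lit 4, nat_lit 2, nat_lit 1, nat_lit 0, nat_lit 3, nat_lit 1], [[nat_lit 0, nat_lit 0, nat_lit 99, nat_lit 0, nat_lit 0, nat_lit 0], [nat_lit 99, nat_lit 99, nat_lit 1, nat_lit 99, nat_lit 0]]))))
 (.node (nat_lit 466) (.node (nat_lit 465) (.leaf ((nat_lit 10), [nat_lit 2, nat_lit 5, nat_lit 2, nat_lit 4, nat_lit 3, nat_lit 2, nat_lit 1], [[nat_lit 99, nat_lit 99, nat_lit 99], [nat_lit 99, nat_lit 1, nat_lit 99, nat_lit 1]])) (.leaf ((nat_lit 12), [nat_lit 4, nat_lit 5, nat_lit 2, nat_lit 0, nat_lit 4, nat_lit 2, nat_lit 0, nat_lit 3, nat_lit 2, nat_lit 1, nat_lit 0], [[nat_lit 99, nat_lit 99, nat_lit 1, nat_lit 1], [nat_lit 99, nat_lit 1, nat_lit 1, nat_lit 1]]))) (.node (nat_lit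 467) (.leaf ((nat_lit 11), [nat_lit 2, nat_lit 1, nat_lit 5, nat_lit 2, nat_lit 1, nat_lit 3], [[nat_lit 99, nat_lit 0, nat_lit 0, nat_lit 99, nat_lit 0], [nat_lit 0, nat_lit 99, nat_lit 99, nat_lit 1, nat_lit 1]])) (.node (nat_lit 468) (.leaf ((nat_lit 11), [nat_lit 3, nat_lit 1, nat_lit 5, nat_lit 4, nat_lit 0, nat_lit 4, nat_lit 3, nat_lit 2, nat_lit 1], [[nat_lit 0], [nat_lit 99, nat_lit 1, nat_lit 99, nat_lit 1, nat_lit 99, nat_lit 0]])) (.leaf ((nat_lit 10), [nat_lit 2, nat_lit 0, nat_lit 5, nat_lit 1, nat_lit 4, nat_lit 2, nat_lit 1, nat_lit 0, nat_lit 3, nat_lit 2, nat_lit 1, nat_lit 0], [[nat_lit 99, nat_lit 99, nat_lit 99, nat_lit 0], [nat_lit 1, nat_lit 99]]))))))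
 (.node (nat_lit 473) (.node (nat_lit 471) (.node (nat_lit 470) (.leaf ((nat_lit 12), [nat_lit 2, nat_lit 1, nat_lit 5, nat_lit 3, nat_lit 2, nat_lit 3, nat_lit 0], [[nat_lit 1, nat_lit 99, nat_lit 99, nat_lit 99, nat_lit 0], [nat_lit 0, nat_lit 0, nat_lit 0, nat_lit 99]])) (.leaf ((nat_lit 9), [nat_lit 2, nat_lit 0, nat_lit 5, nat_lit 4, nat_lit 2, nat_lit 3, nat_lit 2, nat_lit 1, nat_lit 0], [[nat_lit 99, nat_lit 1, nat_lit 99, nat_lit 0, nat_lit 0], [nat_lit 0, nat_lit 99, nat_lit 0, nat_lit 99]]))) (.node (nat_lit 472) (.leaf ((nat_lit 10), [nat_lit 3, nat_lit 1, nat_lit 5, nat_lit 4, nat_lit 3, nat_lit 2, nat_lit 0, nat_lit 3, nat_lit 0], [[nat_lit 99, nat_lit 99, nat_lit 0, nat_lit 99], [nat_lit 99, nat_lit 0]])) (.leaf ((nat_lit 11), [nat_lit 2, nat_lit 0, nat_lit 5, nat_lit 4, nat_lit 3, nat_lit 2, nat_lit 0, nat_lit 3, nat_lit 1], [[nat_lit 0, nat_lit 0, nat_lit 99, nat_lit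 1, nat_lit 1], [nat_lit 99, nat_lit 99, nat_lit 0, nat_lit 99, nat_lit 0]]))))
 (.node (nat_lit 475) (.node (nat_lit 474) (.leaf ((nat_lit 9), [nat_lit 2, nat_lit 0, nat_lit 5, nat_lit 4, nat_lit 2, nat_lit 3, nat_lit 2, nat_lit 1, nat_lit 0], [[nat_lit 99, nat_lit 99, nat_lit 0, nat_lit 0, nat_lit 0], [nat_lit 0, nat_lit 99, nat_lit 0, nat_lit 0, nat_lit 99, nat_lit 0]])) (.leaf ((nat_lit 10), [nat_lit 0, nat_lit 5, nat_lit 2, nat_lit 4, nat_lit 3, nat_lit 2, nat_lit 0, nat_lit 3, nat_lit 2], [[nat_lit 1, nat_lit 99, nat_lit 1], [nat_lit 99, nat_lit 1, nat_lit 99, nat_lit 1]]))) (.node (nat_lit 476) (.leaf ((nat_lit 10), [nat_lit 5, nat_lit 4, nat_lit 5, nat_lit 1, nat_lit 4, nat_lit 3, nat_lit 2, nat_lit 1, nat_lit 0], [[nat_lit 1, nat_lit 99, nat_lit 99, nat_lit 1], [nat_lit 99, nat_lit 0, nat_lit 99, nat_lit 0]])) (.node (nat_lit 477) (.leaf ((nat_lit 12), [nat_lit 4, nat_lit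 5, nat_lit 2, nat_lit 0, nat_lit 4, nat_lit 2, nat_lit 0, nat_lit 3, nat_lit 2, nat_lit 1, nat_lit 0], [[nat_lit 99, nat_lit 0, nat_lit 99, nat_lit 1], [nat_lit 99, nat_lit 1, nat_lit 1]])) (.leaf ((nat_lit 10), [nat_lit 0, nat_lit 5, nat_lit 2, nat_lit 4, nat_lit 3, nat_lit 2, nat_lit 0, nat_lit 3, nat_lit 2], [[nat_lit 1, nat_lit 99, nat_lit 0], [nat_lit 99, nat_lit 0, nat_lit 99, nat_lit 0]])))))))
 (.node (nat_lit 487) (.node (nat_lit 482) (.node (nat_lit 480) (.node (nat_lit 479) (.leaf ((nat_lit 12), [nat_lit 3, nat_lit 1, nat_lit 5, nat_lit 2, nat_lit 1, nat_lit 0, nat_lit 4, nat_lit 3], [[nat_lit 0, nat_lit 99, nat_lit 99, nat_lit 0], [nat_lit 1, nat_lit 1, nat_lit 99, nat_lit 0]])) (.leaf ((nat_lit 9), [nat_lit 2, nat_lit 1, nat_lit 5, nat_lit 2, nat_lit 1, nat_lit 4, nat_lit 2, nat_lit 0, nat_lit 3], [[nat_lit 99, nat_lit 99, nat_lit 1, nat_lit 99], [nat_lit 99, nat_lit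 1, nat_lit 99, nat_lit 1]]))) (.node (nat_lit 481) (.leaf ((nat_lit 10), [nat_lit 0, nat_lit 5, nat_lit 2, nat_lit 4, nat_lit 3, nat_lit 2, nat_lit 0, nat_lit 3, nat_lit 2], [[nat_lit 1, nat_lit 99], [nat_lit 99, nat_lit 99]])) (.leaf ((nat_lit 12), [nat_lit 5, nat_lit 1, nat_lit 5, nat_lit 4, nat_lit 3, nat_lit 2, nat_lit 3, nat_lit 0], [[nat_lit 99, nat_lit 99, nat_lit 99, nat_lit 99, nat_lit 0], [nat_lit 99, nat_lit 99, nat_lit 99, nat_lit 0, nat_lit 0]]))))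
 (.node (nat_lit 484) (.node (nat_lit 483) (.leaf ((nat_lit 13), [nat_lit 2, nat_lit 1, nat_lit 0, nat_lit 5, nat_lit 4, nat_lit 2, nat_lit 1, nat_lit 4, nat_lit 3, nat_lit 0], [[nat_lit 99, nat_lit 99, nat_lit 99, nat_lit 0], [nat_lit 99, nat_lit 1, nat_lit 99, nat_lit 99]])) (.leaf ((nat_lit 13), [nat_lit 0, nat_lit 5, nat_lit 4, nat_lit 0, nat_lit 4, nat_lit 1, nat_lit 0, nat_lit 3, nat_lit 0], [[nat_lit 99, nat_lit 99, nat_lit 99, nat_lit 0], [nat_lit 0, nat_lit 0, nat_lit 0, nat_lit 99, nat_lit 1]]))) (.node (nat_lit 485) (.leaf ((nat_lit 13), [nat_lit 1, nat_lit 0, nat_lit 5, nat_lit 2, nat_lit 0, nat_lit 4, nat_lit 2, nat_lit 0, nat_lit 3, nat_lit 1, nat_lit 0], [[nat_lit 0, nat_lit 0], [nat_lit 99, nat_lit 0, nat_lit 99, nat_lit 99]])) (.node (nat_lit 486) (.leaf ((nat_lit 11), [nat_lit 2, nat_lit 0, nat_lit 5, nat_lit 2, nat_lit 1, nat_lit 4, nat_lit 0, nat_lit 3, nat_lit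 0], [[nat_lit 99, nat_lit 99, nat_lit 0, nat_lit 99], [nat_lit 1, nat_lit 1, nat_lit 99, nat_lit 99, nat_lit 0, nat_lit 0]])) (.leaf ((nat_lit 9), [nat_lit 5, nat_lit 4, nat_lit 0, nat_lit 4, nat_lit 1, nat_lit 0], [[nat_lit 1, nat_lit 99, nat_lit 1], [nat_lit 99, nat_lit 99]]))))))
 (.node (nat_lit 491) (.node (nat_lit 489) (.node (nat_lit 488) (.leaf ((nat_lit 10), [nat_lit 1, nat_lit 0, nat_lit 5, nat_lit 4, nat_lit 3, nat_lit 2, nat_lit 3, nat_lit 2], [[nat_lit 0, nat_lit 0, nat_lit 99, nat_lit 99], [nat_lit 99, nat_lit 99, nat_lit 0]])) (.leaf ((nat_lit 13), [nat_lit 2, nat_lit 1, nat_lit 0, nat_lit 5, nat_lit 0, nat_lit 4, nat_lit 0, nat_lit 3, nat_lit 1], [[nat_lit 99, nat_lit 99, nat_lit 0, nat_lit 0], [nat_lit 99, nat_lit 0, nat_lit 99, nat_lit 0, nat_lit 0, nat_lit 0]]))) (.node (nat_lit 490) (.leaf ((nat_lit 11), [nat_lit 5, nat_lit 3, nat_lit 1, nat_lit 0, nat_lit 4,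 nat_lit 3, nat_lit 2, nat_lit 1], [[nat_lit 1, nat_lit 1, nat_lit 1], [nat_lit 99, nat_lit 99, nat_lit 1, nat_lit 99, nat_lit 99]])) (.leaf ((nat_lit 9), [nat_lit 5, nat_lit 4, nat_lit 0, nat_lit 4, nat_lit 1, nat_lit 0], [[nat_lit 1, nat_lit 99, nat_lit 1, nat_lit 1], [nat_lit 99, nat_lit 1, nat_lit 99, nat_lit 1]]))))
 (.node (nat_lit 493) (.node (nat_lit 492) (.leaf ((nat_lit 9), [nat_lit 3, nat_lit 2, nat_lit 1, nat_lit 4, nat_lit 2, nat_lit 1, nat_lit 0, nat_lit 3, nat_lit 2], [[nat_lit 99, nat_lit 1, nat_lit 99, nat_lit 0], [nat_lit 1, nat_lit 99, nat_lit 99, nat_lit 0]])) (.leaf ((nat_lit 11), [nat_lit 3, nat_lit 2, nat_lit 1, nat_lit 4, nat_lit 2, nat_lit 1, nat_lit 3], [[nat_lit 1, nat_lit 1, nat_lit 1], [nat_lit 99, nat_lit 99, nat_lit 99, nat_lit 0]]))) (.node (nat_lit 494) (.leaf ((nat_lit 13), [nat_lit 2, nat_lit 0, nat_lit 5, nat_lit 2, nat_lit 4, nat_lit 2, nat_lit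 0, nat_lit 3, nat_lit 2, nat_lit 1], [[nat_lit 99, nat_lit 99, nat_lit 1, nat_lit 99], [nat_lit 1]])) (.node (nat_lit 495) (.leaf ((nat_lit 13), [nat_lit 2, nat_lit 1, nat_lit 0, nat_lit 5, nat_lit 0, nat_lit 4, nat_lit 0, nat_lit 3, nat_lit 1], [[nat_lit 99, nat_lit 1, nat_lit 99, nat_lit 0], [nat_lit 99, nat_lit 99, nat_lit 0, nat_lit 0]])) (.leaf ((nat_lit 9), [nat_lit 5, nat_lit 2, nat_lit 0, nat_lit 4, nat_lit 3, nat_lit 2], [[nat_lit 0, nat_lit 0, nat_lit 99, nat_lit 99, nat_lit 0], [nat_lit 1, nat_lit 99, nat_lit 1, nat_lit 99]])))))))))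
 (.node (nat_lit 531) (.node (nat_lit 513) (.node (nat_lit 504) (.node (nat_lit 500) (.node (nat_lit 498) (.node (nat_lit 497) (.leaf ((nat_lit 11), [nat_lit 5, nat_lit 4, nat_lit 5, nat_lit 2, nat_lit 0, nat_lit 4, nat_lit 2, nat_lit 0, nat_lit 3, nat_lit 2, nat_lit 0], [[nat_lit 99, nat_lit 99, nat_lit 1, nat_lit 99], [nat_lit 1, nat_lit 99, nat_lit 0, nat_lit 0, nat_lit 0]])) (.leaf ((nat_lit 9), [nat_lit 5, nat_lit 4, nat_lit 0, nat_lit 4, nat_lit 1, nat_lit 0], [[nat_lit 1, nat_lit 99], [nat_lit 99, nat_lit 0, nat_lit 99, nat_lit 0]]))) (.node (nat_lit 499) (.leaf ((nat_lit 9), [nat_lit 2, nat_lit 0, nat_lit 5, nat_lit 4, nat_lit 2, nat_lit 1, nat_lit 4, nat_lit 3, nat_lit 0, nat_lit 3, nat_lit 1], [[nat_lit 99, nat_lit 99, nat_lit 1, nat_lit 1], [nat_lit 99, nat_lit 1, nat_lit 99, nat_lit 1]])) (.leaf ((nat_lit 10), [nat_lit 1, nat_lit 5, nat_lit 2, nat_lit 1, nat_lit 4, nat_lit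 2], [[nat_lit 1, nat_lit 99, nat_lit 99, nat_lit 99, nat_lit 99], [nat_lit 99, nat_lit 0, nat_lit 99, nat_lit 99, nat_lit 1]]))))
 (.node (nat_lit 502) (.node (nat_lit 501) (.leaf ((nat_lit 11), [nat_lit 0, nat_lit 5, nat_lit 4, nat_lit 2, nat_lit 1, nat_lit 4, nat_lit 3, nat_lit 2, nat_lit 0, nat_lit 3, nat_lit 1], [[nat_lit 0], [nat_lit 99, nat_lit 99, nat_lit 99, nat_lit 0, nat_lit 0]])) (.leaf ((nat_lit 9), [nat_lit 2, nat_lit 1, nat_lit 0, nat_lit 5, nat_lit 2, nat_lit 0, nat_lit 4, nat_lit 3, nat_lit 0, nat_lit 3, nat_lit 2, nat_lit 0], [[nat_lit 99, nat_lit 99, nat_lit 1, nat_lit 1], [nat_lit 1, nat_lit 99, nat_lit 99, nat_lit 0]]))) (.node (nat_lit 503) (.leaf ((nat_lit 10), [nat_lit 4, nat_lit 5, nat_lit 3, nat_lit 2, nat_lit 1, nat_lit 4, nat_lit 3, nat_lit 2, nat_lit 0], [[nat_lit 0, nat_lit 99, nat_lit 1, nat_lit 99], [nat_lit 1, nat_lit 99, nat_lit 1, nat_lit 99, nat_lit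 0]])) (.leaf ((nat_lit 12), [nat_lit 2, nat_lit 1, nat_lit 5, nat_lit 4, nat_lit 3, nat_lit 2, nat_lit 0, nat_lit 3, nat_lit 0], [[nat_lit 99, nat_lit 99, nat_lit 0, nat_lit 0, nat_lit 0], [nat_lit 99, nat_lit 1, nat_lit 1, nat_lit 99, nat_lit 0]])))))
 (.node (nat_lit 508) (.node (nat_lit 506) (.node (nat_lit 505) (.leaf ((nat_lit 9), [nat_lit 3, nat_lit 1, nat_lit 5, nat_lit 3, nat_lit 1, nat_lit 0, nat_lit 4, nat_lit 1, nat_lit 0, nat_lit 3, nat_lit 2, nat_lit 0], [[nat_lit 99, nat_lit 99, nat_lit 1, nat_lit 1], [nat_lit 0, nat_lit 0, nat_lit 99, nat_lit 0]])) (.leaf ((nat_lit 9), [nat_lit 0, nat_lit 5, nat_lit 3, nat_lit 2, nat_lit 1, nat_lit 4, nat_lit 1, nat_lit 3], [[nat_lit 0, nat_lit 0, nat_lit 0], [nat_lit 99, nat_lit 99]]))) (.node (nat_lit 507) (.leaf ((nat_lit 9), [nat_lit 2, nat_lit 5, nat_lit 1, nat_lit 4, nat_lit 1, nat_lit 0, nat_lit 3], [[nat_lit 0, nat_lit 99,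 nat_lit 1, nat_lit 99], [nat_lit 1, nat_lit 99, nat_lit 99, nat_lit 0]])) (.leaf ((nat_lit 10), [nat_lit 2, nat_lit 1, nat_lit 5, nat_lit 2, nat_lit 1, nat_lit 0, nat_lit 4, nat_lit 2, nat_lit 3, nat_lit 1, nat_lit 0], [[nat_lit 99, nat_lit 1, nat_lit 99, nat_lit 1, nat_lit 1], [nat_lit 1, nat_lit 99, nat_lit 99, nat_lit 0]]))))
 (.node (nat_lit 510) (.node (nat_lit 509) (.leaf ((nat_lit 9), [nat_lit 2, nat_lit 1, nat_lit 0, nat_lit 5, nat_lit 3, nat_lit 2, nat_lit 1, nat_lit 4, nat_lit 0, nat_lit 3, nat_lit 2, nat_lit 1], [[nat_lit 1], [nat_lit 99, nat_lit 99]])) (.leaf ((nat_lit 9), [nat_lit 3, nat_lit 1, nat_lit 5, nat_lit 2, nat_lit 1, nat_lit 0, nat_lit 4, nat_lit 3, nat_lit 0, nat_lit 3, nat_lit 2], [[nat_lit 0, nat_lit 99, nat_lit 0, nat_lit 99, nat_lit 0], [nat_lit 1, nat_lit 99, nat_lit 1, nat_lit 99]]))) (.node (nat_lit 511) (.leaf ((nat_lit 9), [nat_lit 4, nat_lit 5,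 nat_lit 0, nat_lit 4, nat_lit 2, nat_lit 1, nat_lit 0, nat_lit 3, nat_lit 2, nat_lit 1], [[nat_lit 0, nat_lit 0, nat_lit 99, nat_lit 99], [nat_lit 99, nat_lit 0, nat_lit 99, nat_lit 0]])) (.node (nat_lit 512) (.leaf ((nat_lit 9), [nat_lit 1, nat_lit 0, nat_lit 5, nat_lit 2, nat_lit 1, nat_lit 4, nat_lit 3, nat_lit 0, nat_lit 3, nat_lit 1], [[nat_lit 99, nat_lit 1, nat_lit 1], [nat_lit 99, nat_lit 99, nat_lit 1, nat_lit 99, nat_lit 0]])) (.leaf ((nat_lit 10), [nat_lit 1, nat_lit 0, nat_lit 5, nat_lit 0, nat_lit 4, nat_lit 2, nat_lit 1, nat_lit 0, nat_lit 3, nat_lit 2, nat_lit 1], [[nat_lit 0, nat_lit 0, nat_lit 99, nat_lit 0, nat_lit 0], [nat_lit 99, nat_lit 1, nat_lit 99, nat_lit 0]])))))))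
 (.node (nat_lit 522) (.node (nat_lit 517) (.node (nat_lit 515) (.node (nat_lit 514) (.leaf ((nat_lit 10), [nat_lit 1, nat_lit 5, nat_lit 2, nat_lit 1, nat_lit 4, nat_lit 2, nat_lit 3, nat_lit 1], [[nat_lit 99, nat_lit 99, nat_lit 99, nat_lit 0], [nat_lit 1, nat_lit 1, nat_lit 99, nat_lit 1]])) (.leaf ((nat_lit 9), [nat_lit 0, nat_lit 5, nat_lit 3, nat_lit 2, nat_lit 1, nat_lit 4, nat_lit 1, nat_lit 3], [[nat_lit 0, nat_lit 0, nat_lit 0], [nat_lit 99, nat_lit 1, nat_lit 99, nat_lit 1]]))) (.node (nat_lit 516) (.leaf ((nat_lit 10), [nat_lit 2, nat_lit 1, nat_lit 4, nat_lit 3, nat_lit 2, nat_lit 0, nat_lit 3, nat_lit 2, nat_lit 1], [[nat_lit 1, nat_lit 99, nat_lit 1, nat_lit 1], [nat_lit 99, nat_lit 0, nat_lit 0, nat_lit 99]])) (.leaf ((nat_lit 9), [nat_lit 2, nat_lit 1, nat_lit 5, nat_lit 3, nat_lit 2, nat_lit 1, nat_lit 4, nat_lit 2, nat_lit 0], [[nat_lit 99, nat_lit 99, nat_lit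 1, nat_lit 1], [nat_lit 1, nat_lit 99, nat_lit 1, nat_lit 1]]))))
 (.node (nat_lit 519) (.node (nat_lit 518) (.leaf ((nat_lit 10), [nat_lit 1, nat_lit 5, nat_lit 3, nat_lit 1, nat_lit 0, nat_lit 4, nat_lit 2, nat_lit 1, nat_lit 3, nat_lit 2, nat_lit 0], [[nat_lit 1, nat_lit 99, nat_lit 0, nat_lit 99, nat_lit 0], [nat_lit 0, nat_lit 0, nat_lit 99, nat_lit 99]])) (.leaf ((nat_lit 10), [nat_lit 2, nat_lit 1, nat_lit 0, nat_lit 5, nat_lit 4, nat_lit 0, nat_lit 4, nat_lit 1, nat_lit 0, nat_lit 3, nat_lit 2], [[nat_lit 99, nat_lit 99, nat_lit 1, nat_lit 1, nat_lit 1], [nat_lit 0, nat_lit 0, nat_lit 99, nat_lit 1]]))) (.node (nat_lit 520) (.leaf ((nat_lit 9), [nat_lit 2, nat_lit 1, nat_lit 0, nat_lit 5, nat_lit 2, nat_lit 4, nat_lit 1, nat_lit 0, nat_lit 3], [[nat_lit 99, nat_lit 99, nat_lit 0, nat_lit 0], [nat_lit 1, nat_lit 99]])) (.node (nat_lit 521) (.leaf ((nat_lit 10), [nat_lit 2,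 nat_lit 1, nat_lit 0, nat_lit 5, nat_lit 2, nat_lit 1, nat_lit 4, nat_lit 2, nat_lit 1, nat_lit 0, nat_lit 3], [[nat_lit 99, nat_lit 99, nat_lit 0, nat_lit 99, nat_lit 0], [nat_lit 99, nat_lit 1, nat_lit 99]])) (.leaf ((nat_lit 9), [nat_lit 2, nat_lit 1, nat_lit 0, nat_lit 5, nat_lit 3, nat_lit 2, nat_lit 1, nat_lit 4, nat_lit 0, nat_lit 3, nat_lit 2, nat_lit 1], [[nat_lit 1], [nat_lit 99, nat_lit 0, nat_lit 99, nat_lit 0]]))))))
 (.node (nat_lit 526) (.node (nat_lit 524) (.node (nat_lit 523) (.leaf ((nat_lit 9), [nat_lit 2, nat_lit 1, nat_lit 0, nat_lit 5, nat_lit 2, nat_lit 4, nat_lit 1, nat_lit 0, nat_lit 3], [[nat_lit 99, nat_lit 1, nat_lit 99, nat_lit 0], [nat_lit 1, nat_lit 99, nat_lit 1]])) (.leaf ((nat_lit 9), [nat_lit 2, nat_lit 1, nat_lit 0, nat_lit 5, nat_lit 3, nat_lit 2, nat_lit 1, nat_lit 4, nat_lit 0, nat_lit 3, nat_lit 2, nat_lit 1], [[nat_lit 1], [nat_lit 99, nat_lit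 1, nat_lit 99, nat_lit 1]]))) (.node (nat_lit 525) (.leaf ((nat_lit 9), [nat_lit 0, nat_lit 5, nat_lit 3, nat_lit 2, nat_lit 1, nat_lit 4, nat_lit 1, nat_lit 3], [[nat_lit 0, nat_lit 0, nat_lit 0], [nat_lit 99, nat_lit 0, nat_lit 99, nat_lit 0]])) (.leaf ((nat_lit 10), [nat_lit 1, nat_lit 0, nat_lit 5, nat_lit 1, nat_lit 4, nat_lit 2, nat_lit 0, nat_lit 3, nat_lit 2, nat_lit 1], [[nat_lit 99, nat_lit 1, nat_lit 99, nat_lit 99], [nat_lit 0, nat_lit 0, nat_lit 99, nat_lit 1]]))))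
 (.node (nat_lit 528) (.node (nat_lit 527) (.leaf ((nat_lit 10), [nat_lit 0, nat_lit 5, nat_lit 4, nat_lit 2, nat_lit 1, nat_lit 4, nat_lit 0, nat_lit 3, nat_lit 1], [[nat_lit 99, nat_lit 1, nat_lit 1, nat_lit 99], [nat_lit 1, nat_lit 1, nat_lit 99, nat_lit 1]])) (.leaf ((nat_lit 9), [nat_lit 4, nat_lit 0, nat_lit 5, nat_lit 0, nat_lit 4, nat_lit 2, nat_lit 1, nat_lit 0, nat_lit 3, nat_lit 0], [[nat_lit 99, nat_lit 0, nat_lit 0, nat_lit 99], [nat_lit 99, nat_lit 99, nat_lit 0]]))) (.node (nat_lit 529) (.leaf ((nat_lit 10), [nat_lit 2, nat_lit 1, nat_lit 5, nat_lit 1, nat_lit 0, nat_lit 4, nat_lit 3, nat_lit 2, nat_lit 3, nat_lit 2, nat_lit 1], [[nat_lit 99, nat_lit 1, nat_lit 99, nat_lit 0], [nat_lit 1, nat_lit 99, nat_lit 99, nat_lit 0]])) (.node (nat_lit 530) (.leaf ((nat_lit 9), [nat_lit 1, nat_lit 5, nat_lit 2, nat_lit 1, nat_lit 4, nat_lit 2, nat_lit 1, nat_lit 3, nat_lit 0],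 [[nat_lit 1, nat_lit 99, nat_lit 0], [nat_lit 99, nat_lit 1, nat_lit 99, nat_lit 1, nat_lit 1]])) (.leaf ((nat_lit 10), [nat_lit 2, nat_lit 1, nat_lit 0, nat_lit 5, nat_lit 3, nat_lit 2, nat_lit 1, nat_lit 4, nat_lit 0, nat_lit 3, nat_lit 2, nat_lit 1], [[nat_lit 99, nat_lit 1, nat_lit 99, nat_lit 0, nat_lit 0], [nat_lit 1, nat_lit 1, nat_lit 99, nat_lit 0, nat_lit 0]]))))))))
 (.node (nat_lit 549) (.node (nat_lit 540) (.node (nat_lit 535) (.node (nat_lit 533) (.node (nat_lit 532) (.leaf ((nat_lit 9), [nat_lit 4, nat_lit 5, nat_lit 2, nat_lit 0, nat_lit 4, nat_lit 2, nat_lit 0, nat_lit 3, nat_lit 2, nat_lit 0], [[nat_lit 99, nat_lit 99, nat_lit 1], [nat_lit 99, nat_lit 0, nat_lit 99, nat_lit 0, nat_lit 0]])) (.leaf ((nat_lit 10), [nat_lit 0, nat_lit 5, nat_lit 4, nat_lit 2, nat_lit 1, nat_lit 4, nat_lit 0, nat_lit 3, nat_lit 1], [[nat_lit 99, nat_lit 99, nat_lit 0, nat_lit 0], [nat_lit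 1, nat_lit 1, nat_lit 99, nat_lit 0]]))) (.node (nat_lit 534) (.leaf ((nat_lit 9), [nat_lit 2, nat_lit 1, nat_lit 5, nat_lit 3, nat_lit 2, nat_lit 1, nat_lit 4, nat_lit 2, nat_lit 1, nat_lit 0, nat_lit 3, nat_lit 2], [[nat_lit 99, nat_lit 99, nat_lit 0], [nat_lit 99, nat_lit 1, nat_lit 99, nat_lit 1]])) (.leaf ((nat_lit 10), [nat_lit 5, nat_lit 1, nat_lit 5, nat_lit 4, nat_lit 2, nat_lit 0, nat_lit 3, nat_lit 2], [[nat_lit 0, nat_lit 99, nat_lit 1, nat_lit 99, nat_lit 99, nat_lit 0], [nat_lit 99, nat_lit 1, nat_lit 1, nat_lit 99, nat_lit 0, nat_lit 0]]))))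
 (.node (nat_lit 537) (.node (nat_lit 536) (.leaf ((nat_lit 10), [nat_lit 1, nat_lit 5, nat_lit 2, nat_lit 3, nat_lit 2, nat_lit 1], [[nat_lit 1, nat_lit 99, nat_lit 99, nat_lit 0, nat_lit 0], [nat_lit 99, nat_lit 1, nat_lit 99]])) (.leaf ((nat_lit 10), [nat_lit 2, nat_lit 1, nat_lit 0, nat_lit 5, nat_lit 2, nat_lit 1, nat_lit 0], [[nat_lit 0, nat_lit 99, nat_lit 0, nat_lit 0], [nat_lit 99, nat_lit 99, nat_lit 0, nat_lit 99]]))) (.node (nat_lit 538) (.leaf ((nat_lit 10), [nat_lit 2, nat_lit 5, nat_lit 2, nat_lit 1, nat_lit 0, nat_lit 4, nat_lit 2, nat_lit 1, nat_lit 3, nat_lit 1], [[nat_lit 1, nat_lit 99, nat_lit 99, nat_lit 1], [nat_lit 99, nat_lit 99, nat_lit 1, nat_lit 99]])) (.node (nat_lit 539) (.leaf ((nat_lit 9), [nat_lit 5, nat_lit 2, nat_lit 0, nat_lit 4, nat_lit 3, nat_lit 2, nat_lit 0], [[nat_lit 1, nat_lit 1, nat_lit 99, nat_lit 0, nat_lit 0], [nat_lit 99, nat_lit 99,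 nat_lit 99, nat_lit 0, nat_lit 0, nat_lit 0]])) (.leaf ((nat_lit 10), [nat_lit 5, nat_lit 2, nat_lit 1, nat_lit 4, nat_lit 1, nat_lit 3, nat_lit 1, nat_lit 0], [[nat_lit 0, nat_lit 99, nat_lit 99, nat_lit 0], [nat_lit 99, nat_lit 0, nat_lit 99, nat_lit 0]]))))))
 (.node (nat_lit 544) (.node (nat_lit 542) (.node (nat_lit 541) (.leaf ((nat_lit 9), [nat_lit 0, nat_lit 5, nat_lit 3, nat_lit 2, nat_lit 1, nat_lit 4, nat_lit 1, nat_lit 3], [[nat_lit 0, nat_lit 0, nat_lit 0], [nat_lit 99, nat_lit 99, nat_lit 99]])) (.leaf ((nat_lit 10), [nat_lit 2, nat_lit 1, nat_lit 5, nat_lit 1, nat_lit 4, nat_lit 0, nat_lit 3, nat_lit 1, nat_lit 0], [[nat_lit 99, nat_lit 99, nat_lit 0, nat_lit 99], [nat_lit 1, nat_lit 99, nat_lit 0, nat_lit 0, nat_lit 0]]))) (.node (nat_lit 543) (.leaf ((nat_lit 9), [nat_lit 1, nat_lit 5, nat_lit 2, nat_lit 1, nat_lit 4, nat_lit 2, nat_lit 1, nat_lit 3, nat_lit 0],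 [[nat_lit 1, nat_lit 99, nat_lit 0, nat_lit 0], [nat_lit 99, nat_lit 99, nat_lit 1]])) (.leaf ((nat_lit 10), [nat_lit 2, nat_lit 1, nat_lit 5, nat_lit 3, nat_lit 1, nat_lit 4, nat_lit 2, nat_lit 1, nat_lit 3, nat_lit 0], [[nat_lit 1, nat_lit 1, nat_lit 99, nat_lit 1], [nat_lit 99, nat_lit 1, nat_lit 1, nat_lit 99, nat_lit 0]]))))
 (.node (nat_lit 546) (.node (nat_lit 545) (.leaf ((nat_lit 10), [nat_lit 5, nat_lit 1, nat_lit 5, nat_lit 4, nat_lit 2, nat_lit 0, nat_lit 3, nat_lit 2], [[nat_lit 0, nat_lit 99, nat_lit 1, nat_lit 99, nat_lit 99, nat_lit 0], [nat_lit 99, nat_lit 1, nat_lit 99, nat_lit 0, nat_lit 0, nat_lit 0]])) (.leaf ((nat_lit 10), [nat_lit 0, nat_lit 5, nat_lit 4, nat_lit 2, nat_lit 1, nat_lit 4, nat_lit 0, nat_lit 3, nat_lit 1], [[nat_lit 99, nat_lit 1, nat_lit 99, nat_lit 0], [nat_lit 1, nat_lit 1, nat_lit 99]]))) (.node (nat_lit 547) (.leaf ((nat_lit 12), [nat_lit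 2, nat_lit 0, nat_lit 5, nat_lit 4, nat_lit 0, nat_lit 4, nat_lit 3, nat_lit 2, nat_lit 0, nat_lit 3], [[nat_lit 1, nat_lit 99, nat_lit 1, nat_lit 99, nat_lit 0], [nat_lit 0, nat_lit 0, nat_lit 0, nat_lit 99, nat_lit 1]])) (.node (nat_lit 548) (.leaf ((nat_lit 11), [nat_lit 2, nat_lit 0, nat_lit 5, nat_lit 3, nat_lit 2, nat_lit 1, nat_lit 4, nat_lit 2, nat_lit 1, nat_lit 0, nat_lit 3, nat_lit 1], [[nat_lit 99, nat_lit 99, nat_lit 99, nat_lit 99, nat_lit 1], [nat_lit 0, nat_lit 99, nat_lit 1, nat_lit 99, nat_lit 0]])) (.leaf ((nat_lit 13), [nat_lit 2, nat_lit 0, nat_lit 5, nat_lit 4, nat_lit 2, nat_lit 1, nat_lit 4, nat_lit 3, nat_lit 2, nat_lit 3, nat_lit 2, nat_lit 1], [[nat_lit 0, nat_lit 99, nat_lit 99, nat_lit 0, nat_lit 0, nat_lit 0], [nat_lit 99, nat_lit 1, nat_lit 99, nat_lit 0, nat_lit 99]])))))))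
 (.node (nat_lit 558) (.node (nat_lit 553) (.node (nat_lit 551) (.node (nat_lit 550) (.leaf ((nat_lit 9), [nat_lit 3, nat_lit 1, nat_lit 4, nat_lit 3, nat_lit 0, nat_lit 3, nat_lit 2, nat_lit 1], [[nat_lit 0, nat_lit 99, nat_lit 1, nat_lit 99, nat_lit 0], [nat_lit 1, nat_lit 99, nat_lit 1, nat_lit 99]])) (.leaf ((nat_lit 11), [nat_lit 2, nat_lit 1, nat_lit 0, nat_lit 5, nat_lit 2, nat_lit 1, nat_lit 0, nat_lit 4, nat_lit 1, nat_lit 3], [[nat_lit 1, nat_lit 1, nat_lit 1], [nat_lit 99, nat_lit 99, nat_lit 99, nat_lit 0]]))) (.node (nat_lit 552) (.leaf ((nat_lit 12), [nat_lit 1, nat_lit 5, nat_lit 1, nat_lit 4, nat_lit 2, nat_lit 1, nat_lit 0, nat_lit 3, nat_lit 2, nat_lit 1], [[nat_lit 99, nat_lit 0, nat_lit 99, nat_lit 99, nat_lit 0], [nat_lit 0, nat_lit 0, nat_lit 99, nat_lit 0, nat_lit 0]])) (.leaf ((nat_lit 9), [nat_lit 2, nat_lit 0, nat_lit 5, nat_lit 4, nat_lit 2, nat_lit 0],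 [[nat_lit 99, nat_lit 99, nat_lit 99, nat_lit 1, nat_lit 99], [nat_lit 1, nat_lit 99, nat_lit 0, nat_lit 99, nat_lit 0, nat_lit 0]]))))
 (.node (nat_lit 555) (.node (nat_lit 554) (.leaf ((nat_lit 13), [nat_lit 1, nat_lit 0, nat_lit 5, nat_lit 3, nat_lit 2, nat_lit 1, nat_lit 4, nat_lit 3, nat_lit 2, nat_lit 3, nat_lit 1], [[nat_lit 1, nat_lit 99, nat_lit 99, nat_lit 1, nat_lit 1], [nat_lit 99, nat_lit 0, nat_lit 0, nat_lit 0, nat_lit 99]])) (.leaf ((nat_lit 13), [nat_lit 0, nat_lit 5, nat_lit 1, nat_lit 0, nat_lit 4, nat_lit 2, nat_lit 1, nat_lit 0, nat_lit 3, nat_lit 2, nat_lit 0], [[nat_lit 99, nat_lit 0, nat_lit 99], [nat_lit 99, nat_lit 0, nat_lit 0, nat_lit 0]]))) (.node (nat_lit 556) (.leaf ((nat_lit 10), [nat_lit 4, nat_lit 2, nat_lit 1, nat_lit 4, nat_lit 2], [[nat_lit 1, nat_lit 1, nat_lit 99, nat_lit 1, nat_lit 1], [nat_lit 99, nat_lit 1, nat_lit 1, nat_lit 1, nat_lit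 99]])) (.node (nat_lit 557) (.leaf ((nat_lit 13), [nat_lit 3, nat_lit 1, nat_lit 5, nat_lit 2, nat_lit 4, nat_lit 2, nat_lit 1, nat_lit 0, nat_lit 3, nat_lit 0], [[nat_lit 99, nat_lit 99, nat_lit 99, nat_lit 99, nat_lit 1], [nat_lit 1, nat_lit 99, nat_lit 99, nat_lit 99, nat_lit 1]])) (.leaf ((nat_lit 12), [nat_lit 1, nat_lit 5, nat_lit 1, nat_lit 4, nat_lit 2, nat_lit 1, nat_lit 0, nat_lit 3, nat_lit 2, nat_lit 1], [[nat_lit 99, nat_lit 99, nat_lit 1, nat_lit 99], [nat_lit 0, nat_lit 0, nat_lit 99, nat_lit 0]]))))))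
 (.node (nat_lit 562) (.node (nat_lit 560) (.node (nat_lit 559) (.leaf ((nat_lit 13), [nat_lit 2, nat_lit 1, nat_lit 5, nat_lit 2, nat_lit 1, nat_lit 0, nat_lit 4, nat_lit 2, nat_lit 1], [[nat_lit 0, nat_lit 0, nat_lit 99, nat_lit 0], [nat_lit 99, nat_lit 1, nat_lit 99]])) (.leaf ((nat_lit 11), [nat_lit 3, nat_lit 1, nat_lit 5, nat_lit 2, nat_lit 1, nat_lit 0, nat_lit 4, nat_lit 3, nat_lit 0, nat_lit 3, nat_lit 2, nat_lit 1, nat_lit 0], [[nat_lit 0, nat_lit 99, nat_lit 99, nat_lit 1, nat_lit 1], [nat_lit 99, nat_lit 99, nat_lit 99, nat_lit 99]]))) (.node (nat_lit 561) (.leaf ((nat_lit 9), [nat_lit 3, nat_lit 1, nat_lit 4, nat_lit 3, nat_lit 0, nat_lit 3, nat_lit 2, nat_lit 1], [[nat_lit 0, nat_lit 99, nat_lit 99, nat_lit 0, nat_lit 0], [nat_lit 1, nat_lit 99, nat_lit 99, nat_lit 0]])) (.leaf ((nat_lit 13), [nat_lit 0, nat_lit 5, nat_lit 1, nat_lit 0, nat_lit 4, nat_lit 2, nat_lit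 1, nat_lit 0, nat_lit 3, nat_lit 2, nat_lit 0], [[nat_lit 99, nat_lit 99, nat_lit 1], [nat_lit 99, nat_lit 0, nat_lit 0]]))))
 (.node (nat_lit 564) (.node (nat_lit 563) (.leaf ((nat_lit 9), [nat_lit 2, nat_lit 1, nat_lit 0, nat_lit 5, nat_lit 4, nat_lit 2, nat_lit 1, nat_lit 4, nat_lit 2, nat_lit 1, nat_lit 3], [[nat_lit 99, nat_lit 99, nat_lit 99, nat_lit 99], [nat_lit 0, nat_lit 99, nat_lit 0, nat_lit 99]])) (.leaf ((nat_lit 10), [nat_lit 4, nat_lit 2, nat_lit 1, nat_lit 4, nat_lit 2], [[nat_lit 1, nat_lit 1, nat_lit 99, nat_lit 0], [nat_lit 99, nat_lit 99, nat_lit 0, nat_lit 0, nat_lit 0]]))) (.node (nat_lit 565) (.leaf ((nat_lit 13), [nat_lit 2, nat_lit 1, nat_lit 5, nat_lit 2, nat_lit 1, nat_lit 0, nat_lit 4, nat_lit 2, nat_lit 1], [[nat_lit 0, nat_lit 0, nat_lit 99, nat_lit 0, nat_lit 0], [nat_lit 99, nat_lit 99, nat_lit 0]])) (.node (nat_lit 566) (.leaf ((nat_lit 10), [nat_lit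 4, nat_lit 2, nat_lit 1, nat_lit 4, nat_lit 2], [[nat_lit 1, nat_lit 1, nat_lit 99, nat_lit 1], [nat_lit 99, nat_lit 1, nat_lit 1, nat_lit 99, nat_lit 0]])) (.leaf ((nat_lit 9), [nat_lit 1, nat_lit 0, nat_lit 5, nat_lit 4, nat_lit 0, nat_lit 4, nat_lit 1, nat_lit 3, nat_lit 1], [[nat_lit 99, nat_lit 1, nat_lit 99, nat_lit 0], [nat_lit 0, nat_lit 99, nat_lit 99, nat_lit 99, nat_lit 1]]))))))))))
noncomputable def n1CE_4 : Tr (ℕ × List ℕ × List (List ℕ)) := (.node (nat_lit 637) (.node (nat_lit 602) (.node (nat_lit 584) (.node (nat_lit 575) (.node (nat_lit 571) (.node (nat_lit 569) (.node (nat_lit 568) (.leaf ((nat_lit 9), [nat_lit 2, nat_lit 1, nat_lit 0, nat_lit 4, nat_lit 3, nat_lit 2, nat_lit 0], [[nat_lit 99, nat_lit 1, nat_lit 99], [nat_lit 1, nat_lit 99, nat_lit 99, nat_lit 99, nat_lit 0]])) (.leaf ((nat_lit 10), [nat_lit 5, nat_lit 3, nat_lit 1, nat_lit 0, nat_lit 4, nat_lit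 2, nat_lit 1, nat_lit 0, nat_lit 3, nat_lit 2, nat_lit 1], [[nat_lit 0, nat_lit 0, nat_lit 99], [nat_lit 99, nat_lit 0, nat_lit 0, nat_lit 99, nat_lit 0]]))) (.node (nat_lit 570) (.leaf ((nat_lit 11), [nat_lit 3, nat_lit 1, nat_lit 5, nat_lit 2, nat_lit 4, nat_lit 1, nat_lit 0, nat_lit 3, nat_lit 2, nat_lit 1], [[nat_lit 1, nat_lit 99], [nat_lit 99, nat_lit 1, nat_lit 99, nat_lit 99, nat_lit 1]])) (.leaf ((nat_lit 9), [nat_lit 1, nat_lit 5, nat_lit 4, nat_lit 2, nat_lit 1, nat_lit 3, nat_lit 2, nat_lit 1, nat_lit 0], [[nat_lit 0, nat_lit 0, nat_lit 0, nat_lit 99, nat_lit 1], [nat_lit 1, nat_lit 99, nat_lit 99, nat_lit 0]]))))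
 (.node (nat_lit 573) (.node (nat_lit 572) (.leaf ((nat_lit 11), [nat_lit 5, nat_lit 1, nat_lit 5, nat_lit 1, nat_lit 4, nat_lit 0, nat_lit 3, nat_lit 2, nat_lit 1], [[nat_lit 0, nat_lit 0, nat_lit 0, nat_lit 99, nat_lit 0], [nat_lit 99, nat_lit 0, nat_lit 99, nat_lit 0, nat_lit 0]])) (.leaf ((nat_lit 12), [nat_lit 3, nat_lit 2, nat_lit 1, nat_lit 5, nat_lit 4, nat_lit 2, nat_lit 1, nat_lit 4, nat_lit 2, nat_lit 0, nat_lit 3, nat_lit 0], [[nat_lit 99, nat_lit 99, nat_lit 99, nat_lit 99, nat_lit 1], [nat_lit 99, nat_lit 0, nat_lit 99, nat_lit 0, nat_lit 99]]))) (.node (nat_lit 574) (.leaf ((nat_lit 11), [nat_lit 3, nat_lit 1, nat_lit 5, nat_lit 2, nat_lit 4, nat_lit 1, nat_lit 0, nat_lit 3, nat_lit 2, nat_lit 1], [[nat_lit 1, nat_lit 99, nat_lit 0], [nat_lit 99, nat_lit 99, nat_lit 0, nat_lit 99]])) (.leaf ((nat_lit 12), [nat_lit 5, nat_lit 2, nat_lit 3, nat_lit 0], [[nat_lit 0,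 nat_lit 99, nat_lit 99, nat_lit 0, nat_lit 99, nat_lit 0], [nat_lit 1, nat_lit 1, nat_lit 99, nat_lit 0, nat_lit 99, nat_lit 0]])))))
 (.node (nat_lit 579) (.node (nat_lit 577) (.node (nat_lit 576) (.leaf ((nat_lit 12), [nat_lit 4, nat_lit 0, nat_lit 5, nat_lit 0, nat_lit 4, nat_lit 2, nat_lit 1, nat_lit 0, nat_lit 3, nat_lit 1], [[nat_lit 1, nat_lit 99, nat_lit 99, nat_lit 1], [nat_lit 99, nat_lit 99, nat_lit 1, nat_lit 1, nat_lit 99]])) (.leaf ((nat_lit 11), [nat_lit 0, nat_lit 5, nat_lit 2, nat_lit 1, nat_lit 4, nat_lit 3, nat_lit 2, nat_lit 1, nat_lit 0], [[nat_lit 1, nat_lit 1, nat_lit 1], [nat_lit 99, nat_lit 99, nat_lit 0]]))) (.node (nat_lit 578) (.leaf ((nat_lit 9), [nat_lit 2, nat_lit 1, nat_lit 0, nat_lit 5, nat_lit 1, nat_lit 4, nat_lit 0, nat_lit 3, nat_lit 0], [[nat_lit 0, nat_lit 0, nat_lit 0], [nat_lit 99, nat_lit 0, nat_lit 99, nat_lit 0]])) (.leaf ((nat_lit 12),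 [nat_lit 5, nat_lit 1, nat_lit 5, nat_lit 3, nat_lit 2, nat_lit 1, nat_lit 4, nat_lit 3, nat_lit 2, nat_lit 0, nat_lit 3, nat_lit 2, nat_lit 1, nat_lit 0], [[nat_lit 99, nat_lit 1, nat_lit 1, nat_lit 99, nat_lit 0], [nat_lit 99, nat_lit 99, nat_lit 99, nat_lit 1, nat_lit 1]]))))
 (.node (nat_lit 581) (.node (nat_lit 580) (.leaf ((nat_lit 9), [nat_lit 5, nat_lit 1, nat_lit 5, nat_lit 2, nat_lit 1, nat_lit 0, nat_lit 4, nat_lit 0, nat_lit 3, nat_lit 2], [[nat_lit 0, nat_lit 0, nat_lit 99, nat_lit 0, nat_lit 0], [nat_lit 1, nat_lit 99, nat_lit 1, nat_lit 99]])) (.leaf ((nat_lit 11), [nat_lit 0, nat_lit 5, nat_lit 2, nat_lit 1, nat_lit 4, nat_lit 3, nat_lit 2, nat_lit 1, nat_lit 0], [[nat_lit 1, nat_lit 1, nat_lit 1], [nat_lit 99, nat_lit 1, nat_lit 99]]))) (.node (nat_lit 582) (.leaf ((nat_lit 9), [nat_lit 2, nat_lit 1, nat_lit 0, nat_lit 5, nat_lit 1, nat_lit 4, nat_lit 0, nat_lit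 3, nat_lit 0], [[nat_lit 0, nat_lit 0, nat_lit 0], [nat_lit 99, nat_lit 1, nat_lit 99, nat_lit 1]])) (.node (nat_lit 583) (.leaf ((nat_lit 9), [nat_lit 3, nat_lit 2, nat_lit 1, nat_lit 5, nat_lit 4, nat_lit 0, nat_lit 4, nat_lit 2], [[nat_lit 1, nat_lit 1, nat_lit 1, nat_lit 99, nat_lit 0, nat_lit 0], [nat_lit 0, nat_lit 99, nat_lit 0, nat_lit 99]])) (.leaf ((nat_lit 9), [nat_lit 2, nat_lit 1, nat_lit 0, nat_lit 5, nat_lit 1, nat_lit 4, nat_lit 0, nat_lit 3, nat_lit 0], [[nat_lit 0, nat_lit 0, nat_lit 0], [nat_lit 99, nat_lit 99]])))))))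
 (.node (nat_lit 593) (.node (nat_lit 588) (.node (nat_lit 586) (.node (nat_lit 585) (.leaf ((nat_lit 9), [nat_lit 4, nat_lit 5, nat_lit 0, nat_lit 4, nat_lit 1, nat_lit 0, nat_lit 3, nat_lit 2], [[nat_lit 0, nat_lit 99, nat_lit 1, nat_lit 99, nat_lit 1], [nat_lit 99, nat_lit 99, nat_lit 1, nat_lit 99, nat_lit 0]])) (.leaf ((nat_lit 9), [nat_lit 3, nat_lit 2, nat_lit 1, nat_lit 5, nat_lit 4, nat_lit 0, nat_lit 4, nat_lit 2], [[nat_lit 1, nat_lit 1, nat_lit 1, nat_lit 99, nat_lit 0], [nat_lit 0, nat_lit 99, nat_lit 99, nat_lit 1]]))) (.node (nat_lit 587) (.leaf ((nat_lit 11), [nat_lit 5, nat_lit 1, nat_lit 5, nat_lit 1, nat_lit 4, nat_lit 0, nat_lit 3, nat_lit 2, nat_lit 1], [[nat_lit 0, nat_lit 0, nat_lit 0, nat_lit 99], [nat_lit 99, nat_lit 99, nat_lit 0]])) (.leaf ((nat_lit 12), [nat_lit 5, nat_lit 4, nat_lit 5, nat_lit 4, nat_lit 0, nat_lit 4, nat_lit 0, nat_lit 3, nat_lit 2,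 nat_lit 0], [[nat_lit 99, nat_lit 99, nat_lit 0, nat_lit 99, nat_lit 1], [nat_lit 99, nat_lit 99, nat_lit 1, nat_lit 1]]))))
 (.node (nat_lit 590) (.node (nat_lit 589) (.leaf ((nat_lit 10), [nat_lit 2, nat_lit 1, nat_lit 5, nat_lit 4, nat_lit 2], [[nat_lit 99, nat_lit 99, nat_lit 0, nat_lit 99, nat_lit 1], [nat_lit 1, nat_lit 99, nat_lit 99, nat_lit 0]])) (.leaf ((nat_lit 10), [nat_lit 4, nat_lit 0, nat_lit 5, nat_lit 1, nat_lit 4, nat_lit 0, nat_lit 3, nat_lit 1, nat_lit 0], [[nat_lit 0, nat_lit 99, nat_lit 1, nat_lit 1], [nat_lit 1, nat_lit 1, nat_lit 1, nat_lit 99]]))) (.node (nat_lit 591) (.leaf ((nat_lit 11), [nat_lit 1, nat_lit 0, nat_lit 4, nat_lit 2, nat_lit 3, nat_lit 2, nat_lit 1], [[nat_lit 99, nat_lit 1, nat_lit 99, nat_lit 0, nat_lit 99], [nat_lit 0, nat_lit 0, nat_lit 99, nat_lit 99, nat_lit 1]])) (.node (nat_lit 592) (.leaf ((nat_lit 10), [nat_lit 3, nat_lit 2, nat_lit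 1, nat_lit 5, nat_lit 2, nat_lit 4, nat_lit 1, nat_lit 3, nat_lit 1], [[nat_lit 0, nat_lit 0, nat_lit 99], [nat_lit 1, nat_lit 1, nat_lit 99, nat_lit 0, nat_lit 0]])) (.leaf ((nat_lit 10), [nat_lit 3, nat_lit 2, nat_lit 1, nat_lit 5, nat_lit 1, nat_lit 4, nat_lit 3, nat_lit 0, nat_lit 3, nat_lit 2], [[nat_lit 99, nat_lit 99, nat_lit 0, nat_lit 99, nat_lit 1], [nat_lit 99, nat_lit 1, nat_lit 99, nat_lit 1, nat_lit 1]]))))))
 (.node (nat_lit 597) (.node (nat_lit 595) (.node (nat_lit 594) (.leaf ((nat_lit 12), [nat_lit 5, nat_lit 3, nat_lit 1, nat_lit 4, nat_lit 0, nat_lit 3, nat_lit 2, nat_lit 1], [[nat_lit 0, nat_lit 0, nat_lit 99, nat_lit 99, nat_lit 0, nat_lit 0], [nat_lit 99, nat_lit 99, nat_lit 0, nat_lit 99, nat_lit 99]])) (.leaf ((nat_lit 11), [nat_lit 1, nat_lit 0, nat_lit 5, nat_lit 4, nat_lit 2, nat_lit 1, nat_lit 4, nat_lit 3, nat_lit 2, nat_lit 0, nat_lit 3], [[nat_lit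 0, nat_lit 99, nat_lit 0, nat_lit 99, nat_lit 1], [nat_lit 99, nat_lit 99, nat_lit 1, nat_lit 99, nat_lit 0]]))) (.node (nat_lit 596) (.leaf ((nat_lit 10), [nat_lit 3, nat_lit 2, nat_lit 1, nat_lit 5, nat_lit 2, nat_lit 4, nat_lit 1, nat_lit 3, nat_lit 1], [[nat_lit 0, nat_lit 0, nat_lit 99, nat_lit 1], [nat_lit 1, nat_lit 1, nat_lit 99, nat_lit 0]])) (.leaf ((nat_lit 13), [nat_lit 3, nat_lit 1, nat_lit 5, nat_lit 2, nat_lit 0, nat_lit 4, nat_lit 3, nat_lit 1], [[nat_lit 0, nat_lit 99, nat_lit 1, nat_lit 99], [nat_lit 99, nat_lit 0, nat_lit 0, nat_lit 99, nat_lit 1]]))))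
 (.node (nat_lit 599) (.node (nat_lit 598) (.leaf ((nat_lit 11), [nat_lit 2, nat_lit 1, nat_lit 0, nat_lit 5, nat_lit 3, nat_lit 1, nat_lit 0, nat_lit 4, nat_lit 3, nat_lit 2], [[nat_lit 99, nat_lit 1], [nat_lit 99, nat_lit 99, nat_lit 0, nat_lit 99, nat_lit 99, nat_lit 0]])) (.leaf ((nat_lit 11), [nat_lit 0, nat_lit 5, nat_lit 3, nat_lit 1, nat_lit 0, nat_lit 4, nat_lit 0, nat_lit 3, nat_lit 0], [[nat_lit 0, nat_lit 0], [nat_lit 99, nat_lit 99, nat_lit 0]]))) (.node (nat_lit 600) (.leaf ((nat_lit 13), [nat_lit 3, nat_lit 1, nat_lit 5, nat_lit 2, nat_lit 0, nat_lit 4, nat_lit 3, nat_lit 1], [[nat_lit 0, nat_lit 99, nat_lit 99, nat_lit 0], [nat_lit 99, nat_lit 0, nat_lit 0, nat_lit 0, nat_lit 99]])) (.node (nat_lit 601) (.leaf ((nat_lit 13), [nat_lit 2, nat_lit 1, nat_lit 5, nat_lit 4, nat_lit 2, nat_lit 1, nat_lit 4, nat_lit 3, nat_lit 2, nat_lit 0, nat_lit 3, nat_lit 0], [[nat_lit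 0, nat_lit 99, nat_lit 99, nat_lit 0, nat_lit 99], [nat_lit 99, nat_lit 1, nat_lit 99, nat_lit 0, nat_lit 0]])) (.leaf ((nat_lit 11), [nat_lit 0, nat_lit 5, nat_lit 3, nat_lit 2, nat_lit 1, nat_lit 4, nat_lit 2, nat_lit 0, nat_lit 3, nat_lit 0], [[nat_lit 0, nat_lit 99, nat_lit 0, nat_lit 99, nat_lit 99], [nat_lit 99, nat_lit 0, nat_lit 99, nat_lit 99, nat_lit 0, nat_lit 0]]))))))))
 (.node (nat_lit 619) (.node (nat_lit 610) (.node (nat_lit 606) (.node (nat_lit 604) (.node (nat_lit 603) (.leaf ((nat_lit 10), [nat_lit 2, nat_lit 0, nat_lit 5, nat_lit 3, nat_lit 2, nat_lit 0], [[nat_lit 0, nat_lit 0, nat_lit 0, nat_lit 99], [nat_lit 1, nat_lit 99, nat_lit 0, nat_lit 0]])) (.leaf ((nat_lit 10), [nat_lit 2, nat_lit 1, nat_lit 5, nat_lit 4, nat_lit 1, nat_lit 0, nat_lit 3, nat_lit 2, nat_lit 0], [[nat_lit 99, nat_lit 1, nat_lit 99, nat_lit 99, nat_lit 0], [nat_lit 99, nat_lit 0, nat_lit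 0, nat_lit 99, nat_lit 1]]))) (.node (nat_lit 605) (.leaf ((nat_lit 11), [nat_lit 0, nat_lit 5, nat_lit 3, nat_lit 1, nat_lit 0, nat_lit 4, nat_lit 0, nat_lit 3, nat_lit 0], [[nat_lit 0, nat_lit 0], [nat_lit 99, nat_lit 1, nat_lit 99]])) (.leaf ((nat_lit 11), [nat_lit 2, nat_lit 1, nat_lit 5, nat_lit 4, nat_lit 2, nat_lit 1, nat_lit 4, nat_lit 1, nat_lit 0, nat_lit 3, nat_lit 1], [[nat_lit 0, nat_lit 99, nat_lit 1, nat_lit 99], [nat_lit 99, nat_lit 99, nat_lit 1, nat_lit 99, nat_lit 0, nat_lit 0]]))))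
 (.node (nat_lit 608) (.node (nat_lit 607) (.leaf ((nat_lit 11), [nat_lit 2, nat_lit 1, nat_lit 0, nat_lit 5, nat_lit 2, nat_lit 0, nat_lit 4, nat_lit 0, nat_lit 3, nat_lit 2, nat_lit 1], [[nat_lit 0, nat_lit 99, nat_lit 99, nat_lit 99], [nat_lit 1, nat_lit 99, nat_lit 0, nat_lit 99, nat_lit 1]])) (.leaf ((nat_lit 12), [nat_lit 3, nat_lit 2, nat_lit 1, nat_lit 5, nat_lit 0, nat_lit 4, nat_lit 2, nat_lit 1, nat_lit 3, nat_lit 1], [[nat_lit 99, nat_lit 99, nat_lit 99, nat_lit 0, nat_lit 99, nat_lit 0], [nat_lit 0, nat_lit 99, nat_lit 1, nat_lit 99, nat_lit 99]]))) (.node (nat_lit 609) (.leaf ((nat_lit 10), [nat_lit 4, nat_lit 0, nat_lit 5, nat_lit 1, nat_lit 4, nat_lit 0, nat_lit 3, nat_lit 1, nat_lit 0], [[nat_lit 0, nat_lit 99, nat_lit 1], [nat_lit 1, nat_lit 1, nat_lit 1, nat_lit 99, nat_lit 0]])) (.leaf ((nat_lit 10), [nat_lit 2, nat_lit 1, nat_lit 5, nat_lit 4, nat_lit 2, nat_lit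 1, nat_lit 4, nat_lit 1, nat_lit 3, nat_lit 2], [[nat_lit 99, nat_lit 1, nat_lit 99, nat_lit 0, nat_lit 0], [nat_lit 0, nat_lit 99, nat_lit 0, nat_lit 0, nat_lit 99, nat_lit 0]])))))
 (.node (nat_lit 614) (.node (nat_lit 612) (.node (nat_lit 611) (.leaf ((nat_lit 12), [nat_lit 3, nat_lit 1, nat_lit 5, nat_lit 4, nat_lit 3, nat_lit 2, nat_lit 0], [[nat_lit 0, nat_lit 99, nat_lit 99, nat_lit 99, nat_lit 1], [nat_lit 1, nat_lit 1, nat_lit 1, nat_lit 99, nat_lit 0]])) (.leaf ((nat_lit 9), [nat_lit 2, nat_lit 1, nat_lit 5, nat_lit 0, nat_lit 4, nat_lit 2, nat_lit 1, nat_lit 3, nat_lit 2, nat_lit 1], [[nat_lit 1, nat_lit 99, nat_lit 0, nat_lit 0], [nat_lit 99, nat_lit 99, nat_lit 99]]))) (.node (nat_lit 613) (.leaf ((nat_lit 12), [nat_lit 4, nat_lit 0, nat_lit 5, nat_lit 2, nat_lit 1, nat_lit 0, nat_lit 4, nat_lit 2, nat_lit 1, nat_lit 0, nat_lit 3, nat_lit 1], [[nat_lit 99, nat_lit 99,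 nat_lit 99, nat_lit 1], [nat_lit 1, nat_lit 1, nat_lit 99, nat_lit 1, nat_lit 1]])) (.leaf ((nat_lit 10), [nat_lit 5, nat_lit 4, nat_lit 5, nat_lit 2, nat_lit 0, nat_lit 4, nat_lit 3, nat_lit 1], [[nat_lit 99, nat_lit 1, nat_lit 99, nat_lit 99, nat_lit 0], [nat_lit 1, nat_lit 99, nat_lit 1, nat_lit 1]]))))
 (.node (nat_lit 616) (.node (nat_lit 615) (.leaf ((nat_lit 10), [nat_lit 2, nat_lit 1, nat_lit 5, nat_lit 4, nat_lit 2, nat_lit 1, nat_lit 4, nat_lit 1, nat_lit 3, nat_lit 2], [[nat_lit 99, nat_lit 1, nat_lit 1, nat_lit 99, nat_lit 0], [nat_lit 0, nat_lit 99, nat_lit 0, nat_lit 99]])) (.leaf ((nat_lit 11), [nat_lit 1, nat_lit 5, nat_lit 3, nat_lit 1, nat_lit 4, nat_lit 2, nat_lit 1, nat_lit 0, nat_lit 3], [[nat_lit 99, nat_lit 99, nat_lit 0, nat_lit 99], [nat_lit 0, nat_lit 99, nat_lit 1]]))) (.node (nat_lit 617) (.leaf ((nat_lit 12), [nat_lit 2, nat_lit 0, nat_lit 5, nat_lit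 4, nat_lit 1, nat_lit 3, nat_lit 2, nat_lit 1], [[nat_lit 99, nat_lit 99, nat_lit 99, nat_lit 99, nat_lit 99], [nat_lit 0, nat_lit 0, nat_lit 99, nat_lit 99, nat_lit 1]])) (.node (nat_lit 618) (.leaf ((nat_lit 11), [nat_lit 5, nat_lit 1, nat_lit 5, nat_lit 4, nat_lit 0, nat_lit 3, nat_lit 2, nat_lit 1], [[nat_lit 1, nat_lit 99, nat_lit 0, nat_lit 0, nat_lit 99, nat_lit 0], [nat_lit 0, nat_lit 0, nat_lit 99, nat_lit 1, nat_lit 1]])) (.leaf ((nat_lit 10), [nat_lit 5, nat_lit 1, nat_lit 5, nat_lit 3, nat_lit 2, nat_lit 1, nat_lit 4, nat_lit 1, nat_lit 3, nat_lit 1], [[nat_lit 99, nat_lit 1, nat_lit 99, nat_lit 99], [nat_lit 99, nat_lit 0, nat_lit 0]])))))))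
 (.node (nat_lit 628) (.node (nat_lit 623) (.node (nat_lit 621) (.node (nat_lit 620) (.leaf ((nat_lit 12), [nat_lit 4, nat_lit 0, nat_lit 5, nat_lit 4, nat_lit 3, nat_lit 2, nat_lit 3, nat_lit 1], [[nat_lit 99, nat_lit 0, nat_lit 99, nat_lit 0, nat_lit 0], [nat_lit 99, nat_lit 1, nat_lit 1, nat_lit 1]])) (.leaf ((nat_lit 10), [nat_lit 2, nat_lit 1, nat_lit 5, nat_lit 4, nat_lit 2, nat_lit 1, nat_lit 4, nat_lit 1, nat_lit 3, nat_lit 2], [[nat_lit 99, nat_lit 1, nat_lit 1, nat_lit 1, nat_lit 99], [nat_lit 0, nat_lit 99, nat_lit 99, nat_lit 1]]))) (.node (nat_lit 622) (.leaf ((nat_lit 11), [nat_lit 5, nat_lit 4, nat_lit 5, nat_lit 3, nat_lit 1, nat_lit 0, nat_lit 4, nat_lit 3, nat_lit 2, nat_lit 0, nat_lit 3, nat_lit 1], [[nat_lit 99, nat_lit 0, nat_lit 99, nat_lit 1, nat_lit 99], [nat_lit 0, nat_lit 0, nat_lit 99, nat_lit 0, nat_lit 0]])) (.leaf ((nat_lit 11), [nat_lit 2, nat_lit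 1, nat_lit 0, nat_lit 5, nat_lit 2, nat_lit 3, nat_lit 2, nat_lit 1, nat_lit 0], [[nat_lit 0, nat_lit 99, nat_lit 1, nat_lit 99], [nat_lit 99, nat_lit 0, nat_lit 99, nat_lit 0]]))))
 (.node (nat_lit 625) (.node (nat_lit 624) (.leaf ((nat_lit 12), [nat_lit 4, nat_lit 0, nat_lit 5, nat_lit 4, nat_lit 3, nat_lit 2, nat_lit 3, nat_lit 1], [[nat_lit 99, nat_lit 1, nat_lit 99], [nat_lit 99, nat_lit 0, nat_lit 0]])) (.leaf ((nat_lit 11), [nat_lit 1, nat_lit 0, nat_lit 5, nat_lit 3, nat_lit 1, nat_lit 4, nat_lit 3, nat_lit 2, nat_lit 1], [[nat_lit 1, nat_lit 1, nat_lit 99, nat_lit 0, nat_lit 99, nat_lit 0], [nat_lit 0, nat_lit 99, nat_lit 1, nat_lit 1]]))) (.node (nat_lit 626) (.leaf ((nat_lit 12), [nat_lit 4, nat_lit 0, nat_lit 5, nat_lit 4, nat_lit 3, nat_lit 2, nat_lit 3, nat_lit 1], [[nat_lit 99, nat_lit 99, nat_lit 0], [nat_lit 99, nat_lit 0, nat_lit 0, nat_lit 0]])) (.node (nat_lit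 627) (.leaf ((nat_lit 12), [nat_lit 2, nat_lit 1, nat_lit 5, nat_lit 1, nat_lit 0, nat_lit 4, nat_lit 0, nat_lit 3, nat_lit 1, nat_lit 0], [[nat_lit 99, nat_lit 1, nat_lit 99, nat_lit 1, nat_lit 1], [nat_lit 1, nat_lit 99, nat_lit 99, nat_lit 99, nat_lit 1]])) (.leaf ((nat_lit 11), [nat_lit 1, nat_lit 0, nat_lit 5, nat_lit 3, nat_lit 1, nat_lit 4, nat_lit 3, nat_lit 2, nat_lit 1], [[nat_lit 1, nat_lit 1, nat_lit 99, nat_lit 99], [nat_lit 0, nat_lit 99, nat_lit 1, nat_lit 1, nat_lit 1]]))))))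
 (.node (nat_lit 632) (.node (nat_lit 630) (.node (nat_lit 629) (.leaf ((nat_lit 10), [nat_lit 5, nat_lit 1, nat_lit 5, nat_lit 3, nat_lit 2, nat_lit 1, nat_lit 4, nat_lit 1, nat_lit 3, nat_lit 1], [[nat_lit 99, nat_lit 99, nat_lit 0, nat_lit 99, nat_lit 0], [nat_lit 99, nat_lit 0, nat_lit 0, nat_lit 0]])) (.leaf ((nat_lit 10), [nat_lit 4, nat_lit 0, nat_lit 5, nat_lit 2, nat_lit 0, nat_lit 4, nat_lit 2, nat_lit 3, nat_lit 2, nat_lit 1], [[nat_lit 99, nat_lit 99, nat_lit 99, nat_lit 99, nat_lit 0], [nat_lit 1, nat_lit 1, nat_lit 99, nat_lit 99, nat_lit 1]]))) (.node (nat_lit 631) (.leaf ((nat_lit 9), [nat_lit 2, nat_lit 0, nat_lit 5, nat_lit 4, nat_lit 0, nat_lit 4, nat_lit 2, nat_lit 0, nat_lit 3, nat_lit 1, nat_lit 0], [[nat_lit 99, nat_lit 99, nat_lit 99], [nat_lit 99, nat_lit 1, nat_lit 99, nat_lit 0, nat_lit 0]])) (.leaf ((nat_lit 10), [nat_lit 3, nat_lit 2, nat_lit 1, nat_lit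 5, nat_lit 2, nat_lit 4, nat_lit 3, nat_lit 2, nat_lit 0, nat_lit 3, nat_lit 2, nat_lit 1], [[nat_lit 99, nat_lit 0, nat_lit 99, nat_lit 0, nat_lit 0], [nat_lit 0, nat_lit 99, nat_lit 0, nat_lit 0, nat_lit 0]]))))
 (.node (nat_lit 634) (.node (nat_lit 633) (.leaf ((nat_lit 10), [nat_lit 1, nat_lit 0, nat_lit 5, nat_lit 3, nat_lit 2, nat_lit 1, nat_lit 4, nat_lit 2, nat_lit 1, nat_lit 0, nat_lit 3, nat_lit 2, nat_lit 1, nat_lit 0], [[nat_lit 99, nat_lit 1, nat_lit 1, nat_lit 99, nat_lit 0], [nat_lit 1, nat_lit 99, nat_lit 0]])) (.leaf ((nat_lit 10), [nat_lit 4, nat_lit 5, nat_lit 2, nat_lit 1, nat_lit 4, nat_lit 3, nat_lit 2, nat_lit 0, nat_lit 3, nat_lit 1, nat_lit 0], [[nat_lit 99, nat_lit 1, nat_lit 1, nat_lit 99, nat_lit 0], [nat_lit 0, nat_lit 0, nat_lit 99, nat_lit 1, nat_lit 1]]))) (.node (nat_lit 635) (.leaf ((nat_lit 10), [nat_lit 5, nat_lit 4, nat_lit 2, nat_lit 1, nat_lit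 4, nat_lit 3, nat_lit 2, nat_lit 0], [[nat_lit 0, nat_lit 99, nat_lit 99, nat_lit 0], [nat_lit 99, nat_lit 0, nat_lit 99, nat_lit 99]])) (.node (nat_lit 636) (.leaf ((nat_lit 9), [nat_lit 2, nat_lit 1, nat_lit 5, nat_lit 3, nat_lit 1, nat_lit 0, nat_lit 4, nat_lit 3, nat_lit 2, nat_lit 3, nat_lit 2, nat_lit 1, nat_lit 0], [[nat_lit 1, nat_lit 99, nat_lit 1], [nat_lit 99, nat_lit 1, nat_lit 1, nat_lit 99, nat_lit 0]])) (.leaf ((nat_lit 10), [nat_lit 1, nat_lit 0, nat_lit 5, nat_lit 2, nat_lit 0, nat_lit 4, nat_lit 2, nat_lit 0, nat_lit 3, nat_lit 2, nat_lit 0], [[nat_lit 1, nat_lit 1, nat_lit 99, nat_lit 1], [nat_lit 99, nat_lit 1, nat_lit 99, nat_lit 99]])))))))))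
 (.node (nat_lit 672) (.node (nat_lit 654) (.node (nat_lit 645) (.node (nat_lit 641) (.node (nat_lit 639) (.node (nat_lit 638) (.leaf ((nat_lit 9), [nat_lit 3, nat_lit 2, nat_lit 1, nat_lit 5, nat_lit 4, nat_lit 2, nat_lit 1, nat_lit 4, nat_lit 3], [[nat_lit 99, nat_lit 1, nat_lit 99, nat_lit 1, nat_lit 1], [nat_lit 99, nat_lit 0, nat_lit 0, nat_lit 99, nat_lit 0, nat_lit 0]])) (.leaf ((nat_lit 9), [nat_lit 3, nat_lit 1, nat_lit 5, nat_lit 3, nat_lit 2, nat_lit 3, nat_lit 0], [[nat_lit 1, nat_lit 99, nat_lit 99, nat_lit 0, nat_lit 0], [nat_lit 99, nat_lit 99, nat_lit 99]]))) (.node (nat_lit 640) (.leaf ((nat_lit 9), [nat_lit 0, nat_lit 5, nat_lit 3, nat_lit 2, nat_lit 1, nat_lit 4, nat_lit 1, nat_lit 3], [[nat_lit 0, nat_lit 0, nat_lit 0], [nat_lit 99, nat_lit 99, nat_lit 99]])) (.leaf ((nat_lit 10), [nat_lit 3, nat_lit 2, nat_lit 1, nat_lit 5, nat_lit 2, nat_lit 4, nat_lit 3, nat_lit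 2, nat_lit 0, nat_lit 3, nat_lit 2, nat_lit 1], [[nat_lit 99, nat_lit 99, nat_lit 0], [nat_lit 0, nat_lit 99, nat_lit 0, nat_lit 0]]))))
 (.node (nat_lit 643) (.node (nat_lit 642) (.leaf ((nat_lit 9), [nat_lit 1, nat_lit 5, nat_lit 4, nat_lit 2, nat_lit 1, nat_lit 4, nat_lit 3, nat_lit 0, nat_lit 3], [[nat_lit 99, nat_lit 0, nat_lit 0, nat_lit 99, nat_lit 0], [nat_lit 1, nat_lit 99, nat_lit 99, nat_lit 1, nat_lit 1]])) (.leaf ((nat_lit 9), [nat_lit 5, nat_lit 4, nat_lit 5, nat_lit 1, nat_lit 4, nat_lit 2, nat_lit 1, nat_lit 3, nat_lit 2], [[nat_lit 1, nat_lit 1], [nat_lit 99, nat_lit 99, nat_lit 0, nat_lit 99]]))) (.node (nat_lit 644) (.leaf ((nat_lit 9), [nat_lit 0, nat_lit 5, nat_lit 2, nat_lit 1, nat_lit 0, nat_lit 4], [[nat_lit 99, nat_lit 99, nat_lit 99, nat_lit 0], [nat_lit 0, nat_lit 99, nat_lit 0, nat_lit 99]])) (.leaf ((nat_lit 10), [nat_lit 4, nat_lit 5, nat_lit 2, nat_lit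 1, nat_lit 4, nat_lit 3, nat_lit 2, nat_lit 0, nat_lit 3, nat_lit 1, nat_lit 0], [[nat_lit 99, nat_lit 1, nat_lit 99, nat_lit 0, nat_lit 0], [nat_lit 0, nat_lit 0, nat_lit 99, nat_lit 1]])))))
 (.node (nat_lit 649) (.node (nat_lit 647) (.node (nat_lit 646) (.leaf ((nat_lit 9), [nat_lit 1, nat_lit 5, nat_lit 1, nat_lit 0, nat_lit 3, nat_lit 0], [[nat_lit 0, nat_lit 99, nat_lit 99, nat_lit 1, nat_lit 1], [nat_lit 99, nat_lit 1, nat_lit 1, nat_lit 99, nat_lit 0, nat_lit 0]])) (.leaf ((nat_lit 10), [nat_lit 3, nat_lit 2, nat_lit 1, nat_lit 5, nat_lit 2, nat_lit 4, nat_lit 3, nat_lit 2, nat_lit 0, nat_lit 3, nat_lit 2, nat_lit 1], [[nat_lit 99, nat_lit 1, nat_lit 99], [nat_lit 0, nat_lit 99, nat_lit 0]]))) (.node (nat_lit 648) (.leaf ((nat_lit 10), [nat_lit 0, nat_lit 5, nat_lit 4, nat_lit 0, nat_lit 4, nat_lit 2, nat_lit 1, nat_lit 3, nat_lit 2, nat_lit 1, nat_lit 0], [[nat_lit 99,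 nat_lit 99, nat_lit 0, nat_lit 99], [nat_lit 0, nat_lit 99, nat_lit 1, nat_lit 1]])) (.leaf ((nat_lit 10), [nat_lit 5, nat_lit 1, nat_lit 5, nat_lit 4, nat_lit 0, nat_lit 4, nat_lit 2, nat_lit 1, nat_lit 0, nat_lit 3, nat_lit 2, nat_lit 1, nat_lit 0], [[nat_lit 99, nat_lit 1, nat_lit 99, nat_lit 99, nat_lit 0], [nat_lit 1, nat_lit 99, nat_lit 0, nat_lit 0, nat_lit 99]]))))
 (.node (nat_lit 651) (.node (nat_lit 650) (.leaf ((nat_lit 10), [nat_lit 5, nat_lit 4, nat_lit 5, nat_lit 3, nat_lit 2, nat_lit 1, nat_lit 4, nat_lit 2, nat_lit 3, nat_lit 0], [[nat_lit 1, nat_lit 99, nat_lit 99, nat_lit 1], [nat_lit 99, nat_lit 1, nat_lit 99, nat_lit 0, nat_lit 0]])) (.leaf ((nat_lit 9), [nat_lit 4, nat_lit 5, nat_lit 0, nat_lit 3, nat_lit 2], [[nat_lit 0, nat_lit 99, nat_lit 99, nat_lit 99], [nat_lit 99, nat_lit 0, nat_lit 99, nat_lit 0]]))) (.node (nat_lit 652) (.leaf ((nat_lit 11), [nat_lit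 2, nat_lit 1, nat_lit 0, nat_lit 5, nat_lit 1, nat_lit 0, nat_lit 4, nat_lit 3], [[nat_lit 0], [nat_lit 99, nat_lit 99, nat_lit 0, nat_lit 0]])) (.node (nat_lit 653) (.leaf ((nat_lit 11), [nat_lit 4, nat_lit 0, nat_lit 5, nat_lit 1, nat_lit 0, nat_lit 3, nat_lit 1], [[nat_lit 1, nat_lit 99, nat_lit 99, nat_lit 0], [nat_lit 0, nat_lit 99, nat_lit 99]])) (.leaf ((nat_lit 13), [nat_lit 2, nat_lit 5, nat_lit 3, nat_lit 1, nat_lit 4, nat_lit 0, nat_lit 3, nat_lit 2, nat_lit 0], [[nat_lit 1, nat_lit 1, nat_lit 1], [nat_lit 99, nat_lit 0, nat_lit 99]])))))))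
 (.node (nat_lit 663) (.node (nat_lit 658) (.node (nat_lit 656) (.node (nat_lit 655) (.leaf ((nat_lit 13), [nat_lit 1, nat_lit 0, nat_lit 5, nat_lit 4, nat_lit 2, nat_lit 1, nat_lit 4, nat_lit 3, nat_lit 2, nat_lit 0, nat_lit 3, nat_lit 2, nat_lit 1], [[nat_lit 99, nat_lit 0, nat_lit 99], [nat_lit 0, nat_lit 0, nat_lit 99, nat_lit 0, nat_lit 0]])) (.leaf ((nat_lit 13), [nat_lit 2, nat_lit 1, nat_lit 0, nat_lit 5, nat_lit 1, nat_lit 0, nat_lit 4, nat_lit 2, nat_lit 0, nat_lit 3], [[nat_lit 1, nat_lit 99, nat_lit 1], [nat_lit 99, nat_lit 99]]))) (.node (nat_lit 657) (.leaf ((nat_lit 11), [nat_lit 2, nat_lit 1, nat_lit 0, nat_lit 5, nat_lit 1, nat_lit 0, nat_lit 4, nat_lit 3], [[nat_lit 0], [nat_lit 99, nat_lit 1, nat_lit 99, nat_lit 0]])) (.leaf ((nat_lit 11), [nat_lit 2, nat_lit 1, nat_lit 0, nat_lit 5, nat_lit 2, nat_lit 1, nat_lit 0, nat_lit 4, nat_lit 1, nat_lit 3], [[nat_lit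 1, nat_lit 1, nat_lit 1], [nat_lit 99, nat_lit 99, nat_lit 0]]))))
 (.node (nat_lit 660) (.node (nat_lit 659) (.leaf ((nat_lit 13), [nat_lit 4, nat_lit 5, nat_lit 4, nat_lit 3, nat_lit 0, nat_lit 3, nat_lit 2], [[nat_lit 1, nat_lit 99, nat_lit 99], [nat_lit 0, nat_lit 99, nat_lit 0, nat_lit 0]])) (.leaf ((nat_lit 13), [nat_lit 2, nat_lit 0, nat_lit 5, nat_lit 3, nat_lit 2, nat_lit 1, nat_lit 4, nat_lit 2, nat_lit 3, nat_lit 2, nat_lit 1, nat_lit 0], [[nat_lit 99, nat_lit 99, nat_lit 0], [nat_lit 1, nat_lit 1]]))) (.node (nat_lit 661) (.leaf ((nat_lit 11), [nat_lit 5, nat_lit 4, nat_lit 5, nat_lit 1, nat_lit 4, nat_lit 2, nat_lit 0, nat_lit 3, nat_lit 2, nat_lit 0], [[nat_lit 0, nat_lit 0, nat_lit 0, nat_lit 99], [nat_lit 1, nat_lit 99, nat_lit 0]])) (.node (nat_lit 662) (.leaf ((nat_lit 10), [nat_lit 2, nat_lit 1, nat_lit 5, nat_lit 4, nat_lit 2, nat_lit 1, nat_lit 4, nat_lit 3,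 nat_lit 0, nat_lit 3, nat_lit 2], [[nat_lit 0, nat_lit 99, nat_lit 99, nat_lit 0], [nat_lit 99, nat_lit 0, nat_lit 99, nat_lit 0]])) (.leaf ((nat_lit 13), [nat_lit 3, nat_lit 2, nat_lit 1, nat_lit 5, nat_lit 1, nat_lit 4, nat_lit 2, nat_lit 1, nat_lit 0, nat_lit 3, nat_lit 2], [[nat_lit 1, nat_lit 1, nat_lit 1], [nat_lit 99, nat_lit 0, nat_lit 99]]))))))
 (.node (nat_lit 667) (.node (nat_lit 665) (.node (nat_lit 664) (.leaf ((nat_lit 10), [nat_lit 3, nat_lit 2, nat_lit 1, nat_lit 5, nat_lit 4, nat_lit 0, nat_lit 4, nat_lit 0, nat_lit 3, nat_lit 2, nat_lit 1, nat_lit 0], [[nat_lit 99], [nat_lit 99, nat_lit 1, nat_lit 99, nat_lit 0]])) (.leaf ((nat_lit 11), [nat_lit 5, nat_lit 3, nat_lit 1, nat_lit 4, nat_lit 2, nat_lit 1, nat_lit 0], [[nat_lit 0, nat_lit 0, nat_lit 99], [nat_lit 1, nat_lit 1, nat_lit 99, nat_lit 0]]))) (.node (nat_lit 666) (.leaf ((nat_lit 10), [nat_lit 0, nat_lit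 5, nat_lit 3, nat_lit 2, nat_lit 1, nat_lit 4, nat_lit 3, nat_lit 0], [[nat_lit 99, nat_lit 99, nat_lit 1, nat_lit 1], [nat_lit 99, nat_lit 1, nat_lit 99, nat_lit 1]])) (.leaf ((nat_lit 13), [nat_lit 2, nat_lit 0, nat_lit 5, nat_lit 3, nat_lit 2, nat_lit 1, nat_lit 4, nat_lit 2, nat_lit 3, nat_lit 2, nat_lit 1, nat_lit 0], [[nat_lit 99, nat_lit 1, nat_lit 99], [nat_lit 1, nat_lit 1]]))))
 (.node (nat_lit 669) (.node (nat_lit 668) (.leaf ((nat_lit 10), [nat_lit 0, nat_lit 5, nat_lit 2, nat_lit 1, nat_lit 4, nat_lit 2, nat_lit 1, nat_lit 0], [[nat_lit 99, nat_lit 1, nat_lit 99, nat_lit 0], [nat_lit 1, nat_lit 99, nat_lit 99, nat_lit 0]])) (.leaf ((nat_lit 13), [nat_lit 4, nat_lit 5, nat_lit 2, nat_lit 1, nat_lit 4, nat_lit 2], [[nat_lit 99, nat_lit 99, nat_lit 0], [nat_lit 1, nat_lit 1]]))) (.node (nat_lit 670) (.leaf ((nat_lit 10), [nat_lit 3, nat_lit 2, nat_lit 1, nat_lit 5, nat_lit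 4, nat_lit 0, nat_lit 4, nat_lit 0, nat_lit 3, nat_lit 2, nat_lit 1, nat_lit 0], [[nat_lit 99, nat_lit 0], [nat_lit 99, nat_lit 99, nat_lit 0, nat_lit 0]])) (.node (nat_lit 671) (.leaf ((nat_lit 11), [nat_lit 4, nat_lit 2, nat_lit 1, nat_lit 4, nat_lit 3, nat_lit 2, nat_lit 1], [[nat_lit 1, nat_lit 99, nat_lit 1, nat_lit 1], [nat_lit 0, nat_lit 0, nat_lit 99, nat_lit 1]])) (.leaf ((nat_lit 11), [nat_lit 5, nat_lit 4, nat_lit 2], [[nat_lit 0, nat_lit 99], [nat_lit 99, nat_lit 99]]))))))))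
 (.node (nat_lit 690) (.node (nat_lit 681) (.node (nat_lit 676) (.node (nat_lit 674) (.node (nat_lit 673) (.leaf ((nat_lit 9), [nat_lit 4, nat_lit 5, nat_lit 4, nat_lit 2, nat_lit 1, nat_lit 4, nat_lit 1], [[nat_lit 0, nat_lit 99, nat_lit 99, nat_lit 1], [nat_lit 99, nat_lit 0, nat_lit 0, nat_lit 99]])) (.leaf ((nat_lit 9), [nat_lit 5, nat_lit 4, nat_lit 5, nat_lit 2, nat_lit 4, nat_lit 3, nat_lit 2, nat_lit 1, nat_lit 0], [[nat_lit 99, nat_lit 99], [nat_lit 99, nat_lit 1, nat_lit 99, nat_lit 1]]))) (.node (nat_lit 675) (.leaf ((nat_lit 9), [nat_lit 2, nat_lit 5, nat_lit 0, nat_lit 4, nat_lit 3], [[nat_lit 99, nat_lit 99, nat_lit 1], [nat_lit 1, nat_lit 99, nat_lit 1, nat_lit 99]])) (.leaf ((nat_lit 9), [nat_lit 5, nat_lit 1, nat_lit 5, nat_lit 4, nat_lit 0, nat_lit 4, nat_lit 1, nat_lit 3, nat_lit 1, nat_lit 0], [[nat_lit 0, nat_lit 99], [nat_lit 1, nat_lit 99, nat_lit 99, nat_lit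 0]]))))
 (.node (nat_lit 678) (.node (nat_lit 677) (.leaf ((nat_lit 10), [nat_lit 4, nat_lit 0, nat_lit 5, nat_lit 2, nat_lit 1, nat_lit 4, nat_lit 3, nat_lit 2, nat_lit 0, nat_lit 3, nat_lit 0], [[nat_lit 0, nat_lit 99, nat_lit 1, nat_lit 99], [nat_lit 99, nat_lit 99, nat_lit 0, nat_lit 99, nat_lit 0]])) (.leaf ((nat_lit 9), [nat_lit 2, nat_lit 1, nat_lit 0, nat_lit 5, nat_lit 2, nat_lit 3], [[nat_lit 0, nat_lit 0, nat_lit 0, nat_lit 99], [nat_lit 99, nat_lit 0, nat_lit 99, nat_lit 1]]))) (.node (nat_lit 679) (.leaf ((nat_lit 9), [nat_lit 2, nat_lit 5, nat_lit 0, nat_lit 4, nat_lit 3], [[nat_lit 99, nat_lit 0, nat_lit 99], [nat_lit 1, nat_lit 99, nat_lit 99, nat_lit 0]])) (.node (nat_lit 680) (.leaf ((nat_lit 9), [nat_lit 3, nat_lit 1, nat_lit 5, nat_lit 2, nat_lit 4, nat_lit 3, nat_lit 0, nat_lit 3, nat_lit 2, nat_lit 1], [[nat_lit 99, nat_lit 99], [nat_lit 99, nat_lit 0, nat_lit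 99, nat_lit 0]])) (.leaf ((nat_lit 9), [nat_lit 2, nat_lit 1, nat_lit 0, nat_lit 5, nat_lit 0, nat_lit 4, nat_lit 0, nat_lit 3], [[nat_lit 1, nat_lit 99, nat_lit 0, nat_lit 0, nat_lit 0], [nat_lit 99, nat_lit 1, nat_lit 1, nat_lit 99, nat_lit 0]]))))))
 (.node (nat_lit 685) (.node (nat_lit 683) (.node (nat_lit 682) (.leaf ((nat_lit 10), [nat_lit 5, nat_lit 4, nat_lit 5, nat_lit 1, nat_lit 0, nat_lit 4, nat_lit 1, nat_lit 3, nat_lit 2, nat_lit 1], [[nat_lit 99, nat_lit 99, nat_lit 0, nat_lit 99], [nat_lit 99, nat_lit 99, nat_lit 99, nat_lit 0, nat_lit 0, nat_lit 0]])) (.leaf ((nat_lit 10), [nat_lit 0, nat_lit 5, nat_lit 1, nat_lit 4, nat_lit 3, nat_lit 0, nat_lit 3, nat_lit 2, nat_lit 1, nat_lit 0], [[nat_lit 0, nat_lit 99, nat_lit 0, nat_lit 0], [nat_lit 99, nat_lit 99, nat_lit 99, nat_lit 0, nat_lit 0, nat_lit 0]]))) (.node (nat_lit 684) (.leaf ((nat_lit 9), [nat_lit 3, nat_lit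 1, nat_lit 5, nat_lit 4, nat_lit 2, nat_lit 1, nat_lit 4, nat_lit 3, nat_lit 0, nat_lit 3, nat_lit 0], [[nat_lit 0, nat_lit 0, nat_lit 99], [nat_lit 1, nat_lit 99, nat_lit 99, nat_lit 1]])) (.leaf ((nat_lit 9), [nat_lit 5, nat_lit 4, nat_lit 5, nat_lit 3, nat_lit 1, nat_lit 4, nat_lit 2, nat_lit 1], [[nat_lit 99, nat_lit 0, nat_lit 99, nat_lit 0], [nat_lit 99, nat_lit 99, nat_lit 1]]))))
 (.node (nat_lit 687) (.node (nat_lit 686) (.leaf ((nat_lit 9), [nat_lit 4, nat_lit 5, nat_lit 2, nat_lit 1, nat_lit 4, nat_lit 3, nat_lit 2, nat_lit 0, nat_lit 3, nat_lit 1, nat_lit 0], [[nat_lit 0, nat_lit 99, nat_lit 0, nat_lit 0, nat_lit 99], [nat_lit 99, nat_lit 0, nat_lit 99, nat_lit 0]])) (.leaf ((nat_lit 9), [nat_lit 4, nat_lit 0, nat_lit 5, nat_lit 3, nat_lit 2, nat_lit 1, nat_lit 4, nat_lit 1, nat_lit 3, nat_lit 0], [[nat_lit 0, nat_lit 0, nat_lit 99], [nat_lit 99, nat_lit 0, nat_lit 99,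 nat_lit 0]]))) (.node (nat_lit 688) (.leaf ((nat_lit 9), [nat_lit 3, nat_lit 1, nat_lit 5, nat_lit 1, nat_lit 0, nat_lit 4, nat_lit 2, nat_lit 0, nat_lit 3, nat_lit 1, nat_lit 0], [[nat_lit 99, nat_lit 99], [nat_lit 99, nat_lit 0, nat_lit 99, nat_lit 0, nat_lit 0]])) (.node (nat_lit 689) (.leaf ((nat_lit 9), [nat_lit 5, nat_lit 4, nat_lit 5, nat_lit 2, nat_lit 0, nat_lit 4, nat_lit 1, nat_lit 3, nat_lit 1, nat_lit 0], [[nat_lit 99, nat_lit 1, nat_lit 99, nat_lit 1], [nat_lit 99, nat_lit 0, nat_lit 99, nat_lit 0]])) (.leaf ((nat_lit 10), [nat_lit 2, nat_lit 1, nat_lit 5, nat_lit 2, nat_lit 4, nat_lit 3, nat_lit 0, nat_lit 3, nat_lit 1, nat_lit 0], [[nat_lit 99, nat_lit 99, nat_lit 0, nat_lit 0], [nat_lit 99, nat_lit 99, nat_lit 1, nat_lit 99, nat_lit 0]])))))))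
 (.node (nat_lit 699) (.node (nat_lit 694) (.node (nat_lit 692) (.node (nat_lit 691) (.leaf ((nat_lit 9), [nat_lit 1, nat_lit 0, nat_lit 5, nat_lit 3, nat_lit 2, nat_lit 1, nat_lit 4, nat_lit 3, nat_lit 0, nat_lit 3, nat_lit 2, nat_lit 1, nat_lit 0], [[nat_lit 1, nat_lit 99, nat_lit 0], [nat_lit 0, nat_lit 99, nat_lit 99]])) (.leaf ((nat_lit 10), [nat_lit 4, nat_lit 5, nat_lit 1, nat_lit 0, nat_lit 4, nat_lit 3, nat_lit 2, nat_lit 0, nat_lit 3, nat_lit 2, nat_lit 1, nat_lit 0], [[nat_lit 1, nat_lit 99, nat_lit 99, nat_lit 0, nat_lit 0], [nat_lit 99, nat_lit 1, nat_lit 99, nat_lit 99]]))) (.node (nat_lit 693) (.leaf ((nat_lit 9), [nat_lit 5, nat_lit 4, nat_lit 5, nat_lit 2, nat_lit 4, nat_lit 3, nat_lit 2, nat_lit 1, nat_lit 0], [[nat_lit 99, nat_lit 0, nat_lit 99, nat_lit 0], [nat_lit 99, nat_lit 99]])) (.leaf ((nat_lit 10), [nat_lit 1, nat_lit 0, nat_lit 5, nat_lit 3, nat_lit 2,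 nat_lit 1, nat_lit 4, nat_lit 2, nat_lit 1, nat_lit 0, nat_lit 3, nat_lit 1, nat_lit 0], [[nat_lit 1, nat_lit 99, nat_lit 99, nat_lit 99, nat_lit 1, nat_lit 1], [nat_lit 99, nat_lit 0, nat_lit 99, nat_lit 1, nat_lit 99]]))))
 (.node (nat_lit 696) (.node (nat_lit 695) (.leaf ((nat_lit 11), [nat_lit 2, nat_lit 1, nat_lit 0, nat_lit 5, nat_lit 2, nat_lit 1, nat_lit 0, nat_lit 4, nat_lit 1, nat_lit 3], [[nat_lit 1, nat_lit 1, nat_lit 1], [nat_lit 99, nat_lit 1, nat_lit 1, nat_lit 99, nat_lit 1]])) (.leaf ((nat_lit 9), [nat_lit 5, nat_lit 4, nat_lit 5, nat_lit 3, nat_lit 1, nat_lit 4, nat_lit 1, nat_lit 3, nat_lit 2], [[nat_lit 99, nat_lit 1, nat_lit 99], [nat_lit 0, nat_lit 99, nat_lit 99, nat_lit 0, nat_lit 0]]))) (.node (nat_lit 697) (.leaf ((nat_lit 11), [nat_lit 2, nat_lit 1, nat_lit 0, nat_lit 5, nat_lit 2, nat_lit 1, nat_lit 0, nat_lit 4, nat_lit 1, nat_lit 3], [[nat_lit 1, nat_lit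 1, nat_lit 1], [nat_lit 99, nat_lit 0, nat_lit 99, nat_lit 0, nat_lit 0]])) (.node (nat_lit 698) (.leaf ((nat_lit 9), [nat_lit 4, nat_lit 2, nat_lit 1, nat_lit 4, nat_lit 2, nat_lit 1, nat_lit 0], [[nat_lit 1, nat_lit 1], [nat_lit 99, nat_lit 0, nat_lit 99, nat_lit 1, nat_lit 1]])) (.leaf ((nat_lit 11), [nat_lit 2, nat_lit 1, nat_lit 5, nat_lit 4, nat_lit 2, nat_lit 1, nat_lit 4, nat_lit 2, nat_lit 3, nat_lit 1], [[nat_lit 99, nat_lit 99, nat_lit 99, nat_lit 99], [nat_lit 0, nat_lit 99, nat_lit 0, nat_lit 0, nat_lit 99, nat_lit 0]]))))))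
 (.node (nat_lit 703) (.node (nat_lit 701) (.node (nat_lit 700) (.leaf ((nat_lit 13), [nat_lit 5, nat_lit 1, nat_lit 5, nat_lit 0, nat_lit 4, nat_lit 1, nat_lit 3, nat_lit 1, nat_lit 0], [[nat_lit 99, nat_lit 99, nat_lit 1, nat_lit 99, nat_lit 99], [nat_lit 1, nat_lit 1]])) (.leaf ((nat_lit 11), [nat_lit 2, nat_lit 1, nat_lit 0, nat_lit 5, nat_lit 2, nat_lit 1, nat_lit 0, nat_lit 4, nat_lit 1, nat_lit 3], [[nat_lit 1, nat_lit 1, nat_lit 1], [nat_lit 99, nat_lit 99, nat_lit 0]]))) (.node (nat_lit 702) (.leaf ((nat_lit 9), [nat_lit 2, nat_lit 1, nat_lit 0, nat_lit 4, nat_lit 3, nat_lit 2, nat_lit 3, nat_lit 1, nat_lit 0], [[nat_lit 99, nat_lit 99, nat_lit 99, nat_lit 0, nat_lit 99], [nat_lit 1, nat_lit 99, nat_lit 0, nat_lit 99, nat_lit 0]])) (.leaf ((nat_lit 10), [nat_lit 3, nat_lit 2, nat_lit 1, nat_lit 5, nat_lit 0, nat_lit 4, nat_lit 3, nat_lit 1, nat_lit 0], [[nat_lit 99, nat_lit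 1, nat_lit 99, nat_lit 0], [nat_lit 0, nat_lit 99, nat_lit 99, nat_lit 99]]))))
 (.node (nat_lit 705) (.node (nat_lit 704) (.leaf ((nat_lit 12), [nat_lit 1, nat_lit 5, nat_lit 1, nat_lit 3, nat_lit 0], [[nat_lit 1, nat_lit 99, nat_lit 99, nat_lit 0, nat_lit 99, nat_lit 0], [nat_lit 99, nat_lit 1, nat_lit 99, nat_lit 99]])) (.leaf ((nat_lit 13), [nat_lit 4, nat_lit 5, nat_lit 4, nat_lit 2, nat_lit 1, nat_lit 0, nat_lit 3, nat_lit 1, nat_lit 0], [[nat_lit 1, nat_lit 99, nat_lit 0, nat_lit 99, nat_lit 0], [nat_lit 0, nat_lit 99, nat_lit 99, nat_lit 99]]))) (.node (nat_lit 706) (.leaf ((nat_lit 13), [nat_lit 0, nat_lit 5, nat_lit 1, nat_lit 3, nat_lit 2, nat_lit 1], [[nat_lit 1, nat_lit 99, nat_lit 0, nat_lit 0, nat_lit 99, nat_lit 0], [nat_lit 99, nat_lit 1, nat_lit 99, nat_lit 99, nat_lit 1]])) (.node (nat_lit 707) (.leaf ((nat_lit 10), [nat_lit 4, nat_lit 5, nat_lit 4, nat_lit 2,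 nat_lit 3, nat_lit 1, nat_lit 0], [[nat_lit 1, nat_lit 1, nat_lit 99, nat_lit 99], [nat_lit 99, nat_lit 99, nat_lit 1, nat_lit 99, nat_lit 1]])) (.leaf ((nat_lit 9), [nat_lit 0, nat_lit 5, nat_lit 4, nat_lit 2, nat_lit 1, nat_lit 3], [[nat_lit 99, nat_lit 99, nat_lit 1, nat_lit 99, nat_lit 0], [nat_lit 99, nat_lit 99]]))))))))))
noncomputable def n1CE_5 : Tr (ℕ × List ℕ × List (List ℕ)) := (.node (nat_lit 779) (.node (nat_lit 743) (.node (nat_lit 725) (.node (nat_lit 716) (.node (nat_lit 712) (.node (nat_lit 710) (.node (nat_lit 709) (.leaf ((nat_lit 12), [nat_lit 2, nat_lit 5, nat_lit 0, nat_lit 4, nat_lit 3, nat_lit 0, nat_lit 3, nat_lit 2, nat_lit 0], [[nat_lit 99, nat_lit 99, nat_lit 0, nat_lit 99], [nat_lit 0, nat_lit 99, nat_lit 0]])) (.leaf ((nat_lit 11), [nat_lit 5, nat_lit 4, nat_lit 2, nat_lit 1, nat_lit 4, nat_lit 3, nat_lit 0, nat_lit 3, nat_lit 2], [[nat_lit 99, nat_lit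 99, nat_lit 99, nat_lit 0, nat_lit 0, nat_lit 0], [nat_lit 99, nat_lit 1, nat_lit 1, nat_lit 99, nat_lit 99]]))) (.node (nat_lit 711) (.leaf ((nat_lit 9), [nat_lit 4, nat_lit 2, nat_lit 1, nat_lit 4, nat_lit 2, nat_lit 1, nat_lit 0], [[nat_lit 1, nat_lit 1], [nat_lit 99, nat_lit 0, nat_lit 0, nat_lit 99, nat_lit 1]])) (.leaf ((nat_lit 9), [nat_lit 0, nat_lit 5, nat_lit 4, nat_lit 1, nat_lit 3, nat_lit 1, nat_lit 0], [[nat_lit 1, nat_lit 99, nat_lit 99, nat_lit 0, nat_lit 0], [nat_lit 99, nat_lit 1, nat_lit 99, nat_lit 1, nat_lit 1]]))))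
 (.node (nat_lit 714) (.node (nat_lit 713) (.leaf ((nat_lit 9), [nat_lit 4, nat_lit 2, nat_lit 1, nat_lit 4, nat_lit 2, nat_lit 1, nat_lit 0], [[nat_lit 1, nat_lit 1], [nat_lit 99, nat_lit 99, nat_lit 1, nat_lit 1, nat_lit 1]])) (.leaf ((nat_lit 11), [nat_lit 2, nat_lit 1, nat_lit 0, nat_lit 5, nat_lit 2, nat_lit 1, nat_lit 0, nat_lit 4, nat_lit 1, nat_lit 3], [[nat_lit 1, nat_lit 1, nat_lit 1], [nat_lit 99, nat_lit 1, nat_lit 99]]))) (.node (nat_lit 715) (.leaf ((nat_lit 13), [nat_lit 4, nat_lit 0, nat_lit 4, nat_lit 3, nat_lit 2, nat_lit 0, nat_lit 3, nat_lit 2, nat_lit 0], [[nat_lit 99, nat_lit 0, nat_lit 0, nat_lit 99], [nat_lit 99, nat_lit 99, nat_lit 1, nat_lit 1]])) (.leaf ((nat_lit 11), [nat_lit 2, nat_lit 1, nat_lit 5, nat_lit 3, nat_lit 1, nat_lit 4, nat_lit 1, nat_lit 0, nat_lit 3, nat_lit 2, nat_lit 1], [[nat_lit 0, nat_lit 0], [nat_lit 99, nat_lit 99]])))))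
 (.node (nat_lit 720) (.node (nat_lit 718) (.node (nat_lit 717) (.leaf ((nat_lit 11), [nat_lit 2, nat_lit 1, nat_lit 0, nat_lit 5, nat_lit 3, nat_lit 1, nat_lit 4, nat_lit 0, nat_lit 3, nat_lit 1], [[nat_lit 99, nat_lit 1, nat_lit 1, nat_lit 99], [nat_lit 0, nat_lit 99, nat_lit 0, nat_lit 99, nat_lit 0, nat_lit 0]])) (.leaf ((nat_lit 10), [nat_lit 5, nat_lit 4, nat_lit 5, nat_lit 2, nat_lit 1, nat_lit 4, nat_lit 0, nat_lit 3], [[nat_lit 99, nat_lit 1, nat_lit 1], [nat_lit 1, nat_lit 1, nat_lit 99, nat_lit 0, nat_lit 0]]))) (.node (nat_lit 719) (.leaf ((nat_lit 10), [nat_lit 4, nat_lit 0, nat_lit 5, nat_lit 2, nat_lit 4, nat_lit 3, nat_lit 2, nat_lit 3, nat_lit 2, nat_lit 1], [[nat_lit 0, nat_lit 99, nat_lit 99, nat_lit 0, nat_lit 0], [nat_lit 1, nat_lit 99, nat_lit 0, nat_lit 99]])) (.leaf ((nat_lit 13), [nat_lit 3, nat_lit 1, nat_lit 5, nat_lit 3, nat_lit 1, nat_lit 0, nat_lit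 4, nat_lit 2, nat_lit 1, nat_lit 0, nat_lit 3, nat_lit 2, nat_lit 0], [[nat_lit 99, nat_lit 99, nat_lit 0, nat_lit 99, nat_lit 99], [nat_lit 0, nat_lit 0, nat_lit 99, nat_lit 99, nat_lit 0, nat_lit 0]]))))
 (.node (nat_lit 722) (.node (nat_lit 721) (.leaf ((nat_lit 12), [nat_lit 2, nat_lit 1, nat_lit 0, nat_lit 5, nat_lit 2, nat_lit 1, nat_lit 0, nat_lit 4, nat_lit 1, nat_lit 0, nat_lit 3, nat_lit 2, nat_lit 0], [[nat_lit 99, nat_lit 1, nat_lit 99, nat_lit 1, nat_lit 1], [nat_lit 0, nat_lit 99, nat_lit 99, nat_lit 1, nat_lit 1]])) (.leaf ((nat_lit 10), [nat_lit 5, nat_lit 4, nat_lit 5, nat_lit 2, nat_lit 1, nat_lit 4, nat_lit 0, nat_lit 3], [[nat_lit 99, nat_lit 1, nat_lit 1, nat_lit 1], [nat_lit 1, nat_lit 1, nat_lit 99, nat_lit 0]]))) (.node (nat_lit 723) (.leaf ((nat_lit 12), [nat_lit 4, nat_lit 5, nat_lit 1, nat_lit 4, nat_lit 3, nat_lit 0, nat_lit 3, nat_lit 2], [[nat_lit 99,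 nat_lit 99, nat_lit 0, nat_lit 99, nat_lit 0], [nat_lit 1, nat_lit 1, nat_lit 1, nat_lit 99]])) (.node (nat_lit 724) (.leaf ((nat_lit 12), [nat_lit 2, nat_lit 0, nat_lit 5, nat_lit 1, nat_lit 0, nat_lit 4, nat_lit 3, nat_lit 2, nat_lit 0, nat_lit 3, nat_lit 2, nat_lit 1, nat_lit 0], [[nat_lit 99, nat_lit 99, nat_lit 0], [nat_lit 99, nat_lit 0, nat_lit 99, nat_lit 0, nat_lit 0]])) (.leaf ((nat_lit 10), [nat_lit 2, nat_lit 1, nat_lit 0, nat_lit 5, nat_lit 3, nat_lit 0, nat_lit 3, nat_lit 1, nat_lit 0], [[nat_lit 0, nat_lit 0, nat_lit 99, nat_lit 1], [nat_lit 99, nat_lit 0, nat_lit 0, nat_lit 0]])))))))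
 (.node (nat_lit 734) (.node (nat_lit 729) (.node (nat_lit 727) (.node (nat_lit 726) (.leaf ((nat_lit 11), [nat_lit 1, nat_lit 0, nat_lit 5, nat_lit 4, nat_lit 0, nat_lit 4, nat_lit 3, nat_lit 0, nat_lit 3, nat_lit 0], [[nat_lit 99, nat_lit 1, nat_lit 1, nat_lit 99, nat_lit 0, nat_lit 0], [nat_lit 99, nat_lit 0, nat_lit 99, nat_lit 0, nat_lit 0, nat_lit 0]])) (.leaf ((nat_lit 13), [nat_lit 2, nat_lit 1, nat_lit 5, nat_lit 0, nat_lit 4, nat_lit 0, nat_lit 3, nat_lit 2, nat_lit 1, nat_lit 0], [[nat_lit 99, nat_lit 1, nat_lit 99, nat_lit 99, nat_lit 0], [nat_lit 0, nat_lit 99, nat_lit 99, nat_lit 1]]))) (.node (nat_lit 728) (.leaf ((nat_lit 12), [nat_lit 2, nat_lit 0, nat_lit 5, nat_lit 1, nat_lit 0, nat_lit 4, nat_lit 3, nat_lit 2, nat_lit 0, nat_lit 3, nat_lit 2, nat_lit 1, nat_lit 0], [[nat_lit 99, nat_lit 1, nat_lit 99], [nat_lit 99, nat_lit 99, nat_lit 0]])) (.leaf ((nat_lit 10),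 [nat_lit 3, nat_lit 1, nat_lit 5, nat_lit 4, nat_lit 2, nat_lit 1, nat_lit 4, nat_lit 3, nat_lit 2, nat_lit 1], [[nat_lit 0, nat_lit 99, nat_lit 1, nat_lit 1], [nat_lit 1, nat_lit 99, nat_lit 0, nat_lit 0]]))))
 (.node (nat_lit 731) (.node (nat_lit 730) (.leaf ((nat_lit 12), [nat_lit 4, nat_lit 5, nat_lit 1, nat_lit 4, nat_lit 3, nat_lit 0, nat_lit 3, nat_lit 2], [[nat_lit 99, nat_lit 1, nat_lit 99, nat_lit 99], [nat_lit 1, nat_lit 1, nat_lit 1, nat_lit 99, nat_lit 1]])) (.leaf ((nat_lit 10), [nat_lit 3, nat_lit 1, nat_lit 5, nat_lit 4, nat_lit 2, nat_lit 1, nat_lit 4, nat_lit 3, nat_lit 2, nat_lit 1], [[nat_lit 0, nat_lit 99, nat_lit 1], [nat_lit 1, nat_lit 99, nat_lit 0, nat_lit 0, nat_lit 0]]))) (.node (nat_lit 732) (.leaf ((nat_lit 11), [nat_lit 2, nat_lit 5, nat_lit 3, nat_lit 1, nat_lit 4, nat_lit 1, nat_lit 0], [[nat_lit 1, nat_lit 1, nat_lit 1, nat_lit 99], [nat_lit 99,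 nat_lit 99, nat_lit 1, nat_lit 1, nat_lit 99, nat_lit 0]])) (.node (nat_lit 733) (.leaf ((nat_lit 11), [nat_lit 2, nat_lit 1, nat_lit 4, nat_lit 3, nat_lit 0, nat_lit 3, nat_lit 1, nat_lit 0], [[nat_lit 99, nat_lit 99, nat_lit 0, nat_lit 99], [nat_lit 99, nat_lit 99, nat_lit 1, nat_lit 1]])) (.leaf ((nat_lit 10), [nat_lit 5, nat_lit 1, nat_lit 5, nat_lit 3, nat_lit 1, nat_lit 4], [[nat_lit 99, nat_lit 1, nat_lit 99, nat_lit 0, nat_lit 0], [nat_lit 1, nat_lit 1, nat_lit 99, nat_lit 99]]))))))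
 (.node (nat_lit 738) (.node (nat_lit 736) (.node (nat_lit 735) (.leaf ((nat_lit 10), [nat_lit 5, nat_lit 4, nat_lit 5, nat_lit 2, nat_lit 1, nat_lit 4, nat_lit 0, nat_lit 3], [[nat_lit 99, nat_lit 0, nat_lit 0, nat_lit 0], [nat_lit 1, nat_lit 1, nat_lit 99]])) (.leaf ((nat_lit 11), [nat_lit 0, nat_lit 5, nat_lit 3, nat_lit 1, nat_lit 0, nat_lit 4, nat_lit 1, nat_lit 3, nat_lit 0], [[nat_lit 99, nat_lit 99, nat_lit 1], [nat_lit 99, nat_lit 1]]))) (.node (nat_lit 737) (.leaf ((nat_lit 11), [nat_lit 3, nat_lit 1, nat_lit 5, nat_lit 2, nat_lit 1, nat_lit 4, nat_lit 3, nat_lit 2, nat_lit 3, nat_lit 0], [[nat_lit 0, nat_lit 0], [nat_lit 99, nat_lit 0]])) (.leaf ((nat_lit 11), [nat_lit 2, nat_lit 1, nat_lit 0, nat_lit 5, nat_lit 1, nat_lit 4, nat_lit 1, nat_lit 0, nat_lit 3], [[nat_lit 1, nat_lit 99, nat_lit 0], [nat_lit 0, nat_lit 99]]))))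
 (.node (nat_lit 740) (.node (nat_lit 739) (.leaf ((nat_lit 11), [nat_lit 2, nat_lit 1, nat_lit 0, nat_lit 5, nat_lit 2, nat_lit 1, nat_lit 4, nat_lit 3], [[nat_lit 1, nat_lit 99], [nat_lit 99, nat_lit 0, nat_lit 0, nat_lit 0]])) (.leaf ((nat_lit 11), [nat_lit 5, nat_lit 3, nat_lit 1, nat_lit 0, nat_lit 4, nat_lit 3, nat_lit 2, nat_lit 1], [[nat_lit 1, nat_lit 1, nat_lit 1], [nat_lit 99, nat_lit 0]]))) (.node (nat_lit 741) (.leaf ((nat_lit 11), [nat_lit 2, nat_lit 1, nat_lit 0, nat_lit 5, nat_lit 1, nat_lit 0, nat_lit 4, nat_lit 3], [[nat_lit 0], [nat_lit 99, nat_lit 0, nat_lit 0]])) (.node (nat_lit 742) (.leaf ((nat_lit 11), [nat_lit 2, nat_lit 1, nat_lit 0, nat_lit 5, nat_lit 1, nat_lit 4, nat_lit 0, nat_lit 3], [[nat_lit 0, nat_lit 99], [nat_lit 99, nat_lit 0, nat_lit 0]])) (.leaf ((nat_lit 11), [nat_lit 4, nat_lit 2, nat_lit 1, nat_lit 4, nat_lit 2, nat_lit 3, nat_lit 1], [[nat_lit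 99, nat_lit 1, nat_lit 1], [nat_lit 0, nat_lit 99, nat_lit 0]]))))))))
 (.node (nat_lit 761) (.node (nat_lit 752) (.node (nat_lit 747) (.node (nat_lit 745) (.node (nat_lit 744) (.leaf ((nat_lit 11), [nat_lit 2, nat_lit 1, nat_lit 0, nat_lit 5, nat_lit 1, nat_lit 0, nat_lit 4, nat_lit 3], [[nat_lit 0], [nat_lit 99]])) (.leaf ((nat_lit 11), [nat_lit 5, nat_lit 3, nat_lit 1, nat_lit 0, nat_lit 4, nat_lit 3, nat_lit 2, nat_lit 1], [[nat_lit 1, nat_lit 1, nat_lit 1], [nat_lit 99, nat_lit 1]]))) (.node (nat_lit 746) (.leaf ((nat_lit 11), [nat_lit 3, nat_lit 1, nat_lit 5, nat_lit 2, nat_lit 1, nat_lit 4, nat_lit 3, nat_lit 2, nat_lit 3, nat_lit 0], [[nat_lit 0, nat_lit 0], [nat_lit 99]])) (.leaf ((nat_lit 11), [nat_lit 2, nat_lit 1, nat_lit 0, nat_lit 5, nat_lit 1, nat_lit 0, nat_lit 4, nat_lit 3], [[nat_lit 0], [nat_lit 99, nat_lit 0]]))))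
 (.node (nat_lit 749) (.node (nat_lit 748) (.leaf ((nat_lit 11), [nat_lit 0, nat_lit 5, nat_lit 4, nat_lit 2, nat_lit 1, nat_lit 4, nat_lit 3, nat_lit 2, nat_lit 0, nat_lit 3, nat_lit 1], [[nat_lit 0], [nat_lit 99, nat_lit 99]])) (.leaf ((nat_lit 11), [nat_lit 5, nat_lit 3, nat_lit 1, nat_lit 0, nat_lit 4, nat_lit 3, nat_lit 2, nat_lit 1], [[nat_lit 1, nat_lit 1, nat_lit 1], [nat_lit 99, nat_lit 1, nat_lit 1]]))) (.node (nat_lit 750) (.leaf ((nat_lit 11), [nat_lit 3, nat_lit 1, nat_lit 5, nat_lit 2, nat_lit 1, nat_lit 4, nat_lit 3, nat_lit 2, nat_lit 3, nat_lit 0], [[nat_lit 0, nat_lit 0], [nat_lit 99, nat_lit 1, nat_lit 1]])) (.node (nat_lit 751) (.leaf ((nat_lit 11), [nat_lit 2, nat_lit 1, nat_lit 0, nat_lit 5, nat_lit 1, nat_lit 0, nat_lit 4, nat_lit 3], [[nat_lit 0], [nat_lit 99, nat_lit 1]])) (.leaf ((nat_lit 11), [nat_lit 3, nat_lit 1, nat_lit 5, nat_lit 2, nat_lit 1, nat_lit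 4, nat_lit 3, nat_lit 2, nat_lit 3, nat_lit 0], [[nat_lit 0, nat_lit 0], [nat_lit 99, nat_lit 1]]))))))
 (.node (nat_lit 756) (.node (nat_lit 754) (.node (nat_lit 753) (.leaf ((nat_lit 11), [nat_lit 3, nat_lit 1, nat_lit 5, nat_lit 0, nat_lit 3, nat_lit 2, nat_lit 1], [[nat_lit 99, nat_lit 1], [nat_lit 1, nat_lit 99, nat_lit 0]])) (.leaf ((nat_lit 11), [nat_lit 2, nat_lit 1, nat_lit 0, nat_lit 5, nat_lit 1, nat_lit 0, nat_lit 4, nat_lit 3], [[nat_lit 0], [nat_lit 99, nat_lit 1, nat_lit 1]]))) (.node (nat_lit 755) (.leaf ((nat_lit 11), [nat_lit 5, nat_lit 3, nat_lit 1, nat_lit 0, nat_lit 4, nat_lit 3, nat_lit 2, nat_lit 1], [[nat_lit 1, nat_lit 1, nat_lit 1], [nat_lit 99]])) (.leaf ((nat_lit 11), [nat_lit 3, nat_lit 1, nat_lit 5, nat_lit 2, nat_lit 1, nat_lit 4, nat_lit 3, nat_lit 2, nat_lit 3, nat_lit 0], [[nat_lit 0, nat_lit 0], [nat_lit 99, nat_lit 0, nat_lit 0]]))))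
 (.node (nat_lit 758) (.node (nat_lit 757) (.leaf ((nat_lit 9), [nat_lit 2, nat_lit 1, nat_lit 0, nat_lit 5, nat_lit 1, nat_lit 4, nat_lit 0, nat_lit 3, nat_lit 0], [[nat_lit 0, nat_lit 0, nat_lit 0], [nat_lit 99, nat_lit 0, nat_lit 0]])) (.leaf ((nat_lit 9), [nat_lit 2, nat_lit 0, nat_lit 4, nat_lit 3, nat_lit 2, nat_lit 0], [[nat_lit 1], [nat_lit 99, nat_lit 0, nat_lit 0]]))) (.node (nat_lit 759) (.leaf ((nat_lit 9), [nat_lit 4, nat_lit 0, nat_lit 4, nat_lit 1, nat_lit 3, nat_lit 1], [[nat_lit 0, nat_lit 0, nat_lit 0], [nat_lit 99, nat_lit 99]])) (.node (nat_lit 760) (.leaf ((nat_lit 9), [nat_lit 2, nat_lit 0, nat_lit 4, nat_lit 3, nat_lit 2, nat_lit 0], [[nat_lit 1], [nat_lit 99, nat_lit 1, nat_lit 1]])) (.leaf ((nat_lit 9), [nat_lit 2, nat_lit 1, nat_lit 5, nat_lit 3, nat_lit 2, nat_lit 1, nat_lit 4, nat_lit 3, nat_lit 2, nat_lit 0, nat_lit 3, nat_lit 2], [[nat_lit 1, nat_lit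 1], [nat_lit 99]])))))))
 (.node (nat_lit 770) (.node (nat_lit 765) (.node (nat_lit 763) (.node (nat_lit 762) (.leaf ((nat_lit 9), [nat_lit 4, nat_lit 0, nat_lit 4, nat_lit 1, nat_lit 3, nat_lit 1], [[nat_lit 0, nat_lit 0, nat_lit 0], [nat_lit 0, nat_lit 99]])) (.leaf ((nat_lit 9), [nat_lit 2, nat_lit 1, nat_lit 5, nat_lit 3, nat_lit 2, nat_lit 1, nat_lit 4, nat_lit 3, nat_lit 2, nat_lit 0, nat_lit 3, nat_lit 2], [[nat_lit 1, nat_lit 1], [nat_lit 99, nat_lit 0, nat_lit 0, nat_lit 0]]))) (.node (nat_lit 764) (.leaf ((nat_lit 9), [nat_lit 4, nat_lit 0, nat_lit 4, nat_lit 1, nat_lit 3, nat_lit 1], [[nat_lit 0, nat_lit 0, nat_lit 0], [nat_lit 99, nat_lit 99, nat_lit 0, nat_lit 0]])) (.leaf ((nat_lit 9), [nat_lit 3, nat_lit 1, nat_lit 5, nat_lit 0, nat_lit 3, nat_lit 2, nat_lit 1, nat_lit 0], [[nat_lit 0, nat_lit 0, nat_lit 0], [nat_lit 1, nat_lit 99]]))))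
 (.node (nat_lit 767) (.node (nat_lit 766) (.leaf ((nat_lit 9), [nat_lit 3, nat_lit 1, nat_lit 5, nat_lit 0, nat_lit 3, nat_lit 2, nat_lit 1, nat_lit 0], [[nat_lit 0, nat_lit 0, nat_lit 0], [nat_lit 99, nat_lit 99]])) (.leaf ((nat_lit 9), [nat_lit 2, nat_lit 0, nat_lit 4, nat_lit 3, nat_lit 2, nat_lit 0], [[nat_lit 1], [nat_lit 99, nat_lit 0]]))) (.node (nat_lit 768) (.leaf ((nat_lit 9), [nat_lit 2, nat_lit 1, nat_lit 0, nat_lit 5, nat_lit 1, nat_lit 4, nat_lit 0, nat_lit 3, nat_lit 0], [[nat_lit 0, nat_lit 0, nat_lit 0], [nat_lit 99]])) (.node (nat_lit 769) (.leaf ((nat_lit 9), [nat_lit 3, nat_lit 1, nat_lit 5, nat_lit 2, nat_lit 1, nat_lit 0, nat_lit 4, nat_lit 3, nat_lit 2, nat_lit 0, nat_lit 3, nat_lit 0], [[nat_lit 1], [nat_lit 99, nat_lit 99]])) (.leaf ((nat_lit 9), [nat_lit 0, nat_lit 5, nat_lit 2, nat_lit 1, nat_lit 0, nat_lit 4, nat_lit 3, nat_lit 2, nat_lit 3, nat_lit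 2, nat_lit 0], [[nat_lit 1, nat_lit 99, nat_lit 1], [nat_lit 99, nat_lit 1, nat_lit 1, nat_lit 1]]))))))
 (.node (nat_lit 774) (.node (nat_lit 772) (.node (nat_lit 771) (.leaf ((nat_lit 9), [nat_lit 2, nat_lit 0, nat_lit 4, nat_lit 3, nat_lit 2, nat_lit 0], [[nat_lit 1], [nat_lit 99, nat_lit 1]])) (.leaf ((nat_lit 9), [nat_lit 2, nat_lit 1, nat_lit 0, nat_lit 5, nat_lit 1, nat_lit 4, nat_lit 0, nat_lit 3, nat_lit 0], [[nat_lit 0, nat_lit 0, nat_lit 0], [nat_lit 99, nat_lit 1, nat_lit 1]]))) (.node (nat_lit 773) (.leaf ((nat_lit 9), [nat_lit 2, nat_lit 0, nat_lit 4, nat_lit 3, nat_lit 2, nat_lit 0], [[nat_lit 1], [nat_lit 99]])) (.leaf ((nat_lit 9), [nat_lit 2, nat_lit 1, nat_lit 5, nat_lit 3, nat_lit 2, nat_lit 1, nat_lit 4, nat_lit 3, nat_lit 2, nat_lit 0, nat_lit 3, nat_lit 2], [[nat_lit 1, nat_lit 1], [nat_lit 99, nat_lit 0]]))))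
 (.node (nat_lit 776) (.node (nat_lit 775) (.leaf ((nat_lit 9), [nat_lit 2, nat_lit 1, nat_lit 5, nat_lit 3, nat_lit 1, nat_lit 4, nat_lit 1, nat_lit 0, nat_lit 3], [[nat_lit 99, nat_lit 1], [nat_lit 99, nat_lit 99]])) (.leaf ((nat_lit 9), [nat_lit 2, nat_lit 1, nat_lit 5, nat_lit 3, nat_lit 2, nat_lit 1, nat_lit 4, nat_lit 3, nat_lit 2, nat_lit 0, nat_lit 3, nat_lit 2], [[nat_lit 1, nat_lit 1], [nat_lit 99, nat_lit 1]]))) (.node (nat_lit 777) (.leaf ((nat_lit 9), [nat_lit 2, nat_lit 0, nat_lit 4, nat_lit 3, nat_lit 2, nat_lit 0], [[nat_lit 1], [nat_lit 99, nat_lit 0, nat_lit 0, nat_lit 0]])) (.node (nat_lit 778) (.leaf ((nat_lit 11), [nat_lit 3, nat_lit 2, nat_lit 1, nat_lit 5, nat_lit 4, nat_lit 2, nat_lit 1, nat_lit 4, nat_lit 2, nat_lit 3, nat_lit 2], [[nat_lit 99, nat_lit 99, nat_lit 1, nat_lit 1, nat_lit 1], [nat_lit 99, nat_lit 0, nat_lit 99, nat_lit 1, nat_lit 99]])) (.leaf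 ((nat_lit 9), [nat_lit 0, nat_lit 5, nat_lit 3, nat_lit 2, nat_lit 1, nat_lit 4, nat_lit 1, nat_lit 3], [[nat_lit 0, nat_lit 0, nat_lit 0], [nat_lit 99, nat_lit 99, nat_lit 99]])))))))))
 (.node (nat_lit 814) (.node (nat_lit 796) (.node (nat_lit 787) (.node (nat_lit 783) (.node (nat_lit 781) (.node (nat_lit 780) (.leaf ((nat_lit 11), [nat_lit 3, nat_lit 2, nat_lit 1, nat_lit 5, nat_lit 3, nat_lit 1, nat_lit 4, nat_lit 1, nat_lit 0, nat_lit 3, nat_lit 2, nat_lit 1], [[nat_lit 99, nat_lit 1, nat_lit 99, nat_lit 1, nat_lit 99], [nat_lit 1, nat_lit 99, nat_lit 99, nat_lit 99, nat_lit 1]])) (.leaf ((nat_lit 11), [nat_lit 2, nat_lit 5, nat_lit 4, nat_lit 3, nat_lit 2, nat_lit 0, nat_lit 3, nat_lit 2, nat_lit 1], [[nat_lit 1, nat_lit 99, nat_lit 0, nat_lit 0, nat_lit 0], [nat_lit 99, nat_lit 0, nat_lit 99, nat_lit 1]]))) (.node (nat_lit 782) (.leaf ((nat_lit 12), [nat_lit 3, nat_lit 1,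 nat_lit 5, nat_lit 2, nat_lit 1, nat_lit 0, nat_lit 4, nat_lit 3, nat_lit 2, nat_lit 0, nat_lit 3, nat_lit 2], [[nat_lit 99, nat_lit 1, nat_lit 99, nat_lit 99], [nat_lit 0, nat_lit 99, nat_lit 1, nat_lit 1, nat_lit 99, nat_lit 0]])) (.leaf ((nat_lit 12), [nat_lit 5, nat_lit 1, nat_lit 5, nat_lit 4, nat_lit 2, nat_lit 1, nat_lit 4, nat_lit 1, nat_lit 0, nat_lit 3, nat_lit 2, nat_lit 1, nat_lit 0], [[nat_lit 99, nat_lit 99, nat_lit 0, nat_lit 99, nat_lit 0], [nat_lit 0, nat_lit 99, nat_lit 99]]))))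
 (.node (nat_lit 785) (.node (nat_lit 784) (.leaf ((nat_lit 11), [nat_lit 3, nat_lit 1, nat_lit 5, nat_lit 2, nat_lit 4, nat_lit 3], [[nat_lit 99, nat_lit 99, nat_lit 99], [nat_lit 1, nat_lit 99, nat_lit 99, nat_lit 1]])) (.leaf ((nat_lit 11), [nat_lit 2, nat_lit 5, nat_lit 4, nat_lit 3, nat_lit 2, nat_lit 0, nat_lit 3, nat_lit 2, nat_lit 1], [[nat_lit 1, nat_lit 99, nat_lit 0, nat_lit 0], [nat_lit 99, nat_lit 99, nat_lit 1, nat_lit 1]]))) (.node (nat_lit 786) (.leaf ((nat_lit 11), [nat_lit 3, nat_lit 2, nat_lit 1, nat_lit 5, nat_lit 2, nat_lit 0, nat_lit 4, nat_lit 3, nat_lit 2, nat_lit 3, nat_lit 2, nat_lit 1, nat_lit 0], [[nat_lit 0, nat_lit 99, nat_lit 1, nat_lit 1, nat_lit 1], [nat_lit 1, nat_lit 99, nat_lit 0, nat_lit 99, nat_lit 0]])) (.leaf ((nat_lit 10), [nat_lit 2, nat_lit 1, nat_lit 0, nat_lit 5, nat_lit 0, nat_lit 4, nat_lit 3, nat_lit 0, nat_lit 3, nat_lit 2, nat_lit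 1], [[nat_lit 1, nat_lit 99, nat_lit 99, nat_lit 1], [nat_lit 0, nat_lit 0, nat_lit 99, nat_lit 99]])))))
 (.node (nat_lit 791) (.node (nat_lit 789) (.node (nat_lit 788) (.leaf ((nat_lit 11), [nat_lit 2, nat_lit 1, nat_lit 0, nat_lit 5, nat_lit 1, nat_lit 0, nat_lit 4, nat_lit 3, nat_lit 0, nat_lit 3], [[nat_lit 1, nat_lit 1, nat_lit 99, nat_lit 0, nat_lit 0], [nat_lit 99, nat_lit 0, nat_lit 99, nat_lit 99, nat_lit 1]])) (.leaf ((nat_lit 12), [nat_lit 5, nat_lit 1, nat_lit 5, nat_lit 4, nat_lit 2, nat_lit 1, nat_lit 4, nat_lit 1, nat_lit 0, nat_lit 3, nat_lit 2, nat_lit 1, nat_lit 0], [[nat_lit 99, nat_lit 1, nat_lit 99, nat_lit 99], [nat_lit 0, nat_lit 99, nat_lit 1, nat_lit 99, nat_lit 1]]))) (.node (nat_lit 790) (.leaf ((nat_lit 9), [nat_lit 1, nat_lit 5, nat_lit 2, nat_lit 4, nat_lit 2, nat_lit 0, nat_lit 3, nat_lit 2, nat_lit 0], [[nat_lit 99, nat_lit 99, nat_lit 1, nat_lit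 99, nat_lit 99], [nat_lit 99, nat_lit 0, nat_lit 99, nat_lit 0]])) (.leaf ((nat_lit 11), [nat_lit 5, nat_lit 4, nat_lit 5, nat_lit 1, nat_lit 0, nat_lit 4, nat_lit 2, nat_lit 1, nat_lit 0, nat_lit 3, nat_lit 2], [[nat_lit 1, nat_lit 1, nat_lit 1], [nat_lit 99, nat_lit 99, nat_lit 0, nat_lit 99, nat_lit 0]]))))
 (.node (nat_lit 793) (.node (nat_lit 792) (.leaf ((nat_lit 11), [nat_lit 2, nat_lit 5, nat_lit 4, nat_lit 3, nat_lit 2, nat_lit 0, nat_lit 3, nat_lit 2, nat_lit 1], [[nat_lit 1, nat_lit 99, nat_lit 1, nat_lit 1, nat_lit 1], [nat_lit 99, nat_lit 0, nat_lit 0, nat_lit 99]])) (.leaf ((nat_lit 11), [nat_lit 3, nat_lit 2, nat_lit 1, nat_lit 5, nat_lit 2, nat_lit 0, nat_lit 4, nat_lit 3, nat_lit 2, nat_lit 3, nat_lit 2, nat_lit 1, nat_lit 0], [[nat_lit 0, nat_lit 99, nat_lit 0, nat_lit 0, nat_lit 0], [nat_lit 1, nat_lit 99, nat_lit 99]]))) (.node (nat_lit 794) (.leaf ((nat_lit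 11), [nat_lit 1, nat_lit 5, nat_lit 2, nat_lit 1, nat_lit 4, nat_lit 1, nat_lit 3, nat_lit 0], [[nat_lit 99, nat_lit 0, nat_lit 99, nat_lit 99, nat_lit 99], [nat_lit 0, nat_lit 99, nat_lit 0, nat_lit 99, nat_lit 0, nat_lit 0]])) (.node (nat_lit 795) (.leaf ((nat_lit 9), [nat_lit 0, nat_lit 5, nat_lit 1, nat_lit 4, nat_lit 2, nat_lit 1, nat_lit 3, nat_lit 1], [[nat_lit 1, nat_lit 99, nat_lit 0, nat_lit 0, nat_lit 99], [nat_lit 0, nat_lit 99, nat_lit 99, nat_lit 99, nat_lit 1]])) (.leaf ((nat_lit 12), [nat_lit 4, nat_lit 0, nat_lit 4, nat_lit 0, nat_lit 3, nat_lit 2, nat_lit 0], [[nat_lit 99, nat_lit 99, nat_lit 0, nat_lit 99], [nat_lit 1, nat_lit 99, nat_lit 99, nat_lit 1]])))))))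
 (.node (nat_lit 805) (.node (nat_lit 800) (.node (nat_lit 798) (.node (nat_lit 797) (.leaf ((nat_lit 12), [nat_lit 5, nat_lit 3, nat_lit 1, nat_lit 4, nat_lit 2, nat_lit 1, nat_lit 0, nat_lit 3], [[nat_lit 99, nat_lit 99, nat_lit 99, nat_lit 1, nat_lit 99], [nat_lit 99, nat_lit 0, nat_lit 0, nat_lit 99, nat_lit 1]])) (.leaf ((nat_lit 11), [nat_lit 2, nat_lit 0, nat_lit 5, nat_lit 1, nat_lit 0, nat_lit 4, nat_lit 3, nat_lit 2, nat_lit 3, nat_lit 1], [[nat_lit 0, nat_lit 99, nat_lit 99, nat_lit 1], [nat_lit 99, nat_lit 99, nat_lit 0, nat_lit 99, nat_lit 0]]))) (.node (nat_lit 799) (.leaf ((nat_lit 13), [nat_lit 5, nat_lit 1, nat_lit 5, nat_lit 4, nat_lit 1, nat_lit 0, nat_lit 3, nat_lit 0], [[nat_lit 99, nat_lit 99, nat_lit 99, nat_lit 1, nat_lit 1, nat_lit 1], [nat_lit 99, nat_lit 1, nat_lit 1, nat_lit 99]])) (.leaf ((nat_lit 11), [nat_lit 5, nat_lit 2, nat_lit 1, nat_lit 4, nat_lit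 3, nat_lit 2, nat_lit 0], [[nat_lit 99, nat_lit 99, nat_lit 0, nat_lit 99, nat_lit 0], [nat_lit 0, nat_lit 99, nat_lit 99, nat_lit 1, nat_lit 1]]))))
 (.node (nat_lit 802) (.node (nat_lit 801) (.leaf ((nat_lit 11), [nat_lit 5, nat_lit 2, nat_lit 1, nat_lit 0, nat_lit 4, nat_lit 1, nat_lit 0, nat_lit 3, nat_lit 2, nat_lit 1, nat_lit 0], [[nat_lit 0], [nat_lit 99, nat_lit 99, nat_lit 99, nat_lit 0, nat_lit 0]])) (.leaf ((nat_lit 9), [nat_lit 5, nat_lit 1, nat_lit 5, nat_lit 3, nat_lit 2, nat_lit 1, nat_lit 4, nat_lit 2, nat_lit 1, nat_lit 3, nat_lit 2], [[nat_lit 99, nat_lit 99, nat_lit 1, nat_lit 99, nat_lit 99], [nat_lit 1, nat_lit 99, nat_lit 99, nat_lit 0]]))) (.node (nat_lit 803) (.leaf ((nat_lit 10), [nat_lit 2, nat_lit 1, nat_lit 5, nat_lit 3, nat_lit 2, nat_lit 1, nat_lit 4, nat_lit 1, nat_lit 3, nat_lit 2, nat_lit 1], [[nat_lit 99, nat_lit 1, nat_lit 99, nat_lit 0, nat_lit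 0, nat_lit 0], [nat_lit 99, nat_lit 0, nat_lit 0, nat_lit 99, nat_lit 0, nat_lit 0]])) (.node (nat_lit 804) (.leaf ((nat_lit 11), [nat_lit 4, nat_lit 0, nat_lit 5, nat_lit 1, nat_lit 0, nat_lit 3], [[nat_lit 0, nat_lit 99, nat_lit 0, nat_lit 0, nat_lit 99], [nat_lit 99, nat_lit 0, nat_lit 99, nat_lit 0]])) (.leaf ((nat_lit 9), [nat_lit 1, nat_lit 0, nat_lit 4, nat_lit 2, nat_lit 3], [[nat_lit 0, nat_lit 99, nat_lit 99, nat_lit 1], [nat_lit 99, nat_lit 99, nat_lit 99, nat_lit 1, nat_lit 1]]))))))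
 (.node (nat_lit 809) (.node (nat_lit 807) (.node (nat_lit 806) (.leaf ((nat_lit 10), [nat_lit 5, nat_lit 4, nat_lit 0, nat_lit 3, nat_lit 1, nat_lit 0], [[nat_lit 1, nat_lit 1, nat_lit 99, nat_lit 99], [nat_lit 0, nat_lit 99, nat_lit 0, nat_lit 99, nat_lit 0]])) (.leaf ((nat_lit 11), [nat_lit 5, nat_lit 1, nat_lit 5, nat_lit 4, nat_lit 3, nat_lit 2, nat_lit 0, nat_lit 3, nat_lit 1], [[nat_lit 99, nat_lit 99, nat_lit 1], [nat_lit 1, nat_lit 99, nat_lit 1, nat_lit 99]]))) (.node (nat_lit 808) (.leaf ((nat_lit 12), [nat_lit 5, nat_lit 4, nat_lit 5, nat_lit 1, nat_lit 4, nat_lit 1, nat_lit 3, nat_lit 2], [[nat_lit 1, nat_lit 99, nat_lit 0, nat_lit 0, nat_lit 0], [nat_lit 99, nat_lit 99, nat_lit 99, nat_lit 0, nat_lit 99]])) (.leaf ((nat_lit 12), [nat_lit 5, nat_lit 1, nat_lit 5, nat_lit 2, nat_lit 1, nat_lit 4, nat_lit 2, nat_lit 1, nat_lit 0, nat_lit 3], [[nat_lit 1, nat_lit 99, nat_lit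 0, nat_lit 99, nat_lit 0], [nat_lit 0, nat_lit 99, nat_lit 1, nat_lit 1, nat_lit 1]]))))
 (.node (nat_lit 811) (.node (nat_lit 810) (.leaf ((nat_lit 11), [nat_lit 5, nat_lit 1, nat_lit 5, nat_lit 4, nat_lit 3, nat_lit 2, nat_lit 0, nat_lit 3, nat_lit 1], [[nat_lit 99, nat_lit 0, nat_lit 99], [nat_lit 1, nat_lit 99, nat_lit 99, nat_lit 0]])) (.leaf ((nat_lit 9), [nat_lit 3, nat_lit 1, nat_lit 5, nat_lit 3, nat_lit 2, nat_lit 3, nat_lit 0], [[nat_lit 99, nat_lit 99, nat_lit 0, nat_lit 99, nat_lit 99], [nat_lit 0, nat_lit 99, nat_lit 99, nat_lit 99, nat_lit 1]]))) (.node (nat_lit 812) (.leaf ((nat_lit 10), [nat_lit 2, nat_lit 1, nat_lit 5, nat_lit 3, nat_lit 2, nat_lit 1, nat_lit 4, nat_lit 1, nat_lit 3, nat_lit 2, nat_lit 1], [[nat_lit 99, nat_lit 0, nat_lit 0, nat_lit 0, nat_lit 99], [nat_lit 99, nat_lit 1, nat_lit 99, nat_lit 1]])) (.node (nat_lit 813) (.leaf ((nat_lit 12), [nat_lit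 4, nat_lit 0, nat_lit 5, nat_lit 0, nat_lit 4, nat_lit 0, nat_lit 3, nat_lit 2, nat_lit 1], [[nat_lit 99, nat_lit 1, nat_lit 99, nat_lit 1, nat_lit 1], [nat_lit 0, nat_lit 0, nat_lit 99, nat_lit 0]])) (.leaf ((nat_lit 12), [nat_lit 2, nat_lit 1, nat_lit 4, nat_lit 3, nat_lit 2, nat_lit 0, nat_lit 3, nat_lit 1], [[nat_lit 99, nat_lit 1, nat_lit 99, nat_lit 99, nat_lit 0], [nat_lit 0, nat_lit 99, nat_lit 1, nat_lit 99]]))))))))
 (.node (nat_lit 832) (.node (nat_lit 823) (.node (nat_lit 818) (.node (nat_lit 816) (.node (nat_lit 815) (.leaf ((nat_lit 12), [nat_lit 5, nat_lit 1, nat_lit 5, nat_lit 2, nat_lit 1, nat_lit 4, nat_lit 2, nat_lit 1, nat_lit 0, nat_lit 3], [[nat_lit 1, nat_lit 99, nat_lit 99], [nat_lit 0, nat_lit 99, nat_lit 0, nat_lit 0, nat_lit 0]])) (.leaf ((nat_lit 11), [nat_lit 5, nat_lit 2, nat_lit 1, nat_lit 0, nat_lit 4, nat_lit 1, nat_lit 0, nat_lit 3, nat_lit 2, nat_lit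 1, nat_lit 0], [[nat_lit 0], [nat_lit 99, nat_lit 1, nat_lit 99, nat_lit 1, nat_lit 99, nat_lit 0]]))) (.node (nat_lit 817) (.leaf ((nat_lit 13), [nat_lit 5, nat_lit 4, nat_lit 5, nat_lit 2, nat_lit 4, nat_lit 2, nat_lit 1, nat_lit 0, nat_lit 3, nat_lit 0], [[nat_lit 0, nat_lit 99, nat_lit 99, nat_lit 1, nat_lit 99, nat_lit 0], [nat_lit 99, nat_lit 1, nat_lit 99, nat_lit 99, nat_lit 99]])) (.leaf ((nat_lit 11), [nat_lit 3, nat_lit 1, nat_lit 5, nat_lit 1, nat_lit 4, nat_lit 0, nat_lit 3, nat_lit 2, nat_lit 1], [[nat_lit 99, nat_lit 1, nat_lit 99, nat_lit 99], [nat_lit 99, nat_lit 0, nat_lit 99, nat_lit 0]]))))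
 (.node (nat_lit 820) (.node (nat_lit 819) (.leaf ((nat_lit 12), [nat_lit 3, nat_lit 1, nat_lit 4, nat_lit 2, nat_lit 1, nat_lit 3, nat_lit 1, nat_lit 0], [[nat_lit 1, nat_lit 99, nat_lit 99, nat_lit 0, nat_lit 99, nat_lit 0], [nat_lit 99, nat_lit 0, nat_lit 99, nat_lit 0, nat_lit 99]])) (.leaf ((nat_lit 12), [nat_lit 0, nat_lit 5, nat_lit 3, nat_lit 1, nat_lit 4, nat_lit 3, nat_lit 2, nat_lit 0, nat_lit 3, nat_lit 2, nat_lit 0], [[nat_lit 1, nat_lit 1], [nat_lit 99, nat_lit 99, nat_lit 99, nat_lit 0]]))) (.node (nat_lit 821) (.leaf ((nat_lit 12), [nat_lit 0, nat_lit 5, nat_lit 3, nat_lit 2, nat_lit 1, nat_lit 4, nat_lit 1, nat_lit 3, nat_lit 2, nat_lit 1, nat_lit 0], [[nat_lit 99], [nat_lit 0, nat_lit 0]])) (.node (nat_lit 822) (.leaf ((nat_lit 12), [nat_lit 5, nat_lit 4, nat_lit 5, nat_lit 1, nat_lit 3, nat_lit 2], [[nat_lit 1], [nat_lit 99, nat_lit 99, nat_lit 0, nat_lit 99]]))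 (.leaf ((nat_lit 12), [nat_lit 0, nat_lit 5, nat_lit 3, nat_lit 1, nat_lit 4, nat_lit 3, nat_lit 2, nat_lit 0, nat_lit 3, nat_lit 2, nat_lit 0], [[nat_lit 1, nat_lit 1], [nat_lit 99, nat_lit 0]]))))))
 (.node (nat_lit 827) (.node (nat_lit 825) (.node (nat_lit 824) (.leaf ((nat_lit 12), [nat_lit 2, nat_lit 1, nat_lit 5, nat_lit 3, nat_lit 1, nat_lit 0, nat_lit 4, nat_lit 0, nat_lit 3, nat_lit 2, nat_lit 1, nat_lit 0], [[nat_lit 1, nat_lit 1], [nat_lit 99, nat_lit 99, nat_lit 99, nat_lit 0]])) (.leaf ((nat_lit 12), [nat_lit 2, nat_lit 1, nat_lit 5, nat_lit 3, nat_lit 1, nat_lit 0, nat_lit 4, nat_lit 0, nat_lit 3, nat_lit 2, nat_lit 1, nat_lit 0], [[nat_lit 1, nat_lit 1], [nat_lit 99, nat_lit 99, nat_lit 99, nat_lit 0]]))) (.node (nat_lit 826) (.leaf ((nat_lit 12), [nat_lit 0, nat_lit 5, nat_lit 3, nat_lit 1, nat_lit 4, nat_lit 3, nat_lit 2, nat_lit 0, nat_lit 3, nat_lit 2, nat_lit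 0], [[nat_lit 1, nat_lit 1], [nat_lit 99, nat_lit 99, nat_lit 99, nat_lit 0]])) (.leaf ((nat_lit 12), [nat_lit 0, nat_lit 5, nat_lit 3, nat_lit 1, nat_lit 4, nat_lit 3, nat_lit 2, nat_lit 0, nat_lit 3, nat_lit 2, nat_lit 0], [[nat_lit 1, nat_lit 1], [nat_lit 99]]))))
 (.node (nat_lit 829) (.node (nat_lit 828) (.leaf ((nat_lit 12), [nat_lit 2, nat_lit 1, nat_lit 0, nat_lit 5, nat_lit 2, nat_lit 1, nat_lit 4, nat_lit 3, nat_lit 2, nat_lit 3, nat_lit 1, nat_lit 0], [[nat_lit 0, nat_lit 0, nat_lit 0], [nat_lit 99, nat_lit 99, nat_lit 0, nat_lit 99]])) (.leaf ((nat_lit 12), [nat_lit 3, nat_lit 1, nat_lit 5, nat_lit 2, nat_lit 1, nat_lit 0, nat_lit 4, nat_lit 2, nat_lit 3], [[nat_lit 1, nat_lit 1], [nat_lit 99, nat_lit 99, nat_lit 99, nat_lit 0]]))) (.node (nat_lit 830) (.leaf ((nat_lit 12), [nat_lit 4, nat_lit 0, nat_lit 4, nat_lit 2, nat_lit 0, nat_lit 3, nat_lit 1], [[nat_lit 1], [nat_lit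 99]])) (.node (nat_lit 831) (.leaf ((nat_lit 12), [nat_lit 5, nat_lit 1, nat_lit 0, nat_lit 4, nat_lit 3, nat_lit 0], [[nat_lit 1, nat_lit 1], [nat_lit 99, nat_lit 99, nat_lit 99, nat_lit 0]])) (.leaf ((nat_lit 12), [nat_lit 5, nat_lit 3, nat_lit 1, nat_lit 4, nat_lit 1, nat_lit 0, nat_lit 3, nat_lit 2, nat_lit 1, nat_lit 0], [[nat_lit 0, nat_lit 0, nat_lit 0], [nat_lit 99, nat_lit 99, nat_lit 0, nat_lit 99]])))))))
 (.node (nat_lit 841) (.node (nat_lit 836) (.node (nat_lit 834) (.node (nat_lit 833) (.leaf ((nat_lit 12), [nat_lit 5, nat_lit 1, nat_lit 0, nat_lit 4, nat_lit 3, nat_lit 0], [[nat_lit 1, nat_lit 1], [nat_lit 99, nat_lit 99, nat_lit 99, nat_lit 0]])) (.leaf ((nat_lit 12), [nat_lit 4, nat_lit 2, nat_lit 1, nat_lit 4], [[nat_lit 99, nat_lit 1], [nat_lit 0]]))) (.node (nat_lit 835) (.leaf ((nat_lit 12), [nat_lit 3, nat_lit 1, nat_lit 5, nat_lit 2, nat_lit 1, nat_lit 0,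 nat_lit 4, nat_lit 2, nat_lit 3], [[nat_lit 1, nat_lit 1], [nat_lit 99, nat_lit 99, nat_lit 99, nat_lit 0]])) (.leaf ((nat_lit 12), [nat_lit 4, nat_lit 2, nat_lit 1, nat_lit 4], [[nat_lit 99], [nat_lit 0]]))))
 (.node (nat_lit 838) (.node (nat_lit 837) (.leaf ((nat_lit 12), [nat_lit 5, nat_lit 2, nat_lit 1, nat_lit 4, nat_lit 3, nat_lit 2, nat_lit 1], [[nat_lit 1], [nat_lit 99, nat_lit 99, nat_lit 0, nat_lit 99]])) (.leaf ((nat_lit 12), [nat_lit 5, nat_lit 4, nat_lit 5, nat_lit 1, nat_lit 4, nat_lit 3, nat_lit 0, nat_lit 3, nat_lit 1], [[nat_lit 0, nat_lit 0, nat_lit 0], [nat_lit 99, nat_lit 99, nat_lit 0, nat_lit 99]]))) (.node (nat_lit 839) (.leaf ((nat_lit 12), [nat_lit 0, nat_lit 5, nat_lit 3, nat_lit 2, nat_lit 1, nat_lit 4, nat_lit 3, nat_lit 2, nat_lit 0, nat_lit 3, nat_lit 1], [[nat_lit 1], [nat_lit 99, nat_lit 99, nat_lit 0, nat_lit 99]])) (.node (nat_lit 840) (.leaf ((nat_lit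 12), [nat_lit 1, nat_lit 3, nat_lit 2, nat_lit 0], [[nat_lit 99, nat_lit 0], [nat_lit 99]])) (.leaf ((nat_lit 13), [nat_lit 1, nat_lit 5, nat_lit 0, nat_lit 4, nat_lit 2, nat_lit 0, nat_lit 3, nat_lit 2, nat_lit 1], [[nat_lit 0, nat_lit 99, nat_lit 0, nat_lit 0, nat_lit 0], [nat_lit 99, nat_lit 1, nat_lit 99, nat_lit 99]]))))))
 (.node (nat_lit 845) (.node (nat_lit 843) (.node (nat_lit 842) (.leaf ((nat_lit 12), [nat_lit 0, nat_lit 5, nat_lit 2, nat_lit 4, nat_lit 3, nat_lit 2, nat_lit 0, nat_lit 3, nat_lit 1], [[nat_lit 0, nat_lit 0, nat_lit 99], [nat_lit 99, nat_lit 99, nat_lit 1]])) (.leaf ((nat_lit 9), [nat_lit 1, nat_lit 5, nat_lit 3, nat_lit 1, nat_lit 0, nat_lit 4, nat_lit 0, nat_lit 3], [[nat_lit 99, nat_lit 1, nat_lit 1], [nat_lit 1, nat_lit 99, nat_lit 99, nat_lit 0]]))) (.node (nat_lit 844) (.leaf ((nat_lit 9), [nat_lit 2, nat_lit 1, nat_lit 0, nat_lit 5, nat_lit 2, nat_lit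 0, nat_lit 4, nat_lit 3, nat_lit 0, nat_lit 3, nat_lit 2, nat_lit 0], [[nat_lit 99, nat_lit 1, nat_lit 1], [nat_lit 1, nat_lit 99, nat_lit 0]])) (.leaf ((nat_lit 10), [nat_lit 4, nat_lit 0, nat_lit 5, nat_lit 2, nat_lit 0, nat_lit 4, nat_lit 1, nat_lit 3, nat_lit 2, nat_lit 1, nat_lit 0], [[nat_lit 1, nat_lit 99, nat_lit 1, nat_lit 99, nat_lit 0], [nat_lit 99, nat_lit 1, nat_lit 99, nat_lit 99, nat_lit 0]]))))
 (.node (nat_lit 847) (.node (nat_lit 846) (.leaf ((nat_lit 12), [nat_lit 4, nat_lit 0, nat_lit 5, nat_lit 1, nat_lit 0, nat_lit 4, nat_lit 3, nat_lit 2, nat_lit 0, nat_lit 3, nat_lit 2, nat_lit 1], [[nat_lit 99, nat_lit 0, nat_lit 99, nat_lit 0, nat_lit 0, nat_lit 0], [nat_lit 0, nat_lit 0, nat_lit 0, nat_lit 99]])) (.leaf ((nat_lit 9), [nat_lit 1, nat_lit 5, nat_lit 0, nat_lit 4, nat_lit 3, nat_lit 2, nat_lit 0], [[nat_lit 0, nat_lit 99, nat_lit 1, nat_lit 1], [nat_lit 99,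 nat_lit 0, nat_lit 99, nat_lit 0]]))) (.node (nat_lit 848) (.leaf ((nat_lit 9), [nat_lit 2, nat_lit 1, nat_lit 0, nat_lit 5, nat_lit 2, nat_lit 0, nat_lit 4, nat_lit 3, nat_lit 0, nat_lit 3, nat_lit 2, nat_lit 0], [[nat_lit 99, nat_lit 1, nat_lit 1, nat_lit 1], [nat_lit 1, nat_lit 99]])) (.node (nat_lit 849) (.leaf ((nat_lit 12), [nat_lit 4, nat_lit 5, nat_lit 3, nat_lit 2, nat_lit 0, nat_lit 3, nat_lit 2, nat_lit 1, nat_lit 0], [[nat_lit 99, nat_lit 0, nat_lit 99, nat_lit 0, nat_lit 99], [nat_lit 1, nat_lit 1, nat_lit 99, nat_lit 1]])) (.leaf ((nat_lit 13), [nat_lit 0, nat_lit 5, nat_lit 4, nat_lit 0, nat_lit 4, nat_lit 3, nat_lit 2, nat_lit 3, nat_lit 2], [[nat_lit 99, nat_lit 1, nat_lit 99, nat_lit 0], [nat_lit 0, nat_lit 99, nat_lit 1]]))))))))))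
noncomputable def n1CE_6 : Tr (ℕ × List ℕ × List (List ℕ)) := (.node (nat_lit 921) (.node (nat_lit 885) (.node (nat_lit 867) (.node (nat_lit 858) (.node (nat_lit 854) (.node (nat_lit 852) (.node (nat_lit 851) (.leaf ((nat_lit 9), [nat_lit 2, nat_lit 1, nat_lit 0, nat_lit 4, nat_lit 2, nat_lit 1, nat_lit 3, nat_lit 2, nat_lit 1], [[nat_lit 0, nat_lit 99], [nat_lit 99, nat_lit 0, nat_lit 0, nat_lit 0]])) (.leaf ((nat_lit 12), [nat_lit 4, nat_lit 0, nat_lit 5, nat_lit 1, nat_lit 0, nat_lit 4, nat_lit 3, nat_lit 2, nat_lit 0, nat_lit 3, nat_lit 2, nat_lit 1], [[nat_lit 99, nat_lit 99, nat_lit 0, nat_lit 0], [nat_lit 0, nat_lit 0, nat_lit 0, nat_lit 99, nat_lit 1]]))) (.node (nat_lit 853) (.leaf ((nat_lit 13), [nat_lit 2, nat_lit 5, nat_lit 1, nat_lit 4, nat_lit 3, nat_lit 2, nat_lit 3, nat_lit 1], [[nat_lit 0, nat_lit 0, nat_lit 99, nat_lit 0], [nat_lit 99, nat_lit 1, nat_lit 1, nat_lit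 99]])) (.leaf ((nat_lit 13), [nat_lit 0, nat_lit 5, nat_lit 4, nat_lit 0, nat_lit 4, nat_lit 3, nat_lit 2, nat_lit 3, nat_lit 2], [[nat_lit 99, nat_lit 1, nat_lit 1, nat_lit 99], [nat_lit 0, nat_lit 99, nat_lit 1, nat_lit 1]]))))
 (.node (nat_lit 856) (.node (nat_lit 855) (.leaf ((nat_lit 9), [nat_lit 2, nat_lit 1, nat_lit 0, nat_lit 5, nat_lit 2, nat_lit 0, nat_lit 4, nat_lit 3, nat_lit 0, nat_lit 3, nat_lit 2, nat_lit 0], [[nat_lit 99, nat_lit 1], [nat_lit 1, nat_lit 99, nat_lit 0, nat_lit 0]])) (.leaf ((nat_lit 9), [nat_lit 1, nat_lit 0, nat_lit 5, nat_lit 0, nat_lit 4, nat_lit 3, nat_lit 2, nat_lit 3, nat_lit 0], [[nat_lit 99, nat_lit 1, nat_lit 1, nat_lit 99], [nat_lit 99, nat_lit 0, nat_lit 99, nat_lit 0]]))) (.node (nat_lit 857) (.leaf ((nat_lit 9), [nat_lit 2, nat_lit 1, nat_lit 0, nat_lit 4, nat_lit 2, nat_lit 1, nat_lit 3, nat_lit 2, nat_lit 1], [[nat_lit 0, nat_lit 99,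 nat_lit 1], [nat_lit 99, nat_lit 0, nat_lit 0]])) (.leaf ((nat_lit 9), [nat_lit 1, nat_lit 5, nat_lit 3, nat_lit 1, nat_lit 0, nat_lit 4, nat_lit 0, nat_lit 3], [[nat_lit 99, nat_lit 1, nat_lit 1, nat_lit 1], [nat_lit 1, nat_lit 99, nat_lit 1, nat_lit 99]])))))
 (.node (nat_lit 862) (.node (nat_lit 860) (.node (nat_lit 859) (.leaf ((nat_lit 9), [nat_lit 2, nat_lit 1, nat_lit 0, nat_lit 5, nat_lit 3, nat_lit 1, nat_lit 0, nat_lit 4, nat_lit 0, nat_lit 3, nat_lit 2, nat_lit 1], [[nat_lit 0, nat_lit 99, nat_lit 99], [nat_lit 1, nat_lit 99, nat_lit 99, nat_lit 0]])) (.leaf ((nat_lit 9), [nat_lit 3, nat_lit 2, nat_lit 1, nat_lit 5], [[nat_lit 0, nat_lit 99], [nat_lit 99, nat_lit 99, nat_lit 99]]))) (.node (nat_lit 861) (.leaf ((nat_lit 9), [nat_lit 2, nat_lit 1, nat_lit 0, nat_lit 5, nat_lit 2, nat_lit 0, nat_lit 4, nat_lit 3, nat_lit 0, nat_lit 3, nat_lit 2, nat_lit 0], [[nat_lit 99,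 nat_lit 0, nat_lit 0, nat_lit 0], [nat_lit 1, nat_lit 99, nat_lit 1]])) (.leaf ((nat_lit 13), [nat_lit 3, nat_lit 1, nat_lit 5, nat_lit 2, nat_lit 0, nat_lit 4, nat_lit 1, nat_lit 3, nat_lit 0], [[nat_lit 99, nat_lit 99, nat_lit 1, nat_lit 99, nat_lit 1], [nat_lit 99, nat_lit 99, nat_lit 99, nat_lit 0, nat_lit 0]]))))
 (.node (nat_lit 864) (.node (nat_lit 863) (.leaf ((nat_lit 9), [nat_lit 0, nat_lit 5, nat_lit 4, nat_lit 2, nat_lit 3], [[nat_lit 1, nat_lit 99, nat_lit 0, nat_lit 99, nat_lit 99], [nat_lit 0, nat_lit 99, nat_lit 99, nat_lit 99, nat_lit 1]])) (.leaf ((nat_lit 12), [nat_lit 1, nat_lit 5, nat_lit 2, nat_lit 4, nat_lit 2, nat_lit 0, nat_lit 3, nat_lit 0], [[nat_lit 1, nat_lit 99, nat_lit 0, nat_lit 99], [nat_lit 99, nat_lit 1, nat_lit 99, nat_lit 1, nat_lit 1]]))) (.node (nat_lit 865) (.leaf ((nat_lit 11), [nat_lit 2, nat_lit 1, nat_lit 0, nat_lit 5, nat_lit 4, nat_lit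 0, nat_lit 4, nat_lit 1, nat_lit 3, nat_lit 0], [[nat_lit 0, nat_lit 99, nat_lit 99, nat_lit 1], [nat_lit 99, nat_lit 99, nat_lit 99, nat_lit 0, nat_lit 0]])) (.node (nat_lit 866) (.leaf ((nat_lit 9), [nat_lit 2, nat_lit 1, nat_lit 0, nat_lit 5, nat_lit 1, nat_lit 4, nat_lit 0, nat_lit 3, nat_lit 0], [[nat_lit 0, nat_lit 0, nat_lit 0], [nat_lit 99, nat_lit 99, nat_lit 99]])) (.leaf ((nat_lit 9), [nat_lit 4, nat_lit 0, nat_lit 5, nat_lit 1, nat_lit 0, nat_lit 4, nat_lit 2, nat_lit 3, nat_lit 2, nat_lit 1, nat_lit 0], [[nat_lit 0, nat_lit 99, nat_lit 99, nat_lit 99], [nat_lit 99, nat_lit 0, nat_lit 99, nat_lit 0]])))))))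
 (.node (nat_lit 876) (.node (nat_lit 871) (.node (nat_lit 869) (.node (nat_lit 868) (.leaf ((nat_lit 11), [nat_lit 0, nat_lit 5, nat_lit 3, nat_lit 1, nat_lit 0, nat_lit 4, nat_lit 1], [[nat_lit 99, nat_lit 99, nat_lit 1], [nat_lit 99, nat_lit 1, nat_lit 1, nat_lit 99]])) (.leaf ((nat_lit 10), [nat_lit 0, nat_lit 5, nat_lit 3, nat_lit 2, nat_lit 1, nat_lit 4, nat_lit 2, nat_lit 1, nat_lit 0, nat_lit 3, nat_lit 1, nat_lit 0], [[nat_lit 0, nat_lit 0, nat_lit 0, nat_lit 99, nat_lit 99], [nat_lit 99, nat_lit 1, nat_lit 99, nat_lit 1, nat_lit 99, nat_lit 0]]))) (.node (nat_lit 870) (.leaf ((nat_lit 9), [nat_lit 0, nat_lit 5, nat_lit 3, nat_lit 1, nat_lit 4, nat_lit 3, nat_lit 2], [[nat_lit 0, nat_lit 99, nat_lit 99], [nat_lit 99, nat_lit 99, nat_lit 99]])) (.leaf ((nat_lit 11), [nat_lit 0, nat_lit 5, nat_lit 3, nat_lit 1, nat_lit 0, nat_lit 4, nat_lit 1], [[nat_lit 99, nat_lit 0, nat_lit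 0, nat_lit 99, nat_lit 0], [nat_lit 99, nat_lit 99, nat_lit 0, nat_lit 0]]))))
 (.node (nat_lit 873) (.node (nat_lit 872) (.leaf ((nat_lit 9), [nat_lit 4, nat_lit 5, nat_lit 4, nat_lit 2, nat_lit 1, nat_lit 4, nat_lit 3, nat_lit 2, nat_lit 3, nat_lit 1], [[nat_lit 99, nat_lit 99, nat_lit 0, nat_lit 0], [nat_lit 0, nat_lit 99, nat_lit 0, nat_lit 99]])) (.leaf ((nat_lit 9), [nat_lit 5, nat_lit 1, nat_lit 5, nat_lit 1, nat_lit 4, nat_lit 1, nat_lit 3, nat_lit 1, nat_lit 0], [[nat_lit 99, nat_lit 1, nat_lit 99, nat_lit 1, nat_lit 99], [nat_lit 1, nat_lit 99, nat_lit 99, nat_lit 0]]))) (.node (nat_lit 874) (.leaf ((nat_lit 12), [nat_lit 5, nat_lit 4, nat_lit 3, nat_lit 0, nat_lit 3], [[nat_lit 0, nat_lit 99, nat_lit 0, nat_lit 99, nat_lit 0, nat_lit 0], [nat_lit 99, nat_lit 99, nat_lit 0, nat_lit 99, nat_lit 99]])) (.node (nat_lit 875) (.leaf ((nat_lit 11), [nat_lit 0, nat_lit 5, nat_lit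 3, nat_lit 1, nat_lit 0, nat_lit 4, nat_lit 1], [[nat_lit 99, nat_lit 0, nat_lit 99], [nat_lit 99, nat_lit 1, nat_lit 99, nat_lit 0]])) (.leaf ((nat_lit 9), [nat_lit 2, nat_lit 5, nat_lit 2, nat_lit 4, nat_lit 0, nat_lit 3], [[nat_lit 1, nat_lit 99, nat_lit 1, nat_lit 1, nat_lit 99, nat_lit 0], [nat_lit 99, nat_lit 1, nat_lit 99, nat_lit 1]]))))))
 (.node (nat_lit 880) (.node (nat_lit 878) (.node (nat_lit 877) (.leaf ((nat_lit 11), [nat_lit 3, nat_lit 1, nat_lit 5, nat_lit 2, nat_lit 0, nat_lit 4, nat_lit 3, nat_lit 0, nat_lit 3, nat_lit 2, nat_lit 0], [[nat_lit 99, nat_lit 1, nat_lit 1, nat_lit 99], [nat_lit 99, nat_lit 99, nat_lit 0, nat_lit 0, nat_lit 0]])) (.leaf ((nat_lit 9), [nat_lit 4, nat_lit 5, nat_lit 4, nat_lit 2, nat_lit 1, nat_lit 4, nat_lit 3, nat_lit 2, nat_lit 3, nat_lit 1], [[nat_lit 99, nat_lit 1, nat_lit 99, nat_lit 0], [nat_lit 0, nat_lit 99, nat_lit 99, nat_lit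 1]]))) (.node (nat_lit 879) (.leaf ((nat_lit 12), [nat_lit 2, nat_lit 5, nat_lit 4, nat_lit 2, nat_lit 1, nat_lit 4, nat_lit 3, nat_lit 0, nat_lit 3, nat_lit 2], [[nat_lit 1, nat_lit 99, nat_lit 0, nat_lit 99, nat_lit 1], [nat_lit 99, nat_lit 0, nat_lit 0, nat_lit 99, nat_lit 99]])) (.leaf ((nat_lit 13), [nat_lit 3, nat_lit 1, nat_lit 5, nat_lit 2, nat_lit 0, nat_lit 4, nat_lit 2, nat_lit 1, nat_lit 3, nat_lit 1], [[nat_lit 99, nat_lit 99, nat_lit 0, nat_lit 0, nat_lit 99], [nat_lit 0, nat_lit 99, nat_lit 1]]))))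
 (.node (nat_lit 882) (.node (nat_lit 881) (.leaf ((nat_lit 11), [nat_lit 0, nat_lit 5, nat_lit 2, nat_lit 0, nat_lit 4, nat_lit 2, nat_lit 3], [[nat_lit 99, nat_lit 99, nat_lit 99], [nat_lit 99, nat_lit 1, nat_lit 99, nat_lit 99, nat_lit 1]])) (.leaf ((nat_lit 10), [nat_lit 2, nat_lit 5, nat_lit 2, nat_lit 0, nat_lit 4, nat_lit 1, nat_lit 0, nat_lit 3, nat_lit 2, nat_lit 0], [[nat_lit 99, nat_lit 0, nat_lit 0, nat_lit 99, nat_lit 1], [nat_lit 1, nat_lit 1, nat_lit 99, nat_lit 0, nat_lit 0, nat_lit 99]]))) (.node (nat_lit 883) (.leaf ((nat_lit 11), [nat_lit 5, nat_lit 4, nat_lit 1, nat_lit 0, nat_lit 3, nat_lit 2], [[nat_lit 99, nat_lit 0, nat_lit 0, nat_lit 0], [nat_lit 0, nat_lit 99, nat_lit 99, nat_lit 1]])) (.node (nat_lit 884) (.leaf ((nat_lit 11), [nat_lit 5, nat_lit 3, nat_lit 1, nat_lit 4, nat_lit 0], [[nat_lit 99, nat_lit 0, nat_lit 0, nat_lit 99, nat_lit 0], [nat_lit 99,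 nat_lit 99, nat_lit 1, nat_lit 99, nat_lit 0]])) (.leaf ((nat_lit 12), [nat_lit 4, nat_lit 0, nat_lit 5, nat_lit 3, nat_lit 1, nat_lit 4, nat_lit 1, nat_lit 0, nat_lit 3, nat_lit 2, nat_lit 0], [[nat_lit 99, nat_lit 99, nat_lit 0], [nat_lit 99, nat_lit 1, nat_lit 99, nat_lit 99]]))))))))
 (.node (nat_lit 903) (.node (nat_lit 894) (.node (nat_lit 889) (.node (nat_lit 887) (.node (nat_lit 886) (.leaf ((nat_lit 12), [nat_lit 4, nat_lit 0, nat_lit 5, nat_lit 4, nat_lit 0, nat_lit 4, nat_lit 2, nat_lit 1, nat_lit 3, nat_lit 2, nat_lit 0], [[nat_lit 0, nat_lit 0, nat_lit 99, nat_lit 0, nat_lit 0], [nat_lit 99, nat_lit 0, nat_lit 99, nat_lit 0, nat_lit 0]])) (.leaf ((nat_lit 11), [nat_lit 2, nat_lit 1, nat_lit 0, nat_lit 5, nat_lit 4, nat_lit 0, nat_lit 4, nat_lit 2, nat_lit 1, nat_lit 3, nat_lit 2, nat_lit 1], [[nat_lit 0, nat_lit 99, nat_lit 99, nat_lit 99, nat_lit 0], [nat_lit 99, nat_lit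 99, nat_lit 0, nat_lit 99, nat_lit 1]]))) (.node (nat_lit 888) (.leaf ((nat_lit 11), [nat_lit 2, nat_lit 1, nat_lit 0, nat_lit 5, nat_lit 2, nat_lit 1, nat_lit 0, nat_lit 4, nat_lit 1, nat_lit 3], [[nat_lit 1, nat_lit 1, nat_lit 1], [nat_lit 99, nat_lit 99, nat_lit 99, nat_lit 0]])) (.leaf ((nat_lit 12), [nat_lit 4, nat_lit 0, nat_lit 5, nat_lit 3, nat_lit 1, nat_lit 4, nat_lit 1, nat_lit 0, nat_lit 3, nat_lit 2, nat_lit 0], [[nat_lit 99, nat_lit 0, nat_lit 99, nat_lit 0, nat_lit 0], [nat_lit 99, nat_lit 99, nat_lit 0, nat_lit 99, nat_lit 0]]))))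
 (.node (nat_lit 891) (.node (nat_lit 890) (.leaf ((nat_lit 12), [nat_lit 5, nat_lit 4, nat_lit 0, nat_lit 4, nat_lit 1, nat_lit 3, nat_lit 2, nat_lit 1], [[nat_lit 99, nat_lit 0, nat_lit 0, nat_lit 0], [nat_lit 99, nat_lit 0, nat_lit 99]])) (.leaf ((nat_lit 13), [nat_lit 4, nat_lit 5, nat_lit 2, nat_lit 1, nat_lit 0, nat_lit 4, nat_lit 3, nat_lit 2, nat_lit 1], [[nat_lit 1, nat_lit 1, nat_lit 99, nat_lit 0, nat_lit 0], [nat_lit 99, nat_lit 1, nat_lit 99]]))) (.node (nat_lit 892) (.leaf ((nat_lit 12), [nat_lit 0, nat_lit 5, nat_lit 4, nat_lit 2, nat_lit 1, nat_lit 0, nat_lit 3], [[nat_lit 1, nat_lit 99, nat_lit 99, nat_lit 99, nat_lit 1], [nat_lit 0, nat_lit 99, nat_lit 0, nat_lit 99, nat_lit 99]])) (.node (nat_lit 893) (.leaf ((nat_lit 12), [nat_lit 1, nat_lit 0, nat_lit 5, nat_lit 4, nat_lit 2, nat_lit 1, nat_lit 3, nat_lit 1], [[nat_lit 99, nat_lit 99, nat_lit 99, nat_lit 0,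 nat_lit 0], [nat_lit 0, nat_lit 0, nat_lit 99, nat_lit 99, nat_lit 1]])) (.leaf ((nat_lit 13), [nat_lit 1, nat_lit 0, nat_lit 5, nat_lit 3, nat_lit 1, nat_lit 4, nat_lit 2, nat_lit 0, nat_lit 3], [[nat_lit 1, nat_lit 99, nat_lit 0, nat_lit 0], [nat_lit 0, nat_lit 99, nat_lit 99]]))))))
 (.node (nat_lit 898) (.node (nat_lit 896) (.node (nat_lit 895) (.leaf ((nat_lit 11), [nat_lit 2, nat_lit 1, nat_lit 5, nat_lit 0, nat_lit 4, nat_lit 2, nat_lit 1, nat_lit 3, nat_lit 2, nat_lit 1, nat_lit 0], [[nat_lit 1, nat_lit 99, nat_lit 1, nat_lit 1], [nat_lit 99, nat_lit 0, nat_lit 99, nat_lit 0]])) (.leaf ((nat_lit 12), [nat_lit 5, nat_lit 4, nat_lit 5, nat_lit 0, nat_lit 4, nat_lit 2, nat_lit 0, nat_lit 3, nat_lit 1, nat_lit 0], [[nat_lit 99, nat_lit 99, nat_lit 0, nat_lit 99], [nat_lit 0, nat_lit 99, nat_lit 0, nat_lit 0, nat_lit 0]]))) (.node (nat_lit 897) (.leaf ((nat_lit 12), [nat_lit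 0, nat_lit 5, nat_lit 3, nat_lit 1, nat_lit 4, nat_lit 2, nat_lit 0, nat_lit 3, nat_lit 2], [[nat_lit 99, nat_lit 99, nat_lit 1], [nat_lit 1, nat_lit 99, nat_lit 99, nat_lit 99, nat_lit 0]])) (.leaf ((nat_lit 10), [nat_lit 3, nat_lit 2, nat_lit 1, nat_lit 5, nat_lit 4, nat_lit 0, nat_lit 4, nat_lit 1, nat_lit 0, nat_lit 3, nat_lit 2, nat_lit 1, nat_lit 0], [[nat_lit 99, nat_lit 99, nat_lit 99, nat_lit 0, nat_lit 0], [nat_lit 99, nat_lit 0, nat_lit 0, nat_lit 0]]))))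
 (.node (nat_lit 900) (.node (nat_lit 899) (.leaf ((nat_lit 10), [nat_lit 3, nat_lit 1, nat_lit 5, nat_lit 4, nat_lit 2, nat_lit 1, nat_lit 4, nat_lit 1], [[nat_lit 99, nat_lit 99, nat_lit 99, nat_lit 99, nat_lit 1], [nat_lit 0, nat_lit 0, nat_lit 99, nat_lit 99, nat_lit 0]])) (.leaf ((nat_lit 13), [nat_lit 4, nat_lit 0, nat_lit 5, nat_lit 4, nat_lit 2, nat_lit 1, nat_lit 4, nat_lit 1, nat_lit 3, nat_lit 0], [[nat_lit 99, nat_lit 99, nat_lit 0, nat_lit 99], [nat_lit 1, nat_lit 99, nat_lit 1, nat_lit 99, nat_lit 1]]))) (.node (nat_lit 901) (.leaf ((nat_lit 9), [nat_lit 2, nat_lit 1, nat_lit 5, nat_lit 4, nat_lit 2, nat_lit 1, nat_lit 4, nat_lit 2, nat_lit 1, nat_lit 3, nat_lit 2], [[nat_lit 0, nat_lit 99, nat_lit 1, nat_lit 99, nat_lit 0], [nat_lit 1, nat_lit 99, nat_lit 99, nat_lit 99, nat_lit 0]])) (.node (nat_lit 902) (.leaf ((nat_lit 9), [nat_lit 2, nat_lit 1, nat_lit 5, nat_lit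 3, nat_lit 2, nat_lit 1, nat_lit 4, nat_lit 3, nat_lit 2, nat_lit 0, nat_lit 3, nat_lit 2], [[nat_lit 1, nat_lit 1], [nat_lit 99, nat_lit 0, nat_lit 99, nat_lit 99, nat_lit 1]])) (.leaf ((nat_lit 12), [nat_lit 5, nat_lit 4, nat_lit 0, nat_lit 4, nat_lit 1, nat_lit 3, nat_lit 2, nat_lit 1], [[nat_lit 99, nat_lit 0, nat_lit 0], [nat_lit 99, nat_lit 99, nat_lit 1]])))))))
 (.node (nat_lit 912) (.node (nat_lit 907) (.node (nat_lit 905) (.node (nat_lit 904) (.leaf ((nat_lit 12), [nat_lit 2, nat_lit 0, nat_lit 5, nat_lit 2, nat_lit 0, nat_lit 4, nat_lit 3, nat_lit 2], [[nat_lit 99, nat_lit 99, nat_lit 1, nat_lit 99, nat_lit 1], [nat_lit 99, nat_lit 0, nat_lit 99, nat_lit 99, nat_lit 0]])) (.leaf ((nat_lit 10), [nat_lit 4, nat_lit 0, nat_lit 5, nat_lit 0, nat_lit 4, nat_lit 3, nat_lit 2, nat_lit 0, nat_lit 3, nat_lit 2, nat_lit 1, nat_lit 0], [[nat_lit 1, nat_lit 99, nat_lit 0, nat_lit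 0], [nat_lit 0, nat_lit 0, nat_lit 99, nat_lit 99, nat_lit 0]]))) (.node (nat_lit 906) (.leaf ((nat_lit 10), [nat_lit 5, nat_lit 1, nat_lit 0, nat_lit 4, nat_lit 3, nat_lit 0], [[nat_lit 0, nat_lit 0, nat_lit 0, nat_lit 99], [nat_lit 99, nat_lit 1, nat_lit 99, nat_lit 1, nat_lit 1]])) (.leaf ((nat_lit 10), [nat_lit 2, nat_lit 1, nat_lit 5, nat_lit 4, nat_lit 0, nat_lit 4, nat_lit 2, nat_lit 0, nat_lit 3, nat_lit 2, nat_lit 1], [[nat_lit 99, nat_lit 99, nat_lit 1], [nat_lit 1, nat_lit 99, nat_lit 99, nat_lit 0]]))))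
 (.node (nat_lit 909) (.node (nat_lit 908) (.leaf ((nat_lit 9), [nat_lit 2, nat_lit 1, nat_lit 0, nat_lit 5, nat_lit 0, nat_lit 4, nat_lit 2, nat_lit 1, nat_lit 0, nat_lit 3, nat_lit 0], [[nat_lit 0, nat_lit 0, nat_lit 99, nat_lit 99], [nat_lit 99, nat_lit 0, nat_lit 99, nat_lit 0]])) (.leaf ((nat_lit 13), [nat_lit 3, nat_lit 2, nat_lit 1, nat_lit 5, nat_lit 2, nat_lit 0, nat_lit 4, nat_lit 2, nat_lit 1, nat_lit 3, nat_lit 2, nat_lit 1], [[nat_lit 99, nat_lit 1, nat_lit 1, nat_lit 99], [nat_lit 0, nat_lit 99, nat_lit 99, nat_lit 0]]))) (.node (nat_lit 910) (.leaf ((nat_lit 9), [nat_lit 0, nat_lit 5, nat_lit 3, nat_lit 2, nat_lit 1, nat_lit 4, nat_lit 1, nat_lit 3], [[nat_lit 0, nat_lit 0, nat_lit 0], [nat_lit 99, nat_lit 1, nat_lit 99, nat_lit 1]])) (.node (nat_lit 911) (.leaf ((nat_lit 10), [nat_lit 2, nat_lit 1, nat_lit 5, nat_lit 4, nat_lit 0, nat_lit 4, nat_lit 2, nat_lit 0,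 nat_lit 3, nat_lit 2, nat_lit 1], [[nat_lit 99, nat_lit 1, nat_lit 99, nat_lit 1, nat_lit 1], [nat_lit 1, nat_lit 99, nat_lit 1, nat_lit 99]])) (.leaf ((nat_lit 12), [nat_lit 5, nat_lit 4, nat_lit 5, nat_lit 0, nat_lit 4, nat_lit 1, nat_lit 0], [[nat_lit 1, nat_lit 1, nat_lit 99, nat_lit 0], [nat_lit 0, nat_lit 99, nat_lit 99, nat_lit 1, nat_lit 99]]))))))
 (.node (nat_lit 916) (.node (nat_lit 914) (.node (nat_lit 913) (.leaf ((nat_lit 9), [nat_lit 0, nat_lit 5, nat_lit 3, nat_lit 2, nat_lit 1, nat_lit 4, nat_lit 1, nat_lit 3], [[nat_lit 0, nat_lit 0, nat_lit 0], [nat_lit 99, nat_lit 0, nat_lit 99, nat_lit 0]])) (.leaf ((nat_lit 10), [nat_lit 5, nat_lit 1, nat_lit 5, nat_lit 2, nat_lit 1, nat_lit 4, nat_lit 2, nat_lit 3, nat_lit 2, nat_lit 0], [[nat_lit 1, nat_lit 1, nat_lit 99, nat_lit 0, nat_lit 0], [nat_lit 0, nat_lit 99, nat_lit 1, nat_lit 99, nat_lit 0]]))) (.node (nat_lit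 915) (.leaf ((nat_lit 9), [nat_lit 4, nat_lit 5, nat_lit 3, nat_lit 2, nat_lit 1, nat_lit 4, nat_lit 3, nat_lit 2, nat_lit 0, nat_lit 3, nat_lit 2], [[nat_lit 1, nat_lit 99, nat_lit 99, nat_lit 0, nat_lit 0], [nat_lit 99, nat_lit 1, nat_lit 99, nat_lit 1]])) (.leaf ((nat_lit 12), [nat_lit 1, nat_lit 0, nat_lit 5, nat_lit 2, nat_lit 1, nat_lit 4, nat_lit 2, nat_lit 0, nat_lit 3, nat_lit 1], [[nat_lit 99, nat_lit 99, nat_lit 0, nat_lit 99], [nat_lit 99, nat_lit 99, nat_lit 99, nat_lit 1]]))))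
 (.node (nat_lit 918) (.node (nat_lit 917) (.leaf ((nat_lit 9), [nat_lit 0, nat_lit 5, nat_lit 3, nat_lit 2, nat_lit 1, nat_lit 4, nat_lit 1, nat_lit 3], [[nat_lit 0, nat_lit 0, nat_lit 0], [nat_lit 99, nat_lit 99]])) (.leaf ((nat_lit 9), [nat_lit 3, nat_lit 1, nat_lit 5, nat_lit 3, nat_lit 1, nat_lit 4, nat_lit 3, nat_lit 2, nat_lit 3, nat_lit 2, nat_lit 1], [[nat_lit 99, nat_lit 99, nat_lit 1, nat_lit 99, nat_lit 0], [nat_lit 99, nat_lit 99, nat_lit 0, nat_lit 0]]))) (.node (nat_lit 919) (.leaf ((nat_lit 13), [nat_lit 2, nat_lit 1, nat_lit 0, nat_lit 5, nat_lit 0, nat_lit 4, nat_lit 3, nat_lit 0, nat_lit 3, nat_lit 2, nat_lit 1, nat_lit 0], [[nat_lit 99, nat_lit 1, nat_lit 99, nat_lit 99, nat_lit 0], [nat_lit 0, nat_lit 99, nat_lit 1, nat_lit 1, nat_lit 1]])) (.node (nat_lit 920) (.leaf ((nat_lit 13), [nat_lit 1, nat_lit 5, nat_lit 0, nat_lit 4, nat_lit 3, nat_lit 2, nat_lit 0,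 nat_lit 3], [[nat_lit 99, nat_lit 1, nat_lit 99, nat_lit 0, nat_lit 99], [nat_lit 0, nat_lit 0, nat_lit 99, nat_lit 99, nat_lit 1]])) (.leaf ((nat_lit 9), [nat_lit 2, nat_lit 1, nat_lit 0, nat_lit 5, nat_lit 0, nat_lit 4, nat_lit 2, nat_lit 1, nat_lit 0, nat_lit 3, nat_lit 0], [[nat_lit 0, nat_lit 0, nat_lit 99, nat_lit 0, nat_lit 99, nat_lit 0], [nat_lit 99, nat_lit 0, nat_lit 0, nat_lit 99, nat_lit 0, nat_lit 0]])))))))))
 (.node (nat_lit 956) (.node (nat_lit 938) (.node (nat_lit 929) (.node (nat_lit 925) (.node (nat_lit 923) (.node (nat_lit 922) (.leaf ((nat_lit 9), [nat_lit 2, nat_lit 1, nat_lit 0, nat_lit 5, nat_lit 1, nat_lit 4, nat_lit 3, nat_lit 1, nat_lit 0], [[nat_lit 99, nat_lit 1, nat_lit 1, nat_lit 1], [nat_lit 99, nat_lit 99, nat_lit 0, nat_lit 99, nat_lit 99, nat_lit 0]])) (.leaf ((nat_lit 9), [nat_lit 2, nat_lit 1, nat_lit 0, nat_lit 5, nat_lit 2, nat_lit 0, nat_lit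 4, nat_lit 3, nat_lit 0, nat_lit 3, nat_lit 2, nat_lit 0], [[nat_lit 99, nat_lit 99, nat_lit 1, nat_lit 1], [nat_lit 1, nat_lit 99, nat_lit 99, nat_lit 0]]))) (.node (nat_lit 924) (.leaf ((nat_lit 12), [nat_lit 2, nat_lit 4, nat_lit 2, nat_lit 1, nat_lit 3, nat_lit 1], [[nat_lit 0, nat_lit 99, nat_lit 99, nat_lit 0], [nat_lit 99, nat_lit 0, nat_lit 99, nat_lit 1, nat_lit 99, nat_lit 0]])) (.leaf ((nat_lit 9), [nat_lit 2, nat_lit 5, nat_lit 0, nat_lit 4, nat_lit 3], [[nat_lit 99, nat_lit 99, nat_lit 1], [nat_lit 99, nat_lit 0, nat_lit 99, nat_lit 0]]))))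
 (.node (nat_lit 927) (.node (nat_lit 926) (.leaf ((nat_lit 9), [nat_lit 1, nat_lit 0, nat_lit 5, nat_lit 3, nat_lit 2, nat_lit 1, nat_lit 4, nat_lit 1, nat_lit 3, nat_lit 1, nat_lit 0], [[nat_lit 0, nat_lit 99, nat_lit 1, nat_lit 1, nat_lit 99], [nat_lit 99, nat_lit 0, nat_lit 0, nat_lit 99, nat_lit 0, nat_lit 0]])) (.leaf ((nat_lit 9), [nat_lit 5, nat_lit 4, nat_lit 5, nat_lit 0, nat_lit 4, nat_lit 1, nat_lit 0, nat_lit 3, nat_lit 2, nat_lit 1, nat_lit 0], [[nat_lit 99, nat_lit 99, nat_lit 99], [nat_lit 0, nat_lit 0, nat_lit 99, nat_lit 99, nat_lit 0]]))) (.node (nat_lit 928) (.leaf ((nat_lit 9), [nat_lit 5, nat_lit 1, nat_lit 5, nat_lit 4, nat_lit 0, nat_lit 4, nat_lit 1, nat_lit 3, nat_lit 1, nat_lit 0], [[nat_lit 0, nat_lit 99, nat_lit 99, nat_lit 99], [nat_lit 1, nat_lit 99, nat_lit 99, nat_lit 0]])) (.leaf ((nat_lit 9), [nat_lit 0, nat_lit 5, nat_lit 2, nat_lit 4, nat_lit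 0, nat_lit 3, nat_lit 2], [[nat_lit 99, nat_lit 1, nat_lit 99], [nat_lit 99, nat_lit 99, nat_lit 0, nat_lit 0]])))))
 (.node (nat_lit 933) (.node (nat_lit 931) (.node (nat_lit 930) (.leaf ((nat_lit 9), [nat_lit 2, nat_lit 5, nat_lit 0, nat_lit 4, nat_lit 3], [[nat_lit 99, nat_lit 1, nat_lit 99, nat_lit 1, nat_lit 1], [nat_lit 99, nat_lit 99]])) (.leaf ((nat_lit 9), [nat_lit 1, nat_lit 5, nat_lit 0, nat_lit 4, nat_lit 3, nat_lit 2, nat_lit 1], [[nat_lit 99, nat_lit 0, nat_lit 99, nat_lit 99], [nat_lit 1, nat_lit 99, nat_lit 1, nat_lit 99, nat_lit 0]]))) (.node (nat_lit 932) (.leaf ((nat_lit 9), [nat_lit 2, nat_lit 1, nat_lit 0, nat_lit 5, nat_lit 0, nat_lit 4, nat_lit 1, nat_lit 0, nat_lit 3, nat_lit 2, nat_lit 1], [[nat_lit 0, nat_lit 99, nat_lit 99, nat_lit 0, nat_lit 0], [nat_lit 1, nat_lit 99, nat_lit 1, nat_lit 99]])) (.leaf ((nat_lit 9), [nat_lit 1, nat_lit 0, nat_lit 5, nat_lit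 2, nat_lit 0, nat_lit 3, nat_lit 0], [[nat_lit 0, nat_lit 0, nat_lit 99, nat_lit 99], [nat_lit 99, nat_lit 0, nat_lit 0, nat_lit 99, nat_lit 0, nat_lit 0]]))))
 (.node (nat_lit 935) (.node (nat_lit 934) (.leaf ((nat_lit 9), [nat_lit 5, nat_lit 4, nat_lit 5, nat_lit 1, nat_lit 4, nat_lit 2, nat_lit 1, nat_lit 3, nat_lit 2], [[nat_lit 1, nat_lit 1], [nat_lit 99, nat_lit 99, nat_lit 0, nat_lit 99, nat_lit 0]])) (.leaf ((nat_lit 10), [nat_lit 4, nat_lit 0, nat_lit 5, nat_lit 4, nat_lit 3, nat_lit 2, nat_lit 0], [[nat_lit 0, nat_lit 0, nat_lit 99, nat_lit 1], [nat_lit 99, nat_lit 99, nat_lit 99, nat_lit 0]]))) (.node (nat_lit 936) (.leaf ((nat_lit 9), [nat_lit 0, nat_lit 5, nat_lit 4, nat_lit 2, nat_lit 3, nat_lit 2, nat_lit 1, nat_lit 0], [[nat_lit 99, nat_lit 99, nat_lit 1, nat_lit 1, nat_lit 99], [nat_lit 99, nat_lit 1, nat_lit 99, nat_lit 1]])) (.node (nat_lit 937) (.leaf ((nat_lit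 9), [nat_lit 4, nat_lit 0, nat_lit 5, nat_lit 2, nat_lit 1, nat_lit 3], [[nat_lit 0, nat_lit 99, nat_lit 99], [nat_lit 99, nat_lit 0, nat_lit 99, nat_lit 0]])) (.leaf ((nat_lit 9), [nat_lit 5, nat_lit 4, nat_lit 5, nat_lit 1, nat_lit 4, nat_lit 2, nat_lit 1, nat_lit 3, nat_lit 2], [[nat_lit 1, nat_lit 1], [nat_lit 99, nat_lit 1, nat_lit 99, nat_lit 99]])))))))
 (.node (nat_lit 947) (.node (nat_lit 942) (.node (nat_lit 940) (.node (nat_lit 939) (.leaf ((nat_lit 9), [nat_lit 4, nat_lit 0, nat_lit 5, nat_lit 2, nat_lit 1, nat_lit 0, nat_lit 4, nat_lit 2, nat_lit 3, nat_lit 2], [[nat_lit 99, nat_lit 99, nat_lit 1, nat_lit 99, nat_lit 1], [nat_lit 1, nat_lit 99, nat_lit 1, nat_lit 99]])) (.leaf ((nat_lit 10), [nat_lit 5, nat_lit 4, nat_lit 5, nat_lit 1, nat_lit 0, nat_lit 4, nat_lit 2, nat_lit 1, nat_lit 3, nat_lit 2, nat_lit 1, nat_lit 0], [[nat_lit 99, nat_lit 1, nat_lit 99, nat_lit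 0, nat_lit 0], [nat_lit 99, nat_lit 99, nat_lit 0, nat_lit 99]]))) (.node (nat_lit 941) (.leaf ((nat_lit 9), [nat_lit 1, nat_lit 0, nat_lit 4], [[nat_lit 99, nat_lit 99, nat_lit 0, nat_lit 99], [nat_lit 0, nat_lit 99, nat_lit 99, nat_lit 1]])) (.leaf ((nat_lit 9), [nat_lit 2, nat_lit 5, nat_lit 2, nat_lit 1, nat_lit 4, nat_lit 2, nat_lit 1, nat_lit 3], [[nat_lit 99, nat_lit 99, nat_lit 1, nat_lit 1, nat_lit 1], [nat_lit 99, nat_lit 1, nat_lit 99, nat_lit 0, nat_lit 0]]))))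
 (.node (nat_lit 944) (.node (nat_lit 943) (.leaf ((nat_lit 9), [nat_lit 5, nat_lit 1, nat_lit 4, nat_lit 2, nat_lit 1], [[nat_lit 99, nat_lit 0, nat_lit 99, nat_lit 99], [nat_lit 0, nat_lit 99, nat_lit 99, nat_lit 1]])) (.leaf ((nat_lit 9), [nat_lit 5, nat_lit 1, nat_lit 5, nat_lit 4, nat_lit 2, nat_lit 1, nat_lit 4, nat_lit 3, nat_lit 2, nat_lit 0, nat_lit 3, nat_lit 2, nat_lit 0], [[nat_lit 99, nat_lit 1, nat_lit 1, nat_lit 99], [nat_lit 99, nat_lit 0, nat_lit 99, nat_lit 1]]))) (.node (nat_lit 945) (.leaf ((nat_lit 9), [nat_lit 0, nat_lit 5, nat_lit 2, nat_lit 4, nat_lit 2, nat_lit 1, nat_lit 0, nat_lit 3, nat_lit 1], [[nat_lit 99, nat_lit 0, nat_lit 0, nat_lit 0, nat_lit 99, nat_lit 0], [nat_lit 1, nat_lit 99, nat_lit 1, nat_lit 99]])) (.node (nat_lit 946) (.leaf ((nat_lit 11), [nat_lit 3, nat_lit 1, nat_lit 5, nat_lit 2, nat_lit 4, nat_lit 2, nat_lit 1, nat_lit 3], [[nat_lit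 99, nat_lit 99, nat_lit 0, nat_lit 0, nat_lit 0], [nat_lit 0, nat_lit 99, nat_lit 99, nat_lit 1]])) (.leaf ((nat_lit 11), [nat_lit 0, nat_lit 5, nat_lit 3, nat_lit 2, nat_lit 1, nat_lit 4, nat_lit 2, nat_lit 0, nat_lit 3, nat_lit 0], [[nat_lit 99, nat_lit 99, nat_lit 1], [nat_lit 1, nat_lit 99, nat_lit 99, nat_lit 0]]))))))
 (.node (nat_lit 951) (.node (nat_lit 949) (.node (nat_lit 948) (.leaf ((nat_lit 10), [nat_lit 1, nat_lit 5, nat_lit 4, nat_lit 0, nat_lit 4, nat_lit 2, nat_lit 0, nat_lit 3, nat_lit 2, nat_lit 1], [[nat_lit 99, nat_lit 1, nat_lit 99], [nat_lit 1, nat_lit 99, nat_lit 99, nat_lit 0]])) (.leaf ((nat_lit 9), [nat_lit 2, nat_lit 1, nat_lit 0, nat_lit 5, nat_lit 2, nat_lit 1, nat_lit 4, nat_lit 1, nat_lit 3, nat_lit 0], [[nat_lit 1, nat_lit 1], [nat_lit 99, nat_lit 1, nat_lit 99, nat_lit 0, nat_lit 0]]))) (.node (nat_lit 950) (.leaf ((nat_lit 11), [nat_lit 5, nat_lit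 3, nat_lit 1, nat_lit 4, nat_lit 3, nat_lit 2, nat_lit 3, nat_lit 1, nat_lit 0], [[nat_lit 99, nat_lit 1, nat_lit 99, nat_lit 1, nat_lit 1], [nat_lit 0, nat_lit 99, nat_lit 1, nat_lit 99, nat_lit 0]])) (.leaf ((nat_lit 10), [nat_lit 4, nat_lit 0, nat_lit 5, nat_lit 4, nat_lit 2, nat_lit 1, nat_lit 4, nat_lit 1, nat_lit 0, nat_lit 3, nat_lit 2, nat_lit 1], [[nat_lit 99, nat_lit 1, nat_lit 99, nat_lit 1, nat_lit 1], [nat_lit 99, nat_lit 99, nat_lit 1, nat_lit 1, nat_lit 1]]))))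
 (.node (nat_lit 953) (.node (nat_lit 952) (.leaf ((nat_lit 10), [nat_lit 1, nat_lit 5, nat_lit 2, nat_lit 4, nat_lit 2, nat_lit 0, nat_lit 3, nat_lit 2, nat_lit 0], [[nat_lit 0, nat_lit 99, nat_lit 99], [nat_lit 99, nat_lit 0, nat_lit 99, nat_lit 0]])) (.leaf ((nat_lit 9), [nat_lit 2, nat_lit 1, nat_lit 0, nat_lit 5, nat_lit 2, nat_lit 1, nat_lit 4, nat_lit 1, nat_lit 3, nat_lit 0], [[nat_lit 1, nat_lit 1], [nat_lit 99, nat_lit 1, nat_lit 1, nat_lit 99, nat_lit 0]]))) (.node (nat_lit 954) (.leaf ((nat_lit 9), [nat_lit 5, nat_lit 4, nat_lit 5, nat_lit 2, nat_lit 0, nat_lit 4, nat_lit 3, nat_lit 2, nat_lit 3, nat_lit 0], [[nat_lit 1, nat_lit 99, nat_lit 0], [nat_lit 99, nat_lit 99, nat_lit 0, nat_lit 0]])) (.node (nat_lit 955) (.leaf ((nat_lit 11), [nat_lit 0, nat_lit 5, nat_lit 1, nat_lit 4, nat_lit 2, nat_lit 0, nat_lit 3, nat_lit 1, nat_lit 0], [[nat_lit 99, nat_lit 1, nat_lit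 1, nat_lit 99, nat_lit 1], [nat_lit 1, nat_lit 99, nat_lit 99, nat_lit 1, nat_lit 1]])) (.leaf ((nat_lit 11), [nat_lit 0, nat_lit 5, nat_lit 3, nat_lit 2, nat_lit 1, nat_lit 4, nat_lit 2, nat_lit 0, nat_lit 3, nat_lit 0], [[nat_lit 99, nat_lit 1, nat_lit 99, nat_lit 1, nat_lit 1], [nat_lit 1, nat_lit 99, nat_lit 1, nat_lit 99]]))))))))
 (.node (nat_lit 974) (.node (nat_lit 965) (.node (nat_lit 960) (.node (nat_lit 958) (.node (nat_lit 957) (.leaf ((nat_lit 9), [nat_lit 5, nat_lit 4, nat_lit 5, nat_lit 2, nat_lit 0, nat_lit 4, nat_lit 3, nat_lit 2, nat_lit 3, nat_lit 0], [[nat_lit 1, nat_lit 99, nat_lit 0, nat_lit 0], [nat_lit 99, nat_lit 0, nat_lit 99, nat_lit 0, nat_lit 0, nat_lit 0]])) (.leaf ((nat_lit 10), [nat_lit 5, nat_lit 1, nat_lit 5, nat_lit 4, nat_lit 0, nat_lit 4, nat_lit 3, nat_lit 2, nat_lit 3, nat_lit 2, nat_lit 1, nat_lit 0], [[nat_lit 1, nat_lit 99, nat_lit 99, nat_lit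 0, nat_lit 0], [nat_lit 99, nat_lit 1, nat_lit 99, nat_lit 0, nat_lit 0]]))) (.node (nat_lit 959) (.leaf ((nat_lit 11), [nat_lit 0, nat_lit 5, nat_lit 3, nat_lit 1, nat_lit 0, nat_lit 4, nat_lit 0, nat_lit 3, nat_lit 0], [[nat_lit 0, nat_lit 0], [nat_lit 99, nat_lit 0, nat_lit 0, nat_lit 0, nat_lit 99]])) (.leaf ((nat_lit 9), [nat_lit 2, nat_lit 0, nat_lit 5, nat_lit 3, nat_lit 1, nat_lit 4, nat_lit 3, nat_lit 0, nat_lit 3], [[nat_lit 0, nat_lit 0, nat_lit 0, nat_lit 99], [nat_lit 99, nat_lit 99, nat_lit 0, nat_lit 0, nat_lit 0]]))))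
 (.node (nat_lit 962) (.node (nat_lit 961) (.leaf ((nat_lit 9), [nat_lit 5, nat_lit 4, nat_lit 5, nat_lit 2, nat_lit 0, nat_lit 4, nat_lit 3, nat_lit 2, nat_lit 3, nat_lit 0], [[nat_lit 1, nat_lit 99], [nat_lit 99, nat_lit 1, nat_lit 99, nat_lit 0]])) (.leaf ((nat_lit 10), [nat_lit 4, nat_lit 0, nat_lit 5, nat_lit 1, nat_lit 0, nat_lit 4, nat_lit 1], [[nat_lit 1, nat_lit 99, nat_lit 0, nat_lit 99], [nat_lit 99, nat_lit 99, nat_lit 99, nat_lit 1]]))) (.node (nat_lit 963) (.leaf ((nat_lit 11), [nat_lit 2, nat_lit 1, nat_lit 5, nat_lit 3, nat_lit 2, nat_lit 1, nat_lit 4, nat_lit 1, nat_lit 3, nat_lit 2, nat_lit 1, nat_lit 0], [[nat_lit 1, nat_lit 99, nat_lit 99], [nat_lit 99, nat_lit 99, nat_lit 0, nat_lit 0, nat_lit 0]])) (.node (nat_lit 964) (.leaf ((nat_lit 9), [nat_lit 3, nat_lit 2, nat_lit 1, nat_lit 5, nat_lit 4, nat_lit 2, nat_lit 1, nat_lit 0, nat_lit 3, nat_lit 1, nat_lit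 0], [[nat_lit 1, nat_lit 99, nat_lit 0, nat_lit 0], [nat_lit 99, nat_lit 99, nat_lit 1, nat_lit 1]])) (.leaf ((nat_lit 12), [nat_lit 1, nat_lit 0, nat_lit 5, nat_lit 1, nat_lit 0, nat_lit 4, nat_lit 3, nat_lit 2, nat_lit 0, nat_lit 3], [[nat_lit 1, nat_lit 99, nat_lit 0, nat_lit 99], [nat_lit 99, nat_lit 99, nat_lit 99, nat_lit 0, nat_lit 0]]))))))
 (.node (nat_lit 969) (.node (nat_lit 967) (.node (nat_lit 966) (.leaf ((nat_lit 9), [nat_lit 4, nat_lit 5, nat_lit 4, nat_lit 0, nat_lit 4, nat_lit 3, nat_lit 2], [[nat_lit 1, nat_lit 1, nat_lit 1, nat_lit 99, nat_lit 0], [nat_lit 99, nat_lit 99, nat_lit 1, nat_lit 1, nat_lit 1]])) (.leaf ((nat_lit 9), [nat_lit 5, nat_lit 4, nat_lit 5, nat_lit 1, nat_lit 4, nat_lit 2, nat_lit 1, nat_lit 3, nat_lit 2], [[nat_lit 1, nat_lit 1], [nat_lit 99, nat_lit 1, nat_lit 99, nat_lit 1]]))) (.node (nat_lit 968) (.leaf ((nat_lit 12), [nat_lit 4, nat_lit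 0, nat_lit 5, nat_lit 4, nat_lit 2, nat_lit 1, nat_lit 4, nat_lit 2, nat_lit 3], [[nat_lit 1, nat_lit 99, nat_lit 1], [nat_lit 99, nat_lit 1, nat_lit 99, nat_lit 99, nat_lit 0]])) (.leaf ((nat_lit 12), [nat_lit 4, nat_lit 0, nat_lit 5, nat_lit 3, nat_lit 1, nat_lit 0, nat_lit 4, nat_lit 1, nat_lit 0, nat_lit 3, nat_lit 2, nat_lit 1, nat_lit 0], [[nat_lit 99, nat_lit 1, nat_lit 99, nat_lit 99, nat_lit 0], [nat_lit 0, nat_lit 99, nat_lit 1, nat_lit 99, nat_lit 0]]))))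
 (.node (nat_lit 971) (.node (nat_lit 970) (.leaf ((nat_lit 9), [nat_lit 2, nat_lit 1, nat_lit 5, nat_lit 3, nat_lit 1, nat_lit 4, nat_lit 2, nat_lit 0, nat_lit 3, nat_lit 1], [[nat_lit 1, nat_lit 99, nat_lit 0, nat_lit 0], [nat_lit 0, nat_lit 99, nat_lit 1, nat_lit 99, nat_lit 0]])) (.leaf ((nat_lit 11), [nat_lit 2, nat_lit 1, nat_lit 5, nat_lit 2, nat_lit 1, nat_lit 0, nat_lit 4, nat_lit 2, nat_lit 0, nat_lit 3, nat_lit 2, nat_lit 0], [[nat_lit 99, nat_lit 99, nat_lit 1, nat_lit 99, nat_lit 1], [nat_lit 99, nat_lit 0, nat_lit 0]]))) (.node (nat_lit 972) (.leaf ((nat_lit 10), [nat_lit 5, nat_lit 0, nat_lit 4, nat_lit 3, nat_lit 0, nat_lit 3, nat_lit 2, nat_lit 0], [[nat_lit 1, nat_lit 99], [nat_lit 99, nat_lit 0, nat_lit 99, nat_lit 1, nat_lit 1]])) (.node (nat_lit 973) (.leaf ((nat_lit 11), [nat_lit 2, nat_lit 1, nat_lit 0, nat_lit 5, nat_lit 2, nat_lit 1, nat_lit 4, nat_lit 2,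 nat_lit 3], [[nat_lit 0, nat_lit 0, nat_lit 0, nat_lit 99, nat_lit 99], [nat_lit 1, nat_lit 99, nat_lit 99, nat_lit 0]])) (.leaf ((nat_lit 9), [nat_lit 0, nat_lit 5, nat_lit 3, nat_lit 1, nat_lit 0, nat_lit 4, nat_lit 3, nat_lit 0, nat_lit 3, nat_lit 2, nat_lit 0], [[nat_lit 1, nat_lit 1, nat_lit 99, nat_lit 0, nat_lit 0], [nat_lit 99, nat_lit 1, nat_lit 1, nat_lit 99, nat_lit 0]])))))))
 (.node (nat_lit 983) (.node (nat_lit 978) (.node (nat_lit 976) (.node (nat_lit 975) (.leaf ((nat_lit 10), [nat_lit 5, nat_lit 0, nat_lit 4, nat_lit 3, nat_lit 0, nat_lit 3, nat_lit 2, nat_lit 0], [[nat_lit 1, nat_lit 99, nat_lit 1, nat_lit 1], [nat_lit 99, nat_lit 1, nat_lit 99, nat_lit 0, nat_lit 0, nat_lit 0]])) (.leaf ((nat_lit 12), [nat_lit 2, nat_lit 5, nat_lit 1, nat_lit 0, nat_lit 4, nat_lit 2, nat_lit 0, nat_lit 3, nat_lit 1, nat_lit 0], [[nat_lit 99, nat_lit 1, nat_lit 99, nat_lit 99,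 nat_lit 1], [nat_lit 99, nat_lit 99, nat_lit 0, nat_lit 99, nat_lit 0]]))) (.node (nat_lit 977) (.leaf ((nat_lit 10), [nat_lit 0, nat_lit 5, nat_lit 2, nat_lit 1, nat_lit 0, nat_lit 4, nat_lit 3, nat_lit 2, nat_lit 3, nat_lit 2, nat_lit 1], [[nat_lit 1, nat_lit 1, nat_lit 99, nat_lit 0], [nat_lit 99, nat_lit 0, nat_lit 99, nat_lit 0, nat_lit 0]])) (.leaf ((nat_lit 10), [nat_lit 5, nat_lit 0, nat_lit 4, nat_lit 3, nat_lit 0, nat_lit 3, nat_lit 2, nat_lit 0], [[nat_lit 1, nat_lit 99, nat_lit 1], [nat_lit 99, nat_lit 99, nat_lit 1, nat_lit 1, nat_lit 1]]))))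
 (.node (nat_lit 980) (.node (nat_lit 979) (.leaf ((nat_lit 9), [nat_lit 5, nat_lit 4, nat_lit 5, nat_lit 1, nat_lit 4, nat_lit 2, nat_lit 1, nat_lit 3, nat_lit 2], [[nat_lit 1, nat_lit 1], [nat_lit 99, nat_lit 99]])) (.leaf ((nat_lit 12), [nat_lit 5, nat_lit 2, nat_lit 0, nat_lit 4, nat_lit 3, nat_lit 2, nat_lit 0], [[nat_lit 99, nat_lit 99, nat_lit 99, nat_lit 0], [nat_lit 99, nat_lit 99, nat_lit 1, nat_lit 99]]))) (.node (nat_lit 981) (.leaf ((nat_lit 10), [nat_lit 0, nat_lit 5, nat_lit 2, nat_lit 1, nat_lit 0, nat_lit 4, nat_lit 3, nat_lit 2, nat_lit 3, nat_lit 2, nat_lit 1], [[nat_lit 1, nat_lit 1, nat_lit 99, nat_lit 1], [nat_lit 99, nat_lit 1, nat_lit 99]])) (.node (nat_lit 982) (.leaf ((nat_lit 13), [nat_lit 4, nat_lit 0, nat_lit 5, nat_lit 1, nat_lit 4, nat_lit 3, nat_lit 0, nat_lit 3, nat_lit 2, nat_lit 0], [[nat_lit 99, nat_lit 99, nat_lit 0, nat_lit 0, nat_lit 99], [nat_lit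 0, nat_lit 99, nat_lit 0, nat_lit 99, nat_lit 1]])) (.leaf ((nat_lit 10), [nat_lit 0, nat_lit 5, nat_lit 2, nat_lit 1, nat_lit 0, nat_lit 4, nat_lit 3, nat_lit 2, nat_lit 3, nat_lit 2, nat_lit 1], [[nat_lit 1, nat_lit 1, nat_lit 99], [nat_lit 99, nat_lit 99, nat_lit 0]]))))))
 (.node (nat_lit 987) (.node (nat_lit 985) (.node (nat_lit 984) (.leaf ((nat_lit 11), [nat_lit 5, nat_lit 2, nat_lit 0, nat_lit 4, nat_lit 0, nat_lit 3, nat_lit 2, nat_lit 1, nat_lit 0], [[nat_lit 99, nat_lit 99, nat_lit 99, nat_lit 0], [nat_lit 0, nat_lit 0, nat_lit 99, nat_lit 0]])) (.leaf ((nat_lit 9), [nat_lit 5, nat_lit 4, nat_lit 5, nat_lit 1, nat_lit 4, nat_lit 2, nat_lit 1, nat_lit 3, nat_lit 2], [[nat_lit 1, nat_lit 1], [nat_lit 99, nat_lit 0, nat_lit 99, nat_lit 0]]))) (.node (nat_lit 986) (.leaf ((nat_lit 9), [nat_lit 2, nat_lit 1, nat_lit 5, nat_lit 3, nat_lit 2, nat_lit 1, nat_lit 4, nat_lit 3,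 nat_lit 2, nat_lit 0, nat_lit 3, nat_lit 2, nat_lit 0], [[nat_lit 1, nat_lit 99, nat_lit 99, nat_lit 0, nat_lit 0, nat_lit 0], [nat_lit 0, nat_lit 99, nat_lit 99, nat_lit 1]])) (.leaf ((nat_lit 13), [nat_lit 2, nat_lit 0, nat_lit 5, nat_lit 4, nat_lit 2, nat_lit 0, nat_lit 3, nat_lit 2, nat_lit 0], [[nat_lit 99, nat_lit 0, nat_lit 99, nat_lit 1, nat_lit 1], [nat_lit 99, nat_lit 99, nat_lit 0, nat_lit 0]]))))
 (.node (nat_lit 989) (.node (nat_lit 988) (.leaf ((nat_lit 12), [nat_lit 1, nat_lit 5, nat_lit 2, nat_lit 0, nat_lit 4, nat_lit 2, nat_lit 0, nat_lit 3, nat_lit 2, nat_lit 1, nat_lit 0], [[nat_lit 99, nat_lit 99, nat_lit 0, nat_lit 0, nat_lit 0], [nat_lit 99, nat_lit 1, nat_lit 99, nat_lit 1, nat_lit 1]])) (.leaf ((nat_lit 13), [nat_lit 0, nat_lit 5, nat_lit 2, nat_lit 4, nat_lit 1, nat_lit 3, nat_lit 1, nat_lit 0], [[nat_lit 1, nat_lit 1, nat_lit 99, nat_lit 0], [nat_lit 99,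 nat_lit 99, nat_lit 99, nat_lit 99, nat_lit 0]]))) (.node (nat_lit 990) (.leaf ((nat_lit 11), [nat_lit 5, nat_lit 4, nat_lit 5, nat_lit 2, nat_lit 1, nat_lit 4, nat_lit 2, nat_lit 1, nat_lit 3, nat_lit 1, nat_lit 0], [[nat_lit 99, nat_lit 1, nat_lit 1, nat_lit 99, nat_lit 1], [nat_lit 0, nat_lit 99, nat_lit 0, nat_lit 99]])) (.node (nat_lit 991) (.leaf ((nat_lit 11), [nat_lit 5, nat_lit 4, nat_lit 5, nat_lit 2, nat_lit 4, nat_lit 3, nat_lit 0, nat_lit 3, nat_lit 2, nat_lit 1], [[nat_lit 99, nat_lit 0, nat_lit 99, nat_lit 99], [nat_lit 0, nat_lit 0, nat_lit 99, nat_lit 1, nat_lit 1]])) (.leaf ((nat_lit 13), [nat_lit 5, nat_lit 3, nat_lit 2, nat_lit 0, nat_lit 3, nat_lit 1], [[nat_lit 99, nat_lit 0, nat_lit 99, nat_lit 0], [nat_lit 99, nat_lit 1, nat_lit 99, nat_lit 0, nat_lit 0]]))))))))))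
noncomputable def n1CE_7 : Tr (ℕ × List ℕ × List (List ℕ)) := (.node (nat_lit 1063) (.node (nat_lit 1027) (.node (nat_lit 1009) (.node (nat_lit 1000) (.node (nat_lit 996) (.node (nat_lit 994) (.node (nat_lit 993) (.leaf ((nat_lit 11), [nat_lit 3, nat_lit 1, nat_lit 5, nat_lit 4, nat_lit 0, nat_lit 4, nat_lit 3, nat_lit 2, nat_lit 1], [[nat_lit 0], [nat_lit 99, nat_lit 99, nat_lit 99, nat_lit 0, nat_lit 0]])) (.leaf ((nat_lit 12), [nat_lit 2, nat_lit 0, nat_lit 5, nat_lit 3, nat_lit 1, nat_lit 0, nat_lit 4, nat_lit 1, nat_lit 3, nat_lit 1, nat_lit 0], [[nat_lit 0, nat_lit 0, nat_lit 99, nat_lit 1], [nat_lit 1, nat_lit 99, nat_lit 99, nat_lit 99, nat_lit 99]]))) (.node (nat_lit 995) (.leaf ((nat_lit 9), [nat_lit 2, nat_lit 1, nat_lit 0, nat_lit 5, nat_lit 3, nat_lit 0, nat_lit 3, nat_lit 2], [[nat_lit 0, nat_lit 99, nat_lit 99, nat_lit 0, nat_lit 0], [nat_lit 1, nat_lit 99, nat_lit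 99, nat_lit 0]])) (.leaf ((nat_lit 10), [nat_lit 3, nat_lit 1, nat_lit 5, nat_lit 2, nat_lit 0, nat_lit 4, nat_lit 2, nat_lit 0, nat_lit 3, nat_lit 2], [[nat_lit 0, nat_lit 0, nat_lit 99], [nat_lit 1, nat_lit 99, nat_lit 99, nat_lit 0, nat_lit 0]]))))
 (.node (nat_lit 998) (.node (nat_lit 997) (.leaf ((nat_lit 9), [nat_lit 2, nat_lit 1, nat_lit 0, nat_lit 5, nat_lit 3, nat_lit 2, nat_lit 1, nat_lit 4, nat_lit 0, nat_lit 3, nat_lit 2, nat_lit 1], [[nat_lit 1], [nat_lit 99, nat_lit 99, nat_lit 99]])) (.leaf ((nat_lit 11), [nat_lit 4, nat_lit 0, nat_lit 5, nat_lit 1, nat_lit 4, nat_lit 3, nat_lit 2, nat_lit 0, nat_lit 3, nat_lit 2, nat_lit 1, nat_lit 0], [[nat_lit 99, nat_lit 99, nat_lit 1], [nat_lit 99, nat_lit 1, nat_lit 99, nat_lit 99, nat_lit 0]]))) (.node (nat_lit 999) (.leaf ((nat_lit 10), [nat_lit 2, nat_lit 1, nat_lit 0, nat_lit 5, nat_lit 3, nat_lit 1, nat_lit 4, nat_lit 1,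 nat_lit 0, nat_lit 3, nat_lit 1, nat_lit 0], [[nat_lit 0, nat_lit 0, nat_lit 0, nat_lit 99], [nat_lit 99, nat_lit 0, nat_lit 99, nat_lit 0, nat_lit 0]])) (.leaf ((nat_lit 11), [nat_lit 5, nat_lit 4, nat_lit 5, nat_lit 1, nat_lit 0, nat_lit 4, nat_lit 2, nat_lit 1, nat_lit 0, nat_lit 3, nat_lit 2], [[nat_lit 1, nat_lit 1, nat_lit 1], [nat_lit 99, nat_lit 99, nat_lit 99, nat_lit 0]])))))
 (.node (nat_lit 1004) (.node (nat_lit 1002) (.node (nat_lit 1001) (.leaf ((nat_lit 13), [nat_lit 2, nat_lit 1, nat_lit 0, nat_lit 5, nat_lit 4, nat_lit 2, nat_lit 1, nat_lit 4, nat_lit 2, nat_lit 0, nat_lit 3, nat_lit 2, nat_lit 1, nat_lit 0], [[nat_lit 1, nat_lit 99, nat_lit 0, nat_lit 99, nat_lit 0], [nat_lit 0, nat_lit 99, nat_lit 99, nat_lit 1, nat_lit 99]])) (.leaf ((nat_lit 10), [nat_lit 4, nat_lit 5, nat_lit 0, nat_lit 4, nat_lit 3, nat_lit 2, nat_lit 1, nat_lit 0], [[nat_lit 99, nat_lit 99,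 nat_lit 99, nat_lit 0, nat_lit 0], [nat_lit 99, nat_lit 99, nat_lit 0, nat_lit 99, nat_lit 1]]))) (.node (nat_lit 1003) (.leaf ((nat_lit 10), [nat_lit 3, nat_lit 1, nat_lit 5, nat_lit 2, nat_lit 0, nat_lit 4, nat_lit 2, nat_lit 0, nat_lit 3, nat_lit 2], [[nat_lit 0, nat_lit 0, nat_lit 99, nat_lit 1], [nat_lit 1, nat_lit 99, nat_lit 1, nat_lit 99, nat_lit 0]])) (.leaf ((nat_lit 13), [nat_lit 1, nat_lit 4, nat_lit 3, nat_lit 2, nat_lit 3, nat_lit 0], [[nat_lit 1, nat_lit 99, nat_lit 99, nat_lit 0, nat_lit 0], [nat_lit 99, nat_lit 1, nat_lit 99, nat_lit 0, nat_lit 0, nat_lit 0]]))))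
 (.node (nat_lit 1006) (.node (nat_lit 1005) (.leaf ((nat_lit 13), [nat_lit 3, nat_lit 2, nat_lit 1, nat_lit 5, nat_lit 3, nat_lit 2, nat_lit 3], [[nat_lit 1, nat_lit 99, nat_lit 0, nat_lit 0], [nat_lit 0, nat_lit 99, nat_lit 99, nat_lit 0, nat_lit 0]])) (.leaf ((nat_lit 13), [nat_lit 5, nat_lit 1, nat_lit 5, nat_lit 2, nat_lit 0, nat_lit 4, nat_lit 1, nat_lit 0, nat_lit 3], [[nat_lit 99, nat_lit 99, nat_lit 99, nat_lit 0, nat_lit 99], [nat_lit 1, nat_lit 99, nat_lit 1, nat_lit 99, nat_lit 0]]))) (.node (nat_lit 1007) (.leaf ((nat_lit 13), [nat_lit 1, nat_lit 4, nat_lit 1, nat_lit 0, nat_lit 3], [[nat_lit 1, nat_lit 1, nat_lit 99, nat_lit 0], [nat_lit 99, nat_lit 99, nat_lit 99]])) (.node (nat_lit 1008) (.leaf ((nat_lit 9), [nat_lit 5, nat_lit 4, nat_lit 5, nat_lit 3, nat_lit 2, nat_lit 1, nat_lit 4, nat_lit 1, nat_lit 3, nat_lit 1], [[nat_lit 99, nat_lit 99, nat_lit 99], [nat_lit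 99, nat_lit 1, nat_lit 99, nat_lit 1]])) (.leaf ((nat_lit 11), [nat_lit 2, nat_lit 1, nat_lit 0, nat_lit 5, nat_lit 4, nat_lit 2, nat_lit 1, nat_lit 4, nat_lit 3, nat_lit 0, nat_lit 3, nat_lit 2], [[nat_lit 1, nat_lit 99, nat_lit 0, nat_lit 99, nat_lit 0], [nat_lit 99, nat_lit 99, nat_lit 99, nat_lit 99]])))))))
 (.node (nat_lit 1018) (.node (nat_lit 1013) (.node (nat_lit 1011) (.node (nat_lit 1010) (.leaf ((nat_lit 11), [nat_lit 4, nat_lit 5, nat_lit 2, nat_lit 0, nat_lit 4, nat_lit 2, nat_lit 1, nat_lit 0, nat_lit 3, nat_lit 2, nat_lit 1, nat_lit 0], [[nat_lit 99, nat_lit 1, nat_lit 1, nat_lit 1, nat_lit 99, nat_lit 0], [nat_lit 99, nat_lit 1, nat_lit 1, nat_lit 99, nat_lit 0, nat_lit 0]])) (.leaf ((nat_lit 13), [nat_lit 2, nat_lit 1, nat_lit 0, nat_lit 5, nat_lit 3, nat_lit 1, nat_lit 0, nat_lit 4, nat_lit 1, nat_lit 0, nat_lit 3, nat_lit 2, nat_lit 0], [[nat_lit 0, nat_lit 99,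 nat_lit 0, nat_lit 99, nat_lit 0], [nat_lit 99, nat_lit 1, nat_lit 99, nat_lit 0, nat_lit 0, nat_lit 0]]))) (.node (nat_lit 1012) (.leaf ((nat_lit 11), [nat_lit 4, nat_lit 5, nat_lit 2, nat_lit 0, nat_lit 4, nat_lit 2, nat_lit 1, nat_lit 0, nat_lit 3, nat_lit 2, nat_lit 1, nat_lit 0], [[nat_lit 99, nat_lit 99, nat_lit 1, nat_lit 1, nat_lit 1], [nat_lit 99, nat_lit 0, nat_lit 99, nat_lit 1, nat_lit 1]])) (.leaf ((nat_lit 11), [nat_lit 1, nat_lit 5, nat_lit 4, nat_lit 2, nat_lit 1, nat_lit 4, nat_lit 3, nat_lit 0, nat_lit 3, nat_lit 2, nat_lit 0], [[nat_lit 1, nat_lit 99, nat_lit 0, nat_lit 99, nat_lit 0], [nat_lit 99, nat_lit 0, nat_lit 99, nat_lit 99, nat_lit 0]]))))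
 (.node (nat_lit 1015) (.node (nat_lit 1014) (.leaf ((nat_lit 11), [nat_lit 2, nat_lit 1, nat_lit 0, nat_lit 5, nat_lit 2, nat_lit 0, nat_lit 4, nat_lit 2, nat_lit 1, nat_lit 3, nat_lit 2], [[nat_lit 99, nat_lit 99, nat_lit 1], [nat_lit 99, nat_lit 0, nat_lit 99, nat_lit 0]])) (.leaf ((nat_lit 9), [nat_lit 5, nat_lit 1, nat_lit 5, nat_lit 1, nat_lit 4, nat_lit 1, nat_lit 3], [[nat_lit 99, nat_lit 1, nat_lit 99, nat_lit 99, nat_lit 0], [nat_lit 1, nat_lit 99, nat_lit 99, nat_lit 0]]))) (.node (nat_lit 1016) (.leaf ((nat_lit 10), [nat_lit 4, nat_lit 5, nat_lit 2, nat_lit 0, nat_lit 3, nat_lit 2, nat_lit 1, nat_lit 0], [[nat_lit 99, nat_lit 99, nat_lit 99, nat_lit 0, nat_lit 0], [nat_lit 99, nat_lit 99, nat_lit 1, nat_lit 1, nat_lit 1]])) (.node (nat_lit 1017) (.leaf ((nat_lit 13), [nat_lit 3, nat_lit 1, nat_lit 5, nat_lit 2, nat_lit 1, nat_lit 4, nat_lit 2, nat_lit 1], [[nat_lit 0,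 nat_lit 0, nat_lit 0, nat_lit 99, nat_lit 1], [nat_lit 1, nat_lit 1, nat_lit 99, nat_lit 99]])) (.leaf ((nat_lit 13), [nat_lit 5, nat_lit 4, nat_lit 0, nat_lit 4, nat_lit 2, nat_lit 1, nat_lit 3, nat_lit 2, nat_lit 1], [[nat_lit 99, nat_lit 99, nat_lit 1, nat_lit 99, nat_lit 0], [nat_lit 0, nat_lit 99, nat_lit 1, nat_lit 99]]))))))
 (.node (nat_lit 1022) (.node (nat_lit 1020) (.node (nat_lit 1019) (.leaf ((nat_lit 11), [nat_lit 0, nat_lit 5, nat_lit 4, nat_lit 2, nat_lit 1, nat_lit 4, nat_lit 3, nat_lit 2, nat_lit 0, nat_lit 3, nat_lit 1], [[nat_lit 0], [nat_lit 99, nat_lit 99, nat_lit 99, nat_lit 0, nat_lit 0]])) (.leaf ((nat_lit 13), [nat_lit 2, nat_lit 4, nat_lit 2, nat_lit 0, nat_lit 3, nat_lit 1], [[nat_lit 1, nat_lit 1, nat_lit 99, nat_lit 1, nat_lit 1], [nat_lit 99, nat_lit 0, nat_lit 99, nat_lit 1]]))) (.node (nat_lit 1021) (.leaf ((nat_lit 12), [nat_lit 2, nat_lit 0, nat_lit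 5, nat_lit 3, nat_lit 1, nat_lit 0, nat_lit 4, nat_lit 1, nat_lit 3, nat_lit 1, nat_lit 0], [[nat_lit 99, nat_lit 99, nat_lit 99, nat_lit 99, nat_lit 0], [nat_lit 99, nat_lit 0, nat_lit 99, nat_lit 99, nat_lit 0]])) (.leaf ((nat_lit 9), [nat_lit 5, nat_lit 1, nat_lit 5, nat_lit 1, nat_lit 4, nat_lit 1, nat_lit 3], [[nat_lit 99, nat_lit 99, nat_lit 0, nat_lit 99, nat_lit 0, nat_lit 0], [nat_lit 1, nat_lit 99, nat_lit 0, nat_lit 99, nat_lit 0, nat_lit 0]]))))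
 (.node (nat_lit 1024) (.node (nat_lit 1023) (.leaf ((nat_lit 11), [nat_lit 5, nat_lit 4, nat_lit 5, nat_lit 3, nat_lit 2, nat_lit 1, nat_lit 4, nat_lit 0], [[nat_lit 99, nat_lit 1, nat_lit 1, nat_lit 99, nat_lit 0], [nat_lit 0, nat_lit 99, nat_lit 1, nat_lit 99, nat_lit 0]])) (.leaf ((nat_lit 11), [nat_lit 4, nat_lit 5, nat_lit 4, nat_lit 3, nat_lit 2, nat_lit 1, nat_lit 0], [[nat_lit 99, nat_lit 0, nat_lit 0, nat_lit 99], [nat_lit 1, nat_lit 99, nat_lit 99, nat_lit 0]]))) (.node (nat_lit 1025) (.leaf ((nat_lit 11), [nat_lit 5, nat_lit 4, nat_lit 5, nat_lit 3, nat_lit 2, nat_lit 1, nat_lit 4, nat_lit 0], [[nat_lit 99, nat_lit 1, nat_lit 99, nat_lit 0, nat_lit 0], [nat_lit 0, nat_lit 99, nat_lit 99, nat_lit 0, nat_lit 0]])) (.node (nat_lit 1026) (.leaf ((nat_lit 9), [nat_lit 4, nat_lit 5, nat_lit 1, nat_lit 0, nat_lit 4, nat_lit 1, nat_lit 3, nat_lit 1, nat_lit 0], [[nat_lit 1,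 nat_lit 99, nat_lit 99, nat_lit 0, nat_lit 99], [nat_lit 99, nat_lit 99, nat_lit 1, nat_lit 99, nat_lit 0]])) (.leaf ((nat_lit 11), [nat_lit 4, nat_lit 5, nat_lit 4, nat_lit 3, nat_lit 2, nat_lit 1, nat_lit 0], [[nat_lit 99, nat_lit 0, nat_lit 99, nat_lit 1], [nat_lit 1, nat_lit 99, nat_lit 1, nat_lit 99]]))))))))
 (.node (nat_lit 1045) (.node (nat_lit 1036) (.node (nat_lit 1031) (.node (nat_lit 1029) (.node (nat_lit 1028) (.leaf ((nat_lit 11), [nat_lit 5, nat_lit 3, nat_lit 1, nat_lit 0, nat_lit 4, nat_lit 3, nat_lit 2, nat_lit 1], [[nat_lit 1, nat_lit 1, nat_lit 1], [nat_lit 99, nat_lit 99, nat_lit 99, nat_lit 0]])) (.leaf ((nat_lit 10), [nat_lit 3, nat_lit 2, nat_lit 1, nat_lit 5, nat_lit 4, nat_lit 2, nat_lit 1, nat_lit 4, nat_lit 1, nat_lit 3, nat_lit 2], [[nat_lit 99, nat_lit 99, nat_lit 99, nat_lit 99, nat_lit 1], [nat_lit 99, nat_lit 1, nat_lit 99, nat_lit 0, nat_lit 0,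 nat_lit 0]]))) (.node (nat_lit 1030) (.leaf ((nat_lit 13), [nat_lit 1, nat_lit 0, nat_lit 5, nat_lit 4, nat_lit 2, nat_lit 1, nat_lit 4, nat_lit 3, nat_lit 2, nat_lit 3, nat_lit 2], [[nat_lit 99, nat_lit 1, nat_lit 99, nat_lit 99, nat_lit 1], [nat_lit 1, nat_lit 99, nat_lit 99, nat_lit 0]])) (.leaf ((nat_lit 10), [nat_lit 2, nat_lit 1, nat_lit 0, nat_lit 5, nat_lit 3, nat_lit 1, nat_lit 0, nat_lit 4, nat_lit 3, nat_lit 0, nat_lit 3, nat_lit 1, nat_lit 0], [[nat_lit 0, nat_lit 99, nat_lit 1, nat_lit 1], [nat_lit 99, nat_lit 1, nat_lit 99]]))))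
 (.node (nat_lit 1033) (.node (nat_lit 1032) (.leaf ((nat_lit 9), [nat_lit 0, nat_lit 5, nat_lit 1, nat_lit 4, nat_lit 1, nat_lit 0, nat_lit 3], [[nat_lit 0, nat_lit 99, nat_lit 99], [nat_lit 1, nat_lit 99, nat_lit 99, nat_lit 0]])) (.leaf ((nat_lit 9), [nat_lit 2, nat_lit 5, nat_lit 3, nat_lit 1, nat_lit 4, nat_lit 1, nat_lit 0, nat_lit 3, nat_lit 2, nat_lit 1, nat_lit 0], [[nat_lit 99, nat_lit 1, nat_lit 1, nat_lit 99], [nat_lit 0, nat_lit 99, nat_lit 99, nat_lit 1]]))) (.node (nat_lit 1034) (.leaf ((nat_lit 11), [nat_lit 2, nat_lit 5, nat_lit 4, nat_lit 3, nat_lit 2, nat_lit 3, nat_lit 1], [[nat_lit 1, nat_lit 99, nat_lit 99], [nat_lit 0, nat_lit 99, nat_lit 99, nat_lit 1]])) (.node (nat_lit 1035) (.leaf ((nat_lit 12), [nat_lit 2, nat_lit 0, nat_lit 5, nat_lit 3, nat_lit 2, nat_lit 1, nat_lit 4, nat_lit 2], [[nat_lit 99, nat_lit 1, nat_lit 1, nat_lit 99], [nat_lit 0, nat_lit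 99, nat_lit 99, nat_lit 99, nat_lit 1]])) (.leaf ((nat_lit 9), [nat_lit 3, nat_lit 1, nat_lit 5, nat_lit 2, nat_lit 1, nat_lit 0, nat_lit 4, nat_lit 3, nat_lit 2, nat_lit 0, nat_lit 3], [[nat_lit 99, nat_lit 0, nat_lit 99, nat_lit 0, nat_lit 0], [nat_lit 0, nat_lit 99, nat_lit 0, nat_lit 99]]))))))
 (.node (nat_lit 1040) (.node (nat_lit 1038) (.node (nat_lit 1037) (.leaf ((nat_lit 9), [nat_lit 5, nat_lit 4, nat_lit 5, nat_lit 3, nat_lit 0, nat_lit 3, nat_lit 2, nat_lit 1], [[nat_lit 0, nat_lit 0, nat_lit 0], [nat_lit 99, nat_lit 0, nat_lit 99, nat_lit 0]])) (.leaf ((nat_lit 11), [nat_lit 2, nat_lit 1, nat_lit 0, nat_lit 5, nat_lit 1, nat_lit 0, nat_lit 4, nat_lit 3], [[nat_lit 0], [nat_lit 99, nat_lit 0, nat_lit 99, nat_lit 0, nat_lit 0, nat_lit 0]]))) (.node (nat_lit 1039) (.leaf ((nat_lit 11), [nat_lit 3, nat_lit 1, nat_lit 5, nat_lit 2, nat_lit 1, nat_lit 4, nat_lit 3, nat_lit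 0, nat_lit 3, nat_lit 1], [[nat_lit 1, nat_lit 1, nat_lit 1, nat_lit 99], [nat_lit 0, nat_lit 99, nat_lit 99, nat_lit 1]])) (.leaf ((nat_lit 13), [nat_lit 0, nat_lit 5, nat_lit 4, nat_lit 0, nat_lit 4, nat_lit 3, nat_lit 2, nat_lit 3, nat_lit 1], [[nat_lit 0, nat_lit 0, nat_lit 99, nat_lit 99], [nat_lit 1, nat_lit 1, nat_lit 99, nat_lit 0]]))))
 (.node (nat_lit 1042) (.node (nat_lit 1041) (.leaf ((nat_lit 12), [nat_lit 1, nat_lit 0, nat_lit 5, nat_lit 1, nat_lit 0, nat_lit 4, nat_lit 2, nat_lit 0, nat_lit 3], [[nat_lit 99, nat_lit 1, nat_lit 1], [nat_lit 99, nat_lit 99, nat_lit 99, nat_lit 99, nat_lit 0]])) (.leaf ((nat_lit 11), [nat_lit 2, nat_lit 1, nat_lit 0, nat_lit 5, nat_lit 3, nat_lit 1, nat_lit 4, nat_lit 2, nat_lit 1, nat_lit 3, nat_lit 2, nat_lit 0], [[nat_lit 99, nat_lit 99, nat_lit 99, nat_lit 0], [nat_lit 1, nat_lit 99, nat_lit 99, nat_lit 1]]))) (.node (nat_lit 1043)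 (.leaf ((nat_lit 11), [nat_lit 5, nat_lit 4, nat_lit 5, nat_lit 3, nat_lit 2, nat_lit 1, nat_lit 4, nat_lit 1, nat_lit 0], [[nat_lit 0, nat_lit 0, nat_lit 0, nat_lit 99], [nat_lit 99, nat_lit 1, nat_lit 99, nat_lit 1]])) (.node (nat_lit 1044) (.leaf ((nat_lit 9), [nat_lit 2, nat_lit 5, nat_lit 3, nat_lit 1, nat_lit 4, nat_lit 1, nat_lit 0, nat_lit 3, nat_lit 2, nat_lit 1, nat_lit 0], [[nat_lit 99, nat_lit 1, nat_lit 99, nat_lit 0], [nat_lit 0, nat_lit 99, nat_lit 0, nat_lit 99]])) (.leaf ((nat_lit 11), [nat_lit 2, nat_lit 1, nat_lit 0, nat_lit 5, nat_lit 1, nat_lit 0, nat_lit 4, nat_lit 3], [[nat_lit 0], [nat_lit 99, nat_lit 99, nat_lit 0, nat_lit 0]])))))))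
 (.node (nat_lit 1054) (.node (nat_lit 1049) (.node (nat_lit 1047) (.node (nat_lit 1046) (.leaf ((nat_lit 13), [nat_lit 0, nat_lit 4, nat_lit 1, nat_lit 3, nat_lit 0], [[nat_lit 0, nat_lit 99, nat_lit 1, nat_lit 99], [nat_lit 1, nat_lit 1, nat_lit 1, nat_lit 99, nat_lit 0]])) (.leaf ((nat_lit 9), [nat_lit 1, nat_lit 0, nat_lit 5, nat_lit 3, nat_lit 2, nat_lit 1, nat_lit 4, nat_lit 2, nat_lit 0, nat_lit 3, nat_lit 2, nat_lit 1], [[nat_lit 0, nat_lit 99, nat_lit 0, nat_lit 0, nat_lit 0], [nat_lit 1, nat_lit 99, nat_lit 1, nat_lit 99]]))) (.node (nat_lit 1048) (.leaf ((nat_lit 11), [nat_lit 2, nat_lit 1, nat_lit 0, nat_lit 5, nat_lit 1, nat_lit 0, nat_lit 4, nat_lit 3], [[nat_lit 0], [nat_lit 99, nat_lit 1, nat_lit 99, nat_lit 0]])) (.leaf ((nat_lit 11), [nat_lit 3, nat_lit 1, nat_lit 5, nat_lit 2, nat_lit 1, nat_lit 4, nat_lit 3, nat_lit 0, nat_lit 3, nat_lit 1], [[nat_lit 1, nat_lit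 1, nat_lit 1, nat_lit 99, nat_lit 0], [nat_lit 0, nat_lit 99, nat_lit 0, nat_lit 99]]))))
 (.node (nat_lit 1051) (.node (nat_lit 1050) (.leaf ((nat_lit 9), [nat_lit 5, nat_lit 4, nat_lit 5, nat_lit 3, nat_lit 0, nat_lit 3, nat_lit 2, nat_lit 1], [[nat_lit 0, nat_lit 0, nat_lit 0], [nat_lit 99, nat_lit 99]])) (.leaf ((nat_lit 9), [nat_lit 3, nat_lit 1, nat_lit 5, nat_lit 2, nat_lit 1, nat_lit 0, nat_lit 4, nat_lit 3, nat_lit 2, nat_lit 0, nat_lit 3], [[nat_lit 99, nat_lit 0, nat_lit 0], [nat_lit 0, nat_lit 99]]))) (.node (nat_lit 1052) (.leaf ((nat_lit 12), [nat_lit 2, nat_lit 0, nat_lit 4, nat_lit 2, nat_lit 0], [[nat_lit 1, nat_lit 1], [nat_lit 99, nat_lit 99, nat_lit 0]])) (.node (nat_lit 1053) (.leaf ((nat_lit 9), [nat_lit 2, nat_lit 1, nat_lit 5, nat_lit 3, nat_lit 1, nat_lit 4, nat_lit 1, nat_lit 3, nat_lit 2, nat_lit 1, nat_lit 0], [[nat_lit 0, nat_lit 99, nat_lit 1], [nat_lit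 99, nat_lit 99, nat_lit 1, nat_lit 1]])) (.leaf ((nat_lit 11), [nat_lit 3, nat_lit 1, nat_lit 5, nat_lit 4, nat_lit 0, nat_lit 4, nat_lit 3, nat_lit 2, nat_lit 1], [[nat_lit 0], [nat_lit 99, nat_lit 99, nat_lit 0, nat_lit 0]]))))))
 (.node (nat_lit 1058) (.node (nat_lit 1056) (.node (nat_lit 1055) (.leaf ((nat_lit 12), [nat_lit 2, nat_lit 1, nat_lit 0, nat_lit 5, nat_lit 3, nat_lit 2, nat_lit 1, nat_lit 4, nat_lit 0, nat_lit 3, nat_lit 0], [[nat_lit 99, nat_lit 0, nat_lit 99], [nat_lit 1, nat_lit 1, nat_lit 1]])) (.leaf ((nat_lit 9), [nat_lit 0, nat_lit 5, nat_lit 1, nat_lit 4, nat_lit 1, nat_lit 0, nat_lit 3], [[nat_lit 0, nat_lit 99], [nat_lit 1, nat_lit 99, nat_lit 0]]))) (.node (nat_lit 1057) (.leaf ((nat_lit 9), [nat_lit 0, nat_lit 5, nat_lit 3, nat_lit 1, nat_lit 4, nat_lit 3], [[nat_lit 1], [nat_lit 99, nat_lit 1, nat_lit 99, nat_lit 0]])) (.leaf ((nat_lit 9), [nat_lit 5,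 nat_lit 2, nat_lit 1, nat_lit 4, nat_lit 1, nat_lit 0, nat_lit 3, nat_lit 2, nat_lit 1], [[nat_lit 0, nat_lit 0, nat_lit 0], [nat_lit 99, nat_lit 0, nat_lit 99]]))))
 (.node (nat_lit 1060) (.node (nat_lit 1059) (.leaf ((nat_lit 9), [nat_lit 5, nat_lit 4, nat_lit 5, nat_lit 4, nat_lit 2, nat_lit 1, nat_lit 4, nat_lit 1, nat_lit 3, nat_lit 1], [[nat_lit 1, nat_lit 99], [nat_lit 99, nat_lit 1, nat_lit 1]])) (.leaf ((nat_lit 12), [nat_lit 5, nat_lit 4, nat_lit 5, nat_lit 4, nat_lit 2, nat_lit 1, nat_lit 4, nat_lit 2, nat_lit 3, nat_lit 1, nat_lit 0], [[nat_lit 1, nat_lit 1], [nat_lit 99, nat_lit 1, nat_lit 99]]))) (.node (nat_lit 1061) (.leaf ((nat_lit 12), [nat_lit 2, nat_lit 0, nat_lit 4, nat_lit 2, nat_lit 0], [[nat_lit 1, nat_lit 1], [nat_lit 99, nat_lit 1, nat_lit 99]])) (.node (nat_lit 1062) (.leaf ((nat_lit 9), [nat_lit 5, nat_lit 4, nat_lit 5, nat_lit 4, nat_lit 2, nat_lit 1,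 nat_lit 4, nat_lit 1, nat_lit 3, nat_lit 1], [[nat_lit 1, nat_lit 99, nat_lit 0], [nat_lit 99, nat_lit 1]])) (.leaf ((nat_lit 9), [nat_lit 3, nat_lit 1, nat_lit 5, nat_lit 2, nat_lit 1, nat_lit 0, nat_lit 4, nat_lit 3, nat_lit 2, nat_lit 0, nat_lit 3], [[nat_lit 99, nat_lit 0, nat_lit 0, nat_lit 0], [nat_lit 0, nat_lit 99, nat_lit 0]])))))))))
 (.node (nat_lit 1098) (.node (nat_lit 1080) (.node (nat_lit 1071) (.node (nat_lit 1067) (.node (nat_lit 1065) (.node (nat_lit 1064) (.leaf ((nat_lit 9), [nat_lit 0, nat_lit 5, nat_lit 3, nat_lit 1, nat_lit 4, nat_lit 3], [[nat_lit 1], [nat_lit 99, nat_lit 99, nat_lit 0, nat_lit 0]])) (.leaf ((nat_lit 9), [nat_lit 2, nat_lit 1, nat_lit 5, nat_lit 1, nat_lit 4, nat_lit 1, nat_lit 3, nat_lit 2, nat_lit 1], [[nat_lit 1, nat_lit 1, nat_lit 99, nat_lit 0], [nat_lit 99, nat_lit 99]]))) (.node (nat_lit 1066) (.leaf ((nat_lit 11), [nat_lit 2, nat_lit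 4, nat_lit 1], [[nat_lit 99, nat_lit 0, nat_lit 0, nat_lit 0], [nat_lit 99, nat_lit 0, nat_lit 99, nat_lit 0]])) (.leaf ((nat_lit 9), [nat_lit 0, nat_lit 5, nat_lit 1, nat_lit 4, nat_lit 1, nat_lit 3], [[nat_lit 0, nat_lit 99, nat_lit 1], [nat_lit 99, nat_lit 0, nat_lit 99, nat_lit 0]]))))
 (.node (nat_lit 1069) (.node (nat_lit 1068) (.leaf ((nat_lit 12), [nat_lit 5, nat_lit 3, nat_lit 1, nat_lit 0, nat_lit 4, nat_lit 0, nat_lit 3, nat_lit 0], [[nat_lit 0, nat_lit 99, nat_lit 99, nat_lit 0], [nat_lit 99, nat_lit 0, nat_lit 99]])) (.leaf ((nat_lit 11), [nat_lit 2, nat_lit 4, nat_lit 1], [[nat_lit 99, nat_lit 0, nat_lit 0], [nat_lit 99, nat_lit 99]]))) (.node (nat_lit 1070) (.leaf ((nat_lit 12), [nat_lit 5, nat_lit 4, nat_lit 5, nat_lit 4, nat_lit 2, nat_lit 1, nat_lit 4, nat_lit 2, nat_lit 3, nat_lit 1, nat_lit 0], [[nat_lit 1, nat_lit 1], [nat_lit 99, nat_lit 99, nat_lit 0]])) (.leaf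 ((nat_lit 9), [nat_lit 5, nat_lit 2, nat_lit 1, nat_lit 4, nat_lit 1, nat_lit 0, nat_lit 3, nat_lit 2, nat_lit 1], [[nat_lit 0, nat_lit 0, nat_lit 0], [nat_lit 99, nat_lit 99, nat_lit 1]])))))
 (.node (nat_lit 1075) (.node (nat_lit 1073) (.node (nat_lit 1072) (.leaf ((nat_lit 9), [nat_lit 2, nat_lit 1, nat_lit 5, nat_lit 4, nat_lit 0, nat_lit 4, nat_lit 0], [[nat_lit 0, nat_lit 0, nat_lit 99, nat_lit 0], [nat_lit 99, nat_lit 0, nat_lit 99, nat_lit 0]])) (.leaf ((nat_lit 10), [nat_lit 1, nat_lit 0, nat_lit 5, nat_lit 2, nat_lit 0, nat_lit 4, nat_lit 3, nat_lit 1], [[nat_lit 99, nat_lit 0, nat_lit 99, nat_lit 99], [nat_lit 99, nat_lit 99, nat_lit 0]]))) (.node (nat_lit 1074) (.leaf ((nat_lit 12), [nat_lit 3, nat_lit 1, nat_lit 4, nat_lit 2, nat_lit 0, nat_lit 3, nat_lit 0], [[nat_lit 0, nat_lit 0, nat_lit 99, nat_lit 0, nat_lit 0], [nat_lit 99, nat_lit 99, nat_lit 0, nat_lit 0, nat_lit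 99]])) (.leaf ((nat_lit 9), [nat_lit 3, nat_lit 2, nat_lit 1, nat_lit 5, nat_lit 2, nat_lit 0, nat_lit 4, nat_lit 2, nat_lit 3, nat_lit 2, nat_lit 1, nat_lit 0], [[nat_lit 99, nat_lit 0, nat_lit 0, nat_lit 0, nat_lit 99], [nat_lit 1, nat_lit 99, nat_lit 0]]))))
 (.node (nat_lit 1077) (.node (nat_lit 1076) (.leaf ((nat_lit 9), [nat_lit 4, nat_lit 1, nat_lit 3, nat_lit 2, nat_lit 1, nat_lit 0], [[nat_lit 99, nat_lit 99, nat_lit 99, nat_lit 0], [nat_lit 1, nat_lit 99, nat_lit 99, nat_lit 0]])) (.leaf ((nat_lit 9), [nat_lit 2, nat_lit 5, nat_lit 1, nat_lit 4, nat_lit 3, nat_lit 2, nat_lit 0, nat_lit 3, nat_lit 1, nat_lit 0], [[nat_lit 99, nat_lit 0, nat_lit 0], [nat_lit 99, nat_lit 99]]))) (.node (nat_lit 1078) (.leaf ((nat_lit 12), [nat_lit 2, nat_lit 1, nat_lit 5, nat_lit 4, nat_lit 3, nat_lit 0, nat_lit 3], [[nat_lit 99, nat_lit 0, nat_lit 0, nat_lit 0, nat_lit 99], [nat_lit 0, nat_lit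 0, nat_lit 99, nat_lit 99, nat_lit 0, nat_lit 0]])) (.node (nat_lit 1079) (.leaf ((nat_lit 9), [nat_lit 1, nat_lit 0, nat_lit 5, nat_lit 4, nat_lit 2, nat_lit 1, nat_lit 4, nat_lit 2, nat_lit 1, nat_lit 3, nat_lit 0], [[nat_lit 99, nat_lit 99, nat_lit 0, nat_lit 99, nat_lit 0], [nat_lit 1, nat_lit 99]])) (.leaf ((nat_lit 9), [nat_lit 5, nat_lit 1, nat_lit 5, nat_lit 4, nat_lit 2, nat_lit 1, nat_lit 0, nat_lit 3, nat_lit 2, nat_lit 1, nat_lit 0], [[nat_lit 1, nat_lit 1, nat_lit 99, nat_lit 99, nat_lit 99], [nat_lit 99, nat_lit 99, nat_lit 99, nat_lit 0, nat_lit 99, nat_lit 0]])))))))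
 (.node (nat_lit 1089) (.node (nat_lit 1084) (.node (nat_lit 1082) (.node (nat_lit 1081) (.leaf ((nat_lit 9), [nat_lit 1, nat_lit 0, nat_lit 5, nat_lit 3, nat_lit 1, nat_lit 0, nat_lit 4, nat_lit 3, nat_lit 2, nat_lit 0, nat_lit 3], [[nat_lit 0, nat_lit 99, nat_lit 99, nat_lit 1], [nat_lit 1, nat_lit 99, nat_lit 1, nat_lit 99]])) (.leaf ((nat_lit 9), [nat_lit 5, nat_lit 3, nat_lit 1, nat_lit 4, nat_lit 0, nat_lit 3, nat_lit 2], [[nat_lit 99, nat_lit 99, nat_lit 99], [nat_lit 0, nat_lit 99, nat_lit 0, nat_lit 0]]))) (.node (nat_lit 1083) (.leaf ((nat_lit 9), [nat_lit 2, nat_lit 1, nat_lit 5, nat_lit 4, nat_lit 0, nat_lit 4, nat_lit 0], [[nat_lit 0, nat_lit 0, nat_lit 99, nat_lit 1], [nat_lit 99, nat_lit 1, nat_lit 99, nat_lit 1]])) (.leaf ((nat_lit 9), [nat_lit 1, nat_lit 0, nat_lit 4, nat_lit 3, nat_lit 2, nat_lit 0], [[nat_lit 0, nat_lit 99, nat_lit 99], [nat_lit 1, nat_lit 99,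 nat_lit 99, nat_lit 0]]))))
 (.node (nat_lit 1086) (.node (nat_lit 1085) (.leaf ((nat_lit 10), [nat_lit 5, nat_lit 1, nat_lit 5, nat_lit 4, nat_lit 2, nat_lit 1, nat_lit 4, nat_lit 2, nat_lit 1, nat_lit 0, nat_lit 3, nat_lit 0], [[nat_lit 99, nat_lit 99, nat_lit 1, nat_lit 99], [nat_lit 99, nat_lit 99, nat_lit 0, nat_lit 0]])) (.leaf ((nat_lit 9), [nat_lit 5, nat_lit 4, nat_lit 5, nat_lit 0, nat_lit 4, nat_lit 2, nat_lit 0, nat_lit 3, nat_lit 1], [[nat_lit 99, nat_lit 99, nat_lit 99, nat_lit 1], [nat_lit 99, nat_lit 0]]))) (.node (nat_lit 1087) (.leaf ((nat_lit 11), [nat_lit 5, nat_lit 4, nat_lit 5, nat_lit 0, nat_lit 4, nat_lit 2, nat_lit 1, nat_lit 3], [[nat_lit 99, nat_lit 0, nat_lit 99, nat_lit 99], [nat_lit 1, nat_lit 99, nat_lit 0, nat_lit 99, nat_lit 1]])) (.node (nat_lit 1088) (.leaf ((nat_lit 9), [nat_lit 4, nat_lit 0, nat_lit 5, nat_lit 3, nat_lit 1, nat_lit 0, nat_lit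 4, nat_lit 3, nat_lit 2, nat_lit 3, nat_lit 2, nat_lit 1, nat_lit 0], [[nat_lit 99, nat_lit 0, nat_lit 99, nat_lit 99, nat_lit 0], [nat_lit 0, nat_lit 99, nat_lit 0]])) (.leaf ((nat_lit 13), [nat_lit 3, nat_lit 1, nat_lit 5, nat_lit 1, nat_lit 4, nat_lit 3, nat_lit 2, nat_lit 0, nat_lit 3, nat_lit 1, nat_lit 0], [[nat_lit 99, nat_lit 99, nat_lit 1, nat_lit 1, nat_lit 99], [nat_lit 0, nat_lit 99, nat_lit 99, nat_lit 99, nat_lit 1]]))))))
 (.node (nat_lit 1093) (.node (nat_lit 1091) (.node (nat_lit 1090) (.leaf ((nat_lit 9), [nat_lit 5, nat_lit 4, nat_lit 5, nat_lit 4, nat_lit 2, nat_lit 1, nat_lit 4, nat_lit 1, nat_lit 3, nat_lit 1], [[nat_lit 99, nat_lit 0, nat_lit 99, nat_lit 0, nat_lit 0], [nat_lit 0, nat_lit 99, nat_lit 0, nat_lit 99]])) (.leaf ((nat_lit 9), [nat_lit 1, nat_lit 0, nat_lit 5, nat_lit 3, nat_lit 1, nat_lit 0, nat_lit 4, nat_lit 3, nat_lit 2, nat_lit 0, nat_lit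 3], [[nat_lit 0, nat_lit 99, nat_lit 0, nat_lit 99], [nat_lit 1, nat_lit 99, nat_lit 99, nat_lit 0]]))) (.node (nat_lit 1092) (.leaf ((nat_lit 9), [nat_lit 1, nat_lit 0, nat_lit 5, nat_lit 4, nat_lit 2, nat_lit 1, nat_lit 4, nat_lit 2, nat_lit 1, nat_lit 3, nat_lit 0], [[nat_lit 99, nat_lit 1, nat_lit 99, nat_lit 99], [nat_lit 1, nat_lit 99, nat_lit 1]])) (.leaf ((nat_lit 10), [nat_lit 5, nat_lit 3, nat_lit 1, nat_lit 4, nat_lit 2, nat_lit 3, nat_lit 1, nat_lit 0], [[nat_lit 99, nat_lit 0, nat_lit 0, nat_lit 99, nat_lit 0], [nat_lit 0, nat_lit 99, nat_lit 1]]))))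
 (.node (nat_lit 1095) (.node (nat_lit 1094) (.leaf ((nat_lit 10), [nat_lit 0, nat_lit 5, nat_lit 2, nat_lit 1, nat_lit 0, nat_lit 4, nat_lit 2, nat_lit 3, nat_lit 1], [[nat_lit 99, nat_lit 0, nat_lit 0], [nat_lit 99, nat_lit 99, nat_lit 1]])) (.leaf ((nat_lit 10), [nat_lit 4, nat_lit 5, nat_lit 3, nat_lit 1, nat_lit 4, nat_lit 3, nat_lit 2, nat_lit 0, nat_lit 3, nat_lit 1], [[nat_lit 1, nat_lit 99, nat_lit 0], [nat_lit 0, nat_lit 99, nat_lit 99]]))) (.node (nat_lit 1096) (.leaf ((nat_lit 10), [nat_lit 0, nat_lit 5, nat_lit 3, nat_lit 2, nat_lit 3, nat_lit 0], [[nat_lit 99, nat_lit 99, nat_lit 0, nat_lit 0], [nat_lit 0, nat_lit 99]])) (.node (nat_lit 1097) (.leaf ((nat_lit 10), [nat_lit 2, nat_lit 1, nat_lit 5, nat_lit 0, nat_lit 4, nat_lit 2, nat_lit 1, nat_lit 0, nat_lit 3, nat_lit 2], [[nat_lit 1, nat_lit 99, nat_lit 0, nat_lit 0], [nat_lit 99, nat_lit 0, nat_lit 99]])) (.leaf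 ((nat_lit 10), [nat_lit 3, nat_lit 2, nat_lit 1, nat_lit 5, nat_lit 2, nat_lit 1, nat_lit 4, nat_lit 0], [[nat_lit 0, nat_lit 99, nat_lit 0], [nat_lit 99, nat_lit 99, nat_lit 0, nat_lit 0]]))))))))
 (.node (nat_lit 1116) (.node (nat_lit 1107) (.node (nat_lit 1102) (.node (nat_lit 1100) (.node (nat_lit 1099) (.leaf ((nat_lit 10), [nat_lit 5, nat_lit 4, nat_lit 5, nat_lit 0, nat_lit 4, nat_lit 3, nat_lit 2, nat_lit 0, nat_lit 3, nat_lit 1], [[nat_lit 0, nat_lit 99, nat_lit 99, nat_lit 0], [nat_lit 99, nat_lit 0, nat_lit 0]])) (.leaf ((nat_lit 10), [nat_lit 0, nat_lit 5, nat_lit 3, nat_lit 2, nat_lit 3, nat_lit 0], [[nat_lit 99, nat_lit 1, nat_lit 99, nat_lit 0], [nat_lit 0, nat_lit 99, nat_lit 1]]))) (.node (nat_lit 1101) (.leaf ((nat_lit 10), [nat_lit 4, nat_lit 0, nat_lit 5, nat_lit 3, nat_lit 2, nat_lit 1, nat_lit 4, nat_lit 1, nat_lit 3, nat_lit 0], [[nat_lit 99, nat_lit 99, nat_lit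 0], [nat_lit 0, nat_lit 0, nat_lit 99]])) (.leaf ((nat_lit 10), [nat_lit 1, nat_lit 0, nat_lit 5, nat_lit 4, nat_lit 0, nat_lit 4, nat_lit 2, nat_lit 0, nat_lit 3, nat_lit 2, nat_lit 1], [[nat_lit 99, nat_lit 0, nat_lit 0, nat_lit 0], [nat_lit 99, nat_lit 1, nat_lit 99]]))))
 (.node (nat_lit 1104) (.node (nat_lit 1103) (.leaf ((nat_lit 10), [nat_lit 4, nat_lit 5, nat_lit 0, nat_lit 4, nat_lit 1, nat_lit 0, nat_lit 3, nat_lit 2, nat_lit 1, nat_lit 0], [[nat_lit 99, nat_lit 1, nat_lit 99, nat_lit 0], [nat_lit 1, nat_lit 99, nat_lit 99, nat_lit 0]])) (.leaf ((nat_lit 10), [nat_lit 2, nat_lit 1, nat_lit 5, nat_lit 3, nat_lit 2, nat_lit 1, nat_lit 4, nat_lit 2, nat_lit 0], [[nat_lit 1, nat_lit 99, nat_lit 99], [nat_lit 99, nat_lit 1, nat_lit 1]]))) (.node (nat_lit 1105) (.leaf ((nat_lit 10), [nat_lit 2, nat_lit 1, nat_lit 0, nat_lit 5, nat_lit 4, nat_lit 0, nat_lit 4, nat_lit 1, nat_lit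 3], [[nat_lit 99, nat_lit 0, nat_lit 0, nat_lit 99, nat_lit 1], [nat_lit 1, nat_lit 1, nat_lit 99, nat_lit 0]])) (.node (nat_lit 1106) (.leaf ((nat_lit 10), [nat_lit 4, nat_lit 0, nat_lit 5, nat_lit 3, nat_lit 1, nat_lit 0, nat_lit 4, nat_lit 2, nat_lit 1, nat_lit 0, nat_lit 3, nat_lit 0], [[nat_lit 0, nat_lit 99, nat_lit 0], [nat_lit 99, nat_lit 1, nat_lit 99, nat_lit 0]])) (.leaf ((nat_lit 10), [nat_lit 2, nat_lit 5, nat_lit 1, nat_lit 0, nat_lit 4, nat_lit 2, nat_lit 3, nat_lit 2], [[nat_lit 99, nat_lit 1, nat_lit 99, nat_lit 0], [nat_lit 1, nat_lit 1, nat_lit 99]]))))))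
 (.node (nat_lit 1111) (.node (nat_lit 1109) (.node (nat_lit 1108) (.leaf ((nat_lit 10), [nat_lit 3, nat_lit 1, nat_lit 0, nat_lit 4, nat_lit 3], [[nat_lit 99, nat_lit 99, nat_lit 1], [nat_lit 1, nat_lit 99, nat_lit 0, nat_lit 0]])) (.leaf ((nat_lit 10), [nat_lit 2, nat_lit 1, nat_lit 5, nat_lit 2, nat_lit 0, nat_lit 4, nat_lit 3, nat_lit 2, nat_lit 0, nat_lit 3, nat_lit 0], [[nat_lit 99, nat_lit 99, nat_lit 0, nat_lit 0], [nat_lit 0, nat_lit 0, nat_lit 99, nat_lit 0]]))) (.node (nat_lit 1110) (.leaf ((nat_lit 10), [nat_lit 2, nat_lit 5, nat_lit 3, nat_lit 2, nat_lit 1, nat_lit 4, nat_lit 1, nat_lit 0, nat_lit 3, nat_lit 1, nat_lit 0], [[nat_lit 1, nat_lit 1, nat_lit 99, nat_lit 0], [nat_lit 99, nat_lit 1, nat_lit 99]])) (.leaf ((nat_lit 10), [nat_lit 2, nat_lit 5, nat_lit 3, nat_lit 2, nat_lit 1, nat_lit 4, nat_lit 1, nat_lit 0, nat_lit 3, nat_lit 1, nat_lit 0], [[nat_lit 0, nat_lit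 99, nat_lit 1, nat_lit 99, nat_lit 0], [nat_lit 1, nat_lit 99, nat_lit 0, nat_lit 0, nat_lit 0]]))))
 (.node (nat_lit 1113) (.node (nat_lit 1112) (.leaf ((nat_lit 10), [nat_lit 2, nat_lit 1, nat_lit 5, nat_lit 0, nat_lit 4, nat_lit 2, nat_lit 1, nat_lit 0, nat_lit 3, nat_lit 2], [[nat_lit 1, nat_lit 99, nat_lit 0], [nat_lit 99, nat_lit 99, nat_lit 1]])) (.leaf ((nat_lit 10), [nat_lit 2, nat_lit 1, nat_lit 0, nat_lit 5, nat_lit 2, nat_lit 3], [[nat_lit 99, nat_lit 1, nat_lit 1], [nat_lit 99, nat_lit 0, nat_lit 99]]))) (.node (nat_lit 1114) (.leaf ((nat_lit 13), [nat_lit 5, nat_lit 1, nat_lit 5, nat_lit 0, nat_lit 4, nat_lit 1, nat_lit 3, nat_lit 1, nat_lit 0], [[nat_lit 99, nat_lit 99, nat_lit 99, nat_lit 0], [nat_lit 1, nat_lit 1]])) (.node (nat_lit 1115) (.leaf ((nat_lit 13), [nat_lit 4, nat_lit 0, nat_lit 5, nat_lit 4, nat_lit 0, nat_lit 4, nat_lit 3, nat_lit 2, nat_lit 3], [[nat_lit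 99, nat_lit 99, nat_lit 99, nat_lit 0], [nat_lit 1, nat_lit 1]])) (.leaf ((nat_lit 13), [nat_lit 4, nat_lit 5, nat_lit 2, nat_lit 0, nat_lit 4, nat_lit 2], [[nat_lit 0], [nat_lit 99]])))))))
 (.node (nat_lit 1125) (.node (nat_lit 1120) (.node (nat_lit 1118) (.node (nat_lit 1117) (.leaf ((nat_lit 13), [nat_lit 1, nat_lit 0, nat_lit 5, nat_lit 4, nat_lit 0, nat_lit 4, nat_lit 3, nat_lit 2, nat_lit 0, nat_lit 3, nat_lit 2, nat_lit 1], [[nat_lit 99, nat_lit 99, nat_lit 0, nat_lit 99], [nat_lit 0, nat_lit 0, nat_lit 0]])) (.leaf ((nat_lit 13), [nat_lit 4, nat_lit 0, nat_lit 5, nat_lit 4, nat_lit 0, nat_lit 4, nat_lit 3, nat_lit 2, nat_lit 3], [[nat_lit 99, nat_lit 0], [nat_lit 1, nat_lit 1]]))) (.node (nat_lit 1119) (.leaf ((nat_lit 13), [nat_lit 1, nat_lit 0, nat_lit 5, nat_lit 3, nat_lit 2, nat_lit 1, nat_lit 4, nat_lit 2, nat_lit 1, nat_lit 0, nat_lit 3, nat_lit 2], [[nat_lit 99,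 nat_lit 99, nat_lit 0, nat_lit 99], [nat_lit 1]])) (.leaf ((nat_lit 13), [nat_lit 4, nat_lit 5, nat_lit 0, nat_lit 4, nat_lit 3, nat_lit 2, nat_lit 3, nat_lit 2], [[nat_lit 99], [nat_lit 1]]))))
 (.node (nat_lit 1122) (.node (nat_lit 1121) (.leaf ((nat_lit 13), [nat_lit 1, nat_lit 0, nat_lit 5, nat_lit 3, nat_lit 1, nat_lit 0, nat_lit 4, nat_lit 1, nat_lit 0, nat_lit 3, nat_lit 1, nat_lit 0], [[nat_lit 99, nat_lit 99, nat_lit 99, nat_lit 0], [nat_lit 1, nat_lit 1]])) (.leaf ((nat_lit 13), [nat_lit 4, nat_lit 0, nat_lit 5, nat_lit 4, nat_lit 0, nat_lit 4, nat_lit 3, nat_lit 2, nat_lit 3], [[nat_lit 99, nat_lit 99, nat_lit 99, nat_lit 0], [nat_lit 1, nat_lit 1]]))) (.node (nat_lit 1123) (.leaf ((nat_lit 13), [nat_lit 4, nat_lit 0, nat_lit 5, nat_lit 4, nat_lit 0], [[nat_lit 0, nat_lit 0], [nat_lit 99, nat_lit 0]])) (.node (nat_lit 1124) (.leaf ((nat_lit 13), [nat_lit 3, nat_lit 2,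 nat_lit 1, nat_lit 5, nat_lit 0, nat_lit 4, nat_lit 3, nat_lit 0, nat_lit 3, nat_lit 2, nat_lit 1, nat_lit 0], [[nat_lit 99, nat_lit 99, nat_lit 0, nat_lit 99], [nat_lit 0, nat_lit 0, nat_lit 0]])) (.leaf ((nat_lit 13), [nat_lit 4, nat_lit 5, nat_lit 0, nat_lit 4, nat_lit 3, nat_lit 2, nat_lit 3, nat_lit 2], [[nat_lit 99, nat_lit 99, nat_lit 0, nat_lit 99], [nat_lit 1]]))))))
 (.node (nat_lit 1129) (.node (nat_lit 1127) (.node (nat_lit 1126) (.leaf ((nat_lit 13), [nat_lit 4, nat_lit 0, nat_lit 5, nat_lit 3, nat_lit 1, nat_lit 4, nat_lit 1, nat_lit 0, nat_lit 3, nat_lit 0], [[nat_lit 99, nat_lit 99, nat_lit 0, nat_lit 99], [nat_lit 1]])) (.leaf ((nat_lit 13), [nat_lit 4, nat_lit 0, nat_lit 5, nat_lit 4, nat_lit 0], [[nat_lit 0, nat_lit 0], [nat_lit 99]]))) (.node (nat_lit 1128) (.leaf ((nat_lit 13), [nat_lit 2, nat_lit 5, nat_lit 0, nat_lit 4, nat_lit 2, nat_lit 0, nat_lit 3, nat_lit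 1], [[nat_lit 99, nat_lit 99, nat_lit 99, nat_lit 0], [nat_lit 1, nat_lit 1]])) (.leaf ((nat_lit 13), [nat_lit 1, nat_lit 0, nat_lit 5, nat_lit 3, nat_lit 1, nat_lit 0, nat_lit 4, nat_lit 1, nat_lit 0, nat_lit 3, nat_lit 1, nat_lit 0], [[nat_lit 99, nat_lit 99, nat_lit 99, nat_lit 0], [nat_lit 1, nat_lit 1]]))))
 (.node (nat_lit 1131) (.node (nat_lit 1130) (.leaf ((nat_lit 13), [nat_lit 4, nat_lit 0, nat_lit 5, nat_lit 4, nat_lit 2, nat_lit 1, nat_lit 4, nat_lit 2, nat_lit 1, nat_lit 0], [[nat_lit 99, nat_lit 99, nat_lit 0, nat_lit 99], [nat_lit 0, nat_lit 0, nat_lit 0]])) (.leaf ((nat_lit 13), [nat_lit 4, nat_lit 5, nat_lit 2, nat_lit 0, nat_lit 4, nat_lit 2], [[nat_lit 0], [nat_lit 99, nat_lit 1]]))) (.node (nat_lit 1132) (.leaf ((nat_lit 13), [nat_lit 2, nat_lit 5, nat_lit 0, nat_lit 4, nat_lit 2, nat_lit 0, nat_lit 3, nat_lit 1], [[nat_lit 99, nat_lit 99, nat_lit 99, nat_lit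 0], [nat_lit 1, nat_lit 1]])) (.node (nat_lit 1133) (.leaf ((nat_lit 13), [nat_lit 4, nat_lit 0, nat_lit 5, nat_lit 4, nat_lit 0, nat_lit 4, nat_lit 3, nat_lit 2, nat_lit 3], [[nat_lit 99], [nat_lit 1, nat_lit 1]])) (.leaf ((nat_lit 13), [nat_lit 5, nat_lit 1, nat_lit 5, nat_lit 0, nat_lit 4, nat_lit 1, nat_lit 3, nat_lit 1, nat_lit 0], [[nat_lit 99, nat_lit 99, nat_lit 99, nat_lit 0], [nat_lit 1, nat_lit 1]]))))))))))
noncomputable def n1CE : Tr (ℕ × List ℕ × List (List ℕ)) := (.node (nat_lit 567) (.node (nat_lit 283) (.node (nat_lit 141) n1CE_0 n1CE_1) (.node (nat_lit 425) n1CE_2 n1CE_3)) (.node (nat_lit 850) (.node (nat_lit 708) n1CE_4 n1CE_5) (.node (nat_lit 992) n1CE_6 n1CE_7)))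
theorem n1s_0 : allR 0 121 (stepChk (nat_lit 4) (nat_lit 15) (MG.gl42L.map Lev.b) MG.gl42T n1T n1mT n1mT n1Dd AW [nat_lit 9, nat_lit 10, nat_lit 11, nat_lit 12, nat_lit 13] n1Ws n1CE) = true := by decide +kernel
theorem n1s_1 : allR 121 95 (stepChk (nat_lit 4) (nat_lit 15) (MG.gl42L.map Lev.b) MG.gl42T n1T n1mT n1mT n1Dd AW [nat_lit 9, nat_lit 10, nat_lit 11, nat_lit 12, nat_lit 13] n1Ws n1CE) = true := by decide +kernel
theorem n1s_2 : allR 216 90 (stepChk (nat_lit 4) (nat_lit 15) (MG.gl42L.map Lev.b) MG.gl42T n1T n1mT n1mT n1Dd AW [nat_lit 9, nat_lit 10, nat_lit 11, nat_lit 12, nat_lit 13] n1Ws n1CE) = true := by decide +kernel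
theorem n1s_3 : allR 306 99 (stepChk (nat_lit 4) (nat_lit 15) (MG.gl42L.map Lev.b) MG.gl42T n1T n1mT n1mT n1Dd AW [nat_lit 9, nat_lit 10, nat_lit 11, nat_lit 12, nat_lit 13] n1Ws n1CE) = true := by decide +kernel
theorem n1s_4 : allR 405 98 (stepChk (nat_lit 4) (nat_lit 15) (MG.gl42L.map Lev.b) MG.gl42T n1T n1mT n1mT n1Dd AW [nat_lit 9, nat_lit 10, nat_lit 11, nat_lit 12, nat_lit 13] n1Ws n1CE) = true := by decide +kernel
theorem n1s_5 : allR 503 97 (stepChk (nat_lit 4) (nat_lit 15) (MG.gl42L.map Lev.b) MG.gl42T n1T n1mT n1mT n1Dd AW [nat_lit 9, nat_lit 10, nat_lit 11, nat_lit 12, nat_lit 13] n1Ws n1CE) = true := by decide +kernel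
theorem n1s_6 : allR 600 100 (stepChk (nat_lit 4) (nat_lit 15) (MG.gl42L.map Lev.b) MG.gl42T n1T n1mT n1mT n1Dd AW [nat_lit 9, nat_lit 10, nat_lit 11, nat_lit 12, nat_lit 13] n1Ws n1CE) = true := by decide +kernel
theorem n1s_7 : allR 700 109 (stepChk (nat_lit 4) (nat_lit 15) (MG.gl42L.map Lev.b) MG.gl42T n1T n1mT n1mT n1Dd AW [nat_lit 9, nat_lit 10, nat_lit 11, nat_lit 12, nat_lit 13] n1Ws n1CE) = true := by decide +kernel
theorem n1s_8 : allR 809 103 (stepChk (nat_lit 4) (nat_lit 15) (MG.gl42L.map Lev.b) MG.gl42T n1T n1mT n1mT n1Dd AW [nat_lit 9, nat_lit 10, nat_lit 11, nat_lit 12, nat_lit 13] n1Ws n1CE) = true := by decide +kernel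
theorem n1s_9 : allR 912 97 (stepChk (nat_lit 4) (nat_lit 15) (MG.gl42L.map Lev.b) MG.gl42T n1T n1mT n1mT n1Dd AW [nat_lit 9, nat_lit 10, nat_lit 11, nat_lit 12, nat_lit 13] n1Ws n1CE) = true := by decide +kernel
theorem n1s_10 : allR 1009 105 (stepChk (nat_lit 4) (nat_lit 15) (MG.gl42L.map Lev.b) MG.gl42T n1T n1mT n1mT n1Dd AW [nat_lit 9, nat_lit 10, nat_lit 11, nat_lit 12, nat_lit 13] n1Ws n1CE) = true := by decide +kernel
theorem n1s_11 : allR 1114 20 (stepChk (nat_lit 4) (nat_lit 15) (MG.gl42L.map Lev.b) MG.gl42T n1T n1mT n1mT n1Dd AW [nat_lit 9, nat_lit 10, nat_lit 11, nat_lit 12, nat_lit 13] n1Ws n1CE) = true := by decide +kernel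
theorem n1s : allR 0 1134 (stepChk (nat_lit 4) (nat_lit 15) (MG.gl42L.map Lev.b) MG.gl42T n1T n1mT n1mT n1Dd AW [nat_lit 9, nat_lit 10, nat_lit 11, nat_lit 12, nat_lit 13] n1Ws n1CE) = true := (allR_add (allR_add (allR_add (allR_add (allR_add (allR_add (allR_add (allR_add (allR_add (allR_add (allR_add n1s_0 n1s_1) n1s_2) n1s_3) n1s_4) n1s_5) n1s_6) n1s_7) n1s_8) n1s_9) n1s_10) n1s_11)
theorem s1 {G : Type*} [Group G] [Finite G] {X : Type*} [MulAction G X] {pt : ℕ → X} (C : Ch G 15 (nat_lit 4) (nat_lit 15) pt MG.gl42T MG.gl42L) {H : Subgroup G} (h : PJ C.lets.e AW 1 H) :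
    ∃ K : Subgroup G, Nonempty (H ≃* K) ∧ (Q K ∨ ∃ j ∈ [nat_lit 9, nat_lit 10, nat_lit 11, nat_lit 12, nat_lit 13], PJ C.lets.e AW j K) := by
  obtain ⟨K, e, hK⟩ := h.conj
  refine ⟨K, e, ?_⟩
  obtain ⟨N, D, S⟩ := (C.gen (lets_words C.lets n1E n1w) n1chain n1sd n1tc)
  have le := C.le_AW D hK n1slp n1a
  obtain ⟨M, E, -⟩ := (C.gen (lets_words C.lets n1mE n1mw) n1mchain n1msd n1mtc)
  have NM := D.le_lets C.base (lets_words E.lets n1xE n1xw)
  have PN := le_refl N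
  have F := D
  have MP := C.le_nor E F n1r
  have hD := lets_words C.lets n1dE n1dw
  refine (C.step D.lets E.lets E.lets hD MP le_rfl (C.dbl E.lets hD n1q (by decide +kernel)) (Ws := n1Ws) (fun u hu => let ⟨w, h1, h2⟩ := E.words n1Wsc ⟨u, hu⟩; ⟨w, h1, 1, one_mem _, by rw [h2, mul_one]⟩) (by decide +kernel) n1s le).imp_left fun h => ?_
  exact .inl (QS.of (PN.trans le) (h.trans MP) (p := 7) (j := 0) (by norm_num) (F.card.trans (by decide +kernel)))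

end H8.LA
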