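import Cfsg.Agent.H8.LA0

/-! H8.LA3: subgroups of GL(4,2): overgroups of A5 (generated certificate) -/

set_option autoImplicit false
set_option maxRecDepth 200000

set_option linter.all false
open Subgroup 

namespace H8.LA

noncomputable def n2t0 : ℕ := (nat_lit 0xdea9cb786512340)
noncomputable def n2t1 : ℕ := (nat_lit 0x879abced6534120)
noncomputable def n2t2 : ℕ := (nat_lit 0xe31809b6724d5ca)
noncomputable def n2T : Tr ℕ := (.node (nat_lit 1) (.leaf n2t0) (.node (nat_lit 2) (.leaf n2t1) (.leaf n2t2)))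
noncomputable def n2R : Tr (List ℕ) := (.node (nat_lit 3) (.node (nat_lit 1) (.leaf [nat_lit 0, nat_lit 0]) (.node (nat_lit 2) (.leaf [nat_lit 0, nat_lit 1, nat_lit 0, nat_lit 1]) (.leaf [nat_lit 2, nat_lit 0, nat_lit 2, nat_lit 0, nat_lit 2, nat_lit 0, nat_lit 2, nat_lit 0, nat_lit 2, nat_lit 0])))
 (.node (nat_lit 5) (.node (nat_lit 4) (.leaf [nat_lit 1, nat_lit 1]) (.leaf [nat_lit 2, nat_lit 0, nat_lit 1, nat_lit 2, nat_lit 0, nat_lit 1, nat_lit 2, nat_lit 0, nat_lit 1])) (.node (nat_lit 6) (.leaf [nat_lit 2, nat_lit 2]) (.leaf [nat_lit 2, nat_lit 1, nat_lit 2, nat_lit 1, nat_lit 2, nat_lit 1, nat_lit 2, nat_lit 1, nat_lit 2, nat_lit 1]))))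
noncomputable def n2L0 : Lev := ⟨(nat_lit 0), (nat_lit 3), (nat_lit 0x20201020302030103030102020300), (nat_lit 0x40502020103030405050405040300),
 (.node (nat_lit 1) (.leaf (nat_lit 0x300020000000200010003000100000004000500000003000200010000))
 (.node (nat_lit 2) (.leaf (nat_lit 0x1000000010000000100010005000600010000000000010000))
 (.leaf (nat_lit 0x200040001000100000003000000010000000000020003000100000001)))),
 (.node (nat_lit 1) (.leaf (nat_lit 0x102000000000100000001000001000000000000000209000201000000000000000102000001000000))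
 (.node (nat_lit 2) (.leaf (nat_lit 0x300000000000301000000000301000301000408000402000300000000000000000301000000))
 (.leaf (nat_lit 0x604000500000500000500000000000403000000000500000000000000000204000406000501000000000501))))⟩
noncomputable def n2L1 : Lev := ⟨(nat_lit 1), (nat_lit 2), (nat_lit 0x102020000), (nat_lit 0x102010000),
 (.node (nat_lit 1) (.leaf (nat_lit 0x3000200010000))
 (.leaf (nat_lit 0x10000000000010000))),
 (.node (nat_lit 1) (.leaf (nat_lit 0x102000001000000))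
 (.leaf (nat_lit 0x300000000000000000301000000)))⟩
noncomputable def n2L : List Lev := [n2L0, n2L1]
noncomputable def n2E : Tr (List ℕ) := (.node (nat_lit 1) (.leaf [nat_lit 2, nat_lit 0, nat_lit 5, nat_lit 2, nat_lit 1, nat_lit 4, nat_lit 2, nat_lit 0, nat_lit 3, nat_lit 1]) (.node (nat_lit 2) (.leaf [nat_lit 0, nat_lit 5, nat_lit 2, nat_lit 1, nat_lit 4, nat_lit 2, nat_lit 1, nat_lit 0, nat_lit 3, nat_lit 2, nat_lit 1]) (.leaf [nat_lit 1, nat_lit 5, nat_lit 1, nat_lit 4, nat_lit 3, nat_lit 2, nat_lit 3])))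
theorem n2w_0 : n2T.all2 (fun c w => isProd 15 (nat_lit 4) (nat_lit 15) MG.gl42T c w) n2E = true := by decide +kernel
theorem n2w : n2T.all2 (fun c w => isProd 15 (nat_lit 4) (nat_lit 15) MG.gl42T c w) n2E = true := n2w_0
theorem n2lev0 : levChk 15 (nat_lit 4) (nat_lit 15) n2T n2R n2L0 n2L1.N = true := by decide +kernel
theorem n2lev1 : levChk 15 (nat_lit 4) (nat_lit 15) n2T n2R n2L1 0 = true := by decide +kernel
theorem n2chain : Chain 15 (nat_lit 4) (nat_lit 15) n2T n2R n2L := chain_cons n2lev0 <| chain_one n2lev1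
theorem n2sd : band (selChk n2T n2T (topN n2L)) (n2R.all fun w => eqB (MG.gl42L.map Lev.b) (apL (nat_lit 4) (nat_lit 15) n2T w) fun a => a) = true := by decide +kernel
theorem n2tc : tchainChk 15 (nat_lit 4) (nat_lit 15) n2T n2L = true := by decide +kernel
noncomputable def n2s0 : ℕ := (nat_lit 0x915dc4082ae63b7)
noncomputable def n2s1 : ℕ := (nat_lit 0xc257930e1b864ad)
noncomputable def n2s2 : ℕ := (nat_lit 0x4ba15e703c926d8)
noncomputable def n2s3 : ℕ := (nat_lit 0x70e51a4b3c29d68)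
noncomputable def n2s4 : ℕ := (nat_lit 0x78bc9ade6521430)
noncomputable def n2s5 : ℕ := (nat_lit 0x879abced6534120)
noncomputable def n2s6 : ℕ := (nat_lit 0xdea9cb786512340)
noncomputable def n2s7 : ℕ := (nat_lit 0xe31809b6724d5ca)
noncomputable def n2S : Tr ℕ := (.node (nat_lit 4) (.node (nat_lit 2) (.node (nat_lit 1) (.leaf n2s0) (.leaf n2s1)) (.node (nat_lit 3) (.leaf n2s2) (.leaf n2s3)))
 (.node (nat_lit 6) (.node (nat_lit 5) (.leaf n2s4) (.leaf n2s5)) (.node (nat_lit 7) (.leaf n2s6) (.leaf n2s7))))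
noncomputable def n2D : Tr (List ℕ) := (.node (nat_lit 4) (.node (nat_lit 2) (.node (nat_lit 1) (.leaf []) (.leaf [])) (.node (nat_lit 3) (.leaf [nat_lit 0, nat_lit 0]) (.leaf [nat_lit 1, nat_lit 1, nat_lit 1, nat_lit 1])))
 (.node (nat_lit 6) (.node (nat_lit 5) (.leaf [nat_lit 3, nat_lit 2, nat_lit 3, nat_lit 3, nat_lit 0, nat_lit 1, nat_lit 0]) (.leaf [nat_lit 0, nat_lit 3])) (.node (nat_lit 7) (.leaf [nat_lit 5, nat_lit 4]) (.leaf [nat_lit 5, nat_lit 3, nat_lit 0, nat_lit 5]))))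
theorem n2slp : slpChk 15 (nat_lit 4) (nat_lit 15) n2S n2D 2 6 = true := by decide +kernel
theorem n2a : band (selChk n2T n2S (2 + 6)) (allB 2 fun j => anyL (AW.get 2) fun w => isProd 15 (nat_lit 4) (nat_lit 15) MG.gl42T (n2S.get j) w) = true := by decide +kernel
noncomputable def n2Dd : Tr ℕ := (.node (nat_lit 17) (.node (nat_lit 8) (.node (nat_lit 4) (.node (nat_lit 2) (.node (nat_lit 1) (.leaf (nat_lit 0xedcba9876543210)) (.leaf (nat_lit 0xcdeb89a74563012))) (.node (nat_lit 3) (.leaf (nat_lit 0x2d0b6947a583e1c)) (.leaf (nat_lit 0x8dabc9e70523416))))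
 (.node (nat_lit 6) (.node (nat_lit 5) (.leaf (nat_lit 0x789abcde6543210)) (.leaf (nat_lit 0xecdb6453a897201))) (.node (nat_lit 7) (.leaf (nat_lit 0x987adcbe4563012)) (.leaf (nat_lit 0xdceb546398a7102)))))
 (.node (nat_lit 12) (.node (nat_lit 10) (.node (nat_lit 9) (.leaf (nat_lit 0xbad8c9e73250416)) (.leaf (nat_lit 0x7a98bedc4563012))) (.node (nat_lit 11) (.leaf (nat_lit 0xe6d5c4b3a291807)) (.leaf (nat_lit 0xdab8e9c75230614))))
 (.node (nat_lit 14) (.node (nat_lit 13) (.leaf (nat_lit 0x9e7cdab82503614)) (.leaf (nat_lit 0x9b7dac8e4260315))) (.node (nat_lit 15) (.leaf (nat_lit 0xac8eb9d72406315)) (.node (nat_lit 16) (.leaf (nat_lit 0xd6e5b4c392a1708)) (.leaf (nat_lit 0xda8b52039ec7164)))))))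
 (.node (nat_lit 25) (.node (nat_lit 21) (.node (nat_lit 19) (.node (nat_lit 18) (.leaf (nat_lit 0x4a1bc2930e5786d)) (.leaf (nat_lit 0xdab89e7c2503614))) (.node (nat_lit 20) (.leaf (nat_lit 0x5e4bd6c31a07928)) (.leaf (nat_lit 0x50abd82314e79c6))))
 (.node (nat_lit 23) (.node (nat_lit 22) (.leaf (nat_lit 0x5a0bd2831e4796c)) (.leaf (nat_lit 0xbad87e9c0523416))) (.node (nat_lit 24) (.leaf (nat_lit 0xb4d67092e5c3a18)) (.leaf (nat_lit 0x9c7ed8ba0523416)))))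
 (.node (nat_lit 29) (.node (nat_lit 27) (.node (nat_lit 26) (.leaf (nat_lit 0x853a0db294671ce)) (.leaf (nat_lit 0x8eacb9d70624315))) (.node (nat_lit 28) (.leaf (nat_lit 0xda25b8039e617c4)) (.leaf (nat_lit 0xc65b82174ed30a9))))
 (.node (nat_lit 31) (.node (nat_lit 30) (.leaf (nat_lit 0x8d7e1423c9ba506)) (.leaf (nat_lit 0x574a86931b0ec2d))) (.node (nat_lit 32) (.leaf (nat_lit 0x3025b8ad9ec7164)) (.node (nat_lit 33) (.leaf (nat_lit 0xab8de7c90523416)) (.leaf (nat_lit 0x618b25c7e903ad4))))))))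
noncomputable def n2dE : Tr (List ℕ) := (.node (nat_lit 17) (.node (nat_lit 8) (.node (nat_lit 4) (.node (nat_lit 2) (.node (nat_lit 1) (.leaf []) (.leaf [nat_lit 0])) (.node (nat_lit 3) (.leaf [nat_lit 1]) (.leaf [nat_lit 2])))
 (.node (nat_lit 6) (.node (nat_lit 5) (.leaf [nat_lit 3]) (.leaf [nat_lit 5])) (.node (nat_lit 7) (.leaf [nat_lit 3, nat_lit 0]) (.leaf [nat_lit 5, nat_lit 0]))))
 (.node (nat_lit 12) (.node (nat_lit 10) (.node (nat_lit 9) (.leaf [nat_lit 4, nat_lit 2]) (.leaf [nat_lit 0, nat_lit 3])) (.node (nat_lit 11) (.leaf [nat_lit 5, nat_lit 4]) (.leaf [nat_lit 4, nat_lit 2, nat_lit 0])))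
 (.node (nat_lit 14) (.node (nat_lit 13) (.leaf [nat_lit 2, nat_lit 3, nat_lit 0]) (.leaf [nat_lit 4, nat_lit 3, nat_lit 0])) (.node (nat_lit 15) (.leaf [nat_lit 2, nat_lit 4, nat_lit 0]) (.node (nat_lit 16) (.leaf [nat_lit 5, nat_lit 4, nat_lit 0]) (.leaf [nat_lit 2, nat_lit 5, nat_lit 0]))))))
 (.node (nat_lit 25) (.node (nat_lit 21) (.node (nat_lit 19) (.node (nat_lit 18) (.leaf [nat_lit 2, nat_lit 5, nat_lit 1]) (.leaf [nat_lit 0, nat_lit 3, nat_lit 2])) (.node (nat_lit 20) (.leaf [nat_lit 0, nat_lit 5, nat_lit 2]) (.leaf [nat_lit 1, nat_lit 5, nat_lit 2])))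
 (.node (nat_lit 23) (.node (nat_lit 22) (.leaf [nat_lit 2, nat_lit 5, nat_lit 2]) (.leaf [nat_lit 0, nat_lit 3, nat_lit 2, nat_lit 0])) (.node (nat_lit 24) (.leaf [nat_lit 1, nat_lit 3, nat_lit 2, nat_lit 0]) (.leaf [nat_lit 2, nat_lit 0, nat_lit 3, nat_lit 0]))))
 (.node (nat_lit 29) (.node (nat_lit 27) (.node (nat_lit 26) (.leaf [nat_lit 1, nat_lit 5, nat_lit 3, nat_lit 0]) (.leaf [nat_lit 2, nat_lit 0, nat_lit 4, nat_lit 0])) (.node (nat_lit 28) (.leaf [nat_lit 1, nat_lit 5, nat_lit 4, nat_lit 0]) (.leaf [nat_lit 2, nat_lit 1, nat_lit 5, nat_lit 3, nat_lit 1, nat_lit 0, nat_lit 4, nat_lit 1, nat_lit 0, nat_lit 3, nat_lit 2, nat_lit 1, nat_lit 0])))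
 (.node (nat_lit 31) (.node (nat_lit 30) (.leaf [nat_lit 5, nat_lit 2, nat_lit 4, nat_lit 1]) (.leaf [nat_lit 0, nat_lit 5, nat_lit 4, nat_lit 2, nat_lit 1, nat_lit 4, nat_lit 2])) (.node (nat_lit 32) (.leaf [nat_lit 2, nat_lit 5, nat_lit 0, nat_lit 3]) (.node (nat_lit 33) (.leaf [nat_lit 3, nat_lit 0, nat_lit 3, nat_lit 2, nat_lit 0]) (.leaf [nat_lit 5, nat_lit 1, nat_lit 5, nat_lit 2, nat_lit 0])))))))
theorem n2dw_0 : n2Dd.all2 (fun c w => isProd 15 (nat_lit 4) (nat_lit 15) MG.gl42T c w) n2dE = true := by decide +kernel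
theorem n2dw : n2Dd.all2 (fun c w => isProd 15 (nat_lit 4) (nat_lit 15) MG.gl42T c w) n2dE = true := n2dw_0
noncomputable def n2PA_0 : Tr (ℕ × List ℕ) := (.node (nat_lit 84) (.node (nat_lit 42) (.node (nat_lit 21) (.node (nat_lit 10) (.node (nat_lit 5) (.node (nat_lit 2) (.node (nat_lit 1) (.leaf ((nat_lit 0), [])) (.leaf ((nat_lit 1), []))) (.node (nat_lit 3) (.leaf ((nat_lit 2), [])) (.node (nat_lit 4) (.leaf ((nat_lit 3), [])) (.leaf ((nat_lit 4), [])))))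
 (.node (nat_lit 7) (.node (nat_lit 6) (.leaf ((nat_lit 4), [nat_lit 1, nat_lit 0, nat_lit 2])) (.leaf ((nat_lit 5), []))) (.node (nat_lit 8) (.leaf ((nat_lit 4), [nat_lit 1, nat_lit 2])) (.node (nat_lit 9) (.leaf ((nat_lit 3), [nat_lit 0, nat_lit 2, nat_lit 0])) (.leaf ((nat_lit 6), []))))))
 (.node (nat_lit 15) (.node (nat_lit 12) (.node (nat_lit 11) (.leaf ((nat_lit 6), [nat_lit 2, nat_lit 1, nat_lit 0, nat_lit 2])) (.leaf ((nat_lit 7), []))) (.node (nat_lit 13) (.leaf ((nat_lit 3), [nat_lit 1, nat_lit 2, nat_lit 1, nat_lit 2, nat_lit 1])) (.node (nat_lit 14) (.leaf ((nat_lit 7), [nat_lit 2])) (.leaf ((nat_lit 7), [nat_lit 2, nat_lit 1, nat_lit 0])))))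
 (.node (nat_lit 18) (.node (nat_lit 16) (.leaf ((nat_lit 6), [nat_lit 2])) (.node (nat_lit 17) (.leaf ((nat_lit 3), [nat_lit 0])) (.leaf ((nat_lit 8), [])))) (.node (nat_lit 19) (.leaf ((nat_lit 8), [nat_lit 0, nat_lit 2, nat_lit 0, nat_lit 2])) (.node (nat_lit 20) (.leaf ((nat_lit 9), [])) (.leaf ((nat_lit 8), [nat_lit 1])))))))
 (.node (nat_lit 31) (.node (nat_lit 26) (.node (nat_lit 23) (.node (nat_lit 22) (.leaf ((nat_lit 3), [nat_lit 1])) (.leaf ((nat_lit 5), [nat_lit 0]))) (.node (nat_lit 24) (.leaf ((nat_lit 9), [nat_lit 2, nat_lit 1, nat_lit 2, nat_lit 0])) (.node (nat_lit 25) (.leaf ((nat_lit 8), [nat_lit 2, nat_lit 0])) (.leaf ((nat_lit 7), [nat_lit 1, nat_lit 0, nat_lit 2, nat_lit 1, nat_lit 2])))))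
 (.node (nat_lit 28) (.node (nat_lit 27) (.leaf ((nat_lit 10), [])) (.leaf ((nat_lit 8), [nat_lit 0, nat_lit 2, nat_lit 1, nat_lit 0]))) (.node (nat_lit 29) (.leaf ((nat_lit 9), [nat_lit 0, nat_lit 2, nat_lit 0])) (.node (nat_lit 30) (.leaf ((nat_lit 7), [nat_lit 0, nat_lit 2, nat_lit 1, nat_lit 2])) (.leaf ((nat_lit 3), [nat_lit 1, nat_lit 2, nat_lit 0, nat_lit 2, nat_lit 1]))))))
 (.node (nat_lit 36) (.node (nat_lit 33) (.node (nat_lit 32) (.leaf ((nat_lit 5), [nat_lit 2, nat_lit 1, nat_lit 0])) (.leaf ((nat_lit 4), [nat_lit 2]))) (.node (nat_lit 34) (.leaf ((nat_lit 9), [nat_lit 2])) (.node (nat_lit 35) (.leaf ((nat_lit 11), [])) (.leaf ((nat_lit 11), [nat_lit 0, nat_lit 2, nat_lit 1])))))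
 (.node (nat_lit 39) (.node (nat_lit 37) (.leaf ((nat_lit 3), [nat_lit 1, nat_lit 0, nat_lit 2, nat_lit 1])) (.node (nat_lit 38) (.leaf ((nat_lit 11), [nat_lit 2, nat_lit 1])) (.leaf ((nat_lit 12), [])))) (.node (nat_lit 40) (.leaf ((nat_lit 13), [])) (.node (nat_lit 41) (.leaf ((nat_lit 2), [nat_lit 2, nat_lit 1])) (.leaf ((nat_lit 3), [nat_lit 2, nat_lit 1, nat_lit 2, nat_lit 0, nat_lit 2, nat_lit 0]))))))))
 (.node (nat_lit 63) (.node (nat_lit 52) (.node (nat_lit 47) (.node (nat_lit 44) (.node (nat_lit 43) (.leaf ((nat_lit 11), [nat_lit 2, nat_lit 0])) (.leaf ((nat_lit 14), []))) (.node (nat_lit 45) (.leaf ((nat_lit 15), [])) (.node (nat_lit 46) (.leaf ((nat_lit 11), [nat_lit 0])) (.leaf ((nat_lit 3), [nat_lit 0, nat_lit 2, nat_lit 0, nat_lit 2, nat_lit 0])))))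
 (.node (nat_lit 49) (.node (nat_lit 48) (.leaf ((nat_lit 16), [])) (.leaf ((nat_lit 6), [nat_lit 1, nat_lit 2]))) (.node (nat_lit 50) (.leaf ((nat_lit 15), [nat_lit 0, nat_lit 2])) (.node (nat_lit 51) (.leaf ((nat_lit 8), [nat_lit 0])) (.leaf ((nat_lit 3), [nat_lit 1, nat_lit 2, nat_lit 1, nat_lit 2, nat_lit 1, nat_lit 0]))))))
 (.node (nat_lit 57) (.node (nat_lit 54) (.node (nat_lit 53) (.leaf ((nat_lit 3), [nat_lit 1, nat_lit 2, nat_lit 0, nat_lit 2, nat_lit 0])) (.leaf ((nat_lit 11), [nat_lit 2, nat_lit 0, nat_lit 2, nat_lit 0]))) (.node (nat_lit 55) (.leaf ((nat_lit 3), [nat_lit 0, nat_lit 2, nat_lit 1, nat_lit 2, nat_lit 1])) (.node (nat_lit 56) (.leaf ((nat_lit 14), [nat_lit 1, nat_lit 2, nat_lit 0, nat_lit 2, nat_lit 1])) (.leaf ((nat_lit 15), [nat_lit 1, nat_lit 2])))))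
 (.node (nat_lit 60) (.node (nat_lit 58) (.leaf ((nat_lit 1), [nat_lit 2, nat_lit 1])) (.node (nat_lit 59) (.leaf ((nat_lit 11), [nat_lit 2, nat_lit 0, nat_lit 2, nat_lit 1])) (.leaf ((nat_lit 3), [nat_lit 1, nat_lit 0, nat_lit 2, nat_lit 0, nat_lit 2, nat_lit 1, nat_lit 0])))) (.node (nat_lit 61) (.leaf ((nat_lit 12), [nat_lit 1, nat_lit 2, nat_lit 0, nat_lit 2, nat_lit 1])) (.node (nat_lit 62) (.leaf ((nat_lit 13), [nat_lit 2, nat_lit 1])) (.leaf ((nat_lit 3), [nat_lit 2, nat_lit 0, nat_lit 2, nat_lit 1, nat_lit 2])))))))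
 (.node (nat_lit 73) (.node (nat_lit 68) (.node (nat_lit 65) (.node (nat_lit 64) (.leaf ((nat_lit 11), [nat_lit 1, nat_lit 2, nat_lit 1])) (.leaf ((nat_lit 17), []))) (.node (nat_lit 66) (.leaf ((nat_lit 7), [nat_lit 1])) (.node (nat_lit 67) (.leaf ((nat_lit 13), [nat_lit 2])) (.leaf ((nat_lit 18), [])))))
 (.node (nat_lit 70) (.node (nat_lit 69) (.leaf ((nat_lit 14), [nat_lit 2, nat_lit 0, nat_lit 2, nat_lit 0])) (.leaf ((nat_lit 3), [nat_lit 1, nat_lit 0, nat_lit 2, nat_lit 1, nat_lit 2, nat_lit 1]))) (.node (nat_lit 71) (.leaf ((nat_lit 3), [nat_lit 0, nat_lit 2, nat_lit 0, nat_lit 2])) (.node (nat_lit 72) (.leaf ((nat_lit 14), [nat_lit 2, nat_lit 0])) (.leaf ((nat_lit 18), [nat_lit 2, nat_lit 0]))))))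
 (.node (nat_lit 78) (.node (nat_lit 75) (.node (nat_lit 74) (.leaf ((nat_lit 2), [nat_lit 1])) (.leaf ((nat_lit 3), [nat_lit 2, nat_lit 1, nat_lit 2, nat_lit 0, nat_lit 2]))) (.node (nat_lit 76) (.leaf ((nat_lit 19), [])) (.node (nat_lit 77) (.leaf ((nat_lit 20), [])) (.leaf ((nat_lit 21), [])))))
 (.node (nat_lit 81) (.node (nat_lit 79) (.leaf ((nat_lit 3), [nat_lit 2, nat_lit 0, nat_lit 2, nat_lit 0])) (.node (nat_lit 80) (.leaf ((nat_lit 3), [nat_lit 2, nat_lit 1, nat_lit 2, nat_lit 0])) (.leaf ((nat_lit 5), [nat_lit 1, nat_lit 0])))) (.node (nat_lit 82) (.leaf ((nat_lit 6), [nat_lit 1, nat_lit 0])) (.node (nat_lit 83) (.leaf ((nat_lit 3), [nat_lit 1, nat_lit 2, nat_lit 0])) (.leaf ((nat_lit 3), [nat_lit 1, nat_lit 0, nat_lit 2, nat_lit 0, nat_lit 2, nat_lit 0])))))))))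
 (.node (nat_lit 126) (.node (nat_lit 105) (.node (nat_lit 94) (.node (nat_lit 89) (.node (nat_lit 86) (.node (nat_lit 85) (.leaf ((nat_lit 3), [nat_lit 2, nat_lit 0, nat_lit 2, nat_lit 1, nat_lit 2, nat_lit 1])) (.leaf ((nat_lit 7), [nat_lit 1, nat_lit 0, nat_lit 2]))) (.node (nat_lit 87) (.leaf ((nat_lit 11), [nat_lit 1])) (.node (nat_lit 88) (.leaf ((nat_lit 3), [nat_lit 1, nat_lit 0])) (.leaf ((nat_lit 9), [nat_lit 1, nat_lit 0, nat_lit 2, nat_lit 0])))))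
 (.node (nat_lit 91) (.node (nat_lit 90) (.leaf ((nat_lit 9), [nat_lit 2, nat_lit 0, nat_lit 2, nat_lit 0])) (.leaf ((nat_lit 3), [nat_lit 2, nat_lit 0, nat_lit 2, nat_lit 1]))) (.node (nat_lit 92) (.leaf ((nat_lit 5), [nat_lit 1])) (.node (nat_lit 93) (.leaf ((nat_lit 11), [nat_lit 1, nat_lit 0, nat_lit 2, nat_lit 0])) (.leaf ((nat_lit 3), [nat_lit 0, nat_lit 2, nat_lit 1, nat_lit 2]))))))
 (.node (nat_lit 99) (.node (nat_lit 96) (.node (nat_lit 95) (.leaf ((nat_lit 3), [nat_lit 1, nat_lit 2, nat_lit 1, nat_lit 0])) (.leaf ((nat_lit 3), [nat_lit 2, nat_lit 1, nat_lit 2, nat_lit 1, nat_lit 0]))) (.node (nat_lit 97) (.leaf ((nat_lit 3), [nat_lit 1, nat_lit 2, nat_lit 1, nat_lit 2])) (.node (nat_lit 98) (.leaf ((nat_lit 6), [nat_lit 2, nat_lit 1])) (.leaf ((nat_lit 3), [nat_lit 2, nat_lit 0, nat_lit 2])))))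
 (.node (nat_lit 102) (.node (nat_lit 100) (.leaf ((nat_lit 4), [nat_lit 0, nat_lit 2])) (.node (nat_lit 101) (.leaf ((nat_lit 11), [nat_lit 1, nat_lit 0, nat_lit 2, nat_lit 1])) (.leaf ((nat_lit 3), [nat_lit 0, nat_lit 2, nat_lit 1, nat_lit 0])))) (.node (nat_lit 103) (.leaf ((nat_lit 3), [nat_lit 1, nat_lit 0, nat_lit 2, nat_lit 1, nat_lit 2, nat_lit 0])) (.node (nat_lit 104) (.leaf ((nat_lit 6), [nat_lit 1, nat_lit 2, nat_lit 1])) (.leaf ((nat_lit 15), [nat_lit 2])))))))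
 (.node (nat_lit 115) (.node (nat_lit 110) (.node (nat_lit 107) (.node (nat_lit 106) (.leaf ((nat_lit 1), [nat_lit 2])) (.leaf ((nat_lit 11), [nat_lit 2, nat_lit 1, nat_lit 2, nat_lit 0]))) (.node (nat_lit 108) (.leaf ((nat_lit 9), [nat_lit 2, nat_lit 1, nat_lit 2, nat_lit 1])) (.node (nat_lit 109) (.leaf ((nat_lit 9), [nat_lit 1, nat_lit 2, nat_lit 0])) (.leaf ((nat_lit 8), [nat_lit 1, nat_lit 2, nat_lit 0, nat_lit 2])))))
 (.node (nat_lit 112) (.node (nat_lit 111) (.leaf ((nat_lit 9), [nat_lit 1, nat_lit 2, nat_lit 0, nat_lit 2, nat_lit 1])) (.leaf ((nat_lit 3), [nat_lit 1, nat_lit 2, nat_lit 0, nat_lit 2]))) (.node (nat_lit 113) (.leaf ((nat_lit 11), [nat_lit 0, nat_lit 2, nat_lit 1, nat_lit 2, nat_lit 0])) (.node (nat_lit 114) (.leaf ((nat_lit 22), [])) (.leaf ((nat_lit 23), []))))))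
 (.node (nat_lit 120) (.node (nat_lit 117) (.node (nat_lit 116) (.leaf ((nat_lit 18), [nat_lit 1, nat_lit 0])) (.leaf ((nat_lit 23), [nat_lit 2]))) (.node (nat_lit 118) (.leaf ((nat_lit 22), [nat_lit 2])) (.node (nat_lit 119) (.leaf ((nat_lit 18), [nat_lit 2, nat_lit 1, nat_lit 0])) (.leaf ((nat_lit 3), [nat_lit 1, nat_lit 2, nat_lit 1, nat_lit 2, nat_lit 0, nat_lit 2])))))
 (.node (nat_lit 123) (.node (nat_lit 121) (.leaf ((nat_lit 20), [nat_lit 0])) (.node (nat_lit 122) (.leaf ((nat_lit 19), [nat_lit 1, nat_lit 0, nat_lit 2])) (.leaf ((nat_lit 3), [nat_lit 2, nat_lit 1, nat_lit 0, nat_lit 2])))) (.node (nat_lit 124) (.leaf ((nat_lit 9), [nat_lit 2, nat_lit 0])) (.node (nat_lit 125) (.leaf ((nat_lit 3), [nat_lit 2, nat_lit 1, nat_lit 2, nat_lit 1])) (.leaf ((nat_lit 7), [nat_lit 0, nat_lit 2, nat_lit 0, nat_lit 2]))))))))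
 (.node (nat_lit 147) (.node (nat_lit 136) (.node (nat_lit 131) (.node (nat_lit 128) (.node (nat_lit 127) (.leaf ((nat_lit 24), [])) (.leaf ((nat_lit 3), [nat_lit 1, nat_lit 2, nat_lit 1]))) (.node (nat_lit 129) (.leaf ((nat_lit 3), [nat_lit 1, nat_lit 0, nat_lit 2])) (.node (nat_lit 130) (.leaf ((nat_lit 3), [nat_lit 2, nat_lit 0, nat_lit 2, nat_lit 1, nat_lit 2, nat_lit 0])) (.leaf ((nat_lit 14), [nat_lit 2, nat_lit 1, nat_lit 2, nat_lit 0])))))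
 (.node (nat_lit 133) (.node (nat_lit 132) (.leaf ((nat_lit 8), [nat_lit 0, nat_lit 2])) (.leaf ((nat_lit 21), [nat_lit 2, nat_lit 1, nat_lit 0]))) (.node (nat_lit 134) (.leaf ((nat_lit 21), [nat_lit 2])) (.node (nat_lit 135) (.leaf ((nat_lit 12), [nat_lit 2, nat_lit 0, nat_lit 2, nat_lit 1])) (.leaf ((nat_lit 7), [nat_lit 1, nat_lit 0]))))))
 (.node (nat_lit 141) (.node (nat_lit 138) (.node (nat_lit 137) (.leaf ((nat_lit 12), [nat_lit 2])) (.leaf ((nat_lit 25), []))) (.node (nat_lit 139) (.leaf ((nat_lit 7), [nat_lit 1, nat_lit 0, nat_lit 2, nat_lit 0, nat_lit 2])) (.node (nat_lit 140) (.leaf ((nat_lit 7), [nat_lit 2, nat_lit 0, nat_lit 2])) (.leaf ((nat_lit 26), [])))))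
 (.node (nat_lit 144) (.node (nat_lit 142) (.leaf ((nat_lit 3), [nat_lit 1, nat_lit 2])) (.node (nat_lit 143) (.leaf ((nat_lit 12), [nat_lit 2, nat_lit 1, nat_lit 2, nat_lit 0])) (.leaf ((nat_lit 9), [nat_lit 2, nat_lit 1])))) (.node (nat_lit 145) (.leaf ((nat_lit 18), [nat_lit 2])) (.node (nat_lit 146) (.leaf ((nat_lit 14), [nat_lit 2, nat_lit 0, nat_lit 2, nat_lit 1])) (.leaf ((nat_lit 14), [nat_lit 2])))))))
 (.node (nat_lit 157) (.node (nat_lit 152) (.node (nat_lit 149) (.node (nat_lit 148) (.leaf ((nat_lit 27), [])) (.leaf ((nat_lit 7), [nat_lit 1, nat_lit 2, nat_lit 0, nat_lit 2]))) (.node (nat_lit 150) (.leaf ((nat_lit 6), [nat_lit 0, nat_lit 2, nat_lit 1, nat_lit 0])) (.node (nat_lit 151) (.leaf ((nat_lit 17), [nat_lit 0])) (.leaf ((nat_lit 3), [nat_lit 1, nat_lit 2, nat_lit 1, nat_lit 2, nat_lit 0])))))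
 (.node (nat_lit 154) (.node (nat_lit 153) (.leaf ((nat_lit 9), [nat_lit 0, nat_lit 2, nat_lit 1, nat_lit 2, nat_lit 1])) (.leaf ((nat_lit 21), [nat_lit 1]))) (.node (nat_lit 155) (.leaf ((nat_lit 8), [nat_lit 2, nat_lit 0, nat_lit 2])) (.node (nat_lit 156) (.leaf ((nat_lit 3), [nat_lit 0, nat_lit 2, nat_lit 0, nat_lit 2, nat_lit 1])) (.leaf ((nat_lit 18), [nat_lit 1, nat_lit 2, nat_lit 1, nat_lit 0]))))))
 (.node (nat_lit 162) (.node (nat_lit 159) (.node (nat_lit 158) (.leaf ((nat_lit 28), [])) (.leaf ((nat_lit 28), [nat_lit 1, nat_lit 0]))) (.node (nat_lit 160) (.leaf ((nat_lit 21), [nat_lit 0, nat_lit 2])) (.node (nat_lit 161) (.leaf ((nat_lit 7), [nat_lit 2, nat_lit 1, nat_lit 0, nat_lit 2])) (.leaf ((nat_lit 6), [nat_lit 2, nat_lit 0])))))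
 (.node (nat_lit 165) (.node (nat_lit 163) (.leaf ((nat_lit 14), [nat_lit 0, nat_lit 2, nat_lit 1])) (.node (nat_lit 164) (.leaf ((nat_lit 27), [nat_lit 1, nat_lit 0])) (.leaf ((nat_lit 21), [nat_lit 0, nat_lit 2, nat_lit 1])))) (.node (nat_lit 166) (.leaf ((nat_lit 6), [nat_lit 1, nat_lit 0, nat_lit 2, nat_lit 1])) (.node (nat_lit 167) (.leaf ((nat_lit 14), [nat_lit 2, nat_lit 1])) (.leaf ((nat_lit 18), [nat_lit 0, nat_lit 2, nat_lit 0]))))))))))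
noncomputable def n2PA_1 : Tr (ℕ × List ℕ) := (.node (nat_lit 252) (.node (nat_lit 210) (.node (nat_lit 189) (.node (nat_lit 178) (.node (nat_lit 173) (.node (nat_lit 170) (.node (nat_lit 169) (.leaf ((nat_lit 25), [nat_lit 1, nat_lit 0])) (.leaf ((nat_lit 3), [nat_lit 1, nat_lit 0, nat_lit 2, nat_lit 1, nat_lit 2, nat_lit 1, nat_lit 0]))) (.node (nat_lit 171) (.leaf ((nat_lit 18), [nat_lit 2, nat_lit 1, nat_lit 0, nat_lit 2])) (.node (nat_lit 172) (.leaf ((nat_lit 25), [nat_lit 2, nat_lit 1, nat_lit 0])) (.leaf ((nat_lit 21), [nat_lit 0])))))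
 (.node (nat_lit 175) (.node (nat_lit 174) (.leaf ((nat_lit 12), [nat_lit 0])) (.leaf ((nat_lit 6), [nat_lit 1, nat_lit 2, nat_lit 1, nat_lit 0]))) (.node (nat_lit 176) (.leaf ((nat_lit 8), [nat_lit 2, nat_lit 0, nat_lit 2, nat_lit 0])) (.node (nat_lit 177) (.leaf ((nat_lit 3), [nat_lit 2, nat_lit 1, nat_lit 2])) (.leaf ((nat_lit 6), [nat_lit 0, nat_lit 2, nat_lit 0]))))))
 (.node (nat_lit 183) (.node (nat_lit 180) (.node (nat_lit 179) (.leaf ((nat_lit 26), [nat_lit 2])) (.leaf ((nat_lit 3), [nat_lit 0, nat_lit 2, nat_lit 0, nat_lit 2, nat_lit 1, nat_lit 2]))) (.node (nat_lit 181) (.leaf ((nat_lit 12), [nat_lit 0, nat_lit 2, nat_lit 0])) (.node (nat_lit 182) (.leaf ((nat_lit 9), [nat_lit 1, nat_lit 0, nat_lit 2, nat_lit 1])) (.leaf ((nat_lit 18), [nat_lit 1, nat_lit 2, nat_lit 0])))))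
 (.node (nat_lit 186) (.node (nat_lit 184) (.leaf ((nat_lit 27), [nat_lit 2, nat_lit 1, nat_lit 0])) (.node (nat_lit 185) (.leaf ((nat_lit 3), [nat_lit 2, nat_lit 0, nat_lit 2, nat_lit 1, nat_lit 0])) (.leaf ((nat_lit 6), [nat_lit 1, nat_lit 0, nat_lit 2])))) (.node (nat_lit 187) (.leaf ((nat_lit 28), [nat_lit 1])) (.node (nat_lit 188) (.leaf ((nat_lit 6), [nat_lit 1, nat_lit 0, nat_lit 2, nat_lit 0])) (.leaf ((nat_lit 24), [nat_lit 2])))))))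
 (.node (nat_lit 199) (.node (nat_lit 194) (.node (nat_lit 191) (.node (nat_lit 190) (.leaf ((nat_lit 3), [nat_lit 0, nat_lit 2, nat_lit 1, nat_lit 2, nat_lit 1, nat_lit 0])) (.leaf ((nat_lit 14), [nat_lit 0, nat_lit 2, nat_lit 0]))) (.node (nat_lit 192) (.leaf ((nat_lit 8), [nat_lit 1, nat_lit 2])) (.node (nat_lit 193) (.leaf ((nat_lit 21), [nat_lit 1, nat_lit 2, nat_lit 1])) (.leaf ((nat_lit 29), [])))))
 (.node (nat_lit 196) (.node (nat_lit 195) (.leaf ((nat_lit 29), [nat_lit 0])) (.leaf ((nat_lit 3), [nat_lit 1, nat_lit 0, nat_lit 2, nat_lit 0, nat_lit 2]))) (.node (nat_lit 197) (.leaf ((nat_lit 6), [nat_lit 1, nat_lit 2, nat_lit 0])) (.node (nat_lit 198) (.leaf ((nat_lit 7), [nat_lit 1, nat_lit 2, nat_lit 1, nat_lit 0])) (.leaf ((nat_lit 16), [nat_lit 2, nat_lit 1, nat_lit 0]))))))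
 (.node (nat_lit 204) (.node (nat_lit 201) (.node (nat_lit 200) (.leaf ((nat_lit 8), [nat_lit 1, nat_lit 0, nat_lit 2, nat_lit 0])) (.leaf ((nat_lit 18), [nat_lit 2, nat_lit 1]))) (.node (nat_lit 202) (.leaf ((nat_lit 3), [nat_lit 1, nat_lit 0, nat_lit 2, nat_lit 1, nat_lit 2])) (.node (nat_lit 203) (.leaf ((nat_lit 12), [nat_lit 0, nat_lit 2, nat_lit 1, nat_lit 2, nat_lit 0])) (.leaf ((nat_lit 12), [nat_lit 2, nat_lit 1, nat_lit 2, nat_lit 1])))))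
 (.node (nat_lit 207) (.node (nat_lit 205) (.leaf ((nat_lit 6), [nat_lit 2, nat_lit 1, nat_lit 0])) (.node (nat_lit 206) (.leaf ((nat_lit 29), [nat_lit 2])) (.leaf ((nat_lit 21), [nat_lit 1, nat_lit 2, nat_lit 0])))) (.node (nat_lit 208) (.leaf ((nat_lit 18), [nat_lit 1, nat_lit 0, nat_lit 2])) (.node (nat_lit 209) (.leaf ((nat_lit 28), [nat_lit 0])) (.leaf ((nat_lit 16), [nat_lit 0]))))))))
 (.node (nat_lit 231) (.node (nat_lit 220) (.node (nat_lit 215) (.node (nat_lit 212) (.node (nat_lit 211) (.leaf ((nat_lit 25), [nat_lit 0])) (.leaf ((nat_lit 21), [nat_lit 1, nat_lit 0]))) (.node (nat_lit 213) (.leaf ((nat_lit 12), [nat_lit 2, nat_lit 0, nat_lit 2, nat_lit 0])) (.node (nat_lit 214) (.leaf ((nat_lit 3), [nat_lit 0, nat_lit 2, nat_lit 0, nat_lit 2, nat_lit 1, nat_lit 0])) (.leaf ((nat_lit 3), [nat_lit 1, nat_lit 2, nat_lit 0, nat_lit 2, nat_lit 1, nat_lit 0])))))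
 (.node (nat_lit 217) (.node (nat_lit 216) (.leaf ((nat_lit 12), [nat_lit 1, nat_lit 2, nat_lit 0, nat_lit 2, nat_lit 0])) (.leaf ((nat_lit 27), [nat_lit 0]))) (.node (nat_lit 218) (.leaf ((nat_lit 24), [nat_lit 1, nat_lit 2])) (.node (nat_lit 219) (.leaf ((nat_lit 25), [nat_lit 1])) (.leaf ((nat_lit 18), [nat_lit 1, nat_lit 2]))))))
 (.node (nat_lit 225) (.node (nat_lit 222) (.node (nat_lit 221) (.leaf ((nat_lit 7), [nat_lit 1, nat_lit 2])) (.leaf ((nat_lit 12), [nat_lit 1, nat_lit 0, nat_lit 2, nat_lit 1]))) (.node (nat_lit 223) (.leaf ((nat_lit 3), [nat_lit 2, nat_lit 1, nat_lit 2, nat_lit 0, nat_lit 2, nat_lit 1])) (.node (nat_lit 224) (.leaf ((nat_lit 11), [nat_lit 1, nat_lit 2, nat_lit 0, nat_lit 2, nat_lit 0])) (.leaf ((nat_lit 30), [])))))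
 (.node (nat_lit 228) (.node (nat_lit 226) (.leaf ((nat_lit 20), [nat_lit 1])) (.node (nat_lit 227) (.leaf ((nat_lit 19), [nat_lit 0, nat_lit 2])) (.leaf ((nat_lit 11), [nat_lit 2])))) (.node (nat_lit 229) (.leaf ((nat_lit 11), [nat_lit 0, nat_lit 2, nat_lit 0])) (.node (nat_lit 230) (.leaf ((nat_lit 3), [nat_lit 2, nat_lit 1, nat_lit 0])) (.leaf ((nat_lit 11), [nat_lit 0, nat_lit 2, nat_lit 1, nat_lit 2, nat_lit 1])))))))
 (.node (nat_lit 241) (.node (nat_lit 236) (.node (nat_lit 233) (.node (nat_lit 232) (.leaf ((nat_lit 7), [nat_lit 0])) (.leaf ((nat_lit 6), [nat_lit 0]))) (.node (nat_lit 234) (.leaf ((nat_lit 8), [nat_lit 2])) (.node (nat_lit 235) (.leaf ((nat_lit 29), [nat_lit 1])) (.leaf ((nat_lit 9), [nat_lit 0, nat_lit 2, nat_lit 1])))))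
 (.node (nat_lit 238) (.node (nat_lit 237) (.leaf ((nat_lit 31), [])) (.leaf ((nat_lit 2), [nat_lit 2]))) (.node (nat_lit 239) (.leaf ((nat_lit 6), [nat_lit 0, nat_lit 2])) (.node (nat_lit 240) (.leaf ((nat_lit 7), [nat_lit 0, nat_lit 2])) (.leaf ((nat_lit 6), [nat_lit 1]))))))
 (.node (nat_lit 246) (.node (nat_lit 243) (.node (nat_lit 242) (.leaf ((nat_lit 16), [nat_lit 1, nat_lit 0])) (.leaf ((nat_lit 3), [nat_lit 0, nat_lit 2, nat_lit 1, nat_lit 2, nat_lit 0]))) (.node (nat_lit 244) (.leaf ((nat_lit 8), [nat_lit 2, nat_lit 1])) (.node (nat_lit 245) (.leaf ((nat_lit 12), [nat_lit 1, nat_lit 2, nat_lit 0])) (.leaf ((nat_lit 11), [nat_lit 2, nat_lit 1, nat_lit 2, nat_lit 1])))))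
 (.node (nat_lit 249) (.node (nat_lit 247) (.leaf ((nat_lit 21), [nat_lit 1, nat_lit 0, nat_lit 2, nat_lit 0])) (.node (nat_lit 248) (.leaf ((nat_lit 8), [nat_lit 0, nat_lit 2, nat_lit 1])) (.leaf ((nat_lit 3), [nat_lit 0, nat_lit 2])))) (.node (nat_lit 250) (.leaf ((nat_lit 12), [nat_lit 2, nat_lit 1])) (.node (nat_lit 251) (.leaf ((nat_lit 19), [nat_lit 1, nat_lit 2])) (.leaf ((nat_lit 8), [nat_lit 1, nat_lit 0, nat_lit 2])))))))))
 (.node (nat_lit 294) (.node (nat_lit 273) (.node (nat_lit 262) (.node (nat_lit 257) (.node (nat_lit 254) (.node (nat_lit 253) (.leaf ((nat_lit 22), [nat_lit 1, nat_lit 2])) (.leaf ((nat_lit 9), [nat_lit 1, nat_lit 2, nat_lit 1]))) (.node (nat_lit 255) (.leaf ((nat_lit 17), [nat_lit 2, nat_lit 0])) (.node (nat_lit 256) (.leaf ((nat_lit 9), [nat_lit 2, nat_lit 0, nat_lit 2, nat_lit 1])) (.leaf ((nat_lit 6), [nat_lit 0, nat_lit 2, nat_lit 1])))))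
 (.node (nat_lit 259) (.node (nat_lit 258) (.leaf ((nat_lit 17), [nat_lit 2])) (.leaf ((nat_lit 14), [nat_lit 1, nat_lit 2, nat_lit 0, nat_lit 2, nat_lit 0]))) (.node (nat_lit 260) (.leaf ((nat_lit 27), [nat_lit 1])) (.node (nat_lit 261) (.leaf ((nat_lit 28), [nat_lit 2, nat_lit 1, nat_lit 0])) (.leaf ((nat_lit 18), [nat_lit 1, nat_lit 2, nat_lit 1]))))))
 (.node (nat_lit 267) (.node (nat_lit 264) (.node (nat_lit 263) (.leaf ((nat_lit 21), [nat_lit 2, nat_lit 1, nat_lit 0, nat_lit 2])) (.leaf ((nat_lit 23), [nat_lit 1, nat_lit 0]))) (.node (nat_lit 265) (.leaf ((nat_lit 22), [nat_lit 0, nat_lit 2])) (.node (nat_lit 266) (.leaf ((nat_lit 22), [nat_lit 1, nat_lit 0, nat_lit 2])) (.leaf ((nat_lit 23), [nat_lit 0])))))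
 (.node (nat_lit 270) (.node (nat_lit 268) (.leaf ((nat_lit 8), [nat_lit 1, nat_lit 2, nat_lit 0])) (.node (nat_lit 269) (.leaf ((nat_lit 12), [nat_lit 1, nat_lit 2, nat_lit 1])) (.leaf ((nat_lit 3), [nat_lit 1, nat_lit 0, nat_lit 2, nat_lit 0, nat_lit 2, nat_lit 1])))) (.node (nat_lit 271) (.leaf ((nat_lit 9), [nat_lit 1])) (.node (nat_lit 272) (.leaf ((nat_lit 11), [nat_lit 1, nat_lit 2, nat_lit 0, nat_lit 2, nat_lit 1])) (.leaf ((nat_lit 3), [nat_lit 2, nat_lit 1])))))))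
 (.node (nat_lit 283) (.node (nat_lit 278) (.node (nat_lit 275) (.node (nat_lit 274) (.leaf ((nat_lit 32), [])) (.leaf ((nat_lit 23), [nat_lit 1]))) (.node (nat_lit 276) (.leaf ((nat_lit 18), [nat_lit 0])) (.node (nat_lit 277) (.leaf ((nat_lit 9), [nat_lit 1, nat_lit 2, nat_lit 0, nat_lit 2, nat_lit 0])) (.leaf ((nat_lit 8), [nat_lit 2, nat_lit 1, nat_lit 0])))))
 (.node (nat_lit 280) (.node (nat_lit 279) (.leaf ((nat_lit 16), [nat_lit 1])) (.leaf ((nat_lit 19), [nat_lit 2]))) (.node (nat_lit 281) (.leaf ((nat_lit 33), [])) (.node (nat_lit 282) (.leaf ((nat_lit 3), [nat_lit 1, nat_lit 0, nat_lit 2, nat_lit 0])) (.leaf ((nat_lit 21), [nat_lit 1, nat_lit 0, nat_lit 2]))))))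
 (.node (nat_lit 288) (.node (nat_lit 285) (.node (nat_lit 284) (.leaf ((nat_lit 14), [nat_lit 2, nat_lit 1, nat_lit 2, nat_lit 1])) (.leaf ((nat_lit 8), [nat_lit 1, nat_lit 0]))) (.node (nat_lit 286) (.leaf ((nat_lit 8), [nat_lit 0, nat_lit 2, nat_lit 0])) (.node (nat_lit 287) (.leaf ((nat_lit 21), [nat_lit 2, nat_lit 1])) (.leaf ((nat_lit 12), [nat_lit 2, nat_lit 0])))))
 (.node (nat_lit 291) (.node (nat_lit 289) (.leaf ((nat_lit 26), [nat_lit 1, nat_lit 0, nat_lit 2])) (.node (nat_lit 290) (.leaf ((nat_lit 26), [nat_lit 1, nat_lit 2])) (.leaf ((nat_lit 18), [nat_lit 0, nat_lit 2, nat_lit 1])))) (.node (nat_lit 292) (.leaf ((nat_lit 18), [nat_lit 0, nat_lit 2, nat_lit 1, nat_lit 0])) (.node (nat_lit 293) (.leaf ((nat_lit 7), [nat_lit 1, nat_lit 2, nat_lit 1, nat_lit 2])) (.leaf ((nat_lit 9), [nat_lit 0, nat_lit 2, nat_lit 1, nat_lit 2, nat_lit 0]))))))))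
 (.node (nat_lit 315) (.node (nat_lit 304) (.node (nat_lit 299) (.node (nat_lit 296) (.node (nat_lit 295) (.leaf ((nat_lit 21), [nat_lit 1, nat_lit 2])) (.leaf ((nat_lit 15), [nat_lit 1, nat_lit 0, nat_lit 2]))) (.node (nat_lit 297) (.leaf ((nat_lit 3), [nat_lit 2, nat_lit 0])) (.node (nat_lit 298) (.leaf ((nat_lit 17), [nat_lit 1])) (.leaf ((nat_lit 13), [nat_lit 1])))))
 (.node (nat_lit 301) (.node (nat_lit 300) (.leaf ((nat_lit 24), [nat_lit 1, nat_lit 0, nat_lit 2])) (.leaf ((nat_lit 21), [nat_lit 0, nat_lit 2, nat_lit 0]))) (.node (nat_lit 302) (.leaf ((nat_lit 7), [nat_lit 2, nat_lit 1, nat_lit 2])) (.node (nat_lit 303) (.leaf ((nat_lit 2), [nat_lit 0])) (.leaf ((nat_lit 12), [nat_lit 0, nat_lit 2, nat_lit 1]))))))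
 (.node (nat_lit 309) (.node (nat_lit 306) (.node (nat_lit 305) (.leaf ((nat_lit 1), [nat_lit 1])) (.leaf ((nat_lit 18), [nat_lit 0, nat_lit 2]))) (.node (nat_lit 307) (.leaf ((nat_lit 12), [nat_lit 1])) (.node (nat_lit 308) (.leaf ((nat_lit 29), [nat_lit 1, nat_lit 0])) (.leaf ((nat_lit 14), [nat_lit 0])))))
 (.node (nat_lit 312) (.node (nat_lit 310) (.leaf ((nat_lit 18), [nat_lit 1])) (.node (nat_lit 311) (.leaf ((nat_lit 14), [nat_lit 0, nat_lit 2, nat_lit 1, nat_lit 2, nat_lit 1])) (.leaf ((nat_lit 1), [nat_lit 0])))) (.node (nat_lit 313) (.leaf ((nat_lit 9), [nat_lit 0])) (.node (nat_lit 314) (.leaf ((nat_lit 18), [nat_lit 1, nat_lit 0, nat_lit 2, nat_lit 1])) (.leaf ((nat_lit 7), [nat_lit 0, nat_lit 2, nat_lit 1, nat_lit 0])))))))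
 (.node (nat_lit 325) (.node (nat_lit 320) (.node (nat_lit 317) (.node (nat_lit 316) (.leaf ((nat_lit 26), [nat_lit 0, nat_lit 2])) (.leaf ((nat_lit 3), [nat_lit 2]))) (.node (nat_lit 318) (.leaf ((nat_lit 14), [nat_lit 1, nat_lit 0, nat_lit 2, nat_lit 1])) (.node (nat_lit 319) (.leaf ((nat_lit 14), [nat_lit 1, nat_lit 2, nat_lit 0])) (.leaf ((nat_lit 18), [nat_lit 1, nat_lit 0, nat_lit 2, nat_lit 0])))))
 (.node (nat_lit 322) (.node (nat_lit 321) (.leaf ((nat_lit 21), [nat_lit 0, nat_lit 2, nat_lit 1, nat_lit 0])) (.leaf ((nat_lit 12), [nat_lit 0, nat_lit 2, nat_lit 1, nat_lit 2, nat_lit 1]))) (.node (nat_lit 323) (.leaf ((nat_lit 21), [nat_lit 1, nat_lit 0, nat_lit 2, nat_lit 1])) (.node (nat_lit 324) (.leaf ((nat_lit 13), [nat_lit 0])) (.leaf ((nat_lit 14), [nat_lit 1]))))))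
 (.node (nat_lit 330) (.node (nat_lit 327) (.node (nat_lit 326) (.leaf ((nat_lit 14), [nat_lit 0, nat_lit 2, nat_lit 1, nat_lit 2, nat_lit 0])) (.leaf ((nat_lit 24), [nat_lit 0, nat_lit 2]))) (.node (nat_lit 328) (.leaf ((nat_lit 14), [nat_lit 1, nat_lit 0, nat_lit 2, nat_lit 0])) (.node (nat_lit 329) (.leaf ((nat_lit 12), [nat_lit 1, nat_lit 0, nat_lit 2, nat_lit 0])) (.leaf ((nat_lit 11), [nat_lit 1, nat_lit 2, nat_lit 0])))))
 (.node (nat_lit 333) (.node (nat_lit 331) (.leaf ((nat_lit 14), [nat_lit 1, nat_lit 2, nat_lit 1])) (.node (nat_lit 332) (.leaf ((nat_lit 20), [nat_lit 2])) (.leaf ((nat_lit 21), [nat_lit 2, nat_lit 0])))) (.node (nat_lit 334) (.leaf ((nat_lit 20), [nat_lit 1, nat_lit 0])) (.node (nat_lit 335) (.leaf ((nat_lit 21), [nat_lit 1, nat_lit 2, nat_lit 1, nat_lit 0])) (.leaf ((nat_lit 3), [nat_lit 0, nat_lit 2, nat_lit 1]))))))))))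
noncomputable def n2PA : Tr (ℕ × List ℕ) := (.node (nat_lit 168) n2PA_0 n2PA_1)
noncomputable def n2Wd_0 : Tr (ℕ × List ℕ) := (.node (nat_lit 126) (.node (nat_lit 63) (.node (nat_lit 31) (.node (nat_lit 15) (.node (nat_lit 7) (.node (nat_lit 3) (.node (nat_lit 1) (.leaf ((nat_lit 1), [])) (.node (nat_lit 2) (.leaf ((nat_lit 2), [])) (.leaf ((nat_lit 3), []))))
 (.node (nat_lit 5) (.node (nat_lit 4) (.leaf ((nat_lit 4), [])) (.leaf ((nat_lit 5), [nat_lit 1, nat_lit 0, nat_lit 2, nat_lit 1, nat_lit 0]))) (.node (nat_lit 6) (.leaf ((nat_lit 6), [])) (.leaf ((nat_lit 0), [])))))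
 (.node (nat_lit 11) (.node (nat_lit 9) (.node (nat_lit 8) (.leaf ((nat_lit 7), [nat_lit 2, nat_lit 1])) (.leaf ((nat_lit 8), [nat_lit 0, nat_lit 2, nat_lit 0]))) (.node (nat_lit 10) (.leaf ((nat_lit 9), [])) (.leaf ((nat_lit 10), [nat_lit 2, nat_lit 0, nat_lit 2, nat_lit 1, nat_lit 2, nat_lit 1]))))
 (.node (nat_lit 13) (.node (nat_lit 12) (.leaf ((nat_lit 11), [])) (.leaf ((nat_lit 7), [nat_lit 2, nat_lit 1]))) (.node (nat_lit 14) (.leaf ((nat_lit 0), [])) (.leaf ((nat_lit 12), [nat_lit 1, nat_lit 2, nat_lit 1, nat_lit 2, nat_lit 1]))))))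
 (.node (nat_lit 23) (.node (nat_lit 19) (.node (nat_lit 17) (.node (nat_lit 16) (.leaf ((nat_lit 13), [nat_lit 2, nat_lit 0, nat_lit 2, nat_lit 1, nat_lit 2, nat_lit 1])) (.leaf ((nat_lit 14), [nat_lit 0, nat_lit 2, nat_lit 1, nat_lit 2]))) (.node (nat_lit 18) (.leaf ((nat_lit 15), [nat_lit 1, nat_lit 0, nat_lit 2, nat_lit 0, nat_lit 2, nat_lit 0])) (.leaf ((nat_lit 8), [nat_lit 0, nat_lit 2, nat_lit 0]))))
 (.node (nat_lit 21) (.node (nat_lit 20) (.leaf ((nat_lit 12), [nat_lit 1, nat_lit 2, nat_lit 1, nat_lit 2, nat_lit 1])) (.leaf ((nat_lit 0), []))) (.node (nat_lit 22) (.leaf ((nat_lit 16), [nat_lit 1])) (.leaf ((nat_lit 17), [])))))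
 (.node (nat_lit 27) (.node (nat_lit 25) (.node (nat_lit 24) (.leaf ((nat_lit 18), [nat_lit 1, nat_lit 2, nat_lit 0, nat_lit 2, nat_lit 1])) (.leaf ((nat_lit 19), []))) (.node (nat_lit 26) (.leaf ((nat_lit 20), [nat_lit 1, nat_lit 0, nat_lit 2, nat_lit 1])) (.leaf ((nat_lit 21), [nat_lit 0]))))
 (.node (nat_lit 29) (.node (nat_lit 28) (.leaf ((nat_lit 0), [])) (.leaf ((nat_lit 22), [nat_lit 1, nat_lit 2, nat_lit 0, nat_lit 2, nat_lit 0]))) (.node (nat_lit 30) (.leaf ((nat_lit 4), [nat_lit 2, nat_lit 0, nat_lit 2])) (.leaf ((nat_lit 23), [nat_lit 2, nat_lit 0, nat_lit 2, nat_lit 1, nat_lit 2])))))))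
 (.node (nat_lit 47) (.node (nat_lit 39) (.node (nat_lit 35) (.node (nat_lit 33) (.node (nat_lit 32) (.leaf ((nat_lit 24), [nat_lit 1, nat_lit 2, nat_lit 1, nat_lit 2, nat_lit 0])) (.leaf ((nat_lit 25), [nat_lit 0, nat_lit 2, nat_lit 0, nat_lit 2, nat_lit 0]))) (.node (nat_lit 34) (.leaf ((nat_lit 22), [nat_lit 2, nat_lit 0, nat_lit 2, nat_lit 1, nat_lit 2, nat_lit 1])) (.leaf ((nat_lit 0), [nat_lit 1, nat_lit 0, nat_lit 2, nat_lit 1, nat_lit 0]))))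
 (.node (nat_lit 37) (.node (nat_lit 36) (.leaf ((nat_lit 26), [nat_lit 1, nat_lit 0, nat_lit 2, nat_lit 1, nat_lit 0])) (.leaf ((nat_lit 27), [nat_lit 2, nat_lit 1, nat_lit 2, nat_lit 0, nat_lit 2, nat_lit 1, nat_lit 0]))) (.node (nat_lit 38) (.leaf ((nat_lit 28), [nat_lit 2, nat_lit 0, nat_lit 2, nat_lit 1])) (.leaf ((nat_lit 29), [nat_lit 1, nat_lit 2, nat_lit 1, nat_lit 2, nat_lit 0])))))
 (.node (nat_lit 43) (.node (nat_lit 41) (.node (nat_lit 40) (.leaf ((nat_lit 7), [nat_lit 2, nat_lit 1, nat_lit 2, nat_lit 0, nat_lit 2, nat_lit 1, nat_lit 0])) (.leaf ((nat_lit 26), [nat_lit 1, nat_lit 0, nat_lit 2, nat_lit 0, nat_lit 2, nat_lit 1, nat_lit 0]))) (.node (nat_lit 42) (.leaf ((nat_lit 0), [])) (.leaf ((nat_lit 2), [nat_lit 1, nat_lit 2]))))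
 (.node (nat_lit 45) (.node (nat_lit 44) (.leaf ((nat_lit 1), [nat_lit 1, nat_lit 2])) (.leaf ((nat_lit 30), [nat_lit 1, nat_lit 2, nat_lit 0]))) (.node (nat_lit 46) (.leaf ((nat_lit 6), [nat_lit 2, nat_lit 0, nat_lit 2, nat_lit 1, nat_lit 2, nat_lit 1])) (.leaf ((nat_lit 31), [nat_lit 1, nat_lit 0, nat_lit 2, nat_lit 1, nat_lit 2, nat_lit 1, nat_lit 0]))))))
 (.node (nat_lit 55) (.node (nat_lit 51) (.node (nat_lit 49) (.node (nat_lit 48) (.leaf ((nat_lit 32), [nat_lit 1, nat_lit 0, nat_lit 2, nat_lit 1, nat_lit 2, nat_lit 1])) (.leaf ((nat_lit 3), [nat_lit 0, nat_lit 2, nat_lit 0]))) (.node (nat_lit 50) (.leaf ((nat_lit 30), [nat_lit 1, nat_lit 2, nat_lit 1, nat_lit 2, nat_lit 1])) (.leaf ((nat_lit 1), [nat_lit 0, nat_lit 2, nat_lit 0]))))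
 (.node (nat_lit 53) (.node (nat_lit 52) (.leaf ((nat_lit 33), [nat_lit 1, nat_lit 0, nat_lit 2, nat_lit 0, nat_lit 2, nat_lit 1, nat_lit 0])) (.leaf ((nat_lit 34), [nat_lit 0, nat_lit 2, nat_lit 0]))) (.node (nat_lit 54) (.leaf ((nat_lit 35), [nat_lit 2, nat_lit 0, nat_lit 2, nat_lit 0])) (.leaf ((nat_lit 36), [nat_lit 1, nat_lit 2, nat_lit 1, nat_lit 0])))))
 (.node (nat_lit 59) (.node (nat_lit 57) (.node (nat_lit 56) (.leaf ((nat_lit 37), [nat_lit 1, nat_lit 2])) (.leaf ((nat_lit 38), []))) (.node (nat_lit 58) (.leaf ((nat_lit 1), [])) (.leaf ((nat_lit 39), []))))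
 (.node (nat_lit 61) (.node (nat_lit 60) (.leaf ((nat_lit 40), [nat_lit 2, nat_lit 1, nat_lit 2, nat_lit 0, nat_lit 2, nat_lit 1, nat_lit 0])) (.leaf ((nat_lit 41), [nat_lit 1]))) (.node (nat_lit 62) (.leaf ((nat_lit 42), [nat_lit 1, nat_lit 2, nat_lit 1, nat_lit 2, nat_lit 1])) (.leaf ((nat_lit 43), [nat_lit 2, nat_lit 1, nat_lit 2, nat_lit 0, nat_lit 2, nat_lit 1, nat_lit 0]))))))))
 (.node (nat_lit 94) (.node (nat_lit 78) (.node (nat_lit 70) (.node (nat_lit 66) (.node (nat_lit 64) (.leaf ((nat_lit 39), [nat_lit 2, nat_lit 1, nat_lit 2, nat_lit 0, nat_lit 2, nat_lit 1, nat_lit 0])) (.node (nat_lit 65) (.leaf ((nat_lit 1), [nat_lit 2, nat_lit 1, nat_lit 2, nat_lit 0, nat_lit 2, nat_lit 1, nat_lit 0])) (.leaf ((nat_lit 44), [nat_lit 2, nat_lit 1, nat_lit 2, nat_lit 0, nat_lit 2, nat_lit 1, nat_lit 0]))))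
 (.node (nat_lit 68) (.node (nat_lit 67) (.leaf ((nat_lit 45), [nat_lit 1, nat_lit 0, nat_lit 2, nat_lit 0, nat_lit 2, nat_lit 1])) (.leaf ((nat_lit 46), [nat_lit 2, nat_lit 1, nat_lit 2, nat_lit 0, nat_lit 2]))) (.node (nat_lit 69) (.leaf ((nat_lit 47), [])) (.leaf ((nat_lit 48), [nat_lit 1, nat_lit 0, nat_lit 2])))))
 (.node (nat_lit 74) (.node (nat_lit 72) (.node (nat_lit 71) (.leaf ((nat_lit 49), [nat_lit 2, nat_lit 1, nat_lit 2, nat_lit 0, nat_lit 2, nat_lit 1, nat_lit 0])) (.leaf ((nat_lit 1), []))) (.node (nat_lit 73) (.leaf ((nat_lit 30), [nat_lit 0, nat_lit 2, nat_lit 0])) (.leaf ((nat_lit 3), [nat_lit 1, nat_lit 2, nat_lit 1, nat_lit 2, nat_lit 1]))))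
 (.node (nat_lit 76) (.node (nat_lit 75) (.leaf ((nat_lit 2), [nat_lit 1, nat_lit 2, nat_lit 1, nat_lit 2, nat_lit 1])) (.leaf ((nat_lit 50), [nat_lit 2, nat_lit 0, nat_lit 2, nat_lit 1]))) (.node (nat_lit 77) (.leaf ((nat_lit 51), [nat_lit 1])) (.leaf ((nat_lit 52), [nat_lit 2, nat_lit 0, nat_lit 2, nat_lit 1]))))))
 (.node (nat_lit 86) (.node (nat_lit 82) (.node (nat_lit 80) (.node (nat_lit 79) (.leaf ((nat_lit 53), [nat_lit 2])) (.leaf ((nat_lit 54), [nat_lit 1, nat_lit 0, nat_lit 2, nat_lit 0]))) (.node (nat_lit 81) (.leaf ((nat_lit 55), [nat_lit 0, nat_lit 2, nat_lit 1, nat_lit 2])) (.leaf ((nat_lit 2), [nat_lit 2, nat_lit 1, nat_lit 2, nat_lit 0, nat_lit 2, nat_lit 1, nat_lit 0]))))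
 (.node (nat_lit 84) (.node (nat_lit 83) (.leaf ((nat_lit 56), [nat_lit 2, nat_lit 1, nat_lit 2, nat_lit 0])) (.leaf ((nat_lit 57), [nat_lit 2, nat_lit 1, nat_lit 2, nat_lit 0]))) (.node (nat_lit 85) (.leaf ((nat_lit 58), [nat_lit 1, nat_lit 0, nat_lit 2, nat_lit 1, nat_lit 2, nat_lit 0])) (.leaf ((nat_lit 59), [nat_lit 2, nat_lit 1, nat_lit 2, nat_lit 0, nat_lit 2])))))
 (.node (nat_lit 90) (.node (nat_lit 88) (.node (nat_lit 87) (.leaf ((nat_lit 60), [nat_lit 0, nat_lit 2, nat_lit 0, nat_lit 2, nat_lit 1, nat_lit 0])) (.leaf ((nat_lit 56), [nat_lit 1, nat_lit 2, nat_lit 1, nat_lit 2, nat_lit 1]))) (.node (nat_lit 89) (.leaf ((nat_lit 2), [nat_lit 2, nat_lit 1, nat_lit 2, nat_lit 0])) (.leaf ((nat_lit 61), [nat_lit 1, nat_lit 0, nat_lit 2]))))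
 (.node (nat_lit 92) (.node (nat_lit 91) (.leaf ((nat_lit 62), [nat_lit 1])) (.leaf ((nat_lit 63), [nat_lit 2, nat_lit 0, nat_lit 2, nat_lit 0]))) (.node (nat_lit 93) (.leaf ((nat_lit 64), [nat_lit 0, nat_lit 2, nat_lit 0, nat_lit 2, nat_lit 1, nat_lit 0])) (.leaf ((nat_lit 65), [nat_lit 2, nat_lit 1, nat_lit 0])))))))
 (.node (nat_lit 110) (.node (nat_lit 102) (.node (nat_lit 98) (.node (nat_lit 96) (.node (nat_lit 95) (.leaf ((nat_lit 66), [])) (.leaf ((nat_lit 2), [nat_lit 0, nat_lit 2, nat_lit 0, nat_lit 2, nat_lit 1, nat_lit 0]))) (.node (nat_lit 97) (.leaf ((nat_lit 67), [nat_lit 1])) (.leaf ((nat_lit 68), [nat_lit 1, nat_lit 0, nat_lit 2, nat_lit 1, nat_lit 2]))))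
 (.node (nat_lit 100) (.node (nat_lit 99) (.leaf ((nat_lit 40), [nat_lit 1, nat_lit 2, nat_lit 1])) (.leaf ((nat_lit 3), [nat_lit 1]))) (.node (nat_lit 101) (.leaf ((nat_lit 69), [nat_lit 1, nat_lit 2, nat_lit 0, nat_lit 2, nat_lit 1])) (.leaf ((nat_lit 70), [nat_lit 1, nat_lit 2, nat_lit 0, nat_lit 2])))))
 (.node (nat_lit 106) (.node (nat_lit 104) (.node (nat_lit 103) (.leaf ((nat_lit 71), [nat_lit 2, nat_lit 0, nat_lit 2, nat_lit 1, nat_lit 0])) (.leaf ((nat_lit 72), [nat_lit 0, nat_lit 2, nat_lit 0, nat_lit 2, nat_lit 1, nat_lit 0]))) (.node (nat_lit 105) (.leaf ((nat_lit 73), [nat_lit 0, nat_lit 2, nat_lit 1, nat_lit 0])) (.leaf ((nat_lit 69), [nat_lit 1, nat_lit 2, nat_lit 0, nat_lit 2]))))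
 (.node (nat_lit 108) (.node (nat_lit 107) (.leaf ((nat_lit 3), [])) (.leaf ((nat_lit 74), [nat_lit 2, nat_lit 0, nat_lit 2]))) (.node (nat_lit 109) (.leaf ((nat_lit 75), [nat_lit 1, nat_lit 2, nat_lit 0, nat_lit 2, nat_lit 1])) (.leaf ((nat_lit 76), [nat_lit 1, nat_lit 2, nat_lit 0, nat_lit 2, nat_lit 1]))))))
 (.node (nat_lit 118) (.node (nat_lit 114) (.node (nat_lit 112) (.node (nat_lit 111) (.leaf ((nat_lit 77), [nat_lit 1, nat_lit 2, nat_lit 0, nat_lit 2, nat_lit 1])) (.leaf ((nat_lit 78), [nat_lit 2, nat_lit 0, nat_lit 2, nat_lit 1]))) (.node (nat_lit 113) (.leaf ((nat_lit 79), [nat_lit 1, nat_lit 2, nat_lit 0, nat_lit 2])) (.leaf ((nat_lit 3), [nat_lit 1, nat_lit 2, nat_lit 0, nat_lit 2, nat_lit 1]))))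
 (.node (nat_lit 116) (.node (nat_lit 115) (.leaf ((nat_lit 4), [])) (.leaf ((nat_lit 80), [nat_lit 1, nat_lit 0, nat_lit 2, nat_lit 0, nat_lit 2, nat_lit 1, nat_lit 0]))) (.node (nat_lit 117) (.leaf ((nat_lit 81), [nat_lit 1, nat_lit 0])) (.leaf ((nat_lit 82), [nat_lit 0, nat_lit 2, nat_lit 1])))))
 (.node (nat_lit 122) (.node (nat_lit 120) (.node (nat_lit 119) (.leaf ((nat_lit 83), [nat_lit 2, nat_lit 1, nat_lit 2, nat_lit 0])) (.leaf ((nat_lit 84), [nat_lit 1, nat_lit 0, nat_lit 2, nat_lit 1]))) (.node (nat_lit 121) (.leaf ((nat_lit 80), [nat_lit 1, nat_lit 2, nat_lit 0, nat_lit 2, nat_lit 1])) (.leaf ((nat_lit 4), [nat_lit 1, nat_lit 2, nat_lit 1, nat_lit 0]))))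
 (.node (nat_lit 124) (.node (nat_lit 123) (.leaf ((nat_lit 85), [nat_lit 0, nat_lit 2, nat_lit 0, nat_lit 2, nat_lit 0])) (.leaf ((nat_lit 54), [nat_lit 1, nat_lit 2, nat_lit 0, nat_lit 2]))) (.node (nat_lit 125) (.leaf ((nat_lit 37), [nat_lit 1, nat_lit 2, nat_lit 1, nat_lit 2, nat_lit 1])) (.leaf ((nat_lit 86), [nat_lit 0, nat_lit 2, nat_lit 0])))))))))
 (.node (nat_lit 189) (.node (nat_lit 157) (.node (nat_lit 141) (.node (nat_lit 133) (.node (nat_lit 129) (.node (nat_lit 127) (.leaf ((nat_lit 81), [nat_lit 1])) (.node (nat_lit 128) (.leaf ((nat_lit 85), [nat_lit 2, nat_lit 0, nat_lit 2, nat_lit 1, nat_lit 2])) (.leaf ((nat_lit 4), [nat_lit 0]))))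
 (.node (nat_lit 131) (.node (nat_lit 130) (.leaf ((nat_lit 87), [nat_lit 1])) (.leaf ((nat_lit 88), [nat_lit 1, nat_lit 2, nat_lit 0]))) (.node (nat_lit 132) (.leaf ((nat_lit 89), [nat_lit 0, nat_lit 2, nat_lit 1, nat_lit 2, nat_lit 1])) (.leaf ((nat_lit 56), [nat_lit 1, nat_lit 2, nat_lit 0, nat_lit 2, nat_lit 1, nat_lit 0])))))
 (.node (nat_lit 137) (.node (nat_lit 135) (.node (nat_lit 134) (.leaf ((nat_lit 39), [nat_lit 2, nat_lit 1, nat_lit 2])) (.leaf ((nat_lit 90), [nat_lit 2, nat_lit 0, nat_lit 2, nat_lit 0]))) (.node (nat_lit 136) (.leaf ((nat_lit 5), [nat_lit 2, nat_lit 1, nat_lit 2, nat_lit 0, nat_lit 2, nat_lit 1, nat_lit 0])) (.leaf ((nat_lit 4), [nat_lit 0, nat_lit 2, nat_lit 0, nat_lit 2, nat_lit 1]))))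
 (.node (nat_lit 139) (.node (nat_lit 138) (.leaf ((nat_lit 80), [nat_lit 2, nat_lit 0, nat_lit 2, nat_lit 1, nat_lit 2, nat_lit 1, nat_lit 0])) (.leaf ((nat_lit 5), [nat_lit 2, nat_lit 1, nat_lit 2, nat_lit 0, nat_lit 2]))) (.node (nat_lit 140) (.leaf ((nat_lit 91), [nat_lit 1, nat_lit 2, nat_lit 0])) (.leaf ((nat_lit 92), [nat_lit 2, nat_lit 1, nat_lit 2]))))))
 (.node (nat_lit 149) (.node (nat_lit 145) (.node (nat_lit 143) (.node (nat_lit 142) (.leaf ((nat_lit 93), [nat_lit 1, nat_lit 0, nat_lit 2, nat_lit 0, nat_lit 2, nat_lit 1, nat_lit 0])) (.leaf ((nat_lit 94), [nat_lit 2, nat_lit 1, nat_lit 2, nat_lit 0]))) (.node (nat_lit 144) (.leaf ((nat_lit 95), [nat_lit 1, nat_lit 0, nat_lit 2, nat_lit 1])) (.leaf ((nat_lit 91), [nat_lit 0, nat_lit 2]))))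
 (.node (nat_lit 147) (.node (nat_lit 146) (.leaf ((nat_lit 5), [nat_lit 0, nat_lit 2, nat_lit 1, nat_lit 2, nat_lit 1])) (.leaf ((nat_lit 96), [nat_lit 1, nat_lit 2, nat_lit 0, nat_lit 2, nat_lit 0]))) (.node (nat_lit 148) (.leaf ((nat_lit 42), [nat_lit 1, nat_lit 2, nat_lit 1, nat_lit 2, nat_lit 1])) (.leaf ((nat_lit 59), [nat_lit 2, nat_lit 0, nat_lit 2, nat_lit 1])))))
 (.node (nat_lit 153) (.node (nat_lit 151) (.node (nat_lit 150) (.leaf ((nat_lit 79), [nat_lit 1])) (.leaf ((nat_lit 92), [nat_lit 1, nat_lit 2]))) (.node (nat_lit 152) (.leaf ((nat_lit 96), [nat_lit 1, nat_lit 2, nat_lit 1, nat_lit 0])) (.leaf ((nat_lit 5), [nat_lit 0, nat_lit 2, nat_lit 0, nat_lit 2, nat_lit 0]))))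
 (.node (nat_lit 155) (.node (nat_lit 154) (.leaf ((nat_lit 97), [nat_lit 1, nat_lit 0, nat_lit 2, nat_lit 0, nat_lit 2, nat_lit 0])) (.leaf ((nat_lit 73), [nat_lit 1, nat_lit 0, nat_lit 2, nat_lit 0, nat_lit 2, nat_lit 0]))) (.node (nat_lit 156) (.leaf ((nat_lit 66), [nat_lit 1, nat_lit 2, nat_lit 1, nat_lit 2, nat_lit 1])) (.leaf ((nat_lit 39), [nat_lit 0, nat_lit 2, nat_lit 1])))))))
 (.node (nat_lit 173) (.node (nat_lit 165) (.node (nat_lit 161) (.node (nat_lit 159) (.node (nat_lit 158) (.leaf ((nat_lit 56), [nat_lit 0, nat_lit 2, nat_lit 1, nat_lit 2, nat_lit 1, nat_lit 0])) (.leaf ((nat_lit 98), [nat_lit 0, nat_lit 2, nat_lit 1, nat_lit 2]))) (.node (nat_lit 160) (.leaf ((nat_lit 31), [nat_lit 1, nat_lit 0, nat_lit 2, nat_lit 0, nat_lit 2, nat_lit 1])) (.leaf ((nat_lit 6), [nat_lit 1, nat_lit 0, nat_lit 2, nat_lit 0, nat_lit 2, nat_lit 1, nat_lit 0]))))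
 (.node (nat_lit 163) (.node (nat_lit 162) (.leaf ((nat_lit 5), [nat_lit 1, nat_lit 0, nat_lit 2, nat_lit 1, nat_lit 0])) (.leaf ((nat_lit 6), [nat_lit 2, nat_lit 0, nat_lit 2, nat_lit 1, nat_lit 2, nat_lit 1]))) (.node (nat_lit 164) (.leaf ((nat_lit 99), [nat_lit 1, nat_lit 0, nat_lit 2, nat_lit 1, nat_lit 0])) (.leaf ((nat_lit 100), [nat_lit 1, nat_lit 2, nat_lit 0, nat_lit 2])))))
 (.node (nat_lit 169) (.node (nat_lit 167) (.node (nat_lit 166) (.leaf ((nat_lit 94), [])) (.leaf ((nat_lit 93), [nat_lit 2, nat_lit 0, nat_lit 2, nat_lit 1]))) (.node (nat_lit 168) (.leaf ((nat_lit 62), [nat_lit 1])) (.leaf ((nat_lit 99), [nat_lit 0]))))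
 (.node (nat_lit 171) (.node (nat_lit 170) (.leaf ((nat_lit 6), [nat_lit 1, nat_lit 2, nat_lit 0, nat_lit 2])) (.leaf ((nat_lit 101), [nat_lit 0]))) (.node (nat_lit 172) (.leaf ((nat_lit 37), [nat_lit 1, nat_lit 2, nat_lit 0, nat_lit 2, nat_lit 0])) (.leaf ((nat_lit 54), [nat_lit 1, nat_lit 0, nat_lit 2, nat_lit 0, nat_lit 2, nat_lit 1, nat_lit 0]))))))
 (.node (nat_lit 181) (.node (nat_lit 177) (.node (nat_lit 175) (.node (nat_lit 174) (.leaf ((nat_lit 102), [nat_lit 1, nat_lit 2, nat_lit 1, nat_lit 2, nat_lit 0])) (.leaf ((nat_lit 100), [nat_lit 1, nat_lit 0, nat_lit 2]))) (.node (nat_lit 176) (.leaf ((nat_lit 101), [nat_lit 2, nat_lit 1, nat_lit 2, nat_lit 0, nat_lit 2])) (.leaf ((nat_lit 6), [nat_lit 0, nat_lit 2, nat_lit 1, nat_lit 2, nat_lit 1]))))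
 (.node (nat_lit 179) (.node (nat_lit 178) (.leaf ((nat_lit 103), [nat_lit 1, nat_lit 0, nat_lit 2, nat_lit 0, nat_lit 2, nat_lit 0])) (.leaf ((nat_lit 104), [nat_lit 0, nat_lit 2, nat_lit 0, nat_lit 2, nat_lit 1, nat_lit 0]))) (.node (nat_lit 180) (.leaf ((nat_lit 105), [nat_lit 0, nat_lit 2, nat_lit 0, nat_lit 2, nat_lit 1, nat_lit 0])) (.leaf ((nat_lit 12), [nat_lit 0, nat_lit 2, nat_lit 0])))))
 (.node (nat_lit 185) (.node (nat_lit 183) (.node (nat_lit 182) (.leaf ((nat_lit 8), [nat_lit 1, nat_lit 2, nat_lit 1, nat_lit 2, nat_lit 1])) (.leaf ((nat_lit 7), [nat_lit 0, nat_lit 2, nat_lit 1]))) (.node (nat_lit 184) (.leaf ((nat_lit 106), [nat_lit 1, nat_lit 2, nat_lit 1, nat_lit 2])) (.leaf ((nat_lit 107), [nat_lit 1, nat_lit 0, nat_lit 2, nat_lit 0, nat_lit 2, nat_lit 1, nat_lit 0]))))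
 (.node (nat_lit 187) (.node (nat_lit 186) (.leaf ((nat_lit 108), [nat_lit 1, nat_lit 2, nat_lit 1, nat_lit 0])) (.leaf ((nat_lit 109), [nat_lit 0, nat_lit 2, nat_lit 1, nat_lit 2, nat_lit 1, nat_lit 0]))) (.node (nat_lit 188) (.leaf ((nat_lit 110), [nat_lit 2, nat_lit 1, nat_lit 2, nat_lit 0])) (.leaf ((nat_lit 111), [nat_lit 0, nat_lit 2, nat_lit 1, nat_lit 2, nat_lit 0]))))))))
 (.node (nat_lit 220) (.node (nat_lit 204) (.node (nat_lit 196) (.node (nat_lit 192) (.node (nat_lit 190) (.leaf ((nat_lit 26), [nat_lit 1, nat_lit 2, nat_lit 0, nat_lit 2, nat_lit 1, nat_lit 0])) (.node (nat_lit 191) (.leaf ((nat_lit 7), [nat_lit 1, nat_lit 0, nat_lit 2, nat_lit 1, nat_lit 2, nat_lit 1, nat_lit 0])) (.leaf ((nat_lit 31), [nat_lit 0, nat_lit 2, nat_lit 1, nat_lit 2, nat_lit 0]))))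
 (.node (nat_lit 194) (.node (nat_lit 193) (.leaf ((nat_lit 110), [nat_lit 2, nat_lit 0, nat_lit 2, nat_lit 1, nat_lit 2, nat_lit 1, nat_lit 0])) (.leaf ((nat_lit 109), [nat_lit 1, nat_lit 2, nat_lit 1, nat_lit 2, nat_lit 1]))) (.node (nat_lit 195) (.leaf ((nat_lit 112), [nat_lit 2, nat_lit 1, nat_lit 2, nat_lit 1, nat_lit 0])) (.leaf ((nat_lit 91), [nat_lit 2, nat_lit 0, nat_lit 2, nat_lit 1, nat_lit 2, nat_lit 1])))))
 (.node (nat_lit 200) (.node (nat_lit 198) (.node (nat_lit 197) (.leaf ((nat_lit 91), [nat_lit 1, nat_lit 0, nat_lit 2, nat_lit 0, nat_lit 2, nat_lit 1])) (.leaf ((nat_lit 7), [nat_lit 1, nat_lit 2, nat_lit 1, nat_lit 2, nat_lit 1, nat_lit 0]))) (.node (nat_lit 199) (.leaf ((nat_lit 113), [nat_lit 2, nat_lit 1, nat_lit 2, nat_lit 0, nat_lit 2, nat_lit 0])) (.leaf ((nat_lit 114), [nat_lit 2, nat_lit 1, nat_lit 2, nat_lit 0, nat_lit 2, nat_lit 0]))))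
 (.node (nat_lit 202) (.node (nat_lit 201) (.leaf ((nat_lit 115), [nat_lit 2, nat_lit 1, nat_lit 2, nat_lit 0, nat_lit 2])) (.leaf ((nat_lit 8), [nat_lit 1, nat_lit 0, nat_lit 2, nat_lit 0, nat_lit 2, nat_lit 1, nat_lit 0]))) (.node (nat_lit 203) (.leaf ((nat_lit 102), [nat_lit 2, nat_lit 1, nat_lit 2, nat_lit 0])) (.leaf ((nat_lit 98), [nat_lit 1, nat_lit 0, nat_lit 2, nat_lit 1]))))))
 (.node (nat_lit 212) (.node (nat_lit 208) (.node (nat_lit 206) (.node (nat_lit 205) (.leaf ((nat_lit 116), [nat_lit 2, nat_lit 0])) (.leaf ((nat_lit 117), [nat_lit 1, nat_lit 2, nat_lit 1, nat_lit 2, nat_lit 0]))) (.node (nat_lit 207) (.leaf ((nat_lit 118), [nat_lit 2, nat_lit 1, nat_lit 2, nat_lit 0, nat_lit 2, nat_lit 1])) (.leaf ((nat_lit 102), [nat_lit 1, nat_lit 0, nat_lit 2, nat_lit 0, nat_lit 2]))))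
 (.node (nat_lit 210) (.node (nat_lit 209) (.leaf ((nat_lit 8), [nat_lit 0, nat_lit 2, nat_lit 0])) (.leaf ((nat_lit 119), [nat_lit 0, nat_lit 2, nat_lit 0, nat_lit 2]))) (.node (nat_lit 211) (.leaf ((nat_lit 120), [nat_lit 0, nat_lit 2, nat_lit 1, nat_lit 0])) (.leaf ((nat_lit 121), [nat_lit 0, nat_lit 2, nat_lit 0])))))
 (.node (nat_lit 216) (.node (nat_lit 214) (.node (nat_lit 213) (.leaf ((nat_lit 122), [nat_lit 2, nat_lit 0, nat_lit 2, nat_lit 1])) (.leaf ((nat_lit 123), [nat_lit 0, nat_lit 2, nat_lit 0, nat_lit 2, nat_lit 1]))) (.node (nat_lit 215) (.leaf ((nat_lit 124), [nat_lit 0, nat_lit 2, nat_lit 0])) (.leaf ((nat_lit 8), [nat_lit 0, nat_lit 2, nat_lit 0, nat_lit 2]))))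
 (.node (nat_lit 218) (.node (nat_lit 217) (.leaf ((nat_lit 9), [nat_lit 1, nat_lit 0, nat_lit 2, nat_lit 1])) (.leaf ((nat_lit 125), [nat_lit 0, nat_lit 2, nat_lit 1, nat_lit 0]))) (.node (nat_lit 219) (.leaf ((nat_lit 126), [nat_lit 1, nat_lit 0, nat_lit 2, nat_lit 1])) (.leaf ((nat_lit 127), [nat_lit 1, nat_lit 2, nat_lit 0, nat_lit 2, nat_lit 1])))))))
 (.node (nat_lit 236) (.node (nat_lit 228) (.node (nat_lit 224) (.node (nat_lit 222) (.node (nat_lit 221) (.leaf ((nat_lit 128), [nat_lit 1])) (.leaf ((nat_lit 129), [nat_lit 2, nat_lit 0, nat_lit 2, nat_lit 1]))) (.node (nat_lit 223) (.leaf ((nat_lit 125), [nat_lit 0, nat_lit 2, nat_lit 1, nat_lit 2, nat_lit 0])) (.leaf ((nat_lit 9), [nat_lit 2, nat_lit 1]))))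
 (.node (nat_lit 226) (.node (nat_lit 225) (.leaf ((nat_lit 130), [nat_lit 2, nat_lit 0, nat_lit 2, nat_lit 1, nat_lit 0])) (.leaf ((nat_lit 28), [nat_lit 0, nat_lit 2, nat_lit 0, nat_lit 2, nat_lit 1]))) (.node (nat_lit 227) (.leaf ((nat_lit 20), [nat_lit 1, nat_lit 2, nat_lit 1, nat_lit 2, nat_lit 1])) (.leaf ((nat_lit 131), [nat_lit 1, nat_lit 0, nat_lit 2, nat_lit 0, nat_lit 2])))))
 (.node (nat_lit 232) (.node (nat_lit 230) (.node (nat_lit 229) (.leaf ((nat_lit 126), [])) (.leaf ((nat_lit 130), [nat_lit 0, nat_lit 2, nat_lit 0, nat_lit 2, nat_lit 0]))) (.node (nat_lit 231) (.leaf ((nat_lit 9), [])) (.leaf ((nat_lit 132), [nat_lit 1, nat_lit 0, nat_lit 2]))))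
 (.node (nat_lit 234) (.node (nat_lit 233) (.leaf ((nat_lit 133), [nat_lit 0, nat_lit 2, nat_lit 0, nat_lit 2])) (.leaf ((nat_lit 134), [nat_lit 1, nat_lit 0, nat_lit 2, nat_lit 1, nat_lit 2, nat_lit 1, nat_lit 0]))) (.node (nat_lit 235) (.leaf ((nat_lit 26), [nat_lit 1, nat_lit 2, nat_lit 0])) (.leaf ((nat_lit 22), [nat_lit 2, nat_lit 1, nat_lit 2]))))))
 (.node (nat_lit 244) (.node (nat_lit 240) (.node (nat_lit 238) (.node (nat_lit 237) (.leaf ((nat_lit 78), [nat_lit 2, nat_lit 1, nat_lit 2, nat_lit 1, nat_lit 0])) (.leaf ((nat_lit 10), [nat_lit 2, nat_lit 0, nat_lit 2, nat_lit 1, nat_lit 2, nat_lit 1]))) (.node (nat_lit 239) (.leaf ((nat_lit 9), [])) (.leaf ((nat_lit 135), [nat_lit 1, nat_lit 2, nat_lit 1, nat_lit 2, nat_lit 1]))))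
 (.node (nat_lit 242) (.node (nat_lit 241) (.leaf ((nat_lit 136), [nat_lit 1, nat_lit 2, nat_lit 1, nat_lit 2, nat_lit 1, nat_lit 0])) (.leaf ((nat_lit 137), [nat_lit 2, nat_lit 0, nat_lit 2, nat_lit 1, nat_lit 2, nat_lit 1]))) (.node (nat_lit 243) (.leaf ((nat_lit 16), [nat_lit 1, nat_lit 2, nat_lit 1])) (.leaf ((nat_lit 57), [])))))
 (.node (nat_lit 248) (.node (nat_lit 246) (.node (nat_lit 245) (.leaf ((nat_lit 138), [nat_lit 0, nat_lit 2, nat_lit 0, nat_lit 2, nat_lit 1, nat_lit 0])) (.leaf ((nat_lit 9), [nat_lit 2, nat_lit 0, nat_lit 2, nat_lit 1, nat_lit 2, nat_lit 1]))) (.node (nat_lit 247) (.leaf ((nat_lit 10), [nat_lit 1])) (.leaf ((nat_lit 139), [nat_lit 1, nat_lit 0, nat_lit 2, nat_lit 1]))))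
 (.node (nat_lit 250) (.node (nat_lit 249) (.leaf ((nat_lit 140), [nat_lit 2, nat_lit 1, nat_lit 2, nat_lit 0, nat_lit 2, nat_lit 0])) (.leaf ((nat_lit 119), [nat_lit 1]))) (.node (nat_lit 251) (.leaf ((nat_lit 141), [nat_lit 1, nat_lit 2, nat_lit 0, nat_lit 2, nat_lit 1])) (.leaf ((nat_lit 51), [nat_lit 1, nat_lit 2, nat_lit 0, nat_lit 2]))))))))))
noncomputable def n2Wd_1 : Tr (ℕ × List ℕ) := (.node (nat_lit 378) (.node (nat_lit 315) (.node (nat_lit 283) (.node (nat_lit 267) (.node (nat_lit 259) (.node (nat_lit 255) (.node (nat_lit 253) (.leaf ((nat_lit 139), [nat_lit 0, nat_lit 2, nat_lit 1, nat_lit 2])) (.node (nat_lit 254) (.leaf ((nat_lit 10), [nat_lit 1, nat_lit 2, nat_lit 1, nat_lit 2, nat_lit 1])) (.leaf ((nat_lit 142), [nat_lit 1, nat_lit 2, nat_lit 0]))))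
 (.node (nat_lit 257) (.node (nat_lit 256) (.leaf ((nat_lit 24), [nat_lit 1, nat_lit 2, nat_lit 1, nat_lit 2, nat_lit 1])) (.leaf ((nat_lit 110), [nat_lit 1, nat_lit 0, nat_lit 2]))) (.node (nat_lit 258) (.leaf ((nat_lit 143), [nat_lit 2, nat_lit 0, nat_lit 2, nat_lit 1, nat_lit 2, nat_lit 1, nat_lit 0])) (.leaf ((nat_lit 140), [])))))
 (.node (nat_lit 263) (.node (nat_lit 261) (.node (nat_lit 260) (.leaf ((nat_lit 142), [nat_lit 1, nat_lit 0, nat_lit 2, nat_lit 1, nat_lit 0])) (.leaf ((nat_lit 10), [nat_lit 2, nat_lit 0, nat_lit 2, nat_lit 1, nat_lit 2, nat_lit 1]))) (.node (nat_lit 262) (.leaf ((nat_lit 144), [nat_lit 2, nat_lit 0, nat_lit 2, nat_lit 1, nat_lit 2, nat_lit 1, nat_lit 0])) (.leaf ((nat_lit 118), [nat_lit 2, nat_lit 1, nat_lit 2, nat_lit 0, nat_lit 2, nat_lit 1]))))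
 (.node (nat_lit 265) (.node (nat_lit 264) (.leaf ((nat_lit 145), [nat_lit 1, nat_lit 0, nat_lit 2, nat_lit 1, nat_lit 2, nat_lit 1, nat_lit 0])) (.leaf ((nat_lit 146), [nat_lit 0, nat_lit 2, nat_lit 0, nat_lit 2]))) (.node (nat_lit 266) (.leaf ((nat_lit 147), [])) (.leaf ((nat_lit 70), [nat_lit 2, nat_lit 1, nat_lit 2, nat_lit 0, nat_lit 2, nat_lit 1, nat_lit 0]))))))
 (.node (nat_lit 275) (.node (nat_lit 271) (.node (nat_lit 269) (.node (nat_lit 268) (.leaf ((nat_lit 61), [nat_lit 2, nat_lit 0, nat_lit 2, nat_lit 1, nat_lit 2, nat_lit 1])) (.leaf ((nat_lit 148), [nat_lit 0, nat_lit 2, nat_lit 0, nat_lit 2, nat_lit 1, nat_lit 0]))) (.node (nat_lit 270) (.leaf ((nat_lit 10), [nat_lit 2, nat_lit 0, nat_lit 2, nat_lit 1, nat_lit 2, nat_lit 1])) (.leaf ((nat_lit 11), [nat_lit 1, nat_lit 2, nat_lit 0, nat_lit 2, nat_lit 1, nat_lit 0]))))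
 (.node (nat_lit 273) (.node (nat_lit 272) (.leaf ((nat_lit 149), [nat_lit 0])) (.leaf ((nat_lit 150), [nat_lit 1, nat_lit 2, nat_lit 1, nat_lit 2, nat_lit 0]))) (.node (nat_lit 274) (.leaf ((nat_lit 151), [nat_lit 1, nat_lit 0, nat_lit 2, nat_lit 0, nat_lit 2])) (.leaf ((nat_lit 152), [nat_lit 1, nat_lit 2, nat_lit 1, nat_lit 2, nat_lit 0])))))
 (.node (nat_lit 279) (.node (nat_lit 277) (.node (nat_lit 276) (.leaf ((nat_lit 110), [nat_lit 1, nat_lit 0])) (.leaf ((nat_lit 149), [nat_lit 2, nat_lit 0]))) (.node (nat_lit 278) (.leaf ((nat_lit 11), [nat_lit 2, nat_lit 0, nat_lit 2, nat_lit 1, nat_lit 2])) (.leaf ((nat_lit 153), [nat_lit 1]))))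
 (.node (nat_lit 281) (.node (nat_lit 280) (.leaf ((nat_lit 154), [nat_lit 1, nat_lit 2, nat_lit 0, nat_lit 2])) (.leaf ((nat_lit 155), [nat_lit 1]))) (.node (nat_lit 282) (.leaf ((nat_lit 69), [nat_lit 2, nat_lit 0, nat_lit 2, nat_lit 1])) (.leaf ((nat_lit 150), [nat_lit 2, nat_lit 0, nat_lit 2, nat_lit 0])))))))
 (.node (nat_lit 299) (.node (nat_lit 291) (.node (nat_lit 287) (.node (nat_lit 285) (.node (nat_lit 284) (.leaf ((nat_lit 153), [nat_lit 2, nat_lit 1, nat_lit 2, nat_lit 0, nat_lit 2, nat_lit 1, nat_lit 0])) (.leaf ((nat_lit 11), []))) (.node (nat_lit 286) (.leaf ((nat_lit 156), [nat_lit 1, nat_lit 2])) (.leaf ((nat_lit 147), [nat_lit 0]))))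
 (.node (nat_lit 289) (.node (nat_lit 288) (.leaf ((nat_lit 157), [])) (.leaf ((nat_lit 156), [nat_lit 1, nat_lit 0]))) (.node (nat_lit 290) (.leaf ((nat_lit 158), [nat_lit 0, nat_lit 2, nat_lit 0])) (.leaf ((nat_lit 159), [nat_lit 1, nat_lit 0, nat_lit 2, nat_lit 1, nat_lit 0])))))
 (.node (nat_lit 295) (.node (nat_lit 293) (.node (nat_lit 292) (.leaf ((nat_lit 11), [nat_lit 2, nat_lit 1, nat_lit 0])) (.leaf ((nat_lit 160), []))) (.node (nat_lit 294) (.leaf ((nat_lit 161), [nat_lit 1, nat_lit 2, nat_lit 1, nat_lit 2, nat_lit 1])) (.leaf ((nat_lit 162), [nat_lit 1, nat_lit 2, nat_lit 1]))))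
 (.node (nat_lit 297) (.node (nat_lit 296) (.leaf ((nat_lit 163), [nat_lit 1, nat_lit 0, nat_lit 2, nat_lit 1, nat_lit 2, nat_lit 0])) (.leaf ((nat_lit 164), [nat_lit 2, nat_lit 1, nat_lit 2, nat_lit 0, nat_lit 2, nat_lit 0]))) (.node (nat_lit 298) (.leaf ((nat_lit 160), [nat_lit 1, nat_lit 2, nat_lit 1, nat_lit 2, nat_lit 1])) (.leaf ((nat_lit 11), [nat_lit 2, nat_lit 0, nat_lit 2, nat_lit 1, nat_lit 2, nat_lit 1]))))))
 (.node (nat_lit 307) (.node (nat_lit 303) (.node (nat_lit 301) (.node (nat_lit 300) (.leaf ((nat_lit 165), [nat_lit 2, nat_lit 1, nat_lit 2, nat_lit 0, nat_lit 2, nat_lit 1, nat_lit 0])) (.leaf ((nat_lit 166), [nat_lit 1, nat_lit 2, nat_lit 0, nat_lit 2, nat_lit 1, nat_lit 0]))) (.node (nat_lit 302) (.leaf ((nat_lit 167), [nat_lit 1])) (.leaf ((nat_lit 168), [nat_lit 2, nat_lit 1]))))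
 (.node (nat_lit 305) (.node (nat_lit 304) (.leaf ((nat_lit 12), [nat_lit 1, nat_lit 2, nat_lit 0, nat_lit 2])) (.leaf ((nat_lit 169), [nat_lit 2, nat_lit 0, nat_lit 2, nat_lit 1]))) (.node (nat_lit 306) (.leaf ((nat_lit 111), [nat_lit 1])) (.leaf ((nat_lit 170), [nat_lit 1, nat_lit 0, nat_lit 2, nat_lit 1])))))
 (.node (nat_lit 311) (.node (nat_lit 309) (.node (nat_lit 308) (.leaf ((nat_lit 145), [nat_lit 1, nat_lit 0, nat_lit 2, nat_lit 1, nat_lit 2])) (.leaf ((nat_lit 171), [nat_lit 1, nat_lit 0, nat_lit 2, nat_lit 1, nat_lit 2, nat_lit 1, nat_lit 0]))) (.node (nat_lit 310) (.leaf ((nat_lit 169), [nat_lit 1, nat_lit 2, nat_lit 0, nat_lit 2, nat_lit 1])) (.leaf ((nat_lit 12), [nat_lit 1]))))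
 (.node (nat_lit 313) (.node (nat_lit 312) (.leaf ((nat_lit 41), [nat_lit 2, nat_lit 0, nat_lit 2, nat_lit 1])) (.leaf ((nat_lit 172), [nat_lit 1, nat_lit 0, nat_lit 2, nat_lit 0, nat_lit 2, nat_lit 0]))) (.node (nat_lit 314) (.leaf ((nat_lit 173), [nat_lit 1, nat_lit 2, nat_lit 0, nat_lit 2, nat_lit 1, nat_lit 0])) (.leaf ((nat_lit 174), [nat_lit 1, nat_lit 2, nat_lit 0]))))))))
 (.node (nat_lit 346) (.node (nat_lit 330) (.node (nat_lit 322) (.node (nat_lit 318) (.node (nat_lit 316) (.leaf ((nat_lit 175), [])) (.node (nat_lit 317) (.leaf ((nat_lit 176), [nat_lit 1, nat_lit 2, nat_lit 0, nat_lit 2, nat_lit 1])) (.leaf ((nat_lit 12), [nat_lit 1, nat_lit 2, nat_lit 0, nat_lit 2]))))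
 (.node (nat_lit 320) (.node (nat_lit 319) (.leaf ((nat_lit 13), [nat_lit 2])) (.leaf ((nat_lit 177), [nat_lit 1, nat_lit 2, nat_lit 0, nat_lit 2, nat_lit 0]))) (.node (nat_lit 321) (.leaf ((nat_lit 178), [nat_lit 0, nat_lit 2, nat_lit 1, nat_lit 2, nat_lit 1, nat_lit 0])) (.leaf ((nat_lit 141), [nat_lit 0, nat_lit 2, nat_lit 0])))))
 (.node (nat_lit 326) (.node (nat_lit 324) (.node (nat_lit 323) (.leaf ((nat_lit 119), [nat_lit 2, nat_lit 1, nat_lit 2, nat_lit 1])) (.leaf ((nat_lit 179), [nat_lit 1, nat_lit 0, nat_lit 2, nat_lit 0]))) (.node (nat_lit 325) (.leaf ((nat_lit 177), [nat_lit 1, nat_lit 0, nat_lit 2, nat_lit 1])) (.leaf ((nat_lit 13), [nat_lit 0, nat_lit 2, nat_lit 1, nat_lit 0]))))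
 (.node (nat_lit 328) (.node (nat_lit 327) (.leaf ((nat_lit 180), [nat_lit 1, nat_lit 0, nat_lit 2, nat_lit 1])) (.leaf ((nat_lit 20), [nat_lit 2, nat_lit 0, nat_lit 2, nat_lit 1]))) (.node (nat_lit 329) (.leaf ((nat_lit 28), [nat_lit 1, nat_lit 0, nat_lit 2, nat_lit 0, nat_lit 2, nat_lit 1, nat_lit 0])) (.leaf ((nat_lit 181), [nat_lit 1, nat_lit 0, nat_lit 2, nat_lit 0, nat_lit 2, nat_lit 0]))))))
 (.node (nat_lit 338) (.node (nat_lit 334) (.node (nat_lit 332) (.node (nat_lit 331) (.leaf ((nat_lit 178), [nat_lit 2, nat_lit 1, nat_lit 2, nat_lit 0, nat_lit 2, nat_lit 1, nat_lit 0])) (.leaf ((nat_lit 180), [nat_lit 1, nat_lit 2, nat_lit 1, nat_lit 2, nat_lit 1]))) (.node (nat_lit 333) (.leaf ((nat_lit 13), [nat_lit 2, nat_lit 1, nat_lit 2, nat_lit 0])) (.leaf ((nat_lit 182), [nat_lit 2, nat_lit 1]))))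
 (.node (nat_lit 336) (.node (nat_lit 335) (.leaf ((nat_lit 183), [nat_lit 0, nat_lit 2, nat_lit 0, nat_lit 2, nat_lit 0])) (.leaf ((nat_lit 158), [nat_lit 2, nat_lit 1, nat_lit 2, nat_lit 1]))) (.node (nat_lit 337) (.leaf ((nat_lit 22), [nat_lit 1, nat_lit 0, nat_lit 2, nat_lit 0, nat_lit 2, nat_lit 1])) (.leaf ((nat_lit 26), [nat_lit 1, nat_lit 0, nat_lit 2, nat_lit 1, nat_lit 2, nat_lit 0])))))
 (.node (nat_lit 342) (.node (nat_lit 340) (.node (nat_lit 339) (.leaf ((nat_lit 184), [nat_lit 0, nat_lit 2, nat_lit 0, nat_lit 2])) (.leaf ((nat_lit 14), [nat_lit 1, nat_lit 2, nat_lit 1, nat_lit 2, nat_lit 1]))) (.node (nat_lit 341) (.leaf ((nat_lit 13), [nat_lit 0, nat_lit 2, nat_lit 1, nat_lit 2])) (.leaf ((nat_lit 185), [nat_lit 0, nat_lit 2, nat_lit 0]))))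
 (.node (nat_lit 344) (.node (nat_lit 343) (.leaf ((nat_lit 186), [nat_lit 2])) (.leaf ((nat_lit 182), [nat_lit 0, nat_lit 2, nat_lit 1, nat_lit 2, nat_lit 1]))) (.node (nat_lit 345) (.leaf ((nat_lit 87), [nat_lit 1, nat_lit 0, nat_lit 2, nat_lit 1])) (.leaf ((nat_lit 40), [])))))))
 (.node (nat_lit 362) (.node (nat_lit 354) (.node (nat_lit 350) (.node (nat_lit 348) (.node (nat_lit 347) (.leaf ((nat_lit 187), [nat_lit 0, nat_lit 2, nat_lit 0])) (.leaf ((nat_lit 13), [nat_lit 0, nat_lit 2, nat_lit 1, nat_lit 2]))) (.node (nat_lit 349) (.leaf ((nat_lit 14), [nat_lit 0, nat_lit 2, nat_lit 1, nat_lit 2, nat_lit 1, nat_lit 0])) (.leaf ((nat_lit 161), [nat_lit 2, nat_lit 1, nat_lit 2, nat_lit 0, nat_lit 2]))))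
 (.node (nat_lit 352) (.node (nat_lit 351) (.leaf ((nat_lit 188), [nat_lit 2, nat_lit 1, nat_lit 2, nat_lit 1])) (.leaf ((nat_lit 128), [nat_lit 2, nat_lit 1, nat_lit 2, nat_lit 1]))) (.node (nat_lit 353) (.leaf ((nat_lit 127), [nat_lit 0, nat_lit 2, nat_lit 0])) (.leaf ((nat_lit 189), [nat_lit 0, nat_lit 2, nat_lit 0, nat_lit 2])))))
 (.node (nat_lit 358) (.node (nat_lit 356) (.node (nat_lit 355) (.leaf ((nat_lit 161), [nat_lit 2, nat_lit 0])) (.leaf ((nat_lit 14), [nat_lit 2, nat_lit 0, nat_lit 2, nat_lit 1, nat_lit 2]))) (.node (nat_lit 357) (.leaf ((nat_lit 190), [nat_lit 2, nat_lit 1, nat_lit 2, nat_lit 0, nat_lit 2, nat_lit 0])) (.leaf ((nat_lit 110), [nat_lit 1, nat_lit 0, nat_lit 2, nat_lit 0, nat_lit 2, nat_lit 1, nat_lit 0]))))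
 (.node (nat_lit 360) (.node (nat_lit 359) (.leaf ((nat_lit 24), [nat_lit 1, nat_lit 2, nat_lit 0, nat_lit 2])) (.leaf ((nat_lit 191), [nat_lit 1]))) (.node (nat_lit 361) (.leaf ((nat_lit 188), [nat_lit 2, nat_lit 0, nat_lit 2, nat_lit 1, nat_lit 2, nat_lit 1])) (.leaf ((nat_lit 190), [nat_lit 1, nat_lit 2, nat_lit 1, nat_lit 2, nat_lit 1]))))))
 (.node (nat_lit 370) (.node (nat_lit 366) (.node (nat_lit 364) (.node (nat_lit 363) (.leaf ((nat_lit 14), [nat_lit 1, nat_lit 0, nat_lit 2, nat_lit 0, nat_lit 2, nat_lit 0])) (.leaf ((nat_lit 192), [nat_lit 2, nat_lit 0, nat_lit 2, nat_lit 1, nat_lit 0]))) (.node (nat_lit 365) (.leaf ((nat_lit 171), [nat_lit 1, nat_lit 0, nat_lit 2, nat_lit 1, nat_lit 0])) (.leaf ((nat_lit 193), [nat_lit 1, nat_lit 2, nat_lit 0, nat_lit 2, nat_lit 1]))))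
 (.node (nat_lit 368) (.node (nat_lit 367) (.leaf ((nat_lit 194), [nat_lit 2, nat_lit 0, nat_lit 2, nat_lit 1])) (.leaf ((nat_lit 192), [nat_lit 1, nat_lit 0, nat_lit 2, nat_lit 1, nat_lit 2, nat_lit 1, nat_lit 0]))) (.node (nat_lit 369) (.leaf ((nat_lit 195), [nat_lit 0, nat_lit 2, nat_lit 0, nat_lit 2, nat_lit 1, nat_lit 0])) (.leaf ((nat_lit 44), [nat_lit 2, nat_lit 1, nat_lit 2, nat_lit 0, nat_lit 2, nat_lit 1, nat_lit 0])))))
 (.node (nat_lit 374) (.node (nat_lit 372) (.node (nat_lit 371) (.leaf ((nat_lit 196), [nat_lit 1, nat_lit 0, nat_lit 2, nat_lit 0, nat_lit 2, nat_lit 0])) (.leaf ((nat_lit 14), [nat_lit 2, nat_lit 1, nat_lit 0]))) (.node (nat_lit 373) (.leaf ((nat_lit 15), [nat_lit 1])) (.leaf ((nat_lit 197), [nat_lit 1, nat_lit 0, nat_lit 2, nat_lit 1]))))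
 (.node (nat_lit 376) (.node (nat_lit 375) (.leaf ((nat_lit 198), [nat_lit 1, nat_lit 0])) (.leaf ((nat_lit 179), [nat_lit 1]))) (.node (nat_lit 377) (.leaf ((nat_lit 199), [nat_lit 2, nat_lit 0, nat_lit 2, nat_lit 1])) (.leaf ((nat_lit 27), [nat_lit 1])))))))))
 (.node (nat_lit 441) (.node (nat_lit 409) (.node (nat_lit 393) (.node (nat_lit 385) (.node (nat_lit 381) (.node (nat_lit 379) (.leaf ((nat_lit 197), [nat_lit 1, nat_lit 2, nat_lit 0, nat_lit 2, nat_lit 0])) (.node (nat_lit 380) (.leaf ((nat_lit 15), [nat_lit 0, nat_lit 2, nat_lit 0, nat_lit 2])) (.leaf ((nat_lit 200), [nat_lit 1, nat_lit 2, nat_lit 0, nat_lit 2, nat_lit 1]))))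
 (.node (nat_lit 383) (.node (nat_lit 382) (.leaf ((nat_lit 88), [nat_lit 0, nat_lit 2, nat_lit 0, nat_lit 2, nat_lit 1])) (.leaf ((nat_lit 87), [nat_lit 2, nat_lit 1, nat_lit 2, nat_lit 1]))) (.node (nat_lit 384) (.leaf ((nat_lit 201), [nat_lit 1, nat_lit 0, nat_lit 2, nat_lit 0])) (.leaf ((nat_lit 198), [nat_lit 1, nat_lit 2, nat_lit 0, nat_lit 2, nat_lit 0])))))
 (.node (nat_lit 389) (.node (nat_lit 387) (.node (nat_lit 386) (.leaf ((nat_lit 200), [nat_lit 0])) (.leaf ((nat_lit 15), [nat_lit 1, nat_lit 0, nat_lit 2, nat_lit 0, nat_lit 2, nat_lit 0]))) (.node (nat_lit 388) (.leaf ((nat_lit 133), [nat_lit 1, nat_lit 2, nat_lit 0])) (.leaf ((nat_lit 132), [nat_lit 0, nat_lit 2, nat_lit 1]))))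
 (.node (nat_lit 391) (.node (nat_lit 390) (.leaf ((nat_lit 202), [nat_lit 1, nat_lit 2, nat_lit 1])) (.leaf ((nat_lit 171), [nat_lit 2, nat_lit 1, nat_lit 2, nat_lit 0]))) (.node (nat_lit 392) (.leaf ((nat_lit 203), [nat_lit 1, nat_lit 2, nat_lit 1])) (.leaf ((nat_lit 170), [nat_lit 1, nat_lit 2]))))))
 (.node (nat_lit 401) (.node (nat_lit 397) (.node (nat_lit 395) (.node (nat_lit 394) (.leaf ((nat_lit 15), [nat_lit 1, nat_lit 0, nat_lit 2])) (.leaf ((nat_lit 204), [nat_lit 2, nat_lit 1, nat_lit 2, nat_lit 0]))) (.node (nat_lit 396) (.leaf ((nat_lit 139), [nat_lit 1, nat_lit 2, nat_lit 0, nat_lit 2, nat_lit 1])) (.leaf ((nat_lit 205), [nat_lit 1, nat_lit 0, nat_lit 2, nat_lit 0, nat_lit 2, nat_lit 0]))))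
 (.node (nat_lit 399) (.node (nat_lit 398) (.leaf ((nat_lit 206), [nat_lit 1, nat_lit 2, nat_lit 0, nat_lit 2])) (.leaf ((nat_lit 207), [nat_lit 2, nat_lit 1, nat_lit 2, nat_lit 0, nat_lit 2]))) (.node (nat_lit 400) (.leaf ((nat_lit 204), [nat_lit 2, nat_lit 1, nat_lit 2, nat_lit 0, nat_lit 2, nat_lit 1, nat_lit 0])) (.leaf ((nat_lit 15), [])))))
 (.node (nat_lit 405) (.node (nat_lit 403) (.node (nat_lit 402) (.leaf ((nat_lit 25), [nat_lit 1, nat_lit 2, nat_lit 1, nat_lit 2, nat_lit 1])) (.leaf ((nat_lit 16), [nat_lit 1]))) (.node (nat_lit 404) (.leaf ((nat_lit 131), [nat_lit 1])) (.leaf ((nat_lit 136), [nat_lit 2, nat_lit 1, nat_lit 2, nat_lit 0, nat_lit 2, nat_lit 1, nat_lit 0]))))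
 (.node (nat_lit 407) (.node (nat_lit 406) (.leaf ((nat_lit 208), [nat_lit 2, nat_lit 1, nat_lit 2, nat_lit 1, nat_lit 0])) (.leaf ((nat_lit 209), [nat_lit 1, nat_lit 2, nat_lit 0, nat_lit 2]))) (.node (nat_lit 408) (.leaf ((nat_lit 126), [nat_lit 1, nat_lit 2, nat_lit 1, nat_lit 2, nat_lit 1, nat_lit 0])) (.leaf ((nat_lit 131), [nat_lit 2, nat_lit 1, nat_lit 2, nat_lit 1, nat_lit 0])))))))
 (.node (nat_lit 425) (.node (nat_lit 417) (.node (nat_lit 413) (.node (nat_lit 411) (.node (nat_lit 410) (.leaf ((nat_lit 16), [nat_lit 2, nat_lit 1, nat_lit 2, nat_lit 1, nat_lit 0])) (.leaf ((nat_lit 137), [nat_lit 1, nat_lit 0, nat_lit 2]))) (.node (nat_lit 412) (.leaf ((nat_lit 167), [nat_lit 1, nat_lit 2, nat_lit 0, nat_lit 2, nat_lit 1, nat_lit 0])) (.leaf ((nat_lit 167), [nat_lit 0]))))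
 (.node (nat_lit 415) (.node (nat_lit 414) (.leaf ((nat_lit 146), [nat_lit 2, nat_lit 0, nat_lit 2, nat_lit 1])) (.leaf ((nat_lit 201), [nat_lit 1, nat_lit 0]))) (.node (nat_lit 416) (.leaf ((nat_lit 169), [nat_lit 0])) (.leaf ((nat_lit 210), [nat_lit 2, nat_lit 1, nat_lit 2, nat_lit 0, nat_lit 2, nat_lit 1])))))
 (.node (nat_lit 421) (.node (nat_lit 419) (.node (nat_lit 418) (.leaf ((nat_lit 17), [nat_lit 2, nat_lit 0, nat_lit 2, nat_lit 1])) (.leaf ((nat_lit 16), [nat_lit 1, nat_lit 2, nat_lit 0, nat_lit 2, nat_lit 1]))) (.node (nat_lit 420) (.leaf ((nat_lit 46), [nat_lit 1, nat_lit 2, nat_lit 0, nat_lit 2])) (.leaf ((nat_lit 211), [nat_lit 1, nat_lit 0, nat_lit 2, nat_lit 1, nat_lit 2, nat_lit 1]))))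
 (.node (nat_lit 423) (.node (nat_lit 422) (.leaf ((nat_lit 212), [nat_lit 0, nat_lit 2, nat_lit 0])) (.leaf ((nat_lit 44), [nat_lit 2, nat_lit 0, nat_lit 2, nat_lit 1, nat_lit 2, nat_lit 1]))) (.node (nat_lit 424) (.leaf ((nat_lit 98), [nat_lit 1, nat_lit 2, nat_lit 0, nat_lit 2, nat_lit 1])) (.leaf ((nat_lit 213), [nat_lit 1]))))))
 (.node (nat_lit 433) (.node (nat_lit 429) (.node (nat_lit 427) (.node (nat_lit 426) (.leaf ((nat_lit 16), [nat_lit 2, nat_lit 0, nat_lit 2, nat_lit 1])) (.leaf ((nat_lit 17), [nat_lit 1, nat_lit 0, nat_lit 2, nat_lit 0, nat_lit 2]))) (.node (nat_lit 428) (.leaf ((nat_lit 214), [nat_lit 0, nat_lit 2, nat_lit 0])) (.leaf ((nat_lit 215), [nat_lit 2, nat_lit 0]))))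
 (.node (nat_lit 431) (.node (nat_lit 430) (.leaf ((nat_lit 216), [nat_lit 0, nat_lit 2, nat_lit 1, nat_lit 2, nat_lit 1])) (.leaf ((nat_lit 217), [nat_lit 0, nat_lit 2, nat_lit 0, nat_lit 2, nat_lit 0]))) (.node (nat_lit 432) (.leaf ((nat_lit 198), [nat_lit 2, nat_lit 1, nat_lit 0])) (.leaf ((nat_lit 214), [nat_lit 0, nat_lit 2])))))
 (.node (nat_lit 437) (.node (nat_lit 435) (.node (nat_lit 434) (.leaf ((nat_lit 17), [nat_lit 1, nat_lit 0, nat_lit 2, nat_lit 0, nat_lit 2, nat_lit 0])) (.leaf ((nat_lit 218), [nat_lit 2, nat_lit 1, nat_lit 2, nat_lit 1]))) (.node (nat_lit 436) (.leaf ((nat_lit 145), [nat_lit 1, nat_lit 2])) (.leaf ((nat_lit 145), [nat_lit 1, nat_lit 2, nat_lit 0, nat_lit 2, nat_lit 0]))))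
 (.node (nat_lit 439) (.node (nat_lit 438) (.leaf ((nat_lit 219), [nat_lit 1, nat_lit 2, nat_lit 0, nat_lit 2, nat_lit 1])) (.leaf ((nat_lit 215), [nat_lit 2, nat_lit 0, nat_lit 2]))) (.node (nat_lit 440) (.leaf ((nat_lit 218), [nat_lit 2, nat_lit 0, nat_lit 2, nat_lit 1, nat_lit 0])) (.leaf ((nat_lit 17), [nat_lit 1, nat_lit 0, nat_lit 2, nat_lit 0]))))))))
 (.node (nat_lit 472) (.node (nat_lit 456) (.node (nat_lit 448) (.node (nat_lit 444) (.node (nat_lit 442) (.leaf ((nat_lit 220), [nat_lit 2, nat_lit 0, nat_lit 2, nat_lit 1, nat_lit 2, nat_lit 1])) (.node (nat_lit 443) (.leaf ((nat_lit 25), [nat_lit 0, nat_lit 2, nat_lit 0, nat_lit 2, nat_lit 1, nat_lit 0])) (.leaf ((nat_lit 196), [nat_lit 0, nat_lit 2, nat_lit 1, nat_lit 2]))))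
 (.node (nat_lit 446) (.node (nat_lit 445) (.leaf ((nat_lit 77), [nat_lit 1, nat_lit 0, nat_lit 2, nat_lit 1, nat_lit 0])) (.leaf ((nat_lit 221), [nat_lit 1, nat_lit 0, nat_lit 2, nat_lit 1, nat_lit 2]))) (.node (nat_lit 447) (.leaf ((nat_lit 75), [nat_lit 1, nat_lit 0, nat_lit 2, nat_lit 1, nat_lit 0])) (.leaf ((nat_lit 222), [nat_lit 1])))))
 (.node (nat_lit 452) (.node (nat_lit 450) (.node (nat_lit 449) (.leaf ((nat_lit 191), [nat_lit 1, nat_lit 2, nat_lit 0, nat_lit 2])) (.leaf ((nat_lit 17), [nat_lit 2, nat_lit 0, nat_lit 2]))) (.node (nat_lit 451) (.leaf ((nat_lit 18), [nat_lit 1, nat_lit 2, nat_lit 0, nat_lit 2, nat_lit 1])) (.leaf ((nat_lit 223), [nat_lit 1, nat_lit 2, nat_lit 1, nat_lit 2]))))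
 (.node (nat_lit 454) (.node (nat_lit 453) (.leaf ((nat_lit 74), [nat_lit 1, nat_lit 0, nat_lit 2, nat_lit 1, nat_lit 0])) (.leaf ((nat_lit 224), []))) (.node (nat_lit 455) (.leaf ((nat_lit 225), [nat_lit 0, nat_lit 2, nat_lit 1, nat_lit 0])) (.leaf ((nat_lit 75), [nat_lit 1, nat_lit 2, nat_lit 1, nat_lit 2, nat_lit 1]))))))
 (.node (nat_lit 464) (.node (nat_lit 460) (.node (nat_lit 458) (.node (nat_lit 457) (.leaf ((nat_lit 223), [nat_lit 1, nat_lit 2, nat_lit 1, nat_lit 2])) (.leaf ((nat_lit 18), [nat_lit 1, nat_lit 2, nat_lit 0, nat_lit 2, nat_lit 1]))) (.node (nat_lit 459) (.leaf ((nat_lit 152), [nat_lit 1, nat_lit 0, nat_lit 2, nat_lit 1])) (.leaf ((nat_lit 226), [nat_lit 1, nat_lit 0, nat_lit 2, nat_lit 0, nat_lit 2]))))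
 (.node (nat_lit 462) (.node (nat_lit 461) (.leaf ((nat_lit 226), [nat_lit 1, nat_lit 0, nat_lit 2, nat_lit 0, nat_lit 2, nat_lit 1])) (.leaf ((nat_lit 225), [nat_lit 1, nat_lit 2, nat_lit 0]))) (.node (nat_lit 463) (.leaf ((nat_lit 74), [nat_lit 1, nat_lit 0, nat_lit 2, nat_lit 1, nat_lit 0])) (.leaf ((nat_lit 152), [nat_lit 1, nat_lit 0, nat_lit 2, nat_lit 1])))))
 (.node (nat_lit 468) (.node (nat_lit 466) (.node (nat_lit 465) (.leaf ((nat_lit 18), [nat_lit 1, nat_lit 2, nat_lit 0, nat_lit 2, nat_lit 1])) (.leaf ((nat_lit 194), [nat_lit 0, nat_lit 2, nat_lit 0, nat_lit 2]))) (.node (nat_lit 467) (.leaf ((nat_lit 136), [nat_lit 2, nat_lit 0, nat_lit 2, nat_lit 0])) (.leaf ((nat_lit 153), [nat_lit 1, nat_lit 0, nat_lit 2, nat_lit 0, nat_lit 2, nat_lit 0]))))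
 (.node (nat_lit 470) (.node (nat_lit 469) (.leaf ((nat_lit 98), [nat_lit 1, nat_lit 0])) (.leaf ((nat_lit 90), [nat_lit 0]))) (.node (nat_lit 471) (.leaf ((nat_lit 39), [nat_lit 1, nat_lit 0, nat_lit 2, nat_lit 1, nat_lit 2])) (.leaf ((nat_lit 18), [nat_lit 1, nat_lit 2, nat_lit 0, nat_lit 2])))))))
 (.node (nat_lit 488) (.node (nat_lit 480) (.node (nat_lit 476) (.node (nat_lit 474) (.node (nat_lit 473) (.leaf ((nat_lit 227), [nat_lit 0, nat_lit 2, nat_lit 0])) (.leaf ((nat_lit 228), [nat_lit 0, nat_lit 2, nat_lit 1, nat_lit 0]))) (.node (nat_lit 475) (.leaf ((nat_lit 84), [nat_lit 0, nat_lit 2, nat_lit 0])) (.leaf ((nat_lit 229), [nat_lit 1, nat_lit 2, nat_lit 1, nat_lit 2, nat_lit 1]))))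
 (.node (nat_lit 478) (.node (nat_lit 477) (.leaf ((nat_lit 209), [nat_lit 1, nat_lit 0, nat_lit 2, nat_lit 1])) (.leaf ((nat_lit 227), [nat_lit 1, nat_lit 2, nat_lit 1, nat_lit 2]))) (.node (nat_lit 479) (.leaf ((nat_lit 18), [nat_lit 2, nat_lit 0, nat_lit 2, nat_lit 1])) (.leaf ((nat_lit 24), [nat_lit 1])))))
 (.node (nat_lit 484) (.node (nat_lit 482) (.node (nat_lit 481) (.leaf ((nat_lit 20), [nat_lit 1, nat_lit 2, nat_lit 0, nat_lit 2, nat_lit 1])) (.leaf ((nat_lit 19), [nat_lit 1, nat_lit 0, nat_lit 2, nat_lit 0, nat_lit 2, nat_lit 1, nat_lit 0]))) (.node (nat_lit 483) (.leaf ((nat_lit 230), [nat_lit 2, nat_lit 0, nat_lit 2])) (.leaf ((nat_lit 99), [nat_lit 2, nat_lit 1, nat_lit 2, nat_lit 0, nat_lit 2, nat_lit 1, nat_lit 0]))))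
 (.node (nat_lit 486) (.node (nat_lit 485) (.leaf ((nat_lit 99), [nat_lit 1, nat_lit 2, nat_lit 1])) (.leaf ((nat_lit 22), [nat_lit 2, nat_lit 1, nat_lit 2, nat_lit 0, nat_lit 2, nat_lit 0]))) (.node (nat_lit 487) (.leaf ((nat_lit 21), [nat_lit 1])) (.leaf ((nat_lit 230), [nat_lit 1, nat_lit 2, nat_lit 1, nat_lit 2, nat_lit 1]))))))
 (.node (nat_lit 496) (.node (nat_lit 492) (.node (nat_lit 490) (.node (nat_lit 489) (.leaf ((nat_lit 19), [nat_lit 1, nat_lit 0])) (.leaf ((nat_lit 105), [nat_lit 2, nat_lit 0, nat_lit 2, nat_lit 1, nat_lit 2, nat_lit 1]))) (.node (nat_lit 491) (.leaf ((nat_lit 231), [nat_lit 1, nat_lit 2, nat_lit 0, nat_lit 2, nat_lit 1])) (.leaf ((nat_lit 232), [nat_lit 2, nat_lit 1, nat_lit 2, nat_lit 0]))))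
 (.node (nat_lit 494) (.node (nat_lit 493) (.leaf ((nat_lit 127), [nat_lit 1, nat_lit 0])) (.leaf ((nat_lit 94), [nat_lit 0]))) (.node (nat_lit 495) (.leaf ((nat_lit 208), [nat_lit 2, nat_lit 1, nat_lit 2, nat_lit 0, nat_lit 2, nat_lit 0])) (.leaf ((nat_lit 19), [nat_lit 1, nat_lit 2, nat_lit 0])))))
 (.node (nat_lit 500) (.node (nat_lit 498) (.node (nat_lit 497) (.leaf ((nat_lit 109), [])) (.leaf ((nat_lit 233), [nat_lit 2, nat_lit 0, nat_lit 2]))) (.node (nat_lit 499) (.leaf ((nat_lit 119), [nat_lit 0, nat_lit 2, nat_lit 0])) (.leaf ((nat_lit 93), [nat_lit 1, nat_lit 2, nat_lit 1, nat_lit 2, nat_lit 1]))))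
 (.node (nat_lit 502) (.node (nat_lit 501) (.leaf ((nat_lit 234), [nat_lit 0, nat_lit 2, nat_lit 0, nat_lit 2, nat_lit 1])) (.leaf ((nat_lit 109), [nat_lit 1, nat_lit 2, nat_lit 0, nat_lit 2]))) (.node (nat_lit 503) (.leaf ((nat_lit 19), [nat_lit 0, nat_lit 2, nat_lit 1, nat_lit 2])) (.leaf ((nat_lit 235), [nat_lit 1, nat_lit 2, nat_lit 1, nat_lit 0]))))))))))
noncomputable def n2Wd_2 : Tr (ℕ × List ℕ) := (.node (nat_lit 630) (.node (nat_lit 567) (.node (nat_lit 535) (.node (nat_lit 519) (.node (nat_lit 511) (.node (nat_lit 507) (.node (nat_lit 505) (.leaf ((nat_lit 79), [nat_lit 0, nat_lit 2, nat_lit 0])) (.node (nat_lit 506) (.leaf ((nat_lit 213), [nat_lit 1, nat_lit 2, nat_lit 1, nat_lit 2, nat_lit 1])) (.leaf ((nat_lit 236), [nat_lit 1, nat_lit 2, nat_lit 1, nat_lit 0]))))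
 (.node (nat_lit 509) (.node (nat_lit 508) (.leaf ((nat_lit 129), [nat_lit 1])) (.leaf ((nat_lit 89), [nat_lit 1, nat_lit 0, nat_lit 2, nat_lit 0, nat_lit 2, nat_lit 1, nat_lit 0]))) (.node (nat_lit 510) (.leaf ((nat_lit 19), [nat_lit 1, nat_lit 2, nat_lit 1, nat_lit 0])) (.leaf ((nat_lit 230), [nat_lit 1, nat_lit 0, nat_lit 2])))))
 (.node (nat_lit 515) (.node (nat_lit 513) (.node (nat_lit 512) (.leaf ((nat_lit 21), [nat_lit 2, nat_lit 1, nat_lit 2, nat_lit 0, nat_lit 2])) (.leaf ((nat_lit 20), [nat_lit 0, nat_lit 2, nat_lit 0, nat_lit 2, nat_lit 0]))) (.node (nat_lit 514) (.leaf ((nat_lit 237), [nat_lit 1, nat_lit 2, nat_lit 1, nat_lit 2, nat_lit 1])) (.leaf ((nat_lit 238), [nat_lit 2, nat_lit 1, nat_lit 0]))))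
 (.node (nat_lit 517) (.node (nat_lit 516) (.leaf ((nat_lit 239), [nat_lit 2, nat_lit 1, nat_lit 2, nat_lit 0])) (.leaf ((nat_lit 135), [nat_lit 1, nat_lit 2, nat_lit 0, nat_lit 2, nat_lit 1]))) (.node (nat_lit 518) (.leaf ((nat_lit 240), [nat_lit 2, nat_lit 0, nat_lit 2, nat_lit 1, nat_lit 2, nat_lit 1])) (.leaf ((nat_lit 241), [nat_lit 1, nat_lit 2, nat_lit 0, nat_lit 2, nat_lit 0]))))))
 (.node (nat_lit 527) (.node (nat_lit 523) (.node (nat_lit 521) (.node (nat_lit 520) (.leaf ((nat_lit 242), [nat_lit 1, nat_lit 0, nat_lit 2, nat_lit 0, nat_lit 2])) (.leaf ((nat_lit 243), [nat_lit 1, nat_lit 2, nat_lit 1, nat_lit 2, nat_lit 1]))) (.node (nat_lit 522) (.leaf ((nat_lit 20), [nat_lit 0, nat_lit 2, nat_lit 0])) (.leaf ((nat_lit 132), [nat_lit 1, nat_lit 0, nat_lit 2, nat_lit 1, nat_lit 0]))))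
 (.node (nat_lit 525) (.node (nat_lit 524) (.leaf ((nat_lit 244), [nat_lit 0, nat_lit 2, nat_lit 0])) (.leaf ((nat_lit 57), [nat_lit 1, nat_lit 2, nat_lit 1, nat_lit 0]))) (.node (nat_lit 526) (.leaf ((nat_lit 21), [nat_lit 1])) (.leaf ((nat_lit 63), [nat_lit 1, nat_lit 2, nat_lit 1, nat_lit 2])))))
 (.node (nat_lit 531) (.node (nat_lit 529) (.node (nat_lit 528) (.leaf ((nat_lit 245), [nat_lit 0, nat_lit 2, nat_lit 1, nat_lit 0])) (.leaf ((nat_lit 202), [nat_lit 2, nat_lit 1, nat_lit 2, nat_lit 0, nat_lit 2, nat_lit 1]))) (.node (nat_lit 530) (.leaf ((nat_lit 246), [nat_lit 1, nat_lit 2, nat_lit 1, nat_lit 2, nat_lit 1])) (.leaf ((nat_lit 247), [nat_lit 1, nat_lit 2, nat_lit 0, nat_lit 2, nat_lit 0]))))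
 (.node (nat_lit 533) (.node (nat_lit 532) (.leaf ((nat_lit 63), [nat_lit 1, nat_lit 2, nat_lit 0, nat_lit 2, nat_lit 0])) (.leaf ((nat_lit 21), [nat_lit 0, nat_lit 2, nat_lit 1]))) (.node (nat_lit 534) (.leaf ((nat_lit 248), [nat_lit 0, nat_lit 2, nat_lit 0, nat_lit 2, nat_lit 1, nat_lit 0])) (.leaf ((nat_lit 249), [nat_lit 2, nat_lit 0, nat_lit 2, nat_lit 1, nat_lit 2, nat_lit 1, nat_lit 0])))))))
 (.node (nat_lit 551) (.node (nat_lit 543) (.node (nat_lit 539) (.node (nat_lit 537) (.node (nat_lit 536) (.leaf ((nat_lit 164), [nat_lit 1, nat_lit 0, nat_lit 2, nat_lit 0, nat_lit 2, nat_lit 0])) (.leaf ((nat_lit 163), [nat_lit 1, nat_lit 2, nat_lit 1, nat_lit 2, nat_lit 1, nat_lit 0]))) (.node (nat_lit 538) (.leaf ((nat_lit 184), [nat_lit 2, nat_lit 1, nat_lit 2, nat_lit 0])) (.leaf ((nat_lit 84), [nat_lit 1, nat_lit 0, nat_lit 2, nat_lit 0, nat_lit 2, nat_lit 1, nat_lit 0]))))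
 (.node (nat_lit 541) (.node (nat_lit 540) (.leaf ((nat_lit 21), [nat_lit 1, nat_lit 2, nat_lit 1, nat_lit 2, nat_lit 0])) (.leaf ((nat_lit 184), [nat_lit 1, nat_lit 0]))) (.node (nat_lit 542) (.leaf ((nat_lit 78), [nat_lit 0])) (.leaf ((nat_lit 22), [nat_lit 0, nat_lit 2, nat_lit 0, nat_lit 2])))))
 (.node (nat_lit 547) (.node (nat_lit 545) (.node (nat_lit 544) (.leaf ((nat_lit 245), [nat_lit 0, nat_lit 2, nat_lit 0])) (.leaf ((nat_lit 247), []))) (.node (nat_lit 546) (.leaf ((nat_lit 199), [nat_lit 1, nat_lit 2, nat_lit 0, nat_lit 2, nat_lit 1])) (.leaf ((nat_lit 24), [nat_lit 2, nat_lit 0]))))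
 (.node (nat_lit 549) (.node (nat_lit 548) (.leaf ((nat_lit 23), [nat_lit 0, nat_lit 2, nat_lit 1])) (.leaf ((nat_lit 165), [nat_lit 2, nat_lit 1, nat_lit 2, nat_lit 0, nat_lit 2]))) (.node (nat_lit 550) (.leaf ((nat_lit 32), [nat_lit 2, nat_lit 1, nat_lit 2, nat_lit 0, nat_lit 2, nat_lit 1, nat_lit 0])) (.leaf ((nat_lit 32), [nat_lit 1, nat_lit 2, nat_lit 0, nat_lit 2, nat_lit 1, nat_lit 0]))))))
 (.node (nat_lit 559) (.node (nat_lit 555) (.node (nat_lit 553) (.node (nat_lit 552) (.leaf ((nat_lit 91), [nat_lit 1])) (.leaf ((nat_lit 25), [nat_lit 2, nat_lit 1]))) (.node (nat_lit 554) (.leaf ((nat_lit 165), [nat_lit 0])) (.leaf ((nat_lit 23), [nat_lit 2, nat_lit 1, nat_lit 2]))))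
 (.node (nat_lit 557) (.node (nat_lit 556) (.leaf ((nat_lit 199), [nat_lit 1, nat_lit 2, nat_lit 1, nat_lit 2, nat_lit 1])) (.leaf ((nat_lit 179), [nat_lit 1, nat_lit 0, nat_lit 2, nat_lit 0, nat_lit 2]))) (.node (nat_lit 558) (.leaf ((nat_lit 124), [nat_lit 1, nat_lit 2, nat_lit 1, nat_lit 2, nat_lit 1])) (.leaf ((nat_lit 128), [nat_lit 0, nat_lit 2, nat_lit 0])))))
 (.node (nat_lit 563) (.node (nat_lit 561) (.node (nat_lit 560) (.leaf ((nat_lit 83), [nat_lit 1, nat_lit 2, nat_lit 1, nat_lit 2, nat_lit 1])) (.leaf ((nat_lit 250), [nat_lit 2, nat_lit 0]))) (.node (nat_lit 562) (.leaf ((nat_lit 23), [nat_lit 1, nat_lit 0, nat_lit 2, nat_lit 0, nat_lit 2, nat_lit 1, nat_lit 0])) (.leaf ((nat_lit 27), [nat_lit 1, nat_lit 2, nat_lit 0, nat_lit 2]))))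
 (.node (nat_lit 565) (.node (nat_lit 564) (.leaf ((nat_lit 251), [nat_lit 1, nat_lit 2, nat_lit 0, nat_lit 2, nat_lit 1])) (.leaf ((nat_lit 141), [nat_lit 1, nat_lit 0]))) (.node (nat_lit 566) (.leaf ((nat_lit 82), [nat_lit 0])) (.leaf ((nat_lit 252), [nat_lit 1, nat_lit 0]))))))))
 (.node (nat_lit 598) (.node (nat_lit 582) (.node (nat_lit 574) (.node (nat_lit 570) (.node (nat_lit 568) (.leaf ((nat_lit 27), [])) (.node (nat_lit 569) (.leaf ((nat_lit 23), [nat_lit 0, nat_lit 2, nat_lit 1, nat_lit 2])) (.leaf ((nat_lit 253), [nat_lit 0, nat_lit 2, nat_lit 1, nat_lit 2, nat_lit 1]))))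
 (.node (nat_lit 572) (.node (nat_lit 571) (.leaf ((nat_lit 185), [nat_lit 1, nat_lit 0, nat_lit 2, nat_lit 1])) (.leaf ((nat_lit 220), [nat_lit 1, nat_lit 0, nat_lit 2, nat_lit 1]))) (.node (nat_lit 573) (.leaf ((nat_lit 254), [nat_lit 2, nat_lit 1, nat_lit 2, nat_lit 0, nat_lit 2])) (.leaf ((nat_lit 189), [nat_lit 1, nat_lit 2, nat_lit 0, nat_lit 2, nat_lit 1])))))
 (.node (nat_lit 578) (.node (nat_lit 576) (.node (nat_lit 575) (.leaf ((nat_lit 108), [nat_lit 0, nat_lit 2, nat_lit 1, nat_lit 2])) (.leaf ((nat_lit 23), [nat_lit 1, nat_lit 2, nat_lit 1, nat_lit 0]))) (.node (nat_lit 577) (.leaf ((nat_lit 165), [nat_lit 2, nat_lit 0])) (.leaf ((nat_lit 25), [nat_lit 1, nat_lit 0, nat_lit 2, nat_lit 1]))))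
 (.node (nat_lit 580) (.node (nat_lit 579) (.leaf ((nat_lit 24), [nat_lit 0, nat_lit 2, nat_lit 0, nat_lit 2, nat_lit 1])) (.leaf ((nat_lit 152), [nat_lit 0, nat_lit 2, nat_lit 1, nat_lit 2]))) (.node (nat_lit 581) (.leaf ((nat_lit 151), [nat_lit 1])) (.leaf ((nat_lit 176), [nat_lit 2, nat_lit 0, nat_lit 2, nat_lit 1]))))))
 (.node (nat_lit 590) (.node (nat_lit 586) (.node (nat_lit 584) (.node (nat_lit 583) (.leaf ((nat_lit 192), [nat_lit 1, nat_lit 0, nat_lit 2, nat_lit 1, nat_lit 2, nat_lit 1, nat_lit 0])) (.leaf ((nat_lit 194), [nat_lit 2, nat_lit 0, nat_lit 2, nat_lit 1]))) (.node (nat_lit 585) (.leaf ((nat_lit 251), [nat_lit 1, nat_lit 0, nat_lit 2, nat_lit 1])) (.leaf ((nat_lit 25), [nat_lit 0, nat_lit 2, nat_lit 0, nat_lit 2, nat_lit 1, nat_lit 0]))))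
 (.node (nat_lit 588) (.node (nat_lit 587) (.leaf ((nat_lit 220), [nat_lit 2, nat_lit 0, nat_lit 2, nat_lit 1, nat_lit 2, nat_lit 1])) (.leaf ((nat_lit 103), [nat_lit 0, nat_lit 2, nat_lit 0, nat_lit 2, nat_lit 1, nat_lit 0]))) (.node (nat_lit 589) (.leaf ((nat_lit 78), [nat_lit 1, nat_lit 0])) (.leaf ((nat_lit 184), [nat_lit 0])))))
 (.node (nat_lit 594) (.node (nat_lit 592) (.node (nat_lit 591) (.leaf ((nat_lit 26), [nat_lit 2, nat_lit 1, nat_lit 2, nat_lit 0])) (.leaf ((nat_lit 70), [nat_lit 1, nat_lit 2, nat_lit 0, nat_lit 2, nat_lit 1]))) (.node (nat_lit 593) (.leaf ((nat_lit 255), [nat_lit 0, nat_lit 2, nat_lit 1, nat_lit 2])) (.leaf ((nat_lit 33), [nat_lit 1, nat_lit 2, nat_lit 1, nat_lit 0]))))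
 (.node (nat_lit 596) (.node (nat_lit 595) (.leaf ((nat_lit 28), [nat_lit 0])) (.leaf ((nat_lit 27), [nat_lit 1, nat_lit 0, nat_lit 2, nat_lit 1, nat_lit 0]))) (.node (nat_lit 597) (.leaf ((nat_lit 256), [nat_lit 1])) (.leaf ((nat_lit 80), [nat_lit 2, nat_lit 0, nat_lit 2, nat_lit 1, nat_lit 2, nat_lit 1])))))))
 (.node (nat_lit 614) (.node (nat_lit 606) (.node (nat_lit 602) (.node (nat_lit 600) (.node (nat_lit 599) (.leaf ((nat_lit 80), [nat_lit 1, nat_lit 2, nat_lit 1])) (.leaf ((nat_lit 99), [nat_lit 0, nat_lit 2, nat_lit 1, nat_lit 2, nat_lit 0]))) (.node (nat_lit 601) (.leaf ((nat_lit 29), [nat_lit 2, nat_lit 1, nat_lit 0])) (.leaf ((nat_lit 256), [nat_lit 1, nat_lit 2, nat_lit 1, nat_lit 2, nat_lit 1]))))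
 (.node (nat_lit 604) (.node (nat_lit 603) (.leaf ((nat_lit 27), [nat_lit 2, nat_lit 0, nat_lit 2, nat_lit 1])) (.leaf ((nat_lit 108), [nat_lit 0, nat_lit 2, nat_lit 0, nat_lit 2, nat_lit 1]))) (.node (nat_lit 605) (.leaf ((nat_lit 189), [nat_lit 1, nat_lit 0, nat_lit 2, nat_lit 0, nat_lit 2])) (.leaf ((nat_lit 214), [nat_lit 1, nat_lit 2, nat_lit 1, nat_lit 2, nat_lit 1])))))
 (.node (nat_lit 610) (.node (nat_lit 608) (.node (nat_lit 607) (.leaf ((nat_lit 256), [nat_lit 1])) (.leaf ((nat_lit 29), [nat_lit 2, nat_lit 0, nat_lit 2, nat_lit 1, nat_lit 2]))) (.node (nat_lit 609) (.leaf ((nat_lit 28), [nat_lit 0])) (.leaf ((nat_lit 243), [nat_lit 1, nat_lit 2, nat_lit 0, nat_lit 2]))))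
 (.node (nat_lit 612) (.node (nat_lit 611) (.leaf ((nat_lit 242), [nat_lit 1, nat_lit 2, nat_lit 0, nat_lit 2, nat_lit 1])) (.leaf ((nat_lit 122), [nat_lit 1, nat_lit 2, nat_lit 0, nat_lit 2]))) (.node (nat_lit 613) (.leaf ((nat_lit 169), [nat_lit 1, nat_lit 0])) (.leaf ((nat_lit 201), [nat_lit 0]))))))
 (.node (nat_lit 622) (.node (nat_lit 618) (.node (nat_lit 616) (.node (nat_lit 615) (.leaf ((nat_lit 257), [nat_lit 2, nat_lit 1])) (.leaf ((nat_lit 34), [nat_lit 2, nat_lit 0, nat_lit 2, nat_lit 1, nat_lit 0]))) (.node (nat_lit 617) (.leaf ((nat_lit 33), [nat_lit 0, nat_lit 2, nat_lit 1, nat_lit 2])) (.leaf ((nat_lit 28), [nat_lit 0, nat_lit 2, nat_lit 1, nat_lit 2, nat_lit 1]))))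
 (.node (nat_lit 620) (.node (nat_lit 619) (.leaf ((nat_lit 182), [nat_lit 1, nat_lit 0])) (.leaf ((nat_lit 186), [nat_lit 1, nat_lit 2, nat_lit 1, nat_lit 2]))) (.node (nat_lit 621) (.leaf ((nat_lit 253), [])) (.leaf ((nat_lit 29), [nat_lit 0, nat_lit 2, nat_lit 0, nat_lit 2, nat_lit 1, nat_lit 0])))))
 (.node (nat_lit 626) (.node (nat_lit 624) (.node (nat_lit 623) (.leaf ((nat_lit 197), [nat_lit 0, nat_lit 2, nat_lit 1, nat_lit 2])) (.leaf ((nat_lit 97), [nat_lit 1, nat_lit 0, nat_lit 2, nat_lit 0, nat_lit 2, nat_lit 0]))) (.node (nat_lit 625) (.leaf ((nat_lit 258), [nat_lit 1, nat_lit 0, nat_lit 2, nat_lit 1, nat_lit 2, nat_lit 1, nat_lit 0])) (.leaf ((nat_lit 259), [nat_lit 1, nat_lit 0, nat_lit 2, nat_lit 1, nat_lit 2, nat_lit 1]))))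
 (.node (nat_lit 628) (.node (nat_lit 627) (.leaf ((nat_lit 255), [nat_lit 0, nat_lit 2, nat_lit 0, nat_lit 2, nat_lit 1])) (.leaf ((nat_lit 197), [nat_lit 1, nat_lit 2, nat_lit 1, nat_lit 2, nat_lit 1]))) (.node (nat_lit 629) (.leaf ((nat_lit 29), [nat_lit 1, nat_lit 0, nat_lit 2, nat_lit 0, nat_lit 2, nat_lit 0])) (.leaf ((nat_lit 187), [nat_lit 2, nat_lit 0, nat_lit 2, nat_lit 1, nat_lit 2, nat_lit 1])))))))))
 (.node (nat_lit 693) (.node (nat_lit 661) (.node (nat_lit 645) (.node (nat_lit 637) (.node (nat_lit 633) (.node (nat_lit 631) (.leaf ((nat_lit 260), [nat_lit 2, nat_lit 0, nat_lit 2, nat_lit 1, nat_lit 2, nat_lit 1, nat_lit 0])) (.node (nat_lit 632) (.leaf ((nat_lit 261), [nat_lit 2, nat_lit 0, nat_lit 2, nat_lit 0])) (.leaf ((nat_lit 262), [nat_lit 0, nat_lit 2, nat_lit 0, nat_lit 2, nat_lit 1, nat_lit 0]))))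
 (.node (nat_lit 635) (.node (nat_lit 634) (.leaf ((nat_lit 81), [nat_lit 2, nat_lit 1, nat_lit 2, nat_lit 0, nat_lit 2, nat_lit 1, nat_lit 0])) (.leaf ((nat_lit 185), [nat_lit 2, nat_lit 0, nat_lit 2, nat_lit 1, nat_lit 2, nat_lit 1]))) (.node (nat_lit 636) (.leaf ((nat_lit 29), [nat_lit 1, nat_lit 0, nat_lit 2, nat_lit 0, nat_lit 2, nat_lit 0])) (.leaf ((nat_lit 263), [nat_lit 1, nat_lit 2, nat_lit 0, nat_lit 2])))))
 (.node (nat_lit 641) (.node (nat_lit 639) (.node (nat_lit 638) (.leaf ((nat_lit 264), [nat_lit 1, nat_lit 2])) (.leaf ((nat_lit 191), [nat_lit 2, nat_lit 0, nat_lit 2]))) (.node (nat_lit 640) (.leaf ((nat_lit 30), [nat_lit 2, nat_lit 1, nat_lit 2, nat_lit 1])) (.leaf ((nat_lit 201), [nat_lit 0, nat_lit 2, nat_lit 0]))))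
 (.node (nat_lit 643) (.node (nat_lit 642) (.leaf ((nat_lit 195), [nat_lit 0, nat_lit 2, nat_lit 0, nat_lit 2])) (.leaf ((nat_lit 265), [nat_lit 2, nat_lit 0, nat_lit 2, nat_lit 1, nat_lit 2, nat_lit 1]))) (.node (nat_lit 644) (.leaf ((nat_lit 266), [nat_lit 1, nat_lit 2, nat_lit 1, nat_lit 2])) (.leaf ((nat_lit 267), [nat_lit 1, nat_lit 2, nat_lit 0, nat_lit 2, nat_lit 1, nat_lit 0]))))))
 (.node (nat_lit 653) (.node (nat_lit 649) (.node (nat_lit 647) (.node (nat_lit 646) (.leaf ((nat_lit 201), [nat_lit 2, nat_lit 1, nat_lit 2, nat_lit 0])) (.leaf ((nat_lit 30), [nat_lit 1, nat_lit 0, nat_lit 2, nat_lit 0, nat_lit 2, nat_lit 1, nat_lit 0]))) (.node (nat_lit 648) (.leaf ((nat_lit 222), [nat_lit 1, nat_lit 2, nat_lit 1, nat_lit 2, nat_lit 0])) (.leaf ((nat_lit 268), [nat_lit 1, nat_lit 0]))))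
 (.node (nat_lit 651) (.node (nat_lit 650) (.leaf ((nat_lit 262), [nat_lit 1, nat_lit 0, nat_lit 2, nat_lit 0, nat_lit 2, nat_lit 0])) (.leaf ((nat_lit 261), [nat_lit 1, nat_lit 0]))) (.node (nat_lit 652) (.leaf ((nat_lit 100), [nat_lit 1, nat_lit 2, nat_lit 0, nat_lit 2, nat_lit 0])) (.leaf ((nat_lit 95), [nat_lit 2, nat_lit 1, nat_lit 2, nat_lit 0])))))
 (.node (nat_lit 657) (.node (nat_lit 655) (.node (nat_lit 654) (.leaf ((nat_lit 30), [nat_lit 1, nat_lit 0, nat_lit 2, nat_lit 1])) (.leaf ((nat_lit 31), [nat_lit 1, nat_lit 0, nat_lit 2, nat_lit 1, nat_lit 2, nat_lit 0]))) (.node (nat_lit 656) (.leaf ((nat_lit 32), [nat_lit 1, nat_lit 2, nat_lit 1, nat_lit 2, nat_lit 1])) (.leaf ((nat_lit 204), [nat_lit 1, nat_lit 0, nat_lit 2, nat_lit 0, nat_lit 2, nat_lit 1, nat_lit 0]))))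
 (.node (nat_lit 659) (.node (nat_lit 658) (.leaf ((nat_lit 83), [nat_lit 2, nat_lit 0, nat_lit 2, nat_lit 1])) (.leaf ((nat_lit 82), []))) (.node (nat_lit 660) (.leaf ((nat_lit 169), [nat_lit 2, nat_lit 0, nat_lit 2])) (.leaf ((nat_lit 32), [nat_lit 2, nat_lit 1, nat_lit 2, nat_lit 0, nat_lit 2, nat_lit 0])))))))
 (.node (nat_lit 677) (.node (nat_lit 669) (.node (nat_lit 665) (.node (nat_lit 663) (.node (nat_lit 662) (.leaf ((nat_lit 31), [nat_lit 0, nat_lit 2, nat_lit 1, nat_lit 2])) (.leaf ((nat_lit 160), [nat_lit 0, nat_lit 2, nat_lit 1]))) (.node (nat_lit 664) (.leaf ((nat_lit 59), [nat_lit 1, nat_lit 0, nat_lit 2, nat_lit 0, nat_lit 2, nat_lit 1, nat_lit 0])) (.leaf ((nat_lit 42), [nat_lit 2, nat_lit 1, nat_lit 0]))))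
 (.node (nat_lit 667) (.node (nat_lit 666) (.leaf ((nat_lit 45), [nat_lit 1, nat_lit 0])) (.leaf ((nat_lit 204), [nat_lit 1, nat_lit 0, nat_lit 2, nat_lit 1]))) (.node (nat_lit 668) (.leaf ((nat_lit 160), [nat_lit 0, nat_lit 2, nat_lit 1, nat_lit 0])) (.leaf ((nat_lit 31), [nat_lit 0, nat_lit 2, nat_lit 1, nat_lit 2, nat_lit 0])))))
 (.node (nat_lit 673) (.node (nat_lit 671) (.node (nat_lit 670) (.leaf ((nat_lit 195), [nat_lit 1, nat_lit 2, nat_lit 0, nat_lit 2, nat_lit 1])) (.leaf ((nat_lit 267), []))) (.node (nat_lit 672) (.leaf ((nat_lit 50), [nat_lit 1])) (.leaf ((nat_lit 160), [nat_lit 0, nat_lit 2, nat_lit 1, nat_lit 2, nat_lit 0]))))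
 (.node (nat_lit 675) (.node (nat_lit 674) (.leaf ((nat_lit 204), [nat_lit 2, nat_lit 1])) (.leaf ((nat_lit 32), [nat_lit 1, nat_lit 0, nat_lit 2, nat_lit 1, nat_lit 2]))) (.node (nat_lit 676) (.leaf ((nat_lit 269), [nat_lit 2, nat_lit 1, nat_lit 2, nat_lit 1])) (.leaf ((nat_lit 270), [nat_lit 1, nat_lit 0, nat_lit 2]))))))
 (.node (nat_lit 685) (.node (nat_lit 681) (.node (nat_lit 679) (.node (nat_lit 678) (.leaf ((nat_lit 152), [nat_lit 1, nat_lit 0])) (.leaf ((nat_lit 33), [nat_lit 2, nat_lit 0, nat_lit 2, nat_lit 1, nat_lit 2, nat_lit 1, nat_lit 0]))) (.node (nat_lit 680) (.leaf ((nat_lit 271), [nat_lit 1, nat_lit 2, nat_lit 0, nat_lit 2, nat_lit 1])) (.leaf ((nat_lit 272), [nat_lit 1, nat_lit 2]))))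
 (.node (nat_lit 683) (.node (nat_lit 682) (.leaf ((nat_lit 273), [])) (.leaf ((nat_lit 274), [nat_lit 1, nat_lit 2, nat_lit 1, nat_lit 0]))) (.node (nat_lit 684) (.leaf ((nat_lit 113), [nat_lit 1, nat_lit 0, nat_lit 2, nat_lit 1, nat_lit 2, nat_lit 1, nat_lit 0])) (.leaf ((nat_lit 271), [nat_lit 1, nat_lit 2, nat_lit 0, nat_lit 2, nat_lit 1])))))
 (.node (nat_lit 689) (.node (nat_lit 687) (.node (nat_lit 686) (.leaf ((nat_lit 33), [nat_lit 2, nat_lit 0, nat_lit 2, nat_lit 1, nat_lit 2, nat_lit 1, nat_lit 0])) (.leaf ((nat_lit 243), [nat_lit 1, nat_lit 2]))) (.node (nat_lit 688) (.leaf ((nat_lit 264), [nat_lit 1, nat_lit 0, nat_lit 2, nat_lit 0])) (.leaf ((nat_lit 264), [nat_lit 2, nat_lit 1, nat_lit 2, nat_lit 1]))))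
 (.node (nat_lit 691) (.node (nat_lit 690) (.leaf ((nat_lit 274), [nat_lit 2, nat_lit 1, nat_lit 2, nat_lit 0, nat_lit 2, nat_lit 0])) (.leaf ((nat_lit 272), [nat_lit 1, nat_lit 2, nat_lit 1, nat_lit 0]))) (.node (nat_lit 692) (.leaf ((nat_lit 243), [nat_lit 1, nat_lit 2, nat_lit 1, nat_lit 0])) (.leaf ((nat_lit 33), [nat_lit 2, nat_lit 0, nat_lit 2, nat_lit 1, nat_lit 2]))))))))
 (.node (nat_lit 724) (.node (nat_lit 708) (.node (nat_lit 700) (.node (nat_lit 696) (.node (nat_lit 694) (.leaf ((nat_lit 186), [nat_lit 2, nat_lit 1, nat_lit 2, nat_lit 1, nat_lit 0])) (.node (nat_lit 695) (.leaf ((nat_lit 146), [nat_lit 2, nat_lit 0, nat_lit 2, nat_lit 1, nat_lit 2, nat_lit 0])) (.leaf ((nat_lit 275), [nat_lit 1, nat_lit 0, nat_lit 2, nat_lit 0, nat_lit 2, nat_lit 0]))))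
 (.node (nat_lit 698) (.node (nat_lit 697) (.leaf ((nat_lit 34), [nat_lit 0, nat_lit 2])) (.leaf ((nat_lit 276), [nat_lit 0, nat_lit 2, nat_lit 1, nat_lit 2, nat_lit 1, nat_lit 0]))) (.node (nat_lit 699) (.leaf ((nat_lit 179), [nat_lit 2, nat_lit 1, nat_lit 2, nat_lit 0])) (.leaf ((nat_lit 236), [nat_lit 2, nat_lit 1, nat_lit 2, nat_lit 1, nat_lit 0])))))
 (.node (nat_lit 704) (.node (nat_lit 702) (.node (nat_lit 701) (.leaf ((nat_lit 252), [nat_lit 1, nat_lit 0, nat_lit 2, nat_lit 1, nat_lit 0])) (.leaf ((nat_lit 116), [nat_lit 1, nat_lit 0]))) (.node (nat_lit 703) (.leaf ((nat_lit 276), [nat_lit 2, nat_lit 1, nat_lit 2, nat_lit 0, nat_lit 2])) (.leaf ((nat_lit 34), [nat_lit 0, nat_lit 2, nat_lit 1, nat_lit 2, nat_lit 1]))))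
 (.node (nat_lit 706) (.node (nat_lit 705) (.leaf ((nat_lit 277), [nat_lit 1, nat_lit 0])) (.leaf ((nat_lit 266), [nat_lit 0, nat_lit 2, nat_lit 1, nat_lit 0]))) (.node (nat_lit 707) (.leaf ((nat_lit 266), [nat_lit 1])) (.leaf ((nat_lit 252), [nat_lit 1, nat_lit 2, nat_lit 0, nat_lit 2]))))))
 (.node (nat_lit 716) (.node (nat_lit 712) (.node (nat_lit 710) (.node (nat_lit 709) (.leaf ((nat_lit 179), [nat_lit 1])) (.leaf ((nat_lit 277), [nat_lit 1, nat_lit 2, nat_lit 0, nat_lit 2, nat_lit 1]))) (.node (nat_lit 711) (.leaf ((nat_lit 34), [nat_lit 2, nat_lit 0, nat_lit 2, nat_lit 1, nat_lit 2, nat_lit 0])) (.leaf ((nat_lit 278), [nat_lit 2, nat_lit 1]))))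
 (.node (nat_lit 714) (.node (nat_lit 713) (.leaf ((nat_lit 43), [nat_lit 2, nat_lit 0, nat_lit 2, nat_lit 1, nat_lit 2, nat_lit 0])) (.leaf ((nat_lit 156), [nat_lit 2, nat_lit 1, nat_lit 2, nat_lit 0]))) (.node (nat_lit 715) (.leaf ((nat_lit 83), [nat_lit 0, nat_lit 2, nat_lit 0])) (.leaf ((nat_lit 128), [nat_lit 1, nat_lit 2, nat_lit 1, nat_lit 2, nat_lit 1])))))
 (.node (nat_lit 720) (.node (nat_lit 718) (.node (nat_lit 717) (.leaf ((nat_lit 224), [nat_lit 1, nat_lit 0, nat_lit 2, nat_lit 1])) (.leaf ((nat_lit 41), [nat_lit 1]))) (.node (nat_lit 719) (.leaf ((nat_lit 53), [nat_lit 1, nat_lit 2, nat_lit 1, nat_lit 2])) (.leaf ((nat_lit 34), [nat_lit 2, nat_lit 0, nat_lit 2, nat_lit 0]))))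
 (.node (nat_lit 722) (.node (nat_lit 721) (.leaf ((nat_lit 35), [nat_lit 1, nat_lit 0, nat_lit 2, nat_lit 0])) (.leaf ((nat_lit 247), [nat_lit 2, nat_lit 1, nat_lit 2, nat_lit 0, nat_lit 2, nat_lit 1]))) (.node (nat_lit 723) (.leaf ((nat_lit 246), [nat_lit 1, nat_lit 0])) (.leaf ((nat_lit 279), [nat_lit 1, nat_lit 0, nat_lit 2, nat_lit 0, nat_lit 2])))))))
 (.node (nat_lit 740) (.node (nat_lit 732) (.node (nat_lit 728) (.node (nat_lit 726) (.node (nat_lit 725) (.leaf ((nat_lit 279), [nat_lit 1, nat_lit 0, nat_lit 2, nat_lit 0, nat_lit 2, nat_lit 1, nat_lit 0])) (.leaf ((nat_lit 120), [nat_lit 2, nat_lit 0, nat_lit 2]))) (.node (nat_lit 727) (.leaf ((nat_lit 247), [nat_lit 1, nat_lit 2, nat_lit 0, nat_lit 2, nat_lit 1])) (.leaf ((nat_lit 35), [nat_lit 0, nat_lit 2, nat_lit 0]))))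
 (.node (nat_lit 730) (.node (nat_lit 729) (.leaf ((nat_lit 202), [nat_lit 2, nat_lit 1, nat_lit 2, nat_lit 0, nat_lit 2, nat_lit 0])) (.leaf ((nat_lit 225), [nat_lit 2, nat_lit 0, nat_lit 2, nat_lit 1, nat_lit 0]))) (.node (nat_lit 731) (.leaf ((nat_lit 224), [nat_lit 1, nat_lit 2, nat_lit 0, nat_lit 2, nat_lit 1])) (.leaf ((nat_lit 280), [nat_lit 2, nat_lit 0, nat_lit 2, nat_lit 0])))))
 (.node (nat_lit 736) (.node (nat_lit 734) (.node (nat_lit 733) (.leaf ((nat_lit 246), [nat_lit 1, nat_lit 0, nat_lit 2, nat_lit 0, nat_lit 2, nat_lit 0])) (.leaf ((nat_lit 202), [nat_lit 1, nat_lit 2, nat_lit 0, nat_lit 2, nat_lit 1, nat_lit 0]))) (.node (nat_lit 735) (.leaf ((nat_lit 35), [nat_lit 1, nat_lit 2, nat_lit 0, nat_lit 2])) (.leaf ((nat_lit 277), []))))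
 (.node (nat_lit 738) (.node (nat_lit 737) (.leaf ((nat_lit 281), [nat_lit 1])) (.leaf ((nat_lit 101), [nat_lit 2, nat_lit 0, nat_lit 2, nat_lit 1]))) (.node (nat_lit 739) (.leaf ((nat_lit 134), [nat_lit 2, nat_lit 1, nat_lit 2, nat_lit 0, nat_lit 2, nat_lit 0])) (.leaf ((nat_lit 282), [nat_lit 1, nat_lit 2, nat_lit 1, nat_lit 0]))))))
 (.node (nat_lit 748) (.node (nat_lit 744) (.node (nat_lit 742) (.node (nat_lit 741) (.leaf ((nat_lit 283), [nat_lit 1, nat_lit 2, nat_lit 0, nat_lit 2, nat_lit 1])) (.leaf ((nat_lit 35), [nat_lit 1, nat_lit 2, nat_lit 0, nat_lit 2, nat_lit 0]))) (.node (nat_lit 743) (.leaf ((nat_lit 284), [nat_lit 1, nat_lit 0, nat_lit 2, nat_lit 1])) (.leaf ((nat_lit 285), [nat_lit 1, nat_lit 0, nat_lit 2, nat_lit 0, nat_lit 2, nat_lit 1, nat_lit 0]))))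
 (.node (nat_lit 746) (.node (nat_lit 745) (.leaf ((nat_lit 286), [nat_lit 1, nat_lit 0, nat_lit 2, nat_lit 0, nat_lit 2, nat_lit 0])) (.leaf ((nat_lit 287), [nat_lit 1, nat_lit 0, nat_lit 2, nat_lit 1, nat_lit 2]))) (.node (nat_lit 747) (.leaf ((nat_lit 239), [nat_lit 2, nat_lit 1, nat_lit 0])) (.leaf ((nat_lit 284), [nat_lit 2, nat_lit 0, nat_lit 2, nat_lit 1])))))
 (.node (nat_lit 752) (.node (nat_lit 750) (.node (nat_lit 749) (.leaf ((nat_lit 35), [nat_lit 0, nat_lit 2, nat_lit 0])) (.leaf ((nat_lit 92), [nat_lit 1, nat_lit 2, nat_lit 1, nat_lit 2, nat_lit 1]))) (.node (nat_lit 751) (.leaf ((nat_lit 37), [nat_lit 0, nat_lit 2, nat_lit 1, nat_lit 2, nat_lit 0])) (.leaf ((nat_lit 36), [nat_lit 1, nat_lit 0, nat_lit 2, nat_lit 0]))))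
 (.node (nat_lit 754) (.node (nat_lit 753) (.leaf ((nat_lit 288), [nat_lit 1, nat_lit 2, nat_lit 0])) (.leaf ((nat_lit 177), [nat_lit 2, nat_lit 1, nat_lit 2, nat_lit 0, nat_lit 2, nat_lit 1, nat_lit 0]))) (.node (nat_lit 755) (.leaf ((nat_lit 177), [nat_lit 1, nat_lit 0, nat_lit 2])) (.leaf ((nat_lit 231), [nat_lit 2, nat_lit 1, nat_lit 2, nat_lit 0, nat_lit 2, nat_lit 1, nat_lit 0]))))))))))
noncomputable def n2Wd_3 : Tr (ℕ × List ℕ) := (.node (nat_lit 882) (.node (nat_lit 819) (.node (nat_lit 787) (.node (nat_lit 771) (.node (nat_lit 763) (.node (nat_lit 759) (.node (nat_lit 757) (.leaf ((nat_lit 38), [])) (.node (nat_lit 758) (.leaf ((nat_lit 288), [nat_lit 1, nat_lit 0, nat_lit 2, nat_lit 1, nat_lit 0])) (.leaf ((nat_lit 36), [nat_lit 1, nat_lit 2, nat_lit 1, nat_lit 0]))))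
 (.node (nat_lit 761) (.node (nat_lit 760) (.leaf ((nat_lit 260), [nat_lit 2, nat_lit 1, nat_lit 2, nat_lit 0, nat_lit 2, nat_lit 1, nat_lit 0])) (.leaf ((nat_lit 258), [nat_lit 1, nat_lit 0, nat_lit 2, nat_lit 0]))) (.node (nat_lit 762) (.leaf ((nat_lit 67), [nat_lit 1, nat_lit 0, nat_lit 2, nat_lit 1, nat_lit 2, nat_lit 1])) (.leaf ((nat_lit 82), [nat_lit 1, nat_lit 0])))))
 (.node (nat_lit 767) (.node (nat_lit 765) (.node (nat_lit 764) (.leaf ((nat_lit 141), [nat_lit 0])) (.leaf ((nat_lit 273), [nat_lit 1, nat_lit 2, nat_lit 1]))) (.node (nat_lit 766) (.leaf ((nat_lit 36), [nat_lit 1, nat_lit 2, nat_lit 0, nat_lit 2, nat_lit 1])) (.leaf ((nat_lit 58), [nat_lit 0, nat_lit 2, nat_lit 0]))))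
 (.node (nat_lit 769) (.node (nat_lit 768) (.leaf ((nat_lit 227), [nat_lit 2, nat_lit 0, nat_lit 2, nat_lit 0])) (.leaf ((nat_lit 93), [nat_lit 0, nat_lit 2, nat_lit 0]))) (.node (nat_lit 770) (.leaf ((nat_lit 119), [nat_lit 1, nat_lit 2, nat_lit 1, nat_lit 2, nat_lit 1])) (.leaf ((nat_lit 289), [nat_lit 1, nat_lit 0, nat_lit 2, nat_lit 1, nat_lit 2, nat_lit 1, nat_lit 0]))))))
 (.node (nat_lit 779) (.node (nat_lit 775) (.node (nat_lit 773) (.node (nat_lit 772) (.leaf ((nat_lit 58), [nat_lit 1, nat_lit 2, nat_lit 1, nat_lit 2])) (.leaf ((nat_lit 36), [nat_lit 1]))) (.node (nat_lit 774) (.leaf ((nat_lit 242), [nat_lit 2, nat_lit 0, nat_lit 2, nat_lit 1])) (.leaf ((nat_lit 282), [nat_lit 1, nat_lit 0, nat_lit 2, nat_lit 1, nat_lit 0]))))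
 (.node (nat_lit 777) (.node (nat_lit 776) (.leaf ((nat_lit 134), [nat_lit 0, nat_lit 2, nat_lit 0])) (.leaf ((nat_lit 183), []))) (.node (nat_lit 778) (.leaf ((nat_lit 84), [nat_lit 1])) (.leaf ((nat_lit 184), [nat_lit 1, nat_lit 2, nat_lit 0, nat_lit 2, nat_lit 1])))))
 (.node (nat_lit 783) (.node (nat_lit 781) (.node (nat_lit 780) (.leaf ((nat_lit 36), [nat_lit 1, nat_lit 2, nat_lit 0, nat_lit 2])) (.leaf ((nat_lit 288), [nat_lit 2, nat_lit 1, nat_lit 2, nat_lit 0, nat_lit 2]))) (.node (nat_lit 782) (.leaf ((nat_lit 38), [nat_lit 0, nat_lit 2, nat_lit 0, nat_lit 2, nat_lit 0])) (.leaf ((nat_lit 37), [nat_lit 1, nat_lit 0, nat_lit 2, nat_lit 0, nat_lit 2]))))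
 (.node (nat_lit 785) (.node (nat_lit 784) (.leaf ((nat_lit 290), [nat_lit 1, nat_lit 0, nat_lit 2, nat_lit 0])) (.leaf ((nat_lit 291), [nat_lit 0, nat_lit 2, nat_lit 0, nat_lit 2, nat_lit 1]))) (.node (nat_lit 786) (.leaf ((nat_lit 283), [nat_lit 1, nat_lit 2, nat_lit 0, nat_lit 2])) (.leaf ((nat_lit 68), [nat_lit 1, nat_lit 0, nat_lit 2, nat_lit 1, nat_lit 2])))))))
 (.node (nat_lit 803) (.node (nat_lit 795) (.node (nat_lit 791) (.node (nat_lit 789) (.node (nat_lit 788) (.leaf ((nat_lit 67), [nat_lit 1])) (.leaf ((nat_lit 292), [nat_lit 2, nat_lit 0, nat_lit 2, nat_lit 1]))) (.node (nat_lit 790) (.leaf ((nat_lit 235), [nat_lit 1, nat_lit 2, nat_lit 1, nat_lit 0])) (.leaf ((nat_lit 271), [nat_lit 0, nat_lit 2, nat_lit 1, nat_lit 0]))))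
 (.node (nat_lit 793) (.node (nat_lit 792) (.leaf ((nat_lit 37), [nat_lit 2, nat_lit 0, nat_lit 2, nat_lit 1, nat_lit 0])) (.leaf ((nat_lit 87), [nat_lit 1, nat_lit 0, nat_lit 2, nat_lit 1, nat_lit 0]))) (.node (nat_lit 794) (.leaf ((nat_lit 253), [nat_lit 1, nat_lit 2, nat_lit 1, nat_lit 2, nat_lit 1, nat_lit 0])) (.leaf ((nat_lit 186), [nat_lit 2, nat_lit 0])))))
 (.node (nat_lit 799) (.node (nat_lit 797) (.node (nat_lit 796) (.leaf ((nat_lit 38), [nat_lit 2, nat_lit 1, nat_lit 0])) (.leaf ((nat_lit 64), [nat_lit 1, nat_lit 2, nat_lit 0]))) (.node (nat_lit 798) (.leaf ((nat_lit 289), [nat_lit 0, nat_lit 2, nat_lit 0, nat_lit 2, nat_lit 1])) (.leaf ((nat_lit 189), [nat_lit 1, nat_lit 2, nat_lit 1, nat_lit 2, nat_lit 1, nat_lit 0]))))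
 (.node (nat_lit 801) (.node (nat_lit 800) (.leaf ((nat_lit 293), [nat_lit 1, nat_lit 0, nat_lit 2, nat_lit 0])) (.leaf ((nat_lit 227), [nat_lit 2, nat_lit 1, nat_lit 2, nat_lit 1]))) (.node (nat_lit 802) (.leaf ((nat_lit 64), [nat_lit 0, nat_lit 2, nat_lit 1])) (.leaf ((nat_lit 38), [nat_lit 2, nat_lit 0, nat_lit 2, nat_lit 0]))))))
 (.node (nat_lit 811) (.node (nat_lit 807) (.node (nat_lit 805) (.node (nat_lit 804) (.leaf ((nat_lit 294), [nat_lit 1, nat_lit 0, nat_lit 2, nat_lit 1, nat_lit 2, nat_lit 1])) (.leaf ((nat_lit 123), [nat_lit 2, nat_lit 0, nat_lit 2, nat_lit 1, nat_lit 2, nat_lit 1, nat_lit 0]))) (.node (nat_lit 806) (.leaf ((nat_lit 129), [nat_lit 0, nat_lit 2, nat_lit 0])) (.leaf ((nat_lit 295), [nat_lit 0, nat_lit 2, nat_lit 1, nat_lit 2]))))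
 (.node (nat_lit 809) (.node (nat_lit 808) (.leaf ((nat_lit 286), [nat_lit 2, nat_lit 0, nat_lit 2, nat_lit 1, nat_lit 0])) (.leaf ((nat_lit 286), [nat_lit 2, nat_lit 1, nat_lit 2, nat_lit 1, nat_lit 0]))) (.node (nat_lit 810) (.leaf ((nat_lit 38), [nat_lit 1, nat_lit 0, nat_lit 2, nat_lit 1, nat_lit 2, nat_lit 1, nat_lit 0])) (.leaf ((nat_lit 86), [nat_lit 1, nat_lit 2, nat_lit 0, nat_lit 2, nat_lit 1])))))
 (.node (nat_lit 815) (.node (nat_lit 813) (.node (nat_lit 812) (.leaf ((nat_lit 296), [nat_lit 1, nat_lit 0, nat_lit 2, nat_lit 0])) (.leaf ((nat_lit 297), [nat_lit 0, nat_lit 2, nat_lit 0]))) (.node (nat_lit 814) (.leaf ((nat_lit 238), [nat_lit 1, nat_lit 0, nat_lit 2])) (.leaf ((nat_lit 237), [nat_lit 2, nat_lit 1, nat_lit 2, nat_lit 0]))))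
 (.node (nat_lit 817) (.node (nat_lit 816) (.leaf ((nat_lit 39), [nat_lit 1, nat_lit 2, nat_lit 1, nat_lit 2, nat_lit 1])) (.leaf ((nat_lit 40), [nat_lit 1, nat_lit 0, nat_lit 2, nat_lit 1, nat_lit 2, nat_lit 1]))) (.node (nat_lit 818) (.leaf ((nat_lit 292), [nat_lit 1, nat_lit 2, nat_lit 1])) (.leaf ((nat_lit 67), [nat_lit 2, nat_lit 0, nat_lit 2, nat_lit 1, nat_lit 2, nat_lit 1]))))))))
 (.node (nat_lit 850) (.node (nat_lit 834) (.node (nat_lit 826) (.node (nat_lit 822) (.node (nat_lit 820) (.leaf ((nat_lit 262), [nat_lit 1, nat_lit 2, nat_lit 1, nat_lit 2])) (.node (nat_lit 821) (.leaf ((nat_lit 77), [nat_lit 0, nat_lit 2, nat_lit 0, nat_lit 2])) (.leaf ((nat_lit 212), [nat_lit 0, nat_lit 2, nat_lit 1]))))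
 (.node (nat_lit 824) (.node (nat_lit 823) (.leaf ((nat_lit 292), [nat_lit 1, nat_lit 2, nat_lit 0, nat_lit 2, nat_lit 1])) (.leaf ((nat_lit 40), [nat_lit 2, nat_lit 1, nat_lit 2, nat_lit 0, nat_lit 2, nat_lit 1, nat_lit 0]))) (.node (nat_lit 825) (.leaf ((nat_lit 68), [nat_lit 2, nat_lit 1, nat_lit 0])) (.leaf ((nat_lit 180), [nat_lit 1, nat_lit 2, nat_lit 1, nat_lit 2])))))
 (.node (nat_lit 830) (.node (nat_lit 828) (.node (nat_lit 827) (.leaf ((nat_lit 297), [nat_lit 1, nat_lit 2, nat_lit 0, nat_lit 2, nat_lit 1, nat_lit 0])) (.leaf ((nat_lit 288), [nat_lit 2, nat_lit 1, nat_lit 2, nat_lit 0, nat_lit 2]))) (.node (nat_lit 829) (.leaf ((nat_lit 163), [nat_lit 0, nat_lit 2, nat_lit 0, nat_lit 2, nat_lit 1])) (.leaf ((nat_lit 162), [nat_lit 1, nat_lit 0, nat_lit 2, nat_lit 0, nat_lit 2]))))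
 (.node (nat_lit 832) (.node (nat_lit 831) (.leaf ((nat_lit 249), [nat_lit 2, nat_lit 1, nat_lit 2, nat_lit 0, nat_lit 2, nat_lit 1])) (.leaf ((nat_lit 187), [nat_lit 2, nat_lit 1, nat_lit 2, nat_lit 0, nat_lit 2, nat_lit 1, nat_lit 0]))) (.node (nat_lit 833) (.leaf ((nat_lit 40), [nat_lit 1, nat_lit 0, nat_lit 2, nat_lit 0, nat_lit 2, nat_lit 0])) (.leaf ((nat_lit 298), [nat_lit 1, nat_lit 0, nat_lit 2]))))))
 (.node (nat_lit 842) (.node (nat_lit 838) (.node (nat_lit 836) (.node (nat_lit 835) (.leaf ((nat_lit 42), [nat_lit 2, nat_lit 1, nat_lit 2, nat_lit 0])) (.leaf ((nat_lit 41), [nat_lit 1, nat_lit 2, nat_lit 1, nat_lit 0]))) (.node (nat_lit 837) (.leaf ((nat_lit 299), [nat_lit 2, nat_lit 1, nat_lit 2, nat_lit 0, nat_lit 2])) (.leaf ((nat_lit 161), [nat_lit 2, nat_lit 1, nat_lit 2, nat_lit 0, nat_lit 2, nat_lit 1, nat_lit 0]))))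
 (.node (nat_lit 840) (.node (nat_lit 839) (.leaf ((nat_lit 161), [nat_lit 1, nat_lit 0, nat_lit 2, nat_lit 0, nat_lit 2, nat_lit 0])) (.leaf ((nat_lit 65), [nat_lit 1, nat_lit 2, nat_lit 0, nat_lit 2, nat_lit 1]))) (.node (nat_lit 841) (.leaf ((nat_lit 43), [])) (.leaf ((nat_lit 299), [nat_lit 0, nat_lit 2, nat_lit 0, nat_lit 2, nat_lit 0])))))
 (.node (nat_lit 846) (.node (nat_lit 844) (.node (nat_lit 843) (.leaf ((nat_lit 41), [nat_lit 2, nat_lit 0, nat_lit 2, nat_lit 1, nat_lit 2, nat_lit 1, nat_lit 0])) (.leaf ((nat_lit 205), [nat_lit 2, nat_lit 1, nat_lit 2, nat_lit 1, nat_lit 0]))) (.node (nat_lit 845) (.leaf ((nat_lit 215), [nat_lit 0, nat_lit 2, nat_lit 0, nat_lit 2, nat_lit 1])) (.leaf ((nat_lit 211), [nat_lit 2]))))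
 (.node (nat_lit 848) (.node (nat_lit 847) (.leaf ((nat_lit 94), [nat_lit 1, nat_lit 0])) (.leaf ((nat_lit 127), [nat_lit 0]))) (.node (nat_lit 849) (.leaf ((nat_lit 217), [])) (.leaf ((nat_lit 53), [nat_lit 0, nat_lit 2, nat_lit 0])))))))
 (.node (nat_lit 866) (.node (nat_lit 858) (.node (nat_lit 854) (.node (nat_lit 852) (.node (nat_lit 851) (.leaf ((nat_lit 41), [nat_lit 1, nat_lit 2, nat_lit 0, nat_lit 2, nat_lit 1])) (.leaf ((nat_lit 151), [nat_lit 1, nat_lit 2, nat_lit 0, nat_lit 2]))) (.node (nat_lit 853) (.leaf ((nat_lit 299), [nat_lit 2, nat_lit 0, nat_lit 2, nat_lit 1, nat_lit 2])) (.leaf ((nat_lit 43), [nat_lit 1, nat_lit 0, nat_lit 2, nat_lit 1, nat_lit 0]))))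
 (.node (nat_lit 856) (.node (nat_lit 855) (.leaf ((nat_lit 42), [nat_lit 0, nat_lit 2, nat_lit 1])) (.leaf ((nat_lit 300), [nat_lit 0, nat_lit 2, nat_lit 0]))) (.node (nat_lit 857) (.leaf ((nat_lit 159), [nat_lit 2, nat_lit 1, nat_lit 2, nat_lit 1, nat_lit 0])) (.leaf ((nat_lit 203), [nat_lit 0, nat_lit 2, nat_lit 1])))))
 (.node (nat_lit 862) (.node (nat_lit 860) (.node (nat_lit 859) (.leaf ((nat_lit 212), [nat_lit 2, nat_lit 0, nat_lit 2, nat_lit 1, nat_lit 2, nat_lit 1])) (.leaf ((nat_lit 211), [nat_lit 0, nat_lit 2, nat_lit 1, nat_lit 0]))) (.node (nat_lit 861) (.leaf ((nat_lit 301), [nat_lit 0, nat_lit 2, nat_lit 0, nat_lit 2, nat_lit 1, nat_lit 0])) (.leaf ((nat_lit 233), [nat_lit 1, nat_lit 0, nat_lit 2, nat_lit 1]))))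
 (.node (nat_lit 864) (.node (nat_lit 863) (.leaf ((nat_lit 223), [nat_lit 0, nat_lit 2, nat_lit 1, nat_lit 2, nat_lit 1])) (.leaf ((nat_lit 42), [nat_lit 2, nat_lit 1, nat_lit 2, nat_lit 0, nat_lit 2, nat_lit 0]))) (.node (nat_lit 865) (.leaf ((nat_lit 195), [nat_lit 1, nat_lit 2, nat_lit 1, nat_lit 0])) (.leaf ((nat_lit 251), [nat_lit 2, nat_lit 0, nat_lit 2, nat_lit 1, nat_lit 2, nat_lit 1]))))))
 (.node (nat_lit 874) (.node (nat_lit 870) (.node (nat_lit 868) (.node (nat_lit 867) (.leaf ((nat_lit 194), [nat_lit 0, nat_lit 2, nat_lit 1, nat_lit 2, nat_lit 1, nat_lit 0])) (.leaf ((nat_lit 43), [nat_lit 2, nat_lit 1, nat_lit 2, nat_lit 0, nat_lit 2, nat_lit 0]))) (.node (nat_lit 869) (.leaf ((nat_lit 278), [nat_lit 0, nat_lit 2, nat_lit 1, nat_lit 2, nat_lit 1, nat_lit 0])) (.leaf ((nat_lit 217), [nat_lit 2, nat_lit 0, nat_lit 2]))))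
 (.node (nat_lit 872) (.node (nat_lit 871) (.leaf ((nat_lit 285), [nat_lit 0, nat_lit 2])) (.leaf ((nat_lit 51), [nat_lit 2, nat_lit 1, nat_lit 2, nat_lit 1, nat_lit 0]))) (.node (nat_lit 873) (.leaf ((nat_lit 302), [nat_lit 1, nat_lit 2, nat_lit 0, nat_lit 2, nat_lit 1])) (.leaf ((nat_lit 72), [nat_lit 2, nat_lit 1])))))
 (.node (nat_lit 878) (.node (nat_lit 876) (.node (nat_lit 875) (.leaf ((nat_lit 72), [nat_lit 0, nat_lit 2, nat_lit 0, nat_lit 2, nat_lit 1])) (.leaf ((nat_lit 43), [nat_lit 1, nat_lit 0, nat_lit 2, nat_lit 1, nat_lit 2, nat_lit 1, nat_lit 0]))) (.node (nat_lit 877) (.leaf ((nat_lit 44), [nat_lit 2, nat_lit 0, nat_lit 2, nat_lit 0])) (.leaf ((nat_lit 301), [nat_lit 1, nat_lit 2, nat_lit 1]))))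
 (.node (nat_lit 880) (.node (nat_lit 879) (.leaf ((nat_lit 211), [nat_lit 1, nat_lit 0, nat_lit 2, nat_lit 0])) (.leaf ((nat_lit 207), [nat_lit 0]))) (.node (nat_lit 881) (.leaf ((nat_lit 115), [nat_lit 2, nat_lit 1, nat_lit 2, nat_lit 0, nat_lit 2, nat_lit 1])) (.leaf ((nat_lit 68), [nat_lit 1, nat_lit 2, nat_lit 0, nat_lit 2])))))))))
 (.node (nat_lit 945) (.node (nat_lit 913) (.node (nat_lit 897) (.node (nat_lit 889) (.node (nat_lit 885) (.node (nat_lit 883) (.leaf ((nat_lit 301), [nat_lit 0, nat_lit 2, nat_lit 1, nat_lit 2])) (.node (nat_lit 884) (.leaf ((nat_lit 44), [])) (.leaf ((nat_lit 212), [nat_lit 1, nat_lit 0, nat_lit 2, nat_lit 0, nat_lit 2, nat_lit 0]))))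
 (.node (nat_lit 887) (.node (nat_lit 886) (.leaf ((nat_lit 190), [nat_lit 1, nat_lit 2, nat_lit 1, nat_lit 2, nat_lit 0])) (.leaf ((nat_lit 47), [nat_lit 0]))) (.node (nat_lit 888) (.leaf ((nat_lit 299), [nat_lit 2, nat_lit 0, nat_lit 2, nat_lit 1, nat_lit 2])) (.leaf ((nat_lit 168), [nat_lit 0, nat_lit 2])))))
 (.node (nat_lit 893) (.node (nat_lit 891) (.node (nat_lit 890) (.leaf ((nat_lit 303), [nat_lit 1, nat_lit 0, nat_lit 2, nat_lit 0, nat_lit 2])) (.leaf ((nat_lit 166), [nat_lit 1, nat_lit 0, nat_lit 2, nat_lit 0]))) (.node (nat_lit 892) (.leaf ((nat_lit 196), [nat_lit 2, nat_lit 1, nat_lit 2, nat_lit 0, nat_lit 2, nat_lit 1, nat_lit 0])) (.leaf ((nat_lit 44), [nat_lit 1, nat_lit 0, nat_lit 2, nat_lit 0, nat_lit 2, nat_lit 0]))))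
 (.node (nat_lit 895) (.node (nat_lit 894) (.leaf ((nat_lit 304), [nat_lit 1, nat_lit 2, nat_lit 0, nat_lit 2, nat_lit 1])) (.leaf ((nat_lit 46), [nat_lit 0, nat_lit 2]))) (.node (nat_lit 896) (.leaf ((nat_lit 45), [nat_lit 0])) (.leaf ((nat_lit 305), [nat_lit 1]))))))
 (.node (nat_lit 905) (.node (nat_lit 901) (.node (nat_lit 899) (.node (nat_lit 898) (.leaf ((nat_lit 298), [nat_lit 2, nat_lit 1, nat_lit 2, nat_lit 0, nat_lit 2, nat_lit 1, nat_lit 0])) (.leaf ((nat_lit 292), []))) (.node (nat_lit 900) (.leaf ((nat_lit 149), [nat_lit 1, nat_lit 2, nat_lit 1, nat_lit 2, nat_lit 1])) (.leaf ((nat_lit 47), [nat_lit 0, nat_lit 2, nat_lit 0, nat_lit 2]))))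
 (.node (nat_lit 903) (.node (nat_lit 902) (.leaf ((nat_lit 305), [nat_lit 1, nat_lit 2, nat_lit 1, nat_lit 2, nat_lit 1])) (.leaf ((nat_lit 45), [nat_lit 0, nat_lit 2, nat_lit 1, nat_lit 2, nat_lit 1]))) (.node (nat_lit 904) (.leaf ((nat_lit 159), [nat_lit 1, nat_lit 2, nat_lit 0])) (.leaf ((nat_lit 300), [nat_lit 1, nat_lit 0, nat_lit 2, nat_lit 1, nat_lit 0])))))
 (.node (nat_lit 909) (.node (nat_lit 907) (.node (nat_lit 906) (.leaf ((nat_lit 215), [nat_lit 2, nat_lit 1, nat_lit 2, nat_lit 1])) (.leaf ((nat_lit 159), [nat_lit 1, nat_lit 0, nat_lit 2, nat_lit 0, nat_lit 2, nat_lit 0]))) (.node (nat_lit 908) (.leaf ((nat_lit 306), [nat_lit 1, nat_lit 0, nat_lit 2, nat_lit 1, nat_lit 2])) (.leaf ((nat_lit 156), [nat_lit 0, nat_lit 2, nat_lit 0]))))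
 (.node (nat_lit 911) (.node (nat_lit 910) (.leaf ((nat_lit 45), [nat_lit 2, nat_lit 0, nat_lit 2, nat_lit 1, nat_lit 0])) (.leaf ((nat_lit 96), [nat_lit 1]))) (.node (nat_lit 912) (.leaf ((nat_lit 141), [nat_lit 2, nat_lit 0, nat_lit 2, nat_lit 1])) (.leaf ((nat_lit 221), [nat_lit 2, nat_lit 0, nat_lit 2, nat_lit 1, nat_lit 2, nat_lit 0])))))))
 (.node (nat_lit 929) (.node (nat_lit 921) (.node (nat_lit 917) (.node (nat_lit 915) (.node (nat_lit 914) (.leaf ((nat_lit 77), [nat_lit 1, nat_lit 2, nat_lit 1, nat_lit 0])) (.leaf ((nat_lit 76), [nat_lit 1, nat_lit 2, nat_lit 1, nat_lit 0]))) (.node (nat_lit 916) (.leaf ((nat_lit 96), [nat_lit 2, nat_lit 1, nat_lit 2, nat_lit 0])) (.leaf ((nat_lit 45), [nat_lit 0, nat_lit 2, nat_lit 1, nat_lit 2, nat_lit 1]))))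
 (.node (nat_lit 919) (.node (nat_lit 918) (.leaf ((nat_lit 112), [nat_lit 1, nat_lit 0])) (.leaf ((nat_lit 305), [nat_lit 1, nat_lit 2, nat_lit 1, nat_lit 0]))) (.node (nat_lit 920) (.leaf ((nat_lit 47), [nat_lit 2, nat_lit 0, nat_lit 2, nat_lit 1, nat_lit 2, nat_lit 1])) (.leaf ((nat_lit 46), [nat_lit 1])))))
 (.node (nat_lit 925) (.node (nat_lit 923) (.node (nat_lit 922) (.leaf ((nat_lit 307), [nat_lit 0, nat_lit 2, nat_lit 0, nat_lit 2])) (.leaf ((nat_lit 303), [nat_lit 1, nat_lit 0, nat_lit 2, nat_lit 1, nat_lit 2]))) (.node (nat_lit 924) (.leaf ((nat_lit 77), [nat_lit 0, nat_lit 2, nat_lit 0, nat_lit 2, nat_lit 1, nat_lit 0])) (.leaf ((nat_lit 308), [nat_lit 1, nat_lit 0, nat_lit 2, nat_lit 0]))))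
 (.node (nat_lit 927) (.node (nat_lit 926) (.leaf ((nat_lit 309), [nat_lit 1, nat_lit 0, nat_lit 2, nat_lit 1, nat_lit 2])) (.leaf ((nat_lit 298), [nat_lit 2, nat_lit 0]))) (.node (nat_lit 928) (.leaf ((nat_lit 46), [nat_lit 2, nat_lit 0, nat_lit 2, nat_lit 1])) (.leaf ((nat_lit 230), [nat_lit 1, nat_lit 2, nat_lit 1, nat_lit 2, nat_lit 1]))))))
 (.node (nat_lit 937) (.node (nat_lit 933) (.node (nat_lit 931) (.node (nat_lit 930) (.leaf ((nat_lit 271), [nat_lit 0, nat_lit 2, nat_lit 0])) (.leaf ((nat_lit 290), [nat_lit 1, nat_lit 0, nat_lit 2, nat_lit 1]))) (.node (nat_lit 932) (.leaf ((nat_lit 310), [nat_lit 0, nat_lit 2, nat_lit 0])) (.leaf ((nat_lit 235), [nat_lit 1, nat_lit 0, nat_lit 2, nat_lit 1]))))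
 (.node (nat_lit 935) (.node (nat_lit 934) (.leaf ((nat_lit 230), [nat_lit 0, nat_lit 2, nat_lit 0])) (.leaf ((nat_lit 46), [nat_lit 1]))) (.node (nat_lit 936) (.leaf ((nat_lit 269), [nat_lit 2, nat_lit 0, nat_lit 2, nat_lit 1])) (.leaf ((nat_lit 48), [nat_lit 1, nat_lit 0])))))
 (.node (nat_lit 941) (.node (nat_lit 939) (.node (nat_lit 938) (.leaf ((nat_lit 311), [nat_lit 2, nat_lit 1, nat_lit 2, nat_lit 0, nat_lit 2])) (.leaf ((nat_lit 151), [nat_lit 0, nat_lit 2, nat_lit 0]))) (.node (nat_lit 940) (.leaf ((nat_lit 47), [nat_lit 2, nat_lit 1])) (.leaf ((nat_lit 190), [nat_lit 1, nat_lit 2]))))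
 (.node (nat_lit 943) (.node (nat_lit 942) (.leaf ((nat_lit 118), [nat_lit 0, nat_lit 2, nat_lit 1, nat_lit 2])) (.leaf ((nat_lit 304), [nat_lit 1, nat_lit 2, nat_lit 1, nat_lit 2]))) (.node (nat_lit 944) (.leaf ((nat_lit 174), [nat_lit 1, nat_lit 0, nat_lit 2, nat_lit 0, nat_lit 2, nat_lit 1, nat_lit 0])) (.leaf ((nat_lit 173), [nat_lit 2, nat_lit 1, nat_lit 2]))))))))
 (.node (nat_lit 976) (.node (nat_lit 960) (.node (nat_lit 952) (.node (nat_lit 948) (.node (nat_lit 946) (.leaf ((nat_lit 275), [nat_lit 1, nat_lit 0, nat_lit 2, nat_lit 1, nat_lit 2])) (.node (nat_lit 947) (.leaf ((nat_lit 299), [nat_lit 2, nat_lit 0, nat_lit 2, nat_lit 1, nat_lit 2])) (.leaf ((nat_lit 47), []))))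
 (.node (nat_lit 950) (.node (nat_lit 949) (.leaf ((nat_lit 311), [nat_lit 0, nat_lit 2, nat_lit 1, nat_lit 2])) (.leaf ((nat_lit 48), [nat_lit 0, nat_lit 2, nat_lit 0]))) (.node (nat_lit 951) (.leaf ((nat_lit 312), [nat_lit 1, nat_lit 0, nat_lit 2, nat_lit 1, nat_lit 2])) (.leaf ((nat_lit 309), [nat_lit 1, nat_lit 0, nat_lit 2, nat_lit 1, nat_lit 2])))))
 (.node (nat_lit 956) (.node (nat_lit 954) (.node (nat_lit 953) (.leaf ((nat_lit 313), [nat_lit 1, nat_lit 0, nat_lit 2, nat_lit 1, nat_lit 2, nat_lit 1])) (.leaf ((nat_lit 55), [nat_lit 1, nat_lit 2, nat_lit 1, nat_lit 2]))) (.node (nat_lit 955) (.leaf ((nat_lit 151), [nat_lit 0, nat_lit 2, nat_lit 0, nat_lit 2, nat_lit 1, nat_lit 0])) (.leaf ((nat_lit 312), [nat_lit 1, nat_lit 2, nat_lit 1, nat_lit 2, nat_lit 1]))))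
 (.node (nat_lit 958) (.node (nat_lit 957) (.leaf ((nat_lit 48), [nat_lit 1, nat_lit 0, nat_lit 2, nat_lit 1, nat_lit 0])) (.leaf ((nat_lit 150), [nat_lit 0, nat_lit 2, nat_lit 1]))) (.node (nat_lit 959) (.leaf ((nat_lit 142), [nat_lit 1, nat_lit 0, nat_lit 2, nat_lit 1, nat_lit 2])) (.leaf ((nat_lit 159), [nat_lit 2, nat_lit 1, nat_lit 2]))))))
 (.node (nat_lit 968) (.node (nat_lit 964) (.node (nat_lit 962) (.node (nat_lit 961) (.leaf ((nat_lit 112), [nat_lit 0, nat_lit 2, nat_lit 1, nat_lit 2, nat_lit 0])) (.leaf ((nat_lit 111), [nat_lit 1, nat_lit 0, nat_lit 2, nat_lit 0]))) (.node (nat_lit 963) (.leaf ((nat_lit 110), [nat_lit 1, nat_lit 2, nat_lit 0])) (.leaf ((nat_lit 49), [nat_lit 1, nat_lit 2, nat_lit 1, nat_lit 2, nat_lit 1]))))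
 (.node (nat_lit 966) (.node (nat_lit 965) (.leaf ((nat_lit 48), [])) (.leaf ((nat_lit 314), [nat_lit 2, nat_lit 1, nat_lit 2, nat_lit 0, nat_lit 2, nat_lit 1, nat_lit 0]))) (.node (nat_lit 967) (.leaf ((nat_lit 59), [nat_lit 0, nat_lit 2])) (.leaf ((nat_lit 58), [nat_lit 2, nat_lit 0, nat_lit 2, nat_lit 1, nat_lit 2])))))
 (.node (nat_lit 972) (.node (nat_lit 970) (.node (nat_lit 969) (.leaf ((nat_lit 315), [nat_lit 1, nat_lit 0, nat_lit 2, nat_lit 1, nat_lit 2, nat_lit 0])) (.leaf ((nat_lit 139), [nat_lit 2, nat_lit 0, nat_lit 2, nat_lit 1, nat_lit 2, nat_lit 1]))) (.node (nat_lit 971) (.leaf ((nat_lit 139), [nat_lit 0, nat_lit 2, nat_lit 0, nat_lit 2, nat_lit 1, nat_lit 0])) (.leaf ((nat_lit 48), [nat_lit 1, nat_lit 2, nat_lit 1, nat_lit 2, nat_lit 1]))))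
 (.node (nat_lit 974) (.node (nat_lit 973) (.leaf ((nat_lit 49), [nat_lit 1, nat_lit 2, nat_lit 1])) (.leaf ((nat_lit 138), [nat_lit 2, nat_lit 0, nat_lit 2, nat_lit 1, nat_lit 0]))) (.node (nat_lit 975) (.leaf ((nat_lit 316), [nat_lit 1, nat_lit 0, nat_lit 2, nat_lit 1, nat_lit 2, nat_lit 1])) (.leaf ((nat_lit 299), [nat_lit 1, nat_lit 0, nat_lit 2, nat_lit 1, nat_lit 2, nat_lit 1])))))))
 (.node (nat_lit 992) (.node (nat_lit 984) (.node (nat_lit 980) (.node (nat_lit 978) (.node (nat_lit 977) (.leaf ((nat_lit 275), [nat_lit 0, nat_lit 2, nat_lit 0, nat_lit 2, nat_lit 1])) (.leaf ((nat_lit 317), [nat_lit 0, nat_lit 2, nat_lit 1]))) (.node (nat_lit 979) (.leaf ((nat_lit 138), [nat_lit 1, nat_lit 2, nat_lit 0, nat_lit 2, nat_lit 0])) (.leaf ((nat_lit 49), [nat_lit 0, nat_lit 2, nat_lit 1, nat_lit 2, nat_lit 1, nat_lit 0]))))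
 (.node (nat_lit 982) (.node (nat_lit 981) (.leaf ((nat_lit 89), [nat_lit 1, nat_lit 0, nat_lit 2, nat_lit 1, nat_lit 2, nat_lit 1])) (.leaf ((nat_lit 318), [nat_lit 1, nat_lit 2, nat_lit 1, nat_lit 2, nat_lit 0]))) (.node (nat_lit 983) (.leaf ((nat_lit 310), [nat_lit 1, nat_lit 0, nat_lit 2, nat_lit 1, nat_lit 0])) (.leaf ((nat_lit 319), [nat_lit 2, nat_lit 0, nat_lit 2])))))
 (.node (nat_lit 988) (.node (nat_lit 986) (.node (nat_lit 985) (.leaf ((nat_lit 316), [nat_lit 1, nat_lit 2, nat_lit 1, nat_lit 2, nat_lit 1, nat_lit 0])) (.leaf ((nat_lit 89), [nat_lit 0, nat_lit 2, nat_lit 0, nat_lit 2, nat_lit 1, nat_lit 0]))) (.node (nat_lit 987) (.leaf ((nat_lit 49), [nat_lit 2, nat_lit 0, nat_lit 2, nat_lit 1, nat_lit 2, nat_lit 1, nat_lit 0])) (.leaf ((nat_lit 212), [nat_lit 1, nat_lit 2, nat_lit 1]))))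
 (.node (nat_lit 990) (.node (nat_lit 989) (.leaf ((nat_lit 212), [nat_lit 2, nat_lit 1, nat_lit 2, nat_lit 1])) (.leaf ((nat_lit 320), [nat_lit 1, nat_lit 0, nat_lit 2, nat_lit 1, nat_lit 2, nat_lit 1]))) (.node (nat_lit 991) (.leaf ((nat_lit 96), [nat_lit 0, nat_lit 2])) (.leaf ((nat_lit 92), [nat_lit 0]))))))
 (.node (nat_lit 1000) (.node (nat_lit 996) (.node (nat_lit 994) (.node (nat_lit 993) (.leaf ((nat_lit 91), [nat_lit 2, nat_lit 0, nat_lit 2, nat_lit 1, nat_lit 2])) (.leaf ((nat_lit 301), [nat_lit 0, nat_lit 2, nat_lit 0, nat_lit 2, nat_lit 1, nat_lit 0]))) (.node (nat_lit 995) (.leaf ((nat_lit 304), [nat_lit 0, nat_lit 2, nat_lit 0])) (.leaf ((nat_lit 49), [nat_lit 2, nat_lit 0, nat_lit 2, nat_lit 1, nat_lit 2, nat_lit 1]))))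
 (.node (nat_lit 998) (.node (nat_lit 997) (.leaf ((nat_lit 50), [nat_lit 1, nat_lit 0, nat_lit 2, nat_lit 0, nat_lit 2, nat_lit 1])) (.leaf ((nat_lit 248), [nat_lit 1, nat_lit 0, nat_lit 2, nat_lit 0, nat_lit 2, nat_lit 1]))) (.node (nat_lit 999) (.leaf ((nat_lit 148), [nat_lit 0, nat_lit 2, nat_lit 1, nat_lit 0])) (.leaf ((nat_lit 217), [nat_lit 1, nat_lit 0, nat_lit 2, nat_lit 1, nat_lit 2, nat_lit 1])))))
 (.node (nat_lit 1004) (.node (nat_lit 1002) (.node (nat_lit 1001) (.leaf ((nat_lit 216), [nat_lit 1, nat_lit 2, nat_lit 1, nat_lit 0])) (.leaf ((nat_lit 260), [nat_lit 0, nat_lit 2, nat_lit 1, nat_lit 0]))) (.node (nat_lit 1003) (.leaf ((nat_lit 248), [nat_lit 1])) (.leaf ((nat_lit 50), [nat_lit 1]))))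
 (.node (nat_lit 1006) (.node (nat_lit 1005) (.leaf ((nat_lit 237), [nat_lit 2, nat_lit 0, nat_lit 2])) (.leaf ((nat_lit 68), [nat_lit 1, nat_lit 0, nat_lit 2, nat_lit 0, nat_lit 2, nat_lit 1]))) (.node (nat_lit 1007) (.leaf ((nat_lit 68), [nat_lit 0])) (.leaf ((nat_lit 305), [nat_lit 2, nat_lit 1, nat_lit 2, nat_lit 0]))))))))))
noncomputable def n2Wd_4 : Tr (ℕ × List ℕ) := (.node (nat_lit 1134) (.node (nat_lit 1071) (.node (nat_lit 1039) (.node (nat_lit 1023) (.node (nat_lit 1015) (.node (nat_lit 1011) (.node (nat_lit 1009) (.leaf ((nat_lit 148), [nat_lit 2, nat_lit 0])) (.node (nat_lit 1010) (.leaf ((nat_lit 237), [nat_lit 2, nat_lit 0])) (.leaf ((nat_lit 50), [nat_lit 1, nat_lit 2]))))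
 (.node (nat_lit 1013) (.node (nat_lit 1012) (.leaf ((nat_lit 244), [nat_lit 1, nat_lit 2, nat_lit 1, nat_lit 2])) (.leaf ((nat_lit 321), [nat_lit 0, nat_lit 2, nat_lit 0, nat_lit 2, nat_lit 0]))) (.node (nat_lit 1014) (.leaf ((nat_lit 322), [nat_lit 1, nat_lit 2, nat_lit 0, nat_lit 2, nat_lit 0])) (.leaf ((nat_lit 102), [nat_lit 1, nat_lit 0])))))
 (.node (nat_lit 1019) (.node (nat_lit 1017) (.node (nat_lit 1016) (.leaf ((nat_lit 69), [nat_lit 0])) (.leaf ((nat_lit 280), [nat_lit 1, nat_lit 0, nat_lit 2, nat_lit 1, nat_lit 2, nat_lit 1]))) (.node (nat_lit 1018) (.leaf ((nat_lit 51), [nat_lit 1, nat_lit 2, nat_lit 0, nat_lit 2, nat_lit 1])) (.leaf ((nat_lit 50), [nat_lit 1, nat_lit 2, nat_lit 0, nat_lit 2]))))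
 (.node (nat_lit 1021) (.node (nat_lit 1020) (.leaf ((nat_lit 109), [nat_lit 2, nat_lit 0, nat_lit 2])) (.leaf ((nat_lit 51), [nat_lit 1, nat_lit 2, nat_lit 1, nat_lit 0]))) (.node (nat_lit 1022) (.leaf ((nat_lit 285), [nat_lit 2, nat_lit 0, nat_lit 2, nat_lit 1, nat_lit 2, nat_lit 1])) (.leaf ((nat_lit 65), [nat_lit 2, nat_lit 1]))))))
 (.node (nat_lit 1031) (.node (nat_lit 1027) (.node (nat_lit 1025) (.node (nat_lit 1024) (.leaf ((nat_lit 209), [nat_lit 2, nat_lit 1])) (.leaf ((nat_lit 208), [nat_lit 1, nat_lit 0, nat_lit 2, nat_lit 0, nat_lit 2]))) (.node (nat_lit 1026) (.leaf ((nat_lit 183), [nat_lit 2, nat_lit 0, nat_lit 2])) (.leaf ((nat_lit 65), [nat_lit 0, nat_lit 2, nat_lit 1, nat_lit 2]))))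
 (.node (nat_lit 1029) (.node (nat_lit 1028) (.leaf ((nat_lit 302), [])) (.leaf ((nat_lit 51), [nat_lit 1, nat_lit 0, nat_lit 2, nat_lit 1, nat_lit 2, nat_lit 1, nat_lit 0]))) (.node (nat_lit 1030) (.leaf ((nat_lit 254), [nat_lit 1, nat_lit 2, nat_lit 0, nat_lit 2, nat_lit 0])) (.leaf ((nat_lit 60), [nat_lit 1, nat_lit 0, nat_lit 2, nat_lit 1, nat_lit 0])))))
 (.node (nat_lit 1035) (.node (nat_lit 1033) (.node (nat_lit 1032) (.leaf ((nat_lit 282), [nat_lit 1, nat_lit 2, nat_lit 0, nat_lit 2, nat_lit 0])) (.leaf ((nat_lit 52), [nat_lit 0, nat_lit 2, nat_lit 0, nat_lit 2, nat_lit 1, nat_lit 0]))) (.node (nat_lit 1034) (.leaf ((nat_lit 270), [nat_lit 0, nat_lit 2, nat_lit 0, nat_lit 2, nat_lit 0])) (.leaf ((nat_lit 219), [nat_lit 2, nat_lit 1, nat_lit 0]))))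
 (.node (nat_lit 1037) (.node (nat_lit 1036) (.leaf ((nat_lit 193), [nat_lit 0, nat_lit 2, nat_lit 0, nat_lit 2])) (.leaf ((nat_lit 203), [nat_lit 1, nat_lit 0, nat_lit 2, nat_lit 0, nat_lit 2]))) (.node (nat_lit 1038) (.leaf ((nat_lit 172), [nat_lit 2, nat_lit 0, nat_lit 2])) (.leaf ((nat_lit 270), [nat_lit 0])))))))
 (.node (nat_lit 1055) (.node (nat_lit 1047) (.node (nat_lit 1043) (.node (nat_lit 1041) (.node (nat_lit 1040) (.leaf ((nat_lit 52), [nat_lit 1, nat_lit 0, nat_lit 2, nat_lit 0, nat_lit 2, nat_lit 1])) (.leaf ((nat_lit 157), [nat_lit 2, nat_lit 1, nat_lit 2]))) (.node (nat_lit 1042) (.leaf ((nat_lit 320), [nat_lit 1, nat_lit 0, nat_lit 2])) (.leaf ((nat_lit 315), [nat_lit 1, nat_lit 0, nat_lit 2, nat_lit 0, nat_lit 2, nat_lit 0]))))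
 (.node (nat_lit 1045) (.node (nat_lit 1044) (.leaf ((nat_lit 257), [nat_lit 1, nat_lit 0, nat_lit 2, nat_lit 1, nat_lit 2, nat_lit 0])) (.leaf ((nat_lit 219), [nat_lit 1, nat_lit 0]))) (.node (nat_lit 1046) (.leaf ((nat_lit 157), [nat_lit 1, nat_lit 0, nat_lit 2, nat_lit 0, nat_lit 2, nat_lit 1, nat_lit 0])) (.leaf ((nat_lit 52), [nat_lit 0, nat_lit 2, nat_lit 1])))))
 (.node (nat_lit 1051) (.node (nat_lit 1049) (.node (nat_lit 1048) (.leaf ((nat_lit 323), [nat_lit 2, nat_lit 1, nat_lit 2, nat_lit 0, nat_lit 2, nat_lit 1, nat_lit 0])) (.leaf ((nat_lit 314), [nat_lit 2, nat_lit 0, nat_lit 2, nat_lit 1, nat_lit 2, nat_lit 1]))) (.node (nat_lit 1050) (.leaf ((nat_lit 204), [nat_lit 0, nat_lit 2, nat_lit 0, nat_lit 2, nat_lit 1, nat_lit 0])) (.leaf ((nat_lit 324), [nat_lit 1, nat_lit 2, nat_lit 1, nat_lit 2]))))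
 (.node (nat_lit 1053) (.node (nat_lit 1052) (.leaf ((nat_lit 291), [nat_lit 1, nat_lit 0, nat_lit 2, nat_lit 1, nat_lit 2])) (.leaf ((nat_lit 193), [nat_lit 0, nat_lit 2, nat_lit 0, nat_lit 2, nat_lit 1]))) (.node (nat_lit 1054) (.leaf ((nat_lit 52), [])) (.leaf ((nat_lit 293), [nat_lit 1, nat_lit 2, nat_lit 1, nat_lit 0]))))))
 (.node (nat_lit 1063) (.node (nat_lit 1059) (.node (nat_lit 1057) (.node (nat_lit 1056) (.leaf ((nat_lit 276), [nat_lit 0, nat_lit 2, nat_lit 1, nat_lit 2])) (.leaf ((nat_lit 313), [nat_lit 2, nat_lit 0]))) (.node (nat_lit 1058) (.leaf ((nat_lit 325), [nat_lit 1, nat_lit 2, nat_lit 0, nat_lit 2, nat_lit 1, nat_lit 0])) (.leaf ((nat_lit 228), [nat_lit 2, nat_lit 0, nat_lit 2, nat_lit 1, nat_lit 2, nat_lit 1, nat_lit 0]))))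
 (.node (nat_lit 1061) (.node (nat_lit 1060) (.leaf ((nat_lit 293), [nat_lit 1, nat_lit 0, nat_lit 2, nat_lit 0, nat_lit 2, nat_lit 1, nat_lit 0])) (.leaf ((nat_lit 52), [nat_lit 1, nat_lit 2, nat_lit 0, nat_lit 2, nat_lit 1]))) (.node (nat_lit 1062) (.leaf ((nat_lit 96), [nat_lit 1, nat_lit 2, nat_lit 0, nat_lit 2])) (.leaf ((nat_lit 54), [nat_lit 1, nat_lit 2, nat_lit 1, nat_lit 0])))))
 (.node (nat_lit 1067) (.node (nat_lit 1065) (.node (nat_lit 1064) (.leaf ((nat_lit 53), [nat_lit 0, nat_lit 2, nat_lit 0, nat_lit 2, nat_lit 1])) (.leaf ((nat_lit 326), [nat_lit 1]))) (.node (nat_lit 1066) (.leaf ((nat_lit 125), [nat_lit 2, nat_lit 0, nat_lit 2, nat_lit 1, nat_lit 2, nat_lit 1])) (.leaf ((nat_lit 125), [nat_lit 2, nat_lit 1, nat_lit 0]))))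
 (.node (nat_lit 1069) (.node (nat_lit 1068) (.leaf ((nat_lit 238), [nat_lit 1, nat_lit 0, nat_lit 2, nat_lit 0, nat_lit 2, nat_lit 0])) (.leaf ((nat_lit 55), [nat_lit 2, nat_lit 0, nat_lit 2, nat_lit 1, nat_lit 2, nat_lit 1]))) (.node (nat_lit 1070) (.leaf ((nat_lit 326), [nat_lit 1, nat_lit 0, nat_lit 2, nat_lit 0, nat_lit 2, nat_lit 1, nat_lit 0])) (.leaf ((nat_lit 53), [nat_lit 1, nat_lit 0, nat_lit 2, nat_lit 1, nat_lit 2, nat_lit 0]))))))))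
 (.node (nat_lit 1102) (.node (nat_lit 1086) (.node (nat_lit 1078) (.node (nat_lit 1074) (.node (nat_lit 1072) (.leaf ((nat_lit 268), [nat_lit 1, nat_lit 2, nat_lit 1, nat_lit 2, nat_lit 1, nat_lit 0])) (.node (nat_lit 1073) (.leaf ((nat_lit 202), [nat_lit 1, nat_lit 0, nat_lit 2])) (.leaf ((nat_lit 192), [nat_lit 1, nat_lit 2, nat_lit 0, nat_lit 2, nat_lit 1]))))
 (.node (nat_lit 1076) (.node (nat_lit 1075) (.leaf ((nat_lit 118), [nat_lit 1])) (.leaf ((nat_lit 327), [nat_lit 1, nat_lit 2, nat_lit 0, nat_lit 2, nat_lit 1, nat_lit 0]))) (.node (nat_lit 1077) (.leaf ((nat_lit 116), [nat_lit 0, nat_lit 2, nat_lit 1, nat_lit 2])) (.leaf ((nat_lit 62), [nat_lit 1])))))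
 (.node (nat_lit 1082) (.node (nat_lit 1080) (.node (nat_lit 1079) (.leaf ((nat_lit 92), [nat_lit 2, nat_lit 0, nat_lit 2, nat_lit 1, nat_lit 0])) (.leaf ((nat_lit 53), [nat_lit 0, nat_lit 2, nat_lit 1, nat_lit 0]))) (.node (nat_lit 1081) (.leaf ((nat_lit 326), [nat_lit 1])) (.leaf ((nat_lit 55), [nat_lit 1, nat_lit 2, nat_lit 1, nat_lit 2, nat_lit 1]))))
 (.node (nat_lit 1084) (.node (nat_lit 1083) (.leaf ((nat_lit 54), [nat_lit 1, nat_lit 2, nat_lit 1, nat_lit 0])) (.leaf ((nat_lit 137), [nat_lit 2, nat_lit 1, nat_lit 2, nat_lit 1]))) (.node (nat_lit 1085) (.leaf ((nat_lit 294), [nat_lit 2, nat_lit 0, nat_lit 2, nat_lit 1, nat_lit 0])) (.leaf ((nat_lit 328), [nat_lit 0, nat_lit 2, nat_lit 1, nat_lit 2]))))))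
 (.node (nat_lit 1094) (.node (nat_lit 1090) (.node (nat_lit 1088) (.node (nat_lit 1087) (.leaf ((nat_lit 321), [nat_lit 2, nat_lit 0, nat_lit 2, nat_lit 1, nat_lit 2, nat_lit 0])) (.leaf ((nat_lit 300), [nat_lit 1, nat_lit 2, nat_lit 1, nat_lit 0]))) (.node (nat_lit 1089) (.leaf ((nat_lit 245), [nat_lit 1, nat_lit 2])) (.leaf ((nat_lit 251), [nat_lit 1, nat_lit 0, nat_lit 2, nat_lit 1]))))
 (.node (nat_lit 1092) (.node (nat_lit 1091) (.leaf ((nat_lit 272), [nat_lit 0, nat_lit 2, nat_lit 1])) (.leaf ((nat_lit 54), [nat_lit 0, nat_lit 2, nat_lit 0, nat_lit 2, nat_lit 1, nat_lit 0]))) (.node (nat_lit 1093) (.leaf ((nat_lit 103), [nat_lit 1, nat_lit 0])) (.leaf ((nat_lit 57), [nat_lit 1, nat_lit 2, nat_lit 1, nat_lit 2, nat_lit 0])))))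
 (.node (nat_lit 1098) (.node (nat_lit 1096) (.node (nat_lit 1095) (.leaf ((nat_lit 244), [])) (.leaf ((nat_lit 55), [nat_lit 1, nat_lit 2]))) (.node (nat_lit 1097) (.leaf ((nat_lit 198), [nat_lit 1, nat_lit 0, nat_lit 2, nat_lit 1, nat_lit 2, nat_lit 1, nat_lit 0])) (.leaf ((nat_lit 188), [nat_lit 1, nat_lit 2, nat_lit 0, nat_lit 2]))))
 (.node (nat_lit 1100) (.node (nat_lit 1099) (.leaf ((nat_lit 231), [nat_lit 2, nat_lit 1, nat_lit 0])) (.leaf ((nat_lit 295), [nat_lit 2, nat_lit 1, nat_lit 2, nat_lit 0, nat_lit 2, nat_lit 1, nat_lit 0]))) (.node (nat_lit 1101) (.leaf ((nat_lit 129), [])) (.leaf ((nat_lit 198), [nat_lit 1])))))))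
 (.node (nat_lit 1118) (.node (nat_lit 1110) (.node (nat_lit 1106) (.node (nat_lit 1104) (.node (nat_lit 1103) (.leaf ((nat_lit 55), [nat_lit 0, nat_lit 2, nat_lit 0, nat_lit 2, nat_lit 0])) (.leaf ((nat_lit 170), [nat_lit 2, nat_lit 0, nat_lit 2]))) (.node (nat_lit 1105) (.leaf ((nat_lit 90), [nat_lit 1, nat_lit 0])) (.leaf ((nat_lit 98), [nat_lit 0]))))
 (.node (nat_lit 1108) (.node (nat_lit 1107) (.leaf ((nat_lit 56), [nat_lit 2, nat_lit 0, nat_lit 2, nat_lit 0])) (.leaf ((nat_lit 89), [nat_lit 0, nat_lit 2, nat_lit 1, nat_lit 2]))) (.node (nat_lit 1109) (.leaf ((nat_lit 129), [nat_lit 1, nat_lit 2, nat_lit 0, nat_lit 2, nat_lit 1])) (.leaf ((nat_lit 281), [nat_lit 1, nat_lit 2, nat_lit 0, nat_lit 2])))))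
 (.node (nat_lit 1114) (.node (nat_lit 1112) (.node (nat_lit 1111) (.leaf ((nat_lit 95), [nat_lit 1, nat_lit 2, nat_lit 1, nat_lit 0])) (.leaf ((nat_lit 329), [nat_lit 0, nat_lit 2, nat_lit 0, nat_lit 2, nat_lit 1]))) (.node (nat_lit 1113) (.leaf ((nat_lit 278), [nat_lit 2, nat_lit 1, nat_lit 0])) (.leaf ((nat_lit 231), [nat_lit 2, nat_lit 1, nat_lit 0]))))
 (.node (nat_lit 1116) (.node (nat_lit 1115) (.leaf ((nat_lit 105), [nat_lit 2, nat_lit 1, nat_lit 2, nat_lit 0, nat_lit 2, nat_lit 1, nat_lit 0])) (.leaf ((nat_lit 56), [nat_lit 0, nat_lit 2, nat_lit 0]))) (.node (nat_lit 1117) (.leaf ((nat_lit 57), [nat_lit 2])) (.leaf ((nat_lit 103), [nat_lit 2, nat_lit 1, nat_lit 2, nat_lit 1]))))))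
 (.node (nat_lit 1126) (.node (nat_lit 1122) (.node (nat_lit 1120) (.node (nat_lit 1119) (.leaf ((nat_lit 132), [nat_lit 0, nat_lit 2])) (.leaf ((nat_lit 115), [nat_lit 1, nat_lit 0, nat_lit 2, nat_lit 1, nat_lit 2]))) (.node (nat_lit 1121) (.leaf ((nat_lit 207), [nat_lit 1, nat_lit 2, nat_lit 0])) (.leaf ((nat_lit 310), [nat_lit 1, nat_lit 2, nat_lit 1, nat_lit 2, nat_lit 1, nat_lit 0]))))
 (.node (nat_lit 1124) (.node (nat_lit 1123) (.leaf ((nat_lit 206), [nat_lit 1, nat_lit 0, nat_lit 2, nat_lit 0, nat_lit 2])) (.leaf ((nat_lit 205), [nat_lit 1, nat_lit 0, nat_lit 2]))) (.node (nat_lit 1125) (.leaf ((nat_lit 330), [nat_lit 1, nat_lit 2, nat_lit 1, nat_lit 2, nat_lit 0])) (.leaf ((nat_lit 138), [nat_lit 2, nat_lit 0, nat_lit 2, nat_lit 1, nat_lit 2, nat_lit 1])))))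
 (.node (nat_lit 1130) (.node (nat_lit 1128) (.node (nat_lit 1127) (.leaf ((nat_lit 57), [nat_lit 0, nat_lit 2, nat_lit 0])) (.leaf ((nat_lit 104), [nat_lit 2, nat_lit 1, nat_lit 2, nat_lit 0, nat_lit 2, nat_lit 1, nat_lit 0]))) (.node (nat_lit 1129) (.leaf ((nat_lit 60), [nat_lit 2, nat_lit 1, nat_lit 2, nat_lit 0, nat_lit 2, nat_lit 1, nat_lit 0])) (.leaf ((nat_lit 315), [nat_lit 2]))))
 (.node (nat_lit 1132) (.node (nat_lit 1131) (.leaf ((nat_lit 58), [nat_lit 1, nat_lit 2, nat_lit 1, nat_lit 2])) (.leaf ((nat_lit 330), [nat_lit 1, nat_lit 2, nat_lit 1, nat_lit 2, nat_lit 1, nat_lit 0]))) (.node (nat_lit 1133) (.leaf ((nat_lit 325), [nat_lit 0, nat_lit 2, nat_lit 0, nat_lit 2, nat_lit 1, nat_lit 0])) (.leaf ((nat_lit 182), [nat_lit 2, nat_lit 0, nat_lit 2, nat_lit 1])))))))))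
 (.node (nat_lit 1197) (.node (nat_lit 1165) (.node (nat_lit 1149) (.node (nat_lit 1141) (.node (nat_lit 1137) (.node (nat_lit 1135) (.leaf ((nat_lit 133), [nat_lit 1, nat_lit 0, nat_lit 2, nat_lit 1, nat_lit 2, nat_lit 1])) (.node (nat_lit 1136) (.leaf ((nat_lit 328), [nat_lit 1, nat_lit 2, nat_lit 0, nat_lit 2, nat_lit 1, nat_lit 0])) (.leaf ((nat_lit 331), [nat_lit 2, nat_lit 1, nat_lit 2, nat_lit 0, nat_lit 2, nat_lit 1]))))
 (.node (nat_lit 1139) (.node (nat_lit 1138) (.leaf ((nat_lit 95), [nat_lit 1, nat_lit 2, nat_lit 0, nat_lit 2, nat_lit 1])) (.leaf ((nat_lit 100), [nat_lit 2, nat_lit 0, nat_lit 2, nat_lit 1, nat_lit 0]))) (.node (nat_lit 1140) (.leaf ((nat_lit 58), [nat_lit 2, nat_lit 0, nat_lit 2, nat_lit 0])) (.leaf ((nat_lit 315), [nat_lit 1, nat_lit 0])))))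
 (.node (nat_lit 1145) (.node (nat_lit 1143) (.node (nat_lit 1142) (.leaf ((nat_lit 60), [nat_lit 1, nat_lit 2, nat_lit 1, nat_lit 2, nat_lit 1])) (.leaf ((nat_lit 59), [nat_lit 2, nat_lit 0, nat_lit 2, nat_lit 1, nat_lit 2, nat_lit 1, nat_lit 0]))) (.node (nat_lit 1144) (.leaf ((nat_lit 147), [nat_lit 0, nat_lit 2, nat_lit 1, nat_lit 2, nat_lit 1])) (.leaf ((nat_lit 156), [nat_lit 2, nat_lit 1]))))
 (.node (nat_lit 1147) (.node (nat_lit 1146) (.leaf ((nat_lit 327), [nat_lit 2, nat_lit 1, nat_lit 2, nat_lit 0])) (.leaf ((nat_lit 310), [nat_lit 1, nat_lit 2, nat_lit 1, nat_lit 2]))) (.node (nat_lit 1148) (.leaf ((nat_lit 290), [nat_lit 1, nat_lit 2])) (.leaf ((nat_lit 106), [nat_lit 2, nat_lit 0, nat_lit 2]))))))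
 (.node (nat_lit 1157) (.node (nat_lit 1153) (.node (nat_lit 1151) (.node (nat_lit 1150) (.leaf ((nat_lit 253), [nat_lit 1, nat_lit 2, nat_lit 1, nat_lit 0])) (.leaf ((nat_lit 74), [nat_lit 2, nat_lit 0, nat_lit 2, nat_lit 1]))) (.node (nat_lit 1152) (.leaf ((nat_lit 59), [nat_lit 1])) (.leaf ((nat_lit 97), [nat_lit 1, nat_lit 0, nat_lit 2, nat_lit 1, nat_lit 2, nat_lit 1, nat_lit 0]))))
 (.node (nat_lit 1155) (.node (nat_lit 1154) (.leaf ((nat_lit 61), [nat_lit 1, nat_lit 0, nat_lit 2, nat_lit 1, nat_lit 2, nat_lit 1, nat_lit 0])) (.leaf ((nat_lit 318), [nat_lit 0, nat_lit 2, nat_lit 1, nat_lit 2, nat_lit 1]))) (.node (nat_lit 1156) (.leaf ((nat_lit 60), [nat_lit 1, nat_lit 0, nat_lit 2, nat_lit 0, nat_lit 2])) (.leaf ((nat_lit 254), [nat_lit 1, nat_lit 2, nat_lit 1, nat_lit 2, nat_lit 1, nat_lit 0])))))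
 (.node (nat_lit 1161) (.node (nat_lit 1159) (.node (nat_lit 1158) (.leaf ((nat_lit 178), [nat_lit 1, nat_lit 2, nat_lit 0, nat_lit 2, nat_lit 1])) (.leaf ((nat_lit 323), [nat_lit 2, nat_lit 0, nat_lit 2, nat_lit 1]))) (.node (nat_lit 1160) (.leaf ((nat_lit 238), [nat_lit 2, nat_lit 0, nat_lit 2, nat_lit 1])) (.leaf ((nat_lit 175), [nat_lit 1, nat_lit 2, nat_lit 0, nat_lit 2, nat_lit 0]))))
 (.node (nat_lit 1163) (.node (nat_lit 1162) (.leaf ((nat_lit 172), [nat_lit 2, nat_lit 0, nat_lit 2, nat_lit 0])) (.leaf ((nat_lit 246), [nat_lit 2, nat_lit 1, nat_lit 2, nat_lit 0]))) (.node (nat_lit 1164) (.leaf ((nat_lit 60), [nat_lit 1, nat_lit 2, nat_lit 0, nat_lit 2, nat_lit 1])) (.leaf ((nat_lit 61), [nat_lit 1, nat_lit 2, nat_lit 0, nat_lit 2])))))))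
 (.node (nat_lit 1181) (.node (nat_lit 1173) (.node (nat_lit 1169) (.node (nat_lit 1167) (.node (nat_lit 1166) (.leaf ((nat_lit 97), [nat_lit 1, nat_lit 2, nat_lit 0, nat_lit 2])) (.leaf ((nat_lit 144), [nat_lit 1, nat_lit 0, nat_lit 2, nat_lit 1, nat_lit 2, nat_lit 0]))) (.node (nat_lit 1168) (.leaf ((nat_lit 77), [nat_lit 2, nat_lit 0, nat_lit 2, nat_lit 0])) (.leaf ((nat_lit 262), [nat_lit 2, nat_lit 1, nat_lit 2, nat_lit 0, nat_lit 2, nat_lit 1, nat_lit 0]))))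
 (.node (nat_lit 1171) (.node (nat_lit 1170) (.leaf ((nat_lit 321), [nat_lit 2, nat_lit 1, nat_lit 2, nat_lit 0, nat_lit 2, nat_lit 1])) (.leaf ((nat_lit 144), [nat_lit 1, nat_lit 0, nat_lit 2, nat_lit 1]))) (.node (nat_lit 1172) (.leaf ((nat_lit 318), [nat_lit 1, nat_lit 0, nat_lit 2, nat_lit 1, nat_lit 2])) (.leaf ((nat_lit 61), [nat_lit 1, nat_lit 0, nat_lit 2, nat_lit 0, nat_lit 2, nat_lit 0])))))
 (.node (nat_lit 1177) (.node (nat_lit 1175) (.node (nat_lit 1174) (.leaf ((nat_lit 111), [nat_lit 1, nat_lit 2, nat_lit 0, nat_lit 2, nat_lit 1])) (.leaf ((nat_lit 329), [nat_lit 0, nat_lit 2, nat_lit 0]))) (.node (nat_lit 1176) (.leaf ((nat_lit 106), [nat_lit 2, nat_lit 0, nat_lit 2, nat_lit 0])) (.leaf ((nat_lit 261), [nat_lit 1, nat_lit 0]))))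
 (.node (nat_lit 1179) (.node (nat_lit 1178) (.leaf ((nat_lit 260), [nat_lit 1, nat_lit 0, nat_lit 2, nat_lit 1, nat_lit 2])) (.leaf ((nat_lit 268), [nat_lit 1, nat_lit 0]))) (.node (nat_lit 1180) (.leaf ((nat_lit 148), [nat_lit 2, nat_lit 0, nat_lit 2, nat_lit 1, nat_lit 2, nat_lit 1])) (.leaf ((nat_lit 61), [nat_lit 0, nat_lit 2, nat_lit 0, nat_lit 2, nat_lit 1, nat_lit 0]))))))
 (.node (nat_lit 1189) (.node (nat_lit 1185) (.node (nat_lit 1183) (.node (nat_lit 1182) (.leaf ((nat_lit 73), [nat_lit 2, nat_lit 1, nat_lit 2, nat_lit 0])) (.leaf ((nat_lit 63), [nat_lit 0, nat_lit 2, nat_lit 0, nat_lit 2, nat_lit 1]))) (.node (nat_lit 1184) (.leaf ((nat_lit 62), [nat_lit 1, nat_lit 2, nat_lit 1, nat_lit 0])) (.leaf ((nat_lit 322), [nat_lit 1, nat_lit 2, nat_lit 0, nat_lit 2, nat_lit 0]))))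
 (.node (nat_lit 1187) (.node (nat_lit 1186) (.leaf ((nat_lit 104), [nat_lit 1, nat_lit 2, nat_lit 1, nat_lit 2, nat_lit 1])) (.leaf ((nat_lit 103), [nat_lit 2, nat_lit 1, nat_lit 2, nat_lit 0]))) (.node (nat_lit 1188) (.leaf ((nat_lit 197), [nat_lit 1, nat_lit 2, nat_lit 0, nat_lit 2, nat_lit 1])) (.leaf ((nat_lit 64), [nat_lit 0, nat_lit 2, nat_lit 0, nat_lit 2, nat_lit 1])))))
 (.node (nat_lit 1193) (.node (nat_lit 1191) (.node (nat_lit 1190) (.leaf ((nat_lit 322), [nat_lit 2, nat_lit 0, nat_lit 2, nat_lit 1, nat_lit 2])) (.leaf ((nat_lit 62), [nat_lit 1, nat_lit 0]))) (.node (nat_lit 1192) (.leaf ((nat_lit 183), [nat_lit 1])) (.leaf ((nat_lit 182), [nat_lit 1, nat_lit 0, nat_lit 2, nat_lit 1, nat_lit 2, nat_lit 1, nat_lit 0]))))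
 (.node (nat_lit 1195) (.node (nat_lit 1194) (.leaf ((nat_lit 71), [nat_lit 1, nat_lit 0, nat_lit 2])) (.leaf ((nat_lit 330), [nat_lit 1, nat_lit 0, nat_lit 2, nat_lit 1, nat_lit 2]))) (.node (nat_lit 1196) (.leaf ((nat_lit 207), [nat_lit 1])) (.leaf ((nat_lit 206), [nat_lit 2, nat_lit 1]))))))))
 (.node (nat_lit 1228) (.node (nat_lit 1212) (.node (nat_lit 1204) (.node (nat_lit 1200) (.node (nat_lit 1198) (.leaf ((nat_lit 92), [nat_lit 1, nat_lit 2, nat_lit 1, nat_lit 2, nat_lit 1])) (.node (nat_lit 1199) (.leaf ((nat_lit 62), [nat_lit 1, nat_lit 2, nat_lit 0, nat_lit 2])) (.leaf ((nat_lit 90), [nat_lit 1, nat_lit 2, nat_lit 0, nat_lit 2, nat_lit 1]))))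
 (.node (nat_lit 1202) (.node (nat_lit 1201) (.leaf ((nat_lit 322), [nat_lit 1, nat_lit 0, nat_lit 2, nat_lit 1, nat_lit 2, nat_lit 1, nat_lit 0])) (.leaf ((nat_lit 64), [nat_lit 0]))) (.node (nat_lit 1203) (.leaf ((nat_lit 63), [nat_lit 1, nat_lit 2, nat_lit 0, nat_lit 2, nat_lit 1])) (.leaf ((nat_lit 325), [nat_lit 0, nat_lit 2, nat_lit 1, nat_lit 0])))))
 (.node (nat_lit 1208) (.node (nat_lit 1206) (.node (nat_lit 1205) (.leaf ((nat_lit 330), [nat_lit 1, nat_lit 2])) (.leaf ((nat_lit 261), [nat_lit 0, nat_lit 2, nat_lit 1, nat_lit 2]))) (.node (nat_lit 1207) (.leaf ((nat_lit 69), [nat_lit 1, nat_lit 0])) (.leaf ((nat_lit 102), [nat_lit 0]))))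
 (.node (nat_lit 1210) (.node (nat_lit 1209) (.leaf ((nat_lit 225), [nat_lit 2, nat_lit 1, nat_lit 2, nat_lit 1])) (.leaf ((nat_lit 107), [nat_lit 0, nat_lit 2, nat_lit 1, nat_lit 2]))) (.node (nat_lit 1211) (.leaf ((nat_lit 106), [nat_lit 0, nat_lit 2, nat_lit 0])) (.leaf ((nat_lit 63), [nat_lit 0, nat_lit 2, nat_lit 1, nat_lit 0]))))))
 (.node (nat_lit 1220) (.node (nat_lit 1216) (.node (nat_lit 1214) (.node (nat_lit 1213) (.leaf ((nat_lit 88), [nat_lit 2, nat_lit 0, nat_lit 2, nat_lit 1, nat_lit 2, nat_lit 0])) (.leaf ((nat_lit 122), [nat_lit 1, nat_lit 0, nat_lit 2, nat_lit 0, nat_lit 2, nat_lit 1]))) (.node (nat_lit 1215) (.leaf ((nat_lit 121), [nat_lit 2, nat_lit 0, nat_lit 2, nat_lit 1, nat_lit 2, nat_lit 1, nat_lit 0])) (.leaf ((nat_lit 332), [nat_lit 0, nat_lit 2, nat_lit 0]))))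
 (.node (nat_lit 1218) (.node (nat_lit 1217) (.leaf ((nat_lit 178), [nat_lit 2, nat_lit 1, nat_lit 0])) (.leaf ((nat_lit 64), [nat_lit 1, nat_lit 2, nat_lit 1]))) (.node (nat_lit 1219) (.leaf ((nat_lit 302), [nat_lit 2, nat_lit 0, nat_lit 2, nat_lit 0])) (.leaf ((nat_lit 65), [nat_lit 1, nat_lit 2, nat_lit 1])))))
 (.node (nat_lit 1224) (.node (nat_lit 1222) (.node (nat_lit 1221) (.leaf ((nat_lit 285), [nat_lit 2, nat_lit 1, nat_lit 0])) (.leaf ((nat_lit 246), [nat_lit 2, nat_lit 1, nat_lit 2, nat_lit 1, nat_lit 0]))) (.node (nat_lit 1223) (.leaf ((nat_lit 172), [nat_lit 2, nat_lit 0, nat_lit 2, nat_lit 1, nat_lit 0])) (.leaf ((nat_lit 142), [nat_lit 1, nat_lit 2, nat_lit 0]))))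
 (.node (nat_lit 1226) (.node (nat_lit 1225) (.leaf ((nat_lit 111), [nat_lit 1, nat_lit 2, nat_lit 1, nat_lit 0])) (.leaf ((nat_lit 112), [nat_lit 1, nat_lit 2]))) (.node (nat_lit 1227) (.leaf ((nat_lit 109), [nat_lit 1, nat_lit 0, nat_lit 2, nat_lit 0, nat_lit 2, nat_lit 1, nat_lit 0])) (.leaf ((nat_lit 66), [nat_lit 2, nat_lit 0, nat_lit 2, nat_lit 1, nat_lit 2, nat_lit 1])))))))
 (.node (nat_lit 1244) (.node (nat_lit 1236) (.node (nat_lit 1232) (.node (nat_lit 1230) (.node (nat_lit 1229) (.leaf ((nat_lit 65), [nat_lit 0, nat_lit 2, nat_lit 1, nat_lit 2])) (.leaf ((nat_lit 174), [nat_lit 1, nat_lit 0, nat_lit 2, nat_lit 0, nat_lit 2, nat_lit 0]))) (.node (nat_lit 1231) (.leaf ((nat_lit 66), [nat_lit 0, nat_lit 2, nat_lit 0, nat_lit 2, nat_lit 1, nat_lit 0])) (.leaf ((nat_lit 187), [nat_lit 2, nat_lit 1, nat_lit 0]))))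
 (.node (nat_lit 1234) (.node (nat_lit 1233) (.leaf ((nat_lit 222), [nat_lit 0, nat_lit 2, nat_lit 0])) (.leaf ((nat_lit 140), [nat_lit 1, nat_lit 0, nat_lit 2, nat_lit 1, nat_lit 2]))) (.node (nat_lit 1235) (.leaf ((nat_lit 322), [nat_lit 2, nat_lit 1, nat_lit 2, nat_lit 0])) (.leaf ((nat_lit 249), [nat_lit 0, nat_lit 2])))))
 (.node (nat_lit 1240) (.node (nat_lit 1238) (.node (nat_lit 1237) (.leaf ((nat_lit 187), [nat_lit 2, nat_lit 0, nat_lit 2, nat_lit 1, nat_lit 0])) (.leaf ((nat_lit 66), [nat_lit 2, nat_lit 0, nat_lit 2, nat_lit 1]))) (.node (nat_lit 1239) (.leaf ((nat_lit 199), [nat_lit 1, nat_lit 2])) (.leaf ((nat_lit 321), [nat_lit 1, nat_lit 0, nat_lit 2, nat_lit 1, nat_lit 2]))))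
 (.node (nat_lit 1242) (.node (nat_lit 1241) (.leaf ((nat_lit 244), [nat_lit 2, nat_lit 0, nat_lit 2, nat_lit 0])) (.leaf ((nat_lit 332), [nat_lit 1, nat_lit 0, nat_lit 2, nat_lit 1, nat_lit 2, nat_lit 1]))) (.node (nat_lit 1243) (.leaf ((nat_lit 222), [nat_lit 1])) (.leaf ((nat_lit 199), [nat_lit 1]))))))
 (.node (nat_lit 1252) (.node (nat_lit 1248) (.node (nat_lit 1246) (.node (nat_lit 1245) (.leaf ((nat_lit 66), [nat_lit 2, nat_lit 0, nat_lit 2, nat_lit 1, nat_lit 2])) (.leaf ((nat_lit 146), [nat_lit 0]))) (.node (nat_lit 1247) (.leaf ((nat_lit 186), [nat_lit 0, nat_lit 2, nat_lit 1])) (.leaf ((nat_lit 216), [nat_lit 0, nat_lit 2, nat_lit 1, nat_lit 2, nat_lit 1, nat_lit 0]))))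
 (.node (nat_lit 1250) (.node (nat_lit 1249) (.leaf ((nat_lit 273), [nat_lit 1, nat_lit 0, nat_lit 2, nat_lit 1, nat_lit 2])) (.leaf ((nat_lit 252), [nat_lit 2, nat_lit 0, nat_lit 2, nat_lit 1, nat_lit 2, nat_lit 1]))) (.node (nat_lit 1251) (.leaf ((nat_lit 82), [nat_lit 2, nat_lit 0, nat_lit 2, nat_lit 1, nat_lit 2, nat_lit 1, nat_lit 0])) (.leaf ((nat_lit 67), [nat_lit 1, nat_lit 0, nat_lit 2, nat_lit 1, nat_lit 2])))))
 (.node (nat_lit 1256) (.node (nat_lit 1254) (.node (nat_lit 1253) (.leaf ((nat_lit 170), [nat_lit 2, nat_lit 0, nat_lit 2, nat_lit 1, nat_lit 0])) (.leaf ((nat_lit 324), [nat_lit 1, nat_lit 2, nat_lit 1, nat_lit 2, nat_lit 0]))) (.node (nat_lit 1255) (.leaf ((nat_lit 236), [nat_lit 1, nat_lit 2, nat_lit 0, nat_lit 2])) (.leaf ((nat_lit 274), [nat_lit 0, nat_lit 2, nat_lit 1, nat_lit 2, nat_lit 0]))))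
 (.node (nat_lit 1258) (.node (nat_lit 1257) (.leaf ((nat_lit 79), [nat_lit 1, nat_lit 2, nat_lit 1, nat_lit 0])) (.leaf ((nat_lit 170), [nat_lit 1, nat_lit 2]))) (.node (nat_lit 1259) (.leaf ((nat_lit 67), [nat_lit 2, nat_lit 0, nat_lit 2, nat_lit 1])) (.leaf ((nat_lit 308), [nat_lit 0, nat_lit 2, nat_lit 0, nat_lit 2, nat_lit 1, nat_lit 0]))))))))))
noncomputable def n2Wd_5 : Tr (ℕ × List ℕ) := (.node (nat_lit 1386) (.node (nat_lit 1323) (.node (nat_lit 1291) (.node (nat_lit 1275) (.node (nat_lit 1267) (.node (nat_lit 1263) (.node (nat_lit 1261) (.leaf ((nat_lit 225), [nat_lit 1, nat_lit 0, nat_lit 2, nat_lit 0, nat_lit 2, nat_lit 1])) (.node (nat_lit 1262) (.leaf ((nat_lit 280), [nat_lit 2, nat_lit 0, nat_lit 2, nat_lit 1, nat_lit 0])) (.leaf ((nat_lit 69), [nat_lit 2, nat_lit 0, nat_lit 2, nat_lit 1, nat_lit 2, nat_lit 0]))))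
 (.node (nat_lit 1265) (.node (nat_lit 1264) (.leaf ((nat_lit 287), [nat_lit 1, nat_lit 2, nat_lit 1, nat_lit 2])) (.leaf ((nat_lit 249), [nat_lit 0, nat_lit 2, nat_lit 0, nat_lit 2]))) (.node (nat_lit 1266) (.leaf ((nat_lit 262), [nat_lit 2, nat_lit 1])) (.leaf ((nat_lit 70), [nat_lit 1, nat_lit 2, nat_lit 1, nat_lit 2, nat_lit 1, nat_lit 0])))))
 (.node (nat_lit 1271) (.node (nat_lit 1269) (.node (nat_lit 1268) (.leaf ((nat_lit 143), [nat_lit 1, nat_lit 0, nat_lit 2, nat_lit 0])) (.leaf ((nat_lit 146), [nat_lit 0, nat_lit 2, nat_lit 1, nat_lit 0]))) (.node (nat_lit 1270) (.leaf ((nat_lit 234), [nat_lit 0, nat_lit 2, nat_lit 0, nat_lit 2])) (.leaf ((nat_lit 257), [nat_lit 1, nat_lit 2, nat_lit 0]))))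
 (.node (nat_lit 1273) (.node (nat_lit 1272) (.leaf ((nat_lit 140), [nat_lit 2])) (.leaf ((nat_lit 143), [nat_lit 2, nat_lit 1, nat_lit 2, nat_lit 0, nat_lit 2, nat_lit 1, nat_lit 0]))) (.node (nat_lit 1274) (.leaf ((nat_lit 70), [nat_lit 0, nat_lit 2, nat_lit 0])) (.leaf ((nat_lit 147), [nat_lit 0, nat_lit 2, nat_lit 0, nat_lit 2, nat_lit 1, nat_lit 0]))))))
 (.node (nat_lit 1283) (.node (nat_lit 1279) (.node (nat_lit 1277) (.node (nat_lit 1276) (.leaf ((nat_lit 164), [nat_lit 1, nat_lit 2, nat_lit 1])) (.leaf ((nat_lit 164), [nat_lit 1, nat_lit 2, nat_lit 1, nat_lit 2]))) (.node (nat_lit 1278) (.leaf ((nat_lit 136), [nat_lit 1, nat_lit 2, nat_lit 0])) (.leaf ((nat_lit 229), [nat_lit 0, nat_lit 2, nat_lit 0]))))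
 (.node (nat_lit 1281) (.node (nat_lit 1280) (.leaf ((nat_lit 84), [nat_lit 1, nat_lit 2, nat_lit 1, nat_lit 2, nat_lit 1])) (.leaf ((nat_lit 216), [nat_lit 2, nat_lit 1]))) (.node (nat_lit 1282) (.leaf ((nat_lit 255), [nat_lit 1, nat_lit 0, nat_lit 2, nat_lit 0, nat_lit 2, nat_lit 1, nat_lit 0])) (.leaf ((nat_lit 70), [nat_lit 1])))))
 (.node (nat_lit 1287) (.node (nat_lit 1285) (.node (nat_lit 1284) (.leaf ((nat_lit 296), [nat_lit 2, nat_lit 0, nat_lit 2, nat_lit 1])) (.leaf ((nat_lit 72), [nat_lit 2, nat_lit 0]))) (.node (nat_lit 1286) (.leaf ((nat_lit 71), [nat_lit 0, nat_lit 2, nat_lit 0])) (.leaf ((nat_lit 314), [nat_lit 2, nat_lit 0, nat_lit 2, nat_lit 1]))))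
 (.node (nat_lit 1289) (.node (nat_lit 1288) (.leaf ((nat_lit 276), [nat_lit 0, nat_lit 2, nat_lit 1, nat_lit 2])) (.leaf ((nat_lit 228), [nat_lit 1, nat_lit 2, nat_lit 1, nat_lit 2]))) (.node (nat_lit 1290) (.leaf ((nat_lit 100), [nat_lit 1, nat_lit 2, nat_lit 1, nat_lit 2, nat_lit 1])) (.leaf ((nat_lit 73), [nat_lit 2, nat_lit 0, nat_lit 2])))))))
 (.node (nat_lit 1307) (.node (nat_lit 1299) (.node (nat_lit 1295) (.node (nat_lit 1293) (.node (nat_lit 1292) (.leaf ((nat_lit 314), [nat_lit 2, nat_lit 0, nat_lit 2, nat_lit 1, nat_lit 0])) (.leaf ((nat_lit 71), [nat_lit 0, nat_lit 2]))) (.node (nat_lit 1294) (.leaf ((nat_lit 322), [nat_lit 1, nat_lit 2, nat_lit 1])) (.leaf ((nat_lit 140), [nat_lit 1, nat_lit 2, nat_lit 0, nat_lit 2, nat_lit 0]))))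
 (.node (nat_lit 1297) (.node (nat_lit 1296) (.leaf ((nat_lit 150), [nat_lit 1, nat_lit 2, nat_lit 1, nat_lit 2])) (.leaf ((nat_lit 274), [nat_lit 0, nat_lit 2, nat_lit 1, nat_lit 2, nat_lit 1, nat_lit 0]))) (.node (nat_lit 1298) (.leaf ((nat_lit 236), [nat_lit 1, nat_lit 2, nat_lit 0, nat_lit 2, nat_lit 1])) (.leaf ((nat_lit 213), [nat_lit 1, nat_lit 2])))))
 (.node (nat_lit 1303) (.node (nat_lit 1301) (.node (nat_lit 1300) (.leaf ((nat_lit 71), [nat_lit 1, nat_lit 2, nat_lit 1, nat_lit 2, nat_lit 0])) (.leaf ((nat_lit 166), [nat_lit 1, nat_lit 0, nat_lit 2, nat_lit 1]))) (.node (nat_lit 1302) (.leaf ((nat_lit 207), [nat_lit 1, nat_lit 0, nat_lit 2, nat_lit 1, nat_lit 2, nat_lit 0])) (.leaf ((nat_lit 252), []))))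
 (.node (nat_lit 1305) (.node (nat_lit 1304) (.leaf ((nat_lit 273), [nat_lit 1, nat_lit 2, nat_lit 1, nat_lit 0])) (.leaf ((nat_lit 141), []))) (.node (nat_lit 1306) (.leaf ((nat_lit 166), [nat_lit 1, nat_lit 2, nat_lit 1, nat_lit 2, nat_lit 1, nat_lit 0])) (.leaf ((nat_lit 71), [nat_lit 0, nat_lit 2, nat_lit 0, nat_lit 2, nat_lit 0]))))))
 (.node (nat_lit 1315) (.node (nat_lit 1311) (.node (nat_lit 1309) (.node (nat_lit 1308) (.leaf ((nat_lit 144), [nat_lit 2, nat_lit 0, nat_lit 2])) (.leaf ((nat_lit 314), [nat_lit 0, nat_lit 2, nat_lit 1, nat_lit 2, nat_lit 0]))) (.node (nat_lit 1310) (.leaf ((nat_lit 73), [nat_lit 1, nat_lit 0, nat_lit 2, nat_lit 0, nat_lit 2])) (.leaf ((nat_lit 72), [nat_lit 1, nat_lit 2, nat_lit 1, nat_lit 2]))))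
 (.node (nat_lit 1313) (.node (nat_lit 1312) (.leaf ((nat_lit 328), [nat_lit 1, nat_lit 2, nat_lit 1, nat_lit 2])) (.leaf ((nat_lit 306), [nat_lit 1, nat_lit 0, nat_lit 2]))) (.node (nat_lit 1314) (.leaf ((nat_lit 246), [nat_lit 0, nat_lit 2, nat_lit 1, nat_lit 2, nat_lit 0])) (.leaf ((nat_lit 174), [nat_lit 1, nat_lit 0])))))
 (.node (nat_lit 1319) (.node (nat_lit 1317) (.node (nat_lit 1316) (.leaf ((nat_lit 304), [nat_lit 2, nat_lit 0, nat_lit 2, nat_lit 1, nat_lit 2, nat_lit 0])) (.leaf ((nat_lit 172), [nat_lit 1, nat_lit 0, nat_lit 2]))) (.node (nat_lit 1318) (.leaf ((nat_lit 324), [nat_lit 2, nat_lit 1, nat_lit 2, nat_lit 0, nat_lit 2, nat_lit 0])) (.leaf ((nat_lit 327), [nat_lit 1, nat_lit 0, nat_lit 2, nat_lit 1, nat_lit 2, nat_lit 1]))))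
 (.node (nat_lit 1321) (.node (nat_lit 1320) (.leaf ((nat_lit 72), [nat_lit 1, nat_lit 2, nat_lit 0, nat_lit 2, nat_lit 1])) (.leaf ((nat_lit 329), [nat_lit 0, nat_lit 2, nat_lit 0, nat_lit 2, nat_lit 1]))) (.node (nat_lit 1322) (.leaf ((nat_lit 95), [nat_lit 1, nat_lit 2, nat_lit 1, nat_lit 0])) (.leaf ((nat_lit 319), [nat_lit 1, nat_lit 0, nat_lit 2, nat_lit 0, nat_lit 2]))))))))
 (.node (nat_lit 1354) (.node (nat_lit 1338) (.node (nat_lit 1330) (.node (nat_lit 1326) (.node (nat_lit 1324) (.leaf ((nat_lit 73), [nat_lit 2, nat_lit 1, nat_lit 2, nat_lit 0, nat_lit 2, nat_lit 1, nat_lit 0])) (.node (nat_lit 1325) (.leaf ((nat_lit 97), [nat_lit 2, nat_lit 1, nat_lit 2, nat_lit 0, nat_lit 2, nat_lit 1, nat_lit 0])) (.leaf ((nat_lit 220), [nat_lit 0, nat_lit 2, nat_lit 0]))))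
 (.node (nat_lit 1328) (.node (nat_lit 1327) (.leaf ((nat_lit 152), [nat_lit 2, nat_lit 1, nat_lit 2, nat_lit 0, nat_lit 2, nat_lit 1])) (.leaf ((nat_lit 74), [nat_lit 2, nat_lit 1, nat_lit 2, nat_lit 1, nat_lit 0]))) (.node (nat_lit 1329) (.leaf ((nat_lit 223), [nat_lit 0, nat_lit 2])) (.leaf ((nat_lit 315), [nat_lit 1, nat_lit 0, nat_lit 2, nat_lit 1, nat_lit 2, nat_lit 1])))))
 (.node (nat_lit 1334) (.node (nat_lit 1332) (.node (nat_lit 1331) (.leaf ((nat_lit 320), [nat_lit 1, nat_lit 0, nat_lit 2, nat_lit 1, nat_lit 2, nat_lit 0])) (.leaf ((nat_lit 303), [nat_lit 2, nat_lit 0, nat_lit 2, nat_lit 1]))) (.node (nat_lit 1333) (.leaf ((nat_lit 207), [nat_lit 1])) (.leaf ((nat_lit 330), [nat_lit 1, nat_lit 0, nat_lit 2, nat_lit 1, nat_lit 2]))))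
 (.node (nat_lit 1336) (.node (nat_lit 1335) (.leaf ((nat_lit 205), [nat_lit 0, nat_lit 2, nat_lit 0])) (.leaf ((nat_lit 74), [nat_lit 1]))) (.node (nat_lit 1337) (.leaf ((nat_lit 253), [nat_lit 1, nat_lit 0, nat_lit 2, nat_lit 0, nat_lit 2, nat_lit 1, nat_lit 0])) (.leaf ((nat_lit 107), [nat_lit 0, nat_lit 2, nat_lit 1, nat_lit 2, nat_lit 1]))))))
 (.node (nat_lit 1346) (.node (nat_lit 1342) (.node (nat_lit 1340) (.node (nat_lit 1339) (.leaf ((nat_lit 76), [nat_lit 2, nat_lit 1, nat_lit 2, nat_lit 1])) (.leaf ((nat_lit 75), [nat_lit 2, nat_lit 1, nat_lit 2, nat_lit 1]))) (.node (nat_lit 1341) (.leaf ((nat_lit 221), [nat_lit 2, nat_lit 0])) (.leaf ((nat_lit 316), [nat_lit 0, nat_lit 2, nat_lit 0]))))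
 (.node (nat_lit 1344) (.node (nat_lit 1343) (.leaf ((nat_lit 143), [nat_lit 1, nat_lit 2, nat_lit 1, nat_lit 2, nat_lit 0])) (.leaf ((nat_lit 270), [nat_lit 1, nat_lit 0]))) (.node (nat_lit 1345) (.leaf ((nat_lit 234), [nat_lit 0, nat_lit 2, nat_lit 0])) (.leaf ((nat_lit 289), [nat_lit 2, nat_lit 1, nat_lit 2, nat_lit 0, nat_lit 2])))))
 (.node (nat_lit 1350) (.node (nat_lit 1348) (.node (nat_lit 1347) (.leaf ((nat_lit 119), [nat_lit 1, nat_lit 2, nat_lit 1, nat_lit 0])) (.leaf ((nat_lit 75), []))) (.node (nat_lit 1349) (.leaf ((nat_lit 121), [nat_lit 1, nat_lit 2, nat_lit 0, nat_lit 2, nat_lit 1])) (.leaf ((nat_lit 333), [nat_lit 1, nat_lit 2, nat_lit 1]))))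
 (.node (nat_lit 1352) (.node (nat_lit 1351) (.leaf ((nat_lit 210), [nat_lit 1, nat_lit 2, nat_lit 0, nat_lit 2, nat_lit 1, nat_lit 0])) (.leaf ((nat_lit 257), [nat_lit 2, nat_lit 0, nat_lit 2, nat_lit 1, nat_lit 2]))) (.node (nat_lit 1353) (.leaf ((nat_lit 201), [nat_lit 1, nat_lit 2, nat_lit 1, nat_lit 2])) (.leaf ((nat_lit 121), [nat_lit 1, nat_lit 0, nat_lit 2, nat_lit 0, nat_lit 2])))))))
 (.node (nat_lit 1370) (.node (nat_lit 1362) (.node (nat_lit 1358) (.node (nat_lit 1356) (.node (nat_lit 1355) (.leaf ((nat_lit 75), [nat_lit 1, nat_lit 0, nat_lit 2, nat_lit 0])) (.leaf ((nat_lit 76), [nat_lit 0, nat_lit 2, nat_lit 1]))) (.node (nat_lit 1357) (.leaf ((nat_lit 233), [nat_lit 1, nat_lit 0, nat_lit 2, nat_lit 1])) (.leaf ((nat_lit 245), [nat_lit 2, nat_lit 1, nat_lit 2, nat_lit 0, nat_lit 2, nat_lit 0]))))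
 (.node (nat_lit 1360) (.node (nat_lit 1359) (.leaf ((nat_lit 300), [nat_lit 1, nat_lit 0, nat_lit 2, nat_lit 0, nat_lit 2, nat_lit 1, nat_lit 0])) (.leaf ((nat_lit 76), [nat_lit 2, nat_lit 0, nat_lit 2, nat_lit 1, nat_lit 0]))) (.node (nat_lit 1361) (.leaf ((nat_lit 76), [nat_lit 1, nat_lit 2, nat_lit 0, nat_lit 2, nat_lit 1, nat_lit 0])) (.leaf ((nat_lit 226), [nat_lit 2, nat_lit 1, nat_lit 2])))))
 (.node (nat_lit 1366) (.node (nat_lit 1364) (.node (nat_lit 1363) (.leaf ((nat_lit 331), [nat_lit 1, nat_lit 0, nat_lit 2, nat_lit 0, nat_lit 2, nat_lit 1])) (.leaf ((nat_lit 279), [nat_lit 1, nat_lit 2, nat_lit 1]))) (.node (nat_lit 1365) (.leaf ((nat_lit 133), [nat_lit 1, nat_lit 2, nat_lit 1, nat_lit 2])) (.leaf ((nat_lit 79), [nat_lit 2, nat_lit 1, nat_lit 2, nat_lit 1]))))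
 (.node (nat_lit 1368) (.node (nat_lit 1367) (.leaf ((nat_lit 78), [nat_lit 0, nat_lit 2, nat_lit 0])) (.leaf ((nat_lit 127), [nat_lit 0, nat_lit 2, nat_lit 0, nat_lit 2]))) (.node (nat_lit 1369) (.leaf ((nat_lit 266), [nat_lit 2, nat_lit 1, nat_lit 0])) (.leaf ((nat_lit 265), [nat_lit 2]))))))
 (.node (nat_lit 1378) (.node (nat_lit 1374) (.node (nat_lit 1372) (.node (nat_lit 1371) (.leaf ((nat_lit 176), [nat_lit 2, nat_lit 1, nat_lit 2, nat_lit 0, nat_lit 2, nat_lit 0])) (.leaf ((nat_lit 285), [nat_lit 1, nat_lit 2, nat_lit 1, nat_lit 2, nat_lit 1]))) (.node (nat_lit 1373) (.leaf ((nat_lit 214), [nat_lit 2, nat_lit 1, nat_lit 2, nat_lit 1])) (.leaf ((nat_lit 78), [nat_lit 1, nat_lit 0, nat_lit 2, nat_lit 0]))))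
 (.node (nat_lit 1376) (.node (nat_lit 1375) (.leaf ((nat_lit 213), [nat_lit 0, nat_lit 2, nat_lit 0])) (.leaf ((nat_lit 79), [nat_lit 1, nat_lit 2, nat_lit 1, nat_lit 2, nat_lit 1]))) (.node (nat_lit 1377) (.leaf ((nat_lit 274), [nat_lit 0, nat_lit 2])) (.leaf ((nat_lit 247), [nat_lit 1, nat_lit 2, nat_lit 0, nat_lit 2])))))
 (.node (nat_lit 1382) (.node (nat_lit 1380) (.node (nat_lit 1379) (.leaf ((nat_lit 245), [nat_lit 1, nat_lit 2, nat_lit 1, nat_lit 2])) (.leaf ((nat_lit 329), [nat_lit 2, nat_lit 0, nat_lit 2, nat_lit 0]))) (.node (nat_lit 1381) (.leaf ((nat_lit 85), [nat_lit 2, nat_lit 1, nat_lit 0])) (.leaf ((nat_lit 81), [nat_lit 1, nat_lit 2, nat_lit 1, nat_lit 2, nat_lit 1]))))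
 (.node (nat_lit 1384) (.node (nat_lit 1383) (.leaf ((nat_lit 80), [nat_lit 2, nat_lit 0, nat_lit 2])) (.leaf ((nat_lit 155), [nat_lit 0, nat_lit 2, nat_lit 0]))) (.node (nat_lit 1385) (.leaf ((nat_lit 154), [nat_lit 1, nat_lit 2, nat_lit 1, nat_lit 2, nat_lit 1])) (.leaf ((nat_lit 243), [nat_lit 1, nat_lit 0, nat_lit 2, nat_lit 0, nat_lit 2])))))))))
 (.node (nat_lit 1449) (.node (nat_lit 1417) (.node (nat_lit 1401) (.node (nat_lit 1393) (.node (nat_lit 1389) (.node (nat_lit 1387) (.leaf ((nat_lit 183), [nat_lit 1, nat_lit 0, nat_lit 2])) (.node (nat_lit 1388) (.leaf ((nat_lit 283), [nat_lit 1, nat_lit 0, nat_lit 2, nat_lit 0, nat_lit 2])) (.leaf ((nat_lit 282), [nat_lit 1, nat_lit 0]))))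
 (.node (nat_lit 1391) (.node (nat_lit 1390) (.leaf ((nat_lit 185), [nat_lit 1, nat_lit 0, nat_lit 2])) (.leaf ((nat_lit 81), [nat_lit 1, nat_lit 2, nat_lit 0, nat_lit 2, nat_lit 1]))) (.node (nat_lit 1392) (.leaf ((nat_lit 125), [nat_lit 2, nat_lit 0, nat_lit 2, nat_lit 1, nat_lit 2, nat_lit 1])) (.leaf ((nat_lit 334), [nat_lit 1, nat_lit 0, nat_lit 2, nat_lit 1])))))
 (.node (nat_lit 1397) (.node (nat_lit 1395) (.node (nat_lit 1394) (.leaf ((nat_lit 307), [nat_lit 2, nat_lit 1, nat_lit 0])) (.leaf ((nat_lit 281), [nat_lit 0, nat_lit 2, nat_lit 0]))) (.node (nat_lit 1396) (.leaf ((nat_lit 311), [])) (.leaf ((nat_lit 239), [nat_lit 0, nat_lit 2, nat_lit 0, nat_lit 2, nat_lit 1, nat_lit 0]))))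
 (.node (nat_lit 1399) (.node (nat_lit 1398) (.leaf ((nat_lit 81), [nat_lit 0, nat_lit 2, nat_lit 1, nat_lit 2])) (.leaf ((nat_lit 226), [nat_lit 1, nat_lit 2, nat_lit 1, nat_lit 0]))) (.node (nat_lit 1400) (.leaf ((nat_lit 333), [nat_lit 0, nat_lit 2, nat_lit 0, nat_lit 2, nat_lit 1, nat_lit 0])) (.leaf ((nat_lit 269), [nat_lit 1, nat_lit 2, nat_lit 0, nat_lit 2, nat_lit 1, nat_lit 0]))))))
 (.node (nat_lit 1409) (.node (nat_lit 1405) (.node (nat_lit 1403) (.node (nat_lit 1402) (.leaf ((nat_lit 143), [nat_lit 1, nat_lit 2, nat_lit 1, nat_lit 0])) (.leaf ((nat_lit 316), []))) (.node (nat_lit 1404) (.leaf ((nat_lit 82), [nat_lit 2, nat_lit 0, nat_lit 2])) (.leaf ((nat_lit 224), [nat_lit 0, nat_lit 2, nat_lit 0]))))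
 (.node (nat_lit 1407) (.node (nat_lit 1406) (.leaf ((nat_lit 250), [nat_lit 1])) (.leaf ((nat_lit 83), [nat_lit 1, nat_lit 2, nat_lit 0, nat_lit 2, nat_lit 0]))) (.node (nat_lit 1408) (.leaf ((nat_lit 211), [nat_lit 2, nat_lit 0, nat_lit 2, nat_lit 0])) (.leaf ((nat_lit 282), [nat_lit 1, nat_lit 0, nat_lit 2, nat_lit 0, nat_lit 2])))))
 (.node (nat_lit 1413) (.node (nat_lit 1411) (.node (nat_lit 1410) (.leaf ((nat_lit 306), [nat_lit 2, nat_lit 1, nat_lit 2, nat_lit 1, nat_lit 0])) (.leaf ((nat_lit 264), [nat_lit 0]))) (.node (nat_lit 1412) (.leaf ((nat_lit 263), [nat_lit 1, nat_lit 2, nat_lit 1])) (.leaf ((nat_lit 155), [nat_lit 1, nat_lit 2, nat_lit 1, nat_lit 0]))))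
 (.node (nat_lit 1415) (.node (nat_lit 1414) (.leaf ((nat_lit 131), [nat_lit 1, nat_lit 0, nat_lit 2, nat_lit 1])) (.leaf ((nat_lit 248), [nat_lit 2, nat_lit 1, nat_lit 2, nat_lit 0]))) (.node (nat_lit 1416) (.leaf ((nat_lit 83), [nat_lit 1, nat_lit 0, nat_lit 2, nat_lit 1])) (.leaf ((nat_lit 209), [nat_lit 2, nat_lit 0, nat_lit 2, nat_lit 1])))))))
 (.node (nat_lit 1433) (.node (nat_lit 1425) (.node (nat_lit 1421) (.node (nat_lit 1419) (.node (nat_lit 1418) (.leaf ((nat_lit 216), [nat_lit 1, nat_lit 2, nat_lit 0, nat_lit 2, nat_lit 1])) (.leaf ((nat_lit 84), [nat_lit 1, nat_lit 0, nat_lit 2, nat_lit 1]))) (.node (nat_lit 1420) (.leaf ((nat_lit 116), [nat_lit 1, nat_lit 0, nat_lit 2, nat_lit 1, nat_lit 2])) (.leaf ((nat_lit 263), [nat_lit 0, nat_lit 2, nat_lit 1, nat_lit 2]))))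
 (.node (nat_lit 1423) (.node (nat_lit 1422) (.leaf ((nat_lit 265), [nat_lit 2, nat_lit 0, nat_lit 2, nat_lit 1, nat_lit 2])) (.leaf ((nat_lit 303), [nat_lit 1, nat_lit 0, nat_lit 2, nat_lit 0, nat_lit 2]))) (.node (nat_lit 1424) (.leaf ((nat_lit 168), [nat_lit 0, nat_lit 2])) (.leaf ((nat_lit 167), [nat_lit 2, nat_lit 0, nat_lit 2])))))
 (.node (nat_lit 1429) (.node (nat_lit 1427) (.node (nat_lit 1426) (.leaf ((nat_lit 85), [nat_lit 1, nat_lit 2, nat_lit 1, nat_lit 2, nat_lit 1])) (.leaf ((nat_lit 135), [nat_lit 0, nat_lit 2, nat_lit 1, nat_lit 2]))) (.node (nat_lit 1428) (.leaf ((nat_lit 256), [nat_lit 2, nat_lit 1, nat_lit 2, nat_lit 0])) (.leaf ((nat_lit 294), [nat_lit 1, nat_lit 0, nat_lit 2, nat_lit 1]))))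
 (.node (nat_lit 1431) (.node (nat_lit 1430) (.leaf ((nat_lit 193), [nat_lit 1, nat_lit 2, nat_lit 0, nat_lit 2])) (.leaf ((nat_lit 291), [nat_lit 0]))) (.node (nat_lit 1432) (.leaf ((nat_lit 135), [nat_lit 2, nat_lit 1, nat_lit 0])) (.leaf ((nat_lit 85), [nat_lit 1, nat_lit 0, nat_lit 2]))))))
 (.node (nat_lit 1441) (.node (nat_lit 1437) (.node (nat_lit 1435) (.node (nat_lit 1434) (.leaf ((nat_lit 177), [nat_lit 0, nat_lit 2, nat_lit 0, nat_lit 2, nat_lit 1, nat_lit 0])) (.leaf ((nat_lit 259), [nat_lit 1, nat_lit 2]))) (.node (nat_lit 1436) (.leaf ((nat_lit 258), [nat_lit 1, nat_lit 2, nat_lit 1])) (.leaf ((nat_lit 124), [nat_lit 1, nat_lit 0, nat_lit 2]))))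
 (.node (nat_lit 1439) (.node (nat_lit 1438) (.leaf ((nat_lit 302), [nat_lit 2, nat_lit 1, nat_lit 2, nat_lit 0, nat_lit 2, nat_lit 1, nat_lit 0])) (.leaf ((nat_lit 232), [nat_lit 1, nat_lit 0, nat_lit 2, nat_lit 0, nat_lit 2, nat_lit 0]))) (.node (nat_lit 1440) (.leaf ((nat_lit 85), [nat_lit 0, nat_lit 2, nat_lit 1, nat_lit 2])) (.leaf ((nat_lit 296), [nat_lit 0, nat_lit 2])))))
 (.node (nat_lit 1445) (.node (nat_lit 1443) (.node (nat_lit 1442) (.leaf ((nat_lit 86), [nat_lit 2, nat_lit 1, nat_lit 2, nat_lit 0, nat_lit 2, nat_lit 1, nat_lit 0])) (.leaf ((nat_lit 320), [nat_lit 1, nat_lit 0, nat_lit 2]))) (.node (nat_lit 1444) (.leaf ((nat_lit 304), [])) (.leaf ((nat_lit 301), [nat_lit 2, nat_lit 0, nat_lit 2, nat_lit 1, nat_lit 2, nat_lit 1]))))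
 (.node (nat_lit 1447) (.node (nat_lit 1446) (.leaf ((nat_lit 240), [nat_lit 1, nat_lit 2, nat_lit 0, nat_lit 2, nat_lit 1])) (.leaf ((nat_lit 297), [nat_lit 2, nat_lit 0, nat_lit 2, nat_lit 1, nat_lit 2, nat_lit 1, nat_lit 0]))) (.node (nat_lit 1448) (.leaf ((nat_lit 320), [nat_lit 2, nat_lit 0, nat_lit 2, nat_lit 1, nat_lit 2, nat_lit 1, nat_lit 0])) (.leaf ((nat_lit 86), [nat_lit 0, nat_lit 2, nat_lit 0, nat_lit 2, nat_lit 1]))))))))
 (.node (nat_lit 1480) (.node (nat_lit 1464) (.node (nat_lit 1456) (.node (nat_lit 1452) (.node (nat_lit 1450) (.leaf ((nat_lit 291), [nat_lit 1, nat_lit 2])) (.node (nat_lit 1451) (.leaf ((nat_lit 290), [nat_lit 2, nat_lit 0, nat_lit 2, nat_lit 1, nat_lit 0])) (.leaf ((nat_lit 258), [nat_lit 0, nat_lit 2, nat_lit 0, nat_lit 2, nat_lit 1]))))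
 (.node (nat_lit 1454) (.node (nat_lit 1453) (.leaf ((nat_lit 291), [nat_lit 2, nat_lit 0])) (.leaf ((nat_lit 324), [nat_lit 0, nat_lit 2, nat_lit 0]))) (.node (nat_lit 1455) (.leaf ((nat_lit 294), [nat_lit 2, nat_lit 1])) (.leaf ((nat_lit 86), [nat_lit 2, nat_lit 0, nat_lit 2, nat_lit 1, nat_lit 0])))))
 (.node (nat_lit 1460) (.node (nat_lit 1458) (.node (nat_lit 1457) (.leaf ((nat_lit 101), [nat_lit 1, nat_lit 2, nat_lit 0, nat_lit 2, nat_lit 1])) (.leaf ((nat_lit 128), [nat_lit 1, nat_lit 2, nat_lit 0, nat_lit 2]))) (.node (nat_lit 1459) (.leaf ((nat_lit 317), [nat_lit 0, nat_lit 2, nat_lit 0])) (.leaf ((nat_lit 115), [nat_lit 1, nat_lit 0, nat_lit 2, nat_lit 1]))))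
 (.node (nat_lit 1462) (.node (nat_lit 1461) (.leaf ((nat_lit 114), [nat_lit 2, nat_lit 1])) (.leaf ((nat_lit 101), [nat_lit 2, nat_lit 0, nat_lit 2, nat_lit 1]))) (.node (nat_lit 1463) (.leaf ((nat_lit 86), [nat_lit 1, nat_lit 2, nat_lit 1, nat_lit 2, nat_lit 1])) (.leaf ((nat_lit 230), [nat_lit 2, nat_lit 0, nat_lit 2, nat_lit 1, nat_lit 0]))))))
 (.node (nat_lit 1472) (.node (nat_lit 1468) (.node (nat_lit 1466) (.node (nat_lit 1465) (.leaf ((nat_lit 253), [nat_lit 1, nat_lit 0])) (.leaf ((nat_lit 87), [nat_lit 0, nat_lit 2, nat_lit 0]))) (.node (nat_lit 1467) (.leaf ((nat_lit 182), [])) (.leaf ((nat_lit 168), [nat_lit 2, nat_lit 1, nat_lit 2, nat_lit 1]))))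
 (.node (nat_lit 1470) (.node (nat_lit 1469) (.leaf ((nat_lit 206), [nat_lit 0, nat_lit 2, nat_lit 0, nat_lit 2])) (.leaf ((nat_lit 244), [nat_lit 1, nat_lit 0, nat_lit 2, nat_lit 1, nat_lit 2, nat_lit 1, nat_lit 0]))) (.node (nat_lit 1471) (.leaf ((nat_lit 333), [nat_lit 2, nat_lit 1, nat_lit 2, nat_lit 0])) (.leaf ((nat_lit 226), [nat_lit 2, nat_lit 0, nat_lit 2, nat_lit 1, nat_lit 2, nat_lit 1, nat_lit 0])))))
 (.node (nat_lit 1476) (.node (nat_lit 1474) (.node (nat_lit 1473) (.leaf ((nat_lit 181), [nat_lit 2, nat_lit 1])) (.leaf ((nat_lit 90), [nat_lit 0, nat_lit 2, nat_lit 0]))) (.node (nat_lit 1475) (.leaf ((nat_lit 229), [nat_lit 2, nat_lit 1, nat_lit 2, nat_lit 1])) (.leaf ((nat_lit 87), [nat_lit 1, nat_lit 0, nat_lit 2, nat_lit 0]))))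
 (.node (nat_lit 1478) (.node (nat_lit 1477) (.leaf ((nat_lit 122), [nat_lit 0, nat_lit 2, nat_lit 0, nat_lit 2, nat_lit 1, nat_lit 0])) (.leaf ((nat_lit 88), [nat_lit 1, nat_lit 2, nat_lit 1, nat_lit 2, nat_lit 1]))) (.node (nat_lit 1479) (.leaf ((nat_lit 120), [nat_lit 1, nat_lit 0])) (.leaf ((nat_lit 203), [nat_lit 1, nat_lit 0, nat_lit 2, nat_lit 1, nat_lit 2])))))))
 (.node (nat_lit 1496) (.node (nat_lit 1488) (.node (nat_lit 1484) (.node (nat_lit 1482) (.node (nat_lit 1481) (.leaf ((nat_lit 193), [nat_lit 0, nat_lit 2, nat_lit 1, nat_lit 2])) (.leaf ((nat_lit 218), [nat_lit 0, nat_lit 2, nat_lit 1, nat_lit 2, nat_lit 0]))) (.node (nat_lit 1483) (.leaf ((nat_lit 121), [nat_lit 1, nat_lit 2, nat_lit 0, nat_lit 2, nat_lit 1])) (.leaf ((nat_lit 120), [nat_lit 2, nat_lit 0, nat_lit 2, nat_lit 1, nat_lit 2, nat_lit 0]))))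
 (.node (nat_lit 1486) (.node (nat_lit 1485) (.leaf ((nat_lit 88), [nat_lit 0, nat_lit 2, nat_lit 0, nat_lit 2, nat_lit 1])) (.leaf ((nat_lit 229), [nat_lit 2, nat_lit 0, nat_lit 2, nat_lit 1]))) (.node (nat_lit 1487) (.leaf ((nat_lit 90), [])) (.leaf ((nat_lit 335), [nat_lit 2, nat_lit 0, nat_lit 2])))))
 (.node (nat_lit 1492) (.node (nat_lit 1490) (.node (nat_lit 1489) (.leaf ((nat_lit 167), [nat_lit 1])) (.leaf ((nat_lit 166), [nat_lit 1, nat_lit 2, nat_lit 0, nat_lit 2, nat_lit 1, nat_lit 0]))) (.node (nat_lit 1491) (.leaf ((nat_lit 303), [nat_lit 0])) (.leaf ((nat_lit 271), [nat_lit 1, nat_lit 2, nat_lit 1, nat_lit 2]))))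
 (.node (nat_lit 1494) (.node (nat_lit 1493) (.leaf ((nat_lit 235), [nat_lit 0, nat_lit 2, nat_lit 1, nat_lit 2])) (.leaf ((nat_lit 88), [nat_lit 1, nat_lit 0, nat_lit 2, nat_lit 0, nat_lit 2, nat_lit 0]))) (.node (nat_lit 1495) (.leaf ((nat_lit 89), [nat_lit 2, nat_lit 1, nat_lit 2, nat_lit 0, nat_lit 2, nat_lit 0])) (.leaf ((nat_lit 316), [nat_lit 1, nat_lit 0, nat_lit 2, nat_lit 0, nat_lit 2, nat_lit 1]))))))
 (.node (nat_lit 1504) (.node (nat_lit 1500) (.node (nat_lit 1498) (.node (nat_lit 1497) (.leaf ((nat_lit 138), [nat_lit 2, nat_lit 0, nat_lit 2, nat_lit 1, nat_lit 2, nat_lit 0])) (.leaf ((nat_lit 289), [nat_lit 1, nat_lit 0, nat_lit 2, nat_lit 1, nat_lit 2, nat_lit 1]))) (.node (nat_lit 1499) (.leaf ((nat_lit 210), [nat_lit 2, nat_lit 0, nat_lit 2, nat_lit 0])) (.leaf ((nat_lit 205), [nat_lit 2, nat_lit 0]))))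
 (.node (nat_lit 1502) (.node (nat_lit 1501) (.leaf ((nat_lit 289), [nat_lit 1, nat_lit 0, nat_lit 2, nat_lit 1, nat_lit 2, nat_lit 1])) (.leaf ((nat_lit 234), [nat_lit 1]))) (.node (nat_lit 1503) (.leaf ((nat_lit 93), [nat_lit 0, nat_lit 2])) (.leaf ((nat_lit 333), [nat_lit 2, nat_lit 0, nat_lit 2, nat_lit 1, nat_lit 0])))))
 (.node (nat_lit 1508) (.node (nat_lit 1506) (.node (nat_lit 1505) (.leaf ((nat_lit 331), [nat_lit 0, nat_lit 2, nat_lit 1, nat_lit 2, nat_lit 0])) (.leaf ((nat_lit 279), [nat_lit 1, nat_lit 0, nat_lit 2, nat_lit 0, nat_lit 2, nat_lit 0]))) (.node (nat_lit 1507) (.leaf ((nat_lit 318), [nat_lit 2, nat_lit 0])) (.leaf ((nat_lit 144), [nat_lit 2, nat_lit 1, nat_lit 2, nat_lit 0, nat_lit 2, nat_lit 1, nat_lit 0]))))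
 (.node (nat_lit 1510) (.node (nat_lit 1509) (.leaf ((nat_lit 97), [nat_lit 1, nat_lit 2, nat_lit 1, nat_lit 0])) (.leaf ((nat_lit 181), [nat_lit 1, nat_lit 2, nat_lit 1, nat_lit 0]))) (.node (nat_lit 1511) (.leaf ((nat_lit 335), [nat_lit 1, nat_lit 2, nat_lit 0, nat_lit 2])) (.leaf ((nat_lit 93), [nat_lit 1, nat_lit 2, nat_lit 0, nat_lit 2, nat_lit 1]))))))))))
noncomputable def n2Wd_6 : Tr (ℕ × List ℕ) := (.node (nat_lit 1638) (.node (nat_lit 1575) (.node (nat_lit 1543) (.node (nat_lit 1527) (.node (nat_lit 1519) (.node (nat_lit 1515) (.node (nat_lit 1513) (.leaf ((nat_lit 217), [])) (.node (nat_lit 1514) (.leaf ((nat_lit 208), [nat_lit 2, nat_lit 1, nat_lit 2, nat_lit 0, nat_lit 2, nat_lit 1, nat_lit 0])) (.leaf ((nat_lit 94), [nat_lit 1, nat_lit 0]))))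
 (.node (nat_lit 1517) (.node (nat_lit 1516) (.leaf ((nat_lit 263), [nat_lit 0, nat_lit 2, nat_lit 1, nat_lit 0])) (.leaf ((nat_lit 116), [nat_lit 1, nat_lit 0, nat_lit 2, nat_lit 1, nat_lit 0]))) (.node (nat_lit 1518) (.leaf ((nat_lit 117), [nat_lit 2, nat_lit 0, nat_lit 2, nat_lit 1])) (.leaf ((nat_lit 244), [nat_lit 1, nat_lit 0])))))
 (.node (nat_lit 1523) (.node (nat_lit 1521) (.node (nat_lit 1520) (.leaf ((nat_lit 132), [nat_lit 1, nat_lit 0, nat_lit 2, nat_lit 1, nat_lit 2, nat_lit 1])) (.leaf ((nat_lit 103), []))) (.node (nat_lit 1522) (.leaf ((nat_lit 191), [nat_lit 1, nat_lit 0, nat_lit 2, nat_lit 1])) (.leaf ((nat_lit 222), [nat_lit 1, nat_lit 0, nat_lit 2, nat_lit 0, nat_lit 2, nat_lit 1, nat_lit 0]))))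
 (.node (nat_lit 1525) (.node (nat_lit 1524) (.leaf ((nat_lit 94), [nat_lit 1, nat_lit 2, nat_lit 1, nat_lit 2, nat_lit 0])) (.leaf ((nat_lit 278), [nat_lit 2, nat_lit 0, nat_lit 2, nat_lit 1, nat_lit 2, nat_lit 0]))) (.node (nat_lit 1526) (.leaf ((nat_lit 319), [nat_lit 2, nat_lit 0, nat_lit 2, nat_lit 1, nat_lit 0])) (.leaf ((nat_lit 95), [nat_lit 2, nat_lit 0, nat_lit 2, nat_lit 1, nat_lit 2]))))))
 (.node (nat_lit 1535) (.node (nat_lit 1531) (.node (nat_lit 1529) (.node (nat_lit 1528) (.leaf ((nat_lit 171), [nat_lit 0, nat_lit 2, nat_lit 0, nat_lit 2, nat_lit 1])) (.leaf ((nat_lit 192), [nat_lit 1, nat_lit 0, nat_lit 2, nat_lit 1, nat_lit 2, nat_lit 1]))) (.node (nat_lit 1530) (.leaf ((nat_lit 287), [nat_lit 2, nat_lit 1, nat_lit 0])) (.leaf ((nat_lit 287), [nat_lit 2, nat_lit 1, nat_lit 2, nat_lit 0, nat_lit 2, nat_lit 1, nat_lit 0]))))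
 (.node (nat_lit 1533) (.node (nat_lit 1532) (.leaf ((nat_lit 286), [nat_lit 1, nat_lit 0, nat_lit 2, nat_lit 1, nat_lit 0])) (.leaf ((nat_lit 104), [nat_lit 1, nat_lit 2, nat_lit 0, nat_lit 2, nat_lit 0]))) (.node (nat_lit 1534) (.leaf ((nat_lit 213), [nat_lit 1, nat_lit 0, nat_lit 2, nat_lit 0, nat_lit 2, nat_lit 1, nat_lit 0])) (.leaf ((nat_lit 98), [nat_lit 2, nat_lit 1, nat_lit 2, nat_lit 0])))))
 (.node (nat_lit 1539) (.node (nat_lit 1537) (.node (nat_lit 1536) (.leaf ((nat_lit 272), [nat_lit 1, nat_lit 0, nat_lit 2, nat_lit 1])) (.leaf ((nat_lit 101), [nat_lit 1]))) (.node (nat_lit 1538) (.leaf ((nat_lit 100), [nat_lit 1, nat_lit 2, nat_lit 1, nat_lit 2, nat_lit 1])) (.leaf ((nat_lit 99), [nat_lit 1]))))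
 (.node (nat_lit 1541) (.node (nat_lit 1540) (.leaf ((nat_lit 292), [nat_lit 0, nat_lit 2, nat_lit 0, nat_lit 2, nat_lit 1, nat_lit 0])) (.leaf ((nat_lit 298), [nat_lit 0, nat_lit 2, nat_lit 0]))) (.node (nat_lit 1542) (.leaf ((nat_lit 237), [nat_lit 0, nat_lit 2, nat_lit 1, nat_lit 2])) (.leaf ((nat_lit 280), [nat_lit 1, nat_lit 0, nat_lit 2, nat_lit 0, nat_lit 2, nat_lit 1, nat_lit 0])))))))
 (.node (nat_lit 1559) (.node (nat_lit 1551) (.node (nat_lit 1547) (.node (nat_lit 1545) (.node (nat_lit 1544) (.leaf ((nat_lit 225), [nat_lit 2, nat_lit 1, nat_lit 2, nat_lit 0, nat_lit 2])) (.leaf ((nat_lit 102), [nat_lit 1, nat_lit 2]))) (.node (nat_lit 1546) (.leaf ((nat_lit 282), [])) (.leaf ((nat_lit 211), [nat_lit 0, nat_lit 2, nat_lit 1]))))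
 (.node (nat_lit 1549) (.node (nat_lit 1548) (.leaf ((nat_lit 173), [nat_lit 0, nat_lit 2, nat_lit 1, nat_lit 2, nat_lit 1, nat_lit 0])) (.leaf ((nat_lit 104), [nat_lit 1, nat_lit 0, nat_lit 2, nat_lit 1, nat_lit 2, nat_lit 1, nat_lit 0]))) (.node (nat_lit 1550) (.leaf ((nat_lit 239), [nat_lit 1, nat_lit 2, nat_lit 1])) (.leaf ((nat_lit 287), [nat_lit 1, nat_lit 2, nat_lit 0, nat_lit 2, nat_lit 1, nat_lit 0])))))
 (.node (nat_lit 1555) (.node (nat_lit 1553) (.node (nat_lit 1552) (.leaf ((nat_lit 319), [nat_lit 1, nat_lit 2, nat_lit 0, nat_lit 2, nat_lit 1, nat_lit 0])) (.leaf ((nat_lit 126), [nat_lit 0, nat_lit 2, nat_lit 1, nat_lit 0]))) (.node (nat_lit 1554) (.leaf ((nat_lit 241), [nat_lit 1, nat_lit 2, nat_lit 0, nat_lit 2, nat_lit 0])) (.leaf ((nat_lit 239), [nat_lit 2, nat_lit 1]))))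
 (.node (nat_lit 1557) (.node (nat_lit 1556) (.leaf ((nat_lit 104), [nat_lit 1, nat_lit 2, nat_lit 1, nat_lit 2, nat_lit 1, nat_lit 0])) (.leaf ((nat_lit 286), [nat_lit 1, nat_lit 0, nat_lit 2, nat_lit 0, nat_lit 2]))) (.node (nat_lit 1558) (.leaf ((nat_lit 327), [nat_lit 1, nat_lit 2, nat_lit 1, nat_lit 2, nat_lit 0])) (.leaf ((nat_lit 324), [nat_lit 0, nat_lit 2, nat_lit 0, nat_lit 2, nat_lit 1, nat_lit 0]))))))
 (.node (nat_lit 1567) (.node (nat_lit 1563) (.node (nat_lit 1561) (.node (nat_lit 1560) (.leaf ((nat_lit 313), [nat_lit 1, nat_lit 2, nat_lit 1])) (.leaf ((nat_lit 105), [nat_lit 2, nat_lit 1, nat_lit 2, nat_lit 0, nat_lit 2, nat_lit 0]))) (.node (nat_lit 1562) (.leaf ((nat_lit 196), [nat_lit 2, nat_lit 1, nat_lit 2, nat_lit 1, nat_lit 0])) (.leaf ((nat_lit 335), [nat_lit 1, nat_lit 0, nat_lit 2, nat_lit 1, nat_lit 2, nat_lit 0]))))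
 (.node (nat_lit 1565) (.node (nat_lit 1564) (.leaf ((nat_lit 126), [nat_lit 2, nat_lit 0, nat_lit 2, nat_lit 1, nat_lit 2, nat_lit 1])) (.leaf ((nat_lit 319), [nat_lit 1, nat_lit 0, nat_lit 2, nat_lit 1, nat_lit 2, nat_lit 1]))) (.node (nat_lit 1566) (.leaf ((nat_lit 166), [nat_lit 1, nat_lit 0, nat_lit 2, nat_lit 0])) (.leaf ((nat_lit 196), [nat_lit 1, nat_lit 0])))))
 (.node (nat_lit 1571) (.node (nat_lit 1569) (.node (nat_lit 1568) (.leaf ((nat_lit 105), [nat_lit 0, nat_lit 2, nat_lit 0, nat_lit 2])) (.leaf ((nat_lit 108), [nat_lit 1, nat_lit 0]))) (.node (nat_lit 1570) (.leaf ((nat_lit 310), [nat_lit 1, nat_lit 2, nat_lit 0, nat_lit 2, nat_lit 0])) (.leaf ((nat_lit 318), [nat_lit 2, nat_lit 0, nat_lit 2, nat_lit 1, nat_lit 2, nat_lit 0]))))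
 (.node (nat_lit 1573) (.node (nat_lit 1572) (.leaf ((nat_lit 200), [nat_lit 2, nat_lit 1, nat_lit 2, nat_lit 0])) (.leaf ((nat_lit 335), [nat_lit 1, nat_lit 2, nat_lit 1, nat_lit 2, nat_lit 1, nat_lit 0]))) (.node (nat_lit 1574) (.leaf ((nat_lit 108), [nat_lit 0, nat_lit 2, nat_lit 0, nat_lit 2, nat_lit 1, nat_lit 0])) (.leaf ((nat_lit 105), [nat_lit 1, nat_lit 0, nat_lit 2, nat_lit 0, nat_lit 2, nat_lit 0]))))))))
 (.node (nat_lit 1606) (.node (nat_lit 1590) (.node (nat_lit 1582) (.node (nat_lit 1578) (.node (nat_lit 1576) (.leaf ((nat_lit 136), [nat_lit 2, nat_lit 1, nat_lit 2, nat_lit 1])) (.node (nat_lit 1577) (.leaf ((nat_lit 194), [nat_lit 2, nat_lit 0, nat_lit 2, nat_lit 1, nat_lit 2, nat_lit 1])) (.leaf ((nat_lit 210), [nat_lit 1, nat_lit 2]))))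
 (.node (nat_lit 1580) (.node (nat_lit 1579) (.leaf ((nat_lit 106), [nat_lit 2, nat_lit 0, nat_lit 2, nat_lit 1])) (.leaf ((nat_lit 235), [nat_lit 1, nat_lit 2, nat_lit 1]))) (.node (nat_lit 1581) (.leaf ((nat_lit 310), [nat_lit 1, nat_lit 2, nat_lit 1, nat_lit 2, nat_lit 1])) (.leaf ((nat_lit 252), [nat_lit 1, nat_lit 0, nat_lit 2, nat_lit 0])))))
 (.node (nat_lit 1586) (.node (nat_lit 1584) (.node (nat_lit 1583) (.leaf ((nat_lit 236), [nat_lit 2, nat_lit 1, nat_lit 2, nat_lit 0])) (.leaf ((nat_lit 273), [nat_lit 2, nat_lit 1, nat_lit 2]))) (.node (nat_lit 1585) (.leaf ((nat_lit 235), [nat_lit 0])) (.leaf ((nat_lit 106), [nat_lit 2, nat_lit 1]))))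
 (.node (nat_lit 1588) (.node (nat_lit 1587) (.leaf ((nat_lit 290), [nat_lit 0])) (.leaf ((nat_lit 114), [nat_lit 0, nat_lit 2, nat_lit 1, nat_lit 0]))) (.node (nat_lit 1589) (.leaf ((nat_lit 114), [nat_lit 1, nat_lit 2, nat_lit 1, nat_lit 2])) (.leaf ((nat_lit 264), [nat_lit 0, nat_lit 2, nat_lit 0, nat_lit 2, nat_lit 0]))))))
 (.node (nat_lit 1598) (.node (nat_lit 1594) (.node (nat_lit 1592) (.node (nat_lit 1591) (.leaf ((nat_lit 107), [nat_lit 2, nat_lit 1, nat_lit 2, nat_lit 0, nat_lit 2, nat_lit 1, nat_lit 0])) (.leaf ((nat_lit 228), [nat_lit 2]))) (.node (nat_lit 1593) (.leaf ((nat_lit 325), [nat_lit 0, nat_lit 2, nat_lit 1])) (.leaf ((nat_lit 274), [nat_lit 0, nat_lit 2, nat_lit 1, nat_lit 0]))))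
 (.node (nat_lit 1596) (.node (nat_lit 1595) (.leaf ((nat_lit 273), [nat_lit 2])) (.leaf ((nat_lit 236), [nat_lit 2, nat_lit 1, nat_lit 2, nat_lit 0, nat_lit 2]))) (.node (nat_lit 1597) (.leaf ((nat_lit 228), [nat_lit 1, nat_lit 0, nat_lit 2])) (.leaf ((nat_lit 107), [nat_lit 2, nat_lit 1, nat_lit 2, nat_lit 1])))))
 (.node (nat_lit 1602) (.node (nat_lit 1600) (.node (nat_lit 1599) (.leaf ((nat_lit 313), [nat_lit 1, nat_lit 2, nat_lit 0])) (.leaf ((nat_lit 117), [nat_lit 1, nat_lit 0, nat_lit 2, nat_lit 0]))) (.node (nat_lit 1601) (.leaf ((nat_lit 117), [nat_lit 1])) (.leaf ((nat_lit 266), [nat_lit 0, nat_lit 2, nat_lit 1, nat_lit 2, nat_lit 0]))))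
 (.node (nat_lit 1604) (.node (nat_lit 1603) (.leaf ((nat_lit 325), [nat_lit 1, nat_lit 0, nat_lit 2, nat_lit 0])) (.leaf ((nat_lit 313), [nat_lit 1, nat_lit 0, nat_lit 2, nat_lit 1, nat_lit 2]))) (.node (nat_lit 1605) (.leaf ((nat_lit 107), [nat_lit 1, nat_lit 0, nat_lit 2, nat_lit 0, nat_lit 2, nat_lit 1])) (.leaf ((nat_lit 329), [nat_lit 1, nat_lit 2, nat_lit 1, nat_lit 2, nat_lit 1])))))))
 (.node (nat_lit 1622) (.node (nat_lit 1614) (.node (nat_lit 1610) (.node (nat_lit 1608) (.node (nat_lit 1607) (.leaf ((nat_lit 111), [])) (.leaf ((nat_lit 316), [nat_lit 2, nat_lit 0, nat_lit 2]))) (.node (nat_lit 1609) (.leaf ((nat_lit 108), [nat_lit 1, nat_lit 0])) (.leaf ((nat_lit 335), [nat_lit 0, nat_lit 2, nat_lit 0]))))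
 (.node (nat_lit 1612) (.node (nat_lit 1611) (.leaf ((nat_lit 196), [nat_lit 1, nat_lit 0])) (.leaf ((nat_lit 178), [nat_lit 1, nat_lit 0, nat_lit 2, nat_lit 1, nat_lit 2, nat_lit 1]))) (.node (nat_lit 1613) (.leaf ((nat_lit 332), [nat_lit 2, nat_lit 0, nat_lit 2, nat_lit 1, nat_lit 0])) (.leaf ((nat_lit 268), [nat_lit 1, nat_lit 0, nat_lit 2, nat_lit 0, nat_lit 2, nat_lit 1, nat_lit 0])))))
 (.node (nat_lit 1618) (.node (nat_lit 1616) (.node (nat_lit 1615) (.leaf ((nat_lit 300), [nat_lit 1, nat_lit 0, nat_lit 2, nat_lit 1, nat_lit 0])) (.leaf ((nat_lit 321), [nat_lit 1, nat_lit 0, nat_lit 2, nat_lit 1, nat_lit 2]))) (.node (nat_lit 1617) (.leaf ((nat_lit 233), [nat_lit 1, nat_lit 0, nat_lit 2, nat_lit 0, nat_lit 2, nat_lit 1])) (.leaf ((nat_lit 112), [nat_lit 1, nat_lit 2, nat_lit 1, nat_lit 2]))))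
 (.node (nat_lit 1620) (.node (nat_lit 1619) (.leaf ((nat_lit 296), [nat_lit 1, nat_lit 2, nat_lit 0, nat_lit 2, nat_lit 1])) (.leaf ((nat_lit 155), [nat_lit 1, nat_lit 2, nat_lit 0, nat_lit 2]))) (.node (nat_lit 1621) (.leaf ((nat_lit 173), [nat_lit 0])) (.leaf ((nat_lit 172), [nat_lit 0, nat_lit 2, nat_lit 0, nat_lit 2, nat_lit 0]))))))
 (.node (nat_lit 1630) (.node (nat_lit 1626) (.node (nat_lit 1624) (.node (nat_lit 1623) (.leaf ((nat_lit 304), [nat_lit 1, nat_lit 0])) (.leaf ((nat_lit 296), [nat_lit 0, nat_lit 2, nat_lit 1]))) (.node (nat_lit 1625) (.leaf ((nat_lit 112), [nat_lit 2, nat_lit 1, nat_lit 0])) (.leaf ((nat_lit 223), [nat_lit 1, nat_lit 0]))))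
 (.node (nat_lit 1628) (.node (nat_lit 1627) (.leaf ((nat_lit 114), [nat_lit 1, nat_lit 2, nat_lit 0, nat_lit 2, nat_lit 1])) (.leaf ((nat_lit 113), [nat_lit 1, nat_lit 2, nat_lit 0, nat_lit 2, nat_lit 1]))) (.node (nat_lit 1629) (.leaf ((nat_lit 317), [nat_lit 1, nat_lit 0, nat_lit 2, nat_lit 0, nat_lit 2, nat_lit 1, nat_lit 0])) (.leaf ((nat_lit 248), [nat_lit 2, nat_lit 1, nat_lit 2, nat_lit 1])))))
 (.node (nat_lit 1634) (.node (nat_lit 1632) (.node (nat_lit 1631) (.leaf ((nat_lit 131), [nat_lit 1, nat_lit 0, nat_lit 2, nat_lit 0])) (.leaf ((nat_lit 154), [nat_lit 0, nat_lit 2, nat_lit 0]))) (.node (nat_lit 1633) (.leaf ((nat_lit 115), [nat_lit 1, nat_lit 0, nat_lit 2, nat_lit 1])) (.leaf ((nat_lit 317), [nat_lit 0, nat_lit 2, nat_lit 0]))))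
 (.node (nat_lit 1636) (.node (nat_lit 1635) (.leaf ((nat_lit 113), [nat_lit 2, nat_lit 1])) (.leaf ((nat_lit 335), [nat_lit 1, nat_lit 2, nat_lit 0, nat_lit 2, nat_lit 1]))) (.node (nat_lit 1637) (.leaf ((nat_lit 181), [nat_lit 1, nat_lit 2, nat_lit 0])) (.leaf ((nat_lit 255), [nat_lit 1, nat_lit 2, nat_lit 1, nat_lit 0])))))))))
 (.node (nat_lit 1701) (.node (nat_lit 1669) (.node (nat_lit 1653) (.node (nat_lit 1645) (.node (nat_lit 1641) (.node (nat_lit 1639) (.leaf ((nat_lit 208), [nat_lit 2, nat_lit 1, nat_lit 2, nat_lit 1, nat_lit 0])) (.node (nat_lit 1640) (.leaf ((nat_lit 217), [nat_lit 1, nat_lit 0, nat_lit 2, nat_lit 1])) (.leaf ((nat_lit 127), [nat_lit 1, nat_lit 2, nat_lit 1]))))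
 (.node (nat_lit 1643) (.node (nat_lit 1642) (.leaf ((nat_lit 113), [])) (.leaf ((nat_lit 265), [nat_lit 2]))) (.node (nat_lit 1644) (.leaf ((nat_lit 263), [nat_lit 2, nat_lit 1, nat_lit 2])) (.leaf ((nat_lit 216), [nat_lit 1, nat_lit 0, nat_lit 2, nat_lit 1, nat_lit 2, nat_lit 0])))))
 (.node (nat_lit 1649) (.node (nat_lit 1647) (.node (nat_lit 1646) (.leaf ((nat_lit 209), [nat_lit 0, nat_lit 2, nat_lit 1, nat_lit 2, nat_lit 0])) (.leaf ((nat_lit 229), [nat_lit 2, nat_lit 0]))) (.node (nat_lit 1648) (.leaf ((nat_lit 265), [nat_lit 1, nat_lit 0, nat_lit 2, nat_lit 0])) (.leaf ((nat_lit 113), [nat_lit 1, nat_lit 0, nat_lit 2, nat_lit 1]))))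
 (.node (nat_lit 1651) (.node (nat_lit 1650) (.leaf ((nat_lit 114), [nat_lit 2, nat_lit 0, nat_lit 2, nat_lit 1, nat_lit 2, nat_lit 1, nat_lit 0])) (.leaf ((nat_lit 320), [nat_lit 1, nat_lit 0, nat_lit 2, nat_lit 1]))) (.node (nat_lit 1652) (.leaf ((nat_lit 297), [nat_lit 1, nat_lit 0, nat_lit 2, nat_lit 1])) (.leaf ((nat_lit 296), [nat_lit 0, nat_lit 2, nat_lit 1]))))))
 (.node (nat_lit 1661) (.node (nat_lit 1657) (.node (nat_lit 1655) (.node (nat_lit 1654) (.leaf ((nat_lit 157), [nat_lit 2, nat_lit 1, nat_lit 2, nat_lit 1, nat_lit 0])) (.leaf ((nat_lit 162), [nat_lit 1, nat_lit 2, nat_lit 0, nat_lit 2, nat_lit 0]))) (.node (nat_lit 1656) (.leaf ((nat_lit 115), [nat_lit 0, nat_lit 2, nat_lit 0, nat_lit 2, nat_lit 1, nat_lit 0])) (.leaf ((nat_lit 117), [nat_lit 2, nat_lit 0, nat_lit 2, nat_lit 1, nat_lit 2]))))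
 (.node (nat_lit 1659) (.node (nat_lit 1658) (.leaf ((nat_lit 116), [nat_lit 1, nat_lit 0, nat_lit 2, nat_lit 1, nat_lit 2, nat_lit 0])) (.leaf ((nat_lit 327), [nat_lit 1, nat_lit 0, nat_lit 2, nat_lit 0, nat_lit 2, nat_lit 1]))) (.node (nat_lit 1660) (.leaf ((nat_lit 214), [nat_lit 2, nat_lit 1, nat_lit 2, nat_lit 0])) (.leaf ((nat_lit 285), [nat_lit 1, nat_lit 2, nat_lit 1, nat_lit 2, nat_lit 0])))))
 (.node (nat_lit 1665) (.node (nat_lit 1663) (.node (nat_lit 1662) (.leaf ((nat_lit 175), [nat_lit 2, nat_lit 1, nat_lit 2, nat_lit 0])) (.leaf ((nat_lit 327), [nat_lit 2, nat_lit 1, nat_lit 2]))) (.node (nat_lit 1664) (.leaf ((nat_lit 118), [nat_lit 1, nat_lit 2, nat_lit 0, nat_lit 2, nat_lit 1])) (.leaf ((nat_lit 117), [nat_lit 1, nat_lit 0]))))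
 (.node (nat_lit 1667) (.node (nat_lit 1666) (.leaf ((nat_lit 122), [])) (.leaf ((nat_lit 312), [nat_lit 1, nat_lit 2, nat_lit 1, nat_lit 0]))) (.node (nat_lit 1668) (.leaf ((nat_lit 293), [nat_lit 1, nat_lit 0, nat_lit 2, nat_lit 0, nat_lit 2, nat_lit 1, nat_lit 0])) (.leaf ((nat_lit 254), [nat_lit 2, nat_lit 1, nat_lit 2, nat_lit 0, nat_lit 2, nat_lit 1])))))))
 (.node (nat_lit 1685) (.node (nat_lit 1677) (.node (nat_lit 1673) (.node (nat_lit 1671) (.node (nat_lit 1670) (.leaf ((nat_lit 332), [nat_lit 2, nat_lit 1, nat_lit 2, nat_lit 0, nat_lit 2, nat_lit 1])) (.leaf ((nat_lit 185), [nat_lit 1, nat_lit 0, nat_lit 2]))) (.node (nat_lit 1672) (.leaf ((nat_lit 118), [nat_lit 1, nat_lit 2])) (.leaf ((nat_lit 144), [nat_lit 1, nat_lit 0, nat_lit 2, nat_lit 1, nat_lit 2, nat_lit 0]))))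
 (.node (nat_lit 1675) (.node (nat_lit 1674) (.leaf ((nat_lit 325), [nat_lit 0, nat_lit 2, nat_lit 0, nat_lit 2])) (.leaf ((nat_lit 284), [nat_lit 2, nat_lit 0]))) (.node (nat_lit 1676) (.leaf ((nat_lit 227), [nat_lit 1, nat_lit 2, nat_lit 1])) (.leaf ((nat_lit 293), [nat_lit 2, nat_lit 0, nat_lit 2, nat_lit 1, nat_lit 2, nat_lit 1])))))
 (.node (nat_lit 1681) (.node (nat_lit 1679) (.node (nat_lit 1678) (.leaf ((nat_lit 120), [nat_lit 2, nat_lit 0, nat_lit 2, nat_lit 1, nat_lit 0])) (.leaf ((nat_lit 120), [nat_lit 1, nat_lit 0, nat_lit 2, nat_lit 0, nat_lit 2, nat_lit 1, nat_lit 0]))) (.node (nat_lit 1680) (.leaf ((nat_lit 250), [nat_lit 0, nat_lit 2, nat_lit 0, nat_lit 2, nat_lit 1, nat_lit 0])) (.leaf ((nat_lit 257), [nat_lit 1, nat_lit 0, nat_lit 2, nat_lit 0, nat_lit 2, nat_lit 1, nat_lit 0]))))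
 (.node (nat_lit 1683) (.node (nat_lit 1682) (.leaf ((nat_lit 210), [nat_lit 1, nat_lit 0, nat_lit 2, nat_lit 0, nat_lit 2])) (.leaf ((nat_lit 169), [nat_lit 1, nat_lit 2, nat_lit 1, nat_lit 2, nat_lit 1, nat_lit 0]))) (.node (nat_lit 1684) (.leaf ((nat_lit 331), [nat_lit 2, nat_lit 1, nat_lit 2, nat_lit 0, nat_lit 2, nat_lit 1, nat_lit 0])) (.leaf ((nat_lit 333), [nat_lit 2, nat_lit 1, nat_lit 2, nat_lit 1]))))))
 (.node (nat_lit 1693) (.node (nat_lit 1689) (.node (nat_lit 1687) (.node (nat_lit 1686) (.leaf ((nat_lit 121), [nat_lit 0, nat_lit 2, nat_lit 0, nat_lit 2])) (.leaf ((nat_lit 309), [nat_lit 2, nat_lit 0]))) (.node (nat_lit 1688) (.leaf ((nat_lit 308), [nat_lit 1, nat_lit 2, nat_lit 0, nat_lit 2, nat_lit 1, nat_lit 0])) (.leaf ((nat_lit 232), [nat_lit 0, nat_lit 2, nat_lit 0]))))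
 (.node (nat_lit 1691) (.node (nat_lit 1690) (.leaf ((nat_lit 312), [nat_lit 1, nat_lit 2, nat_lit 0])) (.leaf ((nat_lit 122), [nat_lit 1]))) (.node (nat_lit 1692) (.leaf ((nat_lit 184), [nat_lit 2, nat_lit 0, nat_lit 2, nat_lit 1])) (.leaf ((nat_lit 129), [nat_lit 1, nat_lit 0, nat_lit 2, nat_lit 1, nat_lit 0])))))
 (.node (nat_lit 1697) (.node (nat_lit 1695) (.node (nat_lit 1694) (.leaf ((nat_lit 123), [nat_lit 1, nat_lit 0, nat_lit 2, nat_lit 1])) (.leaf ((nat_lit 231), [nat_lit 1, nat_lit 0]))) (.node (nat_lit 1696) (.leaf ((nat_lit 257), [])) (.leaf ((nat_lit 234), [nat_lit 2, nat_lit 0, nat_lit 2, nat_lit 1, nat_lit 0]))))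
 (.node (nat_lit 1699) (.node (nat_lit 1698) (.leaf ((nat_lit 171), [nat_lit 0, nat_lit 2, nat_lit 0, nat_lit 2, nat_lit 1])) (.leaf ((nat_lit 295), [nat_lit 1, nat_lit 0, nat_lit 2, nat_lit 1, nat_lit 2, nat_lit 1]))) (.node (nat_lit 1700) (.leaf ((nat_lit 231), [nat_lit 2, nat_lit 0, nat_lit 2, nat_lit 1, nat_lit 0])) (.leaf ((nat_lit 123), [nat_lit 1, nat_lit 2, nat_lit 0, nat_lit 2, nat_lit 1]))))))))
 (.node (nat_lit 1732) (.node (nat_lit 1716) (.node (nat_lit 1708) (.node (nat_lit 1704) (.node (nat_lit 1702) (.leaf ((nat_lit 313), [nat_lit 0, nat_lit 2, nat_lit 0, nat_lit 2, nat_lit 1])) (.node (nat_lit 1703) (.leaf ((nat_lit 309), [nat_lit 2, nat_lit 1])) (.leaf ((nat_lit 130), [nat_lit 2, nat_lit 0, nat_lit 2, nat_lit 1]))))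
 (.node (nat_lit 1706) (.node (nat_lit 1705) (.leaf ((nat_lit 279), [nat_lit 0, nat_lit 2])) (.leaf ((nat_lit 331), [nat_lit 1, nat_lit 0, nat_lit 2, nat_lit 1, nat_lit 2]))) (.node (nat_lit 1707) (.leaf ((nat_lit 328), [nat_lit 1, nat_lit 2])) (.leaf ((nat_lit 124), [nat_lit 1, nat_lit 2, nat_lit 0, nat_lit 2])))))
 (.node (nat_lit 1712) (.node (nat_lit 1710) (.node (nat_lit 1709) (.leaf ((nat_lit 123), [nat_lit 1, nat_lit 2, nat_lit 1, nat_lit 0])) (.leaf ((nat_lit 312), [nat_lit 0, nat_lit 2, nat_lit 1, nat_lit 2]))) (.node (nat_lit 1711) (.leaf ((nat_lit 145), [nat_lit 2, nat_lit 0])) (.leaf ((nat_lit 170), [nat_lit 2, nat_lit 1, nat_lit 2, nat_lit 0, nat_lit 2, nat_lit 1, nat_lit 0]))))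
 (.node (nat_lit 1714) (.node (nat_lit 1713) (.leaf ((nat_lit 203), [nat_lit 1, nat_lit 0, nat_lit 2])) (.leaf ((nat_lit 228), [nat_lit 1, nat_lit 2, nat_lit 1, nat_lit 2, nat_lit 1]))) (.node (nat_lit 1715) (.leaf ((nat_lit 276), [nat_lit 0, nat_lit 2, nat_lit 1, nat_lit 2, nat_lit 1])) (.leaf ((nat_lit 123), [nat_lit 1, nat_lit 0, nat_lit 2, nat_lit 0, nat_lit 2, nat_lit 1, nat_lit 0]))))))
 (.node (nat_lit 1724) (.node (nat_lit 1720) (.node (nat_lit 1718) (.node (nat_lit 1717) (.leaf ((nat_lit 124), [nat_lit 0, nat_lit 2, nat_lit 0, nat_lit 2, nat_lit 1, nat_lit 0])) (.leaf ((nat_lit 255), [nat_lit 1, nat_lit 0, nat_lit 2, nat_lit 1, nat_lit 0]))) (.node (nat_lit 1719) (.leaf ((nat_lit 259), [nat_lit 2, nat_lit 0, nat_lit 2, nat_lit 1, nat_lit 0])) (.leaf ((nat_lit 134), [nat_lit 1, nat_lit 0, nat_lit 2, nat_lit 0, nat_lit 2]))))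
 (.node (nat_lit 1722) (.node (nat_lit 1721) (.leaf ((nat_lit 134), [nat_lit 1, nat_lit 0, nat_lit 2, nat_lit 1, nat_lit 2])) (.leaf ((nat_lit 334), [nat_lit 2, nat_lit 1, nat_lit 2]))) (.node (nat_lit 1723) (.leaf ((nat_lit 255), [nat_lit 2, nat_lit 0, nat_lit 2, nat_lit 1, nat_lit 2, nat_lit 1])) (.leaf ((nat_lit 124), [nat_lit 2, nat_lit 1, nat_lit 2, nat_lit 1, nat_lit 0])))))
 (.node (nat_lit 1728) (.node (nat_lit 1726) (.node (nat_lit 1725) (.leaf ((nat_lit 258), [nat_lit 1, nat_lit 0, nat_lit 2, nat_lit 0, nat_lit 2, nat_lit 1])) (.leaf ((nat_lit 210), [nat_lit 2, nat_lit 1, nat_lit 2, nat_lit 1]))) (.node (nat_lit 1727) (.leaf ((nat_lit 289), [nat_lit 1, nat_lit 0, nat_lit 2, nat_lit 1, nat_lit 0])) (.leaf ((nat_lit 254), [nat_lit 1, nat_lit 0, nat_lit 2]))))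
 (.node (nat_lit 1730) (.node (nat_lit 1729) (.leaf ((nat_lit 130), [nat_lit 2, nat_lit 0, nat_lit 2, nat_lit 1, nat_lit 2])) (.leaf ((nat_lit 126), [nat_lit 1, nat_lit 0, nat_lit 2, nat_lit 1, nat_lit 0]))) (.node (nat_lit 1731) (.leaf ((nat_lit 125), [nat_lit 0, nat_lit 2, nat_lit 1])) (.leaf ((nat_lit 303), [nat_lit 1, nat_lit 2, nat_lit 1, nat_lit 2, nat_lit 1, nat_lit 0])))))))
 (.node (nat_lit 1748) (.node (nat_lit 1740) (.node (nat_lit 1736) (.node (nat_lit 1734) (.node (nat_lit 1733) (.leaf ((nat_lit 307), [nat_lit 2, nat_lit 1, nat_lit 2, nat_lit 0])) (.leaf ((nat_lit 137), [nat_lit 2, nat_lit 0, nat_lit 2, nat_lit 1, nat_lit 2]))) (.node (nat_lit 1735) (.leaf ((nat_lit 250), [nat_lit 1, nat_lit 2, nat_lit 1, nat_lit 2, nat_lit 1, nat_lit 0])) (.leaf ((nat_lit 224), [nat_lit 2, nat_lit 0, nat_lit 2, nat_lit 1, nat_lit 2]))))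
 (.node (nat_lit 1738) (.node (nat_lit 1737) (.leaf ((nat_lit 128), [nat_lit 1, nat_lit 0, nat_lit 2, nat_lit 1, nat_lit 2, nat_lit 1, nat_lit 0])) (.leaf ((nat_lit 249), [nat_lit 1, nat_lit 2, nat_lit 1, nat_lit 2, nat_lit 1, nat_lit 0]))) (.node (nat_lit 1739) (.leaf ((nat_lit 287), [nat_lit 1, nat_lit 0, nat_lit 2, nat_lit 1, nat_lit 0])) (.leaf ((nat_lit 132), [nat_lit 1, nat_lit 2, nat_lit 0, nat_lit 2, nat_lit 0])))))
 (.node (nat_lit 1744) (.node (nat_lit 1742) (.node (nat_lit 1741) (.leaf ((nat_lit 155), [nat_lit 1, nat_lit 2, nat_lit 1, nat_lit 0])) (.leaf ((nat_lit 191), [nat_lit 2, nat_lit 1]))) (.node (nat_lit 1743) (.leaf ((nat_lit 264), [nat_lit 0])) (.leaf ((nat_lit 130), [nat_lit 0, nat_lit 2, nat_lit 1, nat_lit 0]))))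
 (.node (nat_lit 1746) (.node (nat_lit 1745) (.leaf ((nat_lit 241), [nat_lit 1, nat_lit 0, nat_lit 2, nat_lit 0, nat_lit 2])) (.leaf ((nat_lit 326), [nat_lit 1, nat_lit 0, nat_lit 2, nat_lit 0, nat_lit 2]))) (.node (nat_lit 1747) (.leaf ((nat_lit 242), [nat_lit 0, nat_lit 2])) (.leaf ((nat_lit 175), [nat_lit 2, nat_lit 1, nat_lit 2, nat_lit 1, nat_lit 0]))))))
 (.node (nat_lit 1756) (.node (nat_lit 1752) (.node (nat_lit 1750) (.node (nat_lit 1749) (.leaf ((nat_lit 238), [nat_lit 0])) (.leaf ((nat_lit 241), [nat_lit 2, nat_lit 1]))) (.node (nat_lit 1751) (.leaf ((nat_lit 130), [nat_lit 1, nat_lit 2, nat_lit 0, nat_lit 2, nat_lit 0])) (.leaf ((nat_lit 291), [nat_lit 1, nat_lit 2, nat_lit 0, nat_lit 2, nat_lit 1]))))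
 (.node (nat_lit 1754) (.node (nat_lit 1753) (.leaf ((nat_lit 137), [nat_lit 1, nat_lit 2, nat_lit 0, nat_lit 2, nat_lit 1])) (.leaf ((nat_lit 136), [nat_lit 1, nat_lit 2, nat_lit 1]))) (.node (nat_lit 1755) (.leaf ((nat_lit 131), [nat_lit 1, nat_lit 2, nat_lit 0, nat_lit 2])) (.leaf ((nat_lit 256), [nat_lit 1, nat_lit 0, nat_lit 2, nat_lit 0, nat_lit 2, nat_lit 0])))))
 (.node (nat_lit 1760) (.node (nat_lit 1758) (.node (nat_lit 1757) (.leaf ((nat_lit 149), [])) (.leaf ((nat_lit 301), [nat_lit 2, nat_lit 1, nat_lit 2, nat_lit 0, nat_lit 2, nat_lit 1, nat_lit 0]))) (.node (nat_lit 1759) (.leaf ((nat_lit 328), [nat_lit 2, nat_lit 1, nat_lit 2, nat_lit 0, nat_lit 2, nat_lit 1])) (.leaf ((nat_lit 133), [nat_lit 0, nat_lit 2, nat_lit 1, nat_lit 0]))))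
 (.node (nat_lit 1762) (.node (nat_lit 1761) (.leaf ((nat_lit 279), [nat_lit 2, nat_lit 1, nat_lit 2, nat_lit 0, nat_lit 2, nat_lit 1, nat_lit 0])) (.leaf ((nat_lit 176), [nat_lit 1, nat_lit 0, nat_lit 2, nat_lit 0, nat_lit 2, nat_lit 1, nat_lit 0]))) (.node (nat_lit 1763) (.leaf ((nat_lit 175), [nat_lit 1, nat_lit 0, nat_lit 2, nat_lit 1])) (.leaf ((nat_lit 277), [nat_lit 1, nat_lit 0, nat_lit 2, nat_lit 0, nat_lit 2, nat_lit 1, nat_lit 0]))))))))))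
noncomputable def n2Wd_7 : Tr (ℕ × List ℕ) := (.node (nat_lit 1890) (.node (nat_lit 1827) (.node (nat_lit 1795) (.node (nat_lit 1779) (.node (nat_lit 1771) (.node (nat_lit 1767) (.node (nat_lit 1765) (.leaf ((nat_lit 238), [nat_lit 1, nat_lit 2, nat_lit 1, nat_lit 0])) (.node (nat_lit 1766) (.leaf ((nat_lit 323), [nat_lit 1, nat_lit 2, nat_lit 1, nat_lit 0])) (.leaf ((nat_lit 242), [nat_lit 1, nat_lit 2]))))
 (.node (nat_lit 1769) (.node (nat_lit 1768) (.leaf ((nat_lit 297), [nat_lit 0, nat_lit 2, nat_lit 1])) (.leaf ((nat_lit 180), [nat_lit 1, nat_lit 0, nat_lit 2, nat_lit 0, nat_lit 2]))) (.node (nat_lit 1770) (.leaf ((nat_lit 133), [nat_lit 1, nat_lit 2, nat_lit 1, nat_lit 2, nat_lit 1, nat_lit 0])) (.leaf ((nat_lit 283), [nat_lit 1, nat_lit 2, nat_lit 1, nat_lit 2, nat_lit 1, nat_lit 0])))))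
 (.node (nat_lit 1775) (.node (nat_lit 1773) (.node (nat_lit 1772) (.leaf ((nat_lit 183), [nat_lit 2, nat_lit 0, nat_lit 2, nat_lit 1, nat_lit 2, nat_lit 1])) (.leaf ((nat_lit 134), [nat_lit 2, nat_lit 1, nat_lit 2, nat_lit 0]))) (.node (nat_lit 1774) (.leaf ((nat_lit 314), [nat_lit 1, nat_lit 2, nat_lit 1, nat_lit 2, nat_lit 1])) (.leaf ((nat_lit 323), [nat_lit 2, nat_lit 1, nat_lit 0]))))
 (.node (nat_lit 1777) (.node (nat_lit 1776) (.leaf ((nat_lit 302), [nat_lit 1, nat_lit 2, nat_lit 0, nat_lit 2, nat_lit 1])) (.leaf ((nat_lit 240), [nat_lit 2, nat_lit 0]))) (.node (nat_lit 1778) (.leaf ((nat_lit 135), [nat_lit 0, nat_lit 2, nat_lit 1, nat_lit 0])) (.leaf ((nat_lit 275), [nat_lit 1, nat_lit 2, nat_lit 0]))))))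
 (.node (nat_lit 1787) (.node (nat_lit 1783) (.node (nat_lit 1781) (.node (nat_lit 1780) (.leaf ((nat_lit 270), [nat_lit 1, nat_lit 2, nat_lit 0])) (.leaf ((nat_lit 269), [nat_lit 1, nat_lit 2, nat_lit 0, nat_lit 2, nat_lit 1]))) (.node (nat_lit 1782) (.leaf ((nat_lit 213), [nat_lit 1, nat_lit 2, nat_lit 0, nat_lit 2])) (.leaf ((nat_lit 241), [nat_lit 2, nat_lit 1, nat_lit 2, nat_lit 0, nat_lit 2, nat_lit 0]))))
 (.node (nat_lit 1785) (.node (nat_lit 1784) (.leaf ((nat_lit 275), [nat_lit 1, nat_lit 2, nat_lit 1, nat_lit 0])) (.leaf ((nat_lit 135), [nat_lit 0, nat_lit 2, nat_lit 0]))) (.node (nat_lit 1786) (.leaf ((nat_lit 294), [nat_lit 1, nat_lit 2, nat_lit 0])) (.leaf ((nat_lit 137), [nat_lit 1, nat_lit 0, nat_lit 2, nat_lit 0, nat_lit 2, nat_lit 1])))))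
 (.node (nat_lit 1791) (.node (nat_lit 1789) (.node (nat_lit 1788) (.leaf ((nat_lit 307), [nat_lit 2, nat_lit 1])) (.leaf ((nat_lit 307), [nat_lit 1, nat_lit 2, nat_lit 0, nat_lit 2, nat_lit 1]))) (.node (nat_lit 1790) (.leaf ((nat_lit 334), [nat_lit 0, nat_lit 2, nat_lit 0, nat_lit 2])) (.leaf ((nat_lit 154), [nat_lit 0, nat_lit 2]))))
 (.node (nat_lit 1793) (.node (nat_lit 1792) (.leaf ((nat_lit 149), [nat_lit 2, nat_lit 0, nat_lit 2, nat_lit 1, nat_lit 2, nat_lit 1])) (.leaf ((nat_lit 256), [nat_lit 0, nat_lit 2, nat_lit 0]))) (.node (nat_lit 1794) (.leaf ((nat_lit 138), [nat_lit 2, nat_lit 1, nat_lit 0])) (.leaf ((nat_lit 142), [nat_lit 2, nat_lit 1, nat_lit 2, nat_lit 0, nat_lit 2])))))))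
 (.node (nat_lit 1811) (.node (nat_lit 1803) (.node (nat_lit 1799) (.node (nat_lit 1797) (.node (nat_lit 1796) (.leaf ((nat_lit 140), [nat_lit 0, nat_lit 2, nat_lit 0, nat_lit 2, nat_lit 0])) (.leaf ((nat_lit 139), [nat_lit 2, nat_lit 0, nat_lit 2, nat_lit 1, nat_lit 2]))) (.node (nat_lit 1798) (.leaf ((nat_lit 162), [nat_lit 1, nat_lit 2, nat_lit 1, nat_lit 2, nat_lit 1, nat_lit 0])) (.leaf ((nat_lit 157), [nat_lit 2, nat_lit 1, nat_lit 2, nat_lit 0, nat_lit 2]))))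
 (.node (nat_lit 1801) (.node (nat_lit 1800) (.leaf ((nat_lit 147), [nat_lit 2, nat_lit 1, nat_lit 2, nat_lit 0, nat_lit 2])) (.leaf ((nat_lit 269), [nat_lit 1, nat_lit 0, nat_lit 2, nat_lit 1, nat_lit 0]))) (.node (nat_lit 1802) (.leaf ((nat_lit 181), [nat_lit 1, nat_lit 0, nat_lit 2, nat_lit 1])) (.leaf ((nat_lit 226), [nat_lit 1, nat_lit 0, nat_lit 2, nat_lit 0, nat_lit 2, nat_lit 1, nat_lit 0])))))
 (.node (nat_lit 1807) (.node (nat_lit 1805) (.node (nat_lit 1804) (.leaf ((nat_lit 142), [nat_lit 0, nat_lit 2, nat_lit 0])) (.leaf ((nat_lit 150), [nat_lit 1, nat_lit 0, nat_lit 2, nat_lit 1, nat_lit 0]))) (.node (nat_lit 1806) (.leaf ((nat_lit 315), [nat_lit 1, nat_lit 0, nat_lit 2, nat_lit 0, nat_lit 2, nat_lit 1])) (.leaf ((nat_lit 147), [nat_lit 2, nat_lit 1, nat_lit 2, nat_lit 0]))))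
 (.node (nat_lit 1809) (.node (nat_lit 1808) (.leaf ((nat_lit 146), [nat_lit 1, nat_lit 2, nat_lit 1])) (.leaf ((nat_lit 143), [nat_lit 1, nat_lit 0, nat_lit 2, nat_lit 0, nat_lit 2, nat_lit 0]))) (.node (nat_lit 1810) (.leaf ((nat_lit 165), [nat_lit 1, nat_lit 0, nat_lit 2, nat_lit 0, nat_lit 2, nat_lit 0])) (.leaf ((nat_lit 240), [nat_lit 2, nat_lit 1, nat_lit 2, nat_lit 0, nat_lit 2, nat_lit 1, nat_lit 0]))))))
 (.node (nat_lit 1819) (.node (nat_lit 1815) (.node (nat_lit 1813) (.node (nat_lit 1812) (.leaf ((nat_lit 292), [nat_lit 2, nat_lit 0, nat_lit 2, nat_lit 1, nat_lit 2, nat_lit 1])) (.leaf ((nat_lit 203), [nat_lit 0, nat_lit 2, nat_lit 0, nat_lit 2]))) (.node (nat_lit 1814) (.leaf ((nat_lit 171), [])) (.leaf ((nat_lit 145), [nat_lit 1, nat_lit 2, nat_lit 0, nat_lit 2, nat_lit 1]))))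
 (.node (nat_lit 1817) (.node (nat_lit 1816) (.leaf ((nat_lit 239), [nat_lit 2, nat_lit 0, nat_lit 2, nat_lit 1, nat_lit 2, nat_lit 1])) (.leaf ((nat_lit 311), [nat_lit 0, nat_lit 2, nat_lit 0]))) (.node (nat_lit 1818) (.leaf ((nat_lit 295), [nat_lit 1, nat_lit 2, nat_lit 0, nat_lit 2, nat_lit 1])) (.leaf ((nat_lit 237), [nat_lit 2, nat_lit 0, nat_lit 2, nat_lit 1, nat_lit 0])))))
 (.node (nat_lit 1823) (.node (nat_lit 1821) (.node (nat_lit 1820) (.leaf ((nat_lit 148), [nat_lit 2, nat_lit 0, nat_lit 2, nat_lit 1, nat_lit 0])) (.leaf ((nat_lit 248), [nat_lit 0]))) (.node (nat_lit 1822) (.leaf ((nat_lit 288), [nat_lit 1, nat_lit 0, nat_lit 2, nat_lit 1, nat_lit 2, nat_lit 1])) (.leaf ((nat_lit 153), [nat_lit 2, nat_lit 1, nat_lit 2, nat_lit 1, nat_lit 0]))))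
 (.node (nat_lit 1825) (.node (nat_lit 1824) (.leaf ((nat_lit 221), [nat_lit 1, nat_lit 2, nat_lit 0, nat_lit 2])) (.leaf ((nat_lit 157), [nat_lit 2, nat_lit 1, nat_lit 2, nat_lit 1]))) (.node (nat_lit 1826) (.leaf ((nat_lit 219), [nat_lit 2, nat_lit 1, nat_lit 2, nat_lit 0, nat_lit 2, nat_lit 1])) (.leaf ((nat_lit 270), [nat_lit 1, nat_lit 0]))))))))
 (.node (nat_lit 1858) (.node (nat_lit 1842) (.node (nat_lit 1834) (.node (nat_lit 1830) (.node (nat_lit 1828) (.leaf ((nat_lit 240), [])) (.node (nat_lit 1829) (.leaf ((nat_lit 165), [nat_lit 0, nat_lit 2, nat_lit 0])) (.leaf ((nat_lit 148), [nat_lit 1, nat_lit 2, nat_lit 0, nat_lit 2, nat_lit 1]))))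
 (.node (nat_lit 1832) (.node (nat_lit 1831) (.leaf ((nat_lit 153), [nat_lit 1, nat_lit 0, nat_lit 2, nat_lit 1])) (.leaf ((nat_lit 150), [nat_lit 1, nat_lit 2, nat_lit 1, nat_lit 2, nat_lit 1]))) (.node (nat_lit 1833) (.leaf ((nat_lit 149), [nat_lit 1])) (.leaf ((nat_lit 308), [nat_lit 2, nat_lit 1, nat_lit 2, nat_lit 0, nat_lit 2, nat_lit 0])))))
 (.node (nat_lit 1838) (.node (nat_lit 1836) (.node (nat_lit 1835) (.leaf ((nat_lit 317), [nat_lit 0, nat_lit 2, nat_lit 1, nat_lit 2, nat_lit 0])) (.leaf ((nat_lit 167), [nat_lit 0, nat_lit 2, nat_lit 1, nat_lit 2]))) (.node (nat_lit 1837) (.leaf ((nat_lit 312), [nat_lit 1])) (.leaf ((nat_lit 151), [nat_lit 2, nat_lit 1, nat_lit 2, nat_lit 1, nat_lit 0]))))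
 (.node (nat_lit 1840) (.node (nat_lit 1839) (.leaf ((nat_lit 311), [])) (.leaf ((nat_lit 334), [nat_lit 1, nat_lit 0, nat_lit 2]))) (.node (nat_lit 1841) (.leaf ((nat_lit 218), [nat_lit 2, nat_lit 1, nat_lit 0])) (.leaf ((nat_lit 234), [nat_lit 1, nat_lit 0, nat_lit 2, nat_lit 1, nat_lit 2]))))))
 (.node (nat_lit 1850) (.node (nat_lit 1846) (.node (nat_lit 1844) (.node (nat_lit 1843) (.leaf ((nat_lit 298), [nat_lit 1, nat_lit 2, nat_lit 0, nat_lit 2, nat_lit 1])) (.leaf ((nat_lit 232), [nat_lit 1, nat_lit 0, nat_lit 2]))) (.node (nat_lit 1845) (.leaf ((nat_lit 308), [nat_lit 0, nat_lit 2, nat_lit 0, nat_lit 2, nat_lit 1])) (.leaf ((nat_lit 153), [nat_lit 2, nat_lit 0, nat_lit 2, nat_lit 0]))))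
 (.node (nat_lit 1848) (.node (nat_lit 1847) (.leaf ((nat_lit 288), [nat_lit 0, nat_lit 2, nat_lit 1, nat_lit 2])) (.leaf ((nat_lit 297), [nat_lit 1, nat_lit 2]))) (.node (nat_lit 1849) (.leaf ((nat_lit 154), [nat_lit 0, nat_lit 2, nat_lit 1, nat_lit 0])) (.leaf ((nat_lit 281), [nat_lit 1, nat_lit 0, nat_lit 2, nat_lit 0, nat_lit 2, nat_lit 1])))))
 (.node (nat_lit 1854) (.node (nat_lit 1852) (.node (nat_lit 1851) (.leaf ((nat_lit 307), [nat_lit 1, nat_lit 2, nat_lit 0, nat_lit 2, nat_lit 0])) (.leaf ((nat_lit 305), [nat_lit 2, nat_lit 0, nat_lit 2, nat_lit 1, nat_lit 2, nat_lit 1, nat_lit 0]))) (.node (nat_lit 1853) (.leaf ((nat_lit 326), [nat_lit 2, nat_lit 1, nat_lit 0])) (.leaf ((nat_lit 209), [nat_lit 1, nat_lit 0, nat_lit 2, nat_lit 0, nat_lit 2, nat_lit 0]))))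
 (.node (nat_lit 1856) (.node (nat_lit 1855) (.leaf ((nat_lit 281), [nat_lit 0, nat_lit 2])) (.leaf ((nat_lit 154), [nat_lit 2, nat_lit 1, nat_lit 2, nat_lit 1, nat_lit 0]))) (.node (nat_lit 1857) (.leaf ((nat_lit 334), [nat_lit 1, nat_lit 0, nat_lit 2, nat_lit 1, nat_lit 0])) (.leaf ((nat_lit 158), [nat_lit 2, nat_lit 1, nat_lit 2, nat_lit 1, nat_lit 0])))))))
 (.node (nat_lit 1874) (.node (nat_lit 1866) (.node (nat_lit 1862) (.node (nat_lit 1860) (.node (nat_lit 1859) (.leaf ((nat_lit 283), [nat_lit 1, nat_lit 2])) (.leaf ((nat_lit 309), [nat_lit 1, nat_lit 2, nat_lit 1, nat_lit 2, nat_lit 1]))) (.node (nat_lit 1861) (.leaf ((nat_lit 191), [nat_lit 2, nat_lit 1, nat_lit 2, nat_lit 1])) (.leaf ((nat_lit 155), [nat_lit 0, nat_lit 2, nat_lit 0]))))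
 (.node (nat_lit 1864) (.node (nat_lit 1863) (.leaf ((nat_lit 263), [nat_lit 1, nat_lit 2, nat_lit 1, nat_lit 2, nat_lit 1])) (.leaf ((nat_lit 261), [nat_lit 0, nat_lit 2, nat_lit 0, nat_lit 2, nat_lit 1]))) (.node (nat_lit 1865) (.leaf ((nat_lit 163), [nat_lit 1, nat_lit 0, nat_lit 2, nat_lit 1, nat_lit 0])) (.leaf ((nat_lit 186), [nat_lit 1, nat_lit 0, nat_lit 2, nat_lit 1, nat_lit 2, nat_lit 1])))))
 (.node (nat_lit 1870) (.node (nat_lit 1868) (.node (nat_lit 1867) (.leaf ((nat_lit 158), [nat_lit 2, nat_lit 1, nat_lit 2, nat_lit 0])) (.leaf ((nat_lit 156), [nat_lit 2, nat_lit 0, nat_lit 2, nat_lit 1, nat_lit 2]))) (.node (nat_lit 1869) (.leaf ((nat_lit 306), [])) (.leaf ((nat_lit 232), []))))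
 (.node (nat_lit 1872) (.node (nat_lit 1871) (.leaf ((nat_lit 302), [nat_lit 0, nat_lit 2, nat_lit 0])) (.leaf ((nat_lit 323), [nat_lit 2, nat_lit 1, nat_lit 2, nat_lit 0]))) (.node (nat_lit 1873) (.leaf ((nat_lit 306), [nat_lit 1])) (.leaf ((nat_lit 159), [nat_lit 1, nat_lit 2, nat_lit 1, nat_lit 2, nat_lit 1]))))))
 (.node (nat_lit 1882) (.node (nat_lit 1878) (.node (nat_lit 1876) (.node (nat_lit 1875) (.leaf ((nat_lit 158), [nat_lit 2, nat_lit 1, nat_lit 2, nat_lit 1, nat_lit 0])) (.leaf ((nat_lit 281), [nat_lit 0, nat_lit 2, nat_lit 1]))) (.node (nat_lit 1877) (.leaf ((nat_lit 277), [nat_lit 1, nat_lit 0, nat_lit 2, nat_lit 1])) (.leaf ((nat_lit 284), [nat_lit 2, nat_lit 1, nat_lit 2, nat_lit 0]))))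
 (.node (nat_lit 1880) (.node (nat_lit 1879) (.leaf ((nat_lit 176), [nat_lit 0, nat_lit 2])) (.leaf ((nat_lit 267), [nat_lit 2, nat_lit 1, nat_lit 2, nat_lit 1, nat_lit 0]))) (.node (nat_lit 1881) (.leaf ((nat_lit 266), [nat_lit 0, nat_lit 2, nat_lit 1])) (.leaf ((nat_lit 283), [nat_lit 1, nat_lit 2, nat_lit 0, nat_lit 2, nat_lit 0])))))
 (.node (nat_lit 1886) (.node (nat_lit 1884) (.node (nat_lit 1883) (.leaf ((nat_lit 158), [nat_lit 1, nat_lit 2, nat_lit 1, nat_lit 2, nat_lit 1, nat_lit 0])) (.leaf ((nat_lit 259), [nat_lit 1, nat_lit 2, nat_lit 1]))) (.node (nat_lit 1885) (.leaf ((nat_lit 218), [nat_lit 0, nat_lit 2, nat_lit 1, nat_lit 2, nat_lit 0])) (.leaf ((nat_lit 215), [nat_lit 1, nat_lit 0, nat_lit 2, nat_lit 0, nat_lit 2]))))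
 (.node (nat_lit 1888) (.node (nat_lit 1887) (.leaf ((nat_lit 214), [nat_lit 1, nat_lit 2, nat_lit 0, nat_lit 2])) (.leaf ((nat_lit 295), [nat_lit 1, nat_lit 2, nat_lit 1, nat_lit 2, nat_lit 1]))) (.node (nat_lit 1889) (.leaf ((nat_lit 174), [nat_lit 2, nat_lit 1, nat_lit 2, nat_lit 0, nat_lit 2, nat_lit 1, nat_lit 0])) (.leaf ((nat_lit 160), [nat_lit 2, nat_lit 0, nat_lit 2, nat_lit 1, nat_lit 2, nat_lit 1])))))))))
 (.node (nat_lit 1953) (.node (nat_lit 1921) (.node (nat_lit 1905) (.node (nat_lit 1897) (.node (nat_lit 1893) (.node (nat_lit 1891) (.leaf ((nat_lit 190), [nat_lit 1, nat_lit 0])) (.node (nat_lit 1892) (.leaf ((nat_lit 188), [nat_lit 2])) (.leaf ((nat_lit 161), [nat_lit 0, nat_lit 2, nat_lit 1, nat_lit 2, nat_lit 1, nat_lit 0]))))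
 (.node (nat_lit 1895) (.node (nat_lit 1894) (.leaf ((nat_lit 221), [nat_lit 1, nat_lit 2, nat_lit 1, nat_lit 2, nat_lit 1, nat_lit 0])) (.leaf ((nat_lit 173), [nat_lit 0, nat_lit 2, nat_lit 0, nat_lit 2, nat_lit 1, nat_lit 0]))) (.node (nat_lit 1896) (.leaf ((nat_lit 300), [nat_lit 1, nat_lit 2, nat_lit 0, nat_lit 2, nat_lit 1, nat_lit 0])) (.leaf ((nat_lit 164), [nat_lit 1, nat_lit 0, nat_lit 2, nat_lit 1, nat_lit 2, nat_lit 1])))))
 (.node (nat_lit 1901) (.node (nat_lit 1899) (.node (nat_lit 1898) (.leaf ((nat_lit 249), [nat_lit 1, nat_lit 2, nat_lit 0, nat_lit 2, nat_lit 1, nat_lit 0])) (.leaf ((nat_lit 162), [nat_lit 1, nat_lit 2, nat_lit 1, nat_lit 2, nat_lit 1, nat_lit 0]))) (.node (nat_lit 1900) (.leaf ((nat_lit 223), [nat_lit 0, nat_lit 2, nat_lit 0])) (.leaf ((nat_lit 233), []))))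
 (.node (nat_lit 1903) (.node (nat_lit 1902) (.leaf ((nat_lit 267), [nat_lit 2, nat_lit 0, nat_lit 2])) (.leaf ((nat_lit 243), [nat_lit 0, nat_lit 2, nat_lit 0]))) (.node (nat_lit 1904) (.leaf ((nat_lit 272), [nat_lit 0, nat_lit 2, nat_lit 0])) (.leaf ((nat_lit 271), [nat_lit 1, nat_lit 0, nat_lit 2, nat_lit 0, nat_lit 2, nat_lit 1, nat_lit 0]))))))
 (.node (nat_lit 1913) (.node (nat_lit 1909) (.node (nat_lit 1907) (.node (nat_lit 1906) (.leaf ((nat_lit 326), [nat_lit 1, nat_lit 0, nat_lit 2, nat_lit 1, nat_lit 2, nat_lit 1])) (.leaf ((nat_lit 305), [nat_lit 0, nat_lit 2, nat_lit 1, nat_lit 2, nat_lit 0]))) (.node (nat_lit 1908) (.leaf ((nat_lit 162), [nat_lit 1, nat_lit 2, nat_lit 0])) (.leaf ((nat_lit 251), [nat_lit 0, nat_lit 2]))))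
 (.node (nat_lit 1911) (.node (nat_lit 1910) (.leaf ((nat_lit 195), [nat_lit 2, nat_lit 1, nat_lit 2, nat_lit 1, nat_lit 0])) (.leaf ((nat_lit 192), [nat_lit 1, nat_lit 2, nat_lit 1, nat_lit 2, nat_lit 0]))) (.node (nat_lit 1912) (.leaf ((nat_lit 163), [nat_lit 0, nat_lit 2, nat_lit 1, nat_lit 2, nat_lit 1])) (.leaf ((nat_lit 261), [nat_lit 2, nat_lit 1, nat_lit 2, nat_lit 0, nat_lit 2, nat_lit 1])))))
 (.node (nat_lit 1917) (.node (nat_lit 1915) (.node (nat_lit 1914) (.leaf ((nat_lit 318), [nat_lit 1, nat_lit 0, nat_lit 2, nat_lit 1, nat_lit 2, nat_lit 1, nat_lit 0])) (.leaf ((nat_lit 332), [nat_lit 1, nat_lit 0, nat_lit 2, nat_lit 0, nat_lit 2]))) (.node (nat_lit 1916) (.leaf ((nat_lit 254), [nat_lit 1, nat_lit 0, nat_lit 2, nat_lit 0, nat_lit 2])) (.leaf ((nat_lit 220), [nat_lit 2, nat_lit 0, nat_lit 2, nat_lit 1, nat_lit 0]))))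
 (.node (nat_lit 1919) (.node (nat_lit 1918) (.leaf ((nat_lit 258), [nat_lit 1, nat_lit 0, nat_lit 2, nat_lit 0, nat_lit 2, nat_lit 1])) (.leaf ((nat_lit 260), [nat_lit 1, nat_lit 2, nat_lit 1, nat_lit 2, nat_lit 1, nat_lit 0]))) (.node (nat_lit 1920) (.leaf ((nat_lit 163), [nat_lit 2, nat_lit 0, nat_lit 2])) (.leaf ((nat_lit 275), [nat_lit 1, nat_lit 2, nat_lit 1, nat_lit 0])))))))
 (.node (nat_lit 1937) (.node (nat_lit 1929) (.node (nat_lit 1925) (.node (nat_lit 1923) (.node (nat_lit 1922) (.leaf ((nat_lit 241), [nat_lit 2, nat_lit 1, nat_lit 2, nat_lit 0, nat_lit 2, nat_lit 0])) (.leaf ((nat_lit 240), [nat_lit 2, nat_lit 1, nat_lit 0]))) (.node (nat_lit 1924) (.leaf ((nat_lit 173), [nat_lit 2, nat_lit 1, nat_lit 0])) (.leaf ((nat_lit 221), [nat_lit 0, nat_lit 2, nat_lit 1, nat_lit 2, nat_lit 1, nat_lit 0]))))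
 (.node (nat_lit 1927) (.node (nat_lit 1926) (.leaf ((nat_lit 164), [nat_lit 1, nat_lit 2, nat_lit 1, nat_lit 2, nat_lit 1, nat_lit 0])) (.leaf ((nat_lit 181), [nat_lit 2, nat_lit 1, nat_lit 2, nat_lit 0, nat_lit 2, nat_lit 1]))) (.node (nat_lit 1928) (.leaf ((nat_lit 269), [nat_lit 2, nat_lit 1, nat_lit 2, nat_lit 1, nat_lit 0])) (.leaf ((nat_lit 333), [nat_lit 1, nat_lit 0, nat_lit 2, nat_lit 1, nat_lit 2, nat_lit 1, nat_lit 0])))))
 (.node (nat_lit 1933) (.node (nat_lit 1931) (.node (nat_lit 1930) (.leaf ((nat_lit 206), [nat_lit 2, nat_lit 1, nat_lit 2, nat_lit 1, nat_lit 0])) (.leaf ((nat_lit 168), [nat_lit 0, nat_lit 2, nat_lit 0, nat_lit 2, nat_lit 0]))) (.node (nat_lit 1932) (.leaf ((nat_lit 194), [nat_lit 2, nat_lit 0, nat_lit 2, nat_lit 1, nat_lit 2, nat_lit 0])) (.leaf ((nat_lit 200), [nat_lit 1, nat_lit 0, nat_lit 2, nat_lit 1, nat_lit 2, nat_lit 1, nat_lit 0]))))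
 (.node (nat_lit 1935) (.node (nat_lit 1934) (.leaf ((nat_lit 198), [nat_lit 2, nat_lit 1, nat_lit 2, nat_lit 0, nat_lit 2])) (.leaf ((nat_lit 197), [nat_lit 0, nat_lit 2, nat_lit 0, nat_lit 2, nat_lit 1]))) (.node (nat_lit 1936) (.leaf ((nat_lit 215), [nat_lit 1, nat_lit 2, nat_lit 1])) (.leaf ((nat_lit 205), [nat_lit 0, nat_lit 2, nat_lit 1, nat_lit 2]))))))
 (.node (nat_lit 1945) (.node (nat_lit 1941) (.node (nat_lit 1939) (.node (nat_lit 1938) (.leaf ((nat_lit 168), [nat_lit 0, nat_lit 2, nat_lit 0, nat_lit 2, nat_lit 1])) (.leaf ((nat_lit 193), [nat_lit 1, nat_lit 2, nat_lit 0, nat_lit 2]))) (.node (nat_lit 1940) (.leaf ((nat_lit 294), [nat_lit 1, nat_lit 0, nat_lit 2, nat_lit 1])) (.leaf ((nat_lit 324), []))))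
 (.node (nat_lit 1943) (.node (nat_lit 1942) (.leaf ((nat_lit 174), [nat_lit 2, nat_lit 0, nat_lit 2, nat_lit 1, nat_lit 2, nat_lit 1])) (.leaf ((nat_lit 295), [nat_lit 1, nat_lit 0, nat_lit 2]))) (.node (nat_lit 1944) (.leaf ((nat_lit 311), [nat_lit 0, nat_lit 2, nat_lit 1, nat_lit 2])) (.leaf ((nat_lit 175), [nat_lit 2, nat_lit 1, nat_lit 2, nat_lit 1])))))
 (.node (nat_lit 1949) (.node (nat_lit 1947) (.node (nat_lit 1946) (.leaf ((nat_lit 242), [nat_lit 0, nat_lit 2, nat_lit 0])) (.leaf ((nat_lit 323), []))) (.node (nat_lit 1948) (.leaf ((nat_lit 219), [nat_lit 2, nat_lit 0, nat_lit 2, nat_lit 1, nat_lit 2, nat_lit 1, nat_lit 0])) (.leaf ((nat_lit 259), [nat_lit 1, nat_lit 0, nat_lit 2, nat_lit 0, nat_lit 2, nat_lit 0]))))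
 (.node (nat_lit 1951) (.node (nat_lit 1950) (.leaf ((nat_lit 208), [nat_lit 0, nat_lit 2, nat_lit 1, nat_lit 2, nat_lit 1])) (.leaf ((nat_lit 267), [nat_lit 0, nat_lit 2, nat_lit 1, nat_lit 0]))) (.node (nat_lit 1952) (.leaf ((nat_lit 176), [nat_lit 1, nat_lit 0, nat_lit 2, nat_lit 0, nat_lit 2, nat_lit 1])) (.leaf ((nat_lit 265), [nat_lit 1, nat_lit 2, nat_lit 0]))))))))
 (.node (nat_lit 1984) (.node (nat_lit 1968) (.node (nat_lit 1960) (.node (nat_lit 1956) (.node (nat_lit 1954) (.leaf ((nat_lit 200), [nat_lit 1, nat_lit 0, nat_lit 2, nat_lit 0])) (.node (nat_lit 1955) (.leaf ((nat_lit 188), [nat_lit 1, nat_lit 0, nat_lit 2, nat_lit 0, nat_lit 2, nat_lit 0])) (.leaf ((nat_lit 278), [nat_lit 2, nat_lit 0, nat_lit 2, nat_lit 0]))))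
 (.node (nat_lit 1958) (.node (nat_lit 1957) (.leaf ((nat_lit 180), [nat_lit 1])) (.leaf ((nat_lit 178), [nat_lit 1, nat_lit 0, nat_lit 2, nat_lit 0, nat_lit 2, nat_lit 1, nat_lit 0]))) (.node (nat_lit 1959) (.leaf ((nat_lit 177), [nat_lit 1])) (.leaf ((nat_lit 317), [nat_lit 1, nat_lit 2, nat_lit 1, nat_lit 2, nat_lit 1, nat_lit 0])))))
 (.node (nat_lit 1964) (.node (nat_lit 1962) (.node (nat_lit 1961) (.leaf ((nat_lit 308), [nat_lit 1, nat_lit 0, nat_lit 2])) (.leaf ((nat_lit 290), [nat_lit 2, nat_lit 0, nat_lit 2, nat_lit 1, nat_lit 0]))) (.node (nat_lit 1963) (.leaf ((nat_lit 277), [nat_lit 2, nat_lit 1, nat_lit 2])) (.leaf ((nat_lit 179), [nat_lit 1, nat_lit 0, nat_lit 2, nat_lit 0, nat_lit 2, nat_lit 1]))))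
 (.node (nat_lit 1966) (.node (nat_lit 1965) (.leaf ((nat_lit 276), [nat_lit 1, nat_lit 2, nat_lit 0, nat_lit 2, nat_lit 1, nat_lit 0])) (.leaf ((nat_lit 259), [nat_lit 0, nat_lit 2, nat_lit 1, nat_lit 2, nat_lit 1]))) (.node (nat_lit 1967) (.leaf ((nat_lit 219), [nat_lit 1, nat_lit 2, nat_lit 1, nat_lit 2, nat_lit 1, nat_lit 0])) (.leaf ((nat_lit 190), [nat_lit 0, nat_lit 2, nat_lit 1, nat_lit 2]))))))
 (.node (nat_lit 1976) (.node (nat_lit 1972) (.node (nat_lit 1970) (.node (nat_lit 1969) (.leaf ((nat_lit 293), [nat_lit 2, nat_lit 0, nat_lit 2, nat_lit 1, nat_lit 2, nat_lit 0])) (.leaf ((nat_lit 189), [nat_lit 1, nat_lit 0, nat_lit 2, nat_lit 0, nat_lit 2, nat_lit 1]))) (.node (nat_lit 1971) (.leaf ((nat_lit 284), [nat_lit 2, nat_lit 1])) (.leaf ((nat_lit 218), [nat_lit 2, nat_lit 1, nat_lit 2, nat_lit 1]))))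
 (.node (nat_lit 1974) (.node (nat_lit 1973) (.leaf ((nat_lit 334), [nat_lit 1, nat_lit 0, nat_lit 2, nat_lit 0, nat_lit 2, nat_lit 1])) (.leaf ((nat_lit 180), [nat_lit 2, nat_lit 1, nat_lit 2, nat_lit 0]))) (.node (nat_lit 1975) (.leaf ((nat_lit 220), [nat_lit 1, nat_lit 2, nat_lit 0, nat_lit 2, nat_lit 0])) (.leaf ((nat_lit 185), [nat_lit 1, nat_lit 2, nat_lit 0, nat_lit 2, nat_lit 0])))))
 (.node (nat_lit 1980) (.node (nat_lit 1978) (.node (nat_lit 1977) (.leaf ((nat_lit 332), [nat_lit 1, nat_lit 2, nat_lit 1])) (.leaf ((nat_lit 267), [nat_lit 1, nat_lit 2, nat_lit 1, nat_lit 2, nat_lit 1]))) (.node (nat_lit 1979) (.leaf ((nat_lit 195), [nat_lit 0, nat_lit 2, nat_lit 0])) (.leaf ((nat_lit 229), [nat_lit 0, nat_lit 2, nat_lit 0, nat_lit 2]))))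
 (.node (nat_lit 1982) (.node (nat_lit 1981) (.leaf ((nat_lit 199), [nat_lit 2, nat_lit 1, nat_lit 2, nat_lit 1, nat_lit 0])) (.leaf ((nat_lit 222), [nat_lit 2, nat_lit 1, nat_lit 2, nat_lit 1, nat_lit 0]))) (.node (nat_lit 1983) (.leaf ((nat_lit 187), [nat_lit 0, nat_lit 2, nat_lit 1, nat_lit 2, nat_lit 1])) (.leaf ((nat_lit 188), [nat_lit 1, nat_lit 0, nat_lit 2, nat_lit 1, nat_lit 2, nat_lit 1])))))))
 (.node (nat_lit 2000) (.node (nat_lit 1992) (.node (nat_lit 1988) (.node (nat_lit 1986) (.node (nat_lit 1985) (.leaf ((nat_lit 200), [nat_lit 2, nat_lit 1])) (.leaf ((nat_lit 330), [nat_lit 2]))) (.node (nat_lit 1987) (.leaf ((nat_lit 227), [nat_lit 1, nat_lit 2, nat_lit 0, nat_lit 2, nat_lit 1, nat_lit 0])) (.leaf ((nat_lit 284), [nat_lit 2, nat_lit 1, nat_lit 2, nat_lit 1, nat_lit 0]))))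
 (.node (nat_lit 1990) (.node (nat_lit 1989) (.leaf ((nat_lit 189), [nat_lit 2, nat_lit 0, nat_lit 2, nat_lit 1, nat_lit 2, nat_lit 0])) (.leaf ((nat_lit 280), [nat_lit 2, nat_lit 0, nat_lit 2, nat_lit 1, nat_lit 2, nat_lit 1]))) (.node (nat_lit 1991) (.leaf ((nat_lit 250), [nat_lit 0, nat_lit 2, nat_lit 1, nat_lit 2, nat_lit 0])) (.leaf ((nat_lit 331), [nat_lit 2])))))
 (.node (nat_lit 1996) (.node (nat_lit 1994) (.node (nat_lit 1993) (.leaf ((nat_lit 319), [nat_lit 2, nat_lit 0, nat_lit 2, nat_lit 1, nat_lit 0])) (.leaf ((nat_lit 278), [nat_lit 2, nat_lit 0, nat_lit 2, nat_lit 1, nat_lit 2, nat_lit 0]))) (.node (nat_lit 1995) (.leaf ((nat_lit 329), [nat_lit 1, nat_lit 2, nat_lit 1])) (.leaf ((nat_lit 202), [nat_lit 0, nat_lit 2, nat_lit 0]))))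
 (.node (nat_lit 1998) (.node (nat_lit 1997) (.leaf ((nat_lit 268), [nat_lit 1, nat_lit 0, nat_lit 2, nat_lit 0, nat_lit 2])) (.leaf ((nat_lit 206), [nat_lit 1, nat_lit 2, nat_lit 1, nat_lit 2, nat_lit 1, nat_lit 0]))) (.node (nat_lit 1999) (.leaf ((nat_lit 245), [nat_lit 0, nat_lit 2, nat_lit 1, nat_lit 2])) (.leaf ((nat_lit 233), [nat_lit 1, nat_lit 0, nat_lit 2, nat_lit 0, nat_lit 2, nat_lit 0]))))))
 (.node (nat_lit 2008) (.node (nat_lit 2004) (.node (nat_lit 2002) (.node (nat_lit 2001) (.leaf ((nat_lit 321), [nat_lit 1, nat_lit 0, nat_lit 2, nat_lit 1, nat_lit 2, nat_lit 1, nat_lit 0])) (.leaf ((nat_lit 250), [nat_lit 1, nat_lit 0, nat_lit 2, nat_lit 0, nat_lit 2]))) (.node (nat_lit 2003) (.leaf ((nat_lit 280), [nat_lit 1, nat_lit 2, nat_lit 1, nat_lit 2])) (.leaf ((nat_lit 224), [nat_lit 1, nat_lit 2, nat_lit 1]))))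
 (.node (nat_lit 2006) (.node (nat_lit 2005) (.leaf ((nat_lit 232), [nat_lit 1, nat_lit 2, nat_lit 1, nat_lit 0])) (.leaf ((nat_lit 298), [nat_lit 2, nat_lit 0, nat_lit 2, nat_lit 0]))) (.node (nat_lit 2007) (.leaf ((nat_lit 309), [nat_lit 1, nat_lit 0, nat_lit 2, nat_lit 1, nat_lit 0])) (.leaf ((nat_lit 306), [nat_lit 2, nat_lit 1, nat_lit 0])))))
 (.node (nat_lit 2012) (.node (nat_lit 2010) (.node (nat_lit 2009) (.leaf ((nat_lit 328), [nat_lit 1, nat_lit 2, nat_lit 0, nat_lit 2, nat_lit 1, nat_lit 0])) (.leaf ((nat_lit 286), [nat_lit 2, nat_lit 1, nat_lit 2]))) (.node (nat_lit 2011) (.leaf ((nat_lit 262), [nat_lit 1, nat_lit 0, nat_lit 2, nat_lit 1, nat_lit 2, nat_lit 1])) (.leaf ((nat_lit 268), [nat_lit 0, nat_lit 2, nat_lit 0]))))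
 (.node (nat_lit 2014) (.node (nat_lit 2013) (.leaf ((nat_lit 260), [nat_lit 0, nat_lit 2, nat_lit 1, nat_lit 2, nat_lit 1, nat_lit 0])) (.leaf ((nat_lit 272), [nat_lit 1, nat_lit 2, nat_lit 0, nat_lit 2, nat_lit 1]))) (.node (nat_lit 2015) (.leaf ((nat_lit 251), [nat_lit 2, nat_lit 0, nat_lit 2, nat_lit 1])) (.leaf ((nat_lit 247), [nat_lit 2, nat_lit 0, nat_lit 2]))))))))))
noncomputable def n2Wd : Tr (ℕ × List ℕ) := (.node (nat_lit 1008) (.node (nat_lit 504) (.node (nat_lit 252) n2Wd_0 n2Wd_1) (.node (nat_lit 756) n2Wd_2 n2Wd_3)) (.node (nat_lit 1512) (.node (nat_lit 1260) n2Wd_4 n2Wd_5) (.node (nat_lit 1764) n2Wd_6 n2Wd_7)))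
theorem n2q : allR 0 336 (dblChk (nat_lit 4) (nat_lit 15) (MG.gl42L.map Lev.b) MG.gl42T n2T n2Dd (topN MG.gl42L) 336 34 n2PA n2Wd) = true := by decide +kernel
noncomputable def n2Ws : List (List ℕ) := [[]]
noncomputable def n2CE : Tr (ℕ × List ℕ × List (List ℕ)) := (.node (nat_lit 17) (.node (nat_lit 8) (.node (nat_lit 4) (.node (nat_lit 2) (.node (nat_lit 1) (.leaf ((nat_lit 0), [], [])) (.leaf ((nat_lit 4), [nat_lit 2, nat_lit 1, nat_lit 5, nat_lit 4, nat_lit 3, nat_lit 2, nat_lit 3], [[nat_lit 1, nat_lit 99, nat_lit 0], [nat_lit 99, nat_lit 2, nat_lit 0, nat_lit 99]]))) (.node (nat_lit 3) (.leaf ((nat_lit 7), [nat_lit 2, nat_lit 0, nat_lit 5, nat_lit 4, nat_lit 2, nat_lit 1, nat_lit 4, nat_lit 2, nat_lit 3, nat_lit 2], [[nat_lit 1, nat_lit 2, nat_lit 1, nat_lit 0], [nat_lit 99, nat_lit 2, nat_lit 1, nat_lit 99]])) (.leaf ((nat_lit 1), [nat_lit 2, nat_lit 5, nat_lit 4, nat_lit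 1, nat_lit 3, nat_lit 1, nat_lit 0], [[nat_lit 99, nat_lit 2, nat_lit 1]]))))
 (.node (nat_lit 6) (.node (nat_lit 5) (.leaf ((nat_lit 7), [nat_lit 1, nat_lit 5, nat_lit 2, nat_lit 0, nat_lit 4, nat_lit 3, nat_lit 2, nat_lit 3, nat_lit 1], [[nat_lit 1, nat_lit 2], [nat_lit 99, nat_lit 2, nat_lit 99, nat_lit 0]])) (.leaf ((nat_lit 7), [nat_lit 1, nat_lit 5, nat_lit 1, nat_lit 0, nat_lit 4, nat_lit 3, nat_lit 2, nat_lit 1, nat_lit 0], [[nat_lit 99, nat_lit 2, nat_lit 0], [nat_lit 0, nat_lit 99]]))) (.node (nat_lit 7) (.leaf ((nat_lit 1), [nat_lit 0, nat_lit 4, nat_lit 3, nat_lit 0, nat_lit 3, nat_lit 2, nat_lit 0], [[nat_lit 99, nat_lit 2]])) (.leaf ((nat_lit 1), [nat_lit 1, nat_lit 5, nat_lit 3, nat_lit 2, nat_lit 1, nat_lit 4, nat_lit 2, nat_lit 3], [[nat_lit 99, nat_lit 0]])))))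
 (.node (nat_lit 12) (.node (nat_lit 10) (.node (nat_lit 9) (.leaf ((nat_lit 1), [nat_lit 4, nat_lit 5, nat_lit 2, nat_lit 4, nat_lit 2], [[nat_lit 99, nat_lit 0]])) (.leaf ((nat_lit 1), [nat_lit 0, nat_lit 5, nat_lit 0, nat_lit 4, nat_lit 1], [[nat_lit 99, nat_lit 2, nat_lit 1, nat_lit 0]]))) (.node (nat_lit 11) (.leaf ((nat_lit 4), [nat_lit 1, nat_lit 0, nat_lit 5, nat_lit 1, nat_lit 0, nat_lit 3], [[nat_lit 99, nat_lit 0], [nat_lit 2, nat_lit 0]])) (.leaf ((nat_lit 1), [nat_lit 5, nat_lit 1, nat_lit 0, nat_lit 4, nat_lit 2, nat_lit 0], [[nat_lit 99, nat_lit 1, nat_lit 0]]))))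
 (.node (nat_lit 14) (.node (nat_lit 13) (.leaf ((nat_lit 1), [nat_lit 1, nat_lit 5, nat_lit 3, nat_lit 2, nat_lit 3, nat_lit 2], [[nat_lit 99, nat_lit 2, nat_lit 1, nat_lit 0]])) (.leaf ((nat_lit 1), [nat_lit 0, nat_lit 5, nat_lit 1, nat_lit 3, nat_lit 1, nat_lit 0], [[nat_lit 99, nat_lit 1]]))) (.node (nat_lit 15) (.leaf ((nat_lit 1), [nat_lit 5, nat_lit 3, nat_lit 2, nat_lit 1, nat_lit 4, nat_lit 2, nat_lit 3], [[nat_lit 99, nat_lit 1, nat_lit 0]])) (.node (nat_lit 16) (.leaf ((nat_lit 1), [nat_lit 3, nat_lit 1, nat_lit 4, nat_lit 1, nat_lit 0], [[nat_lit 2, nat_lit 99, nat_lit 1, nat_lit 0]])) (.leaf ((nat_lit 1), [nat_lit 3, nat_lit 1, nat_lit 5, nat_lit 3, nat_lit 1], [[nat_lit 99, nat_lit 1]])))))))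
 (.node (nat_lit 25) (.node (nat_lit 21) (.node (nat_lit 19) (.node (nat_lit 18) (.leaf ((nat_lit 1), [nat_lit 2, nat_lit 0, nat_lit 5, nat_lit 2, nat_lit 0, nat_lit 3, nat_lit 2, nat_lit 1, nat_lit 0], [[nat_lit 99, nat_lit 2]])) (.leaf ((nat_lit 1), [nat_lit 2, nat_lit 0, nat_lit 5, nat_lit 0, nat_lit 4, nat_lit 2], [[nat_lit 99, nat_lit 2]]))) (.node (nat_lit 20) (.leaf ((nat_lit 1), [nat_lit 2, nat_lit 1, nat_lit 5, nat_lit 4, nat_lit 0, nat_lit 3], [[nat_lit 99, nat_lit 0]])) (.leaf ((nat_lit 4), [nat_lit 1, nat_lit 0, nat_lit 5, nat_lit 1, nat_lit 4, nat_lit 1, nat_lit 0], [[nat_lit 99, nat_lit 0], [nat_lit 99, nat_lit 2, nat_lit 0]]))))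
 (.node (nat_lit 23) (.node (nat_lit 22) (.leaf ((nat_lit 1), [nat_lit 0, nat_lit 5, nat_lit 4, nat_lit 1, nat_lit 0, nat_lit 3, nat_lit 1], [[nat_lit 99, nat_lit 2, nat_lit 0]])) (.leaf ((nat_lit 4), [nat_lit 1, nat_lit 0, nat_lit 5, nat_lit 3, nat_lit 1, nat_lit 0, nat_lit 4, nat_lit 2, nat_lit 3], [[nat_lit 99, nat_lit 0], [nat_lit 2, nat_lit 99, nat_lit 0]]))) (.node (nat_lit 24) (.leaf ((nat_lit 1), [nat_lit 4, nat_lit 3, nat_lit 1, nat_lit 0], [[nat_lit 99, nat_lit 0]])) (.leaf ((nat_lit 4), [nat_lit 2, nat_lit 1, nat_lit 0, nat_lit 5, nat_lit 4, nat_lit 3, nat_lit 2, nat_lit 3, nat_lit 2, nat_lit 1], [[nat_lit 99, nat_lit 0], [nat_lit 99, nat_lit 2, nat_lit 0]])))))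
 (.node (nat_lit 29) (.node (nat_lit 27) (.node (nat_lit 26) (.leaf ((nat_lit 7), [nat_lit 3, nat_lit 2, nat_lit 1, nat_lit 5, nat_lit 2, nat_lit 1, nat_lit 0, nat_lit 3, nat_lit 2, nat_lit 1], [[nat_lit 2, nat_lit 1], [nat_lit 0, nat_lit 99]])) (.leaf ((nat_lit 1), [nat_lit 2, nat_lit 0, nat_lit 4, nat_lit 0, nat_lit 3], [[nat_lit 99, nat_lit 2]]))) (.node (nat_lit 28) (.leaf ((nat_lit 1), [nat_lit 5, nat_lit 2, nat_lit 1, nat_lit 4, nat_lit 2, nat_lit 1], [[nat_lit 99, nat_lit 0]])) (.leaf ((nat_lit 7), [nat_lit 5, nat_lit 1, nat_lit 5, nat_lit 2, nat_lit 0, nat_lit 4, nat_lit 1, nat_lit 0, nat_lit 3], [[nat_lit 99, nat_lit 2], [nat_lit 1, nat_lit 99, nat_lit 0]]))))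
 (.node (nat_lit 31) (.node (nat_lit 30) (.leaf ((nat_lit 1), [nat_lit 2, nat_lit 4, nat_lit 1, nat_lit 0, nat_lit 3, nat_lit 1], [[nat_lit 99, nat_lit 1]])) (.leaf ((nat_lit 6), [nat_lit 1, nat_lit 0, nat_lit 5, nat_lit 2, nat_lit 1, nat_lit 4, nat_lit 2, nat_lit 3, nat_lit 0], [[nat_lit 0, nat_lit 2], [nat_lit 2, nat_lit 99, nat_lit 1]]))) (.node (nat_lit 32) (.leaf ((nat_lit 6), [nat_lit 4, nat_lit 5, nat_lit 2, nat_lit 0, nat_lit 4, nat_lit 0, nat_lit 3], [[nat_lit 1, nat_lit 2], [nat_lit 99, nat_lit 2, nat_lit 1]])) (.node (nat_lit 33) (.leaf ((nat_lit 4), [nat_lit 3, nat_lit 2, nat_lit 1, nat_lit 5, nat_lit 3, nat_lit 1, nat_lit 0, nat_lit 4, nat_lit 2, nat_lit 3, nat_lit 2, nat_lit 0], [[nat_lit 99, nat_lit 0], [nat_lit 2, nat_lit 1]])) (.leaf ((nat_lit 4), [nat_lit 2, nat_lit 0, nat_lit 5, nat_lit 2, nat_lit 1, nat_lit 0, nat_lit 4, nat_lit 2, nat_lit 0, nat_lit 3, nat_lit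 2, nat_lit 0], [[nat_lit 99, nat_lit 0, nat_lit 2, nat_lit 0], [nat_lit 0, nat_lit 2]]))))))))
theorem n2s : allR 0 34 (stepChk (nat_lit 4) (nat_lit 15) (MG.gl42L.map Lev.b) MG.gl42T n2T n2T n2T n2Dd AW [nat_lit 1, nat_lit 4, nat_lit 6, nat_lit 7] n2Ws n2CE) = true := by decide +kernel
noncomputable def n2iI : Tr (List ℕ) := (.node (nat_lit 3) (.node (nat_lit 1) (.leaf [nat_lit 2, nat_lit 0, nat_lit 2, nat_lit 1, nat_lit 2, nat_lit 1, nat_lit 0]) (.node (nat_lit 2) (.leaf [nat_lit 2, nat_lit 1, nat_lit 2, nat_lit 0, nat_lit 2, nat_lit 0]) (.leaf [nat_lit 2, nat_lit 1, nat_lit 2, nat_lit 0, nat_lit 2, nat_lit 1, nat_lit 0]))) (.node (nat_lit 4) (.leaf [nat_lit 2, nat_lit 0, nat_lit 2, nat_lit 1, nat_lit 2, nat_lit 1]) (.node (nat_lit 5) (.leaf [nat_lit 2, nat_lit 1, nat_lit 2, nat_lit 0]) (.leaf [nat_lit 0, nat_lit 2, nat_lit 1, nat_lit 2]))))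
theorem n2ih : Alt.a5R.all (fun w => eqB (n2L.map Lev.b) (apF (fun y => apL (nat_lit 4) (nat_lit 15) n2T (n2iI.get y)) w) fun a => a) = true := by decide +kernel
noncomputable def n2iD : Tr (List ℕ) := (.node (nat_lit 1) (.leaf [nat_lit 2, nat_lit 0]) (.node (nat_lit 2) (.leaf [nat_lit 3, nat_lit 1]) (.leaf [nat_lit 5, nat_lit 0, nat_lit 3])))
theorem n2is : band (surChk (nat_lit 4) (nat_lit 15) (n2L.map Lev.b) n2T n2iI (topN Alt.a5L) n2iD (topN n2L)) (Nat.ble (chainOrd 5 Alt.a5L) (chainOrd 15 n2L)) = true := by decide +kernel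
theorem s2 {G : Type*} [Group G] [Finite G] {X : Type*} [MulAction G X] {pt : ℕ → X} (C : Ch G 15 (nat_lit 4) (nat_lit 15) pt MG.gl42T MG.gl42L) {H : Subgroup G} (h : PJ C.lets.e AW 2 H) :
    ∃ K : Subgroup G, Nonempty (H ≃* K) ∧ (Q K ∨ ∃ j ∈ [nat_lit 1, nat_lit 4, nat_lit 6, nat_lit 7], PJ C.lets.e AW j K) := by
  obtain ⟨K, e, hK⟩ := h.conj
  refine ⟨K, e, ?_⟩
  obtain ⟨N, D, S⟩ := (C.gen (lets_words C.lets n2E n2w) n2chain n2sd n2tc)
  have le := C.le_AW D hK n2slp n2a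
  have hD := lets_words C.lets n2dE n2dw
  refine (C.step D.lets D.lets D.lets hD le_normalizer le_rfl (C.dbl D.lets hD n2q (by decide +kernel)) (Ws := n2Ws) (fun u hu => ⟨[], List.mem_singleton_self _, u, hu, (one_mul u).symm⟩) (by decide +kernel) n2s le).imp_left fun h => ?_
  rw [le_antisymm h le]
  exact .inr (.inl ⟨5, by norm_num, by norm_num, ((Alt.a5std.isoW D n2ih n2is).map MulEquiv.symm)⟩)
noncomputable def n3t0 : ℕ := (nat_lit 0x3456bcdea987210)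
noncomputable def n3t1 : ℕ := (nat_lit 0x789a6543bcde210)
noncomputable def n3t2 : ℕ := (nat_lit 0xdecb6534a978120)
noncomputable def n3t3 : ℕ := (nat_lit 0xe31809b6724d5ca)
noncomputable def n3T : Tr ℕ := (.node (nat_lit 2) (.node (nat_lit 1) (.leaf n3t0) (.leaf n3t1)) (.node (nat_lit 3) (.leaf n3t2) (.leaf n3t3)))
noncomputable def n3R : Tr (List ℕ) := (.node (nat_lit 4) (.node (nat_lit 2) (.node (nat_lit 1) (.leaf [nat_lit 2, nat_lit 0, nat_lit 2, nat_lit 0]) (.leaf [nat_lit 0, nat_lit 1])) (.node (nat_lit 3) (.leaf [nat_lit 0, nat_lit 0, nat_lit 0]) (.leaf [nat_lit 2, nat_lit 2])))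
 (.node (nat_lit 6) (.node (nat_lit 5) (.leaf [nat_lit 3, nat_lit 0, nat_lit 2, nat_lit 3, nat_lit 0, nat_lit 2]) (.leaf [nat_lit 3, nat_lit 3])) (.node (nat_lit 7) (.leaf [nat_lit 3, nat_lit 2, nat_lit 3, nat_lit 2, nat_lit 3, nat_lit 2, nat_lit 3, nat_lit 2, nat_lit 3, nat_lit 2]) (.leaf [nat_lit 3, nat_lit 0, nat_lit 3, nat_lit 0, nat_lit 3, nat_lit 0, nat_lit 3, nat_lit 0, nat_lit 3, nat_lit 0]))))
noncomputable def n3L0 : Lev := ⟨(nat_lit 0), (nat_lit 4), (nat_lit 0x20200020400040401000301000000), (nat_lit 0x40400020100030302000404000000),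
 (.node (nat_lit 2) (.node (nat_lit 1) (.leaf (nat_lit 0x200060000000200010000000100010000000000050000000000000000))
 (.leaf (nat_lit 0x10000000600010003000000070003000000000000)))
 (.node (nat_lit 3) (.leaf (nat_lit 0x700080000000400020000000400010003000000000005000000000000))
 (.leaf (nat_lit 0x800020000000100000000000000000001000000040003000000000001)))),
 (.node (nat_lit 2) (.node (nat_lit 1) (.leaf (nat_lit 0x200000200000000000200000100000000000100000100000000000000000001000000000000000000000000))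
 (.leaf (nat_lit 0x101000000000101000101000101000000000101000101000000000000000000)))
 (.node (nat_lit 3) (.leaf (nat_lit 0x2000301000000000002000402000000000402000300000301000000000000000301000000000000000000))
 (.leaf (nat_lit 0x403000704000000000500000000000000000000000000000501000000000604000501000000000000000501))))⟩
noncomputable def n3L1 : Lev := ⟨(nat_lit 1), (nat_lit 3), (nat_lit 0x30000), (nat_lit 0x10000),
 (.node (nat_lit 1) (.leaf (nat_lit 0x200000000))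
 (.node (nat_lit 2) (.leaf (nat_lit 0x300000000))
 (.leaf (nat_lit 0x10000)))),
 (.node (nat_lit 1) (.leaf (nat_lit 0x1000000000000))
 (.node (nat_lit 2) (.leaf (nat_lit 0x101000000000000))
 (.leaf (nat_lit 0x301000000))))⟩
noncomputable def n3L2 : Lev := ⟨(nat_lit 3), (nat_lit 2), (nat_lit 0x10000000000000200000000000000), (nat_lit 0x10000000000000100000000000000),
 (.node (nat_lit 1) (.leaf (nat_lit 0x20000000000000001000000000000))
 (.leaf (nat_lit 0x300000000000000000000000000000000000000000001000000000000))),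
 (.node (nat_lit 1) (.leaf (nat_lit 0x201000000000000000000000100000000000000000000))
 (.leaf (nat_lit 0x101000000000000000000000000000000000000000000000000000000000000000101000000000000000000)))⟩
noncomputable def n3L : List Lev := [n3L0, n3L1, n3L2]
noncomputable def n3E : Tr (List ℕ) := (.node (nat_lit 2) (.node (nat_lit 1) (.leaf [nat_lit 3, nat_lit 1, nat_lit 0, nat_lit 4, nat_lit 1, nat_lit 0]) (.leaf [nat_lit 1, nat_lit 0, nat_lit 4, nat_lit 1, nat_lit 0, nat_lit 3])) (.node (nat_lit 3) (.leaf [nat_lit 0, nat_lit 5, nat_lit 2, nat_lit 4, nat_lit 0, nat_lit 3, nat_lit 2]) (.leaf [nat_lit 1, nat_lit 5, nat_lit 1, nat_lit 4, nat_lit 3, nat_lit 2, nat_lit 3])))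
theorem n3w_0 : n3T.all2 (fun c w => isProd 15 (nat_lit 4) (nat_lit 15) MG.gl42T c w) n3E = true := by decide +kernel
theorem n3w : n3T.all2 (fun c w => isProd 15 (nat_lit 4) (nat_lit 15) MG.gl42T c w) n3E = true := n3w_0
theorem n3lev0 : levChk 15 (nat_lit 4) (nat_lit 15) n3T n3R n3L0 n3L1.N = true := by decide +kernel
theorem n3lev1 : levChk 15 (nat_lit 4) (nat_lit 15) n3T n3R n3L1 n3L2.N = true := by decide +kernel
theorem n3lev2 : levChk 15 (nat_lit 4) (nat_lit 15) n3T n3R n3L2 0 = true := by decide +kernel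
theorem n3chain : Chain 15 (nat_lit 4) (nat_lit 15) n3T n3R n3L := chain_cons n3lev0 <| chain_cons n3lev1 <| chain_one n3lev2
theorem n3sd : band (selChk n3T n3T (topN n3L)) (n3R.all fun w => eqB (MG.gl42L.map Lev.b) (apL (nat_lit 4) (nat_lit 15) n3T w) fun a => a) = true := by decide +kernel
theorem n3tc : tchainChk 15 (nat_lit 4) (nat_lit 15) n3T n3L = true := by decide +kernel
noncomputable def n3s0 : ℕ := (nat_lit 0x6794853ab20d1ce)
noncomputable def n3s1 : ℕ := (nat_lit 0x6dc3e54ba107298)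
noncomputable def n3s2 : ℕ := (nat_lit 0x3167cade9b8524)
noncomputable def n3s3 : ℕ := (nat_lit 0xadc76103e98b254)
noncomputable def n3s4 : ℕ := (nat_lit 0x3456bcdea987210)
noncomputable def n3s5 : ℕ := (nat_lit 0x789a6543bcde210)
noncomputable def n3s6 : ℕ := (nat_lit 0x879abced6534120)
noncomputable def n3s7 : ℕ := (nat_lit 0xdecb6534a978120)
noncomputable def n3s8 : ℕ := (nat_lit 0xe31809b6724d5ca)
noncomputable def n3S : Tr ℕ := (.node (nat_lit 4) (.node (nat_lit 2) (.node (nat_lit 1) (.leaf n3s0) (.leaf n3s1)) (.node (nat_lit 3) (.leaf n3s2) (.leaf n3s3)))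
 (.node (nat_lit 6) (.node (nat_lit 5) (.leaf n3s4) (.leaf n3s5)) (.node (nat_lit 7) (.leaf n3s6) (.node (nat_lit 8) (.leaf n3s7) (.leaf n3s8)))))
noncomputable def n3D : Tr (List ℕ) := (.node (nat_lit 4) (.node (nat_lit 2) (.node (nat_lit 1) (.leaf []) (.leaf [])) (.node (nat_lit 3) (.leaf [nat_lit 0, nat_lit 0, nat_lit 0, nat_lit 0]) (.leaf [nat_lit 1, nat_lit 1])))
 (.node (nat_lit 6) (.node (nat_lit 5) (.leaf [nat_lit 3, nat_lit 2, nat_lit 2, nat_lit 2, nat_lit 3, nat_lit 3, nat_lit 0, nat_lit 1]) (.leaf [nat_lit 3, nat_lit 2, nat_lit 1, nat_lit 1, nat_lit 0, nat_lit 0, nat_lit 0, nat_lit 1])) (.node (nat_lit 7) (.leaf [nat_lit 1, nat_lit 2]) (.node (nat_lit 8) (.leaf [nat_lit 6, nat_lit 5]) (.leaf [nat_lit 3, nat_lit 0])))))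
theorem n3slp : slpChk 15 (nat_lit 4) (nat_lit 15) n3S n3D 2 7 = true := by decide +kernel
theorem n3a : band (selChk n3T n3S (2 + 7)) (allB 2 fun j => anyL (AW.get 3) fun w => isProd 15 (nat_lit 4) (nat_lit 15) MG.gl42T (n3S.get j) w) = true := by decide +kernel
noncomputable def n3Dd : Tr ℕ := (.node (nat_lit 8) (.node (nat_lit 4) (.node (nat_lit 2) (.node (nat_lit 1) (.leaf (nat_lit 0xedcba9876543210)) (.leaf (nat_lit 0xcdeb89a74563012))) (.node (nat_lit 3) (.leaf (nat_lit 0x2d0b6947a583e1c)) (.leaf (nat_lit 0x789abcde6543210))))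
 (.node (nat_lit 6) (.node (nat_lit 5) (.leaf (nat_lit 0xecdb6453a897201)) (.leaf (nat_lit 0xdceb546398a7102))) (.node (nat_lit 7) (.leaf (nat_lit 0x2c1ba4936857e0d)) (.leaf (nat_lit 0x3546bdcea897201)))))
 (.node (nat_lit 12) (.node (nat_lit 10) (.node (nat_lit 9) (.leaf (nat_lit 0x9e7cdab82503614)) (.leaf (nat_lit 0xac8eb9d72406315))) (.node (nat_lit 11) (.leaf (nat_lit 0xdab89e7c2503614)) (.leaf (nat_lit 0x5a0bd2831e4796c))))
 (.node (nat_lit 14) (.node (nat_lit 13) (.leaf (nat_lit 0x4e3dc6b52817a09)) (.leaf (nat_lit 0x9ead1625b8c7304))) (.node (nat_lit 15) (.leaf (nat_lit 0xc6b54e3d2817a09)) (.leaf (nat_lit 0x4e0ac6825b17d39))))))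
noncomputable def n3dE : Tr (List ℕ) := (.node (nat_lit 8) (.node (nat_lit 4) (.node (nat_lit 2) (.node (nat_lit 1) (.leaf []) (.leaf [nat_lit 0])) (.node (nat_lit 3) (.leaf [nat_lit 1]) (.leaf [nat_lit 3])))
 (.node (nat_lit 6) (.node (nat_lit 5) (.leaf [nat_lit 5]) (.leaf [nat_lit 5, nat_lit 0])) (.node (nat_lit 7) (.leaf [nat_lit 5, nat_lit 1]) (.leaf [nat_lit 5, nat_lit 3]))))
 (.node (nat_lit 12) (.node (nat_lit 10) (.node (nat_lit 9) (.leaf [nat_lit 2, nat_lit 3, nat_lit 0]) (.leaf [nat_lit 2, nat_lit 4, nat_lit 0])) (.node (nat_lit 11) (.leaf [nat_lit 0, nat_lit 3, nat_lit 2]) (.leaf [nat_lit 2, nat_lit 5, nat_lit 2])))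
 (.node (nat_lit 14) (.node (nat_lit 13) (.leaf [nat_lit 5, nat_lit 2, nat_lit 3, nat_lit 0]) (.leaf [nat_lit 5, nat_lit 2, nat_lit 3, nat_lit 1])) (.node (nat_lit 15) (.leaf [nat_lit 5, nat_lit 0, nat_lit 3, nat_lit 2]) (.leaf [nat_lit 4, nat_lit 5, nat_lit 2, nat_lit 3, nat_lit 0])))))
theorem n3dw_0 : n3Dd.all2 (fun c w => isProd 15 (nat_lit 4) (nat_lit 15) MG.gl42T c w) n3dE = true := by decide +kernel
theorem n3dw : n3Dd.all2 (fun c w => isProd 15 (nat_lit 4) (nat_lit 15) MG.gl42T c w) n3dE = true := n3dw_0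
noncomputable def n3PA_0 : Tr (ℕ × List ℕ) := (.node (nat_lit 84) (.node (nat_lit 42) (.node (nat_lit 21) (.node (nat_lit 10) (.node (nat_lit 5) (.node (nat_lit 2) (.node (nat_lit 1) (.leaf ((nat_lit 0), [])) (.leaf ((nat_lit 1), []))) (.node (nat_lit 3) (.leaf ((nat_lit 2), [])) (.node (nat_lit 4) (.leaf ((nat_lit 1), [nat_lit 3, nat_lit 2, nat_lit 1])) (.leaf ((nat_lit 3), [])))))
 (.node (nat_lit 7) (.node (nat_lit 6) (.leaf ((nat_lit 4), [])) (.leaf ((nat_lit 2), [nat_lit 1, nat_lit 3, nat_lit 0]))) (.node (nat_lit 8) (.leaf ((nat_lit 2), [nat_lit 1])) (.node (nat_lit 9) (.leaf ((nat_lit 2), [nat_lit 2, nat_lit 3, nat_lit 0, nat_lit 3])) (.leaf ((nat_lit 5), []))))))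
 (.node (nat_lit 15) (.node (nat_lit 12) (.node (nat_lit 11) (.leaf ((nat_lit 1), [nat_lit 1, nat_lit 3, nat_lit 0])) (.leaf ((nat_lit 1), [nat_lit 1]))) (.node (nat_lit 13) (.leaf ((nat_lit 1), [nat_lit 2, nat_lit 3, nat_lit 0, nat_lit 3])) (.node (nat_lit 14) (.leaf ((nat_lit 6), [])) (.leaf ((nat_lit 2), [nat_lit 0, nat_lit 3, nat_lit 0])))))
 (.node (nat_lit 18) (.node (nat_lit 16) (.leaf ((nat_lit 2), [nat_lit 0, nat_lit 3, nat_lit 0, nat_lit 3])) (.node (nat_lit 17) (.leaf ((nat_lit 5), [nat_lit 3, nat_lit 0, nat_lit 3, nat_lit 2])) (.leaf ((nat_lit 2), [nat_lit 3, nat_lit 2, nat_lit 1])))) (.node (nat_lit 19) (.leaf ((nat_lit 7), [])) (.node (nat_lit 20) (.leaf ((nat_lit 6), [nat_lit 0, nat_lit 3, nat_lit 0, nat_lit 3, nat_lit 1])) (.leaf ((nat_lit 5), [nat_lit 3, nat_lit 2, nat_lit 3, nat_lit 0, nat_lit 3])))))))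
 (.node (nat_lit 31) (.node (nat_lit 26) (.node (nat_lit 23) (.node (nat_lit 22) (.leaf ((nat_lit 6), [nat_lit 0, nat_lit 3, nat_lit 0, nat_lit 3])) (.leaf ((nat_lit 7), [nat_lit 3]))) (.node (nat_lit 24) (.leaf ((nat_lit 1), [nat_lit 2, nat_lit 3])) (.node (nat_lit 25) (.leaf ((nat_lit 1), [nat_lit 1, nat_lit 3, nat_lit 1])) (.leaf ((nat_lit 6), [nat_lit 2, nat_lit 3, nat_lit 1, nat_lit 3])))))
 (.node (nat_lit 28) (.node (nat_lit 27) (.leaf ((nat_lit 2), [nat_lit 3, nat_lit 2, nat_lit 3, nat_lit 0])) (.leaf ((nat_lit 8), []))) (.node (nat_lit 29) (.leaf ((nat_lit 1), [nat_lit 3, nat_lit 2, nat_lit 3])) (.node (nat_lit 30) (.leaf ((nat_lit 6), [nat_lit 0])) (.leaf ((nat_lit 2), [nat_lit 0]))))))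
 (.node (nat_lit 36) (.node (nat_lit 33) (.node (nat_lit 32) (.leaf ((nat_lit 9), [])) (.leaf ((nat_lit 5), [nat_lit 2, nat_lit 1]))) (.node (nat_lit 34) (.leaf ((nat_lit 2), [nat_lit 3, nat_lit 1])) (.node (nat_lit 35) (.leaf ((nat_lit 1), [nat_lit 3, nat_lit 0, nat_lit 3, nat_lit 0])) (.leaf ((nat_lit 9), [nat_lit 3, nat_lit 2, nat_lit 3])))))
 (.node (nat_lit 39) (.node (nat_lit 37) (.leaf ((nat_lit 6), [nat_lit 1])) (.node (nat_lit 38) (.leaf ((nat_lit 6), [nat_lit 2, nat_lit 3, nat_lit 0, nat_lit 3])) (.leaf ((nat_lit 2), [nat_lit 2, nat_lit 3])))) (.node (nat_lit 40) (.leaf ((nat_lit 2), [nat_lit 1, nat_lit 3, nat_lit 1])) (.node (nat_lit 41) (.leaf ((nat_lit 5), [nat_lit 2, nat_lit 3, nat_lit 1, nat_lit 3])) (.leaf ((nat_lit 1), [nat_lit 3, nat_lit 2, nat_lit 3, nat_lit 0]))))))))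
 (.node (nat_lit 63) (.node (nat_lit 52) (.node (nat_lit 47) (.node (nat_lit 44) (.node (nat_lit 43) (.leaf ((nat_lit 9), [nat_lit 0, nat_lit 3, nat_lit 0])) (.leaf ((nat_lit 2), [nat_lit 3, nat_lit 2, nat_lit 3]))) (.node (nat_lit 45) (.leaf ((nat_lit 5), [nat_lit 0])) (.node (nat_lit 46) (.leaf ((nat_lit 1), [nat_lit 0])) (.leaf ((nat_lit 8), [nat_lit 1, nat_lit 3, nat_lit 1])))))
 (.node (nat_lit 49) (.node (nat_lit 48) (.leaf ((nat_lit 6), [nat_lit 2, nat_lit 1])) (.leaf ((nat_lit 1), [nat_lit 3, nat_lit 1]))) (.node (nat_lit 50) (.leaf ((nat_lit 2), [nat_lit 3, nat_lit 0, nat_lit 3, nat_lit 0])) (.node (nat_lit 51) (.leaf ((nat_lit 8), [nat_lit 1, nat_lit 3, nat_lit 0, nat_lit 3, nat_lit 0])) (.leaf ((nat_lit 5), [nat_lit 1]))))))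
 (.node (nat_lit 57) (.node (nat_lit 54) (.node (nat_lit 53) (.leaf ((nat_lit 5), [nat_lit 2, nat_lit 3, nat_lit 0, nat_lit 3])) (.leaf ((nat_lit 10), []))) (.node (nat_lit 55) (.leaf ((nat_lit 9), [nat_lit 3, nat_lit 2, nat_lit 3, nat_lit 0])) (.node (nat_lit 56) (.leaf ((nat_lit 2), [nat_lit 3, nat_lit 2, nat_lit 0])) (.leaf ((nat_lit 6), [nat_lit 3, nat_lit 2, nat_lit 0, nat_lit 3])))))
 (.node (nat_lit 60) (.node (nat_lit 58) (.leaf ((nat_lit 9), [nat_lit 3, nat_lit 2, nat_lit 0, nat_lit 3])) (.node (nat_lit 59) (.leaf ((nat_lit 10), [nat_lit 2, nat_lit 0, nat_lit 3])) (.leaf ((nat_lit 1), [nat_lit 0, nat_lit 3, nat_lit 0, nat_lit 3])))) (.node (nat_lit 61) (.leaf ((nat_lit 1), [nat_lit 2, nat_lit 1])) (.node (nat_lit 62) (.leaf ((nat_lit 9), [nat_lit 0, nat_lit 3, nat_lit 2])) (.leaf ((nat_lit 10), [nat_lit 3, nat_lit 1, nat_lit 3, nat_lit 1])))))))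
 (.node (nat_lit 73) (.node (nat_lit 68) (.node (nat_lit 65) (.node (nat_lit 64) (.leaf ((nat_lit 11), [])) (.leaf ((nat_lit 6), [nat_lit 0, nat_lit 3, nat_lit 2, nat_lit 0, nat_lit 3]))) (.node (nat_lit 66) (.leaf ((nat_lit 6), [nat_lit 0, nat_lit 3, nat_lit 2, nat_lit 0])) (.node (nat_lit 67) (.leaf ((nat_lit 1), [nat_lit 0, nat_lit 3, nat_lit 0])) (.leaf ((nat_lit 6), [nat_lit 3, nat_lit 0, nat_lit 3, nat_lit 2])))))
 (.node (nat_lit 70) (.node (nat_lit 69) (.leaf ((nat_lit 5), [nat_lit 0, nat_lit 3, nat_lit 0, nat_lit 3, nat_lit 1])) (.leaf ((nat_lit 6), [nat_lit 3, nat_lit 2, nat_lit 3, nat_lit 0, nat_lit 3]))) (.node (nat_lit 71) (.leaf ((nat_lit 5), [nat_lit 0, nat_lit 3, nat_lit 0, nat_lit 3])) (.node (nat_lit 72) (.leaf ((nat_lit 4), [nat_lit 3])) (.leaf ((nat_lit 7), [nat_lit 3, nat_lit 2]))))))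
 (.node (nat_lit 78) (.node (nat_lit 75) (.node (nat_lit 74) (.leaf ((nat_lit 5), [nat_lit 0, nat_lit 3, nat_lit 2, nat_lit 0, nat_lit 3])) (.leaf ((nat_lit 5), [nat_lit 3, nat_lit 0, nat_lit 3, nat_lit 1]))) (.node (nat_lit 76) (.leaf ((nat_lit 5), [nat_lit 3, nat_lit 2])) (.node (nat_lit 77) (.leaf ((nat_lit 6), [nat_lit 0, nat_lit 3, nat_lit 0, nat_lit 3, nat_lit 0])) (.leaf ((nat_lit 6), [nat_lit 3, nat_lit 0, nat_lit 3, nat_lit 2, nat_lit 0])))))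
 (.node (nat_lit 81) (.node (nat_lit 79) (.leaf ((nat_lit 6), [nat_lit 3])) (.node (nat_lit 80) (.leaf ((nat_lit 1), [nat_lit 0, nat_lit 3, nat_lit 1, nat_lit 3, nat_lit 1])) (.leaf ((nat_lit 5), [nat_lit 3, nat_lit 0, nat_lit 3, nat_lit 0])))) (.node (nat_lit 82) (.leaf ((nat_lit 5), [nat_lit 3, nat_lit 2, nat_lit 1])) (.node (nat_lit 83) (.leaf ((nat_lit 1), [nat_lit 3])) (.leaf ((nat_lit 6), [nat_lit 0, nat_lit 3])))))))))
 (.node (nat_lit 126) (.node (nat_lit 105) (.node (nat_lit 94) (.node (nat_lit 89) (.node (nat_lit 86) (.node (nat_lit 85) (.leaf ((nat_lit 5), [nat_lit 0, nat_lit 3])) (.leaf ((nat_lit 1), [nat_lit 0, nat_lit 3]))) (.node (nat_lit 87) (.leaf ((nat_lit 7), [nat_lit 0, nat_lit 3])) (.node (nat_lit 88) (.leaf ((nat_lit 8), [nat_lit 0, nat_lit 3, nat_lit 1])) (.leaf ((nat_lit 11), [nat_lit 2])))))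
 (.node (nat_lit 91) (.node (nat_lit 90) (.leaf ((nat_lit 10), [nat_lit 0, nat_lit 3, nat_lit 1])) (.leaf ((nat_lit 5), [nat_lit 0, nat_lit 3, nat_lit 0, nat_lit 3, nat_lit 2]))) (.node (nat_lit 92) (.leaf ((nat_lit 11), [nat_lit 2, nat_lit 1])) (.node (nat_lit 93) (.leaf ((nat_lit 8), [nat_lit 0])) (.leaf ((nat_lit 10), [nat_lit 1, nat_lit 3, nat_lit 1]))))))
 (.node (nat_lit 99) (.node (nat_lit 96) (.node (nat_lit 95) (.leaf ((nat_lit 6), [nat_lit 1, nat_lit 3, nat_lit 0, nat_lit 3, nat_lit 1])) (.leaf ((nat_lit 10), [nat_lit 2, nat_lit 0]))) (.node (nat_lit 97) (.leaf ((nat_lit 9), [nat_lit 0, nat_lit 3])) (.node (nat_lit 98) (.leaf ((nat_lit 1), [nat_lit 2, nat_lit 3, nat_lit 0])) (.leaf ((nat_lit 5), [nat_lit 2, nat_lit 3, nat_lit 1, nat_lit 3, nat_lit 0])))))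
 (.node (nat_lit 102) (.node (nat_lit 100) (.leaf ((nat_lit 5), [nat_lit 1, nat_lit 3, nat_lit 0, nat_lit 3, nat_lit 0])) (.node (nat_lit 101) (.leaf ((nat_lit 10), [nat_lit 3, nat_lit 2, nat_lit 1])) (.leaf ((nat_lit 5), [nat_lit 2, nat_lit 0])))) (.node (nat_lit 103) (.leaf ((nat_lit 11), [nat_lit 0, nat_lit 3, nat_lit 2, nat_lit 0])) (.node (nat_lit 104) (.leaf ((nat_lit 11), [nat_lit 3, nat_lit 1, nat_lit 3])) (.leaf ((nat_lit 12), [])))))))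
 (.node (nat_lit 115) (.node (nat_lit 110) (.node (nat_lit 107) (.node (nat_lit 106) (.leaf ((nat_lit 7), [nat_lit 2])) (.leaf ((nat_lit 4), [nat_lit 2]))) (.node (nat_lit 108) (.leaf ((nat_lit 5), [nat_lit 2, nat_lit 3, nat_lit 0, nat_lit 3, nat_lit 0])) (.node (nat_lit 109) (.leaf ((nat_lit 6), [nat_lit 2])) (.leaf ((nat_lit 8), [nat_lit 3, nat_lit 0, nat_lit 3, nat_lit 0])))))
 (.node (nat_lit 112) (.node (nat_lit 111) (.leaf ((nat_lit 11), [nat_lit 0, nat_lit 3, nat_lit 0, nat_lit 3])) (.leaf ((nat_lit 6), [nat_lit 0, nat_lit 3, nat_lit 2, nat_lit 3, nat_lit 0]))) (.node (nat_lit 113) (.leaf ((nat_lit 5), [nat_lit 2, nat_lit 3, nat_lit 0, nat_lit 3, nat_lit 1])) (.node (nat_lit 114) (.leaf ((nat_lit 11), [nat_lit 2, nat_lit 3, nat_lit 1])) (.leaf ((nat_lit 10), [nat_lit 2, nat_lit 3]))))))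
 (.node (nat_lit 120) (.node (nat_lit 117) (.node (nat_lit 116) (.leaf ((nat_lit 9), [nat_lit 3, nat_lit 0, nat_lit 3, nat_lit 2])) (.leaf ((nat_lit 9), [nat_lit 3, nat_lit 0, nat_lit 3, nat_lit 0]))) (.node (nat_lit 118) (.leaf ((nat_lit 10), [nat_lit 3])) (.node (nat_lit 119) (.leaf ((nat_lit 6), [nat_lit 3, nat_lit 0, nat_lit 3, nat_lit 0])) (.leaf ((nat_lit 6), [nat_lit 1, nat_lit 3, nat_lit 1, nat_lit 3, nat_lit 1])))))
 (.node (nat_lit 123) (.node (nat_lit 121) (.leaf ((nat_lit 6), [nat_lit 0, nat_lit 3, nat_lit 2, nat_lit 3, nat_lit 1])) (.node (nat_lit 122) (.leaf ((nat_lit 8), [nat_lit 2, nat_lit 3])) (.leaf ((nat_lit 11), [nat_lit 0, nat_lit 3, nat_lit 1, nat_lit 3])))) (.node (nat_lit 124) (.leaf ((nat_lit 2), [nat_lit 2])) (.node (nat_lit 125) (.leaf ((nat_lit 10), [nat_lit 1, nat_lit 3, nat_lit 0, nat_lit 3, nat_lit 0])) (.leaf ((nat_lit 9), [nat_lit 1, nat_lit 3,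 nat_lit 1, nat_lit 3]))))))))
 (.node (nat_lit 147) (.node (nat_lit 136) (.node (nat_lit 131) (.node (nat_lit 128) (.node (nat_lit 127) (.leaf ((nat_lit 9), [nat_lit 0])) (.leaf ((nat_lit 9), [nat_lit 3, nat_lit 0]))) (.node (nat_lit 129) (.leaf ((nat_lit 10), [nat_lit 0, nat_lit 3, nat_lit 0, nat_lit 3, nat_lit 0])) (.node (nat_lit 130) (.leaf ((nat_lit 11), [nat_lit 3, nat_lit 2, nat_lit 0, nat_lit 3])) (.leaf ((nat_lit 5), [nat_lit 3, nat_lit 1, nat_lit 3, nat_lit 0])))))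
 (.node (nat_lit 133) (.node (nat_lit 132) (.leaf ((nat_lit 9), [nat_lit 1])) (.leaf ((nat_lit 6), [nat_lit 0, nat_lit 3, nat_lit 0, nat_lit 3, nat_lit 2]))) (.node (nat_lit 134) (.leaf ((nat_lit 9), [nat_lit 1, nat_lit 3, nat_lit 0])) (.node (nat_lit 135) (.leaf ((nat_lit 5), [nat_lit 1, nat_lit 3, nat_lit 0, nat_lit 3, nat_lit 1])) (.leaf ((nat_lit 11), [nat_lit 3, nat_lit 1]))))))
 (.node (nat_lit 141) (.node (nat_lit 138) (.node (nat_lit 137) (.leaf ((nat_lit 8), [nat_lit 1, nat_lit 3, nat_lit 1, nat_lit 3])) (.leaf ((nat_lit 2), [nat_lit 2, nat_lit 3, nat_lit 0]))) (.node (nat_lit 139) (.leaf ((nat_lit 6), [nat_lit 2, nat_lit 3, nat_lit 1, nat_lit 3, nat_lit 0])) (.node (nat_lit 140) (.leaf ((nat_lit 6), [nat_lit 1, nat_lit 3, nat_lit 0, nat_lit 3, nat_lit 0])) (.leaf ((nat_lit 11), [nat_lit 3, nat_lit 1, nat_lit 3, nat_lit 1])))))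
 (.node (nat_lit 144) (.node (nat_lit 142) (.leaf ((nat_lit 6), [nat_lit 2, nat_lit 0])) (.node (nat_lit 143) (.leaf ((nat_lit 13), [])) (.leaf ((nat_lit 6), [nat_lit 2, nat_lit 3, nat_lit 0, nat_lit 3, nat_lit 0])))) (.node (nat_lit 145) (.leaf ((nat_lit 5), [nat_lit 2])) (.node (nat_lit 146) (.leaf ((nat_lit 9), [nat_lit 1, nat_lit 3, nat_lit 0, nat_lit 3])) (.leaf ((nat_lit 5), [nat_lit 0, nat_lit 3, nat_lit 2, nat_lit 3, nat_lit 0])))))))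
 (.node (nat_lit 157) (.node (nat_lit 152) (.node (nat_lit 149) (.node (nat_lit 148) (.leaf ((nat_lit 6), [nat_lit 2, nat_lit 3, nat_lit 0, nat_lit 3, nat_lit 1])) (.leaf ((nat_lit 10), [nat_lit 0]))) (.node (nat_lit 150) (.leaf ((nat_lit 8), [nat_lit 3, nat_lit 2])) (.node (nat_lit 151) (.leaf ((nat_lit 8), [nat_lit 3])) (.leaf ((nat_lit 11), [nat_lit 0, nat_lit 3, nat_lit 2, nat_lit 3])))))
 (.node (nat_lit 154) (.node (nat_lit 153) (.leaf ((nat_lit 5), [nat_lit 1, nat_lit 3, nat_lit 1, nat_lit 3, nat_lit 1])) (.leaf ((nat_lit 5), [nat_lit 0, nat_lit 3, nat_lit 2, nat_lit 3, nat_lit 1]))) (.node (nat_lit 155) (.leaf ((nat_lit 9), [nat_lit 2, nat_lit 3, nat_lit 0, nat_lit 3, nat_lit 0])) (.node (nat_lit 156) (.leaf ((nat_lit 10), [nat_lit 3, nat_lit 0, nat_lit 3, nat_lit 0])) (.leaf ((nat_lit 1), [nat_lit 2]))))))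
 (.node (nat_lit 162) (.node (nat_lit 159) (.node (nat_lit 158) (.leaf ((nat_lit 8), [nat_lit 0, nat_lit 3])) (.leaf ((nat_lit 8), [nat_lit 3, nat_lit 1]))) (.node (nat_lit 160) (.leaf ((nat_lit 8), [nat_lit 1])) (.node (nat_lit 161) (.leaf ((nat_lit 6), [nat_lit 3, nat_lit 1, nat_lit 3, nat_lit 0])) (.leaf ((nat_lit 1), [nat_lit 3, nat_lit 2, nat_lit 0])))))
 (.node (nat_lit 165) (.node (nat_lit 163) (.leaf ((nat_lit 8), [nat_lit 3, nat_lit 2, nat_lit 1])) (.node (nat_lit 164) (.leaf ((nat_lit 14), [])) (.leaf ((nat_lit 1), [nat_lit 3, nat_lit 0, nat_lit 3])))) (.node (nat_lit 166) (.leaf ((nat_lit 11), [nat_lit 0, nat_lit 3, nat_lit 1])) (.node (nat_lit 167) (.leaf ((nat_lit 8), [nat_lit 3, nat_lit 1, nat_lit 3, nat_lit 1])) (.leaf ((nat_lit 6), [nat_lit 1, nat_lit 3, nat_lit 1]))))))))))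
noncomputable def n3PA_1 : Tr (ℕ × List ℕ) := (.node (nat_lit 252) (.node (nat_lit 210) (.node (nat_lit 189) (.node (nat_lit 178) (.node (nat_lit 173) (.node (nat_lit 170) (.node (nat_lit 169) (.leaf ((nat_lit 5), [nat_lit 2, nat_lit 0, nat_lit 3])) (.leaf ((nat_lit 1), [nat_lit 3, nat_lit 0]))) (.node (nat_lit 171) (.leaf ((nat_lit 8), [nat_lit 2, nat_lit 0, nat_lit 3])) (.node (nat_lit 172) (.leaf ((nat_lit 10), [nat_lit 3, nat_lit 1])) (.leaf ((nat_lit 11), [nat_lit 3, nat_lit 0, nat_lit 3])))))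
 (.node (nat_lit 175) (.node (nat_lit 174) (.leaf ((nat_lit 10), [nat_lit 0, nat_lit 3, nat_lit 0])) (.leaf ((nat_lit 2), [nat_lit 2, nat_lit 1]))) (.node (nat_lit 176) (.leaf ((nat_lit 8), [nat_lit 3, nat_lit 0])) (.node (nat_lit 177) (.leaf ((nat_lit 2), [nat_lit 1, nat_lit 3, nat_lit 1, nat_lit 3, nat_lit 1])) (.leaf ((nat_lit 6), [nat_lit 1, nat_lit 3, nat_lit 0]))))))
 (.node (nat_lit 183) (.node (nat_lit 180) (.node (nat_lit 179) (.leaf ((nat_lit 10), [nat_lit 2, nat_lit 1])) (.leaf ((nat_lit 10), [nat_lit 3, nat_lit 1, nat_lit 3]))) (.node (nat_lit 181) (.leaf ((nat_lit 2), [nat_lit 3])) (.node (nat_lit 182) (.leaf ((nat_lit 9), [nat_lit 3])) (.leaf ((nat_lit 8), [nat_lit 2, nat_lit 3, nat_lit 1, nat_lit 3])))))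
 (.node (nat_lit 186) (.node (nat_lit 184) (.leaf ((nat_lit 5), [nat_lit 3, nat_lit 1])) (.node (nat_lit 185) (.leaf ((nat_lit 2), [nat_lit 3, nat_lit 0])) (.leaf ((nat_lit 5), [nat_lit 0, nat_lit 3, nat_lit 2, nat_lit 0])))) (.node (nat_lit 187) (.leaf ((nat_lit 6), [nat_lit 2, nat_lit 0, nat_lit 3])) (.node (nat_lit 188) (.leaf ((nat_lit 9), [nat_lit 3, nat_lit 1, nat_lit 3])) (.leaf ((nat_lit 5), [nat_lit 0, nat_lit 3, nat_lit 2])))))))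
 (.node (nat_lit 199) (.node (nat_lit 194) (.node (nat_lit 191) (.node (nat_lit 190) (.leaf ((nat_lit 5), [nat_lit 3, nat_lit 2, nat_lit 0, nat_lit 3])) (.leaf ((nat_lit 8), [nat_lit 2]))) (.node (nat_lit 192) (.leaf ((nat_lit 11), [nat_lit 3, nat_lit 2, nat_lit 1])) (.node (nat_lit 193) (.leaf ((nat_lit 10), [nat_lit 0, nat_lit 3, nat_lit 2, nat_lit 0])) (.leaf ((nat_lit 4), [nat_lit 3, nat_lit 2])))))
 (.node (nat_lit 196) (.node (nat_lit 195) (.leaf ((nat_lit 6), [nat_lit 3, nat_lit 0, nat_lit 3, nat_lit 1])) (.leaf ((nat_lit 6), [nat_lit 3, nat_lit 2]))) (.node (nat_lit 197) (.leaf ((nat_lit 5), [nat_lit 0, nat_lit 3, nat_lit 0, nat_lit 3, nat_lit 0])) (.node (nat_lit 198) (.leaf ((nat_lit 5), [nat_lit 3, nat_lit 0, nat_lit 3, nat_lit 2, nat_lit 0])) (.leaf ((nat_lit 5), [nat_lit 3]))))))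
 (.node (nat_lit 204) (.node (nat_lit 201) (.node (nat_lit 200) (.leaf ((nat_lit 2), [nat_lit 0, nat_lit 3, nat_lit 1, nat_lit 3, nat_lit 1])) (.leaf ((nat_lit 6), [nat_lit 3, nat_lit 2, nat_lit 1]))) (.node (nat_lit 202) (.leaf ((nat_lit 2), [nat_lit 0, nat_lit 3])) (.node (nat_lit 203) (.leaf ((nat_lit 4), [nat_lit 0, nat_lit 3])) (.leaf ((nat_lit 6), [nat_lit 3, nat_lit 1])))))
 (.node (nat_lit 207) (.node (nat_lit 205) (.leaf ((nat_lit 12), [nat_lit 1])) (.node (nat_lit 206) (.leaf ((nat_lit 5), [nat_lit 2, nat_lit 3, nat_lit 1, nat_lit 3, nat_lit 1])) (.leaf ((nat_lit 9), [nat_lit 0, nat_lit 3, nat_lit 1, nat_lit 3, nat_lit 0])))) (.node (nat_lit 208) (.leaf ((nat_lit 6), [nat_lit 2, nat_lit 3, nat_lit 1])) (.node (nat_lit 209) (.leaf ((nat_lit 5), [nat_lit 3, nat_lit 0, nat_lit 3])) (.leaf ((nat_lit 5), [nat_lit 3, nat_lit 2, nat_lit 0]))))))))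
 (.node (nat_lit 231) (.node (nat_lit 220) (.node (nat_lit 215) (.node (nat_lit 212) (.node (nat_lit 211) (.leaf ((nat_lit 6), [nat_lit 1, nat_lit 3])) (.leaf ((nat_lit 9), [nat_lit 2, nat_lit 1]))) (.node (nat_lit 213) (.leaf ((nat_lit 5), [nat_lit 2, nat_lit 3, nat_lit 0])) (.node (nat_lit 214) (.leaf ((nat_lit 8), [nat_lit 2, nat_lit 1])) (.leaf ((nat_lit 5), [nat_lit 1, nat_lit 3, nat_lit 1])))))
 (.node (nat_lit 217) (.node (nat_lit 216) (.leaf ((nat_lit 8), [nat_lit 3, nat_lit 1, nat_lit 3])) (.leaf ((nat_lit 2), [nat_lit 3, nat_lit 1, nat_lit 3, nat_lit 1]))) (.node (nat_lit 218) (.leaf ((nat_lit 14), [nat_lit 1])) (.node (nat_lit 219) (.leaf ((nat_lit 13), [nat_lit 3, nat_lit 1])) (.leaf ((nat_lit 6), [nat_lit 0, nat_lit 3, nat_lit 0]))))))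
 (.node (nat_lit 225) (.node (nat_lit 222) (.node (nat_lit 221) (.leaf ((nat_lit 2), [nat_lit 3, nat_lit 2])) (.leaf ((nat_lit 2), [nat_lit 2, nat_lit 0]))) (.node (nat_lit 223) (.leaf ((nat_lit 5), [nat_lit 1, nat_lit 3, nat_lit 0])) (.node (nat_lit 224) (.leaf ((nat_lit 9), [nat_lit 3, nat_lit 1, nat_lit 3, nat_lit 0])) (.leaf ((nat_lit 2), [nat_lit 0, nat_lit 3, nat_lit 2])))))
 (.node (nat_lit 228) (.node (nat_lit 226) (.leaf ((nat_lit 5), [nat_lit 1, nat_lit 3, nat_lit 1, nat_lit 3])) (.node (nat_lit 227) (.leaf ((nat_lit 5), [nat_lit 0, nat_lit 3, nat_lit 1])) (.leaf ((nat_lit 6), [nat_lit 1, nat_lit 3, nat_lit 1, nat_lit 3])))) (.node (nat_lit 229) (.leaf ((nat_lit 6), [nat_lit 0, nat_lit 3, nat_lit 1])) (.node (nat_lit 230) (.leaf ((nat_lit 6), [nat_lit 3, nat_lit 0, nat_lit 3])) (.leaf ((nat_lit 6), [nat_lit 0, nat_lit 3, nat_lit 2])))))))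
 (.node (nat_lit 241) (.node (nat_lit 236) (.node (nat_lit 233) (.node (nat_lit 232) (.leaf ((nat_lit 2), [nat_lit 3, nat_lit 0, nat_lit 3])) (.leaf ((nat_lit 11), [nat_lit 2, nat_lit 0]))) (.node (nat_lit 234) (.leaf ((nat_lit 6), [nat_lit 3, nat_lit 0])) (.node (nat_lit 235) (.leaf ((nat_lit 2), [nat_lit 2, nat_lit 0, nat_lit 3])) (.leaf ((nat_lit 1), [nat_lit 2, nat_lit 0, nat_lit 3])))))
 (.node (nat_lit 238) (.node (nat_lit 237) (.leaf ((nat_lit 11), [nat_lit 3, nat_lit 2, nat_lit 0])) (.leaf ((nat_lit 6), [nat_lit 2, nat_lit 3, nat_lit 0]))) (.node (nat_lit 239) (.leaf ((nat_lit 11), [nat_lit 1, nat_lit 3, nat_lit 0, nat_lit 3, nat_lit 1])) (.node (nat_lit 240) (.leaf ((nat_lit 9), [nat_lit 3, nat_lit 2])) (.leaf ((nat_lit 9), [nat_lit 1, nat_lit 3]))))))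
 (.node (nat_lit 246) (.node (nat_lit 243) (.node (nat_lit 242) (.leaf ((nat_lit 2), [nat_lit 1, nat_lit 3])) (.leaf ((nat_lit 8), [nat_lit 2, nat_lit 0]))) (.node (nat_lit 244) (.leaf ((nat_lit 11), [nat_lit 2, nat_lit 0, nat_lit 3])) (.node (nat_lit 245) (.leaf ((nat_lit 6), [nat_lit 1, nat_lit 3, nat_lit 0, nat_lit 3])) (.leaf ((nat_lit 15), [])))))
 (.node (nat_lit 249) (.node (nat_lit 247) (.leaf ((nat_lit 12), [nat_lit 0, nat_lit 3, nat_lit 1])) (.node (nat_lit 248) (.leaf ((nat_lit 9), [nat_lit 3, nat_lit 0, nat_lit 3])) (.leaf ((nat_lit 10), [nat_lit 3, nat_lit 2])))) (.node (nat_lit 250) (.leaf ((nat_lit 11), [nat_lit 0])) (.node (nat_lit 251) (.leaf ((nat_lit 8), [nat_lit 2, nat_lit 3, nat_lit 1])) (.leaf ((nat_lit 14), [nat_lit 1, nat_lit 3, nat_lit 0])))))))))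
 (.node (nat_lit 294) (.node (nat_lit 273) (.node (nat_lit 262) (.node (nat_lit 257) (.node (nat_lit 254) (.node (nat_lit 253) (.leaf ((nat_lit 15), [nat_lit 1])) (.leaf ((nat_lit 6), [nat_lit 0, nat_lit 3, nat_lit 2, nat_lit 3]))) (.node (nat_lit 255) (.leaf ((nat_lit 5), [nat_lit 1, nat_lit 3, nat_lit 0, nat_lit 3])) (.node (nat_lit 256) (.leaf ((nat_lit 5), [nat_lit 0, nat_lit 3, nat_lit 1, nat_lit 3, nat_lit 0])) (.leaf ((nat_lit 6), [nat_lit 3, nat_lit 2, nat_lit 3])))))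
 (.node (nat_lit 259) (.node (nat_lit 258) (.leaf ((nat_lit 5), [nat_lit 3, nat_lit 2, nat_lit 3])) (.leaf ((nat_lit 6), [nat_lit 3, nat_lit 1, nat_lit 3]))) (.node (nat_lit 260) (.leaf ((nat_lit 6), [nat_lit 0, nat_lit 3, nat_lit 1, nat_lit 3, nat_lit 1])) (.node (nat_lit 261) (.leaf ((nat_lit 12), [nat_lit 1, nat_lit 3, nat_lit 1])) (.leaf ((nat_lit 5), [nat_lit 1, nat_lit 3, nat_lit 1, nat_lit 3, nat_lit 0]))))))
 (.node (nat_lit 267) (.node (nat_lit 264) (.node (nat_lit 263) (.leaf ((nat_lit 11), [nat_lit 3, nat_lit 2, nat_lit 3, nat_lit 1])) (.leaf ((nat_lit 5), [nat_lit 0, nat_lit 3, nat_lit 1, nat_lit 3]))) (.node (nat_lit 265) (.leaf ((nat_lit 5), [nat_lit 3, nat_lit 2, nat_lit 3, nat_lit 1])) (.node (nat_lit 266) (.leaf ((nat_lit 15), [nat_lit 0])) (.leaf ((nat_lit 10), [nat_lit 3, nat_lit 0])))))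
 (.node (nat_lit 270) (.node (nat_lit 268) (.leaf ((nat_lit 1), [nat_lit 3, nat_lit 1, nat_lit 3, nat_lit 1])) (.node (nat_lit 269) (.leaf ((nat_lit 1), [nat_lit 1, nat_lit 3])) (.leaf ((nat_lit 10), [nat_lit 1, nat_lit 3])))) (.node (nat_lit 271) (.leaf ((nat_lit 6), [nat_lit 0, nat_lit 3, nat_lit 1, nat_lit 3])) (.node (nat_lit 272) (.leaf ((nat_lit 10), [nat_lit 2, nat_lit 3, nat_lit 1, nat_lit 3, nat_lit 1])) (.leaf ((nat_lit 12), [nat_lit 3, nat_lit 1])))))))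
 (.node (nat_lit 283) (.node (nat_lit 278) (.node (nat_lit 275) (.node (nat_lit 274) (.leaf ((nat_lit 9), [nat_lit 2, nat_lit 3])) (.leaf ((nat_lit 10), [nat_lit 0, nat_lit 3]))) (.node (nat_lit 276) (.leaf ((nat_lit 5), [nat_lit 0, nat_lit 3, nat_lit 0])) (.node (nat_lit 277) (.leaf ((nat_lit 1), [nat_lit 3, nat_lit 2])) (.leaf ((nat_lit 11), [nat_lit 1, nat_lit 3])))))
 (.node (nat_lit 280) (.node (nat_lit 279) (.leaf ((nat_lit 8), [nat_lit 3, nat_lit 2, nat_lit 0])) (.leaf ((nat_lit 9), [nat_lit 2]))) (.node (nat_lit 281) (.leaf ((nat_lit 6), [nat_lit 3, nat_lit 1, nat_lit 3, nat_lit 1])) (.node (nat_lit 282) (.leaf ((nat_lit 8), [nat_lit 0, nat_lit 3, nat_lit 0, nat_lit 3, nat_lit 0])) (.leaf ((nat_lit 11), [nat_lit 2, nat_lit 3]))))))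
 (.node (nat_lit 288) (.node (nat_lit 285) (.node (nat_lit 284) (.leaf ((nat_lit 1), [nat_lit 2, nat_lit 0])) (.leaf ((nat_lit 5), [nat_lit 0, nat_lit 3, nat_lit 2, nat_lit 3]))) (.node (nat_lit 286) (.leaf ((nat_lit 10), [nat_lit 2, nat_lit 3, nat_lit 1])) (.node (nat_lit 287) (.leaf ((nat_lit 10), [nat_lit 3, nat_lit 2, nat_lit 0])) (.leaf ((nat_lit 10), [nat_lit 1])))))
 (.node (nat_lit 291) (.node (nat_lit 289) (.leaf ((nat_lit 13), [nat_lit 0])) (.node (nat_lit 290) (.leaf ((nat_lit 11), [nat_lit 1])) (.leaf ((nat_lit 1), [nat_lit 0, nat_lit 3, nat_lit 2])))) (.node (nat_lit 292) (.leaf ((nat_lit 5), [nat_lit 3, nat_lit 0])) (.node (nat_lit 293) (.leaf ((nat_lit 13), [nat_lit 1])) (.leaf ((nat_lit 11), [nat_lit 1, nat_lit 3, nat_lit 1]))))))))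
 (.node (nat_lit 315) (.node (nat_lit 304) (.node (nat_lit 299) (.node (nat_lit 296) (.node (nat_lit 295) (.leaf ((nat_lit 6), [nat_lit 2, nat_lit 3, nat_lit 1, nat_lit 3, nat_lit 1])) (.leaf ((nat_lit 10), [nat_lit 1, nat_lit 3, nat_lit 1, nat_lit 3]))) (.node (nat_lit 297) (.leaf ((nat_lit 14), [nat_lit 0])) (.node (nat_lit 298) (.leaf ((nat_lit 13), [nat_lit 0, nat_lit 3, nat_lit 1])) (.leaf ((nat_lit 11), [nat_lit 3, nat_lit 0, nat_lit 3, nat_lit 1])))))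
 (.node (nat_lit 301) (.node (nat_lit 300) (.leaf ((nat_lit 9), [nat_lit 2, nat_lit 0])) (.leaf ((nat_lit 15), [nat_lit 1, nat_lit 3]))) (.node (nat_lit 302) (.leaf ((nat_lit 6), [nat_lit 0, nat_lit 3, nat_lit 1, nat_lit 3, nat_lit 0])) (.node (nat_lit 303) (.leaf ((nat_lit 5), [nat_lit 3, nat_lit 1, nat_lit 3])) (.leaf ((nat_lit 5), [nat_lit 0, nat_lit 3, nat_lit 1, nat_lit 3, nat_lit 1]))))))
 (.node (nat_lit 309) (.node (nat_lit 306) (.node (nat_lit 305) (.leaf ((nat_lit 13), [nat_lit 1, nat_lit 3, nat_lit 1])) (.leaf ((nat_lit 6), [nat_lit 1, nat_lit 3, nat_lit 1, nat_lit 3, nat_lit 0]))) (.node (nat_lit 307) (.leaf ((nat_lit 6), [nat_lit 3, nat_lit 2, nat_lit 3, nat_lit 1])) (.node (nat_lit 308) (.leaf ((nat_lit 11), [nat_lit 3, nat_lit 2, nat_lit 3])) (.leaf ((nat_lit 8), [nat_lit 0, nat_lit 3, nat_lit 2, nat_lit 0])))))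
 (.node (nat_lit 312) (.node (nat_lit 310) (.leaf ((nat_lit 8), [nat_lit 2, nat_lit 3, nat_lit 1, nat_lit 3, nat_lit 1])) (.node (nat_lit 311) (.leaf ((nat_lit 11), [nat_lit 2, nat_lit 3, nat_lit 0, nat_lit 3])) (.leaf ((nat_lit 5), [nat_lit 3, nat_lit 1, nat_lit 3, nat_lit 1])))) (.node (nat_lit 313) (.leaf ((nat_lit 8), [nat_lit 0, nat_lit 3, nat_lit 0])) (.node (nat_lit 314) (.leaf ((nat_lit 12), [nat_lit 0])) (.leaf ((nat_lit 10), [nat_lit 2])))))))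
 (.node (nat_lit 325) (.node (nat_lit 320) (.node (nat_lit 317) (.node (nat_lit 316) (.leaf ((nat_lit 5), [nat_lit 2, nat_lit 3, nat_lit 1])) (.leaf ((nat_lit 10), [nat_lit 3, nat_lit 2, nat_lit 0, nat_lit 3]))) (.node (nat_lit 318) (.leaf ((nat_lit 1), [nat_lit 1, nat_lit 3, nat_lit 1, nat_lit 3, nat_lit 1])) (.node (nat_lit 319) (.leaf ((nat_lit 11), [nat_lit 0, nat_lit 3])) (.leaf ((nat_lit 9), [nat_lit 3, nat_lit 2, nat_lit 1])))))
 (.node (nat_lit 322) (.node (nat_lit 321) (.leaf ((nat_lit 5), [nat_lit 2, nat_lit 3])) (.leaf ((nat_lit 8), [nat_lit 1, nat_lit 3]))) (.node (nat_lit 323) (.leaf ((nat_lit 6), [nat_lit 3, nat_lit 2, nat_lit 0])) (.node (nat_lit 324) (.leaf ((nat_lit 5), [nat_lit 1, nat_lit 3])) (.leaf ((nat_lit 9), [nat_lit 2, nat_lit 3, nat_lit 0]))))))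
 (.node (nat_lit 330) (.node (nat_lit 327) (.node (nat_lit 326) (.leaf ((nat_lit 14), [nat_lit 0, nat_lit 3, nat_lit 0])) (.leaf ((nat_lit 15), [nat_lit 0, nat_lit 3]))) (.node (nat_lit 328) (.leaf ((nat_lit 10), [nat_lit 2, nat_lit 3, nat_lit 1, nat_lit 3])) (.node (nat_lit 329) (.leaf ((nat_lit 11), [nat_lit 3])) (.leaf ((nat_lit 6), [nat_lit 2, nat_lit 3])))))
 (.node (nat_lit 333) (.node (nat_lit 331) (.leaf ((nat_lit 6), [nat_lit 3, nat_lit 2, nat_lit 3, nat_lit 0])) (.node (nat_lit 332) (.leaf ((nat_lit 5), [nat_lit 3, nat_lit 2, nat_lit 3, nat_lit 0])) (.leaf ((nat_lit 15), [nat_lit 3])))) (.node (nat_lit 334) (.leaf ((nat_lit 8), [nat_lit 3, nat_lit 2, nat_lit 0, nat_lit 3])) (.node (nat_lit 335) (.leaf ((nat_lit 14), [nat_lit 3, nat_lit 0])) (.leaf ((nat_lit 9), [nat_lit 2, nat_lit 0, nat_lit 3]))))))))))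
noncomputable def n3PA : Tr (ℕ × List ℕ) := (.node (nat_lit 168) n3PA_0 n3PA_1)
noncomputable def n3Wd_0 : Tr (ℕ × List ℕ) := (.node (nat_lit 126) (.node (nat_lit 63) (.node (nat_lit 31) (.node (nat_lit 15) (.node (nat_lit 7) (.node (nat_lit 3) (.node (nat_lit 1) (.leaf ((nat_lit 1), [])) (.node (nat_lit 2) (.leaf ((nat_lit 2), [])) (.leaf ((nat_lit 3), [nat_lit 3, nat_lit 2, nat_lit 1]))))
 (.node (nat_lit 5) (.node (nat_lit 4) (.leaf ((nat_lit 4), [])) (.leaf ((nat_lit 4), [nat_lit 1, nat_lit 3, nat_lit 1, nat_lit 3, nat_lit 2]))) (.node (nat_lit 6) (.leaf ((nat_lit 5), [])) (.leaf ((nat_lit 0), [])))))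
 (.node (nat_lit 11) (.node (nat_lit 9) (.node (nat_lit 8) (.leaf ((nat_lit 4), [nat_lit 3, nat_lit 1, nat_lit 3, nat_lit 2, nat_lit 0])) (.leaf ((nat_lit 6), [nat_lit 1, nat_lit 3, nat_lit 0]))) (.node (nat_lit 10) (.leaf ((nat_lit 7), [nat_lit 0, nat_lit 3, nat_lit 1, nat_lit 3, nat_lit 2, nat_lit 0])) (.leaf ((nat_lit 8), [nat_lit 0, nat_lit 3, nat_lit 1, nat_lit 3, nat_lit 2, nat_lit 0]))))
 (.node (nat_lit 13) (.node (nat_lit 12) (.leaf ((nat_lit 9), [])) (.leaf ((nat_lit 4), [nat_lit 3, nat_lit 1, nat_lit 3, nat_lit 2, nat_lit 0]))) (.node (nat_lit 14) (.leaf ((nat_lit 0), [])) (.leaf ((nat_lit 10), [nat_lit 1, nat_lit 3, nat_lit 0]))))))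
 (.node (nat_lit 23) (.node (nat_lit 19) (.node (nat_lit 17) (.node (nat_lit 16) (.leaf ((nat_lit 11), [nat_lit 0, nat_lit 3, nat_lit 1, nat_lit 3, nat_lit 2, nat_lit 0])) (.leaf ((nat_lit 12), [nat_lit 0, nat_lit 3, nat_lit 1, nat_lit 3, nat_lit 2, nat_lit 0]))) (.node (nat_lit 18) (.leaf ((nat_lit 13), [])) (.leaf ((nat_lit 6), [nat_lit 2, nat_lit 3, nat_lit 1, nat_lit 3]))))
 (.node (nat_lit 21) (.node (nat_lit 20) (.leaf ((nat_lit 10), [nat_lit 2, nat_lit 3, nat_lit 1, nat_lit 3])) (.leaf ((nat_lit 0), [nat_lit 3, nat_lit 2, nat_lit 1]))) (.node (nat_lit 22) (.leaf ((nat_lit 14), [nat_lit 0, nat_lit 3, nat_lit 1, nat_lit 3, nat_lit 2, nat_lit 0])) (.leaf ((nat_lit 15), [nat_lit 0, nat_lit 3, nat_lit 1, nat_lit 3, nat_lit 2, nat_lit 0])))))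
 (.node (nat_lit 27) (.node (nat_lit 25) (.node (nat_lit 24) (.leaf ((nat_lit 16), [nat_lit 0, nat_lit 3, nat_lit 1, nat_lit 3, nat_lit 2, nat_lit 0])) (.leaf ((nat_lit 2), [nat_lit 0, nat_lit 3, nat_lit 1, nat_lit 3, nat_lit 2, nat_lit 1]))) (.node (nat_lit 26) (.leaf ((nat_lit 1), [nat_lit 0, nat_lit 3, nat_lit 1, nat_lit 3, nat_lit 2, nat_lit 1])) (.leaf ((nat_lit 17), [nat_lit 2, nat_lit 3, nat_lit 1, nat_lit 3, nat_lit 0]))))
 (.node (nat_lit 29) (.node (nat_lit 28) (.leaf ((nat_lit 0), [])) (.leaf ((nat_lit 0), [nat_lit 1, nat_lit 3, nat_lit 1, nat_lit 3, nat_lit 2]))) (.node (nat_lit 30) (.leaf ((nat_lit 18), [])) (.leaf ((nat_lit 19), [nat_lit 0, nat_lit 3, nat_lit 0, nat_lit 3, nat_lit 2, nat_lit 0])))))))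
 (.node (nat_lit 47) (.node (nat_lit 39) (.node (nat_lit 35) (.node (nat_lit 33) (.node (nat_lit 32) (.leaf ((nat_lit 20), [nat_lit 0, nat_lit 3, nat_lit 0, nat_lit 3, nat_lit 1])) (.leaf ((nat_lit 21), [nat_lit 3, nat_lit 0, nat_lit 3, nat_lit 2, nat_lit 0]))) (.node (nat_lit 34) (.leaf ((nat_lit 18), [nat_lit 0])) (.leaf ((nat_lit 22), [nat_lit 3, nat_lit 0, nat_lit 3, nat_lit 2, nat_lit 0]))))
 (.node (nat_lit 37) (.node (nat_lit 36) (.leaf ((nat_lit 0), [])) (.leaf ((nat_lit 3), [nat_lit 3, nat_lit 0, nat_lit 3, nat_lit 2]))) (.node (nat_lit 38) (.leaf ((nat_lit 17), [nat_lit 3, nat_lit 0, nat_lit 3, nat_lit 2])) (.leaf ((nat_lit 1), [nat_lit 1, nat_lit 3, nat_lit 0])))))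
 (.node (nat_lit 43) (.node (nat_lit 41) (.node (nat_lit 40) (.leaf ((nat_lit 23), [nat_lit 0, nat_lit 3, nat_lit 1, nat_lit 3, nat_lit 2, nat_lit 0])) (.leaf ((nat_lit 24), [nat_lit 0, nat_lit 3, nat_lit 1, nat_lit 3, nat_lit 2, nat_lit 0]))) (.node (nat_lit 42) (.leaf ((nat_lit 25), [nat_lit 0, nat_lit 3, nat_lit 1, nat_lit 3, nat_lit 2, nat_lit 0])) (.leaf ((nat_lit 26), [nat_lit 0, nat_lit 3, nat_lit 1, nat_lit 3, nat_lit 2]))))
 (.node (nat_lit 45) (.node (nat_lit 44) (.leaf ((nat_lit 11), [nat_lit 0, nat_lit 3, nat_lit 1, nat_lit 3, nat_lit 2])) (.leaf ((nat_lit 27), [nat_lit 0, nat_lit 3, nat_lit 1, nat_lit 3, nat_lit 2, nat_lit 0]))) (.node (nat_lit 46) (.leaf ((nat_lit 1), [nat_lit 0, nat_lit 3, nat_lit 1, nat_lit 3, nat_lit 2, nat_lit 0])) (.leaf ((nat_lit 28), []))))))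
 (.node (nat_lit 55) (.node (nat_lit 51) (.node (nat_lit 49) (.node (nat_lit 48) (.leaf ((nat_lit 29), [])) (.leaf ((nat_lit 30), [nat_lit 3, nat_lit 1, nat_lit 3, nat_lit 2, nat_lit 0]))) (.node (nat_lit 50) (.leaf ((nat_lit 12), [nat_lit 3, nat_lit 1, nat_lit 3, nat_lit 2, nat_lit 0])) (.leaf ((nat_lit 31), [nat_lit 0, nat_lit 3, nat_lit 1, nat_lit 3, nat_lit 2, nat_lit 0]))))
 (.node (nat_lit 53) (.node (nat_lit 52) (.leaf ((nat_lit 28), [])) (.leaf ((nat_lit 1), [nat_lit 0, nat_lit 3, nat_lit 1, nat_lit 3, nat_lit 2, nat_lit 0]))) (.node (nat_lit 54) (.leaf ((nat_lit 32), [nat_lit 3, nat_lit 1, nat_lit 3, nat_lit 2, nat_lit 1])) (.leaf ((nat_lit 33), [nat_lit 0, nat_lit 3, nat_lit 2])))))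
 (.node (nat_lit 59) (.node (nat_lit 57) (.node (nat_lit 56) (.leaf ((nat_lit 34), [nat_lit 0, nat_lit 3, nat_lit 2])) (.leaf ((nat_lit 35), [nat_lit 1, nat_lit 3, nat_lit 1, nat_lit 3, nat_lit 0]))) (.node (nat_lit 58) (.leaf ((nat_lit 36), [nat_lit 0, nat_lit 3, nat_lit 1, nat_lit 3, nat_lit 2, nat_lit 0])) (.leaf ((nat_lit 37), [nat_lit 0, nat_lit 3, nat_lit 1, nat_lit 3, nat_lit 2, nat_lit 0]))))
 (.node (nat_lit 61) (.node (nat_lit 60) (.leaf ((nat_lit 1), [])) (.leaf ((nat_lit 17), [nat_lit 3, nat_lit 0, nat_lit 3, nat_lit 2]))) (.node (nat_lit 62) (.leaf ((nat_lit 3), [nat_lit 3, nat_lit 0, nat_lit 3, nat_lit 2])) (.leaf ((nat_lit 2), [nat_lit 1, nat_lit 3, nat_lit 0]))))))))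
 (.node (nat_lit 94) (.node (nat_lit 78) (.node (nat_lit 70) (.node (nat_lit 66) (.node (nat_lit 64) (.leaf ((nat_lit 38), [nat_lit 0, nat_lit 3, nat_lit 1, nat_lit 3, nat_lit 2, nat_lit 0])) (.node (nat_lit 65) (.leaf ((nat_lit 39), [nat_lit 0, nat_lit 3, nat_lit 1, nat_lit 3, nat_lit 2, nat_lit 0])) (.leaf ((nat_lit 40), [nat_lit 0, nat_lit 3, nat_lit 1, nat_lit 3, nat_lit 2, nat_lit 0]))))
 (.node (nat_lit 68) (.node (nat_lit 67) (.leaf ((nat_lit 41), [nat_lit 1, nat_lit 3, nat_lit 1, nat_lit 3, nat_lit 2, nat_lit 0])) (.leaf ((nat_lit 7), [nat_lit 1, nat_lit 3, nat_lit 1, nat_lit 3, nat_lit 2, nat_lit 0]))) (.node (nat_lit 69) (.leaf ((nat_lit 42), [nat_lit 0, nat_lit 3, nat_lit 2, nat_lit 0])) (.leaf ((nat_lit 2), [nat_lit 0, nat_lit 3, nat_lit 1, nat_lit 3, nat_lit 2, nat_lit 0])))))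
 (.node (nat_lit 74) (.node (nat_lit 72) (.node (nat_lit 71) (.leaf ((nat_lit 43), [])) (.leaf ((nat_lit 44), []))) (.node (nat_lit 73) (.leaf ((nat_lit 45), [nat_lit 0, nat_lit 3, nat_lit 1, nat_lit 3, nat_lit 2, nat_lit 1])) (.leaf ((nat_lit 8), [nat_lit 0, nat_lit 3, nat_lit 1, nat_lit 3, nat_lit 2, nat_lit 1]))))
 (.node (nat_lit 76) (.node (nat_lit 75) (.leaf ((nat_lit 46), [nat_lit 0, nat_lit 3, nat_lit 1])) (.leaf ((nat_lit 43), []))) (.node (nat_lit 77) (.leaf ((nat_lit 2), [nat_lit 0, nat_lit 3, nat_lit 1, nat_lit 3, nat_lit 2, nat_lit 0])) (.leaf ((nat_lit 47), [nat_lit 1, nat_lit 3, nat_lit 1, nat_lit 3, nat_lit 2]))))))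
 (.node (nat_lit 86) (.node (nat_lit 82) (.node (nat_lit 80) (.node (nat_lit 79) (.leaf ((nat_lit 48), [nat_lit 3, nat_lit 1, nat_lit 3, nat_lit 0])) (.leaf ((nat_lit 49), [nat_lit 3, nat_lit 1, nat_lit 3, nat_lit 0]))) (.node (nat_lit 81) (.leaf ((nat_lit 50), [nat_lit 0, nat_lit 3, nat_lit 0, nat_lit 3])) (.leaf ((nat_lit 51), [nat_lit 0, nat_lit 3, nat_lit 1, nat_lit 3, nat_lit 2, nat_lit 0]))))
 (.node (nat_lit 84) (.node (nat_lit 83) (.leaf ((nat_lit 52), [nat_lit 0, nat_lit 3, nat_lit 1, nat_lit 3, nat_lit 2, nat_lit 0])) (.leaf ((nat_lit 2), []))) (.node (nat_lit 85) (.leaf ((nat_lit 53), [nat_lit 2, nat_lit 3, nat_lit 1, nat_lit 3])) (.leaf ((nat_lit 54), [nat_lit 0, nat_lit 3, nat_lit 2, nat_lit 0])))))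
 (.node (nat_lit 90) (.node (nat_lit 88) (.node (nat_lit 87) (.leaf ((nat_lit 55), [nat_lit 1, nat_lit 3, nat_lit 1, nat_lit 3, nat_lit 2, nat_lit 0])) (.leaf ((nat_lit 3), [nat_lit 0, nat_lit 3, nat_lit 1, nat_lit 3, nat_lit 2, nat_lit 0]))) (.node (nat_lit 89) (.leaf ((nat_lit 34), [nat_lit 0, nat_lit 3, nat_lit 1, nat_lit 3, nat_lit 2, nat_lit 0])) (.leaf ((nat_lit 56), [nat_lit 0, nat_lit 3, nat_lit 1, nat_lit 3, nat_lit 2, nat_lit 0]))))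
 (.node (nat_lit 92) (.node (nat_lit 91) (.leaf ((nat_lit 57), [nat_lit 0, nat_lit 3, nat_lit 0, nat_lit 3, nat_lit 2])) (.leaf ((nat_lit 58), [nat_lit 1, nat_lit 3, nat_lit 2, nat_lit 1]))) (.node (nat_lit 93) (.leaf ((nat_lit 59), [nat_lit 0, nat_lit 3, nat_lit 1, nat_lit 3, nat_lit 1])) (.leaf ((nat_lit 34), [nat_lit 0, nat_lit 3, nat_lit 1, nat_lit 3, nat_lit 2, nat_lit 0])))))))
 (.node (nat_lit 110) (.node (nat_lit 102) (.node (nat_lit 98) (.node (nat_lit 96) (.node (nat_lit 95) (.leaf ((nat_lit 3), [nat_lit 0, nat_lit 3, nat_lit 1, nat_lit 3, nat_lit 2, nat_lit 0])) (.leaf ((nat_lit 60), [nat_lit 3, nat_lit 1, nat_lit 3, nat_lit 2, nat_lit 1]))) (.node (nat_lit 97) (.leaf ((nat_lit 61), [nat_lit 1, nat_lit 3, nat_lit 1, nat_lit 3, nat_lit 0])) (.leaf ((nat_lit 62), [nat_lit 2]))))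
 (.node (nat_lit 100) (.node (nat_lit 99) (.leaf ((nat_lit 63), [nat_lit 2, nat_lit 3, nat_lit 1, nat_lit 3])) (.leaf ((nat_lit 64), [nat_lit 0, nat_lit 3, nat_lit 1, nat_lit 3, nat_lit 2, nat_lit 0]))) (.node (nat_lit 101) (.leaf ((nat_lit 65), [nat_lit 0, nat_lit 3, nat_lit 1, nat_lit 3, nat_lit 2, nat_lit 0])) (.leaf ((nat_lit 3), [nat_lit 0, nat_lit 3, nat_lit 1, nat_lit 3, nat_lit 2, nat_lit 0])))))
 (.node (nat_lit 106) (.node (nat_lit 104) (.node (nat_lit 103) (.leaf ((nat_lit 10), [nat_lit 2, nat_lit 3, nat_lit 1, nat_lit 3])) (.leaf ((nat_lit 6), [nat_lit 2, nat_lit 3, nat_lit 1, nat_lit 3]))) (.node (nat_lit 105) (.leaf ((nat_lit 4), [nat_lit 2, nat_lit 3, nat_lit 1, nat_lit 3, nat_lit 0])) (.leaf ((nat_lit 66), [nat_lit 0, nat_lit 3, nat_lit 1, nat_lit 3, nat_lit 2, nat_lit 0]))))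
 (.node (nat_lit 108) (.node (nat_lit 107) (.leaf ((nat_lit 59), [nat_lit 0, nat_lit 3, nat_lit 1, nat_lit 3, nat_lit 2, nat_lit 0])) (.leaf ((nat_lit 67), [nat_lit 0, nat_lit 3, nat_lit 1, nat_lit 3, nat_lit 2, nat_lit 0]))) (.node (nat_lit 109) (.leaf ((nat_lit 68), [nat_lit 0, nat_lit 3, nat_lit 0, nat_lit 3])) (.leaf ((nat_lit 69), [nat_lit 0, nat_lit 3, nat_lit 0, nat_lit 3, nat_lit 2, nat_lit 1]))))))
 (.node (nat_lit 118) (.node (nat_lit 114) (.node (nat_lit 112) (.node (nat_lit 111) (.leaf ((nat_lit 70), [nat_lit 1, nat_lit 3, nat_lit 0])) (.leaf ((nat_lit 5), [nat_lit 1]))) (.node (nat_lit 113) (.leaf ((nat_lit 71), [nat_lit 0, nat_lit 3, nat_lit 0, nat_lit 3, nat_lit 2, nat_lit 1])) (.leaf ((nat_lit 4), []))))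
 (.node (nat_lit 116) (.node (nat_lit 115) (.leaf ((nat_lit 5), [nat_lit 0, nat_lit 3, nat_lit 0, nat_lit 3, nat_lit 2, nat_lit 0])) (.leaf ((nat_lit 72), [nat_lit 2, nat_lit 3, nat_lit 1, nat_lit 3, nat_lit 0]))) (.node (nat_lit 117) (.leaf ((nat_lit 73), [nat_lit 0, nat_lit 3, nat_lit 1, nat_lit 3, nat_lit 2, nat_lit 1])) (.leaf ((nat_lit 74), [nat_lit 0, nat_lit 3, nat_lit 1, nat_lit 3, nat_lit 2, nat_lit 0])))))
 (.node (nat_lit 122) (.node (nat_lit 120) (.node (nat_lit 119) (.leaf ((nat_lit 75), [nat_lit 0, nat_lit 3, nat_lit 1, nat_lit 3, nat_lit 2, nat_lit 0])) (.leaf ((nat_lit 48), [nat_lit 1, nat_lit 3, nat_lit 1, nat_lit 3, nat_lit 2]))) (.node (nat_lit 121) (.leaf ((nat_lit 72), [nat_lit 0, nat_lit 3, nat_lit 0])) (.leaf ((nat_lit 5), [nat_lit 0, nat_lit 3, nat_lit 1, nat_lit 3, nat_lit 1]))))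
 (.node (nat_lit 124) (.node (nat_lit 123) (.leaf ((nat_lit 76), [nat_lit 1, nat_lit 3, nat_lit 1, nat_lit 3, nat_lit 2, nat_lit 0])) (.leaf ((nat_lit 77), [nat_lit 0, nat_lit 3, nat_lit 1, nat_lit 3, nat_lit 2, nat_lit 0]))) (.node (nat_lit 125) (.leaf ((nat_lit 78), [nat_lit 0, nat_lit 3, nat_lit 1, nat_lit 3, nat_lit 2, nat_lit 0])) (.leaf ((nat_lit 79), [nat_lit 0, nat_lit 3, nat_lit 1, nat_lit 3, nat_lit 2, nat_lit 0])))))))))
 (.node (nat_lit 189) (.node (nat_lit 157) (.node (nat_lit 141) (.node (nat_lit 133) (.node (nat_lit 129) (.node (nat_lit 127) (.leaf ((nat_lit 73), [nat_lit 0, nat_lit 3, nat_lit 1, nat_lit 3, nat_lit 2])) (.node (nat_lit 128) (.leaf ((nat_lit 76), [nat_lit 1])) (.leaf ((nat_lit 5), [nat_lit 0, nat_lit 3, nat_lit 0, nat_lit 3, nat_lit 2, nat_lit 1]))))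
 (.node (nat_lit 131) (.node (nat_lit 130) (.leaf ((nat_lit 80), [nat_lit 0, nat_lit 3, nat_lit 1, nat_lit 3, nat_lit 2, nat_lit 0])) (.leaf ((nat_lit 81), [nat_lit 0, nat_lit 3, nat_lit 1, nat_lit 3, nat_lit 2, nat_lit 0]))) (.node (nat_lit 132) (.leaf ((nat_lit 82), [nat_lit 3, nat_lit 1, nat_lit 3, nat_lit 2, nat_lit 1])) (.leaf ((nat_lit 83), [nat_lit 1, nat_lit 3, nat_lit 1])))))
 (.node (nat_lit 137) (.node (nat_lit 135) (.node (nat_lit 134) (.leaf ((nat_lit 84), [nat_lit 2, nat_lit 3, nat_lit 1, nat_lit 3, nat_lit 0])) (.leaf ((nat_lit 85), [nat_lit 3, nat_lit 1, nat_lit 3, nat_lit 0]))) (.node (nat_lit 136) (.leaf ((nat_lit 71), [nat_lit 2, nat_lit 3, nat_lit 1, nat_lit 3, nat_lit 0])) (.leaf ((nat_lit 5), [nat_lit 0, nat_lit 3, nat_lit 0, nat_lit 3, nat_lit 2, nat_lit 1]))))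
 (.node (nat_lit 139) (.node (nat_lit 138) (.leaf ((nat_lit 86), [nat_lit 3, nat_lit 2, nat_lit 1])) (.leaf ((nat_lit 87), [nat_lit 1, nat_lit 3, nat_lit 0]))) (.node (nat_lit 140) (.leaf ((nat_lit 88), [nat_lit 0, nat_lit 3, nat_lit 1, nat_lit 3])) (.leaf ((nat_lit 89), [nat_lit 1, nat_lit 3, nat_lit 0]))))))
 (.node (nat_lit 149) (.node (nat_lit 145) (.node (nat_lit 143) (.node (nat_lit 142) (.leaf ((nat_lit 6), [nat_lit 0, nat_lit 3, nat_lit 1, nat_lit 3, nat_lit 2, nat_lit 0])) (.leaf ((nat_lit 33), []))) (.node (nat_lit 144) (.leaf ((nat_lit 90), [nat_lit 0, nat_lit 3, nat_lit 1, nat_lit 3, nat_lit 2, nat_lit 0])) (.leaf ((nat_lit 91), [nat_lit 2, nat_lit 3, nat_lit 1, nat_lit 3, nat_lit 2, nat_lit 0]))))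
 (.node (nat_lit 147) (.node (nat_lit 146) (.leaf ((nat_lit 92), [nat_lit 2, nat_lit 3, nat_lit 1, nat_lit 3, nat_lit 0])) (.leaf ((nat_lit 93), [nat_lit 0, nat_lit 3, nat_lit 1, nat_lit 3, nat_lit 2, nat_lit 1]))) (.node (nat_lit 148) (.leaf ((nat_lit 33), [])) (.leaf ((nat_lit 6), [nat_lit 0, nat_lit 3, nat_lit 1, nat_lit 3, nat_lit 2, nat_lit 0])))))
 (.node (nat_lit 153) (.node (nat_lit 151) (.node (nat_lit 150) (.leaf ((nat_lit 94), [nat_lit 1, nat_lit 3, nat_lit 1, nat_lit 3, nat_lit 2])) (.leaf ((nat_lit 95), [nat_lit 3, nat_lit 0, nat_lit 3, nat_lit 0]))) (.node (nat_lit 152) (.leaf ((nat_lit 96), [nat_lit 3, nat_lit 2])) (.leaf ((nat_lit 97), [nat_lit 3, nat_lit 1, nat_lit 3, nat_lit 0]))))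
 (.node (nat_lit 155) (.node (nat_lit 154) (.leaf ((nat_lit 98), [nat_lit 0, nat_lit 3, nat_lit 1, nat_lit 3, nat_lit 2, nat_lit 0])) (.leaf ((nat_lit 99), [nat_lit 0, nat_lit 3, nat_lit 1, nat_lit 3, nat_lit 2, nat_lit 0]))) (.node (nat_lit 156) (.leaf ((nat_lit 6), [nat_lit 0, nat_lit 3, nat_lit 1, nat_lit 3, nat_lit 2, nat_lit 0])) (.leaf ((nat_lit 7), [nat_lit 1, nat_lit 3, nat_lit 1, nat_lit 3, nat_lit 2, nat_lit 0])))))))
 (.node (nat_lit 173) (.node (nat_lit 165) (.node (nat_lit 161) (.node (nat_lit 159) (.node (nat_lit 158) (.leaf ((nat_lit 41), [nat_lit 1, nat_lit 3, nat_lit 1, nat_lit 3, nat_lit 2, nat_lit 0])) (.leaf ((nat_lit 100), [nat_lit 2, nat_lit 3, nat_lit 1, nat_lit 3]))) (.node (nat_lit 160) (.leaf ((nat_lit 41), [])) (.leaf ((nat_lit 41), [nat_lit 0, nat_lit 3, nat_lit 1, nat_lit 3, nat_lit 2, nat_lit 0]))))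
 (.node (nat_lit 163) (.node (nat_lit 162) (.leaf ((nat_lit 101), [nat_lit 1, nat_lit 3, nat_lit 1, nat_lit 3, nat_lit 2])) (.leaf ((nat_lit 100), [nat_lit 0, nat_lit 3, nat_lit 1]))) (.node (nat_lit 164) (.leaf ((nat_lit 42), [nat_lit 3, nat_lit 0, nat_lit 3, nat_lit 2])) (.leaf ((nat_lit 7), [nat_lit 0, nat_lit 3, nat_lit 1, nat_lit 3, nat_lit 2, nat_lit 0])))))
 (.node (nat_lit 169) (.node (nat_lit 167) (.node (nat_lit 166) (.leaf ((nat_lit 102), [nat_lit 2, nat_lit 3, nat_lit 1, nat_lit 3, nat_lit 2, nat_lit 0])) (.leaf ((nat_lit 103), [nat_lit 0, nat_lit 3, nat_lit 2, nat_lit 0]))) (.node (nat_lit 168) (.leaf ((nat_lit 104), [])) (.leaf ((nat_lit 105), [nat_lit 0, nat_lit 3, nat_lit 0, nat_lit 3]))))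
 (.node (nat_lit 171) (.node (nat_lit 170) (.leaf ((nat_lit 106), [nat_lit 3, nat_lit 0, nat_lit 3, nat_lit 0])) (.leaf ((nat_lit 107), [nat_lit 0, nat_lit 3, nat_lit 0, nat_lit 3, nat_lit 1]))) (.node (nat_lit 172) (.leaf ((nat_lit 8), [])) (.leaf ((nat_lit 7), []))))))
 (.node (nat_lit 181) (.node (nat_lit 177) (.node (nat_lit 175) (.node (nat_lit 174) (.leaf ((nat_lit 108), [nat_lit 1, nat_lit 3, nat_lit 1, nat_lit 3, nat_lit 2])) (.leaf ((nat_lit 109), [nat_lit 3, nat_lit 1, nat_lit 3, nat_lit 2, nat_lit 1]))) (.node (nat_lit 176) (.leaf ((nat_lit 110), [nat_lit 3, nat_lit 1, nat_lit 3, nat_lit 1])) (.leaf ((nat_lit 111), [nat_lit 2, nat_lit 3, nat_lit 1, nat_lit 3]))))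
 (.node (nat_lit 179) (.node (nat_lit 178) (.leaf ((nat_lit 44), [nat_lit 0, nat_lit 3, nat_lit 1, nat_lit 3, nat_lit 2, nat_lit 0])) (.leaf ((nat_lit 112), [nat_lit 0, nat_lit 3, nat_lit 1, nat_lit 3, nat_lit 2, nat_lit 0]))) (.node (nat_lit 180) (.leaf ((nat_lit 7), [])) (.leaf ((nat_lit 8), [nat_lit 0, nat_lit 3, nat_lit 1, nat_lit 3, nat_lit 2, nat_lit 1])))))
 (.node (nat_lit 185) (.node (nat_lit 183) (.node (nat_lit 182) (.leaf ((nat_lit 45), [nat_lit 0, nat_lit 3, nat_lit 1, nat_lit 3, nat_lit 2, nat_lit 1])) (.leaf ((nat_lit 113), [nat_lit 2]))) (.node (nat_lit 184) (.leaf ((nat_lit 45), [nat_lit 0, nat_lit 3, nat_lit 1, nat_lit 3, nat_lit 2, nat_lit 0])) (.leaf ((nat_lit 45), []))))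
 (.node (nat_lit 187) (.node (nat_lit 186) (.leaf ((nat_lit 36), [])) (.leaf ((nat_lit 113), [nat_lit 2, nat_lit 1]))) (.node (nat_lit 188) (.leaf ((nat_lit 46), [nat_lit 0, nat_lit 3, nat_lit 0])) (.leaf ((nat_lit 8), [nat_lit 0, nat_lit 3, nat_lit 1, nat_lit 3, nat_lit 2, nat_lit 0]))))))))
 (.node (nat_lit 220) (.node (nat_lit 204) (.node (nat_lit 196) (.node (nat_lit 192) (.node (nat_lit 190) (.leaf ((nat_lit 114), [nat_lit 3, nat_lit 2, nat_lit 0])) (.node (nat_lit 191) (.leaf ((nat_lit 93), [nat_lit 3, nat_lit 2, nat_lit 0])) (.leaf ((nat_lit 115), [nat_lit 2, nat_lit 3, nat_lit 1, nat_lit 3, nat_lit 0]))))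
 (.node (nat_lit 194) (.node (nat_lit 193) (.leaf ((nat_lit 116), [])) (.leaf ((nat_lit 117), [nat_lit 3, nat_lit 1, nat_lit 3, nat_lit 2]))) (.node (nat_lit 195) (.leaf ((nat_lit 118), [nat_lit 2, nat_lit 3, nat_lit 1, nat_lit 3])) (.leaf ((nat_lit 47), [nat_lit 0, nat_lit 3, nat_lit 1, nat_lit 3, nat_lit 2, nat_lit 0])))))
 (.node (nat_lit 200) (.node (nat_lit 198) (.node (nat_lit 197) (.leaf ((nat_lit 119), [nat_lit 0, nat_lit 3, nat_lit 1, nat_lit 3, nat_lit 2, nat_lit 0])) (.leaf ((nat_lit 8), [nat_lit 3, nat_lit 1, nat_lit 3, nat_lit 2, nat_lit 1]))) (.node (nat_lit 199) (.leaf ((nat_lit 9), [nat_lit 1, nat_lit 3, nat_lit 2, nat_lit 0])) (.leaf ((nat_lit 120), [nat_lit 2, nat_lit 3, nat_lit 1, nat_lit 3, nat_lit 2, nat_lit 1]))))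
 (.node (nat_lit 202) (.node (nat_lit 201) (.leaf ((nat_lit 121), [nat_lit 1, nat_lit 3, nat_lit 2])) (.leaf ((nat_lit 24), []))) (.node (nat_lit 203) (.leaf ((nat_lit 23), [])) (.leaf ((nat_lit 68), [nat_lit 3, nat_lit 1, nat_lit 3, nat_lit 2, nat_lit 1]))))))
 (.node (nat_lit 212) (.node (nat_lit 208) (.node (nat_lit 206) (.node (nat_lit 205) (.leaf ((nat_lit 120), [nat_lit 2, nat_lit 3, nat_lit 1, nat_lit 3, nat_lit 2, nat_lit 1])) (.leaf ((nat_lit 9), [nat_lit 1, nat_lit 3, nat_lit 2, nat_lit 0]))) (.node (nat_lit 207) (.leaf ((nat_lit 122), [nat_lit 0, nat_lit 3, nat_lit 1, nat_lit 3, nat_lit 2, nat_lit 0])) (.leaf ((nat_lit 15), [nat_lit 0, nat_lit 3, nat_lit 1, nat_lit 3, nat_lit 2, nat_lit 0]))))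
 (.node (nat_lit 210) (.node (nat_lit 209) (.leaf ((nat_lit 14), [nat_lit 0, nat_lit 3, nat_lit 1, nat_lit 3, nat_lit 2, nat_lit 0])) (.leaf ((nat_lit 123), [nat_lit 3, nat_lit 1, nat_lit 3, nat_lit 2, nat_lit 1]))) (.node (nat_lit 211) (.leaf ((nat_lit 121), [nat_lit 1, nat_lit 3, nat_lit 1, nat_lit 3, nat_lit 0])) (.leaf ((nat_lit 122), [nat_lit 3, nat_lit 0, nat_lit 3, nat_lit 2, nat_lit 0])))))
 (.node (nat_lit 216) (.node (nat_lit 214) (.node (nat_lit 213) (.leaf ((nat_lit 9), [nat_lit 2, nat_lit 3, nat_lit 1, nat_lit 3, nat_lit 2])) (.leaf ((nat_lit 124), [nat_lit 3, nat_lit 2, nat_lit 0]))) (.node (nat_lit 215) (.leaf ((nat_lit 53), [nat_lit 3, nat_lit 1, nat_lit 3, nat_lit 2])) (.leaf ((nat_lit 125), [nat_lit 3]))))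
 (.node (nat_lit 218) (.node (nat_lit 217) (.leaf ((nat_lit 124), [nat_lit 0, nat_lit 3, nat_lit 1, nat_lit 3, nat_lit 2])) (.leaf ((nat_lit 126), [nat_lit 3, nat_lit 0, nat_lit 3, nat_lit 2, nat_lit 0]))) (.node (nat_lit 219) (.leaf ((nat_lit 103), [nat_lit 3, nat_lit 2, nat_lit 0])) (.leaf ((nat_lit 9), [nat_lit 0, nat_lit 3, nat_lit 1, nat_lit 3, nat_lit 2, nat_lit 0])))))))
 (.node (nat_lit 236) (.node (nat_lit 228) (.node (nat_lit 224) (.node (nat_lit 222) (.node (nat_lit 221) (.leaf ((nat_lit 107), [nat_lit 0, nat_lit 3, nat_lit 1, nat_lit 3, nat_lit 2, nat_lit 0])) (.leaf ((nat_lit 30), []))) (.node (nat_lit 223) (.leaf ((nat_lit 127), [nat_lit 0, nat_lit 3, nat_lit 1, nat_lit 3, nat_lit 0])) (.leaf ((nat_lit 128), [nat_lit 0, nat_lit 3, nat_lit 1, nat_lit 3]))))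
 (.node (nat_lit 226) (.node (nat_lit 225) (.leaf ((nat_lit 129), [nat_lit 0, nat_lit 3, nat_lit 1, nat_lit 3, nat_lit 2, nat_lit 0])) (.leaf ((nat_lit 107), [nat_lit 0, nat_lit 3, nat_lit 1, nat_lit 3, nat_lit 2, nat_lit 0]))) (.node (nat_lit 227) (.leaf ((nat_lit 9), [nat_lit 0, nat_lit 3, nat_lit 1, nat_lit 3, nat_lit 2, nat_lit 0])) (.leaf ((nat_lit 130), [nat_lit 1, nat_lit 3, nat_lit 1, nat_lit 3, nat_lit 2])))))
 (.node (nat_lit 232) (.node (nat_lit 230) (.node (nat_lit 229) (.leaf ((nat_lit 131), [nat_lit 2, nat_lit 3, nat_lit 1, nat_lit 3, nat_lit 2])) (.leaf ((nat_lit 89), [nat_lit 0, nat_lit 3, nat_lit 0, nat_lit 3, nat_lit 2, nat_lit 1]))) (.node (nat_lit 231) (.leaf ((nat_lit 88), [nat_lit 1, nat_lit 3, nat_lit 1, nat_lit 3, nat_lit 2, nat_lit 1])) (.leaf ((nat_lit 10), [nat_lit 0, nat_lit 3, nat_lit 1, nat_lit 3, nat_lit 2, nat_lit 0]))))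
 (.node (nat_lit 234) (.node (nat_lit 233) (.leaf ((nat_lit 48), [])) (.leaf ((nat_lit 132), [nat_lit 0, nat_lit 3, nat_lit 1, nat_lit 3, nat_lit 2, nat_lit 0]))) (.node (nat_lit 235) (.leaf ((nat_lit 93), [nat_lit 3, nat_lit 1, nat_lit 3, nat_lit 2, nat_lit 0])) (.leaf ((nat_lit 133), [nat_lit 0]))))))
 (.node (nat_lit 244) (.node (nat_lit 240) (.node (nat_lit 238) (.node (nat_lit 237) (.leaf ((nat_lit 91), [nat_lit 2])) (.leaf ((nat_lit 48), []))) (.node (nat_lit 239) (.leaf ((nat_lit 10), [nat_lit 0, nat_lit 3, nat_lit 1, nat_lit 3, nat_lit 2, nat_lit 0])) (.leaf ((nat_lit 134), [nat_lit 3, nat_lit 1, nat_lit 3, nat_lit 2, nat_lit 1]))))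
 (.node (nat_lit 242) (.node (nat_lit 241) (.leaf ((nat_lit 135), [nat_lit 0, nat_lit 3])) (.leaf ((nat_lit 136), [nat_lit 2, nat_lit 0]))) (.node (nat_lit 243) (.leaf ((nat_lit 137), [nat_lit 0, nat_lit 3, nat_lit 2])) (.leaf ((nat_lit 138), [nat_lit 0, nat_lit 3, nat_lit 1, nat_lit 3, nat_lit 2, nat_lit 0])))))
 (.node (nat_lit 248) (.node (nat_lit 246) (.node (nat_lit 245) (.leaf ((nat_lit 139), [nat_lit 0, nat_lit 3, nat_lit 1, nat_lit 3, nat_lit 2, nat_lit 0])) (.leaf ((nat_lit 10), [nat_lit 0, nat_lit 3, nat_lit 1, nat_lit 3, nat_lit 2, nat_lit 0]))) (.node (nat_lit 247) (.leaf ((nat_lit 11), [nat_lit 0, nat_lit 3, nat_lit 1, nat_lit 3, nat_lit 2])) (.leaf ((nat_lit 26), [nat_lit 0, nat_lit 3, nat_lit 1, nat_lit 3, nat_lit 2]))))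
 (.node (nat_lit 250) (.node (nat_lit 249) (.leaf ((nat_lit 140), [nat_lit 1, nat_lit 3, nat_lit 1])) (.leaf ((nat_lit 26), []))) (.node (nat_lit 251) (.leaf ((nat_lit 26), [nat_lit 0, nat_lit 3, nat_lit 1, nat_lit 3, nat_lit 2, nat_lit 0])) (.leaf ((nat_lit 141), [nat_lit 3, nat_lit 1, nat_lit 3, nat_lit 2, nat_lit 1]))))))))))
noncomputable def n3Wd_1 : Tr (ℕ × List ℕ) := (.node (nat_lit 378) (.node (nat_lit 315) (.node (nat_lit 283) (.node (nat_lit 267) (.node (nat_lit 259) (.node (nat_lit 255) (.node (nat_lit 253) (.leaf ((nat_lit 140), [nat_lit 2, nat_lit 3, nat_lit 1, nat_lit 3, nat_lit 2])) (.node (nat_lit 254) (.leaf ((nat_lit 27), [nat_lit 2, nat_lit 3, nat_lit 1, nat_lit 3])) (.leaf ((nat_lit 11), [nat_lit 0, nat_lit 3, nat_lit 2, nat_lit 0]))))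
 (.node (nat_lit 257) (.node (nat_lit 256) (.leaf ((nat_lit 53), [nat_lit 3, nat_lit 2, nat_lit 0])) (.leaf ((nat_lit 124), [nat_lit 3, nat_lit 1, nat_lit 3, nat_lit 2]))) (.node (nat_lit 258) (.leaf ((nat_lit 142), [nat_lit 0, nat_lit 3, nat_lit 0])) (.leaf ((nat_lit 106), [nat_lit 2, nat_lit 3, nat_lit 1, nat_lit 3, nat_lit 2, nat_lit 1])))))
 (.node (nat_lit 263) (.node (nat_lit 261) (.node (nat_lit 260) (.leaf ((nat_lit 105), [nat_lit 2, nat_lit 3, nat_lit 1, nat_lit 3, nat_lit 2])) (.leaf ((nat_lit 143), [nat_lit 0, nat_lit 3, nat_lit 1, nat_lit 3, nat_lit 1]))) (.node (nat_lit 262) (.leaf ((nat_lit 12), [])) (.leaf ((nat_lit 11), []))))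
 (.node (nat_lit 265) (.node (nat_lit 264) (.leaf ((nat_lit 144), [nat_lit 3, nat_lit 1, nat_lit 3, nat_lit 2, nat_lit 1])) (.leaf ((nat_lit 145), [nat_lit 3, nat_lit 1, nat_lit 3, nat_lit 2]))) (.node (nat_lit 266) (.leaf ((nat_lit 114), [nat_lit 1, nat_lit 3, nat_lit 1, nat_lit 3, nat_lit 2, nat_lit 1])) (.leaf ((nat_lit 146), [nat_lit 2, nat_lit 3, nat_lit 1, nat_lit 3]))))))
 (.node (nat_lit 275) (.node (nat_lit 271) (.node (nat_lit 269) (.node (nat_lit 268) (.leaf ((nat_lit 29), [nat_lit 0, nat_lit 3, nat_lit 1, nat_lit 3, nat_lit 2, nat_lit 0])) (.leaf ((nat_lit 147), [nat_lit 0, nat_lit 3, nat_lit 1, nat_lit 3, nat_lit 2, nat_lit 0]))) (.node (nat_lit 270) (.leaf ((nat_lit 11), [])) (.leaf ((nat_lit 12), [nat_lit 3, nat_lit 1, nat_lit 3, nat_lit 2, nat_lit 0]))))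
 (.node (nat_lit 273) (.node (nat_lit 272) (.leaf ((nat_lit 30), [nat_lit 3, nat_lit 1, nat_lit 3, nat_lit 2, nat_lit 0])) (.leaf ((nat_lit 148), [nat_lit 0, nat_lit 3, nat_lit 1, nat_lit 3, nat_lit 2, nat_lit 1]))) (.node (nat_lit 274) (.leaf ((nat_lit 30), [nat_lit 0, nat_lit 3, nat_lit 1, nat_lit 3, nat_lit 2, nat_lit 0])) (.leaf ((nat_lit 30), [])))))
 (.node (nat_lit 279) (.node (nat_lit 277) (.node (nat_lit 276) (.leaf ((nat_lit 51), [])) (.leaf ((nat_lit 148), [nat_lit 3, nat_lit 2, nat_lit 1]))) (.node (nat_lit 278) (.leaf ((nat_lit 31), [nat_lit 1, nat_lit 3, nat_lit 1])) (.leaf ((nat_lit 12), [nat_lit 0, nat_lit 3, nat_lit 1]))))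
 (.node (nat_lit 281) (.node (nat_lit 280) (.leaf ((nat_lit 110), [nat_lit 0, nat_lit 3, nat_lit 2, nat_lit 0])) (.leaf ((nat_lit 91), [nat_lit 2, nat_lit 3, nat_lit 1, nat_lit 3, nat_lit 2, nat_lit 0]))) (.node (nat_lit 282) (.leaf ((nat_lit 149), [nat_lit 3])) (.leaf ((nat_lit 150), [nat_lit 3, nat_lit 2, nat_lit 0])))))))
 (.node (nat_lit 299) (.node (nat_lit 291) (.node (nat_lit 287) (.node (nat_lit 285) (.node (nat_lit 284) (.leaf ((nat_lit 151), [nat_lit 3, nat_lit 1, nat_lit 3])) (.leaf ((nat_lit 80), [nat_lit 2, nat_lit 3, nat_lit 1, nat_lit 3]))) (.node (nat_lit 286) (.leaf ((nat_lit 32), [nat_lit 0, nat_lit 3, nat_lit 1, nat_lit 3, nat_lit 2, nat_lit 0])) (.leaf ((nat_lit 152), [nat_lit 0, nat_lit 3, nat_lit 1, nat_lit 3, nat_lit 2, nat_lit 0]))))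
 (.node (nat_lit 289) (.node (nat_lit 288) (.leaf ((nat_lit 12), [nat_lit 1, nat_lit 3, nat_lit 1, nat_lit 3, nat_lit 2])) (.leaf ((nat_lit 13), [nat_lit 2, nat_lit 3, nat_lit 1, nat_lit 3, nat_lit 2, nat_lit 1]))) (.node (nat_lit 290) (.leaf ((nat_lit 153), [nat_lit 1, nat_lit 3, nat_lit 2, nat_lit 0])) (.leaf ((nat_lit 154), [nat_lit 1, nat_lit 3, nat_lit 2, nat_lit 1])))))
 (.node (nat_lit 295) (.node (nat_lit 293) (.node (nat_lit 292) (.leaf ((nat_lit 39), [])) (.leaf ((nat_lit 38), []))) (.node (nat_lit 294) (.leaf ((nat_lit 19), [nat_lit 1, nat_lit 3, nat_lit 1, nat_lit 3, nat_lit 2])) (.leaf ((nat_lit 153), [nat_lit 1, nat_lit 3, nat_lit 2, nat_lit 0]))))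
 (.node (nat_lit 297) (.node (nat_lit 296) (.leaf ((nat_lit 13), [nat_lit 2, nat_lit 3, nat_lit 1, nat_lit 3, nat_lit 2, nat_lit 1])) (.leaf ((nat_lit 155), [nat_lit 3, nat_lit 1, nat_lit 3]))) (.node (nat_lit 298) (.leaf ((nat_lit 59), [nat_lit 0, nat_lit 3, nat_lit 1, nat_lit 3, nat_lit 2, nat_lit 0])) (.leaf ((nat_lit 66), [nat_lit 0, nat_lit 3, nat_lit 1, nat_lit 3, nat_lit 2, nat_lit 0]))))))
 (.node (nat_lit 307) (.node (nat_lit 303) (.node (nat_lit 301) (.node (nat_lit 300) (.leaf ((nat_lit 156), [nat_lit 1, nat_lit 3, nat_lit 1, nat_lit 3, nat_lit 2])) (.leaf ((nat_lit 154), [nat_lit 2, nat_lit 3, nat_lit 1, nat_lit 3, nat_lit 2]))) (.node (nat_lit 302) (.leaf ((nat_lit 155), [nat_lit 0, nat_lit 3, nat_lit 0, nat_lit 3, nat_lit 2, nat_lit 1])) (.leaf ((nat_lit 13), [nat_lit 3, nat_lit 1, nat_lit 3, nat_lit 1]))))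
 (.node (nat_lit 305) (.node (nat_lit 304) (.leaf ((nat_lit 103), [nat_lit 2, nat_lit 3, nat_lit 1, nat_lit 3, nat_lit 2, nat_lit 0])) (.leaf ((nat_lit 102), [nat_lit 0, nat_lit 3, nat_lit 2, nat_lit 0]))) (.node (nat_lit 306) (.leaf ((nat_lit 157), [nat_lit 3, nat_lit 2])) (.leaf ((nat_lit 103), [nat_lit 3, nat_lit 0, nat_lit 3])))))
 (.node (nat_lit 311) (.node (nat_lit 309) (.node (nat_lit 308) (.leaf ((nat_lit 158), [nat_lit 1, nat_lit 3, nat_lit 1, nat_lit 3, nat_lit 2])) (.leaf ((nat_lit 124), [nat_lit 2, nat_lit 3, nat_lit 1, nat_lit 3, nat_lit 2]))) (.node (nat_lit 310) (.leaf ((nat_lit 13), [nat_lit 0, nat_lit 3, nat_lit 1, nat_lit 3, nat_lit 2, nat_lit 0])) (.leaf ((nat_lit 143), [nat_lit 0, nat_lit 3, nat_lit 1, nat_lit 3, nat_lit 2, nat_lit 0]))))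
 (.node (nat_lit 313) (.node (nat_lit 312) (.leaf ((nat_lit 45), [])) (.leaf ((nat_lit 159), [nat_lit 0, nat_lit 3, nat_lit 1, nat_lit 3]))) (.node (nat_lit 314) (.leaf ((nat_lit 129), [nat_lit 1])) (.leaf ((nat_lit 128), [nat_lit 3, nat_lit 1]))))))))
 (.node (nat_lit 346) (.node (nat_lit 330) (.node (nat_lit 322) (.node (nat_lit 318) (.node (nat_lit 316) (.leaf ((nat_lit 143), [nat_lit 0, nat_lit 3, nat_lit 1, nat_lit 3, nat_lit 2, nat_lit 0])) (.node (nat_lit 317) (.leaf ((nat_lit 13), [nat_lit 0, nat_lit 3, nat_lit 1, nat_lit 3, nat_lit 2, nat_lit 0])) (.leaf ((nat_lit 160), [nat_lit 3, nat_lit 1, nat_lit 3, nat_lit 2, nat_lit 1]))))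
 (.node (nat_lit 320) (.node (nat_lit 319) (.leaf ((nat_lit 14), [nat_lit 3, nat_lit 0, nat_lit 3, nat_lit 2])) (.leaf ((nat_lit 161), [nat_lit 3, nat_lit 0, nat_lit 3, nat_lit 2]))) (.node (nat_lit 321) (.leaf ((nat_lit 162), [nat_lit 0, nat_lit 3, nat_lit 1])) (.leaf ((nat_lit 42), [nat_lit 0, nat_lit 3, nat_lit 2, nat_lit 1])))))
 (.node (nat_lit 326) (.node (nat_lit 324) (.node (nat_lit 323) (.leaf ((nat_lit 35), [nat_lit 1, nat_lit 3, nat_lit 1, nat_lit 3, nat_lit 2, nat_lit 1])) (.leaf ((nat_lit 163), []))) (.node (nat_lit 325) (.leaf ((nat_lit 161), [nat_lit 0, nat_lit 3, nat_lit 2, nat_lit 0])) (.leaf ((nat_lit 14), [nat_lit 0, nat_lit 3, nat_lit 2, nat_lit 0]))))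
 (.node (nat_lit 328) (.node (nat_lit 327) (.leaf ((nat_lit 102), [nat_lit 2, nat_lit 3, nat_lit 1, nat_lit 3, nat_lit 2])) (.leaf ((nat_lit 89), [nat_lit 3, nat_lit 2, nat_lit 0]))) (.node (nat_lit 329) (.leaf ((nat_lit 128), [nat_lit 3, nat_lit 2, nat_lit 0])) (.leaf ((nat_lit 54), [nat_lit 2]))))))
 (.node (nat_lit 338) (.node (nat_lit 334) (.node (nat_lit 332) (.node (nat_lit 331) (.leaf ((nat_lit 162), [nat_lit 0, nat_lit 3, nat_lit 1, nat_lit 3, nat_lit 2, nat_lit 0])) (.leaf ((nat_lit 102), [nat_lit 1, nat_lit 3, nat_lit 1]))) (.node (nat_lit 333) (.leaf ((nat_lit 14), [nat_lit 0, nat_lit 3, nat_lit 1, nat_lit 3, nat_lit 2])) (.leaf ((nat_lit 161), []))))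
 (.node (nat_lit 336) (.node (nat_lit 335) (.leaf ((nat_lit 164), [])) (.leaf ((nat_lit 74), [nat_lit 1, nat_lit 3, nat_lit 1, nat_lit 3, nat_lit 2]))) (.node (nat_lit 337) (.leaf ((nat_lit 165), [nat_lit 3, nat_lit 2, nat_lit 0])) (.leaf ((nat_lit 166), [nat_lit 0, nat_lit 3, nat_lit 0, nat_lit 3, nat_lit 1])))))
 (.node (nat_lit 342) (.node (nat_lit 340) (.node (nat_lit 339) (.leaf ((nat_lit 167), [nat_lit 3, nat_lit 0, nat_lit 3, nat_lit 2])) (.leaf ((nat_lit 90), [nat_lit 0, nat_lit 3, nat_lit 1, nat_lit 3, nat_lit 2, nat_lit 0]))) (.node (nat_lit 341) (.leaf ((nat_lit 168), [nat_lit 0, nat_lit 3, nat_lit 1, nat_lit 3, nat_lit 2, nat_lit 0])) (.leaf ((nat_lit 14), [nat_lit 0, nat_lit 3, nat_lit 1, nat_lit 3, nat_lit 2, nat_lit 0]))))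
 (.node (nat_lit 344) (.node (nat_lit 343) (.leaf ((nat_lit 15), [nat_lit 2, nat_lit 3, nat_lit 1, nat_lit 3, nat_lit 1])) (.leaf ((nat_lit 169), [nat_lit 2, nat_lit 3, nat_lit 1, nat_lit 3, nat_lit 1]))) (.node (nat_lit 345) (.leaf ((nat_lit 170), [nat_lit 3, nat_lit 1, nat_lit 3, nat_lit 2])) (.leaf ((nat_lit 171), [nat_lit 3, nat_lit 1, nat_lit 3, nat_lit 2])))))))
 (.node (nat_lit 362) (.node (nat_lit 354) (.node (nat_lit 350) (.node (nat_lit 348) (.node (nat_lit 347) (.leaf ((nat_lit 148), [nat_lit 3, nat_lit 2, nat_lit 0])) (.leaf ((nat_lit 154), [nat_lit 3, nat_lit 2]))) (.node (nat_lit 349) (.leaf ((nat_lit 169), [nat_lit 3, nat_lit 2])) (.leaf ((nat_lit 15), [nat_lit 3, nat_lit 2]))))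
 (.node (nat_lit 352) (.node (nat_lit 351) (.leaf ((nat_lit 172), [nat_lit 0, nat_lit 3, nat_lit 2, nat_lit 0])) (.leaf ((nat_lit 126), [nat_lit 0, nat_lit 3, nat_lit 2, nat_lit 1]))) (.node (nat_lit 353) (.leaf ((nat_lit 133), [nat_lit 1, nat_lit 3, nat_lit 1, nat_lit 3, nat_lit 2, nat_lit 1])) (.leaf ((nat_lit 173), [nat_lit 0, nat_lit 3, nat_lit 2, nat_lit 0])))))
 (.node (nat_lit 358) (.node (nat_lit 356) (.node (nat_lit 355) (.leaf ((nat_lit 170), [nat_lit 3, nat_lit 0, nat_lit 3, nat_lit 2])) (.leaf ((nat_lit 172), [nat_lit 1, nat_lit 3, nat_lit 1, nat_lit 3, nat_lit 2, nat_lit 1]))) (.node (nat_lit 357) (.leaf ((nat_lit 15), [nat_lit 0, nat_lit 3, nat_lit 0, nat_lit 3, nat_lit 1])) (.leaf ((nat_lit 49), [nat_lit 0, nat_lit 3, nat_lit 1, nat_lit 3, nat_lit 2, nat_lit 0]))))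
 (.node (nat_lit 360) (.node (nat_lit 359) (.leaf ((nat_lit 17), [nat_lit 0, nat_lit 3, nat_lit 1, nat_lit 3, nat_lit 2, nat_lit 0])) (.leaf ((nat_lit 174), [nat_lit 1, nat_lit 3, nat_lit 1, nat_lit 3, nat_lit 2]))) (.node (nat_lit 361) (.leaf ((nat_lit 63), [nat_lit 1, nat_lit 3, nat_lit 2])) (.leaf ((nat_lit 175), [nat_lit 0, nat_lit 3, nat_lit 1, nat_lit 3, nat_lit 0]))))))
 (.node (nat_lit 370) (.node (nat_lit 366) (.node (nat_lit 364) (.node (nat_lit 363) (.leaf ((nat_lit 61), [nat_lit 0, nat_lit 3, nat_lit 0, nat_lit 3, nat_lit 2, nat_lit 1])) (.leaf ((nat_lit 174), [nat_lit 0, nat_lit 3, nat_lit 1, nat_lit 3, nat_lit 2, nat_lit 0]))) (.node (nat_lit 365) (.leaf ((nat_lit 176), [nat_lit 0, nat_lit 3, nat_lit 1, nat_lit 3, nat_lit 2, nat_lit 0])) (.leaf ((nat_lit 15), [nat_lit 3, nat_lit 1, nat_lit 3, nat_lit 2, nat_lit 1]))))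
 (.node (nat_lit 368) (.node (nat_lit 367) (.leaf ((nat_lit 16), [nat_lit 2, nat_lit 3, nat_lit 1, nat_lit 3, nat_lit 2])) (.leaf ((nat_lit 177), [nat_lit 1, nat_lit 3, nat_lit 2, nat_lit 1]))) (.node (nat_lit 369) (.leaf ((nat_lit 60), [nat_lit 3, nat_lit 0, nat_lit 3, nat_lit 2, nat_lit 0])) (.leaf ((nat_lit 178), [nat_lit 3, nat_lit 2, nat_lit 0])))))
 (.node (nat_lit 374) (.node (nat_lit 372) (.node (nat_lit 371) (.leaf ((nat_lit 179), [nat_lit 3, nat_lit 1, nat_lit 3, nat_lit 2])) (.leaf ((nat_lit 61), [nat_lit 3]))) (.node (nat_lit 373) (.leaf ((nat_lit 177), [nat_lit 0, nat_lit 3, nat_lit 1, nat_lit 3, nat_lit 1])) (.leaf ((nat_lit 16), [nat_lit 2]))))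
 (.node (nat_lit 376) (.node (nat_lit 375) (.leaf ((nat_lit 180), [nat_lit 0, nat_lit 3, nat_lit 2])) (.leaf ((nat_lit 181), [nat_lit 1, nat_lit 3, nat_lit 1, nat_lit 3, nat_lit 2, nat_lit 1]))) (.node (nat_lit 377) (.leaf ((nat_lit 181), [nat_lit 0, nat_lit 3, nat_lit 2, nat_lit 1])) (.leaf ((nat_lit 179), [nat_lit 0, nat_lit 3, nat_lit 1, nat_lit 3, nat_lit 0])))))))))
 (.node (nat_lit 441) (.node (nat_lit 409) (.node (nat_lit 393) (.node (nat_lit 385) (.node (nat_lit 381) (.node (nat_lit 379) (.leaf ((nat_lit 60), [nat_lit 1, nat_lit 3, nat_lit 2])) (.node (nat_lit 380) (.leaf ((nat_lit 180), [nat_lit 1, nat_lit 3, nat_lit 2])) (.leaf ((nat_lit 16), [nat_lit 3, nat_lit 0, nat_lit 3, nat_lit 2]))))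
 (.node (nat_lit 383) (.node (nat_lit 382) (.leaf ((nat_lit 150), [nat_lit 0, nat_lit 3, nat_lit 1, nat_lit 3, nat_lit 0])) (.leaf ((nat_lit 182), [nat_lit 0, nat_lit 3, nat_lit 2, nat_lit 0]))) (.node (nat_lit 384) (.leaf ((nat_lit 122), [nat_lit 1, nat_lit 3, nat_lit 1, nat_lit 3])) (.leaf ((nat_lit 70), [nat_lit 0, nat_lit 3, nat_lit 1, nat_lit 3, nat_lit 2])))))
 (.node (nat_lit 389) (.node (nat_lit 387) (.node (nat_lit 386) (.leaf ((nat_lit 132), [nat_lit 1])) (.leaf ((nat_lit 68), [nat_lit 0, nat_lit 3, nat_lit 1, nat_lit 3, nat_lit 2, nat_lit 1]))) (.node (nat_lit 388) (.leaf ((nat_lit 16), [nat_lit 0, nat_lit 3, nat_lit 1, nat_lit 3, nat_lit 2, nat_lit 0])) (.leaf ((nat_lit 183), [nat_lit 0, nat_lit 3, nat_lit 1, nat_lit 3, nat_lit 2, nat_lit 0]))))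
 (.node (nat_lit 391) (.node (nat_lit 390) (.leaf ((nat_lit 184), [nat_lit 0, nat_lit 3, nat_lit 1, nat_lit 3, nat_lit 2, nat_lit 0])) (.leaf ((nat_lit 185), [nat_lit 3, nat_lit 1, nat_lit 3, nat_lit 2, nat_lit 0]))) (.node (nat_lit 392) (.leaf ((nat_lit 186), [nat_lit 1, nat_lit 3, nat_lit 1, nat_lit 3, nat_lit 2, nat_lit 1])) (.leaf ((nat_lit 187), [nat_lit 0, nat_lit 3, nat_lit 0, nat_lit 3, nat_lit 1]))))))
 (.node (nat_lit 401) (.node (nat_lit 397) (.node (nat_lit 395) (.node (nat_lit 394) (.leaf ((nat_lit 183), [nat_lit 0, nat_lit 3, nat_lit 1, nat_lit 3, nat_lit 2, nat_lit 0])) (.leaf ((nat_lit 16), [nat_lit 0, nat_lit 3, nat_lit 1, nat_lit 3, nat_lit 2, nat_lit 0]))) (.node (nat_lit 396) (.leaf ((nat_lit 188), [nat_lit 3, nat_lit 1, nat_lit 3, nat_lit 2, nat_lit 1])) (.leaf ((nat_lit 102), [nat_lit 1, nat_lit 3, nat_lit 1]))))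
 (.node (nat_lit 399) (.node (nat_lit 398) (.leaf ((nat_lit 162), [nat_lit 0, nat_lit 3, nat_lit 1, nat_lit 3, nat_lit 2, nat_lit 0])) (.leaf ((nat_lit 161), [nat_lit 0, nat_lit 3, nat_lit 1, nat_lit 3, nat_lit 2]))) (.node (nat_lit 400) (.leaf ((nat_lit 17), [nat_lit 0, nat_lit 3, nat_lit 1, nat_lit 3, nat_lit 2, nat_lit 0])) (.leaf ((nat_lit 49), [nat_lit 0, nat_lit 3, nat_lit 1, nat_lit 3, nat_lit 2, nat_lit 0])))))
 (.node (nat_lit 405) (.node (nat_lit 403) (.node (nat_lit 402) (.leaf ((nat_lit 189), [nat_lit 0, nat_lit 3, nat_lit 1, nat_lit 3, nat_lit 2, nat_lit 0])) (.leaf ((nat_lit 190), [nat_lit 0, nat_lit 3, nat_lit 0, nat_lit 3]))) (.node (nat_lit 404) (.leaf ((nat_lit 191), [nat_lit 3, nat_lit 2, nat_lit 1])) (.leaf ((nat_lit 192), [nat_lit 0, nat_lit 3, nat_lit 0, nat_lit 3, nat_lit 1]))))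
 (.node (nat_lit 407) (.node (nat_lit 406) (.leaf ((nat_lit 73), [nat_lit 0, nat_lit 3, nat_lit 1, nat_lit 3, nat_lit 2, nat_lit 0])) (.leaf ((nat_lit 185), [nat_lit 0, nat_lit 3, nat_lit 1, nat_lit 3, nat_lit 2, nat_lit 0]))) (.node (nat_lit 408) (.leaf ((nat_lit 17), [nat_lit 0, nat_lit 3, nat_lit 1, nat_lit 3, nat_lit 2, nat_lit 0])) (.leaf ((nat_lit 18), [nat_lit 3, nat_lit 1, nat_lit 3, nat_lit 1])))))))
 (.node (nat_lit 425) (.node (nat_lit 417) (.node (nat_lit 413) (.node (nat_lit 411) (.node (nat_lit 410) (.leaf ((nat_lit 193), [nat_lit 3, nat_lit 2, nat_lit 1])) (.leaf ((nat_lit 64), [nat_lit 3, nat_lit 1, nat_lit 3, nat_lit 2, nat_lit 0]))) (.node (nat_lit 412) (.leaf ((nat_lit 194), [nat_lit 0, nat_lit 3, nat_lit 1, nat_lit 3, nat_lit 2, nat_lit 0])) (.leaf ((nat_lit 195), [nat_lit 0, nat_lit 3, nat_lit 1, nat_lit 3, nat_lit 2, nat_lit 0]))))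
 (.node (nat_lit 415) (.node (nat_lit 414) (.leaf ((nat_lit 33), [nat_lit 3, nat_lit 1, nat_lit 3, nat_lit 2, nat_lit 1])) (.leaf ((nat_lit 193), [nat_lit 2, nat_lit 3, nat_lit 1, nat_lit 3]))) (.node (nat_lit 416) (.leaf ((nat_lit 18), [nat_lit 3, nat_lit 0, nat_lit 3, nat_lit 2, nat_lit 0])) (.leaf ((nat_lit 196), [nat_lit 0, nat_lit 3, nat_lit 1, nat_lit 3, nat_lit 2])))))
 (.node (nat_lit 421) (.node (nat_lit 419) (.node (nat_lit 418) (.leaf ((nat_lit 197), [nat_lit 0, nat_lit 3, nat_lit 1, nat_lit 3, nat_lit 2, nat_lit 0])) (.leaf ((nat_lit 198), [nat_lit 0, nat_lit 3, nat_lit 1, nat_lit 3, nat_lit 2, nat_lit 0]))) (.node (nat_lit 420) (.leaf ((nat_lit 199), [nat_lit 0, nat_lit 3, nat_lit 1, nat_lit 3, nat_lit 2, nat_lit 0])) (.leaf ((nat_lit 64), [nat_lit 1, nat_lit 3, nat_lit 1, nat_lit 3, nat_lit 2, nat_lit 0]))))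
 (.node (nat_lit 423) (.node (nat_lit 422) (.leaf ((nat_lit 196), [nat_lit 3, nat_lit 1, nat_lit 3, nat_lit 2])) (.leaf ((nat_lit 18), [nat_lit 1, nat_lit 3, nat_lit 0]))) (.node (nat_lit 424) (.leaf ((nat_lit 118), [nat_lit 0, nat_lit 3, nat_lit 1, nat_lit 3, nat_lit 2, nat_lit 0])) (.leaf ((nat_lit 200), [nat_lit 0, nat_lit 3, nat_lit 1, nat_lit 3, nat_lit 2, nat_lit 0]))))))
 (.node (nat_lit 433) (.node (nat_lit 429) (.node (nat_lit 427) (.node (nat_lit 426) (.leaf ((nat_lit 180), [nat_lit 1, nat_lit 3, nat_lit 1, nat_lit 3, nat_lit 2])) (.leaf ((nat_lit 84), [nat_lit 3, nat_lit 0, nat_lit 3, nat_lit 2]))) (.node (nat_lit 428) (.leaf ((nat_lit 83), [nat_lit 3, nat_lit 2, nat_lit 1])) (.leaf ((nat_lit 201), [nat_lit 3, nat_lit 1, nat_lit 3, nat_lit 1]))))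
 (.node (nat_lit 431) (.node (nat_lit 430) (.leaf ((nat_lit 22), [nat_lit 2, nat_lit 3, nat_lit 1, nat_lit 3, nat_lit 0])) (.leaf ((nat_lit 18), [nat_lit 3, nat_lit 0, nat_lit 3, nat_lit 2, nat_lit 0]))) (.node (nat_lit 432) (.leaf ((nat_lit 202), [nat_lit 0, nat_lit 3, nat_lit 1])) (.leaf ((nat_lit 20), [nat_lit 1, nat_lit 3, nat_lit 1])))))
 (.node (nat_lit 437) (.node (nat_lit 435) (.node (nat_lit 434) (.leaf ((nat_lit 19), [nat_lit 2, nat_lit 3, nat_lit 1, nat_lit 3, nat_lit 0])) (.leaf ((nat_lit 90), [nat_lit 0, nat_lit 3, nat_lit 0, nat_lit 3, nat_lit 0]))) (.node (nat_lit 436) (.leaf ((nat_lit 202), [nat_lit 0])) (.leaf ((nat_lit 193), [nat_lit 2, nat_lit 3, nat_lit 1, nat_lit 3, nat_lit 0]))))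
 (.node (nat_lit 439) (.node (nat_lit 438) (.leaf ((nat_lit 72), [nat_lit 3])) (.leaf ((nat_lit 21), [nat_lit 1, nat_lit 3, nat_lit 1, nat_lit 3, nat_lit 2, nat_lit 0]))) (.node (nat_lit 440) (.leaf ((nat_lit 90), [nat_lit 3, nat_lit 1, nat_lit 3, nat_lit 2])) (.leaf ((nat_lit 19), [nat_lit 3, nat_lit 1, nat_lit 3, nat_lit 2, nat_lit 0]))))))))
 (.node (nat_lit 472) (.node (nat_lit 456) (.node (nat_lit 448) (.node (nat_lit 444) (.node (nat_lit 442) (.leaf ((nat_lit 67), [nat_lit 0, nat_lit 3, nat_lit 1, nat_lit 3, nat_lit 2, nat_lit 0])) (.node (nat_lit 443) (.leaf ((nat_lit 203), [nat_lit 0, nat_lit 3, nat_lit 1, nat_lit 3, nat_lit 2, nat_lit 0])) (.leaf ((nat_lit 169), [nat_lit 0, nat_lit 3, nat_lit 1, nat_lit 3, nat_lit 2, nat_lit 0]))))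
 (.node (nat_lit 446) (.node (nat_lit 445) (.leaf ((nat_lit 94), [nat_lit 2, nat_lit 3, nat_lit 1, nat_lit 3])) (.leaf ((nat_lit 198), [nat_lit 1, nat_lit 3, nat_lit 0]))) (.node (nat_lit 447) (.leaf ((nat_lit 204), [nat_lit 3, nat_lit 0])) (.leaf ((nat_lit 19), [nat_lit 0, nat_lit 3, nat_lit 1, nat_lit 3, nat_lit 2, nat_lit 0])))))
 (.node (nat_lit 452) (.node (nat_lit 450) (.node (nat_lit 449) (.leaf ((nat_lit 83), [nat_lit 0, nat_lit 3, nat_lit 1, nat_lit 3, nat_lit 2, nat_lit 0])) (.leaf ((nat_lit 55), [nat_lit 1, nat_lit 3, nat_lit 1, nat_lit 3, nat_lit 2]))) (.node (nat_lit 451) (.leaf ((nat_lit 205), [nat_lit 2, nat_lit 3, nat_lit 1, nat_lit 3])) (.leaf ((nat_lit 195), [nat_lit 1, nat_lit 3, nat_lit 0]))))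
 (.node (nat_lit 454) (.node (nat_lit 453) (.leaf ((nat_lit 206), [nat_lit 3, nat_lit 1, nat_lit 3, nat_lit 2])) (.leaf ((nat_lit 83), [nat_lit 0, nat_lit 3, nat_lit 1, nat_lit 3, nat_lit 2, nat_lit 0]))) (.node (nat_lit 455) (.leaf ((nat_lit 19), [nat_lit 0, nat_lit 3, nat_lit 1, nat_lit 3, nat_lit 2, nat_lit 0])) (.leaf ((nat_lit 207), [nat_lit 3, nat_lit 1, nat_lit 3, nat_lit 2, nat_lit 1]))))))
 (.node (nat_lit 464) (.node (nat_lit 460) (.node (nat_lit 458) (.node (nat_lit 457) (.leaf ((nat_lit 90), [nat_lit 0, nat_lit 3, nat_lit 1, nat_lit 3, nat_lit 2, nat_lit 1])) (.leaf ((nat_lit 21), [nat_lit 0]))) (.node (nat_lit 459) (.leaf ((nat_lit 20), [nat_lit 0, nat_lit 3, nat_lit 1, nat_lit 3, nat_lit 2])) (.leaf ((nat_lit 208), [nat_lit 0, nat_lit 3, nat_lit 1, nat_lit 3, nat_lit 2, nat_lit 0]))))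
 (.node (nat_lit 462) (.node (nat_lit 461) (.leaf ((nat_lit 209), [nat_lit 0, nat_lit 3, nat_lit 1, nat_lit 3, nat_lit 2, nat_lit 0])) (.leaf ((nat_lit 97), [nat_lit 1, nat_lit 3, nat_lit 1, nat_lit 3, nat_lit 2]))) (.node (nat_lit 463) (.leaf ((nat_lit 210), [nat_lit 2, nat_lit 3, nat_lit 1, nat_lit 3])) (.leaf ((nat_lit 197), [nat_lit 1, nat_lit 3, nat_lit 0])))))
 (.node (nat_lit 468) (.node (nat_lit 466) (.node (nat_lit 465) (.leaf ((nat_lit 211), [nat_lit 3, nat_lit 2, nat_lit 0])) (.leaf ((nat_lit 20), [nat_lit 0, nat_lit 3, nat_lit 1, nat_lit 3, nat_lit 2, nat_lit 0]))) (.node (nat_lit 467) (.leaf ((nat_lit 188), [nat_lit 0, nat_lit 3, nat_lit 1, nat_lit 3, nat_lit 2, nat_lit 0])) (.leaf ((nat_lit 176), [nat_lit 0, nat_lit 3, nat_lit 1, nat_lit 3, nat_lit 2, nat_lit 0]))))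
 (.node (nat_lit 470) (.node (nat_lit 469) (.leaf ((nat_lit 212), [nat_lit 2, nat_lit 3, nat_lit 1, nat_lit 3])) (.leaf ((nat_lit 194), [nat_lit 1, nat_lit 3, nat_lit 0]))) (.node (nat_lit 471) (.leaf ((nat_lit 213), [nat_lit 3, nat_lit 2, nat_lit 0])) (.leaf ((nat_lit 188), [nat_lit 0, nat_lit 3, nat_lit 1, nat_lit 3, nat_lit 2, nat_lit 0])))))))
 (.node (nat_lit 488) (.node (nat_lit 480) (.node (nat_lit 476) (.node (nat_lit 474) (.node (nat_lit 473) (.leaf ((nat_lit 20), [nat_lit 0, nat_lit 3, nat_lit 1, nat_lit 3, nat_lit 2, nat_lit 0])) (.leaf ((nat_lit 214), [nat_lit 3, nat_lit 1, nat_lit 3, nat_lit 2, nat_lit 1]))) (.node (nat_lit 475) (.leaf ((nat_lit 199), [nat_lit 0, nat_lit 3, nat_lit 1, nat_lit 3, nat_lit 1])) (.leaf ((nat_lit 156), [nat_lit 2]))))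
 (.node (nat_lit 478) (.node (nat_lit 477) (.leaf ((nat_lit 215), [nat_lit 1, nat_lit 3, nat_lit 0])) (.leaf ((nat_lit 216), [nat_lit 0, nat_lit 3, nat_lit 1, nat_lit 3, nat_lit 2, nat_lit 0]))) (.node (nat_lit 479) (.leaf ((nat_lit 180), [])) (.leaf ((nat_lit 20), [nat_lit 0, nat_lit 3, nat_lit 1, nat_lit 3, nat_lit 2, nat_lit 0])))))
 (.node (nat_lit 484) (.node (nat_lit 482) (.node (nat_lit 481) (.leaf ((nat_lit 217), [nat_lit 0, nat_lit 3, nat_lit 1, nat_lit 3, nat_lit 1])) (.leaf ((nat_lit 218), [nat_lit 2, nat_lit 3, nat_lit 1, nat_lit 3, nat_lit 0]))) (.node (nat_lit 483) (.leaf ((nat_lit 47), [nat_lit 3, nat_lit 0, nat_lit 3, nat_lit 2])) (.leaf ((nat_lit 21), [nat_lit 0, nat_lit 3, nat_lit 1, nat_lit 3, nat_lit 2, nat_lit 0]))))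
 (.node (nat_lit 486) (.node (nat_lit 485) (.leaf ((nat_lit 219), [nat_lit 0, nat_lit 3, nat_lit 1, nat_lit 3, nat_lit 2, nat_lit 0])) (.leaf ((nat_lit 220), [nat_lit 3, nat_lit 1, nat_lit 3, nat_lit 2, nat_lit 1]))) (.node (nat_lit 487) (.leaf ((nat_lit 96), [nat_lit 1, nat_lit 3, nat_lit 1, nat_lit 3, nat_lit 0])) (.leaf ((nat_lit 95), [nat_lit 2, nat_lit 3, nat_lit 1, nat_lit 3, nat_lit 2, nat_lit 1]))))))
 (.node (nat_lit 496) (.node (nat_lit 492) (.node (nat_lit 490) (.node (nat_lit 489) (.leaf ((nat_lit 221), [nat_lit 0, nat_lit 3, nat_lit 2])) (.leaf ((nat_lit 219), [nat_lit 0, nat_lit 3, nat_lit 1, nat_lit 3, nat_lit 2, nat_lit 0]))) (.node (nat_lit 491) (.leaf ((nat_lit 21), [nat_lit 0, nat_lit 3, nat_lit 1, nat_lit 3, nat_lit 2, nat_lit 0])) (.leaf ((nat_lit 222), [nat_lit 0, nat_lit 3, nat_lit 1, nat_lit 3, nat_lit 2, nat_lit 0]))))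
 (.node (nat_lit 494) (.node (nat_lit 493) (.leaf ((nat_lit 223), [nat_lit 0, nat_lit 3, nat_lit 0, nat_lit 3, nat_lit 2, nat_lit 1])) (.leaf ((nat_lit 192), [nat_lit 1, nat_lit 3, nat_lit 2, nat_lit 0]))) (.node (nat_lit 495) (.leaf ((nat_lit 191), [nat_lit 1, nat_lit 3, nat_lit 2])) (.leaf ((nat_lit 224), [nat_lit 0, nat_lit 3, nat_lit 1, nat_lit 3, nat_lit 2, nat_lit 0])))))
 (.node (nat_lit 500) (.node (nat_lit 498) (.node (nat_lit 497) (.leaf ((nat_lit 199), [])) (.leaf ((nat_lit 21), [nat_lit 3, nat_lit 1, nat_lit 3, nat_lit 2, nat_lit 1]))) (.node (nat_lit 499) (.leaf ((nat_lit 22), [nat_lit 0, nat_lit 3, nat_lit 0])) (.leaf ((nat_lit 71), [nat_lit 3, nat_lit 2, nat_lit 1]))))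
 (.node (nat_lit 502) (.node (nat_lit 501) (.leaf ((nat_lit 225), [nat_lit 0, nat_lit 3, nat_lit 1, nat_lit 3, nat_lit 1])) (.leaf ((nat_lit 75), [nat_lit 0, nat_lit 3, nat_lit 1, nat_lit 3, nat_lit 2, nat_lit 0]))) (.node (nat_lit 503) (.leaf ((nat_lit 74), [nat_lit 0, nat_lit 3, nat_lit 1, nat_lit 3, nat_lit 2, nat_lit 0])) (.leaf ((nat_lit 226), [nat_lit 3, nat_lit 1, nat_lit 3, nat_lit 2, nat_lit 1]))))))))))
noncomputable def n3Wd_2 : Tr (ℕ × List ℕ) := (.node (nat_lit 630) (.node (nat_lit 567) (.node (nat_lit 535) (.node (nat_lit 519) (.node (nat_lit 511) (.node (nat_lit 507) (.node (nat_lit 505) (.leaf ((nat_lit 71), [nat_lit 2, nat_lit 3, nat_lit 1, nat_lit 3])) (.node (nat_lit 506) (.leaf ((nat_lit 22), [nat_lit 2, nat_lit 3, nat_lit 1, nat_lit 3, nat_lit 0])) (.leaf ((nat_lit 227), [nat_lit 0, nat_lit 3, nat_lit 0, nat_lit 3, nat_lit 1]))))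
 (.node (nat_lit 509) (.node (nat_lit 508) (.leaf ((nat_lit 195), [nat_lit 0, nat_lit 3, nat_lit 1, nat_lit 3, nat_lit 2, nat_lit 0])) (.leaf ((nat_lit 194), [nat_lit 0, nat_lit 3, nat_lit 1, nat_lit 3, nat_lit 2, nat_lit 0]))) (.node (nat_lit 510) (.leaf ((nat_lit 228), [nat_lit 1, nat_lit 3, nat_lit 1, nat_lit 3, nat_lit 2])) (.leaf ((nat_lit 225), [nat_lit 0, nat_lit 3, nat_lit 0, nat_lit 3, nat_lit 1])))))
 (.node (nat_lit 515) (.node (nat_lit 513) (.node (nat_lit 512) (.leaf ((nat_lit 227), [nat_lit 0, nat_lit 3, nat_lit 0, nat_lit 3, nat_lit 2, nat_lit 0])) (.leaf ((nat_lit 22), [nat_lit 2, nat_lit 3, nat_lit 1, nat_lit 3, nat_lit 2, nat_lit 1]))) (.node (nat_lit 514) (.leaf ((nat_lit 220), [nat_lit 0, nat_lit 3, nat_lit 1, nat_lit 3, nat_lit 2, nat_lit 0])) (.leaf ((nat_lit 221), []))))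
 (.node (nat_lit 517) (.node (nat_lit 516) (.leaf ((nat_lit 229), [nat_lit 3, nat_lit 1, nat_lit 3, nat_lit 2, nat_lit 1])) (.leaf ((nat_lit 230), [nat_lit 0, nat_lit 3, nat_lit 1, nat_lit 3, nat_lit 2, nat_lit 1]))) (.node (nat_lit 518) (.leaf ((nat_lit 188), [nat_lit 0])) (.leaf ((nat_lit 160), [nat_lit 0, nat_lit 3, nat_lit 0, nat_lit 3]))))))
 (.node (nat_lit 527) (.node (nat_lit 523) (.node (nat_lit 521) (.node (nat_lit 520) (.leaf ((nat_lit 193), [nat_lit 0])) (.leaf ((nat_lit 202), [nat_lit 3, nat_lit 0, nat_lit 3, nat_lit 2, nat_lit 0]))) (.node (nat_lit 522) (.leaf ((nat_lit 22), [nat_lit 3, nat_lit 2, nat_lit 1])) (.leaf ((nat_lit 23), [nat_lit 1, nat_lit 3, nat_lit 0]))))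
 (.node (nat_lit 525) (.node (nat_lit 524) (.leaf ((nat_lit 231), [nat_lit 2, nat_lit 3, nat_lit 1, nat_lit 3])) (.leaf ((nat_lit 164), [nat_lit 3, nat_lit 2]))) (.node (nat_lit 526) (.leaf ((nat_lit 140), [nat_lit 2, nat_lit 3, nat_lit 1, nat_lit 3, nat_lit 2, nat_lit 0])) (.leaf ((nat_lit 122), [nat_lit 2, nat_lit 3, nat_lit 1, nat_lit 3, nat_lit 2, nat_lit 0])))))
 (.node (nat_lit 531) (.node (nat_lit 529) (.node (nat_lit 528) (.leaf ((nat_lit 175), [nat_lit 3, nat_lit 1, nat_lit 3, nat_lit 0])) (.leaf ((nat_lit 231), [nat_lit 3]))) (.node (nat_lit 530) (.leaf ((nat_lit 23), [nat_lit 3, nat_lit 0, nat_lit 3, nat_lit 1])) (.leaf ((nat_lit 38), [nat_lit 3, nat_lit 1, nat_lit 3, nat_lit 2]))))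
 (.node (nat_lit 533) (.node (nat_lit 532) (.leaf ((nat_lit 162), [nat_lit 0, nat_lit 3, nat_lit 1, nat_lit 3, nat_lit 0])) (.leaf ((nat_lit 109), [nat_lit 0, nat_lit 3, nat_lit 1, nat_lit 3, nat_lit 0]))) (.node (nat_lit 534) (.leaf ((nat_lit 232), [nat_lit 1, nat_lit 3, nat_lit 1, nat_lit 3, nat_lit 2])) (.leaf ((nat_lit 164), [nat_lit 3, nat_lit 2])))))))
 (.node (nat_lit 551) (.node (nat_lit 543) (.node (nat_lit 539) (.node (nat_lit 537) (.node (nat_lit 536) (.leaf ((nat_lit 38), [nat_lit 3, nat_lit 0, nat_lit 3, nat_lit 2, nat_lit 0])) (.leaf ((nat_lit 23), [nat_lit 1, nat_lit 3, nat_lit 0]))) (.node (nat_lit 538) (.leaf ((nat_lit 54), [nat_lit 0, nat_lit 3, nat_lit 2, nat_lit 1])) (.leaf ((nat_lit 145), [nat_lit 1, nat_lit 3, nat_lit 1, nat_lit 3, nat_lit 2, nat_lit 1]))))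
 (.node (nat_lit 541) (.node (nat_lit 540) (.leaf ((nat_lit 171), [nat_lit 2, nat_lit 1])) (.leaf ((nat_lit 76), [nat_lit 3, nat_lit 1, nat_lit 3, nat_lit 2, nat_lit 0]))) (.node (nat_lit 542) (.leaf ((nat_lit 73), [nat_lit 1, nat_lit 3, nat_lit 1, nat_lit 3, nat_lit 2, nat_lit 1])) (.leaf ((nat_lit 72), [nat_lit 1, nat_lit 3, nat_lit 1, nat_lit 3, nat_lit 1])))))
 (.node (nat_lit 547) (.node (nat_lit 545) (.node (nat_lit 544) (.leaf ((nat_lit 56), [nat_lit 0, nat_lit 3, nat_lit 1, nat_lit 3, nat_lit 2, nat_lit 0])) (.leaf ((nat_lit 233), [nat_lit 0, nat_lit 3, nat_lit 1, nat_lit 3, nat_lit 2, nat_lit 0]))) (.node (nat_lit 546) (.leaf ((nat_lit 23), [nat_lit 0, nat_lit 3, nat_lit 1, nat_lit 3, nat_lit 2, nat_lit 0])) (.leaf ((nat_lit 24), [nat_lit 0, nat_lit 3, nat_lit 1, nat_lit 3, nat_lit 0]))))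
 (.node (nat_lit 549) (.node (nat_lit 548) (.leaf ((nat_lit 234), [nat_lit 0, nat_lit 3, nat_lit 1, nat_lit 3, nat_lit 0])) (.leaf ((nat_lit 39), [nat_lit 2]))) (.node (nat_lit 550) (.leaf ((nat_lit 121), [nat_lit 0, nat_lit 3, nat_lit 1, nat_lit 3, nat_lit 0])) (.leaf ((nat_lit 46), [nat_lit 0, nat_lit 3, nat_lit 1, nat_lit 3, nat_lit 0]))))))
 (.node (nat_lit 559) (.node (nat_lit 555) (.node (nat_lit 553) (.node (nat_lit 552) (.leaf ((nat_lit 91), [nat_lit 1, nat_lit 3, nat_lit 1, nat_lit 3, nat_lit 2])) (.leaf ((nat_lit 234), [nat_lit 2, nat_lit 3, nat_lit 1, nat_lit 3, nat_lit 0]))) (.node (nat_lit 554) (.leaf ((nat_lit 24), [nat_lit 2, nat_lit 3, nat_lit 1, nat_lit 3, nat_lit 0])) (.leaf ((nat_lit 235), [nat_lit 0, nat_lit 3, nat_lit 1]))))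
 (.node (nat_lit 557) (.node (nat_lit 556) (.leaf ((nat_lit 236), [nat_lit 2, nat_lit 3, nat_lit 1, nat_lit 3, nat_lit 2, nat_lit 0])) (.leaf ((nat_lit 172), [nat_lit 2, nat_lit 3, nat_lit 1, nat_lit 3, nat_lit 2, nat_lit 0]))) (.node (nat_lit 558) (.leaf ((nat_lit 204), [])) (.leaf ((nat_lit 39), [nat_lit 0, nat_lit 3, nat_lit 1, nat_lit 3, nat_lit 2, nat_lit 1])))))
 (.node (nat_lit 563) (.node (nat_lit 561) (.node (nat_lit 560) (.leaf ((nat_lit 235), [nat_lit 0, nat_lit 3, nat_lit 1, nat_lit 3, nat_lit 2, nat_lit 1])) (.leaf ((nat_lit 24), [nat_lit 3, nat_lit 1, nat_lit 3, nat_lit 2, nat_lit 0]))) (.node (nat_lit 562) (.leaf ((nat_lit 154), [nat_lit 0, nat_lit 3, nat_lit 2, nat_lit 1])) (.leaf ((nat_lit 31), [nat_lit 0, nat_lit 3, nat_lit 2, nat_lit 1]))))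
 (.node (nat_lit 565) (.node (nat_lit 564) (.leaf ((nat_lit 93), [nat_lit 2, nat_lit 1])) (.leaf ((nat_lit 74), [nat_lit 3, nat_lit 0, nat_lit 3, nat_lit 2]))) (.node (nat_lit 566) (.leaf ((nat_lit 237), [nat_lit 3, nat_lit 2, nat_lit 1])) (.leaf ((nat_lit 178), [nat_lit 0, nat_lit 3, nat_lit 1, nat_lit 3, nat_lit 2, nat_lit 1]))))))))
 (.node (nat_lit 598) (.node (nat_lit 582) (.node (nat_lit 574) (.node (nat_lit 570) (.node (nat_lit 568) (.leaf ((nat_lit 134), [nat_lit 0, nat_lit 3, nat_lit 1, nat_lit 3, nat_lit 2, nat_lit 0])) (.node (nat_lit 569) (.leaf ((nat_lit 205), [nat_lit 0, nat_lit 3, nat_lit 1, nat_lit 3, nat_lit 2, nat_lit 0])) (.leaf ((nat_lit 24), [nat_lit 1, nat_lit 3, nat_lit 1, nat_lit 3, nat_lit 2]))))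
 (.node (nat_lit 572) (.node (nat_lit 571) (.leaf ((nat_lit 25), [nat_lit 1, nat_lit 3, nat_lit 1, nat_lit 3])) (.leaf ((nat_lit 81), [nat_lit 3, nat_lit 1, nat_lit 3, nat_lit 0]))) (.node (nat_lit 573) (.leaf ((nat_lit 238), [nat_lit 3, nat_lit 0])) (.leaf ((nat_lit 239), [nat_lit 0, nat_lit 3, nat_lit 2, nat_lit 1])))))
 (.node (nat_lit 578) (.node (nat_lit 576) (.node (nat_lit 575) (.leaf ((nat_lit 239), [nat_lit 1, nat_lit 3, nat_lit 1, nat_lit 3, nat_lit 2, nat_lit 1])) (.leaf ((nat_lit 95), [nat_lit 0, nat_lit 3, nat_lit 1, nat_lit 3, nat_lit 2, nat_lit 0]))) (.node (nat_lit 577) (.leaf ((nat_lit 81), [nat_lit 2, nat_lit 3, nat_lit 1, nat_lit 3, nat_lit 2])) (.leaf ((nat_lit 25), [nat_lit 1, nat_lit 3, nat_lit 2, nat_lit 1]))))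
 (.node (nat_lit 580) (.node (nat_lit 579) (.leaf ((nat_lit 157), [nat_lit 1, nat_lit 3, nat_lit 1, nat_lit 3, nat_lit 2])) (.leaf ((nat_lit 179), [nat_lit 3, nat_lit 2, nat_lit 0]))) (.node (nat_lit 581) (.leaf ((nat_lit 178), [nat_lit 3, nat_lit 1, nat_lit 3, nat_lit 2])) (.leaf ((nat_lit 240), [nat_lit 2]))))))
 (.node (nat_lit 590) (.node (nat_lit 586) (.node (nat_lit 584) (.node (nat_lit 583) (.leaf ((nat_lit 238), [nat_lit 0, nat_lit 3, nat_lit 1, nat_lit 3, nat_lit 2, nat_lit 0])) (.leaf ((nat_lit 157), [nat_lit 1, nat_lit 3, nat_lit 1]))) (.node (nat_lit 585) (.leaf ((nat_lit 25), [nat_lit 2, nat_lit 3, nat_lit 1, nat_lit 3, nat_lit 2, nat_lit 1])) (.leaf ((nat_lit 241), [nat_lit 0, nat_lit 3, nat_lit 1, nat_lit 3, nat_lit 2, nat_lit 0]))))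
 (.node (nat_lit 588) (.node (nat_lit 587) (.leaf ((nat_lit 137), [nat_lit 0, nat_lit 3, nat_lit 1, nat_lit 3, nat_lit 2, nat_lit 0])) (.leaf ((nat_lit 76), [nat_lit 1, nat_lit 3, nat_lit 1, nat_lit 3, nat_lit 2]))) (.node (nat_lit 589) (.leaf ((nat_lit 242), [nat_lit 2, nat_lit 3, nat_lit 1, nat_lit 3, nat_lit 2, nat_lit 1])) (.leaf ((nat_lit 243), [nat_lit 0, nat_lit 3, nat_lit 1])))))
 (.node (nat_lit 594) (.node (nat_lit 592) (.node (nat_lit 591) (.leaf ((nat_lit 239), [nat_lit 3, nat_lit 1, nat_lit 3, nat_lit 1])) (.leaf ((nat_lit 25), [nat_lit 0, nat_lit 3, nat_lit 1, nat_lit 3, nat_lit 2, nat_lit 0]))) (.node (nat_lit 593) (.leaf ((nat_lit 244), [nat_lit 0, nat_lit 3, nat_lit 1, nat_lit 3, nat_lit 2, nat_lit 0])) (.leaf ((nat_lit 235), [nat_lit 0, nat_lit 3, nat_lit 1, nat_lit 3, nat_lit 2, nat_lit 0]))))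
 (.node (nat_lit 596) (.node (nat_lit 595) (.leaf ((nat_lit 245), [nat_lit 1, nat_lit 3, nat_lit 0])) (.leaf ((nat_lit 246), [nat_lit 2, nat_lit 3, nat_lit 1, nat_lit 3, nat_lit 0]))) (.node (nat_lit 597) (.leaf ((nat_lit 139), [nat_lit 0, nat_lit 3, nat_lit 1, nat_lit 3, nat_lit 1])) (.leaf ((nat_lit 244), [nat_lit 0, nat_lit 3, nat_lit 1, nat_lit 3, nat_lit 2, nat_lit 0])))))))
 (.node (nat_lit 614) (.node (nat_lit 606) (.node (nat_lit 602) (.node (nat_lit 600) (.node (nat_lit 599) (.leaf ((nat_lit 25), [nat_lit 0, nat_lit 3, nat_lit 1, nat_lit 3, nat_lit 2, nat_lit 0])) (.leaf ((nat_lit 224), [nat_lit 3, nat_lit 1, nat_lit 3, nat_lit 2, nat_lit 1]))) (.node (nat_lit 601) (.leaf ((nat_lit 27), [nat_lit 0, nat_lit 3, nat_lit 1])) (.leaf ((nat_lit 140), [nat_lit 2]))))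
 (.node (nat_lit 604) (.node (nat_lit 603) (.leaf ((nat_lit 26), [nat_lit 3, nat_lit 0, nat_lit 3, nat_lit 2])) (.leaf ((nat_lit 131), [nat_lit 0, nat_lit 3, nat_lit 2, nat_lit 1]))) (.node (nat_lit 605) (.leaf ((nat_lit 247), [nat_lit 1, nat_lit 3, nat_lit 1, nat_lit 3, nat_lit 2, nat_lit 1])) (.leaf ((nat_lit 248), [nat_lit 0, nat_lit 3, nat_lit 1, nat_lit 3, nat_lit 0])))))
 (.node (nat_lit 610) (.node (nat_lit 608) (.node (nat_lit 607) (.leaf ((nat_lit 249), [nat_lit 1, nat_lit 3])) (.leaf ((nat_lit 250), [nat_lit 0, nat_lit 3, nat_lit 1, nat_lit 3, nat_lit 2, nat_lit 1]))) (.node (nat_lit 609) (.leaf ((nat_lit 251), [nat_lit 0])) (.leaf ((nat_lit 108), [nat_lit 0, nat_lit 3, nat_lit 1, nat_lit 3, nat_lit 2, nat_lit 0]))))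
 (.node (nat_lit 612) (.node (nat_lit 611) (.leaf ((nat_lit 227), [nat_lit 0, nat_lit 3, nat_lit 1, nat_lit 3, nat_lit 2, nat_lit 0])) (.leaf ((nat_lit 26), [nat_lit 1, nat_lit 3, nat_lit 1, nat_lit 3, nat_lit 2]))) (.node (nat_lit 613) (.leaf ((nat_lit 66), [nat_lit 0, nat_lit 3, nat_lit 0])) (.leaf ((nat_lit 55), [nat_lit 0, nat_lit 3, nat_lit 0]))))))
 (.node (nat_lit 622) (.node (nat_lit 618) (.node (nat_lit 616) (.node (nat_lit 615) (.leaf ((nat_lit 54), [nat_lit 1, nat_lit 3, nat_lit 1, nat_lit 3, nat_lit 0])) (.leaf ((nat_lit 27), [nat_lit 0, nat_lit 3, nat_lit 1, nat_lit 3, nat_lit 0]))) (.node (nat_lit 617) (.leaf ((nat_lit 50), [nat_lit 0, nat_lit 3, nat_lit 2, nat_lit 0])) (.leaf ((nat_lit 252), [nat_lit 0, nat_lit 3, nat_lit 1, nat_lit 3, nat_lit 2, nat_lit 1]))))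
 (.node (nat_lit 620) (.node (nat_lit 619) (.leaf ((nat_lit 51), [nat_lit 3, nat_lit 1, nat_lit 3])) (.leaf ((nat_lit 253), [nat_lit 1, nat_lit 3, nat_lit 1, nat_lit 3, nat_lit 1]))) (.node (nat_lit 621) (.leaf ((nat_lit 36), [nat_lit 0, nat_lit 3, nat_lit 2, nat_lit 1])) (.leaf ((nat_lit 50), [nat_lit 0, nat_lit 3, nat_lit 1, nat_lit 3, nat_lit 0])))))
 (.node (nat_lit 626) (.node (nat_lit 624) (.node (nat_lit 623) (.leaf ((nat_lit 27), [nat_lit 0, nat_lit 3, nat_lit 2, nat_lit 0])) (.leaf ((nat_lit 249), [nat_lit 3, nat_lit 0, nat_lit 3, nat_lit 0]))) (.node (nat_lit 625) (.leaf ((nat_lit 254), [nat_lit 0, nat_lit 3, nat_lit 0, nat_lit 3])) (.leaf ((nat_lit 203), [nat_lit 0, nat_lit 3, nat_lit 0, nat_lit 3, nat_lit 2, nat_lit 1]))))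
 (.node (nat_lit 628) (.node (nat_lit 627) (.leaf ((nat_lit 255), [nat_lit 0, nat_lit 3, nat_lit 0, nat_lit 3, nat_lit 2])) (.leaf ((nat_lit 245), [nat_lit 3]))) (.node (nat_lit 629) (.leaf ((nat_lit 245), [])) (.leaf ((nat_lit 27), [])))))))))
 (.node (nat_lit 693) (.node (nat_lit 661) (.node (nat_lit 645) (.node (nat_lit 637) (.node (nat_lit 633) (.node (nat_lit 631) (.leaf ((nat_lit 28), [nat_lit 3, nat_lit 1, nat_lit 3, nat_lit 1])) (.node (nat_lit 632) (.leaf ((nat_lit 43), [nat_lit 1, nat_lit 3, nat_lit 1, nat_lit 3, nat_lit 0])) (.leaf ((nat_lit 256), [nat_lit 1, nat_lit 3]))))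
 (.node (nat_lit 635) (.node (nat_lit 634) (.leaf ((nat_lit 106), [])) (.leaf ((nat_lit 106), [nat_lit 2, nat_lit 3, nat_lit 1, nat_lit 3, nat_lit 0]))) (.node (nat_lit 636) (.leaf ((nat_lit 105), [nat_lit 2, nat_lit 1])) (.leaf ((nat_lit 43), [nat_lit 3, nat_lit 1, nat_lit 3, nat_lit 0])))))
 (.node (nat_lit 641) (.node (nat_lit 639) (.node (nat_lit 638) (.leaf ((nat_lit 28), [nat_lit 1, nat_lit 3, nat_lit 1, nat_lit 3])) (.leaf ((nat_lit 257), [nat_lit 3, nat_lit 0, nat_lit 3, nat_lit 2, nat_lit 1]))) (.node (nat_lit 640) (.leaf ((nat_lit 105), [])) (.leaf ((nat_lit 105), [nat_lit 2, nat_lit 3, nat_lit 1, nat_lit 3, nat_lit 0]))))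
 (.node (nat_lit 643) (.node (nat_lit 642) (.leaf ((nat_lit 106), [nat_lit 2])) (.leaf ((nat_lit 256), [nat_lit 0, nat_lit 3, nat_lit 0, nat_lit 3, nat_lit 1]))) (.node (nat_lit 644) (.leaf ((nat_lit 257), [nat_lit 0, nat_lit 3, nat_lit 0, nat_lit 3, nat_lit 2, nat_lit 0])) (.leaf ((nat_lit 28), [nat_lit 0, nat_lit 3, nat_lit 1, nat_lit 3, nat_lit 1]))))))
 (.node (nat_lit 653) (.node (nat_lit 649) (.node (nat_lit 647) (.node (nat_lit 646) (.leaf ((nat_lit 37), [nat_lit 0, nat_lit 3, nat_lit 1, nat_lit 3, nat_lit 2, nat_lit 0])) (.leaf ((nat_lit 36), [nat_lit 0, nat_lit 3, nat_lit 1, nat_lit 3, nat_lit 2, nat_lit 0]))) (.node (nat_lit 648) (.leaf ((nat_lit 258), [nat_lit 1, nat_lit 3, nat_lit 1, nat_lit 3, nat_lit 2])) (.leaf ((nat_lit 144), [nat_lit 0, nat_lit 3, nat_lit 0, nat_lit 3, nat_lit 1]))))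
 (.node (nat_lit 651) (.node (nat_lit 650) (.leaf ((nat_lit 259), [nat_lit 0, nat_lit 3, nat_lit 0, nat_lit 3, nat_lit 2, nat_lit 0])) (.leaf ((nat_lit 260), [nat_lit 1, nat_lit 3, nat_lit 1, nat_lit 3, nat_lit 2]))) (.node (nat_lit 652) (.leaf ((nat_lit 101), [nat_lit 0, nat_lit 3, nat_lit 1, nat_lit 3, nat_lit 2, nat_lit 0])) (.leaf ((nat_lit 261), [nat_lit 0, nat_lit 3, nat_lit 1, nat_lit 3, nat_lit 2, nat_lit 0])))))
 (.node (nat_lit 657) (.node (nat_lit 655) (.node (nat_lit 654) (.leaf ((nat_lit 28), [nat_lit 1, nat_lit 3, nat_lit 1, nat_lit 3, nat_lit 2])) (.leaf ((nat_lit 29), [nat_lit 3, nat_lit 1, nat_lit 3, nat_lit 2, nat_lit 1]))) (.node (nat_lit 656) (.leaf ((nat_lit 146), [nat_lit 1, nat_lit 3, nat_lit 1, nat_lit 3, nat_lit 2])) (.leaf ((nat_lit 114), [nat_lit 2, nat_lit 0]))))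
 (.node (nat_lit 659) (.node (nat_lit 658) (.leaf ((nat_lit 129), [nat_lit 0, nat_lit 3, nat_lit 2, nat_lit 0])) (.leaf ((nat_lit 88), [nat_lit 2, nat_lit 3, nat_lit 1, nat_lit 3, nat_lit 2, nat_lit 0]))) (.node (nat_lit 660) (.leaf ((nat_lit 150), [nat_lit 3, nat_lit 2])) (.leaf ((nat_lit 146), [nat_lit 0, nat_lit 3, nat_lit 0, nat_lit 3, nat_lit 2, nat_lit 1])))))))
 (.node (nat_lit 677) (.node (nat_lit 669) (.node (nat_lit 665) (.node (nat_lit 663) (.node (nat_lit 662) (.leaf ((nat_lit 29), [nat_lit 0, nat_lit 3, nat_lit 0, nat_lit 3])) (.leaf ((nat_lit 145), [nat_lit 1, nat_lit 3, nat_lit 2, nat_lit 1]))) (.node (nat_lit 664) (.leaf ((nat_lit 46), [nat_lit 0, nat_lit 3, nat_lit 2, nat_lit 0])) (.leaf ((nat_lit 121), [nat_lit 0, nat_lit 3, nat_lit 2, nat_lit 0]))))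
 (.node (nat_lit 667) (.node (nat_lit 666) (.leaf ((nat_lit 262), [nat_lit 3, nat_lit 0])) (.leaf ((nat_lit 114), [nat_lit 0, nat_lit 3, nat_lit 1, nat_lit 3, nat_lit 2]))) (.node (nat_lit 668) (.leaf ((nat_lit 145), [nat_lit 0, nat_lit 3, nat_lit 1, nat_lit 3, nat_lit 2, nat_lit 1])) (.leaf ((nat_lit 29), [nat_lit 3, nat_lit 0, nat_lit 3, nat_lit 2])))))
 (.node (nat_lit 673) (.node (nat_lit 671) (.node (nat_lit 670) (.leaf ((nat_lit 257), [nat_lit 0, nat_lit 3, nat_lit 1, nat_lit 3, nat_lit 2, nat_lit 0])) (.leaf ((nat_lit 153), [nat_lit 0, nat_lit 3, nat_lit 1, nat_lit 3, nat_lit 2, nat_lit 0]))) (.node (nat_lit 672) (.leaf ((nat_lit 263), [nat_lit 3, nat_lit 1, nat_lit 3, nat_lit 2, nat_lit 1])) (.leaf ((nat_lit 128), [nat_lit 3]))))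
 (.node (nat_lit 675) (.node (nat_lit 674) (.leaf ((nat_lit 127), [nat_lit 1, nat_lit 3, nat_lit 2])) (.leaf ((nat_lit 159), [nat_lit 0, nat_lit 3, nat_lit 1, nat_lit 3, nat_lit 0]))) (.node (nat_lit 676) (.leaf ((nat_lit 147), [nat_lit 0, nat_lit 3, nat_lit 1, nat_lit 3, nat_lit 2, nat_lit 0])) (.leaf ((nat_lit 29), [nat_lit 0, nat_lit 3, nat_lit 1, nat_lit 3, nat_lit 2, nat_lit 0]))))))
 (.node (nat_lit 685) (.node (nat_lit 681) (.node (nat_lit 679) (.node (nat_lit 678) (.leaf ((nat_lit 264), [nat_lit 0, nat_lit 3, nat_lit 1, nat_lit 3, nat_lit 2, nat_lit 0])) (.leaf ((nat_lit 31), [nat_lit 2, nat_lit 1]))) (.node (nat_lit 680) (.leaf ((nat_lit 148), [nat_lit 3, nat_lit 1, nat_lit 3, nat_lit 1])) (.leaf ((nat_lit 30), [nat_lit 2]))))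
 (.node (nat_lit 683) (.node (nat_lit 682) (.leaf ((nat_lit 159), [nat_lit 0, nat_lit 3, nat_lit 1, nat_lit 3, nat_lit 0])) (.leaf ((nat_lit 170), [nat_lit 0, nat_lit 3, nat_lit 2, nat_lit 0]))) (.node (nat_lit 684) (.leaf ((nat_lit 265), [nat_lit 0, nat_lit 3, nat_lit 1, nat_lit 3, nat_lit 2, nat_lit 1])) (.leaf ((nat_lit 111), [nat_lit 1, nat_lit 3, nat_lit 1, nat_lit 3, nat_lit 2, nat_lit 0])))))
 (.node (nat_lit 689) (.node (nat_lit 687) (.node (nat_lit 686) (.leaf ((nat_lit 44), [nat_lit 3, nat_lit 1, nat_lit 3, nat_lit 2])) (.leaf ((nat_lit 109), [nat_lit 2, nat_lit 0]))) (.node (nat_lit 688) (.leaf ((nat_lit 31), [nat_lit 0, nat_lit 3, nat_lit 2, nat_lit 1])) (.leaf ((nat_lit 154), [nat_lit 0, nat_lit 3, nat_lit 2, nat_lit 1]))))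
 (.node (nat_lit 691) (.node (nat_lit 690) (.leaf ((nat_lit 266), [nat_lit 0, nat_lit 3, nat_lit 2, nat_lit 0])) (.leaf ((nat_lit 241), []))) (.node (nat_lit 692) (.leaf ((nat_lit 267), [])) (.leaf ((nat_lit 268), [nat_lit 0, nat_lit 3, nat_lit 1, nat_lit 3, nat_lit 2]))))))))
 (.node (nat_lit 724) (.node (nat_lit 708) (.node (nat_lit 700) (.node (nat_lit 696) (.node (nat_lit 694) (.leaf ((nat_lit 173), [nat_lit 3, nat_lit 2, nat_lit 0])) (.node (nat_lit 695) (.leaf ((nat_lit 269), [nat_lit 3, nat_lit 1, nat_lit 3, nat_lit 2])) (.leaf ((nat_lit 31), [nat_lit 2, nat_lit 3, nat_lit 1, nat_lit 3, nat_lit 0]))))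
 (.node (nat_lit 698) (.node (nat_lit 697) (.leaf ((nat_lit 32), [])) (.leaf ((nat_lit 270), [nat_lit 0, nat_lit 3, nat_lit 1, nat_lit 3, nat_lit 2, nat_lit 0]))) (.node (nat_lit 699) (.leaf ((nat_lit 265), [nat_lit 2, nat_lit 3, nat_lit 1, nat_lit 3, nat_lit 2])) (.leaf ((nat_lit 192), [nat_lit 3, nat_lit 2, nat_lit 0])))))
 (.node (nat_lit 704) (.node (nat_lit 702) (.node (nat_lit 701) (.leaf ((nat_lit 271), [nat_lit 3, nat_lit 1, nat_lit 3, nat_lit 2])) (.leaf ((nat_lit 145), [nat_lit 3, nat_lit 1, nat_lit 3, nat_lit 2, nat_lit 1]))) (.node (nat_lit 703) (.leaf ((nat_lit 270), [nat_lit 3, nat_lit 1, nat_lit 3, nat_lit 2, nat_lit 0])) (.leaf ((nat_lit 32), [nat_lit 1, nat_lit 3, nat_lit 1, nat_lit 3, nat_lit 2, nat_lit 1]))))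
 (.node (nat_lit 706) (.node (nat_lit 705) (.leaf ((nat_lit 272), [])) (.leaf ((nat_lit 211), [nat_lit 0, nat_lit 3, nat_lit 2, nat_lit 1]))) (.node (nat_lit 707) (.leaf ((nat_lit 273), [nat_lit 1, nat_lit 3, nat_lit 1, nat_lit 3, nat_lit 2, nat_lit 1])) (.leaf ((nat_lit 274), [nat_lit 1, nat_lit 3, nat_lit 2]))))))
 (.node (nat_lit 716) (.node (nat_lit 712) (.node (nat_lit 710) (.node (nat_lit 709) (.leaf ((nat_lit 265), [nat_lit 0, nat_lit 3, nat_lit 2, nat_lit 0])) (.leaf ((nat_lit 272), [nat_lit 0, nat_lit 3, nat_lit 1]))) (.node (nat_lit 711) (.leaf ((nat_lit 32), [nat_lit 3, nat_lit 0, nat_lit 3, nat_lit 2])) (.leaf ((nat_lit 70), [nat_lit 0, nat_lit 3, nat_lit 1, nat_lit 3, nat_lit 2, nat_lit 0]))))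
 (.node (nat_lit 714) (.node (nat_lit 713) (.leaf ((nat_lit 275), [nat_lit 0, nat_lit 3, nat_lit 1, nat_lit 3, nat_lit 2, nat_lit 0])) (.leaf ((nat_lit 276), [nat_lit 1, nat_lit 3, nat_lit 1, nat_lit 3, nat_lit 2]))) (.node (nat_lit 715) (.leaf ((nat_lit 277), [nat_lit 0, nat_lit 3, nat_lit 1, nat_lit 3, nat_lit 2, nat_lit 0])) (.leaf ((nat_lit 278), [nat_lit 1, nat_lit 3, nat_lit 2])))))
 (.node (nat_lit 720) (.node (nat_lit 718) (.node (nat_lit 717) (.leaf ((nat_lit 279), [nat_lit 0, nat_lit 3, nat_lit 1, nat_lit 3, nat_lit 0])) (.leaf ((nat_lit 152), [nat_lit 0, nat_lit 3, nat_lit 1, nat_lit 3, nat_lit 2, nat_lit 0]))) (.node (nat_lit 719) (.leaf ((nat_lit 32), [nat_lit 0, nat_lit 3, nat_lit 1, nat_lit 3, nat_lit 2, nat_lit 0])) (.leaf ((nat_lit 280), [nat_lit 0, nat_lit 3, nat_lit 1, nat_lit 3, nat_lit 2, nat_lit 0]))))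
 (.node (nat_lit 722) (.node (nat_lit 721) (.leaf ((nat_lit 34), [nat_lit 3, nat_lit 1, nat_lit 3, nat_lit 0])) (.leaf ((nat_lit 33), [nat_lit 3, nat_lit 1, nat_lit 3, nat_lit 0]))) (.node (nat_lit 723) (.leaf ((nat_lit 171), [nat_lit 3, nat_lit 0, nat_lit 3, nat_lit 0])) (.leaf ((nat_lit 264), [nat_lit 0, nat_lit 3, nat_lit 1, nat_lit 3, nat_lit 2, nat_lit 0])))))))
 (.node (nat_lit 740) (.node (nat_lit 732) (.node (nat_lit 728) (.node (nat_lit 726) (.node (nat_lit 725) (.leaf ((nat_lit 146), [nat_lit 0, nat_lit 3, nat_lit 1, nat_lit 3, nat_lit 2, nat_lit 0])) (.leaf ((nat_lit 120), [nat_lit 0, nat_lit 3, nat_lit 1, nat_lit 3, nat_lit 2, nat_lit 0]))) (.node (nat_lit 727) (.leaf ((nat_lit 35), [nat_lit 2, nat_lit 3, nat_lit 1, nat_lit 3, nat_lit 2])) (.leaf ((nat_lit 171), [nat_lit 0, nat_lit 3, nat_lit 0, nat_lit 3, nat_lit 2, nat_lit 1]))))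
 (.node (nat_lit 730) (.node (nat_lit 729) (.leaf ((nat_lit 33), [nat_lit 1, nat_lit 3, nat_lit 2])) (.leaf ((nat_lit 91), [nat_lit 2, nat_lit 3, nat_lit 1, nat_lit 3, nat_lit 2, nat_lit 0]))) (.node (nat_lit 731) (.leaf ((nat_lit 110), [nat_lit 0, nat_lit 3, nat_lit 2, nat_lit 0])) (.leaf ((nat_lit 170), [nat_lit 2])))))
 (.node (nat_lit 736) (.node (nat_lit 734) (.node (nat_lit 733) (.leaf ((nat_lit 171), [nat_lit 1, nat_lit 3])) (.leaf ((nat_lit 35), [nat_lit 0, nat_lit 3, nat_lit 0, nat_lit 3, nat_lit 2, nat_lit 1]))) (.node (nat_lit 735) (.leaf ((nat_lit 34), [nat_lit 0, nat_lit 3, nat_lit 1, nat_lit 3, nat_lit 2, nat_lit 0])) (.leaf ((nat_lit 281), [nat_lit 0, nat_lit 3, nat_lit 1, nat_lit 3, nat_lit 0]))))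
 (.node (nat_lit 738) (.node (nat_lit 737) (.leaf ((nat_lit 87), [nat_lit 0, nat_lit 3, nat_lit 1, nat_lit 3, nat_lit 0])) (.leaf ((nat_lit 63), [nat_lit 3, nat_lit 0, nat_lit 3, nat_lit 0]))) (.node (nat_lit 739) (.leaf ((nat_lit 156), [nat_lit 0, nat_lit 3, nat_lit 0, nat_lit 3, nat_lit 1])) (.leaf ((nat_lit 199), [nat_lit 0, nat_lit 3, nat_lit 0, nat_lit 3, nat_lit 2, nat_lit 0]))))))
 (.node (nat_lit 748) (.node (nat_lit 744) (.node (nat_lit 742) (.node (nat_lit 741) (.leaf ((nat_lit 282), [nat_lit 1, nat_lit 3, nat_lit 1, nat_lit 3, nat_lit 2, nat_lit 1])) (.leaf ((nat_lit 283), [nat_lit 0, nat_lit 3, nat_lit 1, nat_lit 3, nat_lit 2, nat_lit 0]))) (.node (nat_lit 743) (.leaf ((nat_lit 276), [])) (.leaf ((nat_lit 34), [nat_lit 3, nat_lit 1, nat_lit 3, nat_lit 2, nat_lit 1]))))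
 (.node (nat_lit 746) (.node (nat_lit 745) (.leaf ((nat_lit 36), [nat_lit 1, nat_lit 3, nat_lit 1, nat_lit 3, nat_lit 2, nat_lit 0])) (.leaf ((nat_lit 284), [nat_lit 3, nat_lit 1, nat_lit 3, nat_lit 2]))) (.node (nat_lit 747) (.leaf ((nat_lit 51), [nat_lit 1, nat_lit 3, nat_lit 1, nat_lit 3, nat_lit 0])) (.leaf ((nat_lit 35), [nat_lit 0, nat_lit 3, nat_lit 2, nat_lit 1])))))
 (.node (nat_lit 752) (.node (nat_lit 750) (.node (nat_lit 749) (.leaf ((nat_lit 42), [nat_lit 1, nat_lit 3, nat_lit 1, nat_lit 3, nat_lit 2, nat_lit 1])) (.leaf ((nat_lit 285), [nat_lit 0, nat_lit 3, nat_lit 0]))) (.node (nat_lit 751) (.leaf ((nat_lit 283), [nat_lit 3, nat_lit 2])) (.leaf ((nat_lit 137), [nat_lit 3, nat_lit 2]))))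
 (.node (nat_lit 754) (.node (nat_lit 753) (.leaf ((nat_lit 136), [nat_lit 1, nat_lit 3, nat_lit 1, nat_lit 3, nat_lit 2])) (.leaf ((nat_lit 286), [nat_lit 3, nat_lit 1, nat_lit 3, nat_lit 2]))) (.node (nat_lit 755) (.leaf ((nat_lit 274), [nat_lit 3, nat_lit 2, nat_lit 0])) (.leaf ((nat_lit 35), [nat_lit 3]))))))))))
noncomputable def n3Wd_3 : Tr (ℕ × List ℕ) := (.node (nat_lit 882) (.node (nat_lit 819) (.node (nat_lit 787) (.node (nat_lit 771) (.node (nat_lit 763) (.node (nat_lit 759) (.node (nat_lit 757) (.leaf ((nat_lit 284), [nat_lit 0, nat_lit 3, nat_lit 0, nat_lit 3])) (.node (nat_lit 758) (.leaf ((nat_lit 36), [nat_lit 0, nat_lit 3, nat_lit 0, nat_lit 3, nat_lit 2, nat_lit 1])) (.leaf ((nat_lit 253), [nat_lit 0, nat_lit 3, nat_lit 0, nat_lit 3, nat_lit 2]))))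
 (.node (nat_lit 761) (.node (nat_lit 760) (.leaf ((nat_lit 58), [nat_lit 3, nat_lit 2, nat_lit 0])) (.leaf ((nat_lit 287), [nat_lit 3, nat_lit 1, nat_lit 3, nat_lit 2]))) (.node (nat_lit 762) (.leaf ((nat_lit 206), [nat_lit 3, nat_lit 2])) (.leaf ((nat_lit 37), [nat_lit 2, nat_lit 3, nat_lit 1, nat_lit 3, nat_lit 2, nat_lit 0])))))
 (.node (nat_lit 767) (.node (nat_lit 765) (.node (nat_lit 764) (.leaf ((nat_lit 112), [nat_lit 1, nat_lit 3, nat_lit 2])) (.leaf ((nat_lit 147), [nat_lit 3, nat_lit 0, nat_lit 3, nat_lit 2, nat_lit 0]))) (.node (nat_lit 766) (.leaf ((nat_lit 148), [nat_lit 3, nat_lit 2, nat_lit 0])) (.leaf ((nat_lit 171), [nat_lit 3, nat_lit 1, nat_lit 3, nat_lit 2]))))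
 (.node (nat_lit 769) (.node (nat_lit 768) (.leaf ((nat_lit 288), [nat_lit 0, nat_lit 3, nat_lit 0])) (.leaf ((nat_lit 112), [nat_lit 3]))) (.node (nat_lit 770) (.leaf ((nat_lit 37), [nat_lit 3, nat_lit 0, nat_lit 3, nat_lit 1])) (.leaf ((nat_lit 52), [nat_lit 0, nat_lit 3]))))))
 (.node (nat_lit 779) (.node (nat_lit 775) (.node (nat_lit 773) (.node (nat_lit 772) (.leaf ((nat_lit 145), [nat_lit 1, nat_lit 3, nat_lit 1, nat_lit 3, nat_lit 2, nat_lit 1])) (.leaf ((nat_lit 54), [nat_lit 0, nat_lit 3, nat_lit 2, nat_lit 1]))) (.node (nat_lit 774) (.leaf ((nat_lit 286), [nat_lit 0, nat_lit 3, nat_lit 0])) (.leaf ((nat_lit 147), [nat_lit 0, nat_lit 3, nat_lit 1, nat_lit 3, nat_lit 2, nat_lit 1]))))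
 (.node (nat_lit 777) (.node (nat_lit 776) (.leaf ((nat_lit 52), [nat_lit 0])) (.leaf ((nat_lit 37), [nat_lit 0, nat_lit 3, nat_lit 1, nat_lit 3, nat_lit 2, nat_lit 0]))) (.node (nat_lit 778) (.leaf ((nat_lit 109), [nat_lit 0, nat_lit 3, nat_lit 2, nat_lit 0])) (.leaf ((nat_lit 162), [nat_lit 0, nat_lit 3, nat_lit 2, nat_lit 0])))))
 (.node (nat_lit 783) (.node (nat_lit 781) (.node (nat_lit 780) (.leaf ((nat_lit 289), [nat_lit 3, nat_lit 2, nat_lit 1])) (.leaf ((nat_lit 290), [nat_lit 0, nat_lit 3, nat_lit 1, nat_lit 3, nat_lit 1]))) (.node (nat_lit 782) (.leaf ((nat_lit 224), [nat_lit 2])) (.leaf ((nat_lit 202), [nat_lit 0, nat_lit 3, nat_lit 0, nat_lit 3, nat_lit 2, nat_lit 0]))))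
 (.node (nat_lit 785) (.node (nat_lit 784) (.leaf ((nat_lit 270), [nat_lit 0, nat_lit 3, nat_lit 1, nat_lit 3, nat_lit 2, nat_lit 0])) (.leaf ((nat_lit 280), [nat_lit 0, nat_lit 3, nat_lit 1, nat_lit 3, nat_lit 2, nat_lit 0]))) (.node (nat_lit 786) (.leaf ((nat_lit 37), [nat_lit 1, nat_lit 3, nat_lit 1, nat_lit 3, nat_lit 2])) (.leaf ((nat_lit 38), [nat_lit 1, nat_lit 3, nat_lit 1, nat_lit 3, nat_lit 0])))))))
 (.node (nat_lit 803) (.node (nat_lit 795) (.node (nat_lit 791) (.node (nat_lit 789) (.node (nat_lit 788) (.leaf ((nat_lit 164), [nat_lit 3, nat_lit 1, nat_lit 3, nat_lit 1])) (.leaf ((nat_lit 231), [nat_lit 1, nat_lit 3]))) (.node (nat_lit 790) (.leaf ((nat_lit 100), [nat_lit 3, nat_lit 2, nat_lit 0])) (.leaf ((nat_lit 155), [nat_lit 3, nat_lit 2, nat_lit 0]))))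
 (.node (nat_lit 793) (.node (nat_lit 792) (.leaf ((nat_lit 223), [nat_lit 3, nat_lit 2])) (.leaf ((nat_lit 196), [nat_lit 0, nat_lit 3, nat_lit 1, nat_lit 3, nat_lit 2, nat_lit 1]))) (.node (nat_lit 794) (.leaf ((nat_lit 64), [nat_lit 0])) (.leaf ((nat_lit 193), [nat_lit 2, nat_lit 3, nat_lit 1, nat_lit 3, nat_lit 1])))))
 (.node (nat_lit 799) (.node (nat_lit 797) (.node (nat_lit 796) (.leaf ((nat_lit 189), [nat_lit 0, nat_lit 3, nat_lit 1, nat_lit 3, nat_lit 2, nat_lit 0])) (.leaf ((nat_lit 291), [nat_lit 0, nat_lit 3, nat_lit 1, nat_lit 3, nat_lit 2, nat_lit 0]))) (.node (nat_lit 798) (.leaf ((nat_lit 38), [nat_lit 0, nat_lit 3, nat_lit 1, nat_lit 3, nat_lit 2, nat_lit 0])) (.leaf ((nat_lit 235), [nat_lit 1]))))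
 (.node (nat_lit 801) (.node (nat_lit 800) (.leaf ((nat_lit 39), [nat_lit 1])) (.leaf ((nat_lit 234), [nat_lit 0, nat_lit 3, nat_lit 1, nat_lit 3, nat_lit 2, nat_lit 0]))) (.node (nat_lit 802) (.leaf ((nat_lit 287), [nat_lit 3, nat_lit 2, nat_lit 0])) (.leaf ((nat_lit 58), [nat_lit 3, nat_lit 1, nat_lit 3, nat_lit 2]))))))
 (.node (nat_lit 811) (.node (nat_lit 807) (.node (nat_lit 805) (.node (nat_lit 804) (.leaf ((nat_lit 292), [nat_lit 0, nat_lit 3, nat_lit 0])) (.leaf ((nat_lit 194), [nat_lit 3, nat_lit 0, nat_lit 3, nat_lit 2]))) (.node (nat_lit 806) (.leaf ((nat_lit 212), [nat_lit 3, nat_lit 2, nat_lit 1])) (.leaf ((nat_lit 293), [nat_lit 2]))))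
 (.node (nat_lit 809) (.node (nat_lit 808) (.leaf ((nat_lit 94), [nat_lit 0, nat_lit 3, nat_lit 1, nat_lit 3, nat_lit 2, nat_lit 0])) (.leaf ((nat_lit 294), [nat_lit 0, nat_lit 3, nat_lit 1, nat_lit 3, nat_lit 2, nat_lit 0]))) (.node (nat_lit 810) (.leaf ((nat_lit 39), [nat_lit 3, nat_lit 1, nat_lit 3, nat_lit 2, nat_lit 1])) (.leaf ((nat_lit 40), [nat_lit 3, nat_lit 1])))))
 (.node (nat_lit 815) (.node (nat_lit 813) (.node (nat_lit 812) (.leaf ((nat_lit 200), [nat_lit 3, nat_lit 0, nat_lit 3, nat_lit 0])) (.leaf ((nat_lit 173), [nat_lit 1, nat_lit 3, nat_lit 2, nat_lit 0]))) (.node (nat_lit 814) (.leaf ((nat_lit 242), [nat_lit 0, nat_lit 3, nat_lit 1, nat_lit 3, nat_lit 0])) (.leaf ((nat_lit 242), [nat_lit 0, nat_lit 3, nat_lit 2, nat_lit 0]))))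
 (.node (nat_lit 817) (.node (nat_lit 816) (.leaf ((nat_lit 135), [nat_lit 3, nat_lit 0, nat_lit 3, nat_lit 2, nat_lit 1])) (.leaf ((nat_lit 200), [nat_lit 0, nat_lit 3, nat_lit 1, nat_lit 3]))) (.node (nat_lit 818) (.leaf ((nat_lit 40), [nat_lit 2, nat_lit 0])) (.leaf ((nat_lit 125), [nat_lit 1, nat_lit 3, nat_lit 1, nat_lit 3, nat_lit 2]))))))))
 (.node (nat_lit 850) (.node (nat_lit 834) (.node (nat_lit 826) (.node (nat_lit 822) (.node (nat_lit 820) (.leaf ((nat_lit 282), [nat_lit 2, nat_lit 3, nat_lit 1, nat_lit 3, nat_lit 2, nat_lit 0])) (.node (nat_lit 821) (.leaf ((nat_lit 293), [nat_lit 2, nat_lit 3, nat_lit 1, nat_lit 3, nat_lit 2, nat_lit 0])) (.leaf ((nat_lit 215), [nat_lit 3]))))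
 (.node (nat_lit 824) (.node (nat_lit 823) (.leaf ((nat_lit 173), [nat_lit 3, nat_lit 1])) (.leaf ((nat_lit 125), [nat_lit 1, nat_lit 3, nat_lit 2, nat_lit 1]))) (.node (nat_lit 825) (.leaf ((nat_lit 40), [nat_lit 1, nat_lit 3, nat_lit 2, nat_lit 0])) (.leaf ((nat_lit 268), [nat_lit 0, nat_lit 3, nat_lit 1, nat_lit 3, nat_lit 2, nat_lit 0])))))
 (.node (nat_lit 830) (.node (nat_lit 828) (.node (nat_lit 827) (.leaf ((nat_lit 97), [nat_lit 0, nat_lit 3, nat_lit 1, nat_lit 3, nat_lit 2, nat_lit 0])) (.leaf ((nat_lit 196), [nat_lit 3, nat_lit 1, nat_lit 3, nat_lit 2, nat_lit 1]))) (.node (nat_lit 829) (.leaf ((nat_lit 239), [nat_lit 2, nat_lit 3, nat_lit 1, nat_lit 3, nat_lit 1])) (.leaf ((nat_lit 295), [nat_lit 3, nat_lit 0, nat_lit 3, nat_lit 1]))))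
 (.node (nat_lit 832) (.node (nat_lit 831) (.leaf ((nat_lit 242), [nat_lit 3, nat_lit 1, nat_lit 3, nat_lit 2, nat_lit 1])) (.leaf ((nat_lit 40), [nat_lit 0, nat_lit 3, nat_lit 1, nat_lit 3, nat_lit 2, nat_lit 0]))) (.node (nat_lit 833) (.leaf ((nat_lit 254), [nat_lit 0, nat_lit 3, nat_lit 1, nat_lit 3, nat_lit 2, nat_lit 0])) (.leaf ((nat_lit 234), [nat_lit 0, nat_lit 3, nat_lit 1, nat_lit 3, nat_lit 2, nat_lit 0]))))))
 (.node (nat_lit 842) (.node (nat_lit 838) (.node (nat_lit 836) (.node (nat_lit 835) (.leaf ((nat_lit 296), [nat_lit 3])) (.leaf ((nat_lit 297), [nat_lit 0, nat_lit 3, nat_lit 1]))) (.node (nat_lit 837) (.leaf ((nat_lit 99), [nat_lit 0, nat_lit 3, nat_lit 0, nat_lit 3, nat_lit 1])) (.leaf ((nat_lit 254), [nat_lit 0, nat_lit 3, nat_lit 1, nat_lit 3, nat_lit 2, nat_lit 0]))))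
 (.node (nat_lit 840) (.node (nat_lit 839) (.leaf ((nat_lit 40), [nat_lit 0, nat_lit 3, nat_lit 1, nat_lit 3, nat_lit 2, nat_lit 0])) (.leaf ((nat_lit 290), [nat_lit 1, nat_lit 3, nat_lit 1, nat_lit 3, nat_lit 2]))) (.node (nat_lit 841) (.leaf ((nat_lit 42), [nat_lit 1, nat_lit 3, nat_lit 1, nat_lit 3, nat_lit 0])) (.leaf ((nat_lit 100), [nat_lit 2])))))
 (.node (nat_lit 846) (.node (nat_lit 844) (.node (nat_lit 843) (.leaf ((nat_lit 41), [nat_lit 0, nat_lit 3, nat_lit 0])) (.leaf ((nat_lit 87), [nat_lit 0, nat_lit 3, nat_lit 1, nat_lit 3, nat_lit 0]))) (.node (nat_lit 845) (.leaf ((nat_lit 281), [nat_lit 0, nat_lit 3, nat_lit 1, nat_lit 3, nat_lit 0])) (.leaf ((nat_lit 298), [nat_lit 1, nat_lit 3]))))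
 (.node (nat_lit 848) (.node (nat_lit 847) (.leaf ((nat_lit 285), [nat_lit 0, nat_lit 3, nat_lit 1])) (.leaf ((nat_lit 299), [nat_lit 3, nat_lit 0, nat_lit 3, nat_lit 2]))) (.node (nat_lit 849) (.leaf ((nat_lit 300), [nat_lit 0, nat_lit 3, nat_lit 0, nat_lit 3, nat_lit 2])) (.leaf ((nat_lit 144), [nat_lit 0, nat_lit 3, nat_lit 1, nat_lit 3, nat_lit 2, nat_lit 0])))))))
 (.node (nat_lit 866) (.node (nat_lit 858) (.node (nat_lit 854) (.node (nat_lit 852) (.node (nat_lit 851) (.leaf ((nat_lit 225), [nat_lit 0, nat_lit 3, nat_lit 1, nat_lit 3, nat_lit 2, nat_lit 0])) (.leaf ((nat_lit 41), [nat_lit 3, nat_lit 1, nat_lit 3, nat_lit 2, nat_lit 1]))) (.node (nat_lit 853) (.leaf ((nat_lit 244), [nat_lit 3, nat_lit 0])) (.leaf ((nat_lit 183), [nat_lit 3, nat_lit 0, nat_lit 3]))))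
 (.node (nat_lit 856) (.node (nat_lit 855) (.leaf ((nat_lit 301), [nat_lit 2, nat_lit 3, nat_lit 1, nat_lit 3, nat_lit 2])) (.leaf ((nat_lit 296), [nat_lit 3, nat_lit 1, nat_lit 3, nat_lit 2, nat_lit 0]))) (.node (nat_lit 857) (.leaf ((nat_lit 296), [nat_lit 3, nat_lit 1, nat_lit 3, nat_lit 0])) (.leaf ((nat_lit 42), [nat_lit 1, nat_lit 3, nat_lit 1])))))
 (.node (nat_lit 862) (.node (nat_lit 860) (.node (nat_lit 859) (.leaf ((nat_lit 257), [nat_lit 0, nat_lit 3, nat_lit 1, nat_lit 3, nat_lit 1])) (.leaf ((nat_lit 256), [nat_lit 2]))) (.node (nat_lit 861) (.leaf ((nat_lit 43), [nat_lit 0, nat_lit 3, nat_lit 0, nat_lit 3, nat_lit 1])) (.leaf ((nat_lit 52), [nat_lit 0, nat_lit 3, nat_lit 1, nat_lit 3, nat_lit 2, nat_lit 0]))))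
 (.node (nat_lit 864) (.node (nat_lit 863) (.leaf ((nat_lit 51), [nat_lit 0, nat_lit 3, nat_lit 1, nat_lit 3, nat_lit 2, nat_lit 0])) (.leaf ((nat_lit 302), [nat_lit 3, nat_lit 1, nat_lit 3, nat_lit 2, nat_lit 1]))) (.node (nat_lit 865) (.leaf ((nat_lit 108), [nat_lit 0, nat_lit 3, nat_lit 1, nat_lit 3, nat_lit 1])) (.leaf ((nat_lit 303), [nat_lit 2]))))))
 (.node (nat_lit 874) (.node (nat_lit 870) (.node (nat_lit 868) (.node (nat_lit 867) (.leaf ((nat_lit 304), [nat_lit 3, nat_lit 1, nat_lit 3, nat_lit 2, nat_lit 1])) (.leaf ((nat_lit 141), [nat_lit 0, nat_lit 3, nat_lit 1, nat_lit 3, nat_lit 2, nat_lit 0]))) (.node (nat_lit 869) (.leaf ((nat_lit 305), [nat_lit 0, nat_lit 3, nat_lit 1, nat_lit 3, nat_lit 2, nat_lit 0])) (.leaf ((nat_lit 43), [nat_lit 3, nat_lit 1, nat_lit 3, nat_lit 2, nat_lit 1]))))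
 (.node (nat_lit 872) (.node (nat_lit 871) (.leaf ((nat_lit 44), [nat_lit 1, nat_lit 3, nat_lit 1, nat_lit 3, nat_lit 2, nat_lit 1])) (.leaf ((nat_lit 111), [nat_lit 3, nat_lit 1, nat_lit 3, nat_lit 2, nat_lit 0]))) (.node (nat_lit 873) (.leaf ((nat_lit 110), [nat_lit 3, nat_lit 2])) (.leaf ((nat_lit 128), [nat_lit 3, nat_lit 1, nat_lit 3, nat_lit 2])))))
 (.node (nat_lit 878) (.node (nat_lit 876) (.node (nat_lit 875) (.leaf ((nat_lit 89), [nat_lit 3, nat_lit 1, nat_lit 3, nat_lit 2])) (.leaf ((nat_lit 116), [nat_lit 3, nat_lit 1, nat_lit 3, nat_lit 2, nat_lit 1]))) (.node (nat_lit 877) (.leaf ((nat_lit 110), [nat_lit 3, nat_lit 0, nat_lit 3, nat_lit 2, nat_lit 0])) (.leaf ((nat_lit 109), [nat_lit 1, nat_lit 3, nat_lit 1, nat_lit 3, nat_lit 2]))))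
 (.node (nat_lit 880) (.node (nat_lit 879) (.leaf ((nat_lit 44), [nat_lit 3, nat_lit 0, nat_lit 3, nat_lit 2])) (.leaf ((nat_lit 256), [nat_lit 0, nat_lit 3, nat_lit 1, nat_lit 3, nat_lit 2, nat_lit 0]))) (.node (nat_lit 881) (.leaf ((nat_lit 120), [nat_lit 0, nat_lit 3, nat_lit 1, nat_lit 3, nat_lit 2, nat_lit 0])) (.leaf ((nat_lit 270), [nat_lit 1, nat_lit 3, nat_lit 1, nat_lit 3, nat_lit 2])))))))))
 (.node (nat_lit 945) (.node (nat_lit 913) (.node (nat_lit 897) (.node (nat_lit 889) (.node (nat_lit 885) (.node (nat_lit 883) (.leaf ((nat_lit 129), [nat_lit 3, nat_lit 1, nat_lit 3, nat_lit 2, nat_lit 0])) (.node (nat_lit 884) (.leaf ((nat_lit 159), [nat_lit 3])) (.leaf ((nat_lit 127), [nat_lit 0, nat_lit 3, nat_lit 0, nat_lit 3, nat_lit 2, nat_lit 1]))))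
 (.node (nat_lit 887) (.node (nat_lit 886) (.leaf ((nat_lit 112), [nat_lit 0, nat_lit 3, nat_lit 1, nat_lit 3, nat_lit 2, nat_lit 0])) (.leaf ((nat_lit 44), [nat_lit 0, nat_lit 3, nat_lit 1, nat_lit 3, nat_lit 2, nat_lit 0]))) (.node (nat_lit 888) (.leaf ((nat_lit 306), [nat_lit 0, nat_lit 3, nat_lit 1, nat_lit 3, nat_lit 2, nat_lit 0])) (.leaf ((nat_lit 46), [nat_lit 3, nat_lit 2, nat_lit 1])))))
 (.node (nat_lit 893) (.node (nat_lit 891) (.node (nat_lit 890) (.leaf ((nat_lit 113), [nat_lit 0, nat_lit 3, nat_lit 0, nat_lit 3])) (.leaf ((nat_lit 45), [nat_lit 3, nat_lit 1, nat_lit 3, nat_lit 2, nat_lit 0]))) (.node (nat_lit 892) (.leaf ((nat_lit 127), [nat_lit 0, nat_lit 3, nat_lit 2, nat_lit 1])) (.leaf ((nat_lit 57), [nat_lit 0, nat_lit 3, nat_lit 2, nat_lit 1]))))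
 (.node (nat_lit 895) (.node (nat_lit 894) (.leaf ((nat_lit 217), [])) (.leaf ((nat_lit 268), [nat_lit 0, nat_lit 3, nat_lit 2, nat_lit 1]))) (.node (nat_lit 896) (.leaf ((nat_lit 216), [nat_lit 0, nat_lit 3, nat_lit 2, nat_lit 1])) (.leaf ((nat_lit 241), [nat_lit 1, nat_lit 3, nat_lit 1]))))))
 (.node (nat_lit 905) (.node (nat_lit 901) (.node (nat_lit 899) (.node (nat_lit 898) (.leaf ((nat_lit 238), [nat_lit 0, nat_lit 3, nat_lit 2, nat_lit 0])) (.leaf ((nat_lit 307), [nat_lit 2, nat_lit 3, nat_lit 1, nat_lit 3, nat_lit 2, nat_lit 0]))) (.node (nat_lit 900) (.leaf ((nat_lit 46), [nat_lit 3])) (.leaf ((nat_lit 47), [nat_lit 0, nat_lit 3, nat_lit 2, nat_lit 1]))))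
 (.node (nat_lit 903) (.node (nat_lit 902) (.leaf ((nat_lit 263), [nat_lit 0, nat_lit 3, nat_lit 1])) (.leaf ((nat_lit 217), [nat_lit 1, nat_lit 3, nat_lit 2]))) (.node (nat_lit 904) (.leaf ((nat_lit 63), [nat_lit 2, nat_lit 3, nat_lit 1, nat_lit 3, nat_lit 2, nat_lit 0])) (.leaf ((nat_lit 277), [nat_lit 0, nat_lit 3, nat_lit 2, nat_lit 0])))))
 (.node (nat_lit 909) (.node (nat_lit 907) (.node (nat_lit 906) (.leaf ((nat_lit 109), [nat_lit 1, nat_lit 3, nat_lit 2, nat_lit 1])) (.leaf ((nat_lit 263), [nat_lit 3, nat_lit 0]))) (.node (nat_lit 908) (.leaf ((nat_lit 47), [nat_lit 3, nat_lit 0, nat_lit 3])) (.leaf ((nat_lit 218), [nat_lit 2, nat_lit 3, nat_lit 1, nat_lit 3, nat_lit 2, nat_lit 1]))))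
 (.node (nat_lit 911) (.node (nat_lit 910) (.leaf ((nat_lit 308), [nat_lit 0, nat_lit 3, nat_lit 2, nat_lit 0])) (.leaf ((nat_lit 309), [nat_lit 0, nat_lit 3, nat_lit 1, nat_lit 3, nat_lit 0]))) (.node (nat_lit 912) (.leaf ((nat_lit 310), [nat_lit 3, nat_lit 0, nat_lit 3, nat_lit 2, nat_lit 1])) (.leaf ((nat_lit 271), [nat_lit 3, nat_lit 1, nat_lit 3])))))))
 (.node (nat_lit 929) (.node (nat_lit 921) (.node (nat_lit 917) (.node (nat_lit 915) (.node (nat_lit 914) (.leaf ((nat_lit 279), [nat_lit 1, nat_lit 3, nat_lit 2, nat_lit 1])) (.leaf ((nat_lit 278), [nat_lit 0, nat_lit 3, nat_lit 1, nat_lit 3]))) (.node (nat_lit 916) (.leaf ((nat_lit 119), [nat_lit 0, nat_lit 3, nat_lit 1, nat_lit 3, nat_lit 2, nat_lit 0])) (.leaf ((nat_lit 47), [nat_lit 0, nat_lit 3, nat_lit 1, nat_lit 3, nat_lit 2, nat_lit 0]))))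
 (.node (nat_lit 919) (.node (nat_lit 918) (.leaf ((nat_lit 311), [nat_lit 0, nat_lit 3, nat_lit 1, nat_lit 3, nat_lit 2, nat_lit 0])) (.leaf ((nat_lit 49), [nat_lit 0, nat_lit 3, nat_lit 2]))) (.node (nat_lit 920) (.leaf ((nat_lit 48), [nat_lit 0, nat_lit 3, nat_lit 2])) (.leaf ((nat_lit 232), [nat_lit 0, nat_lit 3])))))
 (.node (nat_lit 925) (.node (nat_lit 923) (.node (nat_lit 922) (.leaf ((nat_lit 306), [nat_lit 0, nat_lit 3, nat_lit 1, nat_lit 3, nat_lit 2, nat_lit 0])) (.leaf ((nat_lit 111), [nat_lit 0, nat_lit 3, nat_lit 1, nat_lit 3, nat_lit 2, nat_lit 0]))) (.node (nat_lit 924) (.leaf ((nat_lit 153), [nat_lit 0, nat_lit 3, nat_lit 1, nat_lit 3, nat_lit 2, nat_lit 0])) (.leaf ((nat_lit 50), [nat_lit 1, nat_lit 3, nat_lit 1, nat_lit 3, nat_lit 0]))))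
 (.node (nat_lit 927) (.node (nat_lit 926) (.leaf ((nat_lit 232), [nat_lit 3, nat_lit 0, nat_lit 3, nat_lit 2, nat_lit 0])) (.leaf ((nat_lit 48), [nat_lit 3, nat_lit 2]))) (.node (nat_lit 928) (.leaf ((nat_lit 93), [nat_lit 3, nat_lit 2, nat_lit 0])) (.leaf ((nat_lit 114), [nat_lit 3, nat_lit 2, nat_lit 0]))))))
 (.node (nat_lit 937) (.node (nat_lit 933) (.node (nat_lit 931) (.node (nat_lit 930) (.leaf ((nat_lit 57), [nat_lit 1, nat_lit 3, nat_lit 2, nat_lit 1])) (.leaf ((nat_lit 232), [nat_lit 3, nat_lit 0]))) (.node (nat_lit 932) (.leaf ((nat_lit 50), [nat_lit 3, nat_lit 0, nat_lit 3, nat_lit 2, nat_lit 0])) (.leaf ((nat_lit 49), [nat_lit 3, nat_lit 0, nat_lit 3]))))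
 (.node (nat_lit 935) (.node (nat_lit 934) (.leaf ((nat_lit 247), [nat_lit 1, nat_lit 3, nat_lit 1, nat_lit 3, nat_lit 2, nat_lit 1])) (.leaf ((nat_lit 131), [nat_lit 0, nat_lit 3, nat_lit 2, nat_lit 1]))) (.node (nat_lit 936) (.leaf ((nat_lit 192), [nat_lit 0, nat_lit 3, nat_lit 0])) (.leaf ((nat_lit 123), [nat_lit 0, nat_lit 3, nat_lit 1, nat_lit 3, nat_lit 1])))))
 (.node (nat_lit 941) (.node (nat_lit 939) (.node (nat_lit 938) (.leaf ((nat_lit 79), [nat_lit 2])) (.leaf ((nat_lit 179), [nat_lit 1, nat_lit 3, nat_lit 2, nat_lit 1]))) (.node (nat_lit 940) (.leaf ((nat_lit 221), [nat_lit 0, nat_lit 3, nat_lit 1, nat_lit 3, nat_lit 2, nat_lit 0])) (.leaf ((nat_lit 220), []))))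
 (.node (nat_lit 943) (.node (nat_lit 942) (.leaf ((nat_lit 49), [nat_lit 1, nat_lit 3, nat_lit 1, nat_lit 3, nat_lit 2])) (.leaf ((nat_lit 221), [nat_lit 0, nat_lit 3, nat_lit 0]))) (.node (nat_lit 944) (.leaf ((nat_lit 97), [nat_lit 0, nat_lit 3, nat_lit 0])) (.leaf ((nat_lit 96), [nat_lit 1, nat_lit 3, nat_lit 1, nat_lit 3, nat_lit 2]))))))))
 (.node (nat_lit 976) (.node (nat_lit 960) (.node (nat_lit 952) (.node (nat_lit 948) (.node (nat_lit 946) (.leaf ((nat_lit 289), [nat_lit 2, nat_lit 3, nat_lit 1, nat_lit 3, nat_lit 2, nat_lit 0])) (.node (nat_lit 947) (.leaf ((nat_lit 310), [nat_lit 2, nat_lit 3, nat_lit 1, nat_lit 3, nat_lit 2, nat_lit 0])) (.leaf ((nat_lit 50), [nat_lit 1, nat_lit 3, nat_lit 2, nat_lit 1]))))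
 (.node (nat_lit 950) (.node (nat_lit 949) (.leaf ((nat_lit 253), [nat_lit 3, nat_lit 1, nat_lit 3, nat_lit 2, nat_lit 1])) (.leaf ((nat_lit 51), [nat_lit 1, nat_lit 3, nat_lit 1, nat_lit 3, nat_lit 2]))) (.node (nat_lit 951) (.leaf ((nat_lit 284), [nat_lit 3, nat_lit 1, nat_lit 3, nat_lit 0])) (.leaf ((nat_lit 172), [nat_lit 0, nat_lit 3, nat_lit 2, nat_lit 0])))))
 (.node (nat_lit 956) (.node (nat_lit 954) (.node (nat_lit 953) (.leaf ((nat_lit 236), [nat_lit 0, nat_lit 3, nat_lit 2, nat_lit 0])) (.leaf ((nat_lit 312), [nat_lit 3, nat_lit 1, nat_lit 3, nat_lit 0]))) (.node (nat_lit 955) (.leaf ((nat_lit 52), [nat_lit 3, nat_lit 0, nat_lit 3, nat_lit 1])) (.leaf ((nat_lit 147), [nat_lit 3]))))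
 (.node (nat_lit 958) (.node (nat_lit 957) (.leaf ((nat_lit 112), [nat_lit 2, nat_lit 3, nat_lit 1, nat_lit 3, nat_lit 2, nat_lit 0])) (.leaf ((nat_lit 113), [nat_lit 2, nat_lit 3, nat_lit 1, nat_lit 3, nat_lit 2, nat_lit 0]))) (.node (nat_lit 959) (.leaf ((nat_lit 232), [nat_lit 0, nat_lit 3, nat_lit 2, nat_lit 0])) (.leaf ((nat_lit 313), []))))))
 (.node (nat_lit 968) (.node (nat_lit 964) (.node (nat_lit 962) (.node (nat_lit 961) (.leaf ((nat_lit 224), [nat_lit 0, nat_lit 3, nat_lit 0, nat_lit 3, nat_lit 1])) (.leaf ((nat_lit 290), [nat_lit 0, nat_lit 3, nat_lit 0, nat_lit 3, nat_lit 2, nat_lit 0]))) (.node (nat_lit 963) (.leaf ((nat_lit 86), [nat_lit 3, nat_lit 1, nat_lit 3, nat_lit 1])) (.leaf ((nat_lit 263), [nat_lit 0, nat_lit 3, nat_lit 1, nat_lit 3, nat_lit 2, nat_lit 0]))))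
 (.node (nat_lit 966) (.node (nat_lit 965) (.leaf ((nat_lit 311), [nat_lit 0, nat_lit 3, nat_lit 1, nat_lit 3, nat_lit 2, nat_lit 0])) (.leaf ((nat_lit 52), [nat_lit 3, nat_lit 1, nat_lit 3, nat_lit 2, nat_lit 1]))) (.node (nat_lit 967) (.leaf ((nat_lit 54), [nat_lit 0, nat_lit 3, nat_lit 2, nat_lit 0])) (.leaf ((nat_lit 53), [nat_lit 2, nat_lit 3, nat_lit 1, nat_lit 3])))))
 (.node (nat_lit 972) (.node (nat_lit 970) (.node (nat_lit 969) (.leaf ((nat_lit 66), [nat_lit 1, nat_lit 3, nat_lit 1, nat_lit 3, nat_lit 2, nat_lit 0])) (.leaf ((nat_lit 55), []))) (.node (nat_lit 971) (.leaf ((nat_lit 231), [])) (.leaf ((nat_lit 194), [nat_lit 3, nat_lit 1, nat_lit 3, nat_lit 2, nat_lit 1]))))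
 (.node (nat_lit 974) (.node (nat_lit 973) (.leaf ((nat_lit 55), [nat_lit 0, nat_lit 3, nat_lit 1, nat_lit 3, nat_lit 2, nat_lit 0])) (.leaf ((nat_lit 66), [nat_lit 0, nat_lit 3, nat_lit 1, nat_lit 3, nat_lit 2, nat_lit 0]))) (.node (nat_lit 975) (.leaf ((nat_lit 53), [nat_lit 0, nat_lit 3, nat_lit 1])) (.leaf ((nat_lit 88), [nat_lit 2, nat_lit 3, nat_lit 1, nat_lit 3, nat_lit 2, nat_lit 0])))))))
 (.node (nat_lit 992) (.node (nat_lit 984) (.node (nat_lit 980) (.node (nat_lit 978) (.node (nat_lit 977) (.leaf ((nat_lit 129), [nat_lit 0, nat_lit 3, nat_lit 2, nat_lit 0])) (.leaf ((nat_lit 162), [nat_lit 2]))) (.node (nat_lit 979) (.leaf ((nat_lit 213), [nat_lit 0, nat_lit 3, nat_lit 1, nat_lit 3, nat_lit 2, nat_lit 0])) (.leaf ((nat_lit 293), [nat_lit 1, nat_lit 3, nat_lit 1]))))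
 (.node (nat_lit 982) (.node (nat_lit 981) (.leaf ((nat_lit 212), [nat_lit 1])) (.leaf ((nat_lit 288), [nat_lit 0, nat_lit 3, nat_lit 1, nat_lit 3, nat_lit 2, nat_lit 1]))) (.node (nat_lit 983) (.leaf ((nat_lit 297), [nat_lit 3, nat_lit 0, nat_lit 3, nat_lit 0])) (.leaf ((nat_lit 53), [])))))
 (.node (nat_lit 988) (.node (nat_lit 986) (.node (nat_lit 985) (.leaf ((nat_lit 89), [nat_lit 1, nat_lit 3, nat_lit 2, nat_lit 1])) (.leaf ((nat_lit 131), [nat_lit 0, nat_lit 3, nat_lit 0, nat_lit 3]))) (.node (nat_lit 987) (.leaf ((nat_lit 87), [nat_lit 1, nat_lit 3, nat_lit 2, nat_lit 1])) (.leaf ((nat_lit 231), []))))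
 (.node (nat_lit 990) (.node (nat_lit 989) (.leaf ((nat_lit 55), [])) (.leaf ((nat_lit 221), [nat_lit 1, nat_lit 3, nat_lit 1, nat_lit 3, nat_lit 2]))) (.node (nat_lit 991) (.leaf ((nat_lit 56), [nat_lit 0, nat_lit 3, nat_lit 2, nat_lit 1])) (.leaf ((nat_lit 214), [nat_lit 0, nat_lit 3, nat_lit 1]))))))
 (.node (nat_lit 1000) (.node (nat_lit 996) (.node (nat_lit 994) (.node (nat_lit 993) (.leaf ((nat_lit 181), [nat_lit 2, nat_lit 3, nat_lit 1, nat_lit 3, nat_lit 2])) (.leaf ((nat_lit 213), [nat_lit 0, nat_lit 3, nat_lit 1, nat_lit 3, nat_lit 0]))) (.node (nat_lit 995) (.leaf ((nat_lit 215), [nat_lit 0, nat_lit 3, nat_lit 2, nat_lit 0])) (.leaf ((nat_lit 293), [nat_lit 3, nat_lit 0, nat_lit 3, nat_lit 2, nat_lit 1]))))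
 (.node (nat_lit 998) (.node (nat_lit 997) (.leaf ((nat_lit 214), [nat_lit 2])) (.leaf ((nat_lit 56), [nat_lit 0, nat_lit 3, nat_lit 1, nat_lit 3, nat_lit 1]))) (.node (nat_lit 999) (.leaf ((nat_lit 314), [nat_lit 1, nat_lit 3, nat_lit 1, nat_lit 3, nat_lit 0])) (.leaf ((nat_lit 191), [nat_lit 0, nat_lit 3, nat_lit 2, nat_lit 0])))))
 (.node (nat_lit 1004) (.node (nat_lit 1002) (.node (nat_lit 1001) (.leaf ((nat_lit 191), [nat_lit 2, nat_lit 3, nat_lit 1, nat_lit 3, nat_lit 2, nat_lit 0])) (.leaf ((nat_lit 166), [nat_lit 2]))) (.node (nat_lit 1003) (.leaf ((nat_lit 181), [nat_lit 3, nat_lit 2, nat_lit 0])) (.leaf ((nat_lit 314), [nat_lit 0, nat_lit 3, nat_lit 0, nat_lit 3]))))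
 (.node (nat_lit 1006) (.node (nat_lit 1005) (.leaf ((nat_lit 56), [nat_lit 2, nat_lit 3, nat_lit 1, nat_lit 3])) (.leaf ((nat_lit 315), [nat_lit 0, nat_lit 3, nat_lit 1, nat_lit 3, nat_lit 2, nat_lit 0]))) (.node (nat_lit 1007) (.leaf ((nat_lit 222), [nat_lit 0, nat_lit 3, nat_lit 1, nat_lit 3, nat_lit 2, nat_lit 0])) (.leaf ((nat_lit 198), [nat_lit 1, nat_lit 3, nat_lit 1, nat_lit 3, nat_lit 2]))))))))))
noncomputable def n3Wd_4 : Tr (ℕ × List ℕ) := (.node (nat_lit 1134) (.node (nat_lit 1071) (.node (nat_lit 1039) (.node (nat_lit 1023) (.node (nat_lit 1015) (.node (nat_lit 1011) (.node (nat_lit 1009) (.leaf ((nat_lit 186), [nat_lit 0, nat_lit 3, nat_lit 1, nat_lit 3, nat_lit 2])) (.node (nat_lit 1010) (.leaf ((nat_lit 185), [nat_lit 1])) (.leaf ((nat_lit 316), [nat_lit 3, nat_lit 1, nat_lit 3]))))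
 (.node (nat_lit 1013) (.node (nat_lit 1012) (.leaf ((nat_lit 233), [nat_lit 0, nat_lit 3, nat_lit 1, nat_lit 3, nat_lit 2, nat_lit 0])) (.leaf ((nat_lit 56), [nat_lit 0, nat_lit 3, nat_lit 1, nat_lit 3, nat_lit 2, nat_lit 0]))) (.node (nat_lit 1014) (.leaf ((nat_lit 275), [nat_lit 0, nat_lit 3, nat_lit 1, nat_lit 3, nat_lit 2, nat_lit 0])) (.leaf ((nat_lit 58), [nat_lit 1, nat_lit 3, nat_lit 2, nat_lit 1])))))
 (.node (nat_lit 1019) (.node (nat_lit 1017) (.node (nat_lit 1016) (.leaf ((nat_lit 57), [nat_lit 0, nat_lit 3, nat_lit 0, nat_lit 3, nat_lit 2])) (.leaf ((nat_lit 184), [nat_lit 0, nat_lit 3, nat_lit 1, nat_lit 3, nat_lit 1]))) (.node (nat_lit 1018) (.leaf ((nat_lit 234), [nat_lit 0, nat_lit 3, nat_lit 1, nat_lit 3, nat_lit 2, nat_lit 0])) (.leaf ((nat_lit 184), []))))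
 (.node (nat_lit 1021) (.node (nat_lit 1020) (.leaf ((nat_lit 73), [nat_lit 0, nat_lit 3, nat_lit 1, nat_lit 3, nat_lit 2, nat_lit 0])) (.leaf ((nat_lit 59), [nat_lit 2, nat_lit 3, nat_lit 1, nat_lit 3]))) (.node (nat_lit 1022) (.leaf ((nat_lit 184), [nat_lit 2, nat_lit 3, nat_lit 1, nat_lit 3])) (.leaf ((nat_lit 57), [nat_lit 1, nat_lit 3, nat_lit 1, nat_lit 3, nat_lit 2, nat_lit 1]))))))
 (.node (nat_lit 1031) (.node (nat_lit 1027) (.node (nat_lit 1025) (.node (nat_lit 1024) (.leaf ((nat_lit 232), [nat_lit 2, nat_lit 3, nat_lit 1, nat_lit 3, nat_lit 2, nat_lit 0])) (.leaf ((nat_lit 113), [nat_lit 0, nat_lit 3, nat_lit 2, nat_lit 0]))) (.node (nat_lit 1026) (.leaf ((nat_lit 121), [nat_lit 2])) (.leaf ((nat_lit 122), [nat_lit 3, nat_lit 0]))))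
 (.node (nat_lit 1029) (.node (nat_lit 1028) (.leaf ((nat_lit 121), [nat_lit 3, nat_lit 0, nat_lit 3, nat_lit 2, nat_lit 0])) (.leaf ((nat_lit 120), [nat_lit 1, nat_lit 3, nat_lit 1, nat_lit 3]))) (.node (nat_lit 1030) (.leaf ((nat_lit 57), [nat_lit 1, nat_lit 3, nat_lit 1, nat_lit 3, nat_lit 2, nat_lit 1])) (.leaf ((nat_lit 127), [nat_lit 1, nat_lit 3, nat_lit 1, nat_lit 3, nat_lit 2, nat_lit 1])))))
 (.node (nat_lit 1035) (.node (nat_lit 1033) (.node (nat_lit 1032) (.leaf ((nat_lit 89), [nat_lit 2, nat_lit 1])) (.leaf ((nat_lit 184), [nat_lit 3, nat_lit 1, nat_lit 3, nat_lit 2]))) (.node (nat_lit 1034) (.leaf ((nat_lit 59), [nat_lit 3, nat_lit 1, nat_lit 3, nat_lit 2])) (.leaf ((nat_lit 58), [nat_lit 0, nat_lit 3, nat_lit 2, nat_lit 0]))))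
 (.node (nat_lit 1037) (.node (nat_lit 1036) (.leaf ((nat_lit 158), [nat_lit 0, nat_lit 3, nat_lit 2, nat_lit 0])) (.leaf ((nat_lit 92), [nat_lit 0, nat_lit 3, nat_lit 1, nat_lit 3, nat_lit 0]))) (.node (nat_lit 1038) (.leaf ((nat_lit 238), [nat_lit 1, nat_lit 3, nat_lit 1, nat_lit 3, nat_lit 2])) (.leaf ((nat_lit 137), [nat_lit 0, nat_lit 3])))))))
 (.node (nat_lit 1055) (.node (nat_lit 1047) (.node (nat_lit 1043) (.node (nat_lit 1041) (.node (nat_lit 1040) (.leaf ((nat_lit 283), [nat_lit 0, nat_lit 3])) (.leaf ((nat_lit 135), [nat_lit 0, nat_lit 3, nat_lit 2]))) (.node (nat_lit 1042) (.leaf ((nat_lit 115), [nat_lit 0, nat_lit 3, nat_lit 2, nat_lit 1])) (.leaf ((nat_lit 299), [nat_lit 1, nat_lit 3, nat_lit 1, nat_lit 3, nat_lit 2, nat_lit 1]))))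
 (.node (nat_lit 1045) (.node (nat_lit 1044) (.leaf ((nat_lit 58), [nat_lit 0, nat_lit 3, nat_lit 2, nat_lit 0])) (.leaf ((nat_lit 192), [nat_lit 1, nat_lit 3, nat_lit 2, nat_lit 0]))) (.node (nat_lit 1046) (.leaf ((nat_lit 223), [nat_lit 0, nat_lit 3, nat_lit 0, nat_lit 3, nat_lit 2, nat_lit 1])) (.leaf ((nat_lit 190), [nat_lit 0, nat_lit 3, nat_lit 1, nat_lit 3, nat_lit 0])))))
 (.node (nat_lit 1051) (.node (nat_lit 1049) (.node (nat_lit 1048) (.leaf ((nat_lit 60), [nat_lit 0, nat_lit 3, nat_lit 1, nat_lit 3, nat_lit 2, nat_lit 0])) (.leaf ((nat_lit 317), [nat_lit 0, nat_lit 3, nat_lit 1, nat_lit 3, nat_lit 2, nat_lit 0]))) (.node (nat_lit 1050) (.leaf ((nat_lit 59), [nat_lit 1, nat_lit 3, nat_lit 1, nat_lit 3, nat_lit 2])) (.leaf ((nat_lit 180), [nat_lit 2, nat_lit 3, nat_lit 1, nat_lit 3, nat_lit 2, nat_lit 0]))))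
 (.node (nat_lit 1053) (.node (nat_lit 1052) (.leaf ((nat_lit 60), [nat_lit 2, nat_lit 3, nat_lit 1, nat_lit 3, nat_lit 2, nat_lit 0])) (.leaf ((nat_lit 177), [nat_lit 3, nat_lit 1, nat_lit 3, nat_lit 1]))) (.node (nat_lit 1054) (.leaf ((nat_lit 262), [nat_lit 0, nat_lit 3, nat_lit 2, nat_lit 0])) (.leaf ((nat_lit 318), [nat_lit 2, nat_lit 3, nat_lit 1, nat_lit 3, nat_lit 2, nat_lit 0]))))))
 (.node (nat_lit 1063) (.node (nat_lit 1059) (.node (nat_lit 1057) (.node (nat_lit 1056) (.leaf ((nat_lit 87), [nat_lit 2, nat_lit 3, nat_lit 1, nat_lit 3, nat_lit 2, nat_lit 1])) (.leaf ((nat_lit 319), [nat_lit 0, nat_lit 3, nat_lit 1, nat_lit 3, nat_lit 2, nat_lit 0]))) (.node (nat_lit 1058) (.leaf ((nat_lit 248), [nat_lit 0, nat_lit 3, nat_lit 1, nat_lit 3, nat_lit 2, nat_lit 1])) (.leaf ((nat_lit 220), [nat_lit 3, nat_lit 1, nat_lit 3, nat_lit 2, nat_lit 0]))))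
 (.node (nat_lit 1061) (.node (nat_lit 1060) (.leaf ((nat_lit 317), [nat_lit 0, nat_lit 3, nat_lit 1, nat_lit 3, nat_lit 2, nat_lit 0])) (.leaf ((nat_lit 60), [nat_lit 0, nat_lit 3, nat_lit 1, nat_lit 3, nat_lit 2, nat_lit 0]))) (.node (nat_lit 1062) (.leaf ((nat_lit 77), [nat_lit 0, nat_lit 3, nat_lit 1, nat_lit 3, nat_lit 2, nat_lit 0])) (.leaf ((nat_lit 62), [nat_lit 0, nat_lit 3, nat_lit 0, nat_lit 3, nat_lit 1])))))
 (.node (nat_lit 1067) (.node (nat_lit 1065) (.node (nat_lit 1064) (.leaf ((nat_lit 61), [nat_lit 3, nat_lit 2])) (.leaf ((nat_lit 175), [nat_lit 0, nat_lit 3, nat_lit 0, nat_lit 3]))) (.node (nat_lit 1066) (.leaf ((nat_lit 320), [nat_lit 0, nat_lit 3, nat_lit 1, nat_lit 3, nat_lit 2, nat_lit 0])) (.leaf ((nat_lit 214), [nat_lit 0, nat_lit 3, nat_lit 1, nat_lit 3, nat_lit 2, nat_lit 0]))))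
 (.node (nat_lit 1069) (.node (nat_lit 1068) (.leaf ((nat_lit 200), [nat_lit 0, nat_lit 3, nat_lit 1, nat_lit 3, nat_lit 2, nat_lit 0])) (.leaf ((nat_lit 204), [nat_lit 3, nat_lit 1, nat_lit 3, nat_lit 2, nat_lit 1]))) (.node (nat_lit 1070) (.leaf ((nat_lit 252), [nat_lit 3, nat_lit 1, nat_lit 3, nat_lit 2, nat_lit 1])) (.leaf ((nat_lit 94), [nat_lit 3, nat_lit 1, nat_lit 3, nat_lit 2, nat_lit 0]))))))))
 (.node (nat_lit 1102) (.node (nat_lit 1086) (.node (nat_lit 1078) (.node (nat_lit 1074) (.node (nat_lit 1072) (.leaf ((nat_lit 61), [nat_lit 0, nat_lit 3, nat_lit 2, nat_lit 1])) (.node (nat_lit 1073) (.leaf ((nat_lit 96), [nat_lit 1, nat_lit 3, nat_lit 1, nat_lit 3, nat_lit 2, nat_lit 1])) (.leaf ((nat_lit 314), [nat_lit 0, nat_lit 3, nat_lit 1, nat_lit 3, nat_lit 2, nat_lit 0]))))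
 (.node (nat_lit 1076) (.node (nat_lit 1075) (.leaf ((nat_lit 282), [nat_lit 0, nat_lit 3, nat_lit 2, nat_lit 0])) (.leaf ((nat_lit 215), []))) (.node (nat_lit 1077) (.leaf ((nat_lit 156), [nat_lit 3, nat_lit 2])) (.leaf ((nat_lit 96), [nat_lit 0, nat_lit 3, nat_lit 2, nat_lit 1])))))
 (.node (nat_lit 1082) (.node (nat_lit 1080) (.node (nat_lit 1079) (.leaf ((nat_lit 61), [nat_lit 1, nat_lit 3, nat_lit 1, nat_lit 3, nat_lit 2, nat_lit 1])) (.leaf ((nat_lit 62), [nat_lit 2, nat_lit 3, nat_lit 1, nat_lit 3, nat_lit 2, nat_lit 0]))) (.node (nat_lit 1081) (.leaf ((nat_lit 175), [nat_lit 0, nat_lit 3, nat_lit 1, nat_lit 3, nat_lit 0])) (.leaf ((nat_lit 63), [nat_lit 1, nat_lit 3, nat_lit 2]))))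
 (.node (nat_lit 1084) (.node (nat_lit 1083) (.leaf ((nat_lit 62), [nat_lit 1, nat_lit 3, nat_lit 2, nat_lit 0])) (.leaf ((nat_lit 290), [nat_lit 0, nat_lit 3, nat_lit 1, nat_lit 3, nat_lit 2, nat_lit 0]))) (.node (nat_lit 1085) (.leaf ((nat_lit 79), [])) (.leaf ((nat_lit 70), [nat_lit 1, nat_lit 3, nat_lit 1, nat_lit 3, nat_lit 2]))))))
 (.node (nat_lit 1094) (.node (nat_lit 1090) (.node (nat_lit 1088) (.node (nat_lit 1087) (.leaf ((nat_lit 167), [nat_lit 0, nat_lit 3, nat_lit 2, nat_lit 1])) (.leaf ((nat_lit 189), [nat_lit 0, nat_lit 3, nat_lit 1]))) (.node (nat_lit 1089) (.leaf ((nat_lit 165), [nat_lit 1, nat_lit 3, nat_lit 1, nat_lit 3, nat_lit 0])) (.leaf ((nat_lit 62), [nat_lit 3, nat_lit 1, nat_lit 3, nat_lit 2]))))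
 (.node (nat_lit 1092) (.node (nat_lit 1091) (.leaf ((nat_lit 62), [nat_lit 3, nat_lit 2, nat_lit 0])) (.leaf ((nat_lit 181), [nat_lit 2]))) (.node (nat_lit 1093) (.leaf ((nat_lit 317), [nat_lit 3, nat_lit 1, nat_lit 3, nat_lit 2, nat_lit 0])) (.leaf ((nat_lit 220), [nat_lit 3, nat_lit 1, nat_lit 3, nat_lit 2, nat_lit 0])))))
 (.node (nat_lit 1098) (.node (nat_lit 1096) (.node (nat_lit 1095) (.leaf ((nat_lit 248), [nat_lit 0, nat_lit 3, nat_lit 1, nat_lit 3, nat_lit 2, nat_lit 1])) (.leaf ((nat_lit 277), [nat_lit 2, nat_lit 3, nat_lit 1, nat_lit 3, nat_lit 2, nat_lit 0]))) (.node (nat_lit 1097) (.leaf ((nat_lit 63), [nat_lit 0, nat_lit 3, nat_lit 2, nat_lit 0])) (.leaf ((nat_lit 272), [nat_lit 1, nat_lit 3, nat_lit 0]))))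
 (.node (nat_lit 1100) (.node (nat_lit 1099) (.leaf ((nat_lit 251), [nat_lit 0, nat_lit 3, nat_lit 2, nat_lit 1])) (.leaf ((nat_lit 142), [nat_lit 3, nat_lit 1, nat_lit 3]))) (.node (nat_lit 1101) (.leaf ((nat_lit 249), [nat_lit 2])) (.leaf ((nat_lit 65), [nat_lit 0, nat_lit 3, nat_lit 1, nat_lit 3, nat_lit 2, nat_lit 0])))))))
 (.node (nat_lit 1118) (.node (nat_lit 1110) (.node (nat_lit 1106) (.node (nat_lit 1104) (.node (nat_lit 1103) (.leaf ((nat_lit 64), [nat_lit 0, nat_lit 3, nat_lit 1, nat_lit 3, nat_lit 2, nat_lit 0])) (.leaf ((nat_lit 210), [nat_lit 3, nat_lit 1, nat_lit 3, nat_lit 2, nat_lit 1]))) (.node (nat_lit 1105) (.leaf ((nat_lit 172), [nat_lit 1, nat_lit 3, nat_lit 1, nat_lit 3, nat_lit 2, nat_lit 1])) (.leaf ((nat_lit 170), [nat_lit 3, nat_lit 0, nat_lit 3, nat_lit 2]))))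
 (.node (nat_lit 1108) (.node (nat_lit 1107) (.leaf ((nat_lit 169), [nat_lit 0, nat_lit 3, nat_lit 0, nat_lit 3, nat_lit 1])) (.leaf ((nat_lit 235), [nat_lit 0, nat_lit 3, nat_lit 1, nat_lit 3, nat_lit 2, nat_lit 0]))) (.node (nat_lit 1109) (.leaf ((nat_lit 169), [])) (.leaf ((nat_lit 64), [nat_lit 0, nat_lit 3, nat_lit 1, nat_lit 3, nat_lit 2, nat_lit 0])))))
 (.node (nat_lit 1114) (.node (nat_lit 1112) (.node (nat_lit 1111) (.leaf ((nat_lit 65), [nat_lit 0, nat_lit 3, nat_lit 1, nat_lit 3, nat_lit 2, nat_lit 1])) (.leaf ((nat_lit 168), [nat_lit 0]))) (.node (nat_lit 1113) (.leaf ((nat_lit 321), [nat_lit 0, nat_lit 3, nat_lit 1, nat_lit 3, nat_lit 0])) (.leaf ((nat_lit 203), [nat_lit 0, nat_lit 3, nat_lit 1, nat_lit 3, nat_lit 2, nat_lit 0]))))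
 (.node (nat_lit 1116) (.node (nat_lit 1115) (.leaf ((nat_lit 67), [nat_lit 0, nat_lit 3, nat_lit 1, nat_lit 3, nat_lit 2, nat_lit 0])) (.leaf ((nat_lit 230), [nat_lit 1, nat_lit 3, nat_lit 1, nat_lit 3, nat_lit 2]))) (.node (nat_lit 1117) (.leaf ((nat_lit 168), [nat_lit 1, nat_lit 3, nat_lit 1, nat_lit 3, nat_lit 2, nat_lit 0])) (.leaf ((nat_lit 65), [nat_lit 3, nat_lit 1, nat_lit 3, nat_lit 2]))))))
 (.node (nat_lit 1126) (.node (nat_lit 1122) (.node (nat_lit 1120) (.node (nat_lit 1119) (.leaf ((nat_lit 318), [nat_lit 0, nat_lit 3, nat_lit 1, nat_lit 3, nat_lit 0])) (.leaf ((nat_lit 291), [nat_lit 0, nat_lit 3, nat_lit 1, nat_lit 3, nat_lit 2, nat_lit 0]))) (.node (nat_lit 1121) (.leaf ((nat_lit 189), [nat_lit 0, nat_lit 3, nat_lit 1, nat_lit 3, nat_lit 2, nat_lit 0])) (.leaf ((nat_lit 219), [nat_lit 0, nat_lit 3, nat_lit 1, nat_lit 3, nat_lit 2, nat_lit 0]))))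
 (.node (nat_lit 1124) (.node (nat_lit 1123) (.leaf ((nat_lit 321), [nat_lit 0, nat_lit 3, nat_lit 1, nat_lit 3, nat_lit 2])) (.leaf ((nat_lit 318), [nat_lit 1, nat_lit 3, nat_lit 0]))) (.node (nat_lit 1125) (.leaf ((nat_lit 65), [nat_lit 0, nat_lit 3, nat_lit 1, nat_lit 3, nat_lit 1])) (.leaf ((nat_lit 285), [nat_lit 3, nat_lit 1, nat_lit 3, nat_lit 2])))))
 (.node (nat_lit 1130) (.node (nat_lit 1128) (.node (nat_lit 1127) (.leaf ((nat_lit 248), [nat_lit 3, nat_lit 2, nat_lit 0])) (.leaf ((nat_lit 247), [nat_lit 2, nat_lit 3, nat_lit 1, nat_lit 3, nat_lit 2, nat_lit 1]))) (.node (nat_lit 1129) (.leaf ((nat_lit 202), [])) (.leaf ((nat_lit 86), [nat_lit 1]))))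
 (.node (nat_lit 1132) (.node (nat_lit 1131) (.leaf ((nat_lit 290), [nat_lit 2])) (.leaf ((nat_lit 78), [nat_lit 0, nat_lit 3, nat_lit 1, nat_lit 3, nat_lit 2, nat_lit 0]))) (.node (nat_lit 1133) (.leaf ((nat_lit 77), [nat_lit 0, nat_lit 3, nat_lit 1, nat_lit 3, nat_lit 2, nat_lit 0])) (.leaf ((nat_lit 65), [nat_lit 3, nat_lit 1, nat_lit 3, nat_lit 2, nat_lit 1])))))))))
 (.node (nat_lit 1197) (.node (nat_lit 1165) (.node (nat_lit 1149) (.node (nat_lit 1141) (.node (nat_lit 1137) (.node (nat_lit 1135) (.leaf ((nat_lit 314), [nat_lit 2, nat_lit 3, nat_lit 1, nat_lit 3, nat_lit 2])) (.node (nat_lit 1136) (.leaf ((nat_lit 181), [nat_lit 0, nat_lit 3, nat_lit 1])) (.leaf ((nat_lit 214), [nat_lit 3, nat_lit 0, nat_lit 3, nat_lit 2]))))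
 (.node (nat_lit 1139) (.node (nat_lit 1138) (.leaf ((nat_lit 132), [nat_lit 0, nat_lit 3, nat_lit 1, nat_lit 3, nat_lit 2, nat_lit 0])) (.leaf ((nat_lit 186), [nat_lit 0, nat_lit 3, nat_lit 1, nat_lit 3, nat_lit 2, nat_lit 0]))) (.node (nat_lit 1140) (.leaf ((nat_lit 66), [nat_lit 0, nat_lit 3, nat_lit 1, nat_lit 3, nat_lit 2, nat_lit 0])) (.leaf ((nat_lit 67), [nat_lit 3, nat_lit 1, nat_lit 3, nat_lit 1])))))
 (.node (nat_lit 1145) (.node (nat_lit 1143) (.node (nat_lit 1142) (.leaf ((nat_lit 222), [nat_lit 1, nat_lit 3, nat_lit 1, nat_lit 3, nat_lit 0])) (.leaf ((nat_lit 174), [nat_lit 2, nat_lit 3, nat_lit 1, nat_lit 3, nat_lit 2, nat_lit 0]))) (.node (nat_lit 1144) (.leaf ((nat_lit 293), [nat_lit 2, nat_lit 3, nat_lit 1, nat_lit 3, nat_lit 2, nat_lit 0])) (.leaf ((nat_lit 282), [nat_lit 2, nat_lit 3, nat_lit 1, nat_lit 3, nat_lit 2, nat_lit 0]))))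
 (.node (nat_lit 1147) (.node (nat_lit 1146) (.leaf ((nat_lit 190), [nat_lit 3, nat_lit 1, nat_lit 3, nat_lit 2, nat_lit 1])) (.leaf ((nat_lit 222), [nat_lit 3, nat_lit 0, nat_lit 3, nat_lit 2]))) (.node (nat_lit 1148) (.leaf ((nat_lit 67), [nat_lit 3, nat_lit 2, nat_lit 1])) (.leaf ((nat_lit 82), [nat_lit 1, nat_lit 3, nat_lit 2]))))))
 (.node (nat_lit 1157) (.node (nat_lit 1153) (.node (nat_lit 1151) (.node (nat_lit 1150) (.leaf ((nat_lit 166), [nat_lit 0, nat_lit 3, nat_lit 2, nat_lit 0])) (.leaf ((nat_lit 166), [nat_lit 0, nat_lit 3, nat_lit 1, nat_lit 3, nat_lit 0]))) (.node (nat_lit 1152) (.leaf ((nat_lit 282), [nat_lit 2])) (.leaf ((nat_lit 174), [nat_lit 0, nat_lit 3, nat_lit 2]))))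
 (.node (nat_lit 1155) (.node (nat_lit 1154) (.leaf ((nat_lit 82), [nat_lit 0, nat_lit 3, nat_lit 2])) (.leaf ((nat_lit 67), [nat_lit 0, nat_lit 3, nat_lit 1, nat_lit 3, nat_lit 1]))) (.node (nat_lit 1156) (.leaf ((nat_lit 116), [nat_lit 0, nat_lit 3, nat_lit 2, nat_lit 1])) (.leaf ((nat_lit 319), [nat_lit 0, nat_lit 3, nat_lit 2, nat_lit 1])))))
 (.node (nat_lit 1161) (.node (nat_lit 1159) (.node (nat_lit 1158) (.leaf ((nat_lit 155), [nat_lit 1, nat_lit 3, nat_lit 1])) (.leaf ((nat_lit 69), [nat_lit 3, nat_lit 0, nat_lit 3, nat_lit 2]))) (.node (nat_lit 1160) (.leaf ((nat_lit 68), [nat_lit 3, nat_lit 2, nat_lit 1])) (.leaf ((nat_lit 132), [nat_lit 0, nat_lit 3, nat_lit 0, nat_lit 3, nat_lit 2]))))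
 (.node (nat_lit 1163) (.node (nat_lit 1162) (.leaf ((nat_lit 86), [nat_lit 1])) (.leaf ((nat_lit 72), [nat_lit 2, nat_lit 3, nat_lit 1, nat_lit 3, nat_lit 0]))) (.node (nat_lit 1164) (.leaf ((nat_lit 193), [nat_lit 0, nat_lit 3, nat_lit 2, nat_lit 0])) (.leaf ((nat_lit 134), [nat_lit 2, nat_lit 3, nat_lit 1, nat_lit 3])))))))
 (.node (nat_lit 1181) (.node (nat_lit 1173) (.node (nat_lit 1169) (.node (nat_lit 1167) (.node (nat_lit 1166) (.leaf ((nat_lit 78), [nat_lit 1, nat_lit 3, nat_lit 0])) (.leaf ((nat_lit 292), [nat_lit 0, nat_lit 3, nat_lit 0, nat_lit 3]))) (.node (nat_lit 1168) (.leaf ((nat_lit 68), [nat_lit 0, nat_lit 3, nat_lit 1, nat_lit 3, nat_lit 2, nat_lit 0])) (.leaf ((nat_lit 84), [nat_lit 0, nat_lit 3, nat_lit 1, nat_lit 3, nat_lit 2, nat_lit 0]))))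
 (.node (nat_lit 1171) (.node (nat_lit 1170) (.leaf ((nat_lit 161), [nat_lit 3, nat_lit 1, nat_lit 3, nat_lit 2, nat_lit 1])) (.leaf ((nat_lit 294), [nat_lit 2, nat_lit 3, nat_lit 1, nat_lit 3]))) (.node (nat_lit 1172) (.leaf ((nat_lit 75), [nat_lit 1, nat_lit 3, nat_lit 0])) (.leaf ((nat_lit 312), [nat_lit 3, nat_lit 2])))))
 (.node (nat_lit 1177) (.node (nat_lit 1175) (.node (nat_lit 1174) (.leaf ((nat_lit 84), [nat_lit 0, nat_lit 3, nat_lit 1, nat_lit 3, nat_lit 2, nat_lit 0])) (.leaf ((nat_lit 68), [nat_lit 0, nat_lit 3, nat_lit 1, nat_lit 3, nat_lit 2, nat_lit 0]))) (.node (nat_lit 1176) (.leaf ((nat_lit 315), [nat_lit 1, nat_lit 3, nat_lit 1, nat_lit 3, nat_lit 2])) (.leaf ((nat_lit 132), [nat_lit 3, nat_lit 1, nat_lit 3, nat_lit 2, nat_lit 0]))))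
 (.node (nat_lit 1179) (.node (nat_lit 1178) (.leaf ((nat_lit 70), [nat_lit 1, nat_lit 3, nat_lit 1, nat_lit 3, nat_lit 2, nat_lit 1])) (.leaf ((nat_lit 69), [nat_lit 1, nat_lit 3, nat_lit 1, nat_lit 3, nat_lit 2, nat_lit 0]))) (.node (nat_lit 1180) (.leaf ((nat_lit 229), [nat_lit 0, nat_lit 3, nat_lit 1, nat_lit 3, nat_lit 2, nat_lit 0])) (.leaf ((nat_lit 322), [nat_lit 0, nat_lit 3, nat_lit 1, nat_lit 3, nat_lit 2, nat_lit 0]))))))
 (.node (nat_lit 1189) (.node (nat_lit 1185) (.node (nat_lit 1183) (.node (nat_lit 1182) (.leaf ((nat_lit 137), [nat_lit 3, nat_lit 1, nat_lit 3, nat_lit 2, nat_lit 1])) (.leaf ((nat_lit 323), [nat_lit 2, nat_lit 3, nat_lit 1, nat_lit 3]))) (.node (nat_lit 1184) (.leaf ((nat_lit 77), [nat_lit 1, nat_lit 3, nat_lit 0])) (.leaf ((nat_lit 308), [nat_lit 2]))))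
 (.node (nat_lit 1187) (.node (nat_lit 1186) (.leaf ((nat_lit 69), [nat_lit 0, nat_lit 3, nat_lit 1, nat_lit 3, nat_lit 2, nat_lit 0])) (.leaf ((nat_lit 230), [nat_lit 0, nat_lit 3, nat_lit 1, nat_lit 3, nat_lit 2, nat_lit 0]))) (.node (nat_lit 1188) (.leaf ((nat_lit 317), [nat_lit 0, nat_lit 3, nat_lit 1, nat_lit 3, nat_lit 2, nat_lit 0])) (.leaf ((nat_lit 237), [nat_lit 2, nat_lit 3, nat_lit 1, nat_lit 3])))))
 (.node (nat_lit 1193) (.node (nat_lit 1191) (.node (nat_lit 1190) (.leaf ((nat_lit 74), [nat_lit 1, nat_lit 3, nat_lit 0])) (.leaf ((nat_lit 324), []))) (.node (nat_lit 1192) (.leaf ((nat_lit 230), [nat_lit 0, nat_lit 3, nat_lit 1, nat_lit 3, nat_lit 2, nat_lit 0])) (.leaf ((nat_lit 69), [nat_lit 0, nat_lit 3, nat_lit 1, nat_lit 3, nat_lit 2, nat_lit 0]))))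
 (.node (nat_lit 1195) (.node (nat_lit 1194) (.leaf ((nat_lit 167), [nat_lit 1, nat_lit 3, nat_lit 1, nat_lit 3, nat_lit 2])) (.leaf ((nat_lit 79), [nat_lit 0, nat_lit 3, nat_lit 0, nat_lit 3, nat_lit 1]))) (.node (nat_lit 1196) (.leaf ((nat_lit 123), [nat_lit 0, nat_lit 3, nat_lit 0, nat_lit 3, nat_lit 2, nat_lit 0])) (.leaf ((nat_lit 240), [nat_lit 3, nat_lit 0]))))))))
 (.node (nat_lit 1228) (.node (nat_lit 1212) (.node (nat_lit 1204) (.node (nat_lit 1200) (.node (nat_lit 1198) (.leaf ((nat_lit 267), [nat_lit 0, nat_lit 3, nat_lit 1, nat_lit 3, nat_lit 2, nat_lit 0])) (.node (nat_lit 1199) (.leaf ((nat_lit 82), [])) (.leaf ((nat_lit 69), [nat_lit 0, nat_lit 3, nat_lit 1, nat_lit 3, nat_lit 2, nat_lit 0]))))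
 (.node (nat_lit 1202) (.node (nat_lit 1201) (.leaf ((nat_lit 136), [nat_lit 3, nat_lit 0, nat_lit 3, nat_lit 1])) (.leaf ((nat_lit 135), [nat_lit 1, nat_lit 3, nat_lit 1, nat_lit 3]))) (.node (nat_lit 1203) (.leaf ((nat_lit 283), [nat_lit 3, nat_lit 1, nat_lit 3, nat_lit 0])) (.leaf ((nat_lit 275), [nat_lit 0, nat_lit 3, nat_lit 1, nat_lit 3, nat_lit 2, nat_lit 0])))))
 (.node (nat_lit 1208) (.node (nat_lit 1206) (.node (nat_lit 1205) (.leaf ((nat_lit 70), [nat_lit 0, nat_lit 3, nat_lit 1, nat_lit 3, nat_lit 2, nat_lit 0])) (.leaf ((nat_lit 177), [nat_lit 0, nat_lit 3, nat_lit 1, nat_lit 3, nat_lit 2, nat_lit 0]))) (.node (nat_lit 1207) (.leaf ((nat_lit 227), [nat_lit 0, nat_lit 3, nat_lit 1, nat_lit 3, nat_lit 1])) (.leaf ((nat_lit 225), [nat_lit 2]))))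
 (.node (nat_lit 1210) (.node (nat_lit 1209) (.leaf ((nat_lit 71), [nat_lit 0, nat_lit 3, nat_lit 0, nat_lit 3])) (.leaf ((nat_lit 276), [nat_lit 0, nat_lit 3, nat_lit 1, nat_lit 3, nat_lit 2, nat_lit 0]))) (.node (nat_lit 1211) (.leaf ((nat_lit 283), [])) (.leaf ((nat_lit 208), [nat_lit 1, nat_lit 3, nat_lit 1, nat_lit 3, nat_lit 2]))))))
 (.node (nat_lit 1220) (.node (nat_lit 1216) (.node (nat_lit 1214) (.node (nat_lit 1213) (.leaf ((nat_lit 188), [])) (.leaf ((nat_lit 230), [nat_lit 0, nat_lit 3, nat_lit 1, nat_lit 3, nat_lit 2, nat_lit 0]))) (.node (nat_lit 1215) (.leaf ((nat_lit 130), [nat_lit 0, nat_lit 3, nat_lit 0, nat_lit 3, nat_lit 2, nat_lit 0])) (.leaf ((nat_lit 72), [nat_lit 1]))))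
 (.node (nat_lit 1218) (.node (nat_lit 1217) (.leaf ((nat_lit 86), [nat_lit 0, nat_lit 3, nat_lit 0, nat_lit 3, nat_lit 2, nat_lit 1])) (.leaf ((nat_lit 71), [nat_lit 0, nat_lit 3, nat_lit 1]))) (.node (nat_lit 1219) (.leaf ((nat_lit 300), [nat_lit 1, nat_lit 3, nat_lit 1, nat_lit 3, nat_lit 2, nat_lit 0])) (.leaf ((nat_lit 104), [nat_lit 3, nat_lit 0, nat_lit 3, nat_lit 2, nat_lit 0])))))
 (.node (nat_lit 1224) (.node (nat_lit 1222) (.node (nat_lit 1221) (.leaf ((nat_lit 285), [nat_lit 0, nat_lit 3, nat_lit 1, nat_lit 3, nat_lit 2, nat_lit 1])) (.leaf ((nat_lit 185), [nat_lit 0, nat_lit 3, nat_lit 1, nat_lit 3, nat_lit 2, nat_lit 0]))) (.node (nat_lit 1223) (.leaf ((nat_lit 73), [nat_lit 0, nat_lit 3, nat_lit 1, nat_lit 3, nat_lit 2, nat_lit 0])) (.leaf ((nat_lit 323), [nat_lit 1, nat_lit 3, nat_lit 1, nat_lit 3, nat_lit 2]))))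
 (.node (nat_lit 1226) (.node (nat_lit 1225) (.leaf ((nat_lit 178), [nat_lit 3, nat_lit 1, nat_lit 3, nat_lit 2, nat_lit 1])) (.leaf ((nat_lit 324), [nat_lit 1]))) (.node (nat_lit 1227) (.leaf ((nat_lit 74), [nat_lit 1, nat_lit 3])) (.leaf ((nat_lit 265), [nat_lit 3])))))))
 (.node (nat_lit 1244) (.node (nat_lit 1236) (.node (nat_lit 1232) (.node (nat_lit 1230) (.node (nat_lit 1229) (.leaf ((nat_lit 300), [nat_lit 1, nat_lit 3, nat_lit 0])) (.leaf ((nat_lit 92), []))) (.node (nat_lit 1231) (.leaf ((nat_lit 75), [nat_lit 3, nat_lit 0, nat_lit 3, nat_lit 2])) (.leaf ((nat_lit 294), [nat_lit 3, nat_lit 2, nat_lit 1]))))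
 (.node (nat_lit 1234) (.node (nat_lit 1233) (.leaf ((nat_lit 310), [nat_lit 3, nat_lit 0, nat_lit 3])) (.leaf ((nat_lit 294), [nat_lit 0, nat_lit 3, nat_lit 1, nat_lit 3, nat_lit 2, nat_lit 0]))) (.node (nat_lit 1235) (.leaf ((nat_lit 94), [nat_lit 0, nat_lit 3, nat_lit 1, nat_lit 3, nat_lit 2, nat_lit 0])) (.leaf ((nat_lit 267), [nat_lit 0, nat_lit 3, nat_lit 1, nat_lit 3, nat_lit 2, nat_lit 0])))))
 (.node (nat_lit 1240) (.node (nat_lit 1238) (.node (nat_lit 1237) (.leaf ((nat_lit 310), [nat_lit 1, nat_lit 3, nat_lit 1, nat_lit 3, nat_lit 0])) (.leaf ((nat_lit 312), [nat_lit 3, nat_lit 0, nat_lit 3]))) (.node (nat_lit 1239) (.leaf ((nat_lit 75), [nat_lit 1, nat_lit 3, nat_lit 1, nat_lit 3, nat_lit 2, nat_lit 1])) (.leaf ((nat_lit 248), [nat_lit 3, nat_lit 2, nat_lit 0]))))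
 (.node (nat_lit 1242) (.node (nat_lit 1241) (.leaf ((nat_lit 285), [nat_lit 3, nat_lit 1, nat_lit 3, nat_lit 2])) (.leaf ((nat_lit 126), [nat_lit 1, nat_lit 3, nat_lit 2, nat_lit 1]))) (.node (nat_lit 1243) (.leaf ((nat_lit 218), [nat_lit 0, nat_lit 3, nat_lit 0])) (.leaf ((nat_lit 217), [nat_lit 0, nat_lit 3, nat_lit 0, nat_lit 3, nat_lit 2, nat_lit 0]))))))
 (.node (nat_lit 1252) (.node (nat_lit 1248) (.node (nat_lit 1246) (.node (nat_lit 1245) (.leaf ((nat_lit 263), [nat_lit 2, nat_lit 3, nat_lit 1, nat_lit 3])) (.leaf ((nat_lit 214), [nat_lit 0, nat_lit 3, nat_lit 1, nat_lit 3, nat_lit 2, nat_lit 0]))) (.node (nat_lit 1247) (.leaf ((nat_lit 320), [nat_lit 0, nat_lit 3, nat_lit 1, nat_lit 3, nat_lit 2, nat_lit 0])) (.leaf ((nat_lit 75), [nat_lit 3, nat_lit 1, nat_lit 3, nat_lit 2, nat_lit 1]))))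
 (.node (nat_lit 1250) (.node (nat_lit 1249) (.leaf ((nat_lit 288), [nat_lit 3, nat_lit 1, nat_lit 3, nat_lit 0])) (.leaf ((nat_lit 325), [nat_lit 1, nat_lit 3, nat_lit 0]))) (.node (nat_lit 1251) (.leaf ((nat_lit 326), [nat_lit 3, nat_lit 1, nat_lit 3, nat_lit 0])) (.leaf ((nat_lit 76), [nat_lit 0, nat_lit 3, nat_lit 1, nat_lit 3, nat_lit 2, nat_lit 0])))))
 (.node (nat_lit 1256) (.node (nat_lit 1254) (.node (nat_lit 1253) (.leaf ((nat_lit 228), [nat_lit 0, nat_lit 3, nat_lit 1, nat_lit 3, nat_lit 2, nat_lit 0])) (.leaf ((nat_lit 201), [nat_lit 1, nat_lit 3, nat_lit 1, nat_lit 3, nat_lit 2]))) (.node (nat_lit 1255) (.leaf ((nat_lit 295), [nat_lit 2, nat_lit 0])) (.leaf ((nat_lit 239), [nat_lit 1, nat_lit 3, nat_lit 1, nat_lit 3, nat_lit 1]))))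
 (.node (nat_lit 1258) (.node (nat_lit 1257) (.leaf ((nat_lit 243), [nat_lit 3, nat_lit 0, nat_lit 3])) (.leaf ((nat_lit 228), [nat_lit 0, nat_lit 3, nat_lit 1, nat_lit 3, nat_lit 2, nat_lit 0]))) (.node (nat_lit 1259) (.leaf ((nat_lit 76), [nat_lit 0, nat_lit 3, nat_lit 1, nat_lit 3, nat_lit 2, nat_lit 0])) (.leaf ((nat_lit 237), [nat_lit 1, nat_lit 3, nat_lit 1, nat_lit 3, nat_lit 2]))))))))))
noncomputable def n3Wd_5 : Tr (ℕ × List ℕ) := (.node (nat_lit 1386) (.node (nat_lit 1323) (.node (nat_lit 1291) (.node (nat_lit 1275) (.node (nat_lit 1267) (.node (nat_lit 1263) (.node (nat_lit 1261) (.leaf ((nat_lit 77), [nat_lit 3, nat_lit 0, nat_lit 3, nat_lit 2])) (.node (nat_lit 1262) (.leaf ((nat_lit 323), [nat_lit 3, nat_lit 2, nat_lit 1])) (.leaf ((nat_lit 262), [nat_lit 3, nat_lit 2, nat_lit 0]))))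
 (.node (nat_lit 1265) (.node (nat_lit 1264) (.leaf ((nat_lit 212), [nat_lit 0, nat_lit 3, nat_lit 1, nat_lit 3, nat_lit 2, nat_lit 0])) (.leaf ((nat_lit 323), [nat_lit 0, nat_lit 3, nat_lit 1, nat_lit 3, nat_lit 2, nat_lit 0]))) (.node (nat_lit 1266) (.leaf ((nat_lit 183), [nat_lit 3, nat_lit 1, nat_lit 3, nat_lit 2, nat_lit 1])) (.leaf ((nat_lit 262), [nat_lit 1, nat_lit 3, nat_lit 1, nat_lit 3, nat_lit 0])))))
 (.node (nat_lit 1271) (.node (nat_lit 1269) (.node (nat_lit 1268) (.leaf ((nat_lit 308), [nat_lit 3, nat_lit 0, nat_lit 3])) (.leaf ((nat_lit 77), [nat_lit 0, nat_lit 3, nat_lit 2, nat_lit 1]))) (.node (nat_lit 1270) (.leaf ((nat_lit 117), [nat_lit 3, nat_lit 2, nat_lit 0])) (.leaf ((nat_lit 327), [nat_lit 3, nat_lit 1, nat_lit 3, nat_lit 2]))))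
 (.node (nat_lit 1273) (.node (nat_lit 1272) (.leaf ((nat_lit 299), [nat_lit 3, nat_lit 1, nat_lit 3, nat_lit 2, nat_lit 1])) (.leaf ((nat_lit 78), [nat_lit 3, nat_lit 0, nat_lit 3, nat_lit 2]))) (.node (nat_lit 1274) (.leaf ((nat_lit 134), [nat_lit 3, nat_lit 2, nat_lit 1])) (.leaf ((nat_lit 163), [nat_lit 0]))))))
 (.node (nat_lit 1283) (.node (nat_lit 1279) (.node (nat_lit 1277) (.node (nat_lit 1276) (.leaf ((nat_lit 210), [nat_lit 0, nat_lit 3, nat_lit 1, nat_lit 3, nat_lit 2, nat_lit 0])) (.leaf ((nat_lit 237), [nat_lit 0, nat_lit 3, nat_lit 1, nat_lit 3, nat_lit 2, nat_lit 0]))) (.node (nat_lit 1278) (.leaf ((nat_lit 322), [nat_lit 3, nat_lit 1, nat_lit 3, nat_lit 2, nat_lit 1])) (.leaf ((nat_lit 163), [nat_lit 0, nat_lit 3, nat_lit 1, nat_lit 3, nat_lit 2, nat_lit 0]))))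
 (.node (nat_lit 1281) (.node (nat_lit 1280) (.leaf ((nat_lit 292), [nat_lit 3, nat_lit 0, nat_lit 3, nat_lit 0])) (.leaf ((nat_lit 78), [nat_lit 0, nat_lit 3, nat_lit 2, nat_lit 1]))) (.node (nat_lit 1282) (.leaf ((nat_lit 165), [nat_lit 2, nat_lit 3, nat_lit 1, nat_lit 3, nat_lit 2, nat_lit 0])) (.leaf ((nat_lit 243), [nat_lit 0, nat_lit 3, nat_lit 2, nat_lit 0])))))
 (.node (nat_lit 1287) (.node (nat_lit 1285) (.node (nat_lit 1284) (.leaf ((nat_lit 242), [nat_lit 3, nat_lit 1, nat_lit 3, nat_lit 2, nat_lit 1])) (.leaf ((nat_lit 166), [nat_lit 2]))) (.node (nat_lit 1286) (.leaf ((nat_lit 165), [nat_lit 0, nat_lit 3, nat_lit 1])) (.leaf ((nat_lit 189), [nat_lit 2, nat_lit 3, nat_lit 1, nat_lit 3]))))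
 (.node (nat_lit 1289) (.node (nat_lit 1288) (.leaf ((nat_lit 207), [nat_lit 0, nat_lit 3, nat_lit 1, nat_lit 3, nat_lit 2, nat_lit 0])) (.leaf ((nat_lit 177), [nat_lit 0, nat_lit 3, nat_lit 1, nat_lit 3, nat_lit 2, nat_lit 0]))) (.node (nat_lit 1290) (.leaf ((nat_lit 78), [nat_lit 3, nat_lit 1, nat_lit 3, nat_lit 2, nat_lit 1])) (.leaf ((nat_lit 240), [nat_lit 1, nat_lit 3, nat_lit 1, nat_lit 3, nat_lit 2, nat_lit 1])))))))
 (.node (nat_lit 1307) (.node (nat_lit 1299) (.node (nat_lit 1295) (.node (nat_lit 1293) (.node (nat_lit 1292) (.leaf ((nat_lit 179), [])) (.leaf ((nat_lit 79), [nat_lit 1, nat_lit 3, nat_lit 0]))) (.node (nat_lit 1294) (.leaf ((nat_lit 243), [nat_lit 2, nat_lit 3, nat_lit 1, nat_lit 3, nat_lit 2, nat_lit 0])) (.leaf ((nat_lit 165), [nat_lit 0, nat_lit 3, nat_lit 2, nat_lit 0]))))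
 (.node (nat_lit 1297) (.node (nat_lit 1296) (.leaf ((nat_lit 136), [nat_lit 3])) (.leaf ((nat_lit 328), [nat_lit 0, nat_lit 3, nat_lit 0, nat_lit 3, nat_lit 1]))) (.node (nat_lit 1298) (.leaf ((nat_lit 149), [nat_lit 3, nat_lit 2, nat_lit 0])) (.leaf ((nat_lit 327), [nat_lit 2, nat_lit 3, nat_lit 1, nat_lit 3])))))
 (.node (nat_lit 1303) (.node (nat_lit 1301) (.node (nat_lit 1300) (.leaf ((nat_lit 79), [nat_lit 0, nat_lit 3, nat_lit 1, nat_lit 3, nat_lit 2, nat_lit 0])) (.leaf ((nat_lit 290), []))) (.node (nat_lit 1302) (.leaf ((nat_lit 294), [nat_lit 0, nat_lit 3, nat_lit 1, nat_lit 3, nat_lit 2, nat_lit 0])) (.leaf ((nat_lit 80), [nat_lit 0, nat_lit 3, nat_lit 0, nat_lit 3, nat_lit 1]))))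
 (.node (nat_lit 1305) (.node (nat_lit 1304) (.leaf ((nat_lit 207), [nat_lit 0, nat_lit 3, nat_lit 0, nat_lit 3, nat_lit 2, nat_lit 0])) (.leaf ((nat_lit 150), [nat_lit 1, nat_lit 3, nat_lit 2]))) (.node (nat_lit 1306) (.leaf ((nat_lit 292), [nat_lit 0, nat_lit 3, nat_lit 1, nat_lit 3, nat_lit 2, nat_lit 1])) (.leaf ((nat_lit 304), [nat_lit 0, nat_lit 3, nat_lit 1, nat_lit 3]))))))
 (.node (nat_lit 1315) (.node (nat_lit 1311) (.node (nat_lit 1309) (.node (nat_lit 1308) (.leaf ((nat_lit 148), [])) (.leaf ((nat_lit 207), [nat_lit 1, nat_lit 3, nat_lit 1]))) (.node (nat_lit 1310) (.leaf ((nat_lit 80), [nat_lit 2, nat_lit 3, nat_lit 1, nat_lit 3, nat_lit 0])) (.leaf ((nat_lit 151), [nat_lit 3, nat_lit 1, nat_lit 3, nat_lit 0]))))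
 (.node (nat_lit 1313) (.node (nat_lit 1312) (.leaf ((nat_lit 325), [nat_lit 1, nat_lit 3, nat_lit 1, nat_lit 3, nat_lit 2, nat_lit 1])) (.leaf ((nat_lit 325), [nat_lit 0, nat_lit 3, nat_lit 0, nat_lit 3]))) (.node (nat_lit 1314) (.leaf ((nat_lit 319), [nat_lit 3, nat_lit 0])) (.leaf ((nat_lit 275), [nat_lit 3, nat_lit 1, nat_lit 3, nat_lit 2, nat_lit 0])))))
 (.node (nat_lit 1319) (.node (nat_lit 1317) (.node (nat_lit 1316) (.leaf ((nat_lit 228), [nat_lit 1, nat_lit 3, nat_lit 1, nat_lit 3, nat_lit 2, nat_lit 1])) (.leaf ((nat_lit 289), [nat_lit 3, nat_lit 1, nat_lit 3, nat_lit 2, nat_lit 0]))) (.node (nat_lit 1318) (.leaf ((nat_lit 81), [nat_lit 0, nat_lit 3, nat_lit 1, nat_lit 3, nat_lit 2, nat_lit 0])) (.leaf ((nat_lit 80), [nat_lit 0, nat_lit 3, nat_lit 1, nat_lit 3, nat_lit 2, nat_lit 0]))))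
 (.node (nat_lit 1321) (.node (nat_lit 1320) (.leaf ((nat_lit 186), [nat_lit 0, nat_lit 3, nat_lit 1, nat_lit 3, nat_lit 2, nat_lit 0])) (.leaf ((nat_lit 298), [nat_lit 2]))) (.node (nat_lit 1322) (.leaf ((nat_lit 182), [nat_lit 0, nat_lit 3, nat_lit 1, nat_lit 3, nat_lit 2, nat_lit 1])) (.leaf ((nat_lit 176), [nat_lit 0, nat_lit 3, nat_lit 1, nat_lit 3, nat_lit 2, nat_lit 1]))))))))
 (.node (nat_lit 1354) (.node (nat_lit 1338) (.node (nat_lit 1330) (.node (nat_lit 1326) (.node (nat_lit 1324) (.leaf ((nat_lit 85), [nat_lit 0, nat_lit 3, nat_lit 1, nat_lit 3, nat_lit 2, nat_lit 0])) (.node (nat_lit 1325) (.leaf ((nat_lit 156), [])) (.leaf ((nat_lit 80), [nat_lit 3, nat_lit 1, nat_lit 3, nat_lit 2, nat_lit 1]))))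
 (.node (nat_lit 1328) (.node (nat_lit 1327) (.leaf ((nat_lit 157), [nat_lit 1, nat_lit 3, nat_lit 1])) (.leaf ((nat_lit 238), [nat_lit 0, nat_lit 3, nat_lit 1, nat_lit 3, nat_lit 2, nat_lit 0]))) (.node (nat_lit 1329) (.leaf ((nat_lit 81), [nat_lit 1, nat_lit 3, nat_lit 2, nat_lit 0])) (.leaf ((nat_lit 156), [nat_lit 0, nat_lit 3, nat_lit 1, nat_lit 3, nat_lit 2, nat_lit 0])))))
 (.node (nat_lit 1334) (.node (nat_lit 1332) (.node (nat_lit 1331) (.leaf ((nat_lit 85), [])) (.leaf ((nat_lit 164), [nat_lit 1, nat_lit 3, nat_lit 1, nat_lit 3, nat_lit 2]))) (.node (nat_lit 1333) (.leaf ((nat_lit 191), [nat_lit 2, nat_lit 3, nat_lit 1, nat_lit 3])) (.leaf ((nat_lit 190), [nat_lit 2, nat_lit 3, nat_lit 1, nat_lit 3, nat_lit 2]))))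
 (.node (nat_lit 1336) (.node (nat_lit 1335) (.leaf ((nat_lit 223), [nat_lit 1, nat_lit 3, nat_lit 1, nat_lit 3, nat_lit 0])) (.leaf ((nat_lit 329), [nat_lit 0, nat_lit 3, nat_lit 1, nat_lit 3, nat_lit 2, nat_lit 0]))) (.node (nat_lit 1337) (.leaf ((nat_lit 167), [nat_lit 0, nat_lit 3, nat_lit 1, nat_lit 3, nat_lit 2, nat_lit 0])) (.leaf ((nat_lit 81), [nat_lit 0, nat_lit 3, nat_lit 1, nat_lit 3, nat_lit 2, nat_lit 0]))))))
 (.node (nat_lit 1346) (.node (nat_lit 1342) (.node (nat_lit 1340) (.node (nat_lit 1339) (.leaf ((nat_lit 82), [nat_lit 3, nat_lit 0, nat_lit 3, nat_lit 2, nat_lit 0])) (.leaf ((nat_lit 174), [nat_lit 3, nat_lit 0, nat_lit 3, nat_lit 2, nat_lit 0]))) (.node (nat_lit 1341) (.leaf ((nat_lit 222), [nat_lit 2, nat_lit 3, nat_lit 1, nat_lit 3, nat_lit 2])) (.leaf ((nat_lit 266), [nat_lit 3, nat_lit 1, nat_lit 3, nat_lit 2]))))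
 (.node (nat_lit 1344) (.node (nat_lit 1343) (.leaf ((nat_lit 316), [nat_lit 3, nat_lit 1, nat_lit 3, nat_lit 2])) (.leaf ((nat_lit 131), [nat_lit 1, nat_lit 3, nat_lit 2, nat_lit 1]))) (.node (nat_lit 1345) (.leaf ((nat_lit 160), [nat_lit 0, nat_lit 3, nat_lit 1, nat_lit 3, nat_lit 1])) (.leaf ((nat_lit 130), [nat_lit 2])))))
 (.node (nat_lit 1350) (.node (nat_lit 1348) (.node (nat_lit 1347) (.leaf ((nat_lit 230), [nat_lit 0, nat_lit 3, nat_lit 0, nat_lit 3, nat_lit 2, nat_lit 0])) (.leaf ((nat_lit 82), [nat_lit 0, nat_lit 3, nat_lit 1, nat_lit 3, nat_lit 2, nat_lit 0]))) (.node (nat_lit 1349) (.leaf ((nat_lit 267), [])) (.leaf ((nat_lit 99), [nat_lit 3, nat_lit 1, nat_lit 3, nat_lit 2, nat_lit 1]))))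
 (.node (nat_lit 1352) (.node (nat_lit 1351) (.leaf ((nat_lit 85), [nat_lit 0, nat_lit 3, nat_lit 1, nat_lit 3, nat_lit 1])) (.leaf ((nat_lit 201), [nat_lit 2]))) (.node (nat_lit 1353) (.leaf ((nat_lit 83), [nat_lit 0, nat_lit 3, nat_lit 0, nat_lit 3, nat_lit 1])) (.leaf ((nat_lit 305), [nat_lit 0, nat_lit 3, nat_lit 1, nat_lit 3, nat_lit 2, nat_lit 0])))))))
 (.node (nat_lit 1370) (.node (nat_lit 1362) (.node (nat_lit 1358) (.node (nat_lit 1356) (.node (nat_lit 1355) (.leaf ((nat_lit 141), [nat_lit 0, nat_lit 3, nat_lit 1, nat_lit 3, nat_lit 2, nat_lit 0])) (.leaf ((nat_lit 330), [nat_lit 3, nat_lit 1, nat_lit 3, nat_lit 2, nat_lit 1]))) (.node (nat_lit 1357) (.leaf ((nat_lit 228), [nat_lit 0, nat_lit 3, nat_lit 1, nat_lit 3, nat_lit 2])) (.leaf ((nat_lit 275), [nat_lit 1]))))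
 (.node (nat_lit 1360) (.node (nat_lit 1359) (.leaf ((nat_lit 309), [nat_lit 0, nat_lit 3, nat_lit 1, nat_lit 3])) (.leaf ((nat_lit 322), [nat_lit 0, nat_lit 3, nat_lit 1, nat_lit 3, nat_lit 2, nat_lit 0]))) (.node (nat_lit 1361) (.leaf ((nat_lit 229), [nat_lit 0, nat_lit 3, nat_lit 1, nat_lit 3, nat_lit 2, nat_lit 0])) (.leaf ((nat_lit 83), [nat_lit 3, nat_lit 1, nat_lit 3, nat_lit 2, nat_lit 1])))))
 (.node (nat_lit 1366) (.node (nat_lit 1364) (.node (nat_lit 1363) (.leaf ((nat_lit 201), [nat_lit 0, nat_lit 3, nat_lit 0, nat_lit 3, nat_lit 1])) (.leaf ((nat_lit 85), [nat_lit 0, nat_lit 3, nat_lit 0, nat_lit 3, nat_lit 2, nat_lit 0]))) (.node (nat_lit 1365) (.leaf ((nat_lit 84), [nat_lit 0, nat_lit 3, nat_lit 1, nat_lit 3, nat_lit 1])) (.leaf ((nat_lit 261), [nat_lit 0, nat_lit 3, nat_lit 1, nat_lit 3, nat_lit 2, nat_lit 0]))))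
 (.node (nat_lit 1368) (.node (nat_lit 1367) (.leaf ((nat_lit 101), [nat_lit 0, nat_lit 3, nat_lit 1, nat_lit 3, nat_lit 2, nat_lit 0])) (.leaf ((nat_lit 331), [nat_lit 1, nat_lit 3, nat_lit 1, nat_lit 3, nat_lit 2]))) (.node (nat_lit 1369) (.leaf ((nat_lit 226), [nat_lit 1, nat_lit 3, nat_lit 1, nat_lit 3, nat_lit 2, nat_lit 0])) (.leaf ((nat_lit 219), [nat_lit 3, nat_lit 1, nat_lit 3, nat_lit 2]))))))
 (.node (nat_lit 1378) (.node (nat_lit 1374) (.node (nat_lit 1372) (.node (nat_lit 1371) (.leaf ((nat_lit 273), [nat_lit 0, nat_lit 3, nat_lit 1, nat_lit 3, nat_lit 0])) (.leaf ((nat_lit 209), [nat_lit 0, nat_lit 3, nat_lit 1, nat_lit 3, nat_lit 2, nat_lit 0]))) (.node (nat_lit 1373) (.leaf ((nat_lit 208), [nat_lit 0, nat_lit 3, nat_lit 1, nat_lit 3, nat_lit 2, nat_lit 0])) (.leaf ((nat_lit 84), [nat_lit 1, nat_lit 3, nat_lit 1, nat_lit 3, nat_lit 2]))))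
 (.node (nat_lit 1376) (.node (nat_lit 1375) (.leaf ((nat_lit 313), [nat_lit 0, nat_lit 3, nat_lit 2])) (.leaf ((nat_lit 326), [nat_lit 1, nat_lit 3, nat_lit 1, nat_lit 3, nat_lit 2]))) (.node (nat_lit 1377) (.leaf ((nat_lit 325), [nat_lit 0, nat_lit 3, nat_lit 0, nat_lit 3, nat_lit 2, nat_lit 1])) (.leaf ((nat_lit 196), [nat_lit 0, nat_lit 3, nat_lit 1, nat_lit 3, nat_lit 2, nat_lit 0])))))
 (.node (nat_lit 1382) (.node (nat_lit 1380) (.node (nat_lit 1379) (.leaf ((nat_lit 226), [nat_lit 0, nat_lit 3, nat_lit 1, nat_lit 3, nat_lit 2, nat_lit 0])) (.leaf ((nat_lit 85), [nat_lit 3, nat_lit 1, nat_lit 3, nat_lit 2, nat_lit 1]))) (.node (nat_lit 1381) (.leaf ((nat_lit 86), [nat_lit 3, nat_lit 1, nat_lit 3, nat_lit 2, nat_lit 0])) (.leaf ((nat_lit 202), [nat_lit 0, nat_lit 3, nat_lit 1, nat_lit 3, nat_lit 2, nat_lit 0]))))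
 (.node (nat_lit 1384) (.node (nat_lit 1383) (.leaf ((nat_lit 224), [nat_lit 0, nat_lit 3, nat_lit 0, nat_lit 3, nat_lit 2, nat_lit 0])) (.leaf ((nat_lit 198), [nat_lit 0, nat_lit 3, nat_lit 1, nat_lit 3, nat_lit 2, nat_lit 0]))) (.node (nat_lit 1385) (.leaf ((nat_lit 197), [nat_lit 0, nat_lit 3, nat_lit 1, nat_lit 3, nat_lit 2, nat_lit 0])) (.leaf ((nat_lit 185), [nat_lit 1, nat_lit 3, nat_lit 1, nat_lit 3, nat_lit 2])))))))))
 (.node (nat_lit 1449) (.node (nat_lit 1417) (.node (nat_lit 1401) (.node (nat_lit 1393) (.node (nat_lit 1389) (.node (nat_lit 1387) (.leaf ((nat_lit 88), [nat_lit 3])) (.node (nat_lit 1388) (.leaf ((nat_lit 87), [nat_lit 3, nat_lit 0, nat_lit 3, nat_lit 2])) (.leaf ((nat_lit 131), [nat_lit 3, nat_lit 0]))))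
 (.node (nat_lit 1391) (.node (nat_lit 1390) (.leaf ((nat_lit 164), [])) (.leaf ((nat_lit 161), []))) (.node (nat_lit 1392) (.leaf ((nat_lit 283), [nat_lit 3, nat_lit 1, nat_lit 3, nat_lit 2, nat_lit 1])) (.leaf ((nat_lit 155), [nat_lit 1, nat_lit 3])))))
 (.node (nat_lit 1397) (.node (nat_lit 1395) (.node (nat_lit 1394) (.leaf ((nat_lit 154), [nat_lit 0, nat_lit 3, nat_lit 0, nat_lit 3, nat_lit 2, nat_lit 1])) (.leaf ((nat_lit 153), [nat_lit 3, nat_lit 1]))) (.node (nat_lit 1396) (.leaf ((nat_lit 170), [nat_lit 0, nat_lit 3, nat_lit 1, nat_lit 3, nat_lit 0])) (.leaf ((nat_lit 159), [nat_lit 0, nat_lit 3, nat_lit 2, nat_lit 0]))))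
 (.node (nat_lit 1399) (.node (nat_lit 1398) (.leaf ((nat_lit 88), [nat_lit 1, nat_lit 3, nat_lit 1, nat_lit 3, nat_lit 2])) (.leaf ((nat_lit 246), [nat_lit 0, nat_lit 3, nat_lit 0]))) (.node (nat_lit 1400) (.leaf ((nat_lit 245), [nat_lit 3, nat_lit 0, nat_lit 3, nat_lit 2])) (.leaf ((nat_lit 291), [nat_lit 0, nat_lit 3, nat_lit 0, nat_lit 3, nat_lit 1]))))))
 (.node (nat_lit 1409) (.node (nat_lit 1405) (.node (nat_lit 1403) (.node (nat_lit 1402) (.leaf ((nat_lit 168), [nat_lit 0, nat_lit 3, nat_lit 1, nat_lit 3, nat_lit 2, nat_lit 0])) (.leaf ((nat_lit 90), [nat_lit 0, nat_lit 3, nat_lit 1, nat_lit 3, nat_lit 2, nat_lit 0]))) (.node (nat_lit 1404) (.leaf ((nat_lit 329), [nat_lit 0, nat_lit 3, nat_lit 1, nat_lit 3, nat_lit 2, nat_lit 0])) (.leaf ((nat_lit 92), [nat_lit 2, nat_lit 3, nat_lit 1, nat_lit 3, nat_lit 0]))))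
 (.node (nat_lit 1407) (.node (nat_lit 1406) (.leaf ((nat_lit 91), [nat_lit 2, nat_lit 3, nat_lit 1, nat_lit 3, nat_lit 2, nat_lit 0])) (.leaf ((nat_lit 133), [nat_lit 0, nat_lit 3, nat_lit 1, nat_lit 3, nat_lit 2, nat_lit 0]))) (.node (nat_lit 1408) (.leaf ((nat_lit 169), [nat_lit 0, nat_lit 3, nat_lit 1, nat_lit 3, nat_lit 2, nat_lit 0])) (.leaf ((nat_lit 235), [])))))
 (.node (nat_lit 1413) (.node (nat_lit 1411) (.node (nat_lit 1410) (.leaf ((nat_lit 138), [nat_lit 0, nat_lit 3, nat_lit 1, nat_lit 3, nat_lit 2, nat_lit 0])) (.leaf ((nat_lit 133), [nat_lit 0]))) (.node (nat_lit 1412) (.leaf ((nat_lit 93), [nat_lit 3, nat_lit 1, nat_lit 3, nat_lit 2, nat_lit 0])) (.leaf ((nat_lit 92), [nat_lit 0, nat_lit 3, nat_lit 1]))))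
 (.node (nat_lit 1415) (.node (nat_lit 1414) (.leaf ((nat_lit 184), [nat_lit 0, nat_lit 3, nat_lit 1, nat_lit 3, nat_lit 2, nat_lit 0])) (.leaf ((nat_lit 234), []))) (.node (nat_lit 1416) (.leaf ((nat_lit 98), [nat_lit 0, nat_lit 3, nat_lit 1, nat_lit 3, nat_lit 2, nat_lit 0])) (.leaf ((nat_lit 330), [nat_lit 0, nat_lit 3, nat_lit 1, nat_lit 3, nat_lit 2, nat_lit 1])))))))
 (.node (nat_lit 1433) (.node (nat_lit 1425) (.node (nat_lit 1421) (.node (nat_lit 1419) (.node (nat_lit 1418) (.leaf ((nat_lit 264), [nat_lit 0])) (.leaf ((nat_lit 287), [nat_lit 3, nat_lit 1, nat_lit 3, nat_lit 0]))) (.node (nat_lit 1420) (.leaf ((nat_lit 92), [nat_lit 0, nat_lit 3, nat_lit 1, nat_lit 3, nat_lit 0])) (.leaf ((nat_lit 158), [nat_lit 0, nat_lit 3, nat_lit 2, nat_lit 0]))))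
 (.node (nat_lit 1423) (.node (nat_lit 1422) (.leaf ((nat_lit 245), [nat_lit 0, nat_lit 3, nat_lit 1, nat_lit 3, nat_lit 2, nat_lit 1])) (.leaf ((nat_lit 198), [nat_lit 3, nat_lit 0, nat_lit 3, nat_lit 2]))) (.node (nat_lit 1424) (.leaf ((nat_lit 94), [nat_lit 3, nat_lit 2, nat_lit 1])) (.leaf ((nat_lit 252), [nat_lit 0, nat_lit 3, nat_lit 0, nat_lit 3, nat_lit 2])))))
 (.node (nat_lit 1429) (.node (nat_lit 1427) (.node (nat_lit 1426) (.leaf ((nat_lit 323), [nat_lit 0, nat_lit 3, nat_lit 1, nat_lit 3, nat_lit 2, nat_lit 0])) (.leaf ((nat_lit 212), [nat_lit 0, nat_lit 3, nat_lit 1, nat_lit 3, nat_lit 2, nat_lit 0]))) (.node (nat_lit 1428) (.leaf ((nat_lit 209), [nat_lit 1, nat_lit 3, nat_lit 1, nat_lit 3, nat_lit 2])) (.leaf ((nat_lit 97), [nat_lit 0, nat_lit 3, nat_lit 1, nat_lit 3, nat_lit 2, nat_lit 0]))))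
 (.node (nat_lit 1431) (.node (nat_lit 1430) (.leaf ((nat_lit 221), [nat_lit 0, nat_lit 3, nat_lit 1, nat_lit 3, nat_lit 2, nat_lit 0])) (.leaf ((nat_lit 95), [nat_lit 1, nat_lit 3]))) (.node (nat_lit 1432) (.leaf ((nat_lit 149), [nat_lit 0, nat_lit 3, nat_lit 2, nat_lit 0])) (.leaf ((nat_lit 250), [nat_lit 0, nat_lit 3, nat_lit 1, nat_lit 3, nat_lit 0]))))))
 (.node (nat_lit 1441) (.node (nat_lit 1437) (.node (nat_lit 1435) (.node (nat_lit 1434) (.leaf ((nat_lit 172), [nat_lit 1, nat_lit 3, nat_lit 1, nat_lit 3, nat_lit 2])) (.leaf ((nat_lit 138), [nat_lit 0, nat_lit 3, nat_lit 0, nat_lit 3, nat_lit 2]))) (.node (nat_lit 1436) (.leaf ((nat_lit 209), [nat_lit 0, nat_lit 3, nat_lit 0, nat_lit 3, nat_lit 0])) (.leaf ((nat_lit 98), [nat_lit 0, nat_lit 3, nat_lit 0, nat_lit 3]))))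
 (.node (nat_lit 1439) (.node (nat_lit 1438) (.leaf ((nat_lit 95), [nat_lit 3, nat_lit 2, nat_lit 0])) (.leaf ((nat_lit 95), [nat_lit 3, nat_lit 1, nat_lit 3, nat_lit 2]))) (.node (nat_lit 1440) (.leaf ((nat_lit 324), [nat_lit 3])) (.leaf ((nat_lit 215), [nat_lit 3, nat_lit 1, nat_lit 3, nat_lit 2])))))
 (.node (nat_lit 1445) (.node (nat_lit 1443) (.node (nat_lit 1442) (.leaf ((nat_lit 282), [nat_lit 3, nat_lit 1, nat_lit 3])) (.leaf ((nat_lit 199), [nat_lit 1, nat_lit 3]))) (.node (nat_lit 1444) (.leaf ((nat_lit 295), [nat_lit 3, nat_lit 2, nat_lit 0])) (.leaf ((nat_lit 314), [nat_lit 3, nat_lit 2, nat_lit 0]))))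
 (.node (nat_lit 1447) (.node (nat_lit 1446) (.leaf ((nat_lit 96), [nat_lit 2])) (.leaf ((nat_lit 115), []))) (.node (nat_lit 1448) (.leaf ((nat_lit 327), [nat_lit 3, nat_lit 2, nat_lit 0])) (.leaf ((nat_lit 149), [nat_lit 0, nat_lit 3, nat_lit 0]))))))))
 (.node (nat_lit 1480) (.node (nat_lit 1464) (.node (nat_lit 1456) (.node (nat_lit 1452) (.node (nat_lit 1450) (.leaf ((nat_lit 97), [nat_lit 0, nat_lit 3, nat_lit 1, nat_lit 3, nat_lit 2, nat_lit 0])) (.node (nat_lit 1451) (.leaf ((nat_lit 268), [nat_lit 0, nat_lit 3, nat_lit 1, nat_lit 3, nat_lit 2, nat_lit 0])) (.leaf ((nat_lit 254), [nat_lit 1, nat_lit 3, nat_lit 1, nat_lit 3, nat_lit 2]))))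
 (.node (nat_lit 1454) (.node (nat_lit 1453) (.leaf ((nat_lit 98), [nat_lit 3, nat_lit 1, nat_lit 3, nat_lit 0])) (.leaf ((nat_lit 322), [nat_lit 1, nat_lit 3, nat_lit 1, nat_lit 3]))) (.node (nat_lit 1455) (.leaf ((nat_lit 138), [nat_lit 3, nat_lit 1, nat_lit 3, nat_lit 2, nat_lit 1])) (.leaf ((nat_lit 135), [nat_lit 2, nat_lit 3, nat_lit 1, nat_lit 3, nat_lit 2, nat_lit 0])))))
 (.node (nat_lit 1460) (.node (nat_lit 1458) (.node (nat_lit 1457) (.leaf ((nat_lit 135), [nat_lit 0, nat_lit 3, nat_lit 2, nat_lit 0])) (.leaf ((nat_lit 213), [nat_lit 3, nat_lit 1, nat_lit 3, nat_lit 2, nat_lit 1]))) (.node (nat_lit 1459) (.leaf ((nat_lit 322), [nat_lit 0, nat_lit 3, nat_lit 2, nat_lit 1])) (.leaf ((nat_lit 98), [nat_lit 0, nat_lit 3, nat_lit 1]))))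
 (.node (nat_lit 1462) (.node (nat_lit 1461) (.leaf ((nat_lit 209), [nat_lit 3, nat_lit 1, nat_lit 3])) (.leaf ((nat_lit 215), [nat_lit 0, nat_lit 3, nat_lit 1, nat_lit 3, nat_lit 0]))) (.node (nat_lit 1463) (.leaf ((nat_lit 213), [nat_lit 0, nat_lit 3, nat_lit 2, nat_lit 0])) (.leaf ((nat_lit 243), [nat_lit 2]))))))
 (.node (nat_lit 1472) (.node (nat_lit 1468) (.node (nat_lit 1466) (.node (nat_lit 1465) (.leaf ((nat_lit 142), [nat_lit 1, nat_lit 3])) (.leaf ((nat_lit 251), [nat_lit 3, nat_lit 0, nat_lit 3, nat_lit 2, nat_lit 1]))) (.node (nat_lit 1467) (.leaf ((nat_lit 250), [nat_lit 3, nat_lit 2, nat_lit 0])) (.leaf ((nat_lit 99), [nat_lit 0, nat_lit 3, nat_lit 1, nat_lit 3, nat_lit 2, nat_lit 0]))))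
 (.node (nat_lit 1470) (.node (nat_lit 1469) (.leaf ((nat_lit 98), [nat_lit 0, nat_lit 3, nat_lit 1, nat_lit 3, nat_lit 2, nat_lit 0])) (.leaf ((nat_lit 268), [nat_lit 3, nat_lit 1, nat_lit 3, nat_lit 2, nat_lit 1]))) (.node (nat_lit 1471) (.leaf ((nat_lit 99), [nat_lit 1, nat_lit 3, nat_lit 0])) (.leaf ((nat_lit 233), [nat_lit 2, nat_lit 3, nat_lit 1, nat_lit 3])))))
 (.node (nat_lit 1476) (.node (nat_lit 1474) (.node (nat_lit 1473) (.leaf ((nat_lit 296), [nat_lit 0, nat_lit 3, nat_lit 2, nat_lit 0])) (.leaf ((nat_lit 104), [nat_lit 3]))) (.node (nat_lit 1475) (.leaf ((nat_lit 104), [])) (.leaf ((nat_lit 236), [nat_lit 3, nat_lit 1, nat_lit 3, nat_lit 2, nat_lit 0]))))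
 (.node (nat_lit 1478) (.node (nat_lit 1477) (.leaf ((nat_lit 233), [nat_lit 1, nat_lit 3, nat_lit 1])) (.leaf ((nat_lit 99), [nat_lit 2, nat_lit 3, nat_lit 1, nat_lit 3, nat_lit 0]))) (.node (nat_lit 1479) (.leaf ((nat_lit 297), [nat_lit 1, nat_lit 3, nat_lit 1, nat_lit 3, nat_lit 2, nat_lit 0])) (.leaf ((nat_lit 332), [nat_lit 1, nat_lit 3, nat_lit 2, nat_lit 1])))))))
 (.node (nat_lit 1496) (.node (nat_lit 1488) (.node (nat_lit 1484) (.node (nat_lit 1482) (.node (nat_lit 1481) (.leaf ((nat_lit 252), [nat_lit 2])) (.leaf ((nat_lit 309), [nat_lit 1, nat_lit 3, nat_lit 2, nat_lit 1]))) (.node (nat_lit 1483) (.leaf ((nat_lit 306), [nat_lit 2, nat_lit 3, nat_lit 1, nat_lit 3, nat_lit 2, nat_lit 0])) (.leaf ((nat_lit 331), [nat_lit 1, nat_lit 3, nat_lit 2]))))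
 (.node (nat_lit 1486) (.node (nat_lit 1485) (.leaf ((nat_lit 281), [nat_lit 0, nat_lit 3, nat_lit 1, nat_lit 3, nat_lit 0])) (.leaf ((nat_lit 155), [nat_lit 3, nat_lit 1, nat_lit 3, nat_lit 2]))) (.node (nat_lit 1487) (.leaf ((nat_lit 100), [nat_lit 3, nat_lit 1, nat_lit 3, nat_lit 2])) (.leaf ((nat_lit 187), [nat_lit 3, nat_lit 1, nat_lit 3, nat_lit 0])))))
 (.node (nat_lit 1492) (.node (nat_lit 1490) (.node (nat_lit 1489) (.leaf ((nat_lit 276), [nat_lit 3, nat_lit 1, nat_lit 3, nat_lit 2, nat_lit 0])) (.leaf ((nat_lit 176), [nat_lit 3, nat_lit 1, nat_lit 3, nat_lit 2, nat_lit 0]))) (.node (nat_lit 1491) (.leaf ((nat_lit 182), [nat_lit 3, nat_lit 1, nat_lit 3, nat_lit 2, nat_lit 0])) (.leaf ((nat_lit 206), [nat_lit 0, nat_lit 3, nat_lit 2, nat_lit 1]))))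
 (.node (nat_lit 1494) (.node (nat_lit 1493) (.leaf ((nat_lit 187), [nat_lit 0, nat_lit 3, nat_lit 2, nat_lit 1])) (.leaf ((nat_lit 100), [nat_lit 2, nat_lit 3, nat_lit 1, nat_lit 3, nat_lit 2, nat_lit 0]))) (.node (nat_lit 1495) (.leaf ((nat_lit 101), [nat_lit 3, nat_lit 0])) (.leaf ((nat_lit 301), [nat_lit 3, nat_lit 0, nat_lit 3]))))))
 (.node (nat_lit 1504) (.node (nat_lit 1500) (.node (nat_lit 1498) (.node (nat_lit 1497) (.leaf ((nat_lit 183), [nat_lit 2])) (.leaf ((nat_lit 321), [nat_lit 0, nat_lit 3, nat_lit 1, nat_lit 3, nat_lit 0]))) (.node (nat_lit 1499) (.leaf ((nat_lit 312), [nat_lit 0, nat_lit 3, nat_lit 2, nat_lit 0])) (.leaf ((nat_lit 103), [nat_lit 1, nat_lit 3, nat_lit 1, nat_lit 3]))))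
 (.node (nat_lit 1502) (.node (nat_lit 1501) (.leaf ((nat_lit 301), [nat_lit 1, nat_lit 3, nat_lit 1, nat_lit 3, nat_lit 2, nat_lit 1])) (.leaf ((nat_lit 101), [nat_lit 3, nat_lit 1, nat_lit 3, nat_lit 2, nat_lit 0]))) (.node (nat_lit 1503) (.leaf ((nat_lit 244), [nat_lit 0, nat_lit 3, nat_lit 2, nat_lit 1])) (.leaf ((nat_lit 307), [nat_lit 0, nat_lit 3, nat_lit 2, nat_lit 0])))))
 (.node (nat_lit 1508) (.node (nat_lit 1506) (.node (nat_lit 1505) (.leaf ((nat_lit 238), [nat_lit 2, nat_lit 3, nat_lit 1, nat_lit 3, nat_lit 2, nat_lit 0])) (.leaf ((nat_lit 308), [nat_lit 1, nat_lit 3, nat_lit 0]))) (.node (nat_lit 1507) (.leaf ((nat_lit 183), [nat_lit 3, nat_lit 2, nat_lit 0])) (.leaf ((nat_lit 244), [nat_lit 3, nat_lit 0, nat_lit 3, nat_lit 2, nat_lit 1]))))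
 (.node (nat_lit 1510) (.node (nat_lit 1509) (.leaf ((nat_lit 101), [nat_lit 1])) (.leaf ((nat_lit 304), [nat_lit 3, nat_lit 1, nat_lit 3, nat_lit 2]))) (.node (nat_lit 1511) (.leaf ((nat_lit 292), [nat_lit 3])) (.leaf ((nat_lit 327), [nat_lit 0, nat_lit 3, nat_lit 2, nat_lit 0]))))))))))
noncomputable def n3Wd_6 : Tr (ℕ × List ℕ) := (.node (nat_lit 1638) (.node (nat_lit 1575) (.node (nat_lit 1543) (.node (nat_lit 1527) (.node (nat_lit 1519) (.node (nat_lit 1515) (.node (nat_lit 1513) (.leaf ((nat_lit 324), [nat_lit 1])) (.node (nat_lit 1514) (.leaf ((nat_lit 178), [nat_lit 3, nat_lit 1, nat_lit 3, nat_lit 2, nat_lit 1])) (.leaf ((nat_lit 237), [nat_lit 2, nat_lit 3, nat_lit 1, nat_lit 3, nat_lit 1]))))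
 (.node (nat_lit 1517) (.node (nat_lit 1516) (.leaf ((nat_lit 313), [nat_lit 3])) (.leaf ((nat_lit 246), [nat_lit 2]))) (.node (nat_lit 1518) (.leaf ((nat_lit 102), [nat_lit 3, nat_lit 1, nat_lit 3, nat_lit 2, nat_lit 0])) (.leaf ((nat_lit 158), [nat_lit 3, nat_lit 1, nat_lit 3, nat_lit 2, nat_lit 1])))))
 (.node (nat_lit 1523) (.node (nat_lit 1521) (.node (nat_lit 1520) (.leaf ((nat_lit 103), [nat_lit 0, nat_lit 3, nat_lit 0, nat_lit 3, nat_lit 0])) (.leaf ((nat_lit 126), [nat_lit 2, nat_lit 3, nat_lit 1, nat_lit 3, nat_lit 1]))) (.node (nat_lit 1522) (.leaf ((nat_lit 331), [nat_lit 0, nat_lit 3, nat_lit 1, nat_lit 3, nat_lit 2, nat_lit 0])) (.leaf ((nat_lit 284), [nat_lit 0, nat_lit 3, nat_lit 1, nat_lit 3, nat_lit 2, nat_lit 0]))))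
 (.node (nat_lit 1525) (.node (nat_lit 1524) (.leaf ((nat_lit 255), [nat_lit 1, nat_lit 3, nat_lit 1, nat_lit 3, nat_lit 2])) (.leaf ((nat_lit 104), [nat_lit 3, nat_lit 1, nat_lit 3, nat_lit 1]))) (.node (nat_lit 1526) (.leaf ((nat_lit 300), [nat_lit 0])) (.leaf ((nat_lit 299), []))))))
 (.node (nat_lit 1535) (.node (nat_lit 1531) (.node (nat_lit 1529) (.node (nat_lit 1528) (.leaf ((nat_lit 139), [nat_lit 0, nat_lit 3, nat_lit 1, nat_lit 3, nat_lit 2, nat_lit 0])) (.leaf ((nat_lit 138), [nat_lit 0, nat_lit 3, nat_lit 1, nat_lit 3, nat_lit 2, nat_lit 0]))) (.node (nat_lit 1530) (.leaf ((nat_lit 241), [nat_lit 1, nat_lit 3, nat_lit 1, nat_lit 3, nat_lit 2])) (.leaf ((nat_lit 299), [nat_lit 1, nat_lit 3, nat_lit 0]))))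
 (.node (nat_lit 1533) (.node (nat_lit 1532) (.leaf ((nat_lit 285), [nat_lit 3, nat_lit 2, nat_lit 0])) (.leaf ((nat_lit 104), [nat_lit 2, nat_lit 3, nat_lit 1, nat_lit 3, nat_lit 1]))) (.node (nat_lit 1534) (.leaf ((nat_lit 258), [nat_lit 0, nat_lit 3, nat_lit 1, nat_lit 3, nat_lit 2, nat_lit 0])) (.leaf ((nat_lit 301), [nat_lit 0, nat_lit 3, nat_lit 1, nat_lit 3, nat_lit 2, nat_lit 0])))))
 (.node (nat_lit 1539) (.node (nat_lit 1537) (.node (nat_lit 1536) (.leaf ((nat_lit 253), [nat_lit 1, nat_lit 3, nat_lit 1, nat_lit 3, nat_lit 2])) (.leaf ((nat_lit 107), [nat_lit 0, nat_lit 3, nat_lit 1, nat_lit 3, nat_lit 1]))) (.node (nat_lit 1538) (.leaf ((nat_lit 143), [nat_lit 2])) (.leaf ((nat_lit 105), [nat_lit 3, nat_lit 0]))))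
 (.node (nat_lit 1541) (.node (nat_lit 1540) (.leaf ((nat_lit 146), [nat_lit 0, nat_lit 3, nat_lit 1, nat_lit 3, nat_lit 2, nat_lit 0])) (.leaf ((nat_lit 264), [nat_lit 0, nat_lit 3, nat_lit 1, nat_lit 3, nat_lit 2, nat_lit 0]))) (.node (nat_lit 1542) (.leaf ((nat_lit 261), [nat_lit 1, nat_lit 3, nat_lit 1, nat_lit 3, nat_lit 2])) (.leaf ((nat_lit 143), [nat_lit 0, nat_lit 3, nat_lit 0, nat_lit 3, nat_lit 1])))))))
 (.node (nat_lit 1559) (.node (nat_lit 1551) (.node (nat_lit 1547) (.node (nat_lit 1545) (.node (nat_lit 1544) (.leaf ((nat_lit 107), [nat_lit 0, nat_lit 3, nat_lit 0, nat_lit 3, nat_lit 2, nat_lit 0])) (.leaf ((nat_lit 106), [nat_lit 3, nat_lit 0, nat_lit 3, nat_lit 2, nat_lit 1]))) (.node (nat_lit 1546) (.leaf ((nat_lit 111), [nat_lit 0, nat_lit 3, nat_lit 1, nat_lit 3, nat_lit 2, nat_lit 0])) (.leaf ((nat_lit 306), [nat_lit 0, nat_lit 3, nat_lit 1, nat_lit 3, nat_lit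 2, nat_lit 0]))))
 (.node (nat_lit 1549) (.node (nat_lit 1548) (.leaf ((nat_lit 305), [nat_lit 3, nat_lit 1, nat_lit 3, nat_lit 2, nat_lit 1])) (.leaf ((nat_lit 307), [nat_lit 0, nat_lit 3, nat_lit 1, nat_lit 3, nat_lit 0]))) (.node (nat_lit 1550) (.leaf ((nat_lit 333), [nat_lit 1, nat_lit 3, nat_lit 2])) (.leaf ((nat_lit 302), [nat_lit 1, nat_lit 3, nat_lit 1, nat_lit 3, nat_lit 2, nat_lit 0])))))
 (.node (nat_lit 1555) (.node (nat_lit 1553) (.node (nat_lit 1552) (.leaf ((nat_lit 255), [nat_lit 0, nat_lit 3, nat_lit 1, nat_lit 3, nat_lit 2, nat_lit 0])) (.leaf ((nat_lit 302), [nat_lit 0, nat_lit 3, nat_lit 1, nat_lit 3, nat_lit 2, nat_lit 0]))) (.node (nat_lit 1554) (.leaf ((nat_lit 107), [nat_lit 1, nat_lit 3, nat_lit 1, nat_lit 3, nat_lit 2])) (.leaf ((nat_lit 303), [nat_lit 0, nat_lit 3, nat_lit 0, nat_lit 3, nat_lit 1]))))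
 (.node (nat_lit 1557) (.node (nat_lit 1556) (.leaf ((nat_lit 108), [nat_lit 0, nat_lit 3, nat_lit 0, nat_lit 3, nat_lit 2, nat_lit 0])) (.leaf ((nat_lit 334), [nat_lit 3, nat_lit 0, nat_lit 3, nat_lit 1]))) (.node (nat_lit 1558) (.leaf ((nat_lit 311), [nat_lit 0, nat_lit 3, nat_lit 1, nat_lit 3, nat_lit 2, nat_lit 0])) (.leaf ((nat_lit 263), [nat_lit 0, nat_lit 3, nat_lit 1, nat_lit 3, nat_lit 2, nat_lit 0]))))))
 (.node (nat_lit 1567) (.node (nat_lit 1563) (.node (nat_lit 1561) (.node (nat_lit 1560) (.leaf ((nat_lit 259), [nat_lit 0, nat_lit 3, nat_lit 1, nat_lit 3, nat_lit 2, nat_lit 0])) (.leaf ((nat_lit 304), [nat_lit 1, nat_lit 3, nat_lit 0]))) (.node (nat_lit 1562) (.leaf ((nat_lit 334), [nat_lit 1, nat_lit 3, nat_lit 1, nat_lit 3, nat_lit 2, nat_lit 1])) (.leaf ((nat_lit 108), [nat_lit 1, nat_lit 3, nat_lit 1, nat_lit 3, nat_lit 2]))))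
 (.node (nat_lit 1565) (.node (nat_lit 1564) (.leaf ((nat_lit 300), [nat_lit 1, nat_lit 3, nat_lit 2, nat_lit 1])) (.leaf ((nat_lit 265), [nat_lit 3, nat_lit 2]))) (.node (nat_lit 1566) (.leaf ((nat_lit 333), [nat_lit 1, nat_lit 3, nat_lit 0])) (.leaf ((nat_lit 278), [nat_lit 0, nat_lit 3, nat_lit 1, nat_lit 3, nat_lit 0])))))
 (.node (nat_lit 1571) (.node (nat_lit 1569) (.node (nat_lit 1568) (.leaf ((nat_lit 277), [])) (.leaf ((nat_lit 271), [nat_lit 3, nat_lit 1, nat_lit 3, nat_lit 0]))) (.node (nat_lit 1570) (.leaf ((nat_lit 227), [nat_lit 0, nat_lit 3, nat_lit 1, nat_lit 3, nat_lit 2, nat_lit 0])) (.leaf ((nat_lit 108), [nat_lit 0, nat_lit 3, nat_lit 1, nat_lit 3, nat_lit 2, nat_lit 0]))))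
 (.node (nat_lit 1573) (.node (nat_lit 1572) (.leaf ((nat_lit 256), [nat_lit 1, nat_lit 3, nat_lit 1, nat_lit 3, nat_lit 2])) (.leaf ((nat_lit 211), [nat_lit 2, nat_lit 3, nat_lit 1, nat_lit 3, nat_lit 2]))) (.node (nat_lit 1574) (.leaf ((nat_lit 266), [nat_lit 3, nat_lit 0, nat_lit 3, nat_lit 2])) (.leaf ((nat_lit 210), [nat_lit 0, nat_lit 3, nat_lit 2, nat_lit 1]))))))))
 (.node (nat_lit 1606) (.node (nat_lit 1590) (.node (nat_lit 1582) (.node (nat_lit 1578) (.node (nat_lit 1576) (.leaf ((nat_lit 175), [nat_lit 0, nat_lit 3, nat_lit 2, nat_lit 0])) (.node (nat_lit 1577) (.leaf ((nat_lit 333), [nat_lit 0, nat_lit 3, nat_lit 2, nat_lit 0])) (.leaf ((nat_lit 110), [nat_lit 1, nat_lit 3]))))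
 (.node (nat_lit 1580) (.node (nat_lit 1579) (.leaf ((nat_lit 151), [nat_lit 1, nat_lit 3])) (.leaf ((nat_lit 150), [nat_lit 0, nat_lit 3, nat_lit 1]))) (.node (nat_lit 1581) (.leaf ((nat_lit 207), [nat_lit 3, nat_lit 0, nat_lit 3, nat_lit 2])) (.leaf ((nat_lit 160), [nat_lit 0, nat_lit 3, nat_lit 1, nat_lit 3, nat_lit 2, nat_lit 0])))))
 (.node (nat_lit 1586) (.node (nat_lit 1584) (.node (nat_lit 1583) (.leaf ((nat_lit 259), [nat_lit 0, nat_lit 3, nat_lit 1, nat_lit 3, nat_lit 2, nat_lit 0])) (.leaf ((nat_lit 111), [nat_lit 3, nat_lit 1, nat_lit 3, nat_lit 2, nat_lit 1]))) (.node (nat_lit 1585) (.leaf ((nat_lit 281), [nat_lit 0, nat_lit 3, nat_lit 2])) (.leaf ((nat_lit 236), [nat_lit 1]))))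
 (.node (nat_lit 1588) (.node (nat_lit 1587) (.leaf ((nat_lit 306), [nat_lit 0, nat_lit 3, nat_lit 1, nat_lit 3, nat_lit 2])) (.leaf ((nat_lit 120), [nat_lit 0, nat_lit 3, nat_lit 1, nat_lit 3, nat_lit 2, nat_lit 0]))) (.node (nat_lit 1589) (.leaf ((nat_lit 256), [nat_lit 0, nat_lit 3, nat_lit 1, nat_lit 3, nat_lit 2, nat_lit 0])) (.leaf ((nat_lit 112), [nat_lit 0, nat_lit 3, nat_lit 1, nat_lit 3, nat_lit 2, nat_lit 0]))))))
 (.node (nat_lit 1598) (.node (nat_lit 1594) (.node (nat_lit 1592) (.node (nat_lit 1591) (.leaf ((nat_lit 118), [nat_lit 0, nat_lit 3, nat_lit 2, nat_lit 0])) (.leaf ((nat_lit 315), [nat_lit 0, nat_lit 3, nat_lit 0]))) (.node (nat_lit 1593) (.leaf ((nat_lit 116), [nat_lit 1, nat_lit 3, nat_lit 1, nat_lit 3, nat_lit 0])) (.leaf ((nat_lit 204), [nat_lit 3]))))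
 (.node (nat_lit 1596) (.node (nat_lit 1595) (.leaf ((nat_lit 260), [nat_lit 1, nat_lit 3, nat_lit 2, nat_lit 1])) (.leaf ((nat_lit 113), [nat_lit 3, nat_lit 1, nat_lit 3, nat_lit 2, nat_lit 0]))) (.node (nat_lit 1597) (.leaf ((nat_lit 308), [nat_lit 2, nat_lit 3, nat_lit 1, nat_lit 3, nat_lit 2])) (.leaf ((nat_lit 262), [nat_lit 2, nat_lit 3, nat_lit 1, nat_lit 3])))))
 (.node (nat_lit 1602) (.node (nat_lit 1600) (.node (nat_lit 1599) (.leaf ((nat_lit 323), [nat_lit 1, nat_lit 3, nat_lit 1, nat_lit 3, nat_lit 0])) (.leaf ((nat_lit 223), [nat_lit 1, nat_lit 3, nat_lit 1, nat_lit 3, nat_lit 2, nat_lit 1]))) (.node (nat_lit 1601) (.leaf ((nat_lit 335), [nat_lit 0, nat_lit 3, nat_lit 2, nat_lit 1])) (.leaf ((nat_lit 114), [nat_lit 0, nat_lit 3, nat_lit 2, nat_lit 0]))))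
 (.node (nat_lit 1604) (.node (nat_lit 1603) (.leaf ((nat_lit 327), [nat_lit 3, nat_lit 2, nat_lit 0])) (.leaf ((nat_lit 115), []))) (.node (nat_lit 1605) (.leaf ((nat_lit 328), [nat_lit 2, nat_lit 1])) (.leaf ((nat_lit 199), [nat_lit 0, nat_lit 3, nat_lit 1, nat_lit 3, nat_lit 2, nat_lit 0])))))))
 (.node (nat_lit 1622) (.node (nat_lit 1614) (.node (nat_lit 1610) (.node (nat_lit 1608) (.node (nat_lit 1607) (.leaf ((nat_lit 224), [])) (.leaf ((nat_lit 205), [nat_lit 0, nat_lit 3, nat_lit 1, nat_lit 3, nat_lit 2, nat_lit 0]))) (.node (nat_lit 1609) (.leaf ((nat_lit 149), [nat_lit 3, nat_lit 2, nat_lit 0])) (.leaf ((nat_lit 328), [nat_lit 0, nat_lit 3, nat_lit 0, nat_lit 3, nat_lit 1]))))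
 (.node (nat_lit 1612) (.node (nat_lit 1611) (.leaf ((nat_lit 115), [nat_lit 1, nat_lit 3, nat_lit 1, nat_lit 3, nat_lit 2, nat_lit 0])) (.leaf ((nat_lit 137), [nat_lit 0, nat_lit 3, nat_lit 1, nat_lit 3, nat_lit 2, nat_lit 0]))) (.node (nat_lit 1613) (.leaf ((nat_lit 241), [nat_lit 0, nat_lit 3, nat_lit 1, nat_lit 3, nat_lit 2, nat_lit 0])) (.leaf ((nat_lit 244), [nat_lit 3, nat_lit 1, nat_lit 3, nat_lit 2, nat_lit 1])))))
 (.node (nat_lit 1618) (.node (nat_lit 1616) (.node (nat_lit 1615) (.leaf ((nat_lit 302), [nat_lit 3, nat_lit 0, nat_lit 3])) (.leaf ((nat_lit 280), [nat_lit 3, nat_lit 0]))) (.node (nat_lit 1617) (.leaf ((nat_lit 307), [nat_lit 0, nat_lit 3, nat_lit 2, nat_lit 1])) (.leaf ((nat_lit 299), [nat_lit 0, nat_lit 3, nat_lit 2, nat_lit 1]))))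
 (.node (nat_lit 1620) (.node (nat_lit 1619) (.leaf ((nat_lit 115), [nat_lit 1, nat_lit 3, nat_lit 1, nat_lit 3, nat_lit 2, nat_lit 1])) (.leaf ((nat_lit 269), [nat_lit 1, nat_lit 3, nat_lit 2]))) (.node (nat_lit 1621) (.leaf ((nat_lit 117), [nat_lit 0, nat_lit 3, nat_lit 1, nat_lit 3, nat_lit 2, nat_lit 1])) (.leaf ((nat_lit 116), [nat_lit 0, nat_lit 3, nat_lit 1, nat_lit 3, nat_lit 2, nat_lit 0]))))))
 (.node (nat_lit 1630) (.node (nat_lit 1626) (.node (nat_lit 1624) (.node (nat_lit 1623) (.leaf ((nat_lit 315), [nat_lit 3, nat_lit 0, nat_lit 3, nat_lit 2])) (.leaf ((nat_lit 130), [nat_lit 0, nat_lit 3, nat_lit 1, nat_lit 3, nat_lit 2, nat_lit 0]))) (.node (nat_lit 1625) (.leaf ((nat_lit 303), [nat_lit 0, nat_lit 3, nat_lit 1, nat_lit 3, nat_lit 2, nat_lit 0])) (.leaf ((nat_lit 146), [nat_lit 1, nat_lit 3, nat_lit 1, nat_lit 3, nat_lit 2]))))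
 (.node (nat_lit 1628) (.node (nat_lit 1627) (.leaf ((nat_lit 152), [nat_lit 3, nat_lit 0, nat_lit 3])) (.leaf ((nat_lit 305), [nat_lit 3, nat_lit 0]))) (.node (nat_lit 1629) (.leaf ((nat_lit 261), [nat_lit 2, nat_lit 3, nat_lit 1, nat_lit 3, nat_lit 2, nat_lit 1])) (.leaf ((nat_lit 319), [nat_lit 1, nat_lit 3, nat_lit 1, nat_lit 3, nat_lit 2, nat_lit 1])))))
 (.node (nat_lit 1634) (.node (nat_lit 1632) (.node (nat_lit 1631) (.leaf ((nat_lit 116), [nat_lit 1, nat_lit 3, nat_lit 1, nat_lit 3, nat_lit 2, nat_lit 1])) (.leaf ((nat_lit 334), [nat_lit 2, nat_lit 3, nat_lit 1, nat_lit 3, nat_lit 2, nat_lit 0]))) (.node (nat_lit 1633) (.leaf ((nat_lit 315), [nat_lit 0, nat_lit 3, nat_lit 2, nat_lit 1])) (.leaf ((nat_lit 118), [nat_lit 0, nat_lit 3, nat_lit 1]))))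
 (.node (nat_lit 1636) (.node (nat_lit 1635) (.leaf ((nat_lit 117), [])) (.leaf ((nat_lit 326), [nat_lit 1, nat_lit 3, nat_lit 2, nat_lit 1]))) (.node (nat_lit 1637) (.leaf ((nat_lit 326), [nat_lit 2, nat_lit 3, nat_lit 1, nat_lit 3, nat_lit 0])) (.leaf ((nat_lit 182), [nat_lit 1, nat_lit 3, nat_lit 0])))))))))
 (.node (nat_lit 1701) (.node (nat_lit 1669) (.node (nat_lit 1653) (.node (nat_lit 1645) (.node (nat_lit 1641) (.node (nat_lit 1639) (.leaf ((nat_lit 309), [nat_lit 0, nat_lit 3, nat_lit 2, nat_lit 0])) (.node (nat_lit 1640) (.leaf ((nat_lit 289), [nat_lit 1, nat_lit 3, nat_lit 2])) (.leaf ((nat_lit 228), [nat_lit 2, nat_lit 3, nat_lit 1, nat_lit 3, nat_lit 2, nat_lit 0]))))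
 (.node (nat_lit 1643) (.node (nat_lit 1642) (.leaf ((nat_lit 327), [nat_lit 3, nat_lit 2, nat_lit 0])) (.leaf ((nat_lit 117), [nat_lit 3, nat_lit 1, nat_lit 3, nat_lit 2]))) (.node (nat_lit 1644) (.leaf ((nat_lit 297), [nat_lit 1, nat_lit 3])) (.leaf ((nat_lit 312), [nat_lit 1, nat_lit 3, nat_lit 1, nat_lit 3, nat_lit 2])))))
 (.node (nat_lit 1649) (.node (nat_lit 1647) (.node (nat_lit 1646) (.leaf ((nat_lit 310), [nat_lit 3, nat_lit 0, nat_lit 3, nat_lit 2, nat_lit 0])) (.leaf ((nat_lit 294), [nat_lit 3, nat_lit 1]))) (.node (nat_lit 1648) (.leaf ((nat_lit 279), [nat_lit 0, nat_lit 3, nat_lit 2, nat_lit 1])) (.leaf ((nat_lit 125), [nat_lit 0, nat_lit 3, nat_lit 2, nat_lit 1]))))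
 (.node (nat_lit 1651) (.node (nat_lit 1650) (.leaf ((nat_lit 117), [nat_lit 1, nat_lit 3, nat_lit 2])) (.leaf ((nat_lit 219), [nat_lit 0, nat_lit 3, nat_lit 1, nat_lit 3, nat_lit 2, nat_lit 1]))) (.node (nat_lit 1652) (.leaf ((nat_lit 226), [nat_lit 0])) (.leaf ((nat_lit 286), [nat_lit 3, nat_lit 1, nat_lit 3, nat_lit 0]))))))
 (.node (nat_lit 1661) (.node (nat_lit 1657) (.node (nat_lit 1655) (.node (nat_lit 1654) (.leaf ((nat_lit 200), [nat_lit 0, nat_lit 3, nat_lit 1, nat_lit 3, nat_lit 2, nat_lit 0])) (.leaf ((nat_lit 118), [nat_lit 0, nat_lit 3, nat_lit 1, nat_lit 3, nat_lit 2, nat_lit 0]))) (.node (nat_lit 1656) (.leaf ((nat_lit 168), [nat_lit 0, nat_lit 3, nat_lit 1, nat_lit 3, nat_lit 2, nat_lit 0])) (.leaf ((nat_lit 248), [nat_lit 0, nat_lit 3, nat_lit 1, nat_lit 3, nat_lit 2, nat_lit 1]))))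
 (.node (nat_lit 1659) (.node (nat_lit 1658) (.leaf ((nat_lit 319), [nat_lit 0, nat_lit 3, nat_lit 1, nat_lit 3, nat_lit 2, nat_lit 0])) (.leaf ((nat_lit 317), [nat_lit 3, nat_lit 1, nat_lit 3, nat_lit 2, nat_lit 0]))) (.node (nat_lit 1660) (.leaf ((nat_lit 201), [nat_lit 0, nat_lit 3, nat_lit 1, nat_lit 3, nat_lit 2, nat_lit 0])) (.leaf ((nat_lit 123), [])))))
 (.node (nat_lit 1665) (.node (nat_lit 1663) (.node (nat_lit 1662) (.leaf ((nat_lit 118), [nat_lit 1, nat_lit 3, nat_lit 1, nat_lit 3, nat_lit 2])) (.leaf ((nat_lit 119), [nat_lit 0, nat_lit 3, nat_lit 1, nat_lit 3, nat_lit 2, nat_lit 0]))) (.node (nat_lit 1664) (.leaf ((nat_lit 261), [])) (.leaf ((nat_lit 305), [nat_lit 0, nat_lit 3, nat_lit 1, nat_lit 3, nat_lit 2, nat_lit 1]))))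
 (.node (nat_lit 1667) (.node (nat_lit 1666) (.leaf ((nat_lit 182), [nat_lit 0, nat_lit 3, nat_lit 1, nat_lit 3, nat_lit 0])) (.leaf ((nat_lit 150), [nat_lit 0, nat_lit 3, nat_lit 2, nat_lit 0]))) (.node (nat_lit 1668) (.leaf ((nat_lit 332), [nat_lit 0, nat_lit 3, nat_lit 2, nat_lit 0])) (.leaf ((nat_lit 261), [nat_lit 2, nat_lit 3, nat_lit 1, nat_lit 3, nat_lit 2, nat_lit 0])))))))
 (.node (nat_lit 1685) (.node (nat_lit 1677) (.node (nat_lit 1673) (.node (nat_lit 1671) (.node (nat_lit 1670) (.leaf ((nat_lit 119), [nat_lit 1, nat_lit 3, nat_lit 2])) (.leaf ((nat_lit 152), [nat_lit 3, nat_lit 0, nat_lit 3, nat_lit 1]))) (.node (nat_lit 1672) (.leaf ((nat_lit 310), [nat_lit 0, nat_lit 3, nat_lit 2, nat_lit 0])) (.leaf ((nat_lit 289), [nat_lit 0, nat_lit 3, nat_lit 2, nat_lit 0]))))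
 (.node (nat_lit 1675) (.node (nat_lit 1674) (.leaf ((nat_lit 278), [nat_lit 1, nat_lit 3, nat_lit 0])) (.leaf ((nat_lit 305), [nat_lit 3, nat_lit 0, nat_lit 3, nat_lit 2, nat_lit 0]))) (.node (nat_lit 1676) (.leaf ((nat_lit 152), [nat_lit 3, nat_lit 2])) (.leaf ((nat_lit 119), [nat_lit 2, nat_lit 3, nat_lit 1, nat_lit 3, nat_lit 2, nat_lit 0])))))
 (.node (nat_lit 1681) (.node (nat_lit 1679) (.node (nat_lit 1678) (.leaf ((nat_lit 274), [nat_lit 3, nat_lit 2, nat_lit 0])) (.leaf ((nat_lit 286), [nat_lit 3, nat_lit 1, nat_lit 3, nat_lit 2]))) (.node (nat_lit 1680) (.leaf ((nat_lit 279), [nat_lit 3, nat_lit 1, nat_lit 3, nat_lit 2, nat_lit 1])) (.leaf ((nat_lit 335), [nat_lit 0, nat_lit 3, nat_lit 0, nat_lit 3, nat_lit 1]))))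
 (.node (nat_lit 1683) (.node (nat_lit 1682) (.leaf ((nat_lit 269), [nat_lit 1, nat_lit 3])) (.leaf ((nat_lit 311), [nat_lit 3, nat_lit 1, nat_lit 3, nat_lit 2, nat_lit 0]))) (.node (nat_lit 1684) (.leaf ((nat_lit 303), [nat_lit 0, nat_lit 3, nat_lit 1, nat_lit 3, nat_lit 2, nat_lit 0])) (.leaf ((nat_lit 130), [nat_lit 0, nat_lit 3, nat_lit 1, nat_lit 3, nat_lit 2, nat_lit 0]))))))
 (.node (nat_lit 1693) (.node (nat_lit 1689) (.node (nat_lit 1687) (.node (nat_lit 1686) (.leaf ((nat_lit 119), [nat_lit 0, nat_lit 3, nat_lit 1, nat_lit 3, nat_lit 2, nat_lit 0])) (.leaf ((nat_lit 264), [nat_lit 1, nat_lit 3, nat_lit 2, nat_lit 0]))) (.node (nat_lit 1688) (.leaf ((nat_lit 330), [nat_lit 2, nat_lit 3, nat_lit 1, nat_lit 3, nat_lit 2, nat_lit 1])) (.leaf ((nat_lit 247), [nat_lit 2, nat_lit 3, nat_lit 1, nat_lit 3, nat_lit 2, nat_lit 0]))))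
 (.node (nat_lit 1691) (.node (nat_lit 1690) (.leaf ((nat_lit 122), [nat_lit 2, nat_lit 3, nat_lit 1, nat_lit 3, nat_lit 2, nat_lit 0])) (.leaf ((nat_lit 140), [nat_lit 2, nat_lit 3, nat_lit 1, nat_lit 3, nat_lit 2, nat_lit 0]))) (.node (nat_lit 1692) (.leaf ((nat_lit 321), [nat_lit 3, nat_lit 2])) (.leaf ((nat_lit 179), [nat_lit 0, nat_lit 3, nat_lit 2, nat_lit 0])))))
 (.node (nat_lit 1697) (.node (nat_lit 1695) (.node (nat_lit 1694) (.leaf ((nat_lit 240), [nat_lit 3, nat_lit 0, nat_lit 3])) (.leaf ((nat_lit 123), [nat_lit 3, nat_lit 1, nat_lit 3, nat_lit 2]))) (.node (nat_lit 1696) (.leaf ((nat_lit 136), [nat_lit 0, nat_lit 3, nat_lit 1, nat_lit 3, nat_lit 0])) (.leaf ((nat_lit 190), [nat_lit 0, nat_lit 3, nat_lit 1, nat_lit 3, nat_lit 0]))))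
 (.node (nat_lit 1699) (.node (nat_lit 1698) (.leaf ((nat_lit 191), [nat_lit 2])) (.leaf ((nat_lit 125), [nat_lit 1, nat_lit 3, nat_lit 2, nat_lit 1]))) (.node (nat_lit 1700) (.leaf ((nat_lit 173), [nat_lit 3, nat_lit 1])) (.leaf ((nat_lit 200), [nat_lit 2, nat_lit 3, nat_lit 1, nat_lit 3, nat_lit 2, nat_lit 1]))))))))
 (.node (nat_lit 1732) (.node (nat_lit 1716) (.node (nat_lit 1708) (.node (nat_lit 1704) (.node (nat_lit 1702) (.leaf ((nat_lit 123), [nat_lit 0, nat_lit 3, nat_lit 1, nat_lit 3, nat_lit 2, nat_lit 0])) (.node (nat_lit 1703) (.leaf ((nat_lit 201), [])) (.leaf ((nat_lit 231), [nat_lit 3, nat_lit 1, nat_lit 3, nat_lit 2, nat_lit 1]))))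
 (.node (nat_lit 1706) (.node (nat_lit 1705) (.leaf ((nat_lit 126), [nat_lit 3, nat_lit 1, nat_lit 3, nat_lit 1])) (.leaf ((nat_lit 124), [nat_lit 1, nat_lit 3, nat_lit 1, nat_lit 3, nat_lit 2, nat_lit 1]))) (.node (nat_lit 1707) (.leaf ((nat_lit 158), [nat_lit 2, nat_lit 3, nat_lit 1, nat_lit 3, nat_lit 2, nat_lit 1])) (.leaf ((nat_lit 330), [nat_lit 0, nat_lit 3, nat_lit 1, nat_lit 3, nat_lit 2, nat_lit 0])))))
 (.node (nat_lit 1712) (.node (nat_lit 1710) (.node (nat_lit 1709) (.leaf ((nat_lit 253), [nat_lit 0, nat_lit 3, nat_lit 1, nat_lit 3, nat_lit 2, nat_lit 0])) (.leaf ((nat_lit 301), [nat_lit 3, nat_lit 1, nat_lit 3, nat_lit 2, nat_lit 1]))) (.node (nat_lit 1711) (.leaf ((nat_lit 141), [nat_lit 0, nat_lit 3, nat_lit 1])) (.leaf ((nat_lit 255), [nat_lit 0, nat_lit 3, nat_lit 2, nat_lit 1]))))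
 (.node (nat_lit 1714) (.node (nat_lit 1713) (.leaf ((nat_lit 203), [nat_lit 3, nat_lit 1, nat_lit 3, nat_lit 2, nat_lit 0])) (.leaf ((nat_lit 187), [nat_lit 1, nat_lit 3, nat_lit 1, nat_lit 3, nat_lit 2, nat_lit 1]))) (.node (nat_lit 1715) (.leaf ((nat_lit 206), [nat_lit 1, nat_lit 3, nat_lit 1, nat_lit 3, nat_lit 2, nat_lit 1])) (.leaf ((nat_lit 124), [nat_lit 1, nat_lit 3, nat_lit 1]))))))
 (.node (nat_lit 1724) (.node (nat_lit 1720) (.node (nat_lit 1718) (.node (nat_lit 1717) (.leaf ((nat_lit 289), [nat_lit 2, nat_lit 3, nat_lit 1, nat_lit 3, nat_lit 2, nat_lit 1])) (.leaf ((nat_lit 309), [nat_lit 0]))) (.node (nat_lit 1719) (.leaf ((nat_lit 275), [nat_lit 2, nat_lit 3, nat_lit 1, nat_lit 3, nat_lit 2, nat_lit 1])) (.leaf ((nat_lit 125), [nat_lit 1, nat_lit 3, nat_lit 1, nat_lit 3, nat_lit 2, nat_lit 1]))))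
 (.node (nat_lit 1722) (.node (nat_lit 1721) (.leaf ((nat_lit 279), [nat_lit 1, nat_lit 3, nat_lit 1, nat_lit 3, nat_lit 2, nat_lit 1])) (.leaf ((nat_lit 128), [nat_lit 1, nat_lit 3, nat_lit 1]))) (.node (nat_lit 1723) (.leaf ((nat_lit 331), [nat_lit 2, nat_lit 3, nat_lit 1, nat_lit 3, nat_lit 2, nat_lit 1])) (.leaf ((nat_lit 306), [nat_lit 1, nat_lit 3, nat_lit 2, nat_lit 0])))))
 (.node (nat_lit 1728) (.node (nat_lit 1726) (.node (nat_lit 1725) (.leaf ((nat_lit 236), [nat_lit 2, nat_lit 3, nat_lit 1, nat_lit 3, nat_lit 2, nat_lit 1])) (.leaf ((nat_lit 133), [nat_lit 0, nat_lit 3, nat_lit 2, nat_lit 1]))) (.node (nat_lit 1727) (.leaf ((nat_lit 126), [nat_lit 1, nat_lit 3, nat_lit 1, nat_lit 3, nat_lit 2, nat_lit 1])) (.leaf ((nat_lit 296), []))))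
 (.node (nat_lit 1730) (.node (nat_lit 1729) (.leaf ((nat_lit 208), [nat_lit 2, nat_lit 3, nat_lit 1, nat_lit 3, nat_lit 2, nat_lit 1])) (.leaf ((nat_lit 329), [nat_lit 1, nat_lit 3, nat_lit 2, nat_lit 0]))) (.node (nat_lit 1731) (.leaf ((nat_lit 320), [nat_lit 3, nat_lit 1, nat_lit 3, nat_lit 2, nat_lit 1])) (.leaf ((nat_lit 163), [nat_lit 3, nat_lit 1, nat_lit 3, nat_lit 2, nat_lit 0])))))))
 (.node (nat_lit 1748) (.node (nat_lit 1740) (.node (nat_lit 1736) (.node (nat_lit 1734) (.node (nat_lit 1733) (.leaf ((nat_lit 334), [nat_lit 3, nat_lit 2, nat_lit 1])) (.leaf ((nat_lit 127), [nat_lit 1, nat_lit 3, nat_lit 1]))) (.node (nat_lit 1735) (.leaf ((nat_lit 286), [nat_lit 3, nat_lit 1, nat_lit 3, nat_lit 0])) (.leaf ((nat_lit 273), [nat_lit 1, nat_lit 3, nat_lit 2]))))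
 (.node (nat_lit 1738) (.node (nat_lit 1737) (.leaf ((nat_lit 219), [nat_lit 0, nat_lit 3, nat_lit 1, nat_lit 3, nat_lit 2, nat_lit 1])) (.leaf ((nat_lit 157), [nat_lit 0, nat_lit 3, nat_lit 1, nat_lit 3, nat_lit 0]))) (.node (nat_lit 1739) (.leaf ((nat_lit 278), [nat_lit 0, nat_lit 3, nat_lit 2, nat_lit 0])) (.leaf ((nat_lit 129), [nat_lit 3, nat_lit 2, nat_lit 1])))))
 (.node (nat_lit 1744) (.node (nat_lit 1742) (.node (nat_lit 1741) (.leaf ((nat_lit 130), [nat_lit 0, nat_lit 3, nat_lit 0, nat_lit 3, nat_lit 1])) (.leaf ((nat_lit 160), [nat_lit 0, nat_lit 3, nat_lit 0, nat_lit 3, nat_lit 2, nat_lit 0]))) (.node (nat_lit 1743) (.leaf ((nat_lit 188), [nat_lit 2])) (.leaf ((nat_lit 180), [nat_lit 0, nat_lit 3, nat_lit 1, nat_lit 3, nat_lit 2, nat_lit 0]))))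
 (.node (nat_lit 1746) (.node (nat_lit 1745) (.leaf ((nat_lit 216), [])) (.leaf ((nat_lit 139), [nat_lit 1, nat_lit 3, nat_lit 1, nat_lit 3, nat_lit 2]))) (.node (nat_lit 1747) (.leaf ((nat_lit 297), [nat_lit 3, nat_lit 2, nat_lit 0])) (.leaf ((nat_lit 296), [nat_lit 0, nat_lit 3, nat_lit 1, nat_lit 3]))))))
 (.node (nat_lit 1756) (.node (nat_lit 1752) (.node (nat_lit 1750) (.node (nat_lit 1749) (.leaf ((nat_lit 233), [nat_lit 0, nat_lit 3, nat_lit 1, nat_lit 3, nat_lit 1])) (.leaf ((nat_lit 186), [nat_lit 0, nat_lit 3, nat_lit 1, nat_lit 3, nat_lit 2, nat_lit 0]))) (.node (nat_lit 1751) (.leaf ((nat_lit 132), [nat_lit 0, nat_lit 3, nat_lit 1, nat_lit 3, nat_lit 2, nat_lit 0])) (.leaf ((nat_lit 320), [nat_lit 0, nat_lit 3, nat_lit 1, nat_lit 3, nat_lit 2, nat_lit 0]))))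
 (.node (nat_lit 1754) (.node (nat_lit 1753) (.leaf ((nat_lit 293), [nat_lit 3, nat_lit 0, nat_lit 3, nat_lit 1])) (.leaf ((nat_lit 213), [nat_lit 1, nat_lit 3, nat_lit 1, nat_lit 3]))) (.node (nat_lit 1755) (.leaf ((nat_lit 194), [nat_lit 3, nat_lit 1, nat_lit 3, nat_lit 1])) (.leaf ((nat_lit 217), [nat_lit 3, nat_lit 1, nat_lit 3, nat_lit 2, nat_lit 0])))))
 (.node (nat_lit 1760) (.node (nat_lit 1758) (.node (nat_lit 1757) (.leaf ((nat_lit 251), [nat_lit 3])) (.leaf ((nat_lit 133), [nat_lit 1, nat_lit 3, nat_lit 1]))) (.node (nat_lit 1759) (.leaf ((nat_lit 292), [nat_lit 0, nat_lit 3, nat_lit 1, nat_lit 3])) (.leaf ((nat_lit 163), [nat_lit 0, nat_lit 3, nat_lit 0]))))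
 (.node (nat_lit 1762) (.node (nat_lit 1761) (.leaf ((nat_lit 134), [nat_lit 2])) (.leaf ((nat_lit 190), [nat_lit 0, nat_lit 3, nat_lit 1, nat_lit 3, nat_lit 0]))) (.node (nat_lit 1763) (.leaf ((nat_lit 136), [nat_lit 0, nat_lit 3, nat_lit 1, nat_lit 3, nat_lit 0])) (.leaf ((nat_lit 165), [nat_lit 3, nat_lit 0, nat_lit 3, nat_lit 2, nat_lit 1]))))))))))
noncomputable def n3Wd_7 : Tr (ℕ × List ℕ) := (.node (nat_lit 1890) (.node (nat_lit 1827) (.node (nat_lit 1795) (.node (nat_lit 1779) (.node (nat_lit 1771) (.node (nat_lit 1767) (.node (nat_lit 1765) (.leaf ((nat_lit 195), [nat_lit 3, nat_lit 0, nat_lit 3, nat_lit 2])) (.node (nat_lit 1766) (.leaf ((nat_lit 205), [nat_lit 3, nat_lit 2, nat_lit 1])) (.leaf ((nat_lit 274), [nat_lit 0, nat_lit 3]))))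
 (.node (nat_lit 1769) (.node (nat_lit 1768) (.leaf ((nat_lit 205), [nat_lit 0, nat_lit 3, nat_lit 1, nat_lit 3, nat_lit 2, nat_lit 0])) (.leaf ((nat_lit 134), [nat_lit 0, nat_lit 3, nat_lit 1, nat_lit 3, nat_lit 2, nat_lit 0]))) (.node (nat_lit 1770) (.leaf ((nat_lit 216), [nat_lit 0, nat_lit 3, nat_lit 1, nat_lit 3, nat_lit 2, nat_lit 0])) (.leaf ((nat_lit 209), [nat_lit 2, nat_lit 0])))))
 (.node (nat_lit 1775) (.node (nat_lit 1773) (.node (nat_lit 1772) (.leaf ((nat_lit 138), [nat_lit 0, nat_lit 3, nat_lit 1, nat_lit 3])) (.leaf ((nat_lit 322), [nat_lit 3, nat_lit 1]))) (.node (nat_lit 1774) (.leaf ((nat_lit 240), [nat_lit 0, nat_lit 3, nat_lit 2, nat_lit 1])) (.leaf ((nat_lit 324), [nat_lit 0, nat_lit 3, nat_lit 2, nat_lit 1]))))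
 (.node (nat_lit 1777) (.node (nat_lit 1776) (.leaf ((nat_lit 295), [nat_lit 2, nat_lit 1])) (.leaf ((nat_lit 139), [nat_lit 3]))) (.node (nat_lit 1778) (.leaf ((nat_lit 291), [nat_lit 3, nat_lit 0, nat_lit 3, nat_lit 1])) (.leaf ((nat_lit 245), [nat_lit 0, nat_lit 3, nat_lit 2, nat_lit 0]))))))
 (.node (nat_lit 1787) (.node (nat_lit 1783) (.node (nat_lit 1781) (.node (nat_lit 1780) (.leaf ((nat_lit 142), [nat_lit 0, nat_lit 3, nat_lit 1, nat_lit 3, nat_lit 2, nat_lit 1])) (.leaf ((nat_lit 142), [nat_lit 2, nat_lit 3, nat_lit 1, nat_lit 3, nat_lit 2, nat_lit 1]))) (.node (nat_lit 1782) (.leaf ((nat_lit 287), [])) (.leaf ((nat_lit 291), [nat_lit 0, nat_lit 3, nat_lit 2, nat_lit 1]))))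
 (.node (nat_lit 1785) (.node (nat_lit 1784) (.leaf ((nat_lit 139), [nat_lit 0, nat_lit 3, nat_lit 1])) (.leaf ((nat_lit 246), [nat_lit 0, nat_lit 3, nat_lit 1, nat_lit 3, nat_lit 2]))) (.node (nat_lit 1786) (.leaf ((nat_lit 334), [nat_lit 1, nat_lit 3, nat_lit 1, nat_lit 3, nat_lit 2, nat_lit 1])) (.leaf ((nat_lit 163), [nat_lit 1, nat_lit 3, nat_lit 1, nat_lit 3])))))
 (.node (nat_lit 1791) (.node (nat_lit 1789) (.node (nat_lit 1788) (.leaf ((nat_lit 273), [nat_lit 3, nat_lit 0])) (.leaf ((nat_lit 220), [nat_lit 2]))) (.node (nat_lit 1790) (.leaf ((nat_lit 317), [nat_lit 2])) (.leaf ((nat_lit 319), [nat_lit 2, nat_lit 1]))))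
 (.node (nat_lit 1793) (.node (nat_lit 1792) (.leaf ((nat_lit 312), [nat_lit 0, nat_lit 3, nat_lit 1, nat_lit 3, nat_lit 0])) (.leaf ((nat_lit 321), [nat_lit 0, nat_lit 3, nat_lit 2, nat_lit 0]))) (.node (nat_lit 1794) (.leaf ((nat_lit 140), [nat_lit 3, nat_lit 0])) (.leaf ((nat_lit 255), [nat_lit 1, nat_lit 3, nat_lit 0])))))))
 (.node (nat_lit 1811) (.node (nat_lit 1803) (.node (nat_lit 1799) (.node (nat_lit 1797) (.node (nat_lit 1796) (.leaf ((nat_lit 141), [nat_lit 2, nat_lit 3, nat_lit 1, nat_lit 3])) (.leaf ((nat_lit 254), []))) (.node (nat_lit 1798) (.leaf ((nat_lit 269), [nat_lit 3, nat_lit 2, nat_lit 0])) (.leaf ((nat_lit 173), [nat_lit 3, nat_lit 1, nat_lit 3, nat_lit 2]))))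
 (.node (nat_lit 1801) (.node (nat_lit 1800) (.leaf ((nat_lit 211), [nat_lit 3, nat_lit 1, nat_lit 3, nat_lit 2, nat_lit 1])) (.leaf ((nat_lit 203), [nat_lit 0, nat_lit 3, nat_lit 1, nat_lit 3, nat_lit 2]))) (.node (nat_lit 1802) (.leaf ((nat_lit 254), [nat_lit 1])) (.leaf ((nat_lit 141), [nat_lit 2, nat_lit 3, nat_lit 1, nat_lit 3, nat_lit 1])))))
 (.node (nat_lit 1807) (.node (nat_lit 1805) (.node (nat_lit 1804) (.leaf ((nat_lit 260), [nat_lit 3, nat_lit 2])) (.leaf ((nat_lit 204), [nat_lit 1, nat_lit 3, nat_lit 0]))) (.node (nat_lit 1806) (.leaf ((nat_lit 328), [nat_lit 0, nat_lit 3, nat_lit 2, nat_lit 0])) (.leaf ((nat_lit 250), [nat_lit 3, nat_lit 1, nat_lit 3, nat_lit 2]))))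
 (.node (nat_lit 1809) (.node (nat_lit 1808) (.leaf ((nat_lit 249), [nat_lit 3, nat_lit 1, nat_lit 3])) (.leaf ((nat_lit 142), [nat_lit 1, nat_lit 3, nat_lit 1, nat_lit 3, nat_lit 0]))) (.node (nat_lit 1810) (.leaf ((nat_lit 302), [nat_lit 0, nat_lit 3, nat_lit 1, nat_lit 3, nat_lit 2, nat_lit 0])) (.leaf ((nat_lit 255), [nat_lit 0, nat_lit 3, nat_lit 1, nat_lit 3, nat_lit 2, nat_lit 0]))))))
 (.node (nat_lit 1819) (.node (nat_lit 1815) (.node (nat_lit 1813) (.node (nat_lit 1812) (.leaf ((nat_lit 284), [nat_lit 3, nat_lit 1, nat_lit 3, nat_lit 2, nat_lit 1])) (.leaf ((nat_lit 269), [nat_lit 3, nat_lit 1, nat_lit 3]))) (.node (nat_lit 1814) (.leaf ((nat_lit 335), [nat_lit 2])) (.leaf ((nat_lit 258), [nat_lit 0, nat_lit 3, nat_lit 1, nat_lit 3, nat_lit 2]))))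
 (.node (nat_lit 1817) (.node (nat_lit 1816) (.leaf ((nat_lit 301), [nat_lit 0, nat_lit 3, nat_lit 1, nat_lit 3, nat_lit 2, nat_lit 0])) (.leaf ((nat_lit 258), [nat_lit 0, nat_lit 3, nat_lit 1, nat_lit 3, nat_lit 2, nat_lit 0]))) (.node (nat_lit 1818) (.leaf ((nat_lit 143), [nat_lit 3, nat_lit 1, nat_lit 3, nat_lit 2, nat_lit 1])) (.leaf ((nat_lit 259), [nat_lit 0, nat_lit 3, nat_lit 1, nat_lit 3, nat_lit 1])))))
 (.node (nat_lit 1823) (.node (nat_lit 1821) (.node (nat_lit 1820) (.leaf ((nat_lit 144), [nat_lit 2])) (.leaf ((nat_lit 332), [nat_lit 3, nat_lit 2]))) (.node (nat_lit 1822) (.leaf ((nat_lit 280), [nat_lit 0, nat_lit 3, nat_lit 1, nat_lit 3, nat_lit 2, nat_lit 0])) (.leaf ((nat_lit 270), [nat_lit 0, nat_lit 3, nat_lit 1, nat_lit 3, nat_lit 2, nat_lit 0]))))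
 (.node (nat_lit 1825) (.node (nat_lit 1824) (.leaf ((nat_lit 303), [nat_lit 0, nat_lit 3, nat_lit 1, nat_lit 3, nat_lit 2, nat_lit 0])) (.leaf ((nat_lit 260), [nat_lit 1, nat_lit 3, nat_lit 0]))) (.node (nat_lit 1826) (.leaf ((nat_lit 332), [nat_lit 1, nat_lit 3, nat_lit 2, nat_lit 1])) (.leaf ((nat_lit 144), [nat_lit 3, nat_lit 1, nat_lit 3, nat_lit 2, nat_lit 1]))))))))
 (.node (nat_lit 1858) (.node (nat_lit 1842) (.node (nat_lit 1834) (.node (nat_lit 1830) (.node (nat_lit 1828) (.leaf ((nat_lit 251), [nat_lit 1, nat_lit 3, nat_lit 1, nat_lit 3, nat_lit 2, nat_lit 1])) (.node (nat_lit 1829) (.leaf ((nat_lit 217), [nat_lit 3, nat_lit 0, nat_lit 3, nat_lit 1])) (.leaf ((nat_lit 335), [nat_lit 3, nat_lit 0]))))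
 (.node (nat_lit 1832) (.node (nat_lit 1831) (.leaf ((nat_lit 279), [nat_lit 0, nat_lit 3, nat_lit 0, nat_lit 3, nat_lit 2, nat_lit 1])) (.leaf ((nat_lit 271), [nat_lit 1, nat_lit 3]))) (.node (nat_lit 1833) (.leaf ((nat_lit 277), [nat_lit 3, nat_lit 1, nat_lit 3, nat_lit 2, nat_lit 0])) (.leaf ((nat_lit 225), [nat_lit 0, nat_lit 3, nat_lit 1, nat_lit 3, nat_lit 2, nat_lit 0])))))
 (.node (nat_lit 1838) (.node (nat_lit 1836) (.node (nat_lit 1835) (.leaf ((nat_lit 144), [nat_lit 0, nat_lit 3, nat_lit 1, nat_lit 3, nat_lit 2, nat_lit 0])) (.leaf ((nat_lit 257), [nat_lit 3, nat_lit 1, nat_lit 3, nat_lit 2, nat_lit 1]))) (.node (nat_lit 1837) (.leaf ((nat_lit 247), [nat_lit 0, nat_lit 3, nat_lit 1, nat_lit 3, nat_lit 0])) (.leaf ((nat_lit 287), [nat_lit 0, nat_lit 3, nat_lit 2]))))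
 (.node (nat_lit 1840) (.node (nat_lit 1839) (.leaf ((nat_lit 264), [nat_lit 1, nat_lit 3, nat_lit 1, nat_lit 3, nat_lit 2, nat_lit 0])) (.leaf ((nat_lit 153), [nat_lit 0, nat_lit 3, nat_lit 1, nat_lit 3, nat_lit 2, nat_lit 0]))) (.node (nat_lit 1841) (.leaf ((nat_lit 257), [nat_lit 0, nat_lit 3, nat_lit 1, nat_lit 3, nat_lit 2, nat_lit 0])) (.leaf ((nat_lit 147), [nat_lit 0, nat_lit 3, nat_lit 1, nat_lit 3, nat_lit 2, nat_lit 0]))))))
 (.node (nat_lit 1850) (.node (nat_lit 1846) (.node (nat_lit 1844) (.node (nat_lit 1843) (.leaf ((nat_lit 258), [nat_lit 2, nat_lit 3, nat_lit 1, nat_lit 3, nat_lit 2, nat_lit 0])) (.leaf ((nat_lit 311), [nat_lit 1, nat_lit 3, nat_lit 2]))) (.node (nat_lit 1845) (.leaf ((nat_lit 269), [nat_lit 3, nat_lit 2, nat_lit 0])) (.leaf ((nat_lit 250), [nat_lit 0, nat_lit 3, nat_lit 2, nat_lit 0]))))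
 (.node (nat_lit 1848) (.node (nat_lit 1847) (.leaf ((nat_lit 149), [nat_lit 0, nat_lit 3, nat_lit 1, nat_lit 3, nat_lit 0])) (.leaf ((nat_lit 307), [nat_lit 3, nat_lit 0, nat_lit 3, nat_lit 2, nat_lit 1]))) (.node (nat_lit 1849) (.leaf ((nat_lit 266), [nat_lit 1, nat_lit 3, nat_lit 1, nat_lit 3, nat_lit 0])) (.leaf ((nat_lit 211), [nat_lit 3, nat_lit 1, nat_lit 3])))))
 (.node (nat_lit 1854) (.node (nat_lit 1852) (.node (nat_lit 1851) (.leaf ((nat_lit 197), [nat_lit 2])) (.leaf ((nat_lit 151), [nat_lit 0, nat_lit 3, nat_lit 2, nat_lit 0]))) (.node (nat_lit 1853) (.leaf ((nat_lit 328), [nat_lit 2, nat_lit 3, nat_lit 1, nat_lit 3, nat_lit 2, nat_lit 0])) (.leaf ((nat_lit 250), [nat_lit 1, nat_lit 3, nat_lit 0]))))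
 (.node (nat_lit 1856) (.node (nat_lit 1855) (.leaf ((nat_lit 273), [nat_lit 0, nat_lit 3, nat_lit 2, nat_lit 0])) (.leaf ((nat_lit 286), [nat_lit 1]))) (.node (nat_lit 1857) (.leaf ((nat_lit 226), [nat_lit 3, nat_lit 0, nat_lit 3, nat_lit 1])) (.leaf ((nat_lit 328), [nat_lit 0, nat_lit 3, nat_lit 2, nat_lit 0])))))))
 (.node (nat_lit 1874) (.node (nat_lit 1866) (.node (nat_lit 1862) (.node (nat_lit 1860) (.node (nat_lit 1859) (.leaf ((nat_lit 151), [nat_lit 2, nat_lit 3, nat_lit 1, nat_lit 3, nat_lit 2, nat_lit 0])) (.leaf ((nat_lit 246), [nat_lit 3, nat_lit 2]))) (.node (nat_lit 1861) (.leaf ((nat_lit 206), [nat_lit 2, nat_lit 3, nat_lit 1, nat_lit 3, nat_lit 2])) (.leaf ((nat_lit 274), [nat_lit 0, nat_lit 3, nat_lit 0, nat_lit 3, nat_lit 2, nat_lit 1]))))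
 (.node (nat_lit 1864) (.node (nat_lit 1863) (.leaf ((nat_lit 205), [nat_lit 3, nat_lit 1, nat_lit 3])) (.leaf ((nat_lit 278), [nat_lit 0, nat_lit 3, nat_lit 2, nat_lit 0]))) (.node (nat_lit 1865) (.leaf ((nat_lit 157), [nat_lit 0, nat_lit 3, nat_lit 1, nat_lit 3, nat_lit 0])) (.leaf ((nat_lit 151), [nat_lit 3, nat_lit 0, nat_lit 3, nat_lit 2, nat_lit 1])))))
 (.node (nat_lit 1870) (.node (nat_lit 1868) (.node (nat_lit 1867) (.leaf ((nat_lit 333), [nat_lit 0, nat_lit 3, nat_lit 1, nat_lit 3, nat_lit 0])) (.leaf ((nat_lit 307), [nat_lit 1, nat_lit 3, nat_lit 2]))) (.node (nat_lit 1869) (.leaf ((nat_lit 280), [nat_lit 0, nat_lit 3, nat_lit 1, nat_lit 3, nat_lit 2, nat_lit 1])) (.leaf ((nat_lit 259), [nat_lit 0, nat_lit 3, nat_lit 1, nat_lit 3, nat_lit 2, nat_lit 0]))))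
 (.node (nat_lit 1872) (.node (nat_lit 1871) (.leaf ((nat_lit 160), [nat_lit 0, nat_lit 3, nat_lit 1, nat_lit 3, nat_lit 2, nat_lit 0])) (.leaf ((nat_lit 152), [nat_lit 0, nat_lit 3, nat_lit 1, nat_lit 3, nat_lit 2, nat_lit 0]))) (.node (nat_lit 1873) (.leaf ((nat_lit 274), [nat_lit 1, nat_lit 3, nat_lit 1, nat_lit 3, nat_lit 2])) (.leaf ((nat_lit 206), [nat_lit 3, nat_lit 1, nat_lit 3]))))))
 (.node (nat_lit 1882) (.node (nat_lit 1878) (.node (nat_lit 1876) (.node (nat_lit 1875) (.leaf ((nat_lit 195), [nat_lit 1, nat_lit 3, nat_lit 2, nat_lit 1])) (.leaf ((nat_lit 298), [nat_lit 2, nat_lit 3, nat_lit 1, nat_lit 3, nat_lit 2, nat_lit 0]))) (.node (nat_lit 1877) (.leaf ((nat_lit 249), [nat_lit 0, nat_lit 3, nat_lit 2, nat_lit 0])) (.leaf ((nat_lit 158), [nat_lit 2, nat_lit 3, nat_lit 1, nat_lit 3, nat_lit 2, nat_lit 1]))))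
 (.node (nat_lit 1880) (.node (nat_lit 1879) (.leaf ((nat_lit 229), [nat_lit 1, nat_lit 3, nat_lit 2, nat_lit 0])) (.leaf ((nat_lit 320), [nat_lit 2, nat_lit 3, nat_lit 1, nat_lit 3, nat_lit 2, nat_lit 1]))) (.node (nat_lit 1881) (.leaf ((nat_lit 329), [nat_lit 1, nat_lit 3, nat_lit 1, nat_lit 3, nat_lit 2])) (.leaf ((nat_lit 252), [nat_lit 3])))))
 (.node (nat_lit 1886) (.node (nat_lit 1884) (.node (nat_lit 1883) (.leaf ((nat_lit 332), [nat_lit 2, nat_lit 3, nat_lit 1, nat_lit 3, nat_lit 2, nat_lit 1])) (.leaf ((nat_lit 159), []))) (.node (nat_lit 1885) (.leaf ((nat_lit 189), [nat_lit 1, nat_lit 3, nat_lit 1, nat_lit 3, nat_lit 0])) (.leaf ((nat_lit 167), [nat_lit 3, nat_lit 1, nat_lit 3, nat_lit 1]))))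
 (.node (nat_lit 1888) (.node (nat_lit 1887) (.leaf ((nat_lit 166), [nat_lit 2, nat_lit 3, nat_lit 1, nat_lit 3, nat_lit 2])) (.leaf ((nat_lit 324), [nat_lit 0, nat_lit 3, nat_lit 2, nat_lit 1]))) (.node (nat_lit 1889) (.leaf ((nat_lit 240), [nat_lit 0, nat_lit 3, nat_lit 2, nat_lit 1])) (.leaf ((nat_lit 178), [nat_lit 0, nat_lit 3, nat_lit 1, nat_lit 3, nat_lit 2, nat_lit 0])))))))))
 (.node (nat_lit 1953) (.node (nat_lit 1921) (.node (nat_lit 1905) (.node (nat_lit 1897) (.node (nat_lit 1893) (.node (nat_lit 1891) (.leaf ((nat_lit 272), [nat_lit 3, nat_lit 2, nat_lit 0])) (.node (nat_lit 1892) (.leaf ((nat_lit 265), [nat_lit 1, nat_lit 3, nat_lit 1])) (.leaf ((nat_lit 270), [nat_lit 2, nat_lit 3, nat_lit 1, nat_lit 3]))))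
 (.node (nat_lit 1895) (.node (nat_lit 1894) (.leaf ((nat_lit 167), [nat_lit 0, nat_lit 3, nat_lit 1, nat_lit 3, nat_lit 2, nat_lit 0])) (.leaf ((nat_lit 329), [nat_lit 0, nat_lit 3, nat_lit 1, nat_lit 3, nat_lit 2, nat_lit 0]))) (.node (nat_lit 1896) (.leaf ((nat_lit 195), [nat_lit 1, nat_lit 3, nat_lit 1, nat_lit 3, nat_lit 2])) (.leaf ((nat_lit 318), [nat_lit 0, nat_lit 3, nat_lit 2, nat_lit 1])))))
 (.node (nat_lit 1901) (.node (nat_lit 1899) (.node (nat_lit 1898) (.leaf ((nat_lit 321), [nat_lit 0])) (.leaf ((nat_lit 168), [nat_lit 3, nat_lit 0, nat_lit 3]))) (.node (nat_lit 1900) (.leaf ((nat_lit 335), [nat_lit 0, nat_lit 3, nat_lit 2, nat_lit 1])) (.leaf ((nat_lit 223), [nat_lit 1, nat_lit 3, nat_lit 1, nat_lit 3, nat_lit 2, nat_lit 1]))))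
 (.node (nat_lit 1903) (.node (nat_lit 1902) (.leaf ((nat_lit 325), [nat_lit 0, nat_lit 3, nat_lit 2, nat_lit 0])) (.leaf ((nat_lit 182), [nat_lit 0, nat_lit 3, nat_lit 1, nat_lit 3, nat_lit 2, nat_lit 1]))) (.node (nat_lit 1904) (.leaf ((nat_lit 298), [nat_lit 2])) (.leaf ((nat_lit 276), [nat_lit 0, nat_lit 3, nat_lit 1, nat_lit 3, nat_lit 2, nat_lit 1]))))))
 (.node (nat_lit 1913) (.node (nat_lit 1909) (.node (nat_lit 1907) (.node (nat_lit 1906) (.leaf ((nat_lit 176), [nat_lit 0, nat_lit 3, nat_lit 1, nat_lit 3, nat_lit 2, nat_lit 0])) (.leaf ((nat_lit 174), [nat_lit 0, nat_lit 3, nat_lit 1, nat_lit 3, nat_lit 2, nat_lit 0]))) (.node (nat_lit 1908) (.leaf ((nat_lit 197), [nat_lit 0, nat_lit 3, nat_lit 1, nat_lit 3, nat_lit 2, nat_lit 0])) (.leaf ((nat_lit 316), [nat_lit 3, nat_lit 2, nat_lit 0]))))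
 (.node (nat_lit 1911) (.node (nat_lit 1910) (.leaf ((nat_lit 187), [nat_lit 1, nat_lit 3, nat_lit 0])) (.leaf ((nat_lit 186), [nat_lit 2, nat_lit 3, nat_lit 1, nat_lit 3, nat_lit 2, nat_lit 0]))) (.node (nat_lit 1912) (.leaf ((nat_lit 333), [nat_lit 0, nat_lit 3, nat_lit 1, nat_lit 3, nat_lit 0])) (.leaf ((nat_lit 175), [nat_lit 0, nat_lit 3, nat_lit 1, nat_lit 3, nat_lit 0])))))
 (.node (nat_lit 1917) (.node (nat_lit 1915) (.node (nat_lit 1914) (.leaf ((nat_lit 326), [nat_lit 0, nat_lit 3, nat_lit 2, nat_lit 0])) (.leaf ((nat_lit 176), [nat_lit 0, nat_lit 3, nat_lit 1, nat_lit 3, nat_lit 2, nat_lit 0]))) (.node (nat_lit 1916) (.leaf ((nat_lit 276), [nat_lit 0, nat_lit 3, nat_lit 1, nat_lit 3, nat_lit 2, nat_lit 0])) (.leaf ((nat_lit 298), [nat_lit 2, nat_lit 1]))))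
 (.node (nat_lit 1919) (.node (nat_lit 1918) (.leaf ((nat_lit 271), [nat_lit 3, nat_lit 1, nat_lit 3, nat_lit 2])) (.leaf ((nat_lit 192), [nat_lit 3, nat_lit 2, nat_lit 0]))) (.node (nat_lit 1920) (.leaf ((nat_lit 218), [nat_lit 1, nat_lit 3])) (.leaf ((nat_lit 326), [nat_lit 3, nat_lit 1, nat_lit 3, nat_lit 2, nat_lit 1])))))))
 (.node (nat_lit 1937) (.node (nat_lit 1929) (.node (nat_lit 1925) (.node (nat_lit 1923) (.node (nat_lit 1922) (.leaf ((nat_lit 313), [nat_lit 3, nat_lit 1, nat_lit 3, nat_lit 0])) (.leaf ((nat_lit 288), [nat_lit 3, nat_lit 1, nat_lit 3, nat_lit 2, nat_lit 1]))) (.node (nat_lit 1924) (.leaf ((nat_lit 177), [nat_lit 0, nat_lit 3, nat_lit 1, nat_lit 3, nat_lit 2, nat_lit 0])) (.leaf ((nat_lit 207), [nat_lit 0, nat_lit 3, nat_lit 1, nat_lit 3, nat_lit 2, nat_lit 0]))))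
 (.node (nat_lit 1927) (.node (nat_lit 1926) (.leaf ((nat_lit 291), [nat_lit 0, nat_lit 3, nat_lit 1, nat_lit 3, nat_lit 2, nat_lit 0])) (.leaf ((nat_lit 187), [nat_lit 1, nat_lit 3, nat_lit 1, nat_lit 3, nat_lit 2, nat_lit 0]))) (.node (nat_lit 1928) (.leaf ((nat_lit 316), [nat_lit 1])) (.leaf ((nat_lit 185), [nat_lit 2, nat_lit 3, nat_lit 1, nat_lit 3, nat_lit 2, nat_lit 0])))))
 (.node (nat_lit 1933) (.node (nat_lit 1931) (.node (nat_lit 1930) (.leaf ((nat_lit 249), [nat_lit 2, nat_lit 3, nat_lit 1, nat_lit 3, nat_lit 2, nat_lit 0])) (.leaf ((nat_lit 298), [nat_lit 0, nat_lit 3, nat_lit 2, nat_lit 0]))) (.node (nat_lit 1932) (.leaf ((nat_lit 281), [nat_lit 1, nat_lit 3, nat_lit 2, nat_lit 1])) (.leaf ((nat_lit 243), [nat_lit 3, nat_lit 2, nat_lit 0]))))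
 (.node (nat_lit 1935) (.node (nat_lit 1934) (.leaf ((nat_lit 242), [nat_lit 3, nat_lit 0, nat_lit 3, nat_lit 0])) (.leaf ((nat_lit 295), [nat_lit 0, nat_lit 3]))) (.node (nat_lit 1936) (.leaf ((nat_lit 226), [nat_lit 0, nat_lit 3, nat_lit 1, nat_lit 3, nat_lit 2, nat_lit 0])) (.leaf ((nat_lit 196), [nat_lit 0, nat_lit 3, nat_lit 1, nat_lit 3, nat_lit 2, nat_lit 0]))))))
 (.node (nat_lit 1945) (.node (nat_lit 1941) (.node (nat_lit 1939) (.node (nat_lit 1938) (.leaf ((nat_lit 212), [nat_lit 3, nat_lit 1, nat_lit 3, nat_lit 2, nat_lit 1])) (.leaf ((nat_lit 197), [nat_lit 3, nat_lit 0, nat_lit 3, nat_lit 2]))) (.node (nat_lit 1940) (.leaf ((nat_lit 210), [nat_lit 3, nat_lit 2, nat_lit 1])) (.leaf ((nat_lit 266), [nat_lit 2, nat_lit 3, nat_lit 1, nat_lit 3, nat_lit 2]))))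
 (.node (nat_lit 1943) (.node (nat_lit 1942) (.leaf ((nat_lit 237), [nat_lit 0, nat_lit 3, nat_lit 1, nat_lit 3, nat_lit 2, nat_lit 0])) (.leaf ((nat_lit 210), [nat_lit 0, nat_lit 3, nat_lit 1, nat_lit 3, nat_lit 2, nat_lit 0]))) (.node (nat_lit 1944) (.leaf ((nat_lit 203), [nat_lit 1, nat_lit 3, nat_lit 1, nat_lit 3, nat_lit 2])) (.leaf ((nat_lit 252), [nat_lit 0])))))
 (.node (nat_lit 1949) (.node (nat_lit 1947) (.node (nat_lit 1946) (.leaf ((nat_lit 204), [nat_lit 0])) (.leaf ((nat_lit 198), []))) (.node (nat_lit 1948) (.leaf ((nat_lit 314), [nat_lit 3, nat_lit 2, nat_lit 0])) (.leaf ((nat_lit 295), [nat_lit 3, nat_lit 2, nat_lit 0]))))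
 (.node (nat_lit 1951) (.node (nat_lit 1950) (.leaf ((nat_lit 239), [nat_lit 3])) (.leaf ((nat_lit 329), [nat_lit 2, nat_lit 3, nat_lit 1, nat_lit 3]))) (.node (nat_lit 1952) (.leaf ((nat_lit 208), [nat_lit 1, nat_lit 3, nat_lit 0])) (.leaf ((nat_lit 229), [nat_lit 3, nat_lit 0, nat_lit 3, nat_lit 2, nat_lit 0]))))))))
 (.node (nat_lit 1984) (.node (nat_lit 1968) (.node (nat_lit 1960) (.node (nat_lit 1956) (.node (nat_lit 1954) (.leaf ((nat_lit 218), [nat_lit 3, nat_lit 1, nat_lit 3, nat_lit 2])) (.node (nat_lit 1955) (.leaf ((nat_lit 218), [nat_lit 3, nat_lit 1, nat_lit 3, nat_lit 1])) (.leaf ((nat_lit 316), [nat_lit 0, nat_lit 3, nat_lit 2, nat_lit 0]))))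
 (.node (nat_lit 1958) (.node (nat_lit 1957) (.leaf ((nat_lit 320), [nat_lit 3, nat_lit 1, nat_lit 3, nat_lit 2, nat_lit 1])) (.leaf ((nat_lit 229), [nat_lit 1, nat_lit 3, nat_lit 1, nat_lit 3, nat_lit 2]))) (.node (nat_lit 1959) (.leaf ((nat_lit 208), [nat_lit 2, nat_lit 3, nat_lit 1, nat_lit 3, nat_lit 2, nat_lit 1])) (.leaf ((nat_lit 272), [nat_lit 3, nat_lit 2])))))
 (.node (nat_lit 1964) (.node (nat_lit 1962) (.node (nat_lit 1961) (.leaf ((nat_lit 272), [nat_lit 2, nat_lit 3, nat_lit 1, nat_lit 3, nat_lit 0])) (.leaf ((nat_lit 318), [nat_lit 0, nat_lit 3, nat_lit 2, nat_lit 0]))) (.node (nat_lit 1963) (.leaf ((nat_lit 267), [nat_lit 0, nat_lit 3, nat_lit 2, nat_lit 1])) (.leaf ((nat_lit 241), [nat_lit 0, nat_lit 3, nat_lit 2, nat_lit 1]))))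
 (.node (nat_lit 1966) (.node (nat_lit 1965) (.leaf ((nat_lit 216), [nat_lit 3, nat_lit 0, nat_lit 3, nat_lit 2])) (.leaf ((nat_lit 273), [nat_lit 0, nat_lit 3, nat_lit 2, nat_lit 1]))) (.node (nat_lit 1967) (.leaf ((nat_lit 211), [nat_lit 1, nat_lit 3, nat_lit 1, nat_lit 3, nat_lit 2, nat_lit 1])) (.leaf ((nat_lit 251), [nat_lit 0, nat_lit 3, nat_lit 2, nat_lit 0]))))))
 (.node (nat_lit 1976) (.node (nat_lit 1972) (.node (nat_lit 1970) (.node (nat_lit 1969) (.leaf ((nat_lit 216), [nat_lit 0, nat_lit 3, nat_lit 1, nat_lit 3, nat_lit 1])) (.leaf ((nat_lit 268), [nat_lit 0, nat_lit 3, nat_lit 1, nat_lit 3, nat_lit 1]))) (.node (nat_lit 1971) (.leaf ((nat_lit 267), [nat_lit 2, nat_lit 1])) (.leaf ((nat_lit 309), [nat_lit 0, nat_lit 3, nat_lit 2, nat_lit 0]))))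
 (.node (nat_lit 1974) (.node (nat_lit 1973) (.leaf ((nat_lit 308), [nat_lit 0, nat_lit 3, nat_lit 1, nat_lit 3, nat_lit 0])) (.leaf ((nat_lit 300), [nat_lit 0, nat_lit 3, nat_lit 2, nat_lit 0]))) (.node (nat_lit 1975) (.leaf ((nat_lit 325), [nat_lit 3, nat_lit 0, nat_lit 3, nat_lit 2])) (.leaf ((nat_lit 288), [nat_lit 0, nat_lit 3, nat_lit 2])))))
 (.node (nat_lit 1980) (.node (nat_lit 1978) (.node (nat_lit 1977) (.leaf ((nat_lit 313), [nat_lit 1, nat_lit 3, nat_lit 1, nat_lit 3, nat_lit 2])) (.leaf ((nat_lit 222), [nat_lit 0, nat_lit 3, nat_lit 1, nat_lit 3, nat_lit 2, nat_lit 0]))) (.node (nat_lit 1979) (.leaf ((nat_lit 315), [nat_lit 0, nat_lit 3, nat_lit 1, nat_lit 3, nat_lit 2, nat_lit 0])) (.leaf ((nat_lit 233), [nat_lit 0, nat_lit 3, nat_lit 1, nat_lit 3, nat_lit 2, nat_lit 0]))))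
 (.node (nat_lit 1982) (.node (nat_lit 1981) (.leaf ((nat_lit 236), [nat_lit 3, nat_lit 1, nat_lit 3, nat_lit 2, nat_lit 0])) (.leaf ((nat_lit 281), [nat_lit 3, nat_lit 1, nat_lit 3, nat_lit 0]))) (.node (nat_lit 1983) (.leaf ((nat_lit 331), [nat_lit 3, nat_lit 1, nat_lit 3, nat_lit 2, nat_lit 0])) (.leaf ((nat_lit 284), [nat_lit 0, nat_lit 3, nat_lit 1, nat_lit 3, nat_lit 2, nat_lit 0])))))))
 (.node (nat_lit 2000) (.node (nat_lit 1992) (.node (nat_lit 1988) (.node (nat_lit 1986) (.node (nat_lit 1985) (.leaf ((nat_lit 331), [nat_lit 0, nat_lit 3, nat_lit 1, nat_lit 3, nat_lit 2, nat_lit 0])) (.leaf ((nat_lit 225), [nat_lit 3, nat_lit 1, nat_lit 3, nat_lit 2, nat_lit 1]))) (.node (nat_lit 1987) (.leaf ((nat_lit 287), [nat_lit 3, nat_lit 1, nat_lit 3, nat_lit 0])) (.leaf ((nat_lit 247), [nat_lit 1, nat_lit 3, nat_lit 2]))))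
 (.node (nat_lit 1990) (.node (nat_lit 1989) (.leaf ((nat_lit 330), [nat_lit 0, nat_lit 3, nat_lit 1, nat_lit 3, nat_lit 2, nat_lit 1])) (.leaf ((nat_lit 253), [nat_lit 0, nat_lit 3, nat_lit 1, nat_lit 3, nat_lit 2, nat_lit 0]))) (.node (nat_lit 1991) (.leaf ((nat_lit 330), [nat_lit 0, nat_lit 3, nat_lit 1, nat_lit 3, nat_lit 2, nat_lit 0])) (.leaf ((nat_lit 227), [nat_lit 1, nat_lit 3, nat_lit 1, nat_lit 3, nat_lit 2])))))
 (.node (nat_lit 1996) (.node (nat_lit 1994) (.node (nat_lit 1993) (.leaf ((nat_lit 334), [nat_lit 0, nat_lit 3, nat_lit 2, nat_lit 1])) (.leaf ((nat_lit 304), [nat_lit 3, nat_lit 2]))) (.node (nat_lit 1995) (.leaf ((nat_lit 303), [nat_lit 1, nat_lit 3, nat_lit 2, nat_lit 1])) (.leaf ((nat_lit 246), [nat_lit 3, nat_lit 2]))))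
 (.node (nat_lit 1998) (.node (nat_lit 1997) (.leaf ((nat_lit 313), [nat_lit 3, nat_lit 1, nat_lit 3, nat_lit 0])) (.leaf ((nat_lit 277), [nat_lit 0, nat_lit 3, nat_lit 2, nat_lit 0]))) (.node (nat_lit 1999) (.leaf ((nat_lit 311), [nat_lit 2, nat_lit 3, nat_lit 1, nat_lit 3, nat_lit 2, nat_lit 0])) (.leaf ((nat_lit 258), [nat_lit 1, nat_lit 3, nat_lit 2]))))))
 (.node (nat_lit 2008) (.node (nat_lit 2004) (.node (nat_lit 2002) (.node (nat_lit 2001) (.leaf ((nat_lit 335), [nat_lit 1, nat_lit 3, nat_lit 1, nat_lit 3, nat_lit 2, nat_lit 0])) (.leaf ((nat_lit 318), [nat_lit 2, nat_lit 3, nat_lit 1, nat_lit 3, nat_lit 2, nat_lit 0]))) (.node (nat_lit 2003) (.leaf ((nat_lit 262), [nat_lit 0, nat_lit 3, nat_lit 2, nat_lit 0])) (.leaf ((nat_lit 260), [nat_lit 1, nat_lit 3, nat_lit 0]))))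
 (.node (nat_lit 2006) (.node (nat_lit 2005) (.leaf ((nat_lit 332), [nat_lit 3, nat_lit 2, nat_lit 0])) (.leaf ((nat_lit 260), [nat_lit 3, nat_lit 1, nat_lit 3, nat_lit 2]))) (.node (nat_lit 2007) (.leaf ((nat_lit 259), [nat_lit 0, nat_lit 3, nat_lit 1, nat_lit 3])) (.leaf ((nat_lit 297), [nat_lit 3, nat_lit 1, nat_lit 3, nat_lit 2])))))
 (.node (nat_lit 2012) (.node (nat_lit 2010) (.node (nat_lit 2009) (.leaf ((nat_lit 288), [nat_lit 3, nat_lit 2, nat_lit 1])) (.leaf ((nat_lit 271), [nat_lit 0, nat_lit 3, nat_lit 1, nat_lit 3, nat_lit 0]))) (.node (nat_lit 2011) (.leaf ((nat_lit 280), [nat_lit 0, nat_lit 3, nat_lit 1, nat_lit 3, nat_lit 1])) (.leaf ((nat_lit 302), [nat_lit 2]))))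
 (.node (nat_lit 2014) (.node (nat_lit 2013) (.leaf ((nat_lit 333), [nat_lit 0, nat_lit 3, nat_lit 1, nat_lit 3, nat_lit 2])) (.leaf ((nat_lit 316), [nat_lit 3, nat_lit 2, nat_lit 0]))) (.node (nat_lit 2015) (.leaf ((nat_lit 266), [nat_lit 3, nat_lit 2, nat_lit 0])) (.leaf ((nat_lit 304), [nat_lit 1, nat_lit 3]))))))))))
noncomputable def n3Wd : Tr (ℕ × List ℕ) := (.node (nat_lit 1008) (.node (nat_lit 504) (.node (nat_lit 252) n3Wd_0 n3Wd_1) (.node (nat_lit 756) n3Wd_2 n3Wd_3)) (.node (nat_lit 1512) (.node (nat_lit 1260) n3Wd_4 n3Wd_5) (.node (nat_lit 1764) n3Wd_6 n3Wd_7)))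
theorem n3q : allR 0 336 (dblChk (nat_lit 4) (nat_lit 15) (MG.gl42L.map Lev.b) MG.gl42T n3T n3Dd (topN MG.gl42L) 336 16 n3PA n3Wd) = true := by decide +kernel
noncomputable def n3Ws : List (List ℕ) := [[]]
noncomputable def n3CE : Tr (ℕ × List ℕ × List (List ℕ)) := (.node (nat_lit 8) (.node (nat_lit 4) (.node (nat_lit 2) (.node (nat_lit 1) (.leaf ((nat_lit 0), [], [])) (.leaf ((nat_lit 1), [nat_lit 4, nat_lit 5, nat_lit 0, nat_lit 4, nat_lit 0], [[nat_lit 99, nat_lit 3, nat_lit 0]]))) (.node (nat_lit 3) (.leaf ((nat_lit 1), [nat_lit 4, nat_lit 5, nat_lit 2, nat_lit 0, nat_lit 3, nat_lit 2], [[nat_lit 99, nat_lit 3, nat_lit 1]])) (.leaf ((nat_lit 5), [nat_lit 3, nat_lit 1, nat_lit 5, nat_lit 1, nat_lit 4, nat_lit 3, nat_lit 2, nat_lit 3, nat_lit 1, nat_lit 0], [[nat_lit 3, nat_lit 1], [nat_lit 3, nat_lit 99, nat_lit 0]]))))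
 (.node (nat_lit 6) (.node (nat_lit 5) (.leaf ((nat_lit 7), [nat_lit 4, nat_lit 0, nat_lit 5, nat_lit 2, nat_lit 0, nat_lit 4, nat_lit 0, nat_lit 3, nat_lit 2, nat_lit 1, nat_lit 0], [[nat_lit 1, nat_lit 3], [nat_lit 99, nat_lit 3, nat_lit 0]])) (.leaf ((nat_lit 1), [nat_lit 1, nat_lit 0, nat_lit 5, nat_lit 0, nat_lit 4, nat_lit 0, nat_lit 3, nat_lit 0], [[nat_lit 3, nat_lit 99, nat_lit 1]]))) (.node (nat_lit 7) (.leaf ((nat_lit 5), [nat_lit 2, nat_lit 0, nat_lit 5, nat_lit 4, nat_lit 2, nat_lit 1, nat_lit 4, nat_lit 2, nat_lit 1, nat_lit 3, nat_lit 2, nat_lit 0], [[nat_lit 3, nat_lit 0], [nat_lit 3, nat_lit 99, nat_lit 99, nat_lit 0]])) (.leaf ((nat_lit 7), [nat_lit 0, nat_lit 5, nat_lit 4, nat_lit 2, nat_lit 1, nat_lit 3, nat_lit 2, nat_lit 0], [[nat_lit 3, nat_lit 0, nat_lit 3, nat_lit 0], [nat_lit 99, nat_lit 3, nat_lit 99]])))))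
 (.node (nat_lit 12) (.node (nat_lit 10) (.node (nat_lit 9) (.leaf ((nat_lit 1), [nat_lit 5, nat_lit 2, nat_lit 4, nat_lit 1, nat_lit 3, nat_lit 0], [[nat_lit 2, nat_lit 99, nat_lit 0]])) (.leaf ((nat_lit 1), [nat_lit 2, nat_lit 1, nat_lit 5, nat_lit 2, nat_lit 4, nat_lit 2, nat_lit 1], [[nat_lit 99, nat_lit 0]]))) (.node (nat_lit 11) (.leaf ((nat_lit 1), [nat_lit 5, nat_lit 2, nat_lit 1, nat_lit 4, nat_lit 2, nat_lit 1], [[nat_lit 99, nat_lit 2]])) (.leaf ((nat_lit 1), [nat_lit 4, nat_lit 2, nat_lit 1, nat_lit 3, nat_lit 0], [[nat_lit 99, nat_lit 1]]))))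
 (.node (nat_lit 14) (.node (nat_lit 13) (.leaf ((nat_lit 1), [nat_lit 2, nat_lit 0, nat_lit 4, nat_lit 0, nat_lit 3, nat_lit 2, nat_lit 0], [[nat_lit 99, nat_lit 2]])) (.leaf ((nat_lit 1), [nat_lit 2, nat_lit 5, nat_lit 4, nat_lit 3, nat_lit 1], [[nat_lit 99, nat_lit 1]]))) (.node (nat_lit 15) (.leaf ((nat_lit 1), [nat_lit 3, nat_lit 1, nat_lit 5, nat_lit 3, nat_lit 0], [[nat_lit 99, nat_lit 2]])) (.leaf ((nat_lit 1), [nat_lit 1, nat_lit 5, nat_lit 0, nat_lit 4, nat_lit 2, nat_lit 3], [[nat_lit 99]]))))))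
theorem n3s : allR 0 16 (stepChk (nat_lit 4) (nat_lit 15) (MG.gl42L.map Lev.b) MG.gl42T n3T n3T n3T n3Dd AW [nat_lit 1, nat_lit 5, nat_lit 7] n3Ws n3CE) = true := by decide +kernel
noncomputable def n3iI : Tr (List ℕ) := (.node (nat_lit 3) (.node (nat_lit 1) (.leaf [nat_lit 1, nat_lit 3, nat_lit 1, nat_lit 3, nat_lit 2, nat_lit 1]) (.node (nat_lit 2) (.leaf [nat_lit 3, nat_lit 1, nat_lit 3, nat_lit 2]) (.leaf [nat_lit 3, nat_lit 1, nat_lit 3]))) (.node (nat_lit 4) (.leaf [nat_lit 3, nat_lit 0, nat_lit 3]) (.node (nat_lit 5) (.leaf [nat_lit 3, nat_lit 0, nat_lit 3, nat_lit 2, nat_lit 0]) (.leaf [nat_lit 0, nat_lit 3, nat_lit 0, nat_lit 3, nat_lit 2, nat_lit 1]))))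
theorem n3ih : Alt.a5R.all (fun w => eqB (n3L.map Lev.b) (apF (fun y => apL (nat_lit 4) (nat_lit 15) n3T (n3iI.get y)) w) fun a => a) = true := by decide +kernel
noncomputable def n3iD : Tr (List ℕ) := (.node (nat_lit 2) (.node (nat_lit 1) (.leaf [nat_lit 1, nat_lit 5, nat_lit 2, nat_lit 0]) (.leaf [nat_lit 5, nat_lit 2, nat_lit 1])) (.node (nat_lit 3) (.leaf [nat_lit 3, nat_lit 1]) (.leaf [nat_lit 4, nat_lit 2, nat_lit 0])))
theorem n3is : band (surChk (nat_lit 4) (nat_lit 15) (n3L.map Lev.b) n3T n3iI (topN Alt.a5L) n3iD (topN n3L)) (Nat.ble (chainOrd 5 Alt.a5L) (chainOrd 15 n3L)) = true := by decide +kernel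
theorem s3 {G : Type*} [Group G] [Finite G] {X : Type*} [MulAction G X] {pt : ℕ → X} (C : Ch G 15 (nat_lit 4) (nat_lit 15) pt MG.gl42T MG.gl42L) {H : Subgroup G} (h : PJ C.lets.e AW 3 H) :
    ∃ K : Subgroup G, Nonempty (H ≃* K) ∧ (Q K ∨ ∃ j ∈ [nat_lit 1, nat_lit 5, nat_lit 7], PJ C.lets.e AW j K) := by
  obtain ⟨K, e, hK⟩ := h.conj
  refine ⟨K, e, ?_⟩
  obtain ⟨N, D, S⟩ := (C.gen (lets_words C.lets n3E n3w) n3chain n3sd n3tc)
  have le := C.le_AW D hK n3slp n3a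
  have hD := lets_words C.lets n3dE n3dw
  refine (C.step D.lets D.lets D.lets hD le_normalizer le_rfl (C.dbl D.lets hD n3q (by decide +kernel)) (Ws := n3Ws) (fun u hu => ⟨[], List.mem_singleton_self _, u, hu, (one_mul u).symm⟩) (by decide +kernel) n3s le).imp_left fun h => ?_
  rw [le_antisymm h le]
  exact .inr (.inl ⟨5, by norm_num, by norm_num, ((Alt.a5std.isoW D n3ih n3is).map MulEquiv.symm)⟩)
noncomputable def n4t0 : ℕ := (nat_lit 0x34a9bc215687de0)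
noncomputable def n4t1 : ℕ := (nat_lit 0x129acb4356de870)
noncomputable def n4t2 : ℕ := (nat_lit 0xdea9cb786512340)
noncomputable def n4t3 : ℕ := (nat_lit 0x52c7168b9e03da4)
noncomputable def n4T : Tr ℕ := (.node (nat_lit 2) (.node (nat_lit 1) (.leaf n4t0) (.leaf n4t1)) (.node (nat_lit 3) (.leaf n4t2) (.leaf n4t3)))
noncomputable def n4R : Tr (List ℕ) := (.node (nat_lit 4) (.node (nat_lit 2) (.node (nat_lit 1) (.leaf [nat_lit 0, nat_lit 2, nat_lit 0, nat_lit 2]) (.leaf [nat_lit 0, nat_lit 0, nat_lit 0, nat_lit 0])) (.node (nat_lit 3) (.leaf [nat_lit 0, nat_lit 1]) (.leaf [nat_lit 0, nat_lit 0, nat_lit 3, nat_lit 1, nat_lit 3, nat_lit 0, nat_lit 3])))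
 (.node (nat_lit 6) (.node (nat_lit 5) (.leaf [nat_lit 2, nat_lit 2]) (.leaf [nat_lit 0, nat_lit 2, nat_lit 3, nat_lit 2, nat_lit 3, nat_lit 0, nat_lit 2, nat_lit 3, nat_lit 2, nat_lit 3])) (.node (nat_lit 7) (.leaf [nat_lit 3, nat_lit 3]) (.leaf [nat_lit 3, nat_lit 2, nat_lit 3, nat_lit 2, nat_lit 3, nat_lit 2, nat_lit 3, nat_lit 2, nat_lit 3, nat_lit 2]))))
noncomputable def n4L0 : Lev := ⟨(nat_lit 0), (nat_lit 4), (nat_lit 0x30101040402020301040403010300), (nat_lit 0x30204040305020305040104030200),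
 (.node (nat_lit 2) (.node (nat_lit 1) (.leaf (nat_lit 0x200000000000100050006000400020000000700010003000000020000))
 (.leaf (nat_lit 0x300010007000600010000000000040008000100010003000500030000)))
 (.node (nat_lit 3) (.leaf (nat_lit 0x10003000700020008000100000008000300010000000100000000))
 (.leaf (nat_lit 0x10006000400000000000900020001000a000000000006000500010001)))),
 (.node (nat_lit 2) (.node (nat_lit 1) (.leaf (nat_lit 0x200000300000103000000000000000000000301000200000101000000000002000000))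
 (.leaf (nat_lit 0x201000201000201000201000201000000000000000201000201000201000201000201000201000201000000)))
 (.node (nat_lit 3) (.leaf (nat_lit 0x401000400000003000506000401000400000000000001000503000400000000000401000000000000))
 (.leaf (nat_lit 0x600000600000704000000000000000304000304000601000601000000000000000302000306000601000601))))⟩
noncomputable def n4L1 : Lev := ⟨(nat_lit 1), (nat_lit 3), (nat_lit 0x20300000000030100000301030000), (nat_lit 0x10200000000020100000102030000),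
 (.node (nat_lit 1) (.leaf (nat_lit 0x200020000000000000000000200000000000000020000000300010000))
 (.node (nat_lit 2) (.leaf (nat_lit 0x40000000000000000000300010000000000030003000300010000))
 (.leaf (nat_lit 0x100000000000000000000000000010000000000000001000000010000)))),
 (.node (nat_lit 1) (.leaf (nat_lit 0x102000000000000000000000000000000000000000000000000000000000002000000000002000200000000))
 (.node (nat_lit 2) (.leaf (nat_lit 0x201000000000000000000000000000201000201000000000000000201000201000201000201000000))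
 (.leaf (nat_lit 0x400000000000000000000000000000000000000000401000000000000000000000400000000000401000000))))⟩
noncomputable def n4L : List Lev := [n4L0, n4L1]
noncomputable def n4E : Tr (List ℕ) := (.node (nat_lit 2) (.node (nat_lit 1) (.leaf [nat_lit 1, nat_lit 0, nat_lit 5, nat_lit 1, nat_lit 0, nat_lit 3]) (.leaf [nat_lit 5, nat_lit 4, nat_lit 5, nat_lit 1, nat_lit 0, nat_lit 4, nat_lit 1, nat_lit 0, nat_lit 3])) (.node (nat_lit 3) (.leaf [nat_lit 2, nat_lit 0, nat_lit 5, nat_lit 2, nat_lit 1, nat_lit 4, nat_lit 2, nat_lit 0, nat_lit 3, nat_lit 1]) (.leaf [nat_lit 2, nat_lit 1, nat_lit 5, nat_lit 3, nat_lit 1, nat_lit 0, nat_lit 4, nat_lit 2, nat_lit 1, nat_lit 3, nat_lit 1, nat_lit 0])))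
theorem n4w_0 : n4T.all2 (fun c w => isProd 15 (nat_lit 4) (nat_lit 15) MG.gl42T c w) n4E = true := by decide +kernel
theorem n4w : n4T.all2 (fun c w => isProd 15 (nat_lit 4) (nat_lit 15) MG.gl42T c w) n4E = true := n4w_0
theorem n4lev0 : levChk 15 (nat_lit 4) (nat_lit 15) n4T n4R n4L0 n4L1.N = true := by decide +kernel
theorem n4lev1 : levChk 15 (nat_lit 4) (nat_lit 15) n4T n4R n4L1 0 = true := by decide +kernel
theorem n4chain : Chain 15 (nat_lit 4) (nat_lit 15) n4T n4R n4L := chain_cons n4lev0 <| chain_one n4lev1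
theorem n4sd : band (selChk n4T n4T (topN n4L)) (n4R.all fun w => eqB (MG.gl42L.map Lev.b) (apL (nat_lit 4) (nat_lit 15) n4T w) fun a => a) = true := by decide +kernel
theorem n4tc : tchainChk 15 (nat_lit 4) (nat_lit 15) n4T n4L = true := by decide +kernel
noncomputable def n4s0 : ℕ := (nat_lit 0x4026d97b8cea153)
noncomputable def n4s1 : ℕ := (nat_lit 0x6974b02d835a1ec)
noncomputable def n4s2 : ℕ := (nat_lit 0x4a573968b1e0c2d)
noncomputable def n4s3 : ℕ := (nat_lit 0x170a3d6ce4b5829)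
noncomputable def n4s4 : ℕ := (nat_lit 0xdea9cb786512340)
noncomputable def n4s5 : ℕ := (nat_lit 0x129acb4356de870)
noncomputable def n4s6 : ℕ := (nat_lit 0x34a9bc215687de0)
noncomputable def n4s7 : ℕ := (nat_lit 0x52c7168b9e03da4)
noncomputable def n4S : Tr ℕ := (.node (nat_lit 4) (.node (nat_lit 2) (.node (nat_lit 1) (.leaf n4s0) (.leaf n4s1)) (.node (nat_lit 3) (.leaf n4s2) (.leaf n4s3)))
 (.node (nat_lit 6) (.node (nat_lit 5) (.leaf n4s4) (.leaf n4s5)) (.node (nat_lit 7) (.leaf n4s6) (.leaf n4s7))))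
noncomputable def n4D : Tr (List ℕ) := (.node (nat_lit 4) (.node (nat_lit 2) (.node (nat_lit 1) (.leaf []) (.leaf [])) (.node (nat_lit 3) (.leaf [nat_lit 0, nat_lit 0, nat_lit 0]) (.leaf [nat_lit 1, nat_lit 1, nat_lit 1, nat_lit 1])))
 (.node (nat_lit 6) (.node (nat_lit 5) (.leaf [nat_lit 0, nat_lit 1, nat_lit 0, nat_lit 3, nat_lit 2, nat_lit 1, nat_lit 0, nat_lit 1]) (.leaf [nat_lit 0, nat_lit 1, nat_lit 0, nat_lit 3, nat_lit 0, nat_lit 1])) (.node (nat_lit 7) (.leaf [nat_lit 3, nat_lit 2, nat_lit 1, nat_lit 2, nat_lit 3, nat_lit 2]) (.leaf [nat_lit 6, nat_lit 2, nat_lit 6, nat_lit 6, nat_lit 4]))))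
theorem n4slp : slpChk 15 (nat_lit 4) (nat_lit 15) n4S n4D 2 6 = true := by decide +kernel
theorem n4a : band (selChk n4T n4S (2 + 6)) (allB 2 fun j => anyL (AW.get 4) fun w => isProd 15 (nat_lit 4) (nat_lit 15) MG.gl42T (n4S.get j) w) = true := by decide +kernel
noncomputable def n4Dd : Tr ℕ := (.node (nat_lit 6) (.node (nat_lit 3) (.node (nat_lit 1) (.leaf (nat_lit 0xedcba9876543210)) (.node (nat_lit 2) (.leaf (nat_lit 0xcdeb89a74563012)) (.leaf (nat_lit 0x8dabc9e70523416)))) (.node (nat_lit 4) (.leaf (nat_lit 0x789abcde6543210)) (.node (nat_lit 5) (.leaf (nat_lit 0x987adcbe4563012)) (.leaf (nat_lit 0xbad8c9e73250416)))))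
 (.node (nat_lit 9) (.node (nat_lit 7) (.leaf (nat_lit 0xdab8e9c75230614)) (.node (nat_lit 8) (.leaf (nat_lit 0x9e7cdab82503614)) (.leaf (nat_lit 0xda8b52039ec7164)))) (.node (nat_lit 10) (.leaf (nat_lit 0x5e4bd6c31a07928)) (.node (nat_lit 11) (.leaf (nat_lit 0x853a0db294671ce)) (.leaf (nat_lit 0x574a86931b0ec2d))))))
noncomputable def n4dE : Tr (List ℕ) := (.node (nat_lit 6) (.node (nat_lit 3) (.node (nat_lit 1) (.leaf []) (.node (nat_lit 2) (.leaf [nat_lit 0]) (.leaf [nat_lit 2]))) (.node (nat_lit 4) (.leaf [nat_lit 3]) (.node (nat_lit 5) (.leaf [nat_lit 3, nat_lit 0]) (.leaf [nat_lit 4, nat_lit 2]))))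
 (.node (nat_lit 9) (.node (nat_lit 7) (.leaf [nat_lit 4, nat_lit 2, nat_lit 0]) (.node (nat_lit 8) (.leaf [nat_lit 2, nat_lit 3, nat_lit 0]) (.leaf [nat_lit 2, nat_lit 5, nat_lit 0]))) (.node (nat_lit 10) (.leaf [nat_lit 0, nat_lit 5, nat_lit 2]) (.node (nat_lit 11) (.leaf [nat_lit 1, nat_lit 5, nat_lit 3, nat_lit 0]) (.leaf [nat_lit 0, nat_lit 5, nat_lit 4, nat_lit 2, nat_lit 1, nat_lit 4, nat_lit 2])))))
theorem n4dw_0 : n4Dd.all2 (fun c w => isProd 15 (nat_lit 4) (nat_lit 15) MG.gl42T c w) n4dE = true := by decide +kernel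
theorem n4dw : n4Dd.all2 (fun c w => isProd 15 (nat_lit 4) (nat_lit 15) MG.gl42T c w) n4dE = true := n4dw_0
noncomputable def n4PA : Tr (ℕ × List ℕ) := (.node (nat_lit 84) (.node (nat_lit 42) (.node (nat_lit 21) (.node (nat_lit 10) (.node (nat_lit 5) (.node (nat_lit 2) (.node (nat_lit 1) (.leaf ((nat_lit 0), [])) (.leaf ((nat_lit 1), []))) (.node (nat_lit 3) (.leaf ((nat_lit 1), [nat_lit 2, nat_lit 0])) (.node (nat_lit 4) (.leaf ((nat_lit 2), [])) (.leaf ((nat_lit 3), [])))))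
 (.node (nat_lit 7) (.node (nat_lit 6) (.leaf ((nat_lit 3), [nat_lit 3])) (.leaf ((nat_lit 3), [nat_lit 1, nat_lit 3]))) (.node (nat_lit 8) (.leaf ((nat_lit 2), [nat_lit 0, nat_lit 3])) (.node (nat_lit 9) (.leaf ((nat_lit 4), [])) (.leaf ((nat_lit 4), [nat_lit 3, nat_lit 1]))))))
 (.node (nat_lit 15) (.node (nat_lit 12) (.node (nat_lit 11) (.leaf ((nat_lit 2), [nat_lit 3, nat_lit 1])) (.leaf ((nat_lit 4), [nat_lit 2, nat_lit 1]))) (.node (nat_lit 13) (.leaf ((nat_lit 4), [nat_lit 3, nat_lit 2])) (.node (nat_lit 14) (.leaf ((nat_lit 2), [nat_lit 2])) (.leaf ((nat_lit 5), [])))))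
 (.node (nat_lit 18) (.node (nat_lit 16) (.leaf ((nat_lit 5), [nat_lit 3, nat_lit 2])) (.node (nat_lit 17) (.leaf ((nat_lit 5), [nat_lit 3])) (.leaf ((nat_lit 5), [nat_lit 2, nat_lit 0, nat_lit 0])))) (.node (nat_lit 19) (.leaf ((nat_lit 2), [nat_lit 2, nat_lit 0, nat_lit 0])) (.node (nat_lit 20) (.leaf ((nat_lit 5), [nat_lit 0])) (.leaf ((nat_lit 5), [nat_lit 3, nat_lit 1, nat_lit 3])))))))
 (.node (nat_lit 31) (.node (nat_lit 26) (.node (nat_lit 23) (.node (nat_lit 22) (.leaf ((nat_lit 4), [nat_lit 3, nat_lit 0])) (.leaf ((nat_lit 2), [nat_lit 2, nat_lit 3, nat_lit 0, nat_lit 0]))) (.node (nat_lit 24) (.leaf ((nat_lit 3), [nat_lit 0, nat_lit 0, nat_lit 3])) (.node (nat_lit 25) (.leaf ((nat_lit 6), [])) (.leaf ((nat_lit 6), [nat_lit 3, nat_lit 0])))))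
 (.node (nat_lit 28) (.node (nat_lit 27) (.leaf ((nat_lit 2), [nat_lit 0])) (.leaf ((nat_lit 6), [nat_lit 0, nat_lit 3, nat_lit 0]))) (.node (nat_lit 29) (.leaf ((nat_lit 7), [])) (.node (nat_lit 30) (.leaf ((nat_lit 1), [nat_lit 3, nat_lit 0])) (.leaf ((nat_lit 6), [nat_lit 0]))))))
 (.node (nat_lit 36) (.node (nat_lit 33) (.node (nat_lit 32) (.leaf ((nat_lit 2), [nat_lit 3])) (.leaf ((nat_lit 8), []))) (.node (nat_lit 34) (.leaf ((nat_lit 4), [nat_lit 0, nat_lit 3, nat_lit 1])) (.node (nat_lit 35) (.leaf ((nat_lit 1), [nat_lit 2, nat_lit 1])) (.leaf ((nat_lit 5), [nat_lit 2])))))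
 (.node (nat_lit 39) (.node (nat_lit 37) (.leaf ((nat_lit 2), [nat_lit 3, nat_lit 0])) (.node (nat_lit 38) (.leaf ((nat_lit 2), [nat_lit 0, nat_lit 0, nat_lit 3])) (.leaf ((nat_lit 6), [nat_lit 3])))) (.node (nat_lit 40) (.leaf ((nat_lit 2), [nat_lit 3, nat_lit 1, nat_lit 3])) (.node (nat_lit 41) (.leaf ((nat_lit 7), [nat_lit 3, nat_lit 1, nat_lit 3, nat_lit 1])) (.leaf ((nat_lit 1), [nat_lit 3, nat_lit 2]))))))))
 (.node (nat_lit 63) (.node (nat_lit 52) (.node (nat_lit 47) (.node (nat_lit 44) (.node (nat_lit 43) (.leaf ((nat_lit 2), [nat_lit 0, nat_lit 3, nat_lit 0])) (.leaf ((nat_lit 6), [nat_lit 3, nat_lit 1, nat_lit 3]))) (.node (nat_lit 45) (.leaf ((nat_lit 8), [nat_lit 2, nat_lit 0, nat_lit 0])) (.node (nat_lit 46) (.leaf ((nat_lit 4), [nat_lit 2, nat_lit 3, nat_lit 1])) (.leaf ((nat_lit 1), [nat_lit 0, nat_lit 0])))))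
 (.node (nat_lit 49) (.node (nat_lit 48) (.leaf ((nat_lit 7), [nat_lit 2, nat_lit 3, nat_lit 1])) (.leaf ((nat_lit 7), [nat_lit 2, nat_lit 3]))) (.node (nat_lit 50) (.leaf ((nat_lit 2), [nat_lit 2, nat_lit 3, nat_lit 1])) (.node (nat_lit 51) (.leaf ((nat_lit 7), [nat_lit 0, nat_lit 3, nat_lit 1])) (.leaf ((nat_lit 7), [nat_lit 3, nat_lit 2, nat_lit 1]))))))
 (.node (nat_lit 57) (.node (nat_lit 54) (.node (nat_lit 53) (.leaf ((nat_lit 1), [nat_lit 1])) (.leaf ((nat_lit 2), [nat_lit 1]))) (.node (nat_lit 55) (.leaf ((nat_lit 9), [])) (.node (nat_lit 56) (.leaf ((nat_lit 9), [nat_lit 2, nat_lit 0, nat_lit 3])) (.leaf ((nat_lit 7), [nat_lit 2, nat_lit 3, nat_lit 1, nat_lit 3])))))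
 (.node (nat_lit 60) (.node (nat_lit 58) (.leaf ((nat_lit 2), [nat_lit 0, nat_lit 3, nat_lit 2, nat_lit 0])) (.node (nat_lit 59) (.leaf ((nat_lit 4), [nat_lit 0, nat_lit 0])) (.leaf ((nat_lit 2), [nat_lit 1, nat_lit 3])))) (.node (nat_lit 61) (.leaf ((nat_lit 2), [nat_lit 1, nat_lit 3, nat_lit 0])) (.node (nat_lit 62) (.leaf ((nat_lit 4), [nat_lit 2, nat_lit 0])) (.leaf ((nat_lit 2), [nat_lit 0, nat_lit 0])))))))
 (.node (nat_lit 73) (.node (nat_lit 68) (.node (nat_lit 65) (.node (nat_lit 64) (.leaf ((nat_lit 5), [nat_lit 0, nat_lit 3, nat_lit 1])) (.leaf ((nat_lit 3), [nat_lit 0, nat_lit 3]))) (.node (nat_lit 66) (.leaf ((nat_lit 6), [nat_lit 1, nat_lit 3, nat_lit 0])) (.node (nat_lit 67) (.leaf ((nat_lit 2), [nat_lit 2, nat_lit 0, nat_lit 3, nat_lit 1])) (.leaf ((nat_lit 2), [nat_lit 3, nat_lit 2, nat_lit 1])))))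
 (.node (nat_lit 70) (.node (nat_lit 69) (.leaf ((nat_lit 4), [nat_lit 1, nat_lit 3, nat_lit 2, nat_lit 0])) (.leaf ((nat_lit 6), [nat_lit 0, nat_lit 3]))) (.node (nat_lit 71) (.leaf ((nat_lit 5), [nat_lit 3, nat_lit 0])) (.node (nat_lit 72) (.leaf ((nat_lit 5), [nat_lit 3, nat_lit 1])) (.leaf ((nat_lit 6), [nat_lit 1, nat_lit 3]))))))
 (.node (nat_lit 78) (.node (nat_lit 75) (.node (nat_lit 74) (.leaf ((nat_lit 9), [nat_lit 0])) (.leaf ((nat_lit 9), [nat_lit 0, nat_lit 0, nat_lit 3]))) (.node (nat_lit 76) (.leaf ((nat_lit 7), [nat_lit 1, nat_lit 3, nat_lit 2])) (.node (nat_lit 77) (.leaf ((nat_lit 2), [nat_lit 2, nat_lit 0])) (.leaf ((nat_lit 9), [nat_lit 0, nat_lit 3])))))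
 (.node (nat_lit 81) (.node (nat_lit 79) (.leaf ((nat_lit 9), [nat_lit 3])) (.node (nat_lit 80) (.leaf ((nat_lit 2), [nat_lit 0, nat_lit 3, nat_lit 1])) (.leaf ((nat_lit 5), [nat_lit 1, nat_lit 3, nat_lit 1])))) (.node (nat_lit 82) (.leaf ((nat_lit 2), [nat_lit 0, nat_lit 3, nat_lit 2, nat_lit 1])) (.node (nat_lit 83) (.leaf ((nat_lit 4), [nat_lit 3, nat_lit 2, nat_lit 3, nat_lit 1])) (.leaf ((nat_lit 8), [nat_lit 0, nat_lit 3])))))))))
 (.node (nat_lit 126) (.node (nat_lit 105) (.node (nat_lit 94) (.node (nat_lit 89) (.node (nat_lit 86) (.node (nat_lit 85) (.leaf ((nat_lit 2), [nat_lit 1, nat_lit 3, nat_lit 0, nat_lit 0])) (.leaf ((nat_lit 7), [nat_lit 0, nat_lit 3, nat_lit 2, nat_lit 0]))) (.node (nat_lit 87) (.leaf ((nat_lit 5), [nat_lit 1, nat_lit 3, nat_lit 2, nat_lit 0])) (.node (nat_lit 88) (.leaf ((nat_lit 7), [nat_lit 0])) (.leaf ((nat_lit 7), [nat_lit 3])))))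
 (.node (nat_lit 91) (.node (nat_lit 90) (.leaf ((nat_lit 7), [nat_lit 0, nat_lit 0])) (.leaf ((nat_lit 10), []))) (.node (nat_lit 92) (.leaf ((nat_lit 4), [nat_lit 3, nat_lit 2, nat_lit 0])) (.node (nat_lit 93) (.leaf ((nat_lit 4), [nat_lit 2, nat_lit 0, nat_lit 0])) (.leaf ((nat_lit 8), [nat_lit 0, nat_lit 0]))))))
 (.node (nat_lit 99) (.node (nat_lit 96) (.node (nat_lit 95) (.leaf ((nat_lit 2), [nat_lit 3, nat_lit 2, nat_lit 0])) (.leaf ((nat_lit 5), [nat_lit 1]))) (.node (nat_lit 97) (.leaf ((nat_lit 7), [nat_lit 3, nat_lit 1])) (.node (nat_lit 98) (.leaf ((nat_lit 5), [nat_lit 1, nat_lit 3])) (.leaf ((nat_lit 2), [nat_lit 3, nat_lit 0, nat_lit 0])))))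
 (.node (nat_lit 102) (.node (nat_lit 100) (.leaf ((nat_lit 7), [nat_lit 3, nat_lit 0])) (.node (nat_lit 101) (.leaf ((nat_lit 10), [nat_lit 2, nat_lit 1])) (.leaf ((nat_lit 10), [nat_lit 2, nat_lit 0])))) (.node (nat_lit 103) (.leaf ((nat_lit 7), [nat_lit 0, nat_lit 0, nat_lit 3, nat_lit 0])) (.node (nat_lit 104) (.leaf ((nat_lit 4), [nat_lit 0, nat_lit 3, nat_lit 0])) (.leaf ((nat_lit 7), [nat_lit 3, nat_lit 2])))))))
 (.node (nat_lit 115) (.node (nat_lit 110) (.node (nat_lit 107) (.node (nat_lit 106) (.leaf ((nat_lit 10), [nat_lit 0, nat_lit 0])) (.leaf ((nat_lit 7), [nat_lit 3, nat_lit 2, nat_lit 0]))) (.node (nat_lit 108) (.leaf ((nat_lit 4), [nat_lit 3, nat_lit 2, nat_lit 0, nat_lit 0])) (.node (nat_lit 109) (.leaf ((nat_lit 7), [nat_lit 0, nat_lit 3, nat_lit 0])) (.leaf ((nat_lit 7), [nat_lit 2, nat_lit 3, nat_lit 0])))))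
 (.node (nat_lit 112) (.node (nat_lit 111) (.leaf ((nat_lit 10), [nat_lit 3])) (.leaf ((nat_lit 7), [nat_lit 3, nat_lit 1, nat_lit 3]))) (.node (nat_lit 113) (.leaf ((nat_lit 7), [nat_lit 2])) (.node (nat_lit 114) (.leaf ((nat_lit 4), [nat_lit 2])) (.leaf ((nat_lit 5), [nat_lit 0, nat_lit 3]))))))
 (.node (nat_lit 120) (.node (nat_lit 117) (.node (nat_lit 116) (.leaf ((nat_lit 8), [nat_lit 2, nat_lit 0])) (.leaf ((nat_lit 2), [nat_lit 0, nat_lit 0, nat_lit 3, nat_lit 0]))) (.node (nat_lit 118) (.leaf ((nat_lit 7), [nat_lit 3, nat_lit 2, nat_lit 0, nat_lit 0])) (.node (nat_lit 119) (.leaf ((nat_lit 5), [nat_lit 3, nat_lit 0, nat_lit 0])) (.leaf ((nat_lit 7), [nat_lit 3, nat_lit 1, nat_lit 3, nat_lit 2])))))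
 (.node (nat_lit 123) (.node (nat_lit 121) (.leaf ((nat_lit 10), [nat_lit 0])) (.node (nat_lit 122) (.leaf ((nat_lit 4), [nat_lit 3, nat_lit 0, nat_lit 0])) (.leaf ((nat_lit 4), [nat_lit 0])))) (.node (nat_lit 124) (.leaf ((nat_lit 8), [nat_lit 3])) (.node (nat_lit 125) (.leaf ((nat_lit 7), [nat_lit 0, nat_lit 3])) (.leaf ((nat_lit 2), [nat_lit 1, nat_lit 3, nat_lit 1]))))))))
 (.node (nat_lit 147) (.node (nat_lit 136) (.node (nat_lit 131) (.node (nat_lit 128) (.node (nat_lit 127) (.leaf ((nat_lit 7), [nat_lit 1, nat_lit 3, nat_lit 2, nat_lit 1])) (.leaf ((nat_lit 7), [nat_lit 0, nat_lit 3, nat_lit 2, nat_lit 1]))) (.node (nat_lit 129) (.leaf ((nat_lit 10), [nat_lit 0, nat_lit 3])) (.node (nat_lit 130) (.leaf ((nat_lit 7), [nat_lit 3, nat_lit 0, nat_lit 3])) (.leaf ((nat_lit 7), [nat_lit 1])))))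
 (.node (nat_lit 133) (.node (nat_lit 132) (.leaf ((nat_lit 10), [nat_lit 1])) (.leaf ((nat_lit 8), [nat_lit 2]))) (.node (nat_lit 134) (.leaf ((nat_lit 10), [nat_lit 2])) (.node (nat_lit 135) (.leaf ((nat_lit 7), [nat_lit 0, nat_lit 0, nat_lit 3])) (.leaf ((nat_lit 8), [nat_lit 1]))))))
 (.node (nat_lit 141) (.node (nat_lit 138) (.node (nat_lit 137) (.leaf ((nat_lit 10), [nat_lit 2, nat_lit 0, nat_lit 0])) (.leaf ((nat_lit 7), [nat_lit 2, nat_lit 1]))) (.node (nat_lit 139) (.leaf ((nat_lit 7), [nat_lit 1, nat_lit 3, nat_lit 0])) (.node (nat_lit 140) (.leaf ((nat_lit 2), [nat_lit 2, nat_lit 1])) (.leaf ((nat_lit 6), [nat_lit 0, nat_lit 0, nat_lit 3])))))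
 (.node (nat_lit 144) (.node (nat_lit 142) (.leaf ((nat_lit 11), [])) (.node (nat_lit 143) (.leaf ((nat_lit 9), [nat_lit 1, nat_lit 3])) (.leaf ((nat_lit 9), [nat_lit 0, nat_lit 3, nat_lit 0])))) (.node (nat_lit 145) (.leaf ((nat_lit 5), [nat_lit 3, nat_lit 0, nat_lit 3])) (.node (nat_lit 146) (.leaf ((nat_lit 11), [nat_lit 0])) (.leaf ((nat_lit 4), [nat_lit 1])))))))
 (.node (nat_lit 157) (.node (nat_lit 152) (.node (nat_lit 149) (.node (nat_lit 148) (.leaf ((nat_lit 7), [nat_lit 2, nat_lit 1, nat_lit 3, nat_lit 1])) (.leaf ((nat_lit 7), [nat_lit 1, nat_lit 3]))) (.node (nat_lit 150) (.leaf ((nat_lit 2), [nat_lit 3, nat_lit 0, nat_lit 3])) (.node (nat_lit 151) (.leaf ((nat_lit 9), [nat_lit 2, nat_lit 3])) (.leaf ((nat_lit 5), [nat_lit 3, nat_lit 2, nat_lit 0])))))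
 (.node (nat_lit 154) (.node (nat_lit 153) (.leaf ((nat_lit 9), [nat_lit 3, nat_lit 0])) (.leaf ((nat_lit 7), [nat_lit 2, nat_lit 1, nat_lit 3, nat_lit 0]))) (.node (nat_lit 155) (.leaf ((nat_lit 5), [nat_lit 0, nat_lit 0])) (.node (nat_lit 156) (.leaf ((nat_lit 5), [nat_lit 2, nat_lit 0])) (.leaf ((nat_lit 8), [nat_lit 2, nat_lit 1]))))))
 (.node (nat_lit 162) (.node (nat_lit 159) (.node (nat_lit 158) (.leaf ((nat_lit 7), [nat_lit 2, nat_lit 0, nat_lit 3])) (.leaf ((nat_lit 4), [nat_lit 2, nat_lit 3, nat_lit 0]))) (.node (nat_lit 160) (.leaf ((nat_lit 1), [nat_lit 0])) (.node (nat_lit 161) (.leaf ((nat_lit 1), [nat_lit 3])) (.leaf ((nat_lit 7), [nat_lit 2, nat_lit 0])))))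
 (.node (nat_lit 165) (.node (nat_lit 163) (.leaf ((nat_lit 7), [nat_lit 2, nat_lit 0, nat_lit 0])) (.node (nat_lit 164) (.leaf ((nat_lit 7), [nat_lit 1, nat_lit 3, nat_lit 2, nat_lit 0])) (.leaf ((nat_lit 1), [nat_lit 2])))) (.node (nat_lit 166) (.leaf ((nat_lit 8), [nat_lit 0])) (.node (nat_lit 167) (.leaf ((nat_lit 7), [nat_lit 0, nat_lit 0, nat_lit 3, nat_lit 2, nat_lit 1])) (.leaf ((nat_lit 7), [nat_lit 1, nat_lit 3, nat_lit 1]))))))))))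
noncomputable def n4Wd_0 : Tr (ℕ × List ℕ) := (.node (nat_lit 126) (.node (nat_lit 63) (.node (nat_lit 31) (.node (nat_lit 15) (.node (nat_lit 7) (.node (nat_lit 3) (.node (nat_lit 1) (.leaf ((nat_lit 1), [])) (.node (nat_lit 2) (.leaf ((nat_lit 2), [nat_lit 2, nat_lit 1, nat_lit 3, nat_lit 1, nat_lit 1])) (.leaf ((nat_lit 3), []))))
 (.node (nat_lit 5) (.node (nat_lit 4) (.leaf ((nat_lit 4), [])) (.leaf ((nat_lit 5), [nat_lit 2, nat_lit 1, nat_lit 1, nat_lit 3]))) (.node (nat_lit 6) (.leaf ((nat_lit 5), [nat_lit 3, nat_lit 2, nat_lit 0, nat_lit 3, nat_lit 2])) (.leaf ((nat_lit 0), [])))))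
 (.node (nat_lit 11) (.node (nat_lit 9) (.node (nat_lit 8) (.leaf ((nat_lit 6), [nat_lit 2, nat_lit 1, nat_lit 1, nat_lit 3, nat_lit 0])) (.leaf ((nat_lit 7), [nat_lit 3, nat_lit 1]))) (.node (nat_lit 10) (.leaf ((nat_lit 8), [])) (.leaf ((nat_lit 8), [nat_lit 3, nat_lit 2, nat_lit 1, nat_lit 3]))))
 (.node (nat_lit 13) (.node (nat_lit 12) (.leaf ((nat_lit 9), [nat_lit 1, nat_lit 3, nat_lit 2, nat_lit 1, nat_lit 3, nat_lit 2])) (.leaf ((nat_lit 6), [nat_lit 2, nat_lit 3, nat_lit 2]))) (.node (nat_lit 14) (.leaf ((nat_lit 0), [nat_lit 1, nat_lit 1, nat_lit 3, nat_lit 2, nat_lit 1])) (.leaf ((nat_lit 10), [nat_lit 3, nat_lit 2, nat_lit 1, nat_lit 1]))))))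
 (.node (nat_lit 23) (.node (nat_lit 19) (.node (nat_lit 17) (.node (nat_lit 16) (.leaf ((nat_lit 11), [])) (.leaf ((nat_lit 11), [nat_lit 1, nat_lit 3, nat_lit 2, nat_lit 1, nat_lit 3, nat_lit 0]))) (.node (nat_lit 18) (.leaf ((nat_lit 12), [nat_lit 3, nat_lit 2, nat_lit 1, nat_lit 3, nat_lit 2, nat_lit 0])) (.leaf ((nat_lit 7), [nat_lit 3, nat_lit 1]))))
 (.node (nat_lit 21) (.node (nat_lit 20) (.leaf ((nat_lit 10), [nat_lit 0, nat_lit 3])) (.leaf ((nat_lit 0), []))) (.node (nat_lit 22) (.leaf ((nat_lit 13), [nat_lit 2, nat_lit 1, nat_lit 1])) (.leaf ((nat_lit 14), [])))))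
 (.node (nat_lit 27) (.node (nat_lit 25) (.node (nat_lit 24) (.leaf ((nat_lit 15), [nat_lit 1, nat_lit 1, nat_lit 3, nat_lit 1, nat_lit 1])) (.leaf ((nat_lit 16), [nat_lit 1, nat_lit 3, nat_lit 2, nat_lit 3, nat_lit 2]))) (.node (nat_lit 26) (.leaf ((nat_lit 17), [nat_lit 0, nat_lit 3, nat_lit 2, nat_lit 0, nat_lit 3])) (.leaf ((nat_lit 18), [nat_lit 2]))))
 (.node (nat_lit 29) (.node (nat_lit 28) (.leaf ((nat_lit 0), [])) (.leaf ((nat_lit 6), [nat_lit 3, nat_lit 2, nat_lit 3, nat_lit 2, nat_lit 1, nat_lit 1]))) (.node (nat_lit 30) (.leaf ((nat_lit 4), [nat_lit 2, nat_lit 3, nat_lit 2])) (.leaf ((nat_lit 19), [nat_lit 3, nat_lit 2, nat_lit 0])))))))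
 (.node (nat_lit 47) (.node (nat_lit 39) (.node (nat_lit 35) (.node (nat_lit 33) (.node (nat_lit 32) (.leaf ((nat_lit 20), [nat_lit 1, nat_lit 3, nat_lit 2, nat_lit 3, nat_lit 2, nat_lit 1])) (.leaf ((nat_lit 21), [nat_lit 0]))) (.node (nat_lit 34) (.leaf ((nat_lit 6), [nat_lit 1, nat_lit 3, nat_lit 0])) (.leaf ((nat_lit 0), [nat_lit 3, nat_lit 2, nat_lit 1, nat_lit 1]))))
 (.node (nat_lit 37) (.node (nat_lit 36) (.leaf ((nat_lit 0), [nat_lit 0, nat_lit 3, nat_lit 2, nat_lit 0, nat_lit 3, nat_lit 2, nat_lit 0])) (.leaf ((nat_lit 2), [nat_lit 2, nat_lit 3, nat_lit 2]))) (.node (nat_lit 38) (.leaf ((nat_lit 1), [nat_lit 1, nat_lit 3, nat_lit 2, nat_lit 1, nat_lit 1])) (.leaf ((nat_lit 22), [nat_lit 3, nat_lit 2, nat_lit 1, nat_lit 3, nat_lit 2, nat_lit 0])))))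
 (.node (nat_lit 43) (.node (nat_lit 41) (.node (nat_lit 40) (.leaf ((nat_lit 5), [nat_lit 1, nat_lit 3, nat_lit 0])) (.leaf ((nat_lit 4), [nat_lit 3, nat_lit 2, nat_lit 0, nat_lit 3, nat_lit 0]))) (.node (nat_lit 42) (.leaf ((nat_lit 23), [nat_lit 2, nat_lit 1, nat_lit 3, nat_lit 1, nat_lit 1])) (.leaf ((nat_lit 3), [nat_lit 0, nat_lit 3]))))
 (.node (nat_lit 45) (.node (nat_lit 44) (.leaf ((nat_lit 22), [nat_lit 3, nat_lit 2])) (.leaf ((nat_lit 1), [nat_lit 0, nat_lit 3]))) (.node (nat_lit 46) (.leaf ((nat_lit 15), [nat_lit 2, nat_lit 1, nat_lit 1])) (.leaf ((nat_lit 24), [nat_lit 0, nat_lit 3]))))))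
 (.node (nat_lit 55) (.node (nat_lit 51) (.node (nat_lit 49) (.node (nat_lit 48) (.leaf ((nat_lit 25), [nat_lit 3, nat_lit 2, nat_lit 0, nat_lit 3, nat_lit 2])) (.leaf ((nat_lit 26), [nat_lit 1, nat_lit 3, nat_lit 2, nat_lit 1, nat_lit 3]))) (.node (nat_lit 50) (.leaf ((nat_lit 27), [nat_lit 0, nat_lit 3, nat_lit 2, nat_lit 0])) (.leaf ((nat_lit 28), []))))
 (.node (nat_lit 53) (.node (nat_lit 52) (.leaf ((nat_lit 1), [])) (.leaf ((nat_lit 1), [nat_lit 3, nat_lit 2, nat_lit 1, nat_lit 3]))) (.node (nat_lit 54) (.leaf ((nat_lit 29), [nat_lit 2, nat_lit 0])) (.leaf ((nat_lit 30), [nat_lit 0, nat_lit 3, nat_lit 2, nat_lit 0])))))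
 (.node (nat_lit 59) (.node (nat_lit 57) (.node (nat_lit 56) (.leaf ((nat_lit 31), [nat_lit 1, nat_lit 3, nat_lit 2, nat_lit 1, nat_lit 3])) (.leaf ((nat_lit 32), [nat_lit 3, nat_lit 2, nat_lit 1, nat_lit 3, nat_lit 2, nat_lit 0]))) (.node (nat_lit 58) (.leaf ((nat_lit 33), [nat_lit 1, nat_lit 3, nat_lit 2, nat_lit 1, nat_lit 3, nat_lit 0])) (.leaf ((nat_lit 34), [nat_lit 2, nat_lit 1, nat_lit 3, nat_lit 2, nat_lit 1]))))
 (.node (nat_lit 61) (.node (nat_lit 60) (.leaf ((nat_lit 1), [nat_lit 3, nat_lit 2, nat_lit 1, nat_lit 3, nat_lit 2, nat_lit 0])) (.leaf ((nat_lit 22), [nat_lit 2, nat_lit 1, nat_lit 1, nat_lit 3, nat_lit 2]))) (.node (nat_lit 62) (.leaf ((nat_lit 3), [nat_lit 3, nat_lit 1])) (.leaf ((nat_lit 2), [nat_lit 2, nat_lit 1, nat_lit 1, nat_lit 3]))))))))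
 (.node (nat_lit 94) (.node (nat_lit 78) (.node (nat_lit 70) (.node (nat_lit 66) (.node (nat_lit 64) (.leaf ((nat_lit 35), [nat_lit 3, nat_lit 2, nat_lit 0, nat_lit 3, nat_lit 2, nat_lit 1, nat_lit 1])) (.node (nat_lit 65) (.leaf ((nat_lit 36), [nat_lit 2, nat_lit 1, nat_lit 1])) (.leaf ((nat_lit 37), [nat_lit 3, nat_lit 2, nat_lit 0, nat_lit 3, nat_lit 2, nat_lit 1, nat_lit 1]))))
 (.node (nat_lit 68) (.node (nat_lit 67) (.leaf ((nat_lit 38), [nat_lit 1, nat_lit 3, nat_lit 2, nat_lit 3, nat_lit 0])) (.leaf ((nat_lit 39), [nat_lit 2, nat_lit 1, nat_lit 1]))) (.node (nat_lit 69) (.leaf ((nat_lit 40), [nat_lit 3, nat_lit 2, nat_lit 1, nat_lit 3, nat_lit 2, nat_lit 0])) (.leaf ((nat_lit 2), [])))))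
 (.node (nat_lit 74) (.node (nat_lit 72) (.node (nat_lit 71) (.leaf ((nat_lit 2), [nat_lit 1, nat_lit 3, nat_lit 2, nat_lit 1, nat_lit 3, nat_lit 0])) (.leaf ((nat_lit 41), [nat_lit 2, nat_lit 0]))) (.node (nat_lit 73) (.leaf ((nat_lit 42), [nat_lit 2, nat_lit 1, nat_lit 1])) (.leaf ((nat_lit 43), [nat_lit 1, nat_lit 3, nat_lit 2, nat_lit 3, nat_lit 0]))))
 (.node (nat_lit 76) (.node (nat_lit 75) (.leaf ((nat_lit 44), [])) (.leaf ((nat_lit 45), [nat_lit 1, nat_lit 3, nat_lit 2, nat_lit 1, nat_lit 3, nat_lit 2]))) (.node (nat_lit 77) (.leaf ((nat_lit 46), [nat_lit 1, nat_lit 1, nat_lit 3, nat_lit 1, nat_lit 1])) (.leaf ((nat_lit 2), [nat_lit 1, nat_lit 3, nat_lit 2, nat_lit 1, nat_lit 3, nat_lit 2]))))))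
 (.node (nat_lit 86) (.node (nat_lit 82) (.node (nat_lit 80) (.node (nat_lit 79) (.leaf ((nat_lit 47), [nat_lit 0, nat_lit 3])) (.leaf ((nat_lit 48), [nat_lit 3, nat_lit 2, nat_lit 0, nat_lit 3, nat_lit 1, nat_lit 1]))) (.node (nat_lit 81) (.leaf ((nat_lit 29), [nat_lit 1, nat_lit 3, nat_lit 2])) (.leaf ((nat_lit 3), [nat_lit 2, nat_lit 1, nat_lit 1]))))
 (.node (nat_lit 84) (.node (nat_lit 83) (.leaf ((nat_lit 49), [nat_lit 3, nat_lit 2, nat_lit 3, nat_lit 2, nat_lit 1])) (.leaf ((nat_lit 13), [nat_lit 3, nat_lit 2, nat_lit 3, nat_lit 2, nat_lit 1]))) (.node (nat_lit 85) (.leaf ((nat_lit 50), [nat_lit 3, nat_lit 2, nat_lit 3, nat_lit 0])) (.leaf ((nat_lit 51), [nat_lit 2, nat_lit 0, nat_lit 3])))))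
 (.node (nat_lit 90) (.node (nat_lit 88) (.node (nat_lit 87) (.leaf ((nat_lit 52), [nat_lit 1, nat_lit 1, nat_lit 3, nat_lit 1])) (.leaf ((nat_lit 49), [nat_lit 3, nat_lit 2, nat_lit 3, nat_lit 1]))) (.node (nat_lit 89) (.leaf ((nat_lit 3), [])) (.leaf ((nat_lit 53), [nat_lit 3, nat_lit 2, nat_lit 0, nat_lit 3]))))
 (.node (nat_lit 92) (.node (nat_lit 91) (.leaf ((nat_lit 54), [nat_lit 1, nat_lit 1, nat_lit 3, nat_lit 1, nat_lit 1])) (.leaf ((nat_lit 55), [nat_lit 1, nat_lit 3, nat_lit 2, nat_lit 1, nat_lit 3, nat_lit 1, nat_lit 1]))) (.node (nat_lit 93) (.leaf ((nat_lit 56), [nat_lit 0, nat_lit 3, nat_lit 2, nat_lit 0, nat_lit 3, nat_lit 2, nat_lit 1, nat_lit 1])) (.leaf ((nat_lit 7), [nat_lit 2, nat_lit 1, nat_lit 1])))))))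
 (.node (nat_lit 110) (.node (nat_lit 102) (.node (nat_lit 98) (.node (nat_lit 96) (.node (nat_lit 95) (.leaf ((nat_lit 57), [nat_lit 1, nat_lit 1, nat_lit 3, nat_lit 2])) (.leaf ((nat_lit 3), [nat_lit 1, nat_lit 1, nat_lit 3, nat_lit 1, nat_lit 1]))) (.node (nat_lit 97) (.leaf ((nat_lit 4), [nat_lit 1, nat_lit 3, nat_lit 2, nat_lit 3, nat_lit 2])) (.leaf ((nat_lit 23), [nat_lit 2, nat_lit 3]))))
 (.node (nat_lit 100) (.node (nat_lit 99) (.leaf ((nat_lit 58), [nat_lit 3, nat_lit 2, nat_lit 0, nat_lit 3, nat_lit 1, nat_lit 1])) (.leaf ((nat_lit 59), [nat_lit 2, nat_lit 3, nat_lit 2]))) (.node (nat_lit 101) (.leaf ((nat_lit 59), [nat_lit 3, nat_lit 2, nat_lit 3, nat_lit 1])) (.leaf ((nat_lit 60), [nat_lit 1, nat_lit 1, nat_lit 3, nat_lit 1, nat_lit 1])))))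
 (.node (nat_lit 106) (.node (nat_lit 104) (.node (nat_lit 103) (.leaf ((nat_lit 23), [nat_lit 0, nat_lit 3, nat_lit 2, nat_lit 1, nat_lit 1])) (.leaf ((nat_lit 4), [nat_lit 3, nat_lit 2, nat_lit 0, nat_lit 3, nat_lit 1]))) (.node (nat_lit 105) (.leaf ((nat_lit 61), [nat_lit 1, nat_lit 1, nat_lit 3, nat_lit 1])) (.leaf ((nat_lit 39), [nat_lit 3, nat_lit 2, nat_lit 3, nat_lit 1]))))
 (.node (nat_lit 108) (.node (nat_lit 107) (.leaf ((nat_lit 27), [nat_lit 2, nat_lit 3])) (.leaf ((nat_lit 30), [nat_lit 0, nat_lit 3]))) (.node (nat_lit 109) (.leaf ((nat_lit 58), [nat_lit 2, nat_lit 1, nat_lit 1])) (.leaf ((nat_lit 61), [nat_lit 2, nat_lit 1, nat_lit 3, nat_lit 2]))))))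
 (.node (nat_lit 118) (.node (nat_lit 114) (.node (nat_lit 112) (.node (nat_lit 111) (.leaf ((nat_lit 4), [nat_lit 2])) (.leaf ((nat_lit 62), [nat_lit 2, nat_lit 1, nat_lit 1]))) (.node (nat_lit 113) (.leaf ((nat_lit 63), [nat_lit 1, nat_lit 3, nat_lit 2, nat_lit 1, nat_lit 3, nat_lit 2, nat_lit 0])) (.leaf ((nat_lit 35), [nat_lit 3, nat_lit 2, nat_lit 3, nat_lit 1]))))
 (.node (nat_lit 116) (.node (nat_lit 115) (.leaf ((nat_lit 5), [nat_lit 2, nat_lit 0, nat_lit 3])) (.leaf ((nat_lit 64), [nat_lit 1, nat_lit 3, nat_lit 2, nat_lit 3, nat_lit 2]))) (.node (nat_lit 117) (.leaf ((nat_lit 65), [nat_lit 1, nat_lit 3, nat_lit 2, nat_lit 3, nat_lit 1])) (.leaf ((nat_lit 66), [nat_lit 3, nat_lit 2, nat_lit 3, nat_lit 1])))))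
 (.node (nat_lit 122) (.node (nat_lit 120) (.node (nat_lit 119) (.leaf ((nat_lit 66), [nat_lit 2, nat_lit 1, nat_lit 1])) (.leaf ((nat_lit 42), [nat_lit 1, nat_lit 3, nat_lit 2, nat_lit 1, nat_lit 3, nat_lit 2, nat_lit 0]))) (.node (nat_lit 121) (.leaf ((nat_lit 64), [nat_lit 2, nat_lit 1, nat_lit 1, nat_lit 3])) (.leaf ((nat_lit 5), [nat_lit 3, nat_lit 2, nat_lit 3, nat_lit 2]))))
 (.node (nat_lit 124) (.node (nat_lit 123) (.leaf ((nat_lit 67), [nat_lit 3, nat_lit 2, nat_lit 3, nat_lit 0])) (.leaf ((nat_lit 27), [nat_lit 0, nat_lit 3, nat_lit 2, nat_lit 1, nat_lit 1]))) (.node (nat_lit 125) (.leaf ((nat_lit 39), [])) (.leaf ((nat_lit 57), [])))))))))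
 (.node (nat_lit 189) (.node (nat_lit 157) (.node (nat_lit 141) (.node (nat_lit 133) (.node (nat_lit 129) (.node (nat_lit 127) (.leaf ((nat_lit 65), [nat_lit 2, nat_lit 1, nat_lit 3, nat_lit 1])) (.node (nat_lit 128) (.leaf ((nat_lit 67), [nat_lit 2, nat_lit 1, nat_lit 1])) (.leaf ((nat_lit 5), [nat_lit 1]))))
 (.node (nat_lit 131) (.node (nat_lit 130) (.leaf ((nat_lit 68), [nat_lit 2, nat_lit 0, nat_lit 3, nat_lit 1])) (.leaf ((nat_lit 52), [nat_lit 3, nat_lit 2, nat_lit 1, nat_lit 1]))) (.node (nat_lit 132) (.leaf ((nat_lit 46), [nat_lit 1, nat_lit 3, nat_lit 2, nat_lit 1, nat_lit 3, nat_lit 2])) (.leaf ((nat_lit 10), [nat_lit 2, nat_lit 3, nat_lit 2, nat_lit 1, nat_lit 1])))))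
 (.node (nat_lit 137) (.node (nat_lit 135) (.node (nat_lit 134) (.leaf ((nat_lit 7), [nat_lit 2, nat_lit 3])) (.leaf ((nat_lit 6), [nat_lit 1, nat_lit 3, nat_lit 2, nat_lit 1, nat_lit 3, nat_lit 2]))) (.node (nat_lit 136) (.leaf ((nat_lit 69), [nat_lit 0, nat_lit 3])) (.leaf ((nat_lit 70), [nat_lit 1, nat_lit 1, nat_lit 3, nat_lit 1, nat_lit 1]))))
 (.node (nat_lit 139) (.node (nat_lit 138) (.leaf ((nat_lit 71), [nat_lit 2, nat_lit 3, nat_lit 1, nat_lit 1])) (.leaf ((nat_lit 17), [nat_lit 2, nat_lit 1, nat_lit 1, nat_lit 3, nat_lit 1]))) (.node (nat_lit 140) (.leaf ((nat_lit 16), [nat_lit 3, nat_lit 2])) (.leaf ((nat_lit 72), [nat_lit 3, nat_lit 2, nat_lit 0, nat_lit 3, nat_lit 1, nat_lit 1]))))))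
 (.node (nat_lit 149) (.node (nat_lit 145) (.node (nat_lit 143) (.node (nat_lit 142) (.leaf ((nat_lit 64), [nat_lit 1, nat_lit 3, nat_lit 0])) (.leaf ((nat_lit 64), [nat_lit 1, nat_lit 3, nat_lit 2, nat_lit 3, nat_lit 2, nat_lit 0]))) (.node (nat_lit 144) (.leaf ((nat_lit 6), [nat_lit 1, nat_lit 1, nat_lit 3, nat_lit 2, nat_lit 1])) (.leaf ((nat_lit 73), [nat_lit 2, nat_lit 1, nat_lit 3, nat_lit 2, nat_lit 1, nat_lit 1]))))
 (.node (nat_lit 147) (.node (nat_lit 146) (.leaf ((nat_lit 74), [nat_lit 2, nat_lit 3, nat_lit 2, nat_lit 1])) (.leaf ((nat_lit 75), [nat_lit 2, nat_lit 1, nat_lit 1, nat_lit 3, nat_lit 0]))) (.node (nat_lit 148) (.leaf ((nat_lit 57), [nat_lit 0, nat_lit 3])) (.leaf ((nat_lit 7), [nat_lit 3, nat_lit 1])))))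
 (.node (nat_lit 153) (.node (nat_lit 151) (.node (nat_lit 150) (.leaf ((nat_lit 76), [nat_lit 1, nat_lit 3, nat_lit 2, nat_lit 3, nat_lit 2, nat_lit 1, nat_lit 1])) (.leaf ((nat_lit 77), [nat_lit 0, nat_lit 3, nat_lit 2, nat_lit 1]))) (.node (nat_lit 152) (.leaf ((nat_lit 78), [nat_lit 3, nat_lit 2, nat_lit 1, nat_lit 1])) (.leaf ((nat_lit 79), [nat_lit 3, nat_lit 2, nat_lit 0, nat_lit 3, nat_lit 2, nat_lit 1, nat_lit 1]))))
 (.node (nat_lit 155) (.node (nat_lit 154) (.leaf ((nat_lit 80), [nat_lit 2, nat_lit 1, nat_lit 1, nat_lit 3, nat_lit 1])) (.leaf ((nat_lit 81), [nat_lit 2, nat_lit 1, nat_lit 3, nat_lit 2, nat_lit 1]))) (.node (nat_lit 156) (.leaf ((nat_lit 7), [nat_lit 0, nat_lit 3, nat_lit 2, nat_lit 0, nat_lit 3, nat_lit 2, nat_lit 0])) (.leaf ((nat_lit 8), [nat_lit 3, nat_lit 2, nat_lit 1, nat_lit 3, nat_lit 0])))))))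
 (.node (nat_lit 173) (.node (nat_lit 165) (.node (nat_lit 161) (.node (nat_lit 159) (.node (nat_lit 158) (.leaf ((nat_lit 82), [nat_lit 3, nat_lit 2, nat_lit 3, nat_lit 2])) (.leaf ((nat_lit 83), [nat_lit 1, nat_lit 3, nat_lit 2, nat_lit 1, nat_lit 3, nat_lit 1, nat_lit 1]))) (.node (nat_lit 160) (.leaf ((nat_lit 76), [nat_lit 2, nat_lit 1, nat_lit 1])) (.leaf ((nat_lit 84), [nat_lit 1, nat_lit 1, nat_lit 3, nat_lit 1, nat_lit 1]))))
 (.node (nat_lit 163) (.node (nat_lit 162) (.leaf ((nat_lit 36), [nat_lit 1, nat_lit 1, nat_lit 3, nat_lit 2])) (.leaf ((nat_lit 82), [nat_lit 0, nat_lit 3, nat_lit 2, nat_lit 0]))) (.node (nat_lit 164) (.leaf ((nat_lit 8), [nat_lit 2, nat_lit 0, nat_lit 3, nat_lit 1])) (.leaf ((nat_lit 85), [nat_lit 1, nat_lit 3])))))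
 (.node (nat_lit 169) (.node (nat_lit 167) (.node (nat_lit 166) (.leaf ((nat_lit 20), [nat_lit 2, nat_lit 1, nat_lit 1, nat_lit 3, nat_lit 1])) (.leaf ((nat_lit 17), [nat_lit 3, nat_lit 2]))) (.node (nat_lit 168) (.leaf ((nat_lit 86), [nat_lit 0, nat_lit 3, nat_lit 2, nat_lit 1])) (.leaf ((nat_lit 83), [nat_lit 3, nat_lit 2, nat_lit 1, nat_lit 3, nat_lit 2, nat_lit 0]))))
 (.node (nat_lit 171) (.node (nat_lit 170) (.leaf ((nat_lit 85), [nat_lit 3, nat_lit 2, nat_lit 1])) (.leaf ((nat_lit 8), []))) (.node (nat_lit 172) (.leaf ((nat_lit 87), [nat_lit 3, nat_lit 2, nat_lit 3])) (.leaf ((nat_lit 75), [nat_lit 1, nat_lit 3, nat_lit 2, nat_lit 3, nat_lit 1]))))))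
 (.node (nat_lit 181) (.node (nat_lit 177) (.node (nat_lit 175) (.node (nat_lit 174) (.leaf ((nat_lit 88), [nat_lit 1, nat_lit 1, nat_lit 3, nat_lit 2])) (.leaf ((nat_lit 89), [nat_lit 3, nat_lit 0]))) (.node (nat_lit 176) (.leaf ((nat_lit 90), [nat_lit 2, nat_lit 0])) (.leaf ((nat_lit 13), [nat_lit 2, nat_lit 3, nat_lit 0]))))
 (.node (nat_lit 179) (.node (nat_lit 178) (.leaf ((nat_lit 41), [nat_lit 1, nat_lit 3, nat_lit 2, nat_lit 3, nat_lit 2])) (.leaf ((nat_lit 91), []))) (.node (nat_lit 180) (.leaf ((nat_lit 8), [nat_lit 2, nat_lit 0])) (.leaf ((nat_lit 9), [nat_lit 2, nat_lit 0, nat_lit 3, nat_lit 1])))))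
 (.node (nat_lit 185) (.node (nat_lit 183) (.node (nat_lit 182) (.leaf ((nat_lit 92), [nat_lit 2, nat_lit 1, nat_lit 1, nat_lit 3, nat_lit 2, nat_lit 0])) (.leaf ((nat_lit 93), [nat_lit 2, nat_lit 1, nat_lit 1, nat_lit 3, nat_lit 2, nat_lit 1]))) (.node (nat_lit 184) (.leaf ((nat_lit 94), [nat_lit 0, nat_lit 3])) (.leaf ((nat_lit 95), [nat_lit 0, nat_lit 3, nat_lit 2, nat_lit 0, nat_lit 3, nat_lit 2, nat_lit 0]))))
 (.node (nat_lit 187) (.node (nat_lit 186) (.leaf ((nat_lit 17), [nat_lit 3, nat_lit 1])) (.leaf ((nat_lit 92), [nat_lit 0, nat_lit 3, nat_lit 2, nat_lit 0, nat_lit 3, nat_lit 2, nat_lit 1]))) (.node (nat_lit 188) (.leaf ((nat_lit 9), [nat_lit 3, nat_lit 2, nat_lit 1, nat_lit 3, nat_lit 0])) (.leaf ((nat_lit 96), [nat_lit 3, nat_lit 2, nat_lit 1, nat_lit 3, nat_lit 0]))))))))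
 (.node (nat_lit 220) (.node (nat_lit 204) (.node (nat_lit 196) (.node (nat_lit 192) (.node (nat_lit 190) (.leaf ((nat_lit 97), [nat_lit 2, nat_lit 3, nat_lit 2])) (.node (nat_lit 191) (.leaf ((nat_lit 98), [nat_lit 2, nat_lit 1, nat_lit 1])) (.leaf ((nat_lit 49), [nat_lit 3, nat_lit 2, nat_lit 0, nat_lit 3, nat_lit 2, nat_lit 1, nat_lit 1]))))
 (.node (nat_lit 194) (.node (nat_lit 193) (.leaf ((nat_lit 93), [nat_lit 2, nat_lit 3, nat_lit 1])) (.leaf ((nat_lit 96), [nat_lit 1, nat_lit 3, nat_lit 2, nat_lit 1, nat_lit 3, nat_lit 2]))) (.node (nat_lit 195) (.leaf ((nat_lit 9), [nat_lit 1, nat_lit 3, nat_lit 2, nat_lit 1, nat_lit 3, nat_lit 2])) (.leaf ((nat_lit 99), [nat_lit 3, nat_lit 2, nat_lit 1])))))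
 (.node (nat_lit 200) (.node (nat_lit 198) (.node (nat_lit 197) (.leaf ((nat_lit 90), [nat_lit 3, nat_lit 2, nat_lit 1, nat_lit 3, nat_lit 2])) (.leaf ((nat_lit 100), [nat_lit 1, nat_lit 3, nat_lit 2, nat_lit 1, nat_lit 3, nat_lit 0]))) (.node (nat_lit 199) (.leaf ((nat_lit 99), [nat_lit 3, nat_lit 2, nat_lit 3, nat_lit 2, nat_lit 1, nat_lit 1])) (.leaf ((nat_lit 101), [nat_lit 2, nat_lit 0, nat_lit 3, nat_lit 1]))))
 (.node (nat_lit 202) (.node (nat_lit 201) (.leaf ((nat_lit 102), [nat_lit 1, nat_lit 3, nat_lit 2, nat_lit 1, nat_lit 3, nat_lit 2, nat_lit 1])) (.leaf ((nat_lit 9), [nat_lit 1, nat_lit 3, nat_lit 2, nat_lit 1, nat_lit 3, nat_lit 0]))) (.node (nat_lit 203) (.leaf ((nat_lit 61), [nat_lit 3, nat_lit 1])) (.leaf ((nat_lit 103), [nat_lit 1, nat_lit 3, nat_lit 2, nat_lit 1, nat_lit 3, nat_lit 2]))))))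
 (.node (nat_lit 212) (.node (nat_lit 208) (.node (nat_lit 206) (.node (nat_lit 205) (.leaf ((nat_lit 104), [nat_lit 2, nat_lit 1, nat_lit 3, nat_lit 2])) (.leaf ((nat_lit 105), [nat_lit 1]))) (.node (nat_lit 207) (.leaf ((nat_lit 106), [nat_lit 0, nat_lit 3, nat_lit 2, nat_lit 1])) (.leaf ((nat_lit 61), []))))
 (.node (nat_lit 210) (.node (nat_lit 209) (.leaf ((nat_lit 9), [nat_lit 2, nat_lit 1, nat_lit 3, nat_lit 2, nat_lit 1])) (.leaf ((nat_lit 107), [nat_lit 1, nat_lit 3, nat_lit 2, nat_lit 1, nat_lit 3, nat_lit 2]))) (.node (nat_lit 211) (.leaf ((nat_lit 108), [nat_lit 2, nat_lit 0, nat_lit 3, nat_lit 2, nat_lit 1, nat_lit 1])) (.leaf ((nat_lit 106), [nat_lit 3, nat_lit 2, nat_lit 3, nat_lit 2, nat_lit 0])))))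
 (.node (nat_lit 216) (.node (nat_lit 214) (.node (nat_lit 213) (.leaf ((nat_lit 105), [nat_lit 3, nat_lit 2, nat_lit 3, nat_lit 2, nat_lit 1, nat_lit 1])) (.leaf ((nat_lit 10), [nat_lit 3, nat_lit 2, nat_lit 3, nat_lit 1]))) (.node (nat_lit 215) (.leaf ((nat_lit 60), [nat_lit 2, nat_lit 3, nat_lit 1, nat_lit 1])) (.leaf ((nat_lit 18), [nat_lit 3, nat_lit 2, nat_lit 0, nat_lit 3, nat_lit 2, nat_lit 1, nat_lit 1]))))
 (.node (nat_lit 218) (.node (nat_lit 217) (.leaf ((nat_lit 109), [nat_lit 1, nat_lit 3, nat_lit 2, nat_lit 3, nat_lit 0])) (.leaf ((nat_lit 88), [nat_lit 3, nat_lit 2, nat_lit 3, nat_lit 1, nat_lit 1]))) (.node (nat_lit 219) (.leaf ((nat_lit 110), [nat_lit 2, nat_lit 1, nat_lit 3, nat_lit 2])) (.leaf ((nat_lit 60), [nat_lit 3, nat_lit 2, nat_lit 3, nat_lit 2, nat_lit 1])))))))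
 (.node (nat_lit 236) (.node (nat_lit 228) (.node (nat_lit 224) (.node (nat_lit 222) (.node (nat_lit 221) (.leaf ((nat_lit 10), [nat_lit 2, nat_lit 1, nat_lit 1])) (.leaf ((nat_lit 26), [nat_lit 2, nat_lit 3, nat_lit 1, nat_lit 1]))) (.node (nat_lit 223) (.leaf ((nat_lit 111), [nat_lit 3, nat_lit 2, nat_lit 3, nat_lit 1, nat_lit 1])) (.leaf ((nat_lit 112), [nat_lit 1, nat_lit 1, nat_lit 3, nat_lit 2, nat_lit 1, nat_lit 1]))))
 (.node (nat_lit 226) (.node (nat_lit 225) (.leaf ((nat_lit 113), [nat_lit 3, nat_lit 2, nat_lit 0, nat_lit 3, nat_lit 1, nat_lit 1])) (.leaf ((nat_lit 114), [nat_lit 2, nat_lit 3, nat_lit 2]))) (.node (nat_lit 227) (.leaf ((nat_lit 79), [nat_lit 1, nat_lit 1, nat_lit 3, nat_lit 1, nat_lit 1])) (.leaf ((nat_lit 10), [nat_lit 3, nat_lit 2, nat_lit 3, nat_lit 1])))))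
 (.node (nat_lit 232) (.node (nat_lit 230) (.node (nat_lit 229) (.leaf ((nat_lit 11), [nat_lit 1, nat_lit 3, nat_lit 2, nat_lit 3, nat_lit 0])) (.leaf ((nat_lit 103), [nat_lit 3, nat_lit 2, nat_lit 1, nat_lit 3]))) (.node (nat_lit 231) (.leaf ((nat_lit 115), [nat_lit 3, nat_lit 2, nat_lit 3, nat_lit 2])) (.leaf ((nat_lit 84), [nat_lit 3, nat_lit 2]))))
 (.node (nat_lit 234) (.node (nat_lit 233) (.leaf ((nat_lit 76), [nat_lit 2, nat_lit 1, nat_lit 3, nat_lit 2, nat_lit 1])) (.leaf ((nat_lit 116), [nat_lit 0, nat_lit 3]))) (.node (nat_lit 235) (.leaf ((nat_lit 103), [nat_lit 2, nat_lit 0, nat_lit 3])) (.leaf ((nat_lit 11), [nat_lit 2, nat_lit 1, nat_lit 1]))))))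
 (.node (nat_lit 244) (.node (nat_lit 240) (.node (nat_lit 238) (.node (nat_lit 237) (.leaf ((nat_lit 117), [nat_lit 0, nat_lit 3, nat_lit 2, nat_lit 0, nat_lit 3, nat_lit 2, nat_lit 0])) (.leaf ((nat_lit 17), [nat_lit 3, nat_lit 2, nat_lit 0, nat_lit 3, nat_lit 2, nat_lit 1, nat_lit 1]))) (.node (nat_lit 239) (.leaf ((nat_lit 20), [])) (.leaf ((nat_lit 118), [nat_lit 2, nat_lit 3, nat_lit 1, nat_lit 1]))))
 (.node (nat_lit 242) (.node (nat_lit 241) (.leaf ((nat_lit 115), [nat_lit 1, nat_lit 3, nat_lit 2, nat_lit 1, nat_lit 3, nat_lit 2, nat_lit 1, nat_lit 1])) (.leaf ((nat_lit 117), [nat_lit 3, nat_lit 2, nat_lit 1]))) (.node (nat_lit 243) (.leaf ((nat_lit 11), [nat_lit 1, nat_lit 3, nat_lit 2, nat_lit 1, nat_lit 3, nat_lit 2])) (.leaf ((nat_lit 119), [nat_lit 2, nat_lit 1, nat_lit 1, nat_lit 3, nat_lit 2, nat_lit 1, nat_lit 1])))))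
 (.node (nat_lit 248) (.node (nat_lit 246) (.node (nat_lit 245) (.leaf ((nat_lit 110), [nat_lit 2, nat_lit 1, nat_lit 1, nat_lit 3])) (.leaf ((nat_lit 101), [nat_lit 3]))) (.node (nat_lit 247) (.leaf ((nat_lit 120), [nat_lit 0])) (.leaf ((nat_lit 119), [nat_lit 2, nat_lit 1, nat_lit 3, nat_lit 2]))))
 (.node (nat_lit 250) (.node (nat_lit 249) (.leaf ((nat_lit 62), [nat_lit 2, nat_lit 3, nat_lit 2])) (.leaf ((nat_lit 29), [nat_lit 1, nat_lit 3, nat_lit 2, nat_lit 3, nat_lit 2]))) (.node (nat_lit 251) (.leaf ((nat_lit 121), [])) (.leaf ((nat_lit 11), [nat_lit 2, nat_lit 0]))))))))))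
noncomputable def n4Wd_1 : Tr (ℕ × List ℕ) := (.node (nat_lit 378) (.node (nat_lit 315) (.node (nat_lit 283) (.node (nat_lit 267) (.node (nat_lit 259) (.node (nat_lit 255) (.node (nat_lit 253) (.leaf ((nat_lit 12), [nat_lit 2, nat_lit 1, nat_lit 1])) (.node (nat_lit 254) (.leaf ((nat_lit 122), [nat_lit 2, nat_lit 0, nat_lit 3])) (.leaf ((nat_lit 123), [nat_lit 2, nat_lit 0, nat_lit 3, nat_lit 2]))))
 (.node (nat_lit 257) (.node (nat_lit 256) (.leaf ((nat_lit 116), [nat_lit 3, nat_lit 2, nat_lit 3, nat_lit 2, nat_lit 1])) (.leaf ((nat_lit 71), [nat_lit 3, nat_lit 2, nat_lit 0, nat_lit 3, nat_lit 2, nat_lit 1, nat_lit 1]))) (.node (nat_lit 258) (.leaf ((nat_lit 19), [nat_lit 1, nat_lit 3, nat_lit 2, nat_lit 1, nat_lit 3, nat_lit 2, nat_lit 0])) (.leaf ((nat_lit 122), [nat_lit 3, nat_lit 2, nat_lit 1, nat_lit 3])))))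
 (.node (nat_lit 263) (.node (nat_lit 261) (.node (nat_lit 260) (.leaf ((nat_lit 12), [nat_lit 1, nat_lit 3, nat_lit 2, nat_lit 3, nat_lit 0])) (.leaf ((nat_lit 124), [nat_lit 2, nat_lit 0, nat_lit 3, nat_lit 1]))) (.node (nat_lit 262) (.leaf ((nat_lit 63), [nat_lit 1, nat_lit 3, nat_lit 2, nat_lit 3, nat_lit 0])) (.leaf ((nat_lit 62), [nat_lit 3, nat_lit 1]))))
 (.node (nat_lit 265) (.node (nat_lit 264) (.leaf ((nat_lit 125), [nat_lit 1, nat_lit 3, nat_lit 2, nat_lit 3, nat_lit 2, nat_lit 1, nat_lit 1])) (.leaf ((nat_lit 123), [nat_lit 2, nat_lit 0, nat_lit 3, nat_lit 1, nat_lit 1]))) (.node (nat_lit 266) (.leaf ((nat_lit 124), [nat_lit 3, nat_lit 2, nat_lit 1, nat_lit 3, nat_lit 2, nat_lit 0])) (.leaf ((nat_lit 12), []))))))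
 (.node (nat_lit 275) (.node (nat_lit 271) (.node (nat_lit 269) (.node (nat_lit 268) (.leaf ((nat_lit 75), [nat_lit 2, nat_lit 1, nat_lit 3])) (.leaf ((nat_lit 87), [nat_lit 3, nat_lit 0]))) (.node (nat_lit 270) (.leaf ((nat_lit 126), [nat_lit 0, nat_lit 3, nat_lit 2, nat_lit 0, nat_lit 3, nat_lit 2, nat_lit 0])) (.leaf ((nat_lit 110), [nat_lit 0, nat_lit 3, nat_lit 2, nat_lit 1, nat_lit 1]))))
 (.node (nat_lit 273) (.node (nat_lit 272) (.leaf ((nat_lit 127), [nat_lit 3, nat_lit 2, nat_lit 3, nat_lit 1])) (.leaf ((nat_lit 109), [nat_lit 1, nat_lit 1]))) (.node (nat_lit 274) (.leaf ((nat_lit 12), [nat_lit 3, nat_lit 2, nat_lit 1, nat_lit 3, nat_lit 2, nat_lit 0])) (.leaf ((nat_lit 58), [nat_lit 2, nat_lit 0, nat_lit 3, nat_lit 1])))))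
 (.node (nat_lit 279) (.node (nat_lit 277) (.node (nat_lit 276) (.leaf ((nat_lit 82), [nat_lit 1, nat_lit 3, nat_lit 2, nat_lit 1, nat_lit 3, nat_lit 2])) (.leaf ((nat_lit 128), [nat_lit 2, nat_lit 0]))) (.node (nat_lit 278) (.leaf ((nat_lit 129), [nat_lit 3, nat_lit 0])) (.leaf ((nat_lit 130), [nat_lit 3, nat_lit 2, nat_lit 3]))))
 (.node (nat_lit 281) (.node (nat_lit 280) (.leaf ((nat_lit 58), [])) (.leaf ((nat_lit 12), [nat_lit 1, nat_lit 1, nat_lit 3, nat_lit 1, nat_lit 1]))) (.node (nat_lit 282) (.leaf ((nat_lit 21), [nat_lit 3, nat_lit 2, nat_lit 1, nat_lit 3, nat_lit 2, nat_lit 0])) (.leaf ((nat_lit 13), [nat_lit 3, nat_lit 1])))))))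
 (.node (nat_lit 299) (.node (nat_lit 291) (.node (nat_lit 287) (.node (nat_lit 285) (.node (nat_lit 284) (.leaf ((nat_lit 86), [nat_lit 2, nat_lit 1, nat_lit 3])) (.leaf ((nat_lit 89), [nat_lit 2, nat_lit 3, nat_lit 1]))) (.node (nat_lit 286) (.leaf ((nat_lit 131), [nat_lit 2, nat_lit 1, nat_lit 1, nat_lit 3])) (.leaf ((nat_lit 132), [nat_lit 0, nat_lit 3]))))
 (.node (nat_lit 289) (.node (nat_lit 288) (.leaf ((nat_lit 83), [nat_lit 2, nat_lit 0, nat_lit 3])) (.leaf ((nat_lit 86), [nat_lit 0, nat_lit 3]))) (.node (nat_lit 290) (.leaf ((nat_lit 13), [nat_lit 1, nat_lit 3, nat_lit 2, nat_lit 3, nat_lit 2, nat_lit 1, nat_lit 1])) (.leaf ((nat_lit 90), [nat_lit 3, nat_lit 1])))))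
 (.node (nat_lit 295) (.node (nat_lit 293) (.node (nat_lit 292) (.leaf ((nat_lit 106), [nat_lit 1, nat_lit 3, nat_lit 2, nat_lit 3, nat_lit 1])) (.leaf ((nat_lit 106), [nat_lit 2, nat_lit 0, nat_lit 3, nat_lit 1]))) (.node (nat_lit 294) (.leaf ((nat_lit 89), [nat_lit 2, nat_lit 1, nat_lit 1, nat_lit 3, nat_lit 2, nat_lit 1, nat_lit 1])) (.leaf ((nat_lit 125), [nat_lit 1, nat_lit 3, nat_lit 2, nat_lit 1, nat_lit 3, nat_lit 2, nat_lit 1]))))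
 (.node (nat_lit 297) (.node (nat_lit 296) (.leaf ((nat_lit 60), [nat_lit 1, nat_lit 3, nat_lit 2, nat_lit 1, nat_lit 3, nat_lit 1])) (.leaf ((nat_lit 133), [nat_lit 2, nat_lit 1]))) (.node (nat_lit 298) (.leaf ((nat_lit 14), [nat_lit 3, nat_lit 2, nat_lit 0, nat_lit 3, nat_lit 2, nat_lit 1, nat_lit 1])) (.leaf ((nat_lit 13), [nat_lit 3, nat_lit 2, nat_lit 3, nat_lit 2, nat_lit 1]))))))
 (.node (nat_lit 307) (.node (nat_lit 303) (.node (nat_lit 301) (.node (nat_lit 300) (.leaf ((nat_lit 31), [nat_lit 3, nat_lit 2, nat_lit 3, nat_lit 1])) (.leaf ((nat_lit 14), [nat_lit 1, nat_lit 3, nat_lit 2, nat_lit 3]))) (.node (nat_lit 302) (.leaf ((nat_lit 81), [nat_lit 2, nat_lit 1, nat_lit 1, nat_lit 3, nat_lit 1, nat_lit 1])) (.leaf ((nat_lit 134), [nat_lit 2, nat_lit 0, nat_lit 3, nat_lit 2, nat_lit 1, nat_lit 1]))))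
 (.node (nat_lit 305) (.node (nat_lit 304) (.leaf ((nat_lit 133), [nat_lit 2, nat_lit 1, nat_lit 1, nat_lit 3])) (.leaf ((nat_lit 135), [nat_lit 3, nat_lit 2, nat_lit 0, nat_lit 3, nat_lit 2]))) (.node (nat_lit 306) (.leaf ((nat_lit 123), [nat_lit 3, nat_lit 2, nat_lit 1])) (.leaf ((nat_lit 81), [nat_lit 0, nat_lit 3, nat_lit 2, nat_lit 0, nat_lit 3, nat_lit 2, nat_lit 1, nat_lit 1])))))
 (.node (nat_lit 311) (.node (nat_lit 309) (.node (nat_lit 308) (.leaf ((nat_lit 14), [nat_lit 3, nat_lit 2, nat_lit 0])) (.leaf ((nat_lit 136), [nat_lit 1, nat_lit 3, nat_lit 1, nat_lit 1]))) (.node (nat_lit 310) (.leaf ((nat_lit 88), [nat_lit 1, nat_lit 3, nat_lit 0])) (.leaf ((nat_lit 88), [nat_lit 3, nat_lit 2, nat_lit 3]))))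
 (.node (nat_lit 313) (.node (nat_lit 312) (.leaf ((nat_lit 137), [nat_lit 2, nat_lit 3, nat_lit 1, nat_lit 1])) (.leaf ((nat_lit 134), [nat_lit 1, nat_lit 1, nat_lit 3, nat_lit 0]))) (.node (nat_lit 314) (.leaf ((nat_lit 136), [nat_lit 1, nat_lit 3, nat_lit 2, nat_lit 3])) (.leaf ((nat_lit 14), [nat_lit 0, nat_lit 3, nat_lit 1, nat_lit 1]))))))))
 (.node (nat_lit 346) (.node (nat_lit 330) (.node (nat_lit 322) (.node (nat_lit 318) (.node (nat_lit 316) (.leaf ((nat_lit 122), [])) (.node (nat_lit 317) (.leaf ((nat_lit 21), [nat_lit 2, nat_lit 1, nat_lit 1, nat_lit 3])) (.leaf ((nat_lit 121), [nat_lit 1, nat_lit 3, nat_lit 2, nat_lit 3, nat_lit 0]))))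
 (.node (nat_lit 320) (.node (nat_lit 319) (.leaf ((nat_lit 56), [nat_lit 2, nat_lit 1, nat_lit 1, nat_lit 3, nat_lit 1])) (.leaf ((nat_lit 138), [nat_lit 0, nat_lit 3]))) (.node (nat_lit 321) (.leaf ((nat_lit 54), [nat_lit 2, nat_lit 1, nat_lit 3, nat_lit 2, nat_lit 1, nat_lit 1])) (.leaf ((nat_lit 139), [nat_lit 2, nat_lit 1, nat_lit 1])))))
 (.node (nat_lit 326) (.node (nat_lit 324) (.node (nat_lit 323) (.leaf ((nat_lit 118), [nat_lit 3, nat_lit 2, nat_lit 0, nat_lit 3, nat_lit 2, nat_lit 1, nat_lit 1])) (.leaf ((nat_lit 14), [nat_lit 3, nat_lit 2, nat_lit 0, nat_lit 3]))) (.node (nat_lit 325) (.leaf ((nat_lit 15), [nat_lit 1, nat_lit 1, nat_lit 3, nat_lit 1, nat_lit 1])) (.leaf ((nat_lit 140), [nat_lit 2, nat_lit 1, nat_lit 3, nat_lit 1]))))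
 (.node (nat_lit 328) (.node (nat_lit 327) (.leaf ((nat_lit 53), [nat_lit 2, nat_lit 1, nat_lit 1, nat_lit 3, nat_lit 2, nat_lit 1])) (.leaf ((nat_lit 141), []))) (.node (nat_lit 329) (.leaf ((nat_lit 142), [nat_lit 0, nat_lit 3, nat_lit 2, nat_lit 0, nat_lit 3, nat_lit 1, nat_lit 1])) (.leaf ((nat_lit 54), [nat_lit 2, nat_lit 1, nat_lit 3, nat_lit 2, nat_lit 1]))))))
 (.node (nat_lit 338) (.node (nat_lit 334) (.node (nat_lit 332) (.node (nat_lit 331) (.leaf ((nat_lit 140), [nat_lit 1, nat_lit 3, nat_lit 2, nat_lit 1])) (.leaf ((nat_lit 15), [nat_lit 3, nat_lit 2, nat_lit 1, nat_lit 3, nat_lit 2, nat_lit 1]))) (.node (nat_lit 333) (.leaf ((nat_lit 95), [nat_lit 2, nat_lit 0, nat_lit 3, nat_lit 1, nat_lit 1])) (.leaf ((nat_lit 143), [nat_lit 0, nat_lit 3, nat_lit 2, nat_lit 0, nat_lit 3]))))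
 (.node (nat_lit 336) (.node (nat_lit 335) (.leaf ((nat_lit 143), [nat_lit 3, nat_lit 2, nat_lit 3, nat_lit 2, nat_lit 1, nat_lit 1])) (.leaf ((nat_lit 142), [nat_lit 3, nat_lit 2, nat_lit 1, nat_lit 3, nat_lit 1]))) (.node (nat_lit 337) (.leaf ((nat_lit 53), [nat_lit 0, nat_lit 3, nat_lit 2, nat_lit 1, nat_lit 1])) (.leaf ((nat_lit 95), [nat_lit 0, nat_lit 3, nat_lit 2, nat_lit 1, nat_lit 1])))))
 (.node (nat_lit 342) (.node (nat_lit 340) (.node (nat_lit 339) (.leaf ((nat_lit 15), [nat_lit 3, nat_lit 2, nat_lit 3, nat_lit 1, nat_lit 1])) (.leaf ((nat_lit 120), [nat_lit 2, nat_lit 1, nat_lit 1, nat_lit 3]))) (.node (nat_lit 341) (.leaf ((nat_lit 89), [nat_lit 2, nat_lit 1, nat_lit 1, nat_lit 3, nat_lit 2, nat_lit 1, nat_lit 1])) (.leaf ((nat_lit 96), [nat_lit 2, nat_lit 0, nat_lit 3, nat_lit 1]))))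
 (.node (nat_lit 344) (.node (nat_lit 343) (.leaf ((nat_lit 60), [nat_lit 1, nat_lit 3, nat_lit 2, nat_lit 3, nat_lit 2, nat_lit 1, nat_lit 1])) (.leaf ((nat_lit 125), [nat_lit 0, nat_lit 3, nat_lit 2, nat_lit 0, nat_lit 3, nat_lit 2, nat_lit 0]))) (.node (nat_lit 345) (.leaf ((nat_lit 132), [nat_lit 0, nat_lit 3, nat_lit 2, nat_lit 0, nat_lit 3])) (.leaf ((nat_lit 24), [nat_lit 3, nat_lit 1])))))))
 (.node (nat_lit 362) (.node (nat_lit 354) (.node (nat_lit 350) (.node (nat_lit 348) (.node (nat_lit 347) (.leaf ((nat_lit 15), [nat_lit 2, nat_lit 3, nat_lit 1, nat_lit 1])) (.leaf ((nat_lit 20), []))) (.node (nat_lit 349) (.leaf ((nat_lit 18), [nat_lit 2, nat_lit 1, nat_lit 1])) (.leaf ((nat_lit 72), [nat_lit 2, nat_lit 1, nat_lit 3, nat_lit 1]))))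
 (.node (nat_lit 352) (.node (nat_lit 351) (.leaf ((nat_lit 16), [nat_lit 1, nat_lit 3, nat_lit 2, nat_lit 3, nat_lit 2, nat_lit 1, nat_lit 1])) (.leaf ((nat_lit 46), []))) (.node (nat_lit 353) (.leaf ((nat_lit 45), [nat_lit 0, nat_lit 3, nat_lit 2, nat_lit 0])) (.leaf ((nat_lit 113), [nat_lit 0, nat_lit 3, nat_lit 2, nat_lit 0])))))
 (.node (nat_lit 358) (.node (nat_lit 356) (.node (nat_lit 355) (.leaf ((nat_lit 76), [nat_lit 3, nat_lit 2, nat_lit 0, nat_lit 3, nat_lit 2])) (.leaf ((nat_lit 66), [nat_lit 2, nat_lit 3, nat_lit 2, nat_lit 1, nat_lit 1]))) (.node (nat_lit 357) (.leaf ((nat_lit 131), [nat_lit 1, nat_lit 3, nat_lit 2, nat_lit 1, nat_lit 3, nat_lit 1, nat_lit 1])) (.leaf ((nat_lit 16), [nat_lit 2, nat_lit 3, nat_lit 2]))))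
 (.node (nat_lit 360) (.node (nat_lit 359) (.leaf ((nat_lit 16), [nat_lit 3, nat_lit 2, nat_lit 0, nat_lit 3, nat_lit 2, nat_lit 1, nat_lit 1])) (.leaf ((nat_lit 144), [nat_lit 1, nat_lit 3, nat_lit 2, nat_lit 1, nat_lit 3, nat_lit 0]))) (.node (nat_lit 361) (.leaf ((nat_lit 57), [nat_lit 3, nat_lit 2, nat_lit 0, nat_lit 3, nat_lit 1, nat_lit 1])) (.leaf ((nat_lit 49), [nat_lit 1, nat_lit 3, nat_lit 2, nat_lit 1, nat_lit 3, nat_lit 2, nat_lit 1]))))))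
 (.node (nat_lit 370) (.node (nat_lit 366) (.node (nat_lit 364) (.node (nat_lit 363) (.leaf ((nat_lit 145), [nat_lit 1, nat_lit 3, nat_lit 2, nat_lit 1])) (.leaf ((nat_lit 36), [nat_lit 3, nat_lit 2, nat_lit 3, nat_lit 2, nat_lit 1]))) (.node (nat_lit 365) (.leaf ((nat_lit 35), [nat_lit 1, nat_lit 1, nat_lit 3, nat_lit 2])) (.leaf ((nat_lit 16), [nat_lit 1, nat_lit 1, nat_lit 3, nat_lit 1, nat_lit 1]))))
 (.node (nat_lit 368) (.node (nat_lit 367) (.leaf ((nat_lit 72), [nat_lit 2, nat_lit 3, nat_lit 2, nat_lit 0])) (.leaf ((nat_lit 18), [nat_lit 2, nat_lit 3, nat_lit 2, nat_lit 1]))) (.node (nat_lit 369) (.leaf ((nat_lit 17), [nat_lit 0, nat_lit 3, nat_lit 1, nat_lit 1])) (.leaf ((nat_lit 34), [])))))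
 (.node (nat_lit 374) (.node (nat_lit 372) (.node (nat_lit 371) (.leaf ((nat_lit 33), [nat_lit 0, nat_lit 3])) (.leaf ((nat_lit 146), [nat_lit 2, nat_lit 1, nat_lit 1, nat_lit 3]))) (.node (nat_lit 373) (.leaf ((nat_lit 87), [nat_lit 3, nat_lit 2, nat_lit 3, nat_lit 1, nat_lit 1])) (.leaf ((nat_lit 147), [nat_lit 1, nat_lit 3, nat_lit 1]))))
 (.node (nat_lit 376) (.node (nat_lit 375) (.leaf ((nat_lit 41), [nat_lit 2, nat_lit 3, nat_lit 2])) (.leaf ((nat_lit 18), [nat_lit 2, nat_lit 1, nat_lit 1]))) (.node (nat_lit 377) (.leaf ((nat_lit 43), [nat_lit 0, nat_lit 3])) (.leaf ((nat_lit 69), [nat_lit 0, nat_lit 3, nat_lit 2, nat_lit 1, nat_lit 1])))))))))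
 (.node (nat_lit 441) (.node (nat_lit 409) (.node (nat_lit 393) (.node (nat_lit 385) (.node (nat_lit 381) (.node (nat_lit 379) (.leaf ((nat_lit 126), [nat_lit 3, nat_lit 2, nat_lit 0, nat_lit 3, nat_lit 1, nat_lit 1])) (.node (nat_lit 380) (.leaf ((nat_lit 148), [nat_lit 0, nat_lit 3])) (.leaf ((nat_lit 70), [nat_lit 0, nat_lit 3, nat_lit 2, nat_lit 1, nat_lit 1]))))
 (.node (nat_lit 383) (.node (nat_lit 382) (.leaf ((nat_lit 43), [nat_lit 1, nat_lit 3, nat_lit 2, nat_lit 3, nat_lit 0])) (.leaf ((nat_lit 18), [nat_lit 1, nat_lit 3, nat_lit 2, nat_lit 1, nat_lit 3, nat_lit 2, nat_lit 0]))) (.node (nat_lit 384) (.leaf ((nat_lit 149), [nat_lit 2, nat_lit 3, nat_lit 1, nat_lit 1])) (.leaf ((nat_lit 20), [nat_lit 3, nat_lit 2, nat_lit 1, nat_lit 1])))))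
 (.node (nat_lit 389) (.node (nat_lit 387) (.node (nat_lit 386) (.leaf ((nat_lit 19), [nat_lit 1, nat_lit 3, nat_lit 2, nat_lit 3, nat_lit 2])) (.leaf ((nat_lit 107), [nat_lit 3, nat_lit 2, nat_lit 1, nat_lit 3, nat_lit 2, nat_lit 1]))) (.node (nat_lit 388) (.leaf ((nat_lit 23), [nat_lit 1, nat_lit 3, nat_lit 0])) (.leaf ((nat_lit 23), [nat_lit 0, nat_lit 3, nat_lit 2, nat_lit 0, nat_lit 3, nat_lit 1, nat_lit 1]))))
 (.node (nat_lit 391) (.node (nat_lit 390) (.leaf ((nat_lit 64), [nat_lit 1, nat_lit 3, nat_lit 2, nat_lit 3, nat_lit 0])) (.leaf ((nat_lit 21), [nat_lit 0, nat_lit 3, nat_lit 2, nat_lit 1]))) (.node (nat_lit 392) (.leaf ((nat_lit 107), [nat_lit 2, nat_lit 0, nat_lit 3, nat_lit 2])) (.leaf ((nat_lit 19), [nat_lit 3, nat_lit 2, nat_lit 0, nat_lit 3, nat_lit 2, nat_lit 1]))))))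
 (.node (nat_lit 401) (.node (nat_lit 397) (.node (nat_lit 395) (.node (nat_lit 394) (.leaf ((nat_lit 71), [nat_lit 2, nat_lit 1, nat_lit 1, nat_lit 3, nat_lit 1])) (.leaf ((nat_lit 116), [nat_lit 3, nat_lit 1]))) (.node (nat_lit 396) (.leaf ((nat_lit 81), [nat_lit 3, nat_lit 1])) (.leaf ((nat_lit 84), [nat_lit 3, nat_lit 2]))))
 (.node (nat_lit 399) (.node (nat_lit 398) (.leaf ((nat_lit 59), [nat_lit 2, nat_lit 1, nat_lit 1, nat_lit 3, nat_lit 2])) (.leaf ((nat_lit 150), [nat_lit 3, nat_lit 2, nat_lit 1, nat_lit 3, nat_lit 0]))) (.node (nat_lit 400) (.leaf ((nat_lit 19), [nat_lit 3, nat_lit 2, nat_lit 0, nat_lit 3, nat_lit 2, nat_lit 1, nat_lit 1])) (.leaf ((nat_lit 19), [nat_lit 2, nat_lit 1, nat_lit 1])))))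
 (.node (nat_lit 405) (.node (nat_lit 403) (.node (nat_lit 402) (.leaf ((nat_lit 151), [nat_lit 2, nat_lit 3, nat_lit 1, nat_lit 1])) (.leaf ((nat_lit 107), [nat_lit 2, nat_lit 1, nat_lit 3, nat_lit 2]))) (.node (nat_lit 404) (.leaf ((nat_lit 21), [nat_lit 2, nat_lit 1, nat_lit 1])) (.leaf ((nat_lit 20), [nat_lit 1, nat_lit 3, nat_lit 2, nat_lit 3]))))
 (.node (nat_lit 407) (.node (nat_lit 406) (.leaf ((nat_lit 95), [nat_lit 2, nat_lit 3, nat_lit 1, nat_lit 1])) (.leaf ((nat_lit 94), [nat_lit 2, nat_lit 1, nat_lit 1]))) (.node (nat_lit 408) (.leaf ((nat_lit 79), [nat_lit 3, nat_lit 2, nat_lit 0, nat_lit 3, nat_lit 2, nat_lit 1, nat_lit 1])) (.leaf ((nat_lit 119), [nat_lit 2, nat_lit 3, nat_lit 0])))))))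
 (.node (nat_lit 425) (.node (nat_lit 417) (.node (nat_lit 413) (.node (nat_lit 411) (.node (nat_lit 410) (.leaf ((nat_lit 120), [nat_lit 2, nat_lit 3, nat_lit 1])) (.leaf ((nat_lit 151), [nat_lit 2, nat_lit 0, nat_lit 3, nat_lit 2]))) (.node (nat_lit 412) (.leaf ((nat_lit 21), [nat_lit 0, nat_lit 3, nat_lit 2, nat_lit 0])) (.leaf ((nat_lit 122), [nat_lit 3, nat_lit 2, nat_lit 1, nat_lit 3, nat_lit 2, nat_lit 0]))))
 (.node (nat_lit 415) (.node (nat_lit 414) (.leaf ((nat_lit 68), [nat_lit 1, nat_lit 3, nat_lit 2, nat_lit 1, nat_lit 3, nat_lit 0])) (.leaf ((nat_lit 152), [nat_lit 2, nat_lit 3, nat_lit 2, nat_lit 1]))) (.node (nat_lit 416) (.leaf ((nat_lit 143), [nat_lit 2, nat_lit 1, nat_lit 3, nat_lit 2, nat_lit 1, nat_lit 1])) (.leaf ((nat_lit 118), [nat_lit 1, nat_lit 3, nat_lit 2, nat_lit 0])))))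
 (.node (nat_lit 421) (.node (nat_lit 419) (.node (nat_lit 418) (.leaf ((nat_lit 22), [nat_lit 3, nat_lit 1])) (.leaf ((nat_lit 125), [nat_lit 0, nat_lit 3, nat_lit 2, nat_lit 0, nat_lit 3, nat_lit 1, nat_lit 1]))) (.node (nat_lit 420) (.leaf ((nat_lit 62), [nat_lit 2, nat_lit 1, nat_lit 1, nat_lit 3, nat_lit 1])) (.leaf ((nat_lit 78), [nat_lit 0, nat_lit 3, nat_lit 2, nat_lit 0]))))
 (.node (nat_lit 423) (.node (nat_lit 422) (.leaf ((nat_lit 77), [nat_lit 2, nat_lit 1, nat_lit 1])) (.leaf ((nat_lit 63), [nat_lit 2, nat_lit 1, nat_lit 1, nat_lit 3, nat_lit 1]))) (.node (nat_lit 424) (.leaf ((nat_lit 125), [nat_lit 3, nat_lit 2, nat_lit 0, nat_lit 3, nat_lit 2, nat_lit 1, nat_lit 1])) (.leaf ((nat_lit 22), [nat_lit 1, nat_lit 1, nat_lit 3, nat_lit 1, nat_lit 1]))))))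
 (.node (nat_lit 433) (.node (nat_lit 429) (.node (nat_lit 427) (.node (nat_lit 426) (.leaf ((nat_lit 139), [nat_lit 1, nat_lit 1, nat_lit 3, nat_lit 1, nat_lit 1])) (.leaf ((nat_lit 153), [nat_lit 2, nat_lit 1, nat_lit 1, nat_lit 3, nat_lit 2, nat_lit 1]))) (.node (nat_lit 428) (.leaf ((nat_lit 130), [nat_lit 3, nat_lit 2, nat_lit 3, nat_lit 0])) (.leaf ((nat_lit 129), [nat_lit 3, nat_lit 1, nat_lit 1]))))
 (.node (nat_lit 431) (.node (nat_lit 430) (.leaf ((nat_lit 65), [nat_lit 0, nat_lit 3, nat_lit 2, nat_lit 1, nat_lit 1])) (.leaf ((nat_lit 42), [nat_lit 3, nat_lit 2, nat_lit 3, nat_lit 1]))) (.node (nat_lit 432) (.leaf ((nat_lit 22), [nat_lit 1, nat_lit 1, nat_lit 3, nat_lit 2])) (.leaf ((nat_lit 61), [nat_lit 2, nat_lit 0, nat_lit 3, nat_lit 2])))))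
 (.node (nat_lit 437) (.node (nat_lit 435) (.node (nat_lit 434) (.leaf ((nat_lit 58), [nat_lit 0, nat_lit 3, nat_lit 2, nat_lit 1])) (.leaf ((nat_lit 23), [nat_lit 1, nat_lit 3, nat_lit 2, nat_lit 3, nat_lit 2, nat_lit 1, nat_lit 1]))) (.node (nat_lit 436) (.leaf ((nat_lit 98), [nat_lit 3, nat_lit 2])) (.leaf ((nat_lit 97), [nat_lit 2, nat_lit 1, nat_lit 3, nat_lit 2, nat_lit 1]))))
 (.node (nat_lit 439) (.node (nat_lit 438) (.leaf ((nat_lit 95), [nat_lit 0, nat_lit 3, nat_lit 2, nat_lit 1])) (.leaf ((nat_lit 24), [nat_lit 2, nat_lit 1, nat_lit 1, nat_lit 3, nat_lit 2, nat_lit 1]))) (.node (nat_lit 440) (.leaf ((nat_lit 154), [nat_lit 2, nat_lit 0, nat_lit 3, nat_lit 1])) (.leaf ((nat_lit 116), [nat_lit 3, nat_lit 2, nat_lit 0]))))))))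
 (.node (nat_lit 472) (.node (nat_lit 456) (.node (nat_lit 448) (.node (nat_lit 444) (.node (nat_lit 442) (.leaf ((nat_lit 145), [nat_lit 3, nat_lit 2, nat_lit 3])) (.node (nat_lit 443) (.leaf ((nat_lit 150), [nat_lit 1, nat_lit 3, nat_lit 2, nat_lit 0])) (.leaf ((nat_lit 73), [nat_lit 2, nat_lit 1, nat_lit 1]))))
 (.node (nat_lit 446) (.node (nat_lit 445) (.leaf ((nat_lit 154), [nat_lit 3, nat_lit 2, nat_lit 0, nat_lit 3, nat_lit 0])) (.leaf ((nat_lit 24), [nat_lit 2, nat_lit 1, nat_lit 3, nat_lit 2]))) (.node (nat_lit 447) (.leaf ((nat_lit 155), [nat_lit 2, nat_lit 3, nat_lit 0])) (.leaf ((nat_lit 77), [nat_lit 3])))))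
 (.node (nat_lit 452) (.node (nat_lit 450) (.node (nat_lit 449) (.leaf ((nat_lit 77), [nat_lit 0, nat_lit 3, nat_lit 0])) (.leaf ((nat_lit 150), [nat_lit 1, nat_lit 3, nat_lit 2, nat_lit 1, nat_lit 3, nat_lit 2]))) (.node (nat_lit 451) (.leaf ((nat_lit 116), [nat_lit 1, nat_lit 3, nat_lit 2, nat_lit 3, nat_lit 2, nat_lit 1, nat_lit 1])) (.leaf ((nat_lit 155), [nat_lit 2, nat_lit 1, nat_lit 1, nat_lit 3, nat_lit 1]))))
 (.node (nat_lit 454) (.node (nat_lit 453) (.leaf ((nat_lit 24), [nat_lit 1, nat_lit 3, nat_lit 2, nat_lit 1, nat_lit 1])) (.leaf ((nat_lit 44), [nat_lit 3, nat_lit 2, nat_lit 1]))) (.node (nat_lit 455) (.leaf ((nat_lit 28), [nat_lit 3, nat_lit 2, nat_lit 0, nat_lit 3, nat_lit 2, nat_lit 1])) (.leaf ((nat_lit 99), [nat_lit 2, nat_lit 0, nat_lit 3, nat_lit 1]))))))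
 (.node (nat_lit 464) (.node (nat_lit 460) (.node (nat_lit 458) (.node (nat_lit 457) (.leaf ((nat_lit 59), [nat_lit 0, nat_lit 3, nat_lit 2, nat_lit 0, nat_lit 3, nat_lit 2, nat_lit 0])) (.leaf ((nat_lit 84), [nat_lit 1, nat_lit 3, nat_lit 2, nat_lit 3, nat_lit 2, nat_lit 1, nat_lit 1]))) (.node (nat_lit 459) (.leaf ((nat_lit 141), [nat_lit 2, nat_lit 1, nat_lit 3, nat_lit 2])) (.leaf ((nat_lit 26), [nat_lit 2, nat_lit 1, nat_lit 1]))))
 (.node (nat_lit 462) (.node (nat_lit 461) (.leaf ((nat_lit 38), [nat_lit 2, nat_lit 1, nat_lit 3, nat_lit 2, nat_lit 1])) (.leaf ((nat_lit 24), [nat_lit 3, nat_lit 2, nat_lit 0, nat_lit 3, nat_lit 1, nat_lit 1]))) (.node (nat_lit 463) (.leaf ((nat_lit 25), [nat_lit 2, nat_lit 1, nat_lit 3, nat_lit 1])) (.leaf ((nat_lit 70), [nat_lit 2, nat_lit 1, nat_lit 1])))))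
 (.node (nat_lit 468) (.node (nat_lit 466) (.node (nat_lit 465) (.leaf ((nat_lit 148), [nat_lit 2, nat_lit 0, nat_lit 3, nat_lit 0])) (.leaf ((nat_lit 74), [nat_lit 3]))) (.node (nat_lit 467) (.leaf ((nat_lit 74), [nat_lit 1, nat_lit 3, nat_lit 1])) (.leaf ((nat_lit 77), [nat_lit 1, nat_lit 1]))))
 (.node (nat_lit 470) (.node (nat_lit 469) (.leaf ((nat_lit 70), [nat_lit 2, nat_lit 0, nat_lit 3, nat_lit 1])) (.leaf ((nat_lit 25), [nat_lit 2, nat_lit 1, nat_lit 1, nat_lit 3]))) (.node (nat_lit 471) (.leaf ((nat_lit 126), [nat_lit 3, nat_lit 2, nat_lit 3, nat_lit 2])) (.leaf ((nat_lit 142), [nat_lit 3])))))))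
 (.node (nat_lit 488) (.node (nat_lit 480) (.node (nat_lit 476) (.node (nat_lit 474) (.node (nat_lit 473) (.leaf ((nat_lit 141), [nat_lit 3, nat_lit 2, nat_lit 1, nat_lit 3, nat_lit 2, nat_lit 0])) (.leaf ((nat_lit 145), [nat_lit 0, nat_lit 3, nat_lit 2, nat_lit 0, nat_lit 3, nat_lit 2]))) (.node (nat_lit 475) (.leaf ((nat_lit 148), [nat_lit 0, nat_lit 3])) (.leaf ((nat_lit 126), [nat_lit 3, nat_lit 2, nat_lit 0, nat_lit 3, nat_lit 1, nat_lit 1]))))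
 (.node (nat_lit 478) (.node (nat_lit 477) (.leaf ((nat_lit 25), [nat_lit 3, nat_lit 2, nat_lit 3, nat_lit 1])) (.leaf ((nat_lit 155), [nat_lit 3, nat_lit 2, nat_lit 0, nat_lit 3, nat_lit 2, nat_lit 1, nat_lit 1]))) (.node (nat_lit 479) (.leaf ((nat_lit 37), [nat_lit 1, nat_lit 1, nat_lit 3, nat_lit 1, nat_lit 1])) (.leaf ((nat_lit 67), [nat_lit 3, nat_lit 2, nat_lit 3, nat_lit 1])))))
 (.node (nat_lit 484) (.node (nat_lit 482) (.node (nat_lit 481) (.leaf ((nat_lit 88), [nat_lit 0, nat_lit 3, nat_lit 2, nat_lit 0, nat_lit 3, nat_lit 2, nat_lit 1])) (.leaf ((nat_lit 109), [nat_lit 3, nat_lit 2, nat_lit 1]))) (.node (nat_lit 483) (.leaf ((nat_lit 127), [nat_lit 3, nat_lit 2, nat_lit 0, nat_lit 3, nat_lit 2, nat_lit 0])) (.leaf ((nat_lit 25), [nat_lit 0, nat_lit 3, nat_lit 2, nat_lit 1, nat_lit 1]))))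
 (.node (nat_lit 486) (.node (nat_lit 485) (.leaf ((nat_lit 154), [nat_lit 1, nat_lit 3, nat_lit 2, nat_lit 1, nat_lit 3, nat_lit 0])) (.leaf ((nat_lit 80), [nat_lit 3, nat_lit 2, nat_lit 0, nat_lit 3]))) (.node (nat_lit 487) (.leaf ((nat_lit 51), [nat_lit 3, nat_lit 2, nat_lit 3, nat_lit 1, nat_lit 1])) (.leaf ((nat_lit 50), [nat_lit 1, nat_lit 1, nat_lit 3, nat_lit 2, nat_lit 1, nat_lit 1]))))))
 (.node (nat_lit 496) (.node (nat_lit 492) (.node (nat_lit 490) (.node (nat_lit 489) (.leaf ((nat_lit 146), [nat_lit 1, nat_lit 3, nat_lit 2, nat_lit 3, nat_lit 2])) (.leaf ((nat_lit 154), [nat_lit 2, nat_lit 3, nat_lit 1, nat_lit 1]))) (.node (nat_lit 491) (.leaf ((nat_lit 25), [nat_lit 2, nat_lit 1, nat_lit 3, nat_lit 2, nat_lit 1])) (.leaf ((nat_lit 65), [nat_lit 0, nat_lit 3]))))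
 (.node (nat_lit 494) (.node (nat_lit 493) (.leaf ((nat_lit 27), [nat_lit 2, nat_lit 0, nat_lit 3, nat_lit 1])) (.leaf ((nat_lit 26), [nat_lit 1, nat_lit 3, nat_lit 2, nat_lit 3, nat_lit 2, nat_lit 1]))) (.node (nat_lit 495) (.leaf ((nat_lit 156), [nat_lit 3, nat_lit 2, nat_lit 1])) (.leaf ((nat_lit 103), [nat_lit 2, nat_lit 1, nat_lit 3, nat_lit 2, nat_lit 1])))))
 (.node (nat_lit 500) (.node (nat_lit 498) (.node (nat_lit 497) (.leaf ((nat_lit 103), [nat_lit 1, nat_lit 1, nat_lit 3, nat_lit 1, nat_lit 1])) (.leaf ((nat_lit 45), [nat_lit 3, nat_lit 2, nat_lit 1, nat_lit 3, nat_lit 2, nat_lit 0]))) (.node (nat_lit 499) (.leaf ((nat_lit 28), [nat_lit 1, nat_lit 3, nat_lit 2, nat_lit 1, nat_lit 3, nat_lit 2])) (.leaf ((nat_lit 156), [nat_lit 3, nat_lit 2, nat_lit 0, nat_lit 3, nat_lit 1, nat_lit 1]))))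
 (.node (nat_lit 502) (.node (nat_lit 501) (.leaf ((nat_lit 26), [nat_lit 3, nat_lit 2, nat_lit 1, nat_lit 3, nat_lit 2, nat_lit 1])) (.leaf ((nat_lit 128), [nat_lit 3, nat_lit 2, nat_lit 1, nat_lit 3, nat_lit 2, nat_lit 1, nat_lit 1]))) (.node (nat_lit 503) (.leaf ((nat_lit 134), [nat_lit 0, nat_lit 3, nat_lit 2, nat_lit 0, nat_lit 3, nat_lit 0])) (.leaf ((nat_lit 47), [nat_lit 3, nat_lit 2, nat_lit 0]))))))))))
noncomputable def n4Wd_2 : Tr (ℕ × List ℕ) := (.node (nat_lit 630) (.node (nat_lit 567) (.node (nat_lit 535) (.node (nat_lit 519) (.node (nat_lit 511) (.node (nat_lit 507) (.node (nat_lit 505) (.leaf ((nat_lit 66), [nat_lit 2, nat_lit 3])) (.node (nat_lit 506) (.leaf ((nat_lit 76), [nat_lit 3, nat_lit 2, nat_lit 0, nat_lit 3, nat_lit 1, nat_lit 1])) (.leaf ((nat_lit 135), [nat_lit 1, nat_lit 3, nat_lit 2, nat_lit 1, nat_lit 3, nat_lit 1]))))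
 (.node (nat_lit 509) (.node (nat_lit 508) (.leaf ((nat_lit 38), [nat_lit 2, nat_lit 3])) (.leaf ((nat_lit 26), [nat_lit 1, nat_lit 1, nat_lit 3, nat_lit 1, nat_lit 1]))) (.node (nat_lit 510) (.leaf ((nat_lit 94), [nat_lit 1, nat_lit 1, nat_lit 3, nat_lit 2])) (.leaf ((nat_lit 156), [nat_lit 1, nat_lit 3, nat_lit 2, nat_lit 1, nat_lit 3])))))
 (.node (nat_lit 515) (.node (nat_lit 513) (.node (nat_lit 512) (.leaf ((nat_lit 28), [nat_lit 2, nat_lit 1, nat_lit 3])) (.leaf ((nat_lit 27), [nat_lit 3, nat_lit 0]))) (.node (nat_lit 514) (.leaf ((nat_lit 157), [nat_lit 3, nat_lit 2, nat_lit 0, nat_lit 3, nat_lit 2, nat_lit 1])) (.leaf ((nat_lit 102), [nat_lit 1, nat_lit 3, nat_lit 2, nat_lit 3, nat_lit 1]))))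
 (.node (nat_lit 517) (.node (nat_lit 516) (.leaf ((nat_lit 127), [nat_lit 1, nat_lit 3, nat_lit 2, nat_lit 3, nat_lit 1])) (.leaf ((nat_lit 48), [nat_lit 3, nat_lit 1]))) (.node (nat_lit 518) (.leaf ((nat_lit 47), [nat_lit 3, nat_lit 2, nat_lit 1])) (.leaf ((nat_lit 158), [nat_lit 1, nat_lit 1, nat_lit 3, nat_lit 2, nat_lit 1]))))))
 (.node (nat_lit 527) (.node (nat_lit 523) (.node (nat_lit 521) (.node (nat_lit 520) (.leaf ((nat_lit 144), [nat_lit 3, nat_lit 2, nat_lit 3, nat_lit 2, nat_lit 1])) (.leaf ((nat_lit 140), [nat_lit 3, nat_lit 2, nat_lit 1]))) (.node (nat_lit 522) (.leaf ((nat_lit 27), [nat_lit 2, nat_lit 1, nat_lit 3, nat_lit 1])) (.leaf ((nat_lit 62), [nat_lit 0, nat_lit 3, nat_lit 2, nat_lit 0, nat_lit 3, nat_lit 2, nat_lit 1, nat_lit 1]))))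
 (.node (nat_lit 525) (.node (nat_lit 524) (.leaf ((nat_lit 151), [nat_lit 2, nat_lit 1, nat_lit 1, nat_lit 3, nat_lit 2, nat_lit 0])) (.leaf ((nat_lit 120), [nat_lit 1, nat_lit 1, nat_lit 3, nat_lit 0]))) (.node (nat_lit 526) (.leaf ((nat_lit 28), [nat_lit 3, nat_lit 2, nat_lit 3])) (.leaf ((nat_lit 44), [nat_lit 1, nat_lit 3])))))
 (.node (nat_lit 531) (.node (nat_lit 529) (.node (nat_lit 528) (.leaf ((nat_lit 135), [nat_lit 2, nat_lit 3, nat_lit 2, nat_lit 1])) (.leaf ((nat_lit 80), [nat_lit 1, nat_lit 3, nat_lit 2, nat_lit 3, nat_lit 1, nat_lit 1]))) (.node (nat_lit 530) (.leaf ((nat_lit 36), [nat_lit 0, nat_lit 3, nat_lit 2, nat_lit 0, nat_lit 3, nat_lit 2, nat_lit 1, nat_lit 1])) (.leaf ((nat_lit 159), [nat_lit 3, nat_lit 2, nat_lit 1, nat_lit 3, nat_lit 0]))))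
 (.node (nat_lit 533) (.node (nat_lit 532) (.leaf ((nat_lit 51), [nat_lit 1, nat_lit 3, nat_lit 0])) (.leaf ((nat_lit 51), [nat_lit 3, nat_lit 2, nat_lit 3]))) (.node (nat_lit 534) (.leaf ((nat_lit 28), [nat_lit 2, nat_lit 3, nat_lit 1, nat_lit 1])) (.leaf ((nat_lit 29), [nat_lit 1, nat_lit 3])))))))
 (.node (nat_lit 551) (.node (nat_lit 543) (.node (nat_lit 539) (.node (nat_lit 537) (.node (nat_lit 536) (.leaf ((nat_lit 158), [nat_lit 1, nat_lit 3, nat_lit 2])) (.leaf ((nat_lit 47), [nat_lit 0, nat_lit 3, nat_lit 2]))) (.node (nat_lit 538) (.leaf ((nat_lit 130), [nat_lit 3, nat_lit 2, nat_lit 3])) (.leaf ((nat_lit 56), [nat_lit 2, nat_lit 1, nat_lit 1, nat_lit 3, nat_lit 2, nat_lit 1, nat_lit 1]))))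
 (.node (nat_lit 541) (.node (nat_lit 540) (.leaf ((nat_lit 48), [nat_lit 2, nat_lit 1, nat_lit 1, nat_lit 3, nat_lit 2, nat_lit 1, nat_lit 1])) (.leaf ((nat_lit 158), [nat_lit 1, nat_lit 3, nat_lit 2, nat_lit 3, nat_lit 2]))) (.node (nat_lit 542) (.leaf ((nat_lit 29), [nat_lit 2, nat_lit 0])) (.leaf ((nat_lit 48), [nat_lit 0, nat_lit 3])))))
 (.node (nat_lit 547) (.node (nat_lit 545) (.node (nat_lit 544) (.leaf ((nat_lit 117), [nat_lit 0, nat_lit 3, nat_lit 2, nat_lit 0, nat_lit 3, nat_lit 1, nat_lit 1])) (.leaf ((nat_lit 32), [nat_lit 3, nat_lit 2, nat_lit 1, nat_lit 3, nat_lit 2]))) (.node (nat_lit 546) (.leaf ((nat_lit 156), [nat_lit 1])) (.leaf ((nat_lit 105), [nat_lit 1, nat_lit 3, nat_lit 1]))))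
 (.node (nat_lit 549) (.node (nat_lit 548) (.leaf ((nat_lit 104), [nat_lit 3, nat_lit 2, nat_lit 3, nat_lit 2, nat_lit 1, nat_lit 1])) (.leaf ((nat_lit 108), [nat_lit 0, nat_lit 3, nat_lit 1, nat_lit 1]))) (.node (nat_lit 550) (.leaf ((nat_lit 121), [nat_lit 1, nat_lit 3, nat_lit 2, nat_lit 3, nat_lit 2])) (.leaf ((nat_lit 29), []))))))
 (.node (nat_lit 559) (.node (nat_lit 555) (.node (nat_lit 553) (.node (nat_lit 552) (.leaf ((nat_lit 160), [nat_lit 3, nat_lit 2, nat_lit 3, nat_lit 1, nat_lit 1])) (.leaf ((nat_lit 31), [nat_lit 1, nat_lit 3, nat_lit 2, nat_lit 3, nat_lit 1, nat_lit 1]))) (.node (nat_lit 554) (.leaf ((nat_lit 30), [nat_lit 2, nat_lit 0, nat_lit 3, nat_lit 2, nat_lit 1, nat_lit 1])) (.leaf ((nat_lit 161), [nat_lit 3, nat_lit 2, nat_lit 3]))))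
 (.node (nat_lit 557) (.node (nat_lit 556) (.leaf ((nat_lit 160), [nat_lit 0, nat_lit 3, nat_lit 2, nat_lit 0])) (.leaf ((nat_lit 158), [nat_lit 1, nat_lit 1, nat_lit 3, nat_lit 1, nat_lit 1]))) (.node (nat_lit 558) (.leaf ((nat_lit 92), [nat_lit 1, nat_lit 1, nat_lit 3, nat_lit 1, nat_lit 1])) (.leaf ((nat_lit 32), [nat_lit 0, nat_lit 3, nat_lit 2])))))
 (.node (nat_lit 563) (.node (nat_lit 561) (.node (nat_lit 560) (.leaf ((nat_lit 161), [nat_lit 1, nat_lit 3, nat_lit 2, nat_lit 1, nat_lit 3, nat_lit 2, nat_lit 1, nat_lit 1])) (.leaf ((nat_lit 30), [nat_lit 2, nat_lit 1, nat_lit 3, nat_lit 2, nat_lit 1, nat_lit 1]))) (.node (nat_lit 562) (.leaf ((nat_lit 102), [nat_lit 3, nat_lit 2, nat_lit 1])) (.leaf ((nat_lit 157), [nat_lit 2, nat_lit 1, nat_lit 3, nat_lit 1, nat_lit 1]))))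
 (.node (nat_lit 565) (.node (nat_lit 564) (.leaf ((nat_lit 134), [nat_lit 3, nat_lit 2, nat_lit 0])) (.leaf ((nat_lit 102), [nat_lit 2, nat_lit 1, nat_lit 1, nat_lit 3, nat_lit 1]))) (.node (nat_lit 566) (.leaf ((nat_lit 162), [nat_lit 2, nat_lit 3, nat_lit 2, nat_lit 1])) (.leaf ((nat_lit 99), [nat_lit 2]))))))))
 (.node (nat_lit 598) (.node (nat_lit 582) (.node (nat_lit 574) (.node (nat_lit 570) (.node (nat_lit 568) (.leaf ((nat_lit 30), [nat_lit 3, nat_lit 1])) (.node (nat_lit 569) (.leaf ((nat_lit 67), [nat_lit 2, nat_lit 1, nat_lit 1])) (.leaf ((nat_lit 84), [nat_lit 2, nat_lit 3, nat_lit 1, nat_lit 1]))))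
 (.node (nat_lit 572) (.node (nat_lit 571) (.leaf ((nat_lit 138), [nat_lit 0, nat_lit 3])) (.leaf ((nat_lit 56), [nat_lit 2, nat_lit 1, nat_lit 1, nat_lit 3, nat_lit 1]))) (.node (nat_lit 573) (.leaf ((nat_lit 55), [nat_lit 1, nat_lit 1, nat_lit 3, nat_lit 2, nat_lit 0])) (.leaf ((nat_lit 67), [nat_lit 1, nat_lit 1, nat_lit 3, nat_lit 2])))))
 (.node (nat_lit 578) (.node (nat_lit 576) (.node (nat_lit 575) (.leaf ((nat_lit 30), [nat_lit 3, nat_lit 2, nat_lit 0, nat_lit 3, nat_lit 2])) (.leaf ((nat_lit 72), [nat_lit 2, nat_lit 1, nat_lit 3, nat_lit 1]))) (.node (nat_lit 577) (.leaf ((nat_lit 161), [nat_lit 3, nat_lit 2, nat_lit 1])) (.leaf ((nat_lit 32), [nat_lit 3, nat_lit 2, nat_lit 1, nat_lit 3, nat_lit 2, nat_lit 0]))))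
 (.node (nat_lit 580) (.node (nat_lit 579) (.leaf ((nat_lit 31), [nat_lit 1, nat_lit 3, nat_lit 2, nat_lit 1, nat_lit 3])) (.leaf ((nat_lit 100), [nat_lit 2, nat_lit 1, nat_lit 1, nat_lit 3]))) (.node (nat_lit 581) (.leaf ((nat_lit 104), [nat_lit 3, nat_lit 2, nat_lit 3])) (.leaf ((nat_lit 56), [nat_lit 0, nat_lit 3, nat_lit 2, nat_lit 0]))))))
 (.node (nat_lit 590) (.node (nat_lit 586) (.node (nat_lit 584) (.node (nat_lit 583) (.leaf ((nat_lit 112), [nat_lit 2, nat_lit 1, nat_lit 3])) (.leaf ((nat_lit 111), [nat_lit 0, nat_lit 3, nat_lit 2, nat_lit 0, nat_lit 3, nat_lit 2, nat_lit 1]))) (.node (nat_lit 585) (.leaf ((nat_lit 160), [nat_lit 2, nat_lit 0, nat_lit 3, nat_lit 2, nat_lit 1, nat_lit 1])) (.leaf ((nat_lit 31), [nat_lit 2, nat_lit 3, nat_lit 2]))))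
 (.node (nat_lit 588) (.node (nat_lit 587) (.leaf ((nat_lit 72), [nat_lit 2, nat_lit 1, nat_lit 3, nat_lit 2, nat_lit 1])) (.leaf ((nat_lit 140), [nat_lit 0, nat_lit 3]))) (.node (nat_lit 589) (.leaf ((nat_lit 157), [nat_lit 2, nat_lit 3, nat_lit 2, nat_lit 1])) (.leaf ((nat_lit 163), [nat_lit 3, nat_lit 2, nat_lit 0, nat_lit 3, nat_lit 1, nat_lit 1])))))
 (.node (nat_lit 594) (.node (nat_lit 592) (.node (nat_lit 591) (.leaf ((nat_lit 144), [nat_lit 0, nat_lit 3, nat_lit 2, nat_lit 1, nat_lit 1])) (.leaf ((nat_lit 72), [nat_lit 2, nat_lit 3]))) (.node (nat_lit 593) (.leaf ((nat_lit 31), [nat_lit 2, nat_lit 1, nat_lit 1])) (.leaf ((nat_lit 98), [nat_lit 1, nat_lit 3, nat_lit 2, nat_lit 1, nat_lit 3, nat_lit 2, nat_lit 0]))))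
 (.node (nat_lit 596) (.node (nat_lit 595) (.leaf ((nat_lit 33), [nat_lit 3, nat_lit 2, nat_lit 0, nat_lit 3, nat_lit 0])) (.leaf ((nat_lit 164), [nat_lit 2, nat_lit 3, nat_lit 0]))) (.node (nat_lit 597) (.leaf ((nat_lit 94), [nat_lit 2])) (.leaf ((nat_lit 32), [nat_lit 2, nat_lit 1, nat_lit 3])))))))
 (.node (nat_lit 614) (.node (nat_lit 606) (.node (nat_lit 602) (.node (nat_lit 600) (.node (nat_lit 599) (.leaf ((nat_lit 117), [nat_lit 3, nat_lit 2, nat_lit 3])) (.leaf ((nat_lit 75), [nat_lit 0, nat_lit 3, nat_lit 2, nat_lit 0]))) (.node (nat_lit 601) (.leaf ((nat_lit 160), [nat_lit 0, nat_lit 3, nat_lit 2, nat_lit 0, nat_lit 3, nat_lit 2, nat_lit 1])) (.leaf ((nat_lit 113), [nat_lit 1, nat_lit 3, nat_lit 2, nat_lit 3, nat_lit 2, nat_lit 0]))))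
 (.node (nat_lit 604) (.node (nat_lit 603) (.leaf ((nat_lit 112), [nat_lit 2, nat_lit 1, nat_lit 1, nat_lit 3, nat_lit 2, nat_lit 1])) (.leaf ((nat_lit 96), [nat_lit 3, nat_lit 2, nat_lit 1, nat_lit 1]))) (.node (nat_lit 605) (.leaf ((nat_lit 156), [nat_lit 3, nat_lit 2, nat_lit 1, nat_lit 3, nat_lit 1, nat_lit 1])) (.leaf ((nat_lit 32), [nat_lit 1, nat_lit 3, nat_lit 2, nat_lit 1, nat_lit 3, nat_lit 0])))))
 (.node (nat_lit 610) (.node (nat_lit 608) (.node (nat_lit 607) (.leaf ((nat_lit 164), [nat_lit 1, nat_lit 1, nat_lit 3, nat_lit 2, nat_lit 1])) (.leaf ((nat_lit 33), [nat_lit 0, nat_lit 3, nat_lit 2, nat_lit 0]))) (.node (nat_lit 609) (.leaf ((nat_lit 114), [nat_lit 3, nat_lit 2, nat_lit 1, nat_lit 3, nat_lit 2, nat_lit 1])) (.leaf ((nat_lit 111), [nat_lit 3, nat_lit 2, nat_lit 1, nat_lit 1]))))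
 (.node (nat_lit 612) (.node (nat_lit 611) (.leaf ((nat_lit 148), [nat_lit 2, nat_lit 1, nat_lit 3, nat_lit 2, nat_lit 1])) (.leaf ((nat_lit 40), [nat_lit 3]))) (.node (nat_lit 613) (.leaf ((nat_lit 94), [nat_lit 0, nat_lit 3, nat_lit 2, nat_lit 1, nat_lit 1])) (.leaf ((nat_lit 114), [nat_lit 1, nat_lit 3, nat_lit 2, nat_lit 3]))))))
 (.node (nat_lit 622) (.node (nat_lit 618) (.node (nat_lit 616) (.node (nat_lit 615) (.leaf ((nat_lit 33), [nat_lit 1, nat_lit 3, nat_lit 2, nat_lit 1, nat_lit 3, nat_lit 1])) (.leaf ((nat_lit 93), [nat_lit 2, nat_lit 1, nat_lit 3]))) (.node (nat_lit 617) (.leaf ((nat_lit 85), [nat_lit 3, nat_lit 2, nat_lit 0, nat_lit 3, nat_lit 2, nat_lit 1])) (.leaf ((nat_lit 102), [nat_lit 2, nat_lit 1, nat_lit 1, nat_lit 3, nat_lit 2, nat_lit 1, nat_lit 1]))))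
 (.node (nat_lit 620) (.node (nat_lit 619) (.leaf ((nat_lit 39), [nat_lit 3, nat_lit 2, nat_lit 0])) (.leaf ((nat_lit 38), [nat_lit 3, nat_lit 2, nat_lit 1, nat_lit 3]))) (.node (nat_lit 621) (.leaf ((nat_lit 165), [nat_lit 0, nat_lit 3, nat_lit 2, nat_lit 0, nat_lit 3, nat_lit 2])) (.leaf ((nat_lit 82), [nat_lit 2, nat_lit 1, nat_lit 3, nat_lit 2, nat_lit 1])))))
 (.node (nat_lit 626) (.node (nat_lit 624) (.node (nat_lit 623) (.leaf ((nat_lit 82), [nat_lit 1, nat_lit 1, nat_lit 3, nat_lit 1, nat_lit 1])) (.leaf ((nat_lit 33), [nat_lit 3, nat_lit 2, nat_lit 1, nat_lit 3, nat_lit 2, nat_lit 0]))) (.node (nat_lit 625) (.leaf ((nat_lit 34), [nat_lit 2, nat_lit 3, nat_lit 2, nat_lit 1])) (.leaf ((nat_lit 91), [nat_lit 3, nat_lit 2, nat_lit 0, nat_lit 3, nat_lit 0]))))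
 (.node (nat_lit 628) (.node (nat_lit 627) (.leaf ((nat_lit 149), [nat_lit 1])) (.leaf ((nat_lit 156), [nat_lit 3, nat_lit 2, nat_lit 1]))) (.node (nat_lit 629) (.leaf ((nat_lit 96), [nat_lit 3, nat_lit 2, nat_lit 3])) (.leaf ((nat_lit 138), [nat_lit 2, nat_lit 3, nat_lit 1, nat_lit 1])))))))))
 (.node (nat_lit 693) (.node (nat_lit 661) (.node (nat_lit 645) (.node (nat_lit 637) (.node (nat_lit 633) (.node (nat_lit 631) (.leaf ((nat_lit 91), [nat_lit 0, nat_lit 3, nat_lit 0])) (.node (nat_lit 632) (.leaf ((nat_lit 34), [nat_lit 0])) (.leaf ((nat_lit 35), [nat_lit 3, nat_lit 2, nat_lit 0, nat_lit 3, nat_lit 0]))))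
 (.node (nat_lit 635) (.node (nat_lit 634) (.leaf ((nat_lit 147), [nat_lit 3, nat_lit 2, nat_lit 1, nat_lit 1])) (.leaf ((nat_lit 163), [nat_lit 2, nat_lit 1, nat_lit 3, nat_lit 2, nat_lit 1]))) (.node (nat_lit 636) (.leaf ((nat_lit 166), [nat_lit 0, nat_lit 3, nat_lit 2, nat_lit 0, nat_lit 3, nat_lit 2])) (.leaf ((nat_lit 149), [nat_lit 2, nat_lit 1, nat_lit 1, nat_lit 3, nat_lit 1, nat_lit 1])))))
 (.node (nat_lit 641) (.node (nat_lit 639) (.node (nat_lit 638) (.leaf ((nat_lit 35), [nat_lit 0, nat_lit 3, nat_lit 2, nat_lit 0, nat_lit 3, nat_lit 0])) (.leaf ((nat_lit 34), [nat_lit 2, nat_lit 1, nat_lit 3, nat_lit 1]))) (.node (nat_lit 640) (.leaf ((nat_lit 48), [nat_lit 3, nat_lit 2, nat_lit 0, nat_lit 3, nat_lit 2, nat_lit 1])) (.leaf ((nat_lit 48), [nat_lit 0, nat_lit 3, nat_lit 2, nat_lit 0]))))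
 (.node (nat_lit 643) (.node (nat_lit 642) (.leaf ((nat_lit 161), [nat_lit 0, nat_lit 3, nat_lit 2, nat_lit 0])) (.leaf ((nat_lit 67), [nat_lit 2, nat_lit 3, nat_lit 2, nat_lit 1]))) (.node (nat_lit 644) (.leaf ((nat_lit 65), [nat_lit 2, nat_lit 3, nat_lit 2, nat_lit 0])) (.leaf ((nat_lit 64), [nat_lit 1, nat_lit 3, nat_lit 2, nat_lit 1, nat_lit 3, nat_lit 1, nat_lit 1]))))))
 (.node (nat_lit 653) (.node (nat_lit 649) (.node (nat_lit 647) (.node (nat_lit 646) (.leaf ((nat_lit 158), [nat_lit 3, nat_lit 2, nat_lit 1, nat_lit 3, nat_lit 2, nat_lit 0])) (.leaf ((nat_lit 160), []))) (.node (nat_lit 648) (.leaf ((nat_lit 34), [nat_lit 3, nat_lit 2, nat_lit 1, nat_lit 3, nat_lit 2, nat_lit 0])) (.leaf ((nat_lit 35), [nat_lit 2, nat_lit 1, nat_lit 1, nat_lit 3, nat_lit 2, nat_lit 0]))))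
 (.node (nat_lit 651) (.node (nat_lit 650) (.leaf ((nat_lit 149), [nat_lit 0, nat_lit 3, nat_lit 2, nat_lit 0, nat_lit 3, nat_lit 2, nat_lit 1, nat_lit 1])) (.leaf ((nat_lit 91), [nat_lit 1, nat_lit 1, nat_lit 3, nat_lit 1]))) (.node (nat_lit 652) (.leaf ((nat_lit 135), [nat_lit 2, nat_lit 1, nat_lit 3])) (.leaf ((nat_lit 133), [nat_lit 1, nat_lit 3, nat_lit 2, nat_lit 1])))))
 (.node (nat_lit 657) (.node (nat_lit 655) (.node (nat_lit 654) (.leaf ((nat_lit 128), [nat_lit 2, nat_lit 1, nat_lit 3, nat_lit 2, nat_lit 1])) (.leaf ((nat_lit 36), [nat_lit 1, nat_lit 3, nat_lit 2, nat_lit 3, nat_lit 0]))) (.node (nat_lit 656) (.leaf ((nat_lit 80), [nat_lit 2, nat_lit 1, nat_lit 3])) (.leaf ((nat_lit 45), [nat_lit 1, nat_lit 1]))))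
 (.node (nat_lit 659) (.node (nat_lit 658) (.leaf ((nat_lit 132), [nat_lit 2, nat_lit 1, nat_lit 3])) (.leaf ((nat_lit 131), [nat_lit 1, nat_lit 1, nat_lit 3]))) (.node (nat_lit 660) (.leaf ((nat_lit 110), [nat_lit 1, nat_lit 3, nat_lit 2, nat_lit 3, nat_lit 2, nat_lit 0])) (.leaf ((nat_lit 45), [nat_lit 2, nat_lit 1, nat_lit 1, nat_lit 3, nat_lit 1])))))))
 (.node (nat_lit 677) (.node (nat_lit 669) (.node (nat_lit 665) (.node (nat_lit 663) (.node (nat_lit 662) (.leaf ((nat_lit 159), [nat_lit 3, nat_lit 2, nat_lit 0])) (.leaf ((nat_lit 36), [nat_lit 2, nat_lit 3, nat_lit 2, nat_lit 1]))) (.node (nat_lit 664) (.leaf ((nat_lit 123), [nat_lit 3, nat_lit 2, nat_lit 1, nat_lit 3])) (.leaf ((nat_lit 40), [nat_lit 3, nat_lit 2, nat_lit 1, nat_lit 1]))))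
 (.node (nat_lit 667) (.node (nat_lit 666) (.leaf ((nat_lit 109), [nat_lit 0, nat_lit 3, nat_lit 2, nat_lit 0, nat_lit 3, nat_lit 1, nat_lit 1])) (.leaf ((nat_lit 37), [nat_lit 0, nat_lit 3, nat_lit 2, nat_lit 0, nat_lit 3, nat_lit 2, nat_lit 1, nat_lit 1]))) (.node (nat_lit 668) (.leaf ((nat_lit 97), [nat_lit 1, nat_lit 3, nat_lit 2, nat_lit 3, nat_lit 1, nat_lit 1])) (.leaf ((nat_lit 137), [nat_lit 1, nat_lit 3, nat_lit 2, nat_lit 3])))))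
 (.node (nat_lit 673) (.node (nat_lit 671) (.node (nat_lit 670) (.leaf ((nat_lit 101), [nat_lit 2, nat_lit 1, nat_lit 1, nat_lit 3])) (.leaf ((nat_lit 127), [nat_lit 1, nat_lit 3, nat_lit 2, nat_lit 3, nat_lit 1]))) (.node (nat_lit 672) (.leaf ((nat_lit 111), [nat_lit 1, nat_lit 3, nat_lit 0])) (.leaf ((nat_lit 97), [nat_lit 3, nat_lit 2, nat_lit 1]))))
 (.node (nat_lit 675) (.node (nat_lit 674) (.leaf ((nat_lit 37), [nat_lit 2, nat_lit 1, nat_lit 1, nat_lit 3, nat_lit 1, nat_lit 1])) (.leaf ((nat_lit 100), [nat_lit 2, nat_lit 1, nat_lit 3, nat_lit 2, nat_lit 1, nat_lit 1]))) (.node (nat_lit 676) (.leaf ((nat_lit 161), [nat_lit 3, nat_lit 2, nat_lit 3])) (.leaf ((nat_lit 165), [nat_lit 2, nat_lit 1, nat_lit 1, nat_lit 3, nat_lit 2, nat_lit 1]))))))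
 (.node (nat_lit 685) (.node (nat_lit 681) (.node (nat_lit 679) (.node (nat_lit 678) (.leaf ((nat_lit 132), [nat_lit 0, nat_lit 3])) (.leaf ((nat_lit 137), [nat_lit 3, nat_lit 2, nat_lit 3, nat_lit 2, nat_lit 1, nat_lit 1]))) (.node (nat_lit 680) (.leaf ((nat_lit 100), [nat_lit 0, nat_lit 3, nat_lit 2, nat_lit 0, nat_lit 3, nat_lit 1, nat_lit 1])) (.leaf ((nat_lit 37), [nat_lit 1, nat_lit 3, nat_lit 2, nat_lit 3, nat_lit 2, nat_lit 1, nat_lit 1]))))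
 (.node (nat_lit 683) (.node (nat_lit 682) (.leaf ((nat_lit 164), [])) (.leaf ((nat_lit 146), [nat_lit 1, nat_lit 1, nat_lit 3, nat_lit 2, nat_lit 1]))) (.node (nat_lit 684) (.leaf ((nat_lit 58), [nat_lit 2, nat_lit 0, nat_lit 3, nat_lit 1])) (.leaf ((nat_lit 162), [nat_lit 2, nat_lit 0, nat_lit 3])))))
 (.node (nat_lit 689) (.node (nat_lit 687) (.node (nat_lit 686) (.leaf ((nat_lit 102), [nat_lit 3, nat_lit 2, nat_lit 3, nat_lit 0])) (.leaf ((nat_lit 101), [nat_lit 1, nat_lit 3, nat_lit 2, nat_lit 1, nat_lit 3, nat_lit 1, nat_lit 1]))) (.node (nat_lit 688) (.leaf ((nat_lit 37), [nat_lit 2, nat_lit 3, nat_lit 2])) (.leaf ((nat_lit 155), [nat_lit 3, nat_lit 2, nat_lit 3, nat_lit 1]))))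
 (.node (nat_lit 691) (.node (nat_lit 690) (.leaf ((nat_lit 154), [nat_lit 3, nat_lit 2, nat_lit 0, nat_lit 3, nat_lit 2, nat_lit 1, nat_lit 1])) (.leaf ((nat_lit 40), [nat_lit 3, nat_lit 2, nat_lit 1, nat_lit 3, nat_lit 1]))) (.node (nat_lit 692) (.leaf ((nat_lit 165), [nat_lit 2, nat_lit 0, nat_lit 3, nat_lit 2, nat_lit 1, nat_lit 1])) (.leaf ((nat_lit 38), [nat_lit 1, nat_lit 3, nat_lit 2, nat_lit 3, nat_lit 2, nat_lit 1]))))))))
 (.node (nat_lit 724) (.node (nat_lit 708) (.node (nat_lit 700) (.node (nat_lit 696) (.node (nat_lit 694) (.leaf ((nat_lit 153), [nat_lit 3, nat_lit 2, nat_lit 1])) (.node (nat_lit 695) (.leaf ((nat_lit 126), [nat_lit 0, nat_lit 3, nat_lit 2, nat_lit 0, nat_lit 3, nat_lit 0])) (.leaf ((nat_lit 119), [nat_lit 2, nat_lit 1, nat_lit 3, nat_lit 1, nat_lit 1]))))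
 (.node (nat_lit 698) (.node (nat_lit 697) (.leaf ((nat_lit 75), [nat_lit 3, nat_lit 2, nat_lit 0, nat_lit 3, nat_lit 1, nat_lit 1])) (.leaf ((nat_lit 167), [nat_lit 0, nat_lit 3]))) (.node (nat_lit 699) (.leaf ((nat_lit 73), [nat_lit 2, nat_lit 0, nat_lit 3])) (.leaf ((nat_lit 42), [nat_lit 3, nat_lit 2, nat_lit 3, nat_lit 2, nat_lit 1])))))
 (.node (nat_lit 704) (.node (nat_lit 702) (.node (nat_lit 701) (.leaf ((nat_lit 65), [nat_lit 0, nat_lit 3])) (.leaf ((nat_lit 38), [nat_lit 3, nat_lit 1]))) (.node (nat_lit 703) (.leaf ((nat_lit 165), [nat_lit 3, nat_lit 2, nat_lit 1, nat_lit 3, nat_lit 0])) (.leaf ((nat_lit 40), [nat_lit 2, nat_lit 1, nat_lit 3]))))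
 (.node (nat_lit 706) (.node (nat_lit 705) (.leaf ((nat_lit 39), [nat_lit 3, nat_lit 2, nat_lit 0, nat_lit 3, nat_lit 2])) (.leaf ((nat_lit 90), [nat_lit 1, nat_lit 3, nat_lit 2, nat_lit 3, nat_lit 2, nat_lit 0]))) (.node (nat_lit 707) (.leaf ((nat_lit 99), [nat_lit 3, nat_lit 2, nat_lit 3])) (.leaf ((nat_lit 167), [nat_lit 0, nat_lit 3, nat_lit 2, nat_lit 0]))))))
 (.node (nat_lit 716) (.node (nat_lit 712) (.node (nat_lit 710) (.node (nat_lit 709) (.leaf ((nat_lit 163), [nat_lit 3, nat_lit 2, nat_lit 0, nat_lit 3, nat_lit 1, nat_lit 1])) (.leaf ((nat_lit 157), [nat_lit 2, nat_lit 3, nat_lit 2, nat_lit 1]))) (.node (nat_lit 711) (.leaf ((nat_lit 69), [nat_lit 2, nat_lit 0, nat_lit 3, nat_lit 0])) (.leaf ((nat_lit 151), [nat_lit 3, nat_lit 2, nat_lit 3, nat_lit 2, nat_lit 1]))))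
 (.node (nat_lit 714) (.node (nat_lit 713) (.leaf ((nat_lit 53), [nat_lit 3, nat_lit 2, nat_lit 3, nat_lit 1])) (.leaf ((nat_lit 39), [nat_lit 1, nat_lit 1, nat_lit 3, nat_lit 2]))) (.node (nat_lit 715) (.leaf ((nat_lit 68), [nat_lit 1, nat_lit 3, nat_lit 2])) (.leaf ((nat_lit 41), [nat_lit 2, nat_lit 3, nat_lit 2, nat_lit 1])))))
 (.node (nat_lit 720) (.node (nat_lit 718) (.node (nat_lit 717) (.leaf ((nat_lit 147), [nat_lit 1, nat_lit 3, nat_lit 1, nat_lit 1])) (.leaf ((nat_lit 40), [nat_lit 2, nat_lit 1, nat_lit 1, nat_lit 3, nat_lit 2, nat_lit 1, nat_lit 1]))) (.node (nat_lit 719) (.leaf ((nat_lit 123), [nat_lit 3, nat_lit 2, nat_lit 1])) (.leaf ((nat_lit 115), [nat_lit 1, nat_lit 1, nat_lit 3, nat_lit 2, nat_lit 1]))))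
 (.node (nat_lit 722) (.node (nat_lit 721) (.leaf ((nat_lit 41), [nat_lit 1])) (.leaf ((nat_lit 68), [nat_lit 0, nat_lit 3, nat_lit 2]))) (.node (nat_lit 723) (.leaf ((nat_lit 87), [nat_lit 1, nat_lit 3, nat_lit 1, nat_lit 1])) (.leaf ((nat_lit 56), [nat_lit 3, nat_lit 2, nat_lit 1, nat_lit 1])))))))
 (.node (nat_lit 740) (.node (nat_lit 732) (.node (nat_lit 728) (.node (nat_lit 726) (.node (nat_lit 725) (.leaf ((nat_lit 130), [nat_lit 3, nat_lit 2])) (.leaf ((nat_lit 163), [nat_lit 2, nat_lit 1, nat_lit 3, nat_lit 0]))) (.node (nat_lit 727) (.leaf ((nat_lit 129), [nat_lit 3, nat_lit 2, nat_lit 3, nat_lit 2, nat_lit 1, nat_lit 1])) (.leaf ((nat_lit 128), [nat_lit 3, nat_lit 2, nat_lit 1, nat_lit 1]))))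
 (.node (nat_lit 730) (.node (nat_lit 729) (.leaf ((nat_lit 153), [nat_lit 2, nat_lit 3, nat_lit 2, nat_lit 1])) (.leaf ((nat_lit 91), [nat_lit 1, nat_lit 3, nat_lit 2, nat_lit 3, nat_lit 2]))) (.node (nat_lit 731) (.leaf ((nat_lit 41), [])) (.leaf ((nat_lit 52), [nat_lit 1, nat_lit 3, nat_lit 2, nat_lit 3, nat_lit 0])))))
 (.node (nat_lit 736) (.node (nat_lit 734) (.node (nat_lit 733) (.leaf ((nat_lit 43), [nat_lit 3, nat_lit 2, nat_lit 1, nat_lit 3])) (.leaf ((nat_lit 42), [nat_lit 3, nat_lit 2, nat_lit 0]))) (.node (nat_lit 735) (.leaf ((nat_lit 166), [nat_lit 2, nat_lit 3])) (.leaf ((nat_lit 52), []))))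
 (.node (nat_lit 738) (.node (nat_lit 737) (.leaf ((nat_lit 68), [nat_lit 1, nat_lit 3, nat_lit 2, nat_lit 1, nat_lit 3, nat_lit 2])) (.leaf ((nat_lit 122), [nat_lit 2, nat_lit 1, nat_lit 3, nat_lit 2, nat_lit 1]))) (.node (nat_lit 739) (.leaf ((nat_lit 44), [nat_lit 1, nat_lit 1, nat_lit 3, nat_lit 2, nat_lit 0])) (.leaf ((nat_lit 166), [nat_lit 1, nat_lit 3, nat_lit 2, nat_lit 1, nat_lit 3]))))))
 (.node (nat_lit 748) (.node (nat_lit 744) (.node (nat_lit 742) (.node (nat_lit 741) (.leaf ((nat_lit 42), [nat_lit 2, nat_lit 3, nat_lit 2, nat_lit 0])) (.leaf ((nat_lit 110), [nat_lit 3, nat_lit 2, nat_lit 1, nat_lit 3]))) (.node (nat_lit 743) (.leaf ((nat_lit 119), [nat_lit 2, nat_lit 1, nat_lit 3])) (.leaf ((nat_lit 50), [nat_lit 2, nat_lit 1, nat_lit 3]))))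
 (.node (nat_lit 746) (.node (nat_lit 745) (.leaf ((nat_lit 166), [nat_lit 3, nat_lit 2, nat_lit 1])) (.leaf ((nat_lit 44), [nat_lit 1, nat_lit 3, nat_lit 2, nat_lit 1, nat_lit 3, nat_lit 2]))) (.node (nat_lit 747) (.leaf ((nat_lit 43), [nat_lit 0, nat_lit 3, nat_lit 2, nat_lit 0])) (.leaf ((nat_lit 126), [nat_lit 1, nat_lit 3, nat_lit 0])))))
 (.node (nat_lit 752) (.node (nat_lit 750) (.node (nat_lit 749) (.leaf ((nat_lit 153), [nat_lit 2, nat_lit 0, nat_lit 3, nat_lit 1])) (.leaf ((nat_lit 129), [nat_lit 3, nat_lit 2, nat_lit 0, nat_lit 3, nat_lit 2, nat_lit 1]))) (.node (nat_lit 751) (.leaf ((nat_lit 49), [nat_lit 1, nat_lit 3, nat_lit 2, nat_lit 1, nat_lit 3, nat_lit 1])) (.leaf ((nat_lit 57), [nat_lit 3, nat_lit 2, nat_lit 0, nat_lit 3, nat_lit 2]))))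
 (.node (nat_lit 754) (.node (nat_lit 753) (.leaf ((nat_lit 142), [nat_lit 2, nat_lit 1, nat_lit 3, nat_lit 0])) (.leaf ((nat_lit 70), [nat_lit 3, nat_lit 2, nat_lit 3, nat_lit 1]))) (.node (nat_lit 755) (.leaf ((nat_lit 69), [nat_lit 1, nat_lit 3, nat_lit 2, nat_lit 3, nat_lit 2, nat_lit 0])) (.leaf ((nat_lit 43), [nat_lit 3, nat_lit 2, nat_lit 0, nat_lit 3, nat_lit 1, nat_lit 1]))))))))))
noncomputable def n4Wd_3 : Tr (ℕ × List ℕ) := (.node (nat_lit 882) (.node (nat_lit 819) (.node (nat_lit 787) (.node (nat_lit 771) (.node (nat_lit 763) (.node (nat_lit 759) (.node (nat_lit 757) (.leaf ((nat_lit 63), [nat_lit 1, nat_lit 3, nat_lit 2, nat_lit 3, nat_lit 2, nat_lit 1, nat_lit 1])) (.node (nat_lit 758) (.leaf ((nat_lit 79), [nat_lit 1, nat_lit 3, nat_lit 2, nat_lit 3, nat_lit 2, nat_lit 1, nat_lit 1])) (.leaf ((nat_lit 78), [nat_lit 1, nat_lit 3, nat_lit 2, nat_lit 3, nat_lit 2,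 nat_lit 1]))))
 (.node (nat_lit 761) (.node (nat_lit 760) (.leaf ((nat_lit 124), [nat_lit 1, nat_lit 3, nat_lit 0])) (.leaf ((nat_lit 115), [nat_lit 3, nat_lit 2, nat_lit 3, nat_lit 2, nat_lit 0]))) (.node (nat_lit 762) (.leaf ((nat_lit 44), [nat_lit 3, nat_lit 2, nat_lit 0, nat_lit 3, nat_lit 2])) (.leaf ((nat_lit 159), [nat_lit 1, nat_lit 3, nat_lit 2, nat_lit 1, nat_lit 1])))))
 (.node (nat_lit 767) (.node (nat_lit 765) (.node (nat_lit 764) (.leaf ((nat_lit 45), [nat_lit 3, nat_lit 2, nat_lit 0, nat_lit 3, nat_lit 2, nat_lit 1, nat_lit 1])) (.leaf ((nat_lit 80), [nat_lit 3, nat_lit 2, nat_lit 0, nat_lit 3, nat_lit 2, nat_lit 0]))) (.node (nat_lit 766) (.leaf ((nat_lit 148), [nat_lit 1, nat_lit 3, nat_lit 0])) (.leaf ((nat_lit 111), [nat_lit 3, nat_lit 2, nat_lit 0, nat_lit 3, nat_lit 2, nat_lit 1]))))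
 (.node (nat_lit 769) (.node (nat_lit 768) (.leaf ((nat_lit 85), [nat_lit 3, nat_lit 2, nat_lit 0, nat_lit 3, nat_lit 2, nat_lit 1])) (.leaf ((nat_lit 46), [nat_lit 2, nat_lit 0]))) (.node (nat_lit 770) (.leaf ((nat_lit 121), [nat_lit 2, nat_lit 1, nat_lit 1, nat_lit 3])) (.leaf ((nat_lit 139), [nat_lit 1, nat_lit 3, nat_lit 2, nat_lit 1, nat_lit 3, nat_lit 0]))))))
 (.node (nat_lit 779) (.node (nat_lit 775) (.node (nat_lit 773) (.node (nat_lit 772) (.leaf ((nat_lit 83), [nat_lit 3, nat_lit 2, nat_lit 1, nat_lit 3, nat_lit 1, nat_lit 1])) (.leaf ((nat_lit 166), [nat_lit 2, nat_lit 1, nat_lit 3, nat_lit 2, nat_lit 1]))) (.node (nat_lit 774) (.leaf ((nat_lit 108), [nat_lit 2, nat_lit 1, nat_lit 3, nat_lit 2, nat_lit 1])) (.leaf ((nat_lit 121), [nat_lit 3, nat_lit 2, nat_lit 0, nat_lit 3, nat_lit 0]))))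
 (.node (nat_lit 777) (.node (nat_lit 776) (.leaf ((nat_lit 46), [nat_lit 1, nat_lit 3])) (.leaf ((nat_lit 71), [nat_lit 1, nat_lit 1, nat_lit 3]))) (.node (nat_lit 778) (.leaf ((nat_lit 163), [nat_lit 2, nat_lit 1, nat_lit 1, nat_lit 3, nat_lit 2, nat_lit 1, nat_lit 1])) (.leaf ((nat_lit 147), [nat_lit 1, nat_lit 1, nat_lit 3, nat_lit 2])))))
 (.node (nat_lit 783) (.node (nat_lit 781) (.node (nat_lit 780) (.leaf ((nat_lit 124), [nat_lit 1, nat_lit 3, nat_lit 2, nat_lit 3, nat_lit 1])) (.leaf ((nat_lit 139), [nat_lit 2, nat_lit 1, nat_lit 1, nat_lit 3, nat_lit 1, nat_lit 1]))) (.node (nat_lit 782) (.leaf ((nat_lit 71), [nat_lit 1, nat_lit 3, nat_lit 2, nat_lit 3])) (.leaf ((nat_lit 46), [nat_lit 3, nat_lit 2, nat_lit 3]))))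
 (.node (nat_lit 785) (.node (nat_lit 784) (.leaf ((nat_lit 89), [nat_lit 3, nat_lit 2, nat_lit 3])) (.leaf ((nat_lit 120), [nat_lit 2, nat_lit 3]))) (.node (nat_lit 786) (.leaf ((nat_lit 133), [nat_lit 3, nat_lit 2, nat_lit 0, nat_lit 3, nat_lit 1])) (.leaf ((nat_lit 141), [nat_lit 1, nat_lit 3, nat_lit 2, nat_lit 1, nat_lit 3, nat_lit 1, nat_lit 1])))))))
 (.node (nat_lit 803) (.node (nat_lit 795) (.node (nat_lit 791) (.node (nat_lit 789) (.node (nat_lit 788) (.leaf ((nat_lit 150), [nat_lit 3, nat_lit 1, nat_lit 1])) (.leaf ((nat_lit 59), [nat_lit 3, nat_lit 2, nat_lit 1, nat_lit 3, nat_lit 2, nat_lit 1]))) (.node (nat_lit 790) (.leaf ((nat_lit 47), [nat_lit 3, nat_lit 2, nat_lit 1, nat_lit 1])) (.leaf ((nat_lit 109), [nat_lit 3, nat_lit 1, nat_lit 1]))))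
 (.node (nat_lit 793) (.node (nat_lit 792) (.leaf ((nat_lit 162), [nat_lit 3, nat_lit 1, nat_lit 1])) (.leaf ((nat_lit 145), [nat_lit 1, nat_lit 3, nat_lit 2]))) (.node (nat_lit 794) (.leaf ((nat_lit 142), [nat_lit 2, nat_lit 1, nat_lit 3, nat_lit 2, nat_lit 1, nat_lit 1])) (.leaf ((nat_lit 57), [nat_lit 3, nat_lit 2, nat_lit 0, nat_lit 3, nat_lit 1])))))
 (.node (nat_lit 799) (.node (nat_lit 797) (.node (nat_lit 796) (.leaf ((nat_lit 109), [nat_lit 3, nat_lit 2, nat_lit 1])) (.leaf ((nat_lit 47), [nat_lit 3, nat_lit 1]))) (.node (nat_lit 798) (.leaf ((nat_lit 112), [nat_lit 3, nat_lit 1])) (.leaf ((nat_lit 142), [nat_lit 3]))))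
 (.node (nat_lit 801) (.node (nat_lit 800) (.leaf ((nat_lit 145), [nat_lit 2, nat_lit 3, nat_lit 2, nat_lit 1, nat_lit 1])) (.leaf ((nat_lit 49), [nat_lit 2, nat_lit 1]))) (.node (nat_lit 802) (.leaf ((nat_lit 50), [nat_lit 3, nat_lit 2, nat_lit 1, nat_lit 1])) (.leaf ((nat_lit 108), [nat_lit 2, nat_lit 1, nat_lit 3, nat_lit 0]))))))
 (.node (nat_lit 811) (.node (nat_lit 807) (.node (nat_lit 805) (.node (nat_lit 804) (.leaf ((nat_lit 130), [nat_lit 0, nat_lit 3, nat_lit 2, nat_lit 0, nat_lit 3])) (.leaf ((nat_lit 52), [nat_lit 1, nat_lit 3, nat_lit 1, nat_lit 1]))) (.node (nat_lit 806) (.leaf ((nat_lit 146), [nat_lit 3, nat_lit 2, nat_lit 0, nat_lit 3, nat_lit 0])) (.leaf ((nat_lit 50), [nat_lit 2, nat_lit 1, nat_lit 1, nat_lit 3, nat_lit 2, nat_lit 0]))))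
 (.node (nat_lit 809) (.node (nat_lit 808) (.leaf ((nat_lit 166), [nat_lit 1, nat_lit 3, nat_lit 0])) (.leaf ((nat_lit 83), [nat_lit 3, nat_lit 2, nat_lit 3, nat_lit 2, nat_lit 0]))) (.node (nat_lit 810) (.leaf ((nat_lit 93), [nat_lit 2, nat_lit 0, nat_lit 3])) (.leaf ((nat_lit 150), [nat_lit 2, nat_lit 1, nat_lit 3, nat_lit 1, nat_lit 1])))))
 (.node (nat_lit 815) (.node (nat_lit 813) (.node (nat_lit 812) (.leaf ((nat_lit 141), [nat_lit 0])) (.leaf ((nat_lit 84), [nat_lit 1, nat_lit 3, nat_lit 2, nat_lit 1, nat_lit 3, nat_lit 2, nat_lit 1]))) (.node (nat_lit 814) (.leaf ((nat_lit 108), [nat_lit 3, nat_lit 2, nat_lit 1])) (.leaf ((nat_lit 50), [nat_lit 0, nat_lit 3, nat_lit 2, nat_lit 0, nat_lit 3, nat_lit 2, nat_lit 0]))))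
 (.node (nat_lit 817) (.node (nat_lit 816) (.leaf ((nat_lit 87), [nat_lit 2, nat_lit 1, nat_lit 3, nat_lit 2])) (.leaf ((nat_lit 146), [nat_lit 0, nat_lit 3, nat_lit 1]))) (.node (nat_lit 818) (.leaf ((nat_lit 52), [nat_lit 3, nat_lit 2, nat_lit 3, nat_lit 0])) (.leaf ((nat_lit 51), [nat_lit 1, nat_lit 1, nat_lit 3, nat_lit 0]))))))))
 (.node (nat_lit 850) (.node (nat_lit 834) (.node (nat_lit 826) (.node (nat_lit 822) (.node (nat_lit 820) (.leaf ((nat_lit 167), [nat_lit 3, nat_lit 2, nat_lit 1, nat_lit 1])) (.node (nat_lit 821) (.leaf ((nat_lit 162), [nat_lit 0, nat_lit 3, nat_lit 2, nat_lit 0, nat_lit 3, nat_lit 2, nat_lit 1, nat_lit 1])) (.leaf ((nat_lit 148), [nat_lit 2, nat_lit 1, nat_lit 3, nat_lit 2, nat_lit 0]))))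
 (.node (nat_lit 824) (.node (nat_lit 823) (.leaf ((nat_lit 113), [nat_lit 3, nat_lit 2, nat_lit 0, nat_lit 3, nat_lit 0])) (.leaf ((nat_lit 160), [nat_lit 1, nat_lit 3, nat_lit 2, nat_lit 1, nat_lit 1]))) (.node (nat_lit 825) (.leaf ((nat_lit 111), [nat_lit 3, nat_lit 2, nat_lit 3, nat_lit 0])) (.leaf ((nat_lit 162), [nat_lit 3, nat_lit 2, nat_lit 3])))))
 (.node (nat_lit 830) (.node (nat_lit 828) (.node (nat_lit 827) (.leaf ((nat_lit 167), [nat_lit 1, nat_lit 3, nat_lit 2, nat_lit 3, nat_lit 1])) (.leaf ((nat_lit 51), [nat_lit 1, nat_lit 1, nat_lit 3, nat_lit 2]))) (.node (nat_lit 829) (.leaf ((nat_lit 95), [nat_lit 3, nat_lit 1])) (.leaf ((nat_lit 53), [nat_lit 3, nat_lit 1]))))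
 (.node (nat_lit 832) (.node (nat_lit 831) (.leaf ((nat_lit 140), [nat_lit 2, nat_lit 1, nat_lit 1, nat_lit 3, nat_lit 2])) (.leaf ((nat_lit 165), [nat_lit 2, nat_lit 1, nat_lit 3]))) (.node (nat_lit 833) (.leaf ((nat_lit 161), [nat_lit 1, nat_lit 3, nat_lit 2, nat_lit 3, nat_lit 1])) (.leaf ((nat_lit 104), [nat_lit 1, nat_lit 1, nat_lit 3, nat_lit 2]))))))
 (.node (nat_lit 842) (.node (nat_lit 838) (.node (nat_lit 836) (.node (nat_lit 835) (.leaf ((nat_lit 130), [nat_lit 1, nat_lit 1, nat_lit 3, nat_lit 2, nat_lit 1, nat_lit 1])) (.leaf ((nat_lit 153), [nat_lit 0, nat_lit 3, nat_lit 2, nat_lit 1]))) (.node (nat_lit 837) (.leaf ((nat_lit 128), [nat_lit 1, nat_lit 3, nat_lit 2, nat_lit 1, nat_lit 3, nat_lit 0])) (.leaf ((nat_lit 53), [nat_lit 2, nat_lit 1, nat_lit 1]))))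
 (.node (nat_lit 840) (.node (nat_lit 839) (.leaf ((nat_lit 151), [nat_lit 2, nat_lit 3, nat_lit 1, nat_lit 1])) (.leaf ((nat_lit 70), [nat_lit 1, nat_lit 1, nat_lit 3, nat_lit 1, nat_lit 1]))) (.node (nat_lit 841) (.leaf ((nat_lit 55), [nat_lit 2, nat_lit 1, nat_lit 3, nat_lit 0])) (.leaf ((nat_lit 54), [nat_lit 0, nat_lit 3, nat_lit 2, nat_lit 1])))))
 (.node (nat_lit 846) (.node (nat_lit 844) (.node (nat_lit 843) (.leaf ((nat_lit 138), [nat_lit 2, nat_lit 3, nat_lit 2, nat_lit 1, nat_lit 1])) (.leaf ((nat_lit 149), [nat_lit 3, nat_lit 2]))) (.node (nat_lit 845) (.leaf ((nat_lit 86), [nat_lit 2, nat_lit 1, nat_lit 3])) (.leaf ((nat_lit 97), [nat_lit 3, nat_lit 1]))))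
 (.node (nat_lit 848) (.node (nat_lit 847) (.leaf ((nat_lit 131), [nat_lit 3, nat_lit 2, nat_lit 1, nat_lit 3, nat_lit 2, nat_lit 1])) (.leaf ((nat_lit 135), [nat_lit 1]))) (.node (nat_lit 849) (.leaf ((nat_lit 76), [nat_lit 2, nat_lit 3, nat_lit 2, nat_lit 1])) (.leaf ((nat_lit 54), [])))))))
 (.node (nat_lit 866) (.node (nat_lit 858) (.node (nat_lit 854) (.node (nat_lit 852) (.node (nat_lit 851) (.leaf ((nat_lit 78), [nat_lit 1, nat_lit 3, nat_lit 2, nat_lit 1, nat_lit 3, nat_lit 2])) (.leaf ((nat_lit 152), [nat_lit 1, nat_lit 1, nat_lit 3, nat_lit 1, nat_lit 1]))) (.node (nat_lit 853) (.leaf ((nat_lit 133), [nat_lit 3])) (.leaf ((nat_lit 132), [nat_lit 2, nat_lit 1, nat_lit 1, nat_lit 3, nat_lit 2, nat_lit 1]))))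
 (.node (nat_lit 856) (.node (nat_lit 855) (.leaf ((nat_lit 125), [nat_lit 1, nat_lit 3, nat_lit 2, nat_lit 1])) (.leaf ((nat_lit 78), [nat_lit 3]))) (.node (nat_lit 857) (.leaf ((nat_lit 54), [nat_lit 1, nat_lit 3, nat_lit 2, nat_lit 3, nat_lit 2, nat_lit 0])) (.leaf ((nat_lit 55), [nat_lit 1, nat_lit 3, nat_lit 2, nat_lit 1, nat_lit 3, nat_lit 2, nat_lit 1, nat_lit 1])))))
 (.node (nat_lit 862) (.node (nat_lit 860) (.node (nat_lit 859) (.leaf ((nat_lit 144), [nat_lit 2, nat_lit 0, nat_lit 3, nat_lit 1])) (.leaf ((nat_lit 69), [nat_lit 2, nat_lit 1, nat_lit 1, nat_lit 3, nat_lit 2, nat_lit 1]))) (.node (nat_lit 861) (.leaf ((nat_lit 157), [nat_lit 3, nat_lit 2, nat_lit 1, nat_lit 3, nat_lit 0])) (.leaf ((nat_lit 55), [nat_lit 3, nat_lit 2, nat_lit 0, nat_lit 3, nat_lit 1]))))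
 (.node (nat_lit 864) (.node (nat_lit 863) (.leaf ((nat_lit 55), [nat_lit 3, nat_lit 2, nat_lit 0, nat_lit 3, nat_lit 0])) (.leaf ((nat_lit 143), [nat_lit 2, nat_lit 0, nat_lit 3, nat_lit 2, nat_lit 0]))) (.node (nat_lit 865) (.leaf ((nat_lit 143), [nat_lit 0, nat_lit 3, nat_lit 2, nat_lit 0])) (.leaf ((nat_lit 152), [nat_lit 3, nat_lit 2, nat_lit 3, nat_lit 2, nat_lit 1, nat_lit 1]))))))
 (.node (nat_lit 874) (.node (nat_lit 870) (.node (nat_lit 868) (.node (nat_lit 867) (.leaf ((nat_lit 98), [nat_lit 2, nat_lit 1, nat_lit 1, nat_lit 3, nat_lit 1])) (.leaf ((nat_lit 86), [nat_lit 3, nat_lit 2, nat_lit 3, nat_lit 2, nat_lit 1]))) (.node (nat_lit 869) (.leaf ((nat_lit 149), [])) (.leaf ((nat_lit 59), [nat_lit 1, nat_lit 3, nat_lit 2, nat_lit 1, nat_lit 3, nat_lit 0]))))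
 (.node (nat_lit 872) (.node (nat_lit 871) (.leaf ((nat_lit 132), [nat_lit 2, nat_lit 3, nat_lit 0])) (.leaf ((nat_lit 133), [nat_lit 2, nat_lit 1, nat_lit 1, nat_lit 3, nat_lit 2]))) (.node (nat_lit 873) (.leaf ((nat_lit 60), [nat_lit 2, nat_lit 1, nat_lit 3, nat_lit 0])) (.leaf ((nat_lit 73), [nat_lit 3, nat_lit 2, nat_lit 3])))))
 (.node (nat_lit 878) (.node (nat_lit 876) (.node (nat_lit 875) (.leaf ((nat_lit 152), [nat_lit 3, nat_lit 1, nat_lit 1])) (.leaf ((nat_lit 78), [nat_lit 0, nat_lit 3, nat_lit 2, nat_lit 0, nat_lit 3, nat_lit 2]))) (.node (nat_lit 877) (.leaf ((nat_lit 136), [nat_lit 0, nat_lit 3, nat_lit 1])) (.leaf ((nat_lit 134), [nat_lit 3, nat_lit 2, nat_lit 3, nat_lit 2, nat_lit 1, nat_lit 1]))))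
 (.node (nat_lit 880) (.node (nat_lit 879) (.leaf ((nat_lit 81), [nat_lit 1, nat_lit 3, nat_lit 2, nat_lit 3, nat_lit 2])) (.leaf ((nat_lit 159), []))) (.node (nat_lit 881) (.leaf ((nat_lit 113), [nat_lit 2, nat_lit 1, nat_lit 3, nat_lit 1, nat_lit 1])) (.leaf ((nat_lit 61), [nat_lit 3, nat_lit 2, nat_lit 1, nat_lit 1])))))))))
 (.node (nat_lit 945) (.node (nat_lit 913) (.node (nat_lit 897) (.node (nat_lit 889) (.node (nat_lit 885) (.node (nat_lit 883) (.leaf ((nat_lit 151), [nat_lit 2, nat_lit 1, nat_lit 3, nat_lit 2])) (.node (nat_lit 884) (.leaf ((nat_lit 62), [nat_lit 0, nat_lit 3, nat_lit 0])) (.leaf ((nat_lit 119), [nat_lit 1, nat_lit 1, nat_lit 3, nat_lit 0]))))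
 (.node (nat_lit 887) (.node (nat_lit 886) (.leaf ((nat_lit 105), [nat_lit 2, nat_lit 1, nat_lit 1, nat_lit 3])) (.leaf ((nat_lit 129), [nat_lit 2, nat_lit 3, nat_lit 1, nat_lit 1]))) (.node (nat_lit 888) (.leaf ((nat_lit 147), [nat_lit 3, nat_lit 2, nat_lit 3])) (.leaf ((nat_lit 79), [nat_lit 3, nat_lit 1])))))
 (.node (nat_lit 893) (.node (nat_lit 891) (.node (nat_lit 890) (.leaf ((nat_lit 63), [nat_lit 3, nat_lit 1])) (.leaf ((nat_lit 77), [nat_lit 1, nat_lit 3, nat_lit 2, nat_lit 0]))) (.node (nat_lit 892) (.leaf ((nat_lit 127), [nat_lit 1, nat_lit 3, nat_lit 0])) (.leaf ((nat_lit 101), [nat_lit 2, nat_lit 1, nat_lit 3, nat_lit 2, nat_lit 1]))))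
 (.node (nat_lit 895) (.node (nat_lit 894) (.leaf ((nat_lit 136), [nat_lit 2, nat_lit 0, nat_lit 3, nat_lit 2, nat_lit 1])) (.leaf ((nat_lit 106), [nat_lit 1, nat_lit 1, nat_lit 3, nat_lit 2, nat_lit 1, nat_lit 1]))) (.node (nat_lit 896) (.leaf ((nat_lit 108), [nat_lit 3, nat_lit 2, nat_lit 3, nat_lit 1, nat_lit 1])) (.leaf ((nat_lit 104), [nat_lit 0]))))))
 (.node (nat_lit 905) (.node (nat_lit 901) (.node (nat_lit 899) (.node (nat_lit 898) (.leaf ((nat_lit 140), [nat_lit 2, nat_lit 3])) (.leaf ((nat_lit 144), []))) (.node (nat_lit 900) (.leaf ((nat_lit 63), [nat_lit 1, nat_lit 1, nat_lit 3, nat_lit 2])) (.leaf ((nat_lit 135), [nat_lit 1, nat_lit 1, nat_lit 3, nat_lit 2, nat_lit 1]))))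
 (.node (nat_lit 903) (.node (nat_lit 902) (.leaf ((nat_lit 131), [nat_lit 1, nat_lit 1, nat_lit 3])) (.leaf ((nat_lit 66), [nat_lit 1, nat_lit 3, nat_lit 2, nat_lit 1, nat_lit 3]))) (.node (nat_lit 904) (.leaf ((nat_lit 152), [nat_lit 0, nat_lit 3, nat_lit 2, nat_lit 0, nat_lit 3])) (.leaf ((nat_lit 73), [nat_lit 2, nat_lit 0, nat_lit 3, nat_lit 0])))))
 (.node (nat_lit 909) (.node (nat_lit 907) (.node (nat_lit 906) (.leaf ((nat_lit 74), [nat_lit 3, nat_lit 2, nat_lit 1, nat_lit 3, nat_lit 2, nat_lit 0])) (.leaf ((nat_lit 147), [nat_lit 2, nat_lit 3, nat_lit 2, nat_lit 1]))) (.node (nat_lit 908) (.leaf ((nat_lit 87), [nat_lit 2, nat_lit 0, nat_lit 3, nat_lit 2, nat_lit 1, nat_lit 1])) (.leaf ((nat_lit 68), [nat_lit 2, nat_lit 3, nat_lit 2, nat_lit 0]))))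
 (.node (nat_lit 911) (.node (nat_lit 910) (.leaf ((nat_lit 118), [nat_lit 3, nat_lit 2, nat_lit 3, nat_lit 2, nat_lit 1])) (.leaf ((nat_lit 139), [nat_lit 1, nat_lit 1, nat_lit 3, nat_lit 2]))) (.node (nat_lit 912) (.leaf ((nat_lit 66), [nat_lit 1, nat_lit 1, nat_lit 3, nat_lit 2])) (.leaf ((nat_lit 69), [nat_lit 2, nat_lit 1, nat_lit 3, nat_lit 2])))))))
 (.node (nat_lit 929) (.node (nat_lit 921) (.node (nat_lit 917) (.node (nat_lit 915) (.node (nat_lit 914) (.leaf ((nat_lit 144), [nat_lit 3, nat_lit 2, nat_lit 0, nat_lit 3, nat_lit 0])) (.leaf ((nat_lit 163), [nat_lit 3, nat_lit 1, nat_lit 1]))) (.node (nat_lit 916) (.leaf ((nat_lit 150), [nat_lit 3, nat_lit 2, nat_lit 0, nat_lit 3, nat_lit 1])) (.leaf ((nat_lit 145), [nat_lit 1, nat_lit 1, nat_lit 3]))))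
 (.node (nat_lit 919) (.node (nat_lit 918) (.leaf ((nat_lit 141), [nat_lit 1, nat_lit 1, nat_lit 3, nat_lit 1, nat_lit 1])) (.leaf ((nat_lit 71), [nat_lit 2, nat_lit 1, nat_lit 3, nat_lit 2, nat_lit 1, nat_lit 1]))) (.node (nat_lit 920) (.leaf ((nat_lit 139), [nat_lit 2, nat_lit 1, nat_lit 3, nat_lit 1])) (.leaf ((nat_lit 121), [nat_lit 2, nat_lit 1, nat_lit 3, nat_lit 2])))))
 (.node (nat_lit 925) (.node (nat_lit 923) (.node (nat_lit 922) (.leaf ((nat_lit 115), [nat_lit 2, nat_lit 1, nat_lit 3])) (.leaf ((nat_lit 124), [nat_lit 0, nat_lit 3, nat_lit 2, nat_lit 0]))) (.node (nat_lit 924) (.leaf ((nat_lit 153), [nat_lit 3, nat_lit 2, nat_lit 3])) (.leaf ((nat_lit 74), [nat_lit 3, nat_lit 2, nat_lit 3, nat_lit 2, nat_lit 1, nat_lit 1]))))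
 (.node (nat_lit 927) (.node (nat_lit 926) (.leaf ((nat_lit 73), [nat_lit 0, nat_lit 3, nat_lit 2, nat_lit 0])) (.leaf ((nat_lit 167), [nat_lit 2, nat_lit 0, nat_lit 3, nat_lit 2, nat_lit 0]))) (.node (nat_lit 928) (.leaf ((nat_lit 81), [nat_lit 1, nat_lit 1, nat_lit 3, nat_lit 2])) (.leaf ((nat_lit 80), [nat_lit 1, nat_lit 3, nat_lit 2, nat_lit 1, nat_lit 3, nat_lit 0]))))))
 (.node (nat_lit 937) (.node (nat_lit 933) (.node (nat_lit 931) (.node (nat_lit 930) (.leaf ((nat_lit 114), [nat_lit 3, nat_lit 2, nat_lit 3, nat_lit 1])) (.leaf ((nat_lit 167), [nat_lit 3, nat_lit 2, nat_lit 0, nat_lit 3, nat_lit 2]))) (.node (nat_lit 932) (.leaf ((nat_lit 75), [nat_lit 0, nat_lit 3, nat_lit 2, nat_lit 1, nat_lit 1])) (.leaf ((nat_lit 74), [nat_lit 1, nat_lit 3, nat_lit 2]))))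
 (.node (nat_lit 935) (.node (nat_lit 934) (.leaf ((nat_lit 79), [nat_lit 3, nat_lit 2, nat_lit 3, nat_lit 1])) (.leaf ((nat_lit 114), [nat_lit 3, nat_lit 2, nat_lit 0, nat_lit 3, nat_lit 2, nat_lit 1, nat_lit 1]))) (.node (nat_lit 936) (.leaf ((nat_lit 155), [nat_lit 1, nat_lit 3, nat_lit 2, nat_lit 1, nat_lit 3, nat_lit 2, nat_lit 0])) (.leaf ((nat_lit 85), [nat_lit 3, nat_lit 2, nat_lit 1, nat_lit 3, nat_lit 0])))))
 (.node (nat_lit 941) (.node (nat_lit 939) (.node (nat_lit 938) (.leaf ((nat_lit 83), [nat_lit 1, nat_lit 3, nat_lit 2, nat_lit 3, nat_lit 2, nat_lit 1, nat_lit 1])) (.leaf ((nat_lit 82), [nat_lit 2, nat_lit 1, nat_lit 3]))) (.node (nat_lit 940) (.leaf ((nat_lit 104), [nat_lit 2, nat_lit 1, nat_lit 3])) (.leaf ((nat_lit 100), [nat_lit 3, nat_lit 2, nat_lit 1, nat_lit 3, nat_lit 2, nat_lit 1, nat_lit 1]))))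
 (.node (nat_lit 943) (.node (nat_lit 942) (.leaf ((nat_lit 90), [nat_lit 0])) (.leaf ((nat_lit 98), [nat_lit 2, nat_lit 1, nat_lit 3, nat_lit 2]))) (.node (nat_lit 944) (.leaf ((nat_lit 118), [nat_lit 2, nat_lit 1, nat_lit 3, nat_lit 2])) (.leaf ((nat_lit 143), [nat_lit 1, nat_lit 3, nat_lit 2, nat_lit 1, nat_lit 3]))))))))
 (.node (nat_lit 976) (.node (nat_lit 960) (.node (nat_lit 952) (.node (nat_lit 948) (.node (nat_lit 946) (.leaf ((nat_lit 85), [nat_lit 1, nat_lit 3, nat_lit 2, nat_lit 3, nat_lit 1])) (.node (nat_lit 947) (.leaf ((nat_lit 93), [nat_lit 1, nat_lit 1, nat_lit 3, nat_lit 2, nat_lit 1])) (.leaf ((nat_lit 165), [nat_lit 2, nat_lit 1, nat_lit 1, nat_lit 3, nat_lit 2, nat_lit 1]))))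
 (.node (nat_lit 950) (.node (nat_lit 949) (.leaf ((nat_lit 90), [nat_lit 1, nat_lit 3, nat_lit 2, nat_lit 3, nat_lit 2])) (.leaf ((nat_lit 89), [nat_lit 2, nat_lit 3, nat_lit 0]))) (.node (nat_lit 951) (.leaf ((nat_lit 86), [nat_lit 2, nat_lit 1, nat_lit 3, nat_lit 1, nat_lit 1])) (.leaf ((nat_lit 107), [nat_lit 1, nat_lit 3, nat_lit 2, nat_lit 1, nat_lit 3, nat_lit 2])))))
 (.node (nat_lit 956) (.node (nat_lit 954) (.node (nat_lit 953) (.leaf ((nat_lit 92), [nat_lit 1, nat_lit 1, nat_lit 3, nat_lit 1, nat_lit 1])) (.leaf ((nat_lit 158), [nat_lit 1, nat_lit 3, nat_lit 2, nat_lit 1, nat_lit 3, nat_lit 0]))) (.node (nat_lit 955) (.leaf ((nat_lit 127), [nat_lit 2, nat_lit 1, nat_lit 1, nat_lit 3, nat_lit 0])) (.leaf ((nat_lit 110), [nat_lit 2, nat_lit 0, nat_lit 3]))))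
 (.node (nat_lit 958) (.node (nat_lit 957) (.leaf ((nat_lit 88), [nat_lit 1, nat_lit 3, nat_lit 2, nat_lit 1, nat_lit 3])) (.leaf ((nat_lit 146), []))) (.node (nat_lit 959) (.leaf ((nat_lit 164), [nat_lit 2, nat_lit 1, nat_lit 3, nat_lit 1, nat_lit 1])) (.leaf ((nat_lit 159), [nat_lit 0, nat_lit 3, nat_lit 2, nat_lit 0, nat_lit 3, nat_lit 1]))))))
 (.node (nat_lit 968) (.node (nat_lit 964) (.node (nat_lit 962) (.node (nat_lit 961) (.leaf ((nat_lit 100), [nat_lit 1, nat_lit 3, nat_lit 2, nat_lit 3, nat_lit 1, nat_lit 1])) (.leaf ((nat_lit 137), [nat_lit 2, nat_lit 1, nat_lit 1, nat_lit 3, nat_lit 0]))) (.node (nat_lit 963) (.leaf ((nat_lit 97), [nat_lit 2, nat_lit 1, nat_lit 1, nat_lit 3, nat_lit 2, nat_lit 0])) (.leaf ((nat_lit 92), [nat_lit 2, nat_lit 0, nat_lit 3, nat_lit 1]))))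
 (.node (nat_lit 966) (.node (nat_lit 965) (.leaf ((nat_lit 107), [])) (.leaf ((nat_lit 91), [nat_lit 0, nat_lit 3, nat_lit 2, nat_lit 0, nat_lit 3, nat_lit 2, nat_lit 1, nat_lit 1]))) (.node (nat_lit 967) (.leaf ((nat_lit 96), [nat_lit 2, nat_lit 1, nat_lit 3])) (.leaf ((nat_lit 93), [nat_lit 3, nat_lit 2, nat_lit 1, nat_lit 3, nat_lit 1])))))
 (.node (nat_lit 972) (.node (nat_lit 970) (.node (nat_lit 969) (.leaf ((nat_lit 92), [nat_lit 3, nat_lit 2, nat_lit 3])) (.leaf ((nat_lit 112), [nat_lit 3, nat_lit 2, nat_lit 3]))) (.node (nat_lit 971) (.leaf ((nat_lit 138), [nat_lit 3, nat_lit 2, nat_lit 0, nat_lit 3, nat_lit 2, nat_lit 1])) (.leaf ((nat_lit 106), [nat_lit 2, nat_lit 0, nat_lit 3, nat_lit 1]))))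
 (.node (nat_lit 974) (.node (nat_lit 973) (.leaf ((nat_lit 114), [nat_lit 3, nat_lit 2, nat_lit 0])) (.leaf ((nat_lit 94), [nat_lit 2, nat_lit 1, nat_lit 3, nat_lit 2]))) (.node (nat_lit 975) (.leaf ((nat_lit 164), [])) (.leaf ((nat_lit 137), [nat_lit 3, nat_lit 2, nat_lit 3])))))))
 (.node (nat_lit 992) (.node (nat_lit 984) (.node (nat_lit 980) (.node (nat_lit 978) (.node (nat_lit 977) (.leaf ((nat_lit 136), [nat_lit 3, nat_lit 2, nat_lit 3, nat_lit 1, nat_lit 1])) (.leaf ((nat_lit 131), [nat_lit 1, nat_lit 1, nat_lit 3]))) (.node (nat_lit 979) (.leaf ((nat_lit 118), [nat_lit 1, nat_lit 3, nat_lit 2, nat_lit 3, nat_lit 2, nat_lit 1, nat_lit 1])) (.leaf ((nat_lit 98), [nat_lit 1, nat_lit 3, nat_lit 2, nat_lit 3, nat_lit 2, nat_lit 1, nat_lit 1]))))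
 (.node (nat_lit 982) (.node (nat_lit 981) (.leaf ((nat_lit 152), [nat_lit 1, nat_lit 1, nat_lit 3])) (.leaf ((nat_lit 129), [nat_lit 2, nat_lit 1, nat_lit 1, nat_lit 3, nat_lit 2, nat_lit 1, nat_lit 1]))) (.node (nat_lit 983) (.leaf ((nat_lit 105), [nat_lit 2, nat_lit 1, nat_lit 3, nat_lit 2, nat_lit 1])) (.leaf ((nat_lit 120), [nat_lit 1, nat_lit 3, nat_lit 2, nat_lit 1])))))
 (.node (nat_lit 988) (.node (nat_lit 986) (.node (nat_lit 985) (.leaf ((nat_lit 101), [nat_lit 2, nat_lit 1, nat_lit 3, nat_lit 1, nat_lit 1])) (.leaf ((nat_lit 99), [nat_lit 1, nat_lit 3, nat_lit 2]))) (.node (nat_lit 987) (.leaf ((nat_lit 162), [])) (.leaf ((nat_lit 113), []))))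
 (.node (nat_lit 990) (.node (nat_lit 989) (.leaf ((nat_lit 159), [nat_lit 1, nat_lit 1, nat_lit 3, nat_lit 2, nat_lit 1])) (.leaf ((nat_lit 164), [nat_lit 3, nat_lit 2, nat_lit 3, nat_lit 2, nat_lit 1]))) (.node (nat_lit 991) (.leaf ((nat_lit 117), [nat_lit 1, nat_lit 3, nat_lit 2, nat_lit 1, nat_lit 3])) (.leaf ((nat_lit 115), [nat_lit 2, nat_lit 1, nat_lit 1, nat_lit 3, nat_lit 2, nat_lit 0]))))))
 (.node (nat_lit 1000) (.node (nat_lit 996) (.node (nat_lit 994) (.node (nat_lit 993) (.leaf ((nat_lit 103), [nat_lit 0, nat_lit 3, nat_lit 2, nat_lit 0, nat_lit 3, nat_lit 2])) (.leaf ((nat_lit 138), [nat_lit 3, nat_lit 2, nat_lit 1]))) (.node (nat_lit 995) (.leaf ((nat_lit 112), [nat_lit 2, nat_lit 1, nat_lit 3, nat_lit 2, nat_lit 1, nat_lit 1])) (.leaf ((nat_lit 157), [nat_lit 2, nat_lit 1, nat_lit 3, nat_lit 2, nat_lit 1, nat_lit 1]))))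
 (.node (nat_lit 998) (.node (nat_lit 997) (.leaf ((nat_lit 124), [nat_lit 2, nat_lit 1, nat_lit 3])) (.leaf ((nat_lit 123), [nat_lit 3, nat_lit 2, nat_lit 1, nat_lit 3, nat_lit 0]))) (.node (nat_lit 999) (.leaf ((nat_lit 122), [nat_lit 3, nat_lit 2])) (.leaf ((nat_lit 134), [nat_lit 1, nat_lit 3, nat_lit 0])))))
 (.node (nat_lit 1004) (.node (nat_lit 1002) (.node (nat_lit 1001) (.leaf ((nat_lit 128), [nat_lit 2, nat_lit 1, nat_lit 3, nat_lit 2, nat_lit 1])) (.leaf ((nat_lit 105), [nat_lit 0, nat_lit 3, nat_lit 2, nat_lit 0, nat_lit 3, nat_lit 2]))) (.node (nat_lit 1003) (.leaf ((nat_lit 155), [nat_lit 0, nat_lit 3, nat_lit 2, nat_lit 0, nat_lit 3, nat_lit 2, nat_lit 0])) (.leaf ((nat_lit 116), [nat_lit 3, nat_lit 1]))))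
 (.node (nat_lit 1006) (.node (nat_lit 1005) (.leaf ((nat_lit 154), [nat_lit 2, nat_lit 0, nat_lit 3, nat_lit 2, nat_lit 0])) (.leaf ((nat_lit 136), [nat_lit 2, nat_lit 1, nat_lit 1, nat_lit 3]))) (.node (nat_lit 1007) (.leaf ((nat_lit 137), [nat_lit 3, nat_lit 2, nat_lit 0, nat_lit 3, nat_lit 2, nat_lit 1])) (.leaf ((nat_lit 117), [nat_lit 2, nat_lit 0, nat_lit 3, nat_lit 1]))))))))))
noncomputable def n4Wd : Tr (ℕ × List ℕ) := (.node (nat_lit 504) (.node (nat_lit 252) n4Wd_0 n4Wd_1) (.node (nat_lit 756) n4Wd_2 n4Wd_3))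
theorem n4q : allR 0 168 (dblChk (nat_lit 4) (nat_lit 15) (MG.gl42L.map Lev.b) MG.gl42T n4T n4Dd (topN MG.gl42L) 168 12 n4PA n4Wd) = true := by decide +kernel
noncomputable def n4Ws : List (List ℕ) := [[]]
noncomputable def n4CE : Tr (ℕ × List ℕ × List (List ℕ)) := (.node (nat_lit 6) (.node (nat_lit 3) (.node (nat_lit 1) (.leaf ((nat_lit 0), [], [])) (.node (nat_lit 2) (.leaf ((nat_lit 1), [nat_lit 2, nat_lit 1, nat_lit 0, nat_lit 5, nat_lit 1, nat_lit 0], [[nat_lit 99, nat_lit 2, nat_lit 3, nat_lit 0]])) (.leaf ((nat_lit 1), [nat_lit 2, nat_lit 1, nat_lit 3, nat_lit 1], [[nat_lit 99, nat_lit 3, nat_lit 2]])))) (.node (nat_lit 4) (.leaf ((nat_lit 7), [nat_lit 0, nat_lit 5, nat_lit 4, nat_lit 3, nat_lit 2, nat_lit 0, nat_lit 3, nat_lit 1, nat_lit 0], [[nat_lit 99, nat_lit 3, nat_lit 2, nat_lit 0], [nat_lit 0, nat_lit 3, nat_lit 99]])) (.node (nat_lit 5) (.leaf ((nat_lit 1), [nat_lit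 0, nat_lit 5, nat_lit 4, nat_lit 2, nat_lit 1, nat_lit 3, nat_lit 0], [[nat_lit 99, nat_lit 3]])) (.leaf ((nat_lit 1), [nat_lit 4, nat_lit 5, nat_lit 2, nat_lit 4, nat_lit 2], [[nat_lit 99, nat_lit 2]])))))
 (.node (nat_lit 9) (.node (nat_lit 7) (.leaf ((nat_lit 1), [nat_lit 0, nat_lit 5, nat_lit 4, nat_lit 0, nat_lit 3, nat_lit 2], [[nat_lit 99, nat_lit 1]])) (.node (nat_lit 8) (.leaf ((nat_lit 1), [nat_lit 1, nat_lit 5, nat_lit 1, nat_lit 3, nat_lit 2, nat_lit 0], [[nat_lit 99, nat_lit 3, nat_lit 0]])) (.leaf ((nat_lit 1), [nat_lit 3, nat_lit 1, nat_lit 5, nat_lit 3, nat_lit 1], [[nat_lit 99, nat_lit 2, nat_lit 0, nat_lit 0]])))) (.node (nat_lit 10) (.leaf ((nat_lit 1), [nat_lit 2, nat_lit 1, nat_lit 5, nat_lit 4, nat_lit 0, nat_lit 3], [[nat_lit 99, nat_lit 2]])) (.node (nat_lit 11) (.leaf ((nat_lit 7), [nat_lit 1, nat_lit 0, nat_lit 5, nat_lit 4, nat_lit 2, nat_lit 1, nat_lit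 4, nat_lit 2, nat_lit 3], [[nat_lit 2, nat_lit 3], [nat_lit 99]])) (.leaf ((nat_lit 6), [nat_lit 5, nat_lit 4, nat_lit 5, nat_lit 0, nat_lit 3, nat_lit 2, nat_lit 1, nat_lit 0], [[nat_lit 3, nat_lit 0, nat_lit 0], [nat_lit 99, nat_lit 3]]))))))
theorem n4s : allR 0 12 (stepChk (nat_lit 4) (nat_lit 15) (MG.gl42L.map Lev.b) MG.gl42T n4T n4T n4T n4Dd AW [nat_lit 1, nat_lit 6, nat_lit 7] n4Ws n4CE) = true := by decide +kernel
noncomputable def n4iI : Tr (List ℕ) := (.node (nat_lit 2) (.node (nat_lit 1) (.leaf [nat_lit 1, nat_lit 3, nat_lit 2, nat_lit 1, nat_lit 3, nat_lit 0]) (.leaf [nat_lit 2, nat_lit 0])) (.node (nat_lit 3) (.leaf [nat_lit 1, nat_lit 3, nat_lit 2, nat_lit 1, nat_lit 3, nat_lit 2, nat_lit 0]) (.leaf [nat_lit 3, nat_lit 2, nat_lit 0, nat_lit 3])))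
theorem n4ih : Alt.s5R.all (fun w => eqB (n4L.map Lev.b) (apF (fun y => apL (nat_lit 4) (nat_lit 15) n4T (n4iI.get y)) w) fun a => a) = true := by decide +kernel
noncomputable def n4iD : Tr (List ℕ) := (.node (nat_lit 2) (.node (nat_lit 1) (.leaf [nat_lit 1, nat_lit 2, nat_lit 0]) (.leaf [nat_lit 2, nat_lit 0, nat_lit 1])) (.node (nat_lit 3) (.leaf [nat_lit 1, nat_lit 2, nat_lit 0, nat_lit 1]) (.leaf [nat_lit 1, nat_lit 2, nat_lit 3, nat_lit 1, nat_lit 2, nat_lit 1])))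
theorem n4is : band (surChk (nat_lit 4) (nat_lit 15) (n4L.map Lev.b) n4T n4iI (topN Alt.s5L) n4iD (topN n4L)) (Nat.ble (chainOrd 5 Alt.s5L) (chainOrd 15 n4L)) = true := by decide +kernel
theorem s4 {G : Type*} [Group G] [Finite G] {X : Type*} [MulAction G X] {pt : ℕ → X} (C : Ch G 15 (nat_lit 4) (nat_lit 15) pt MG.gl42T MG.gl42L) {H : Subgroup G} (h : PJ C.lets.e AW 4 H) :
    ∃ K : Subgroup G, Nonempty (H ≃* K) ∧ (Q K ∨ ∃ j ∈ [nat_lit 1, nat_lit 6, nat_lit 7], PJ C.lets.e AW j K) := by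
  obtain ⟨K, e, hK⟩ := h.conj
  refine ⟨K, e, ?_⟩
  obtain ⟨N, D, S⟩ := (C.gen (lets_words C.lets n4E n4w) n4chain n4sd n4tc)
  have le := C.le_AW D hK n4slp n4a
  have hD := lets_words C.lets n4dE n4dw
  refine (C.step D.lets D.lets D.lets hD le_normalizer le_rfl (C.dbl D.lets hD n4q (by decide +kernel)) (Ws := n4Ws) (fun u hu => ⟨[], List.mem_singleton_self _, u, hu, (one_mul u).symm⟩) (by decide +kernel) n4s le).imp_left fun h => ?_
  rw [le_antisymm h le]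
  exact .inr (.inr (.inl ((Alt.s5std.isoW D n4ih n4is).map MulEquiv.symm)))
noncomputable def n5t0 : ℕ := (nat_lit 0x3456a987bcde210)
noncomputable def n5t1 : ℕ := (nat_lit 0xdecb6534a978120)
noncomputable def n5t2 : ℕ := (nat_lit 0x8d2341e705abc96)
noncomputable def n5T : Tr ℕ := (.node (nat_lit 1) (.leaf n5t0) (.node (nat_lit 2) (.leaf n5t1) (.leaf n5t2)))
noncomputable def n5R : Tr (List ℕ) := (.node (nat_lit 3) (.node (nat_lit 1) (.leaf [nat_lit 0, nat_lit 0]) (.node (nat_lit 2) (.leaf [nat_lit 0, nat_lit 1, nat_lit 0, nat_lit 1, nat_lit 0, nat_lit 1, nat_lit 2, nat_lit 1, nat_lit 0, nat_lit 1, nat_lit 2]) (.leaf [nat_lit 1, nat_lit 1])))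
 (.node (nat_lit 5) (.node (nat_lit 4) (.leaf [nat_lit 2, nat_lit 0, nat_lit 1, nat_lit 0, nat_lit 2, nat_lit 0, nat_lit 1, nat_lit 0]) (.leaf [nat_lit 2, nat_lit 2])) (.node (nat_lit 6) (.leaf [nat_lit 2, nat_lit 1, nat_lit 2, nat_lit 1, nat_lit 2, nat_lit 1, nat_lit 2, nat_lit 1, nat_lit 2, nat_lit 1]) (.leaf [nat_lit 1, nat_lit 0, nat_lit 1, nat_lit 0, nat_lit 1, nat_lit 0, nat_lit 1, nat_lit 0, nat_lit 1, nat_lit 0, nat_lit 1, nat_lit 0]))))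
noncomputable def n5L0 : Lev := ⟨(nat_lit 0), (nat_lit 3), (nat_lit 0x10100010200020203000303000000), (nat_lit 0x40400020200040401000303000000),
 (.node (nat_lit 1) (.leaf (nat_lit 0x20000000400050001000000010001000000000000))
 (.node (nat_lit 2) (.leaf (nat_lit 0x300040000000200000000000000000001000000010001000000000000))
 (.leaf (nat_lit 0x600060000000100010000000700020000000000000000000000000001)))),
 (.node (nat_lit 1) (.leaf (nat_lit 0x108000000000104000104000001000000000001000001000000000000000000))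
 (.node (nat_lit 2) (.leaf (nat_lit 0x306000201000000000302000000000000000000000000000201000000000201000201000000000000000000))
 (.leaf (nat_lit 0x106000304000000000400000400000000000401000504000000000000000000000000000000000000000401))))⟩
noncomputable def n5L1 : Lev := ⟨(nat_lit 7), (nat_lit 2), (nat_lit 0x20100000000020000000201000000), (nat_lit 0x30200000000050000000104000000),
 (.node (nat_lit 1) (.leaf (nat_lit 0x100000000000000000000000200000000000000010000000000000000))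
 (.leaf (nat_lit 0x10000000000000000000000010000000000000001000000000000))),
 (.node (nat_lit 1) (.leaf (nat_lit 0x601000000000000000000000001000000000000000000000000))
 (.leaf (nat_lit 0x201000000000000000000000000000000000200000000000000000000000201000000000000000000)))⟩
noncomputable def n5L2 : Lev := ⟨(nat_lit 3), (nat_lit 1), (nat_lit 0x10000000000000000000000000000), (nat_lit 0x10000000000000000000000000000),
 (.leaf (nat_lit 0x1000000000000)),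
 (.leaf (nat_lit 0x1000000000000000000))⟩
noncomputable def n5L : List Lev := [n5L0, n5L1, n5L2]
noncomputable def n5E : Tr (List ℕ) := (.node (nat_lit 1) (.leaf [nat_lit 1, nat_lit 0, nat_lit 4, nat_lit 1, nat_lit 0]) (.node (nat_lit 2) (.leaf [nat_lit 0, nat_lit 5, nat_lit 2, nat_lit 4, nat_lit 0, nat_lit 3, nat_lit 2]) (.leaf [nat_lit 3, nat_lit 1, nat_lit 5, nat_lit 2, nat_lit 1, nat_lit 4, nat_lit 3, nat_lit 2, nat_lit 0, nat_lit 3, nat_lit 1])))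
theorem n5w_0 : n5T.all2 (fun c w => isProd 15 (nat_lit 4) (nat_lit 15) MG.gl42T c w) n5E = true := by decide +kernel
theorem n5w : n5T.all2 (fun c w => isProd 15 (nat_lit 4) (nat_lit 15) MG.gl42T c w) n5E = true := n5w_0
theorem n5lev0 : levChk 15 (nat_lit 4) (nat_lit 15) n5T n5R n5L0 n5L1.N = true := by decide +kernel
theorem n5lev1 : levChk 15 (nat_lit 4) (nat_lit 15) n5T n5R n5L1 n5L2.N = true := by decide +kernel
theorem n5lev2 : levChk 15 (nat_lit 4) (nat_lit 15) n5T n5R n5L2 0 = true := by decide +kernel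
theorem n5chain : Chain 15 (nat_lit 4) (nat_lit 15) n5T n5R n5L := chain_cons n5lev0 <| chain_cons n5lev1 <| chain_one n5lev2
theorem n5sd : band (selChk n5T n5T (topN n5L)) (n5R.all fun w => eqB (MG.gl42L.map Lev.b) (apL (nat_lit 4) (nat_lit 15) n5T w) fun a => a) = true := by decide +kernel
theorem n5tc : tchainChk 15 (nat_lit 4) (nat_lit 15) n5T n5L = true := by decide +kernel
noncomputable def n5s0 : ℕ := (nat_lit 0x482ed1730c6a95b)
noncomputable def n5s1 : ℕ := (nat_lit 0x82ad5b34c6e917)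
noncomputable def n5s2 : ℕ := (nat_lit 0xba5032d841e7c96)
noncomputable def n5s3 : ℕ := (nat_lit 0x3a58b2d04967c1e)
noncomputable def n5s4 : ℕ := (nat_lit 0x3456a987bcde210)
noncomputable def n5s5 : ℕ := (nat_lit 0x4356bceda978120)
noncomputable def n5s6 : ℕ := (nat_lit 0x879a6534bced120)
noncomputable def n5s7 : ℕ := (nat_lit 0xdecb6534a978120)
noncomputable def n5s8 : ℕ := (nat_lit 0x8d2341e705abc96)
noncomputable def n5S : Tr ℕ := (.node (nat_lit 4) (.node (nat_lit 2) (.node (nat_lit 1) (.leaf n5s0) (.leaf n5s1)) (.node (nat_lit 3) (.leaf n5s2) (.leaf n5s3)))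
 (.node (nat_lit 6) (.node (nat_lit 5) (.leaf n5s4) (.leaf n5s5)) (.node (nat_lit 7) (.leaf n5s6) (.node (nat_lit 8) (.leaf n5s7) (.leaf n5s8)))))
noncomputable def n5D : Tr (List ℕ) := (.node (nat_lit 4) (.node (nat_lit 2) (.node (nat_lit 1) (.leaf []) (.leaf [])) (.node (nat_lit 3) (.leaf [nat_lit 0, nat_lit 0, nat_lit 0, nat_lit 0]) (.leaf [nat_lit 1, nat_lit 1, nat_lit 1])))
 (.node (nat_lit 6) (.node (nat_lit 5) (.leaf [nat_lit 0, nat_lit 0, nat_lit 3, nat_lit 2]) (.leaf [nat_lit 1, nat_lit 0, nat_lit 0])) (.node (nat_lit 7) (.leaf [nat_lit 2, nat_lit 2, nat_lit 3]) (.node (nat_lit 8) (.leaf [nat_lit 6, nat_lit 4]) (.leaf [nat_lit 2, nat_lit 5, nat_lit 5])))))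
theorem n5slp : slpChk 15 (nat_lit 4) (nat_lit 15) n5S n5D 2 7 = true := by decide +kernel
theorem n5a : band (selChk n5T n5S (2 + 7)) (allB 2 fun j => anyL (AW.get 5) fun w => isProd 15 (nat_lit 4) (nat_lit 15) MG.gl42T (n5S.get j) w) = true := by decide +kernel
noncomputable def n5Dd : Tr ℕ := (.node (nat_lit 3) (.node (nat_lit 1) (.leaf (nat_lit 0xedcba9876543210)) (.node (nat_lit 2) (.leaf (nat_lit 0xcdeb89a74563012)) (.leaf (nat_lit 0xecdb6453a897201)))) (.node (nat_lit 4) (.leaf (nat_lit 0xdceb546398a7102)) (.node (nat_lit 5) (.leaf (nat_lit 0x9e7cdab82503614)) (.leaf (nat_lit 0x4e3dc6b52817a09)))))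
noncomputable def n5dE : Tr (List ℕ) := (.node (nat_lit 3) (.node (nat_lit 1) (.leaf []) (.node (nat_lit 2) (.leaf [nat_lit 0]) (.leaf [nat_lit 5]))) (.node (nat_lit 4) (.leaf [nat_lit 5, nat_lit 0]) (.node (nat_lit 5) (.leaf [nat_lit 2, nat_lit 3, nat_lit 0]) (.leaf [nat_lit 5, nat_lit 2, nat_lit 3, nat_lit 0]))))
theorem n5dw_0 : n5Dd.all2 (fun c w => isProd 15 (nat_lit 4) (nat_lit 15) MG.gl42T c w) n5dE = true := by decide +kernel
theorem n5dw : n5Dd.all2 (fun c w => isProd 15 (nat_lit 4) (nat_lit 15) MG.gl42T c w) n5dE = true := n5dw_0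
noncomputable def n5PA : Tr (ℕ × List ℕ) := (.node (nat_lit 84) (.node (nat_lit 42) (.node (nat_lit 21) (.node (nat_lit 10) (.node (nat_lit 5) (.node (nat_lit 2) (.node (nat_lit 1) (.leaf ((nat_lit 0), [])) (.leaf ((nat_lit 1), []))) (.node (nat_lit 3) (.leaf ((nat_lit 1), [nat_lit 0, nat_lit 1, nat_lit 2, nat_lit 1, nat_lit 0])) (.node (nat_lit 4) (.leaf ((nat_lit 2), [])) (.leaf ((nat_lit 1), [nat_lit 2])))))
 (.node (nat_lit 7) (.node (nat_lit 6) (.leaf ((nat_lit 1), [nat_lit 1, nat_lit 0, nat_lit 1])) (.leaf ((nat_lit 1), [nat_lit 2, nat_lit 0, nat_lit 2]))) (.node (nat_lit 8) (.leaf ((nat_lit 3), [])) (.node (nat_lit 9) (.leaf ((nat_lit 1), [nat_lit 0, nat_lit 2, nat_lit 1])) (.leaf ((nat_lit 1), [nat_lit 2, nat_lit 1, nat_lit 2, nat_lit 1, nat_lit 0]))))))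
 (.node (nat_lit 15) (.node (nat_lit 12) (.node (nat_lit 11) (.leaf ((nat_lit 3), [nat_lit 1, nat_lit 2, nat_lit 0, nat_lit 2, nat_lit 1])) (.leaf ((nat_lit 3), [nat_lit 2, nat_lit 0, nat_lit 2, nat_lit 1, nat_lit 2]))) (.node (nat_lit 13) (.leaf ((nat_lit 3), [nat_lit 0, nat_lit 2, nat_lit 1, nat_lit 2, nat_lit 0])) (.node (nat_lit 14) (.leaf ((nat_lit 3), [nat_lit 0, nat_lit 2, nat_lit 1, nat_lit 2, nat_lit 1, nat_lit 0])) (.leaf ((nat_lit 2), [nat_lit 0, nat_lit 2])))))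
 (.node (nat_lit 18) (.node (nat_lit 16) (.leaf ((nat_lit 1), [nat_lit 2, nat_lit 1])) (.node (nat_lit 17) (.leaf ((nat_lit 1), [nat_lit 2, nat_lit 0])) (.leaf ((nat_lit 3), [nat_lit 2, nat_lit 0, nat_lit 1, nat_lit 2, nat_lit 1, nat_lit 0])))) (.node (nat_lit 19) (.leaf ((nat_lit 1), [nat_lit 1, nat_lit 2, nat_lit 1, nat_lit 2, nat_lit 1, nat_lit 0])) (.node (nat_lit 20) (.leaf ((nat_lit 4), [])) (.leaf ((nat_lit 1), [nat_lit 2, nat_lit 1, nat_lit 0, nat_lit 2, nat_lit 1])))))))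
 (.node (nat_lit 31) (.node (nat_lit 26) (.node (nat_lit 23) (.node (nat_lit 22) (.leaf ((nat_lit 3), [nat_lit 0])) (.leaf ((nat_lit 1), [nat_lit 0]))) (.node (nat_lit 24) (.leaf ((nat_lit 4), [nat_lit 2, nat_lit 1, nat_lit 0, nat_lit 1, nat_lit 0])) (.node (nat_lit 25) (.leaf ((nat_lit 3), [nat_lit 0, nat_lit 1])) (.leaf ((nat_lit 1), [nat_lit 2, nat_lit 0, nat_lit 1])))))
 (.node (nat_lit 28) (.node (nat_lit 27) (.leaf ((nat_lit 1), [nat_lit 2, nat_lit 1, nat_lit 2, nat_lit 1])) (.leaf ((nat_lit 4), [nat_lit 2, nat_lit 1, nat_lit 2, nat_lit 0, nat_lit 1, nat_lit 0]))) (.node (nat_lit 29) (.leaf ((nat_lit 3), [nat_lit 1, nat_lit 0, nat_lit 1])) (.node (nat_lit 30) (.leaf ((nat_lit 3), [nat_lit 2, nat_lit 0, nat_lit 2])) (.leaf ((nat_lit 4), [nat_lit 1, nat_lit 0, nat_lit 1]))))))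
 (.node (nat_lit 36) (.node (nat_lit 33) (.node (nat_lit 32) (.leaf ((nat_lit 4), [nat_lit 0, nat_lit 1, nat_lit 2, nat_lit 1, nat_lit 0])) (.leaf ((nat_lit 1), [nat_lit 1, nat_lit 2, nat_lit 0]))) (.node (nat_lit 34) (.leaf ((nat_lit 3), [nat_lit 1, nat_lit 2, nat_lit 1, nat_lit 0, nat_lit 2])) (.node (nat_lit 35) (.leaf ((nat_lit 4), [nat_lit 1, nat_lit 0, nat_lit 2, nat_lit 1, nat_lit 0])) (.leaf ((nat_lit 4), [nat_lit 0, nat_lit 2, nat_lit 1, nat_lit 0, nat_lit 1, nat_lit 0])))))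
 (.node (nat_lit 39) (.node (nat_lit 37) (.leaf ((nat_lit 1), [nat_lit 0, nat_lit 1])) (.node (nat_lit 38) (.leaf ((nat_lit 4), [nat_lit 1])) (.leaf ((nat_lit 4), [nat_lit 2, nat_lit 1, nat_lit 2, nat_lit 0, nat_lit 2])))) (.node (nat_lit 40) (.leaf ((nat_lit 4), [nat_lit 1, nat_lit 0, nat_lit 2, nat_lit 1])) (.node (nat_lit 41) (.leaf ((nat_lit 3), [nat_lit 0, nat_lit 2, nat_lit 1, nat_lit 2])) (.leaf ((nat_lit 3), [nat_lit 0, nat_lit 2, nat_lit 0]))))))))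
 (.node (nat_lit 63) (.node (nat_lit 52) (.node (nat_lit 47) (.node (nat_lit 44) (.node (nat_lit 43) (.leaf ((nat_lit 2), [nat_lit 2])) (.leaf ((nat_lit 3), [nat_lit 1, nat_lit 2, nat_lit 0, nat_lit 2, nat_lit 0]))) (.node (nat_lit 45) (.leaf ((nat_lit 3), [nat_lit 1, nat_lit 2])) (.node (nat_lit 46) (.leaf ((nat_lit 3), [nat_lit 0, nat_lit 2, nat_lit 1, nat_lit 2, nat_lit 1])) (.leaf ((nat_lit 3), [nat_lit 1, nat_lit 2, nat_lit 1, nat_lit 0, nat_lit 2, nat_lit 0])))))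
 (.node (nat_lit 49) (.node (nat_lit 48) (.leaf ((nat_lit 3), [nat_lit 1, nat_lit 2, nat_lit 1])) (.leaf ((nat_lit 1), [nat_lit 0, nat_lit 2, nat_lit 1, nat_lit 2, nat_lit 0]))) (.node (nat_lit 50) (.leaf ((nat_lit 3), [nat_lit 0, nat_lit 1, nat_lit 2, nat_lit 0, nat_lit 2])) (.node (nat_lit 51) (.leaf ((nat_lit 3), [nat_lit 0, nat_lit 1, nat_lit 2, nat_lit 1, nat_lit 0])) (.leaf ((nat_lit 1), [nat_lit 1, nat_lit 2, nat_lit 1]))))))
 (.node (nat_lit 57) (.node (nat_lit 54) (.node (nat_lit 53) (.leaf ((nat_lit 3), [nat_lit 1, nat_lit 0, nat_lit 2])) (.leaf ((nat_lit 1), [nat_lit 1, nat_lit 0, nat_lit 2]))) (.node (nat_lit 55) (.leaf ((nat_lit 2), [nat_lit 2, nat_lit 1])) (.node (nat_lit 56) (.leaf ((nat_lit 4), [nat_lit 1, nat_lit 0, nat_lit 2, nat_lit 0])) (.leaf ((nat_lit 4), [nat_lit 0, nat_lit 2, nat_lit 1])))))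
 (.node (nat_lit 60) (.node (nat_lit 58) (.leaf ((nat_lit 3), [nat_lit 1, nat_lit 0, nat_lit 2, nat_lit 1, nat_lit 0, nat_lit 2])) (.node (nat_lit 59) (.leaf ((nat_lit 4), [nat_lit 1, nat_lit 0, nat_lit 1, nat_lit 2, nat_lit 1])) (.leaf ((nat_lit 4), [nat_lit 1, nat_lit 0, nat_lit 1, nat_lit 0])))) (.node (nat_lit 61) (.leaf ((nat_lit 3), [nat_lit 2, nat_lit 0, nat_lit 1, nat_lit 2, nat_lit 0])) (.node (nat_lit 62) (.leaf ((nat_lit 4), [nat_lit 2, nat_lit 1, nat_lit 0, nat_lit 2])) (.leaf ((nat_lit 4), [nat_lit 2, nat_lit 0, nat_lit 2, nat_lit 1, nat_lit 0])))))))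
 (.node (nat_lit 73) (.node (nat_lit 68) (.node (nat_lit 65) (.node (nat_lit 64) (.leaf ((nat_lit 1), [nat_lit 2, nat_lit 1, nat_lit 0])) (.leaf ((nat_lit 3), [nat_lit 2, nat_lit 1, nat_lit 2]))) (.node (nat_lit 66) (.leaf ((nat_lit 3), [nat_lit 2, nat_lit 1, nat_lit 2, nat_lit 1, nat_lit 0])) (.node (nat_lit 67) (.leaf ((nat_lit 4), [nat_lit 1, nat_lit 2, nat_lit 0])) (.leaf ((nat_lit 3), [nat_lit 1, nat_lit 0])))))
 (.node (nat_lit 70) (.node (nat_lit 69) (.leaf ((nat_lit 4), [nat_lit 2, nat_lit 0, nat_lit 2])) (.leaf ((nat_lit 5), []))) (.node (nat_lit 71) (.leaf ((nat_lit 2), [nat_lit 1])) (.node (nat_lit 72) (.leaf ((nat_lit 3), [nat_lit 2, nat_lit 1, nat_lit 0, nat_lit 2, nat_lit 1])) (.leaf ((nat_lit 3), [nat_lit 1]))))))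
 (.node (nat_lit 78) (.node (nat_lit 75) (.node (nat_lit 74) (.leaf ((nat_lit 4), [nat_lit 0, nat_lit 1, nat_lit 2, nat_lit 0, nat_lit 2])) (.leaf ((nat_lit 4), [nat_lit 2, nat_lit 0, nat_lit 1]))) (.node (nat_lit 76) (.leaf ((nat_lit 3), [nat_lit 0, nat_lit 2, nat_lit 0, nat_lit 2])) (.node (nat_lit 77) (.leaf ((nat_lit 3), [nat_lit 2, nat_lit 0, nat_lit 2, nat_lit 0])) (.leaf ((nat_lit 4), [nat_lit 0, nat_lit 1, nat_lit 0, nat_lit 1, nat_lit 0])))))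
 (.node (nat_lit 81) (.node (nat_lit 79) (.leaf ((nat_lit 4), [nat_lit 2])) (.node (nat_lit 80) (.leaf ((nat_lit 4), [nat_lit 1, nat_lit 2, nat_lit 1])) (.leaf ((nat_lit 4), [nat_lit 1, nat_lit 2, nat_lit 0, nat_lit 1])))) (.node (nat_lit 82) (.leaf ((nat_lit 3), [nat_lit 2, nat_lit 1, nat_lit 0, nat_lit 2, nat_lit 0])) (.node (nat_lit 83) (.leaf ((nat_lit 3), [nat_lit 0, nat_lit 2, nat_lit 0, nat_lit 2, nat_lit 0])) (.leaf ((nat_lit 4), [nat_lit 2, nat_lit 1])))))))))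
 (.node (nat_lit 126) (.node (nat_lit 105) (.node (nat_lit 94) (.node (nat_lit 89) (.node (nat_lit 86) (.node (nat_lit 85) (.leaf ((nat_lit 4), [nat_lit 1, nat_lit 2, nat_lit 0, nat_lit 2])) (.leaf ((nat_lit 1), [nat_lit 1]))) (.node (nat_lit 87) (.leaf ((nat_lit 4), [nat_lit 0, nat_lit 2, nat_lit 1, nat_lit 0])) (.node (nat_lit 88) (.leaf ((nat_lit 4), [nat_lit 2, nat_lit 0, nat_lit 2, nat_lit 0])) (.leaf ((nat_lit 4), [nat_lit 0, nat_lit 1, nat_lit 0, nat_lit 1])))))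
 (.node (nat_lit 91) (.node (nat_lit 90) (.leaf ((nat_lit 4), [nat_lit 0, nat_lit 2, nat_lit 1, nat_lit 2, nat_lit 0, nat_lit 1, nat_lit 0])) (.leaf ((nat_lit 3), [nat_lit 1, nat_lit 2, nat_lit 1, nat_lit 2]))) (.node (nat_lit 92) (.leaf ((nat_lit 5), [nat_lit 0])) (.node (nat_lit 93) (.leaf ((nat_lit 1), [nat_lit 1, nat_lit 2, nat_lit 0, nat_lit 2])) (.leaf ((nat_lit 4), [nat_lit 0, nat_lit 1]))))))
 (.node (nat_lit 99) (.node (nat_lit 96) (.node (nat_lit 95) (.leaf ((nat_lit 4), [nat_lit 0, nat_lit 2, nat_lit 0, nat_lit 2, nat_lit 1])) (.leaf ((nat_lit 3), [nat_lit 2, nat_lit 0]))) (.node (nat_lit 97) (.leaf ((nat_lit 3), [nat_lit 0, nat_lit 2])) (.node (nat_lit 98) (.leaf ((nat_lit 1), [nat_lit 1, nat_lit 2, nat_lit 1, nat_lit 0])) (.leaf ((nat_lit 4), [nat_lit 1, nat_lit 2, nat_lit 1, nat_lit 0])))))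
 (.node (nat_lit 102) (.node (nat_lit 100) (.leaf ((nat_lit 4), [nat_lit 1, nat_lit 0, nat_lit 2])) (.node (nat_lit 101) (.leaf ((nat_lit 4), [nat_lit 1, nat_lit 2, nat_lit 0, nat_lit 1, nat_lit 0])) (.leaf ((nat_lit 1), [nat_lit 2, nat_lit 1, nat_lit 2, nat_lit 0])))) (.node (nat_lit 103) (.leaf ((nat_lit 3), [nat_lit 2])) (.node (nat_lit 104) (.leaf ((nat_lit 4), [nat_lit 1, nat_lit 0])) (.leaf ((nat_lit 4), [nat_lit 2, nat_lit 0, nat_lit 2, nat_lit 1])))))))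
 (.node (nat_lit 115) (.node (nat_lit 110) (.node (nat_lit 107) (.node (nat_lit 106) (.leaf ((nat_lit 4), [nat_lit 2, nat_lit 0, nat_lit 1, nat_lit 2, nat_lit 1, nat_lit 0])) (.leaf ((nat_lit 3), [nat_lit 0, nat_lit 1, nat_lit 2, nat_lit 0]))) (.node (nat_lit 108) (.leaf ((nat_lit 4), [nat_lit 2, nat_lit 0, nat_lit 1, nat_lit 0, nat_lit 1])) (.node (nat_lit 109) (.leaf ((nat_lit 3), [nat_lit 1, nat_lit 0, nat_lit 2, nat_lit 1])) (.leaf ((nat_lit 5), [nat_lit 2])))))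
 (.node (nat_lit 112) (.node (nat_lit 111) (.leaf ((nat_lit 3), [nat_lit 2, nat_lit 1, nat_lit 2, nat_lit 0])) (.leaf ((nat_lit 4), [nat_lit 2, nat_lit 0, nat_lit 1, nat_lit 0]))) (.node (nat_lit 113) (.leaf ((nat_lit 3), [nat_lit 2, nat_lit 0, nat_lit 1])) (.node (nat_lit 114) (.leaf ((nat_lit 3), [nat_lit 1, nat_lit 2, nat_lit 0, nat_lit 2])) (.leaf ((nat_lit 3), [nat_lit 1, nat_lit 2, nat_lit 0]))))))
 (.node (nat_lit 120) (.node (nat_lit 117) (.node (nat_lit 116) (.leaf ((nat_lit 3), [nat_lit 2, nat_lit 1, nat_lit 0, nat_lit 1])) (.leaf ((nat_lit 4), [nat_lit 0, nat_lit 2, nat_lit 0]))) (.node (nat_lit 118) (.leaf ((nat_lit 3), [nat_lit 2, nat_lit 1, nat_lit 0])) (.node (nat_lit 119) (.leaf ((nat_lit 4), [nat_lit 1, nat_lit 0, nat_lit 1, nat_lit 0, nat_lit 1])) (.leaf ((nat_lit 4), [nat_lit 2, nat_lit 1, nat_lit 0, nat_lit 2, nat_lit 0])))))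
 (.node (nat_lit 123) (.node (nat_lit 121) (.leaf ((nat_lit 1), [nat_lit 1, nat_lit 2, nat_lit 1, nat_lit 2, nat_lit 0])) (.node (nat_lit 122) (.leaf ((nat_lit 5), [nat_lit 0, nat_lit 1, nat_lit 2])) (.leaf ((nat_lit 5), [nat_lit 0, nat_lit 1, nat_lit 2, nat_lit 0])))) (.node (nat_lit 124) (.leaf ((nat_lit 3), [nat_lit 0, nat_lit 2, nat_lit 1])) (.node (nat_lit 125) (.leaf ((nat_lit 1), [nat_lit 1, nat_lit 2])) (.leaf ((nat_lit 1), [nat_lit 1, nat_lit 0]))))))))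
 (.node (nat_lit 147) (.node (nat_lit 136) (.node (nat_lit 131) (.node (nat_lit 128) (.node (nat_lit 127) (.leaf ((nat_lit 1), [nat_lit 1, nat_lit 0, nat_lit 2, nat_lit 1])) (.leaf ((nat_lit 3), [nat_lit 2, nat_lit 1, nat_lit 0, nat_lit 2]))) (.node (nat_lit 129) (.leaf ((nat_lit 3), [nat_lit 1, nat_lit 0, nat_lit 2, nat_lit 0])) (.node (nat_lit 130) (.leaf ((nat_lit 3), [nat_lit 1, nat_lit 2, nat_lit 1, nat_lit 0])) (.leaf ((nat_lit 1), [nat_lit 0, nat_lit 2])))))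
 (.node (nat_lit 133) (.node (nat_lit 132) (.leaf ((nat_lit 4), [nat_lit 0])) (.leaf ((nat_lit 4), [nat_lit 0, nat_lit 1, nat_lit 0]))) (.node (nat_lit 134) (.leaf ((nat_lit 1), [nat_lit 2, nat_lit 1, nat_lit 0, nat_lit 1])) (.node (nat_lit 135) (.leaf ((nat_lit 4), [nat_lit 0, nat_lit 2, nat_lit 0, nat_lit 2, nat_lit 1, nat_lit 0])) (.leaf ((nat_lit 3), [nat_lit 2, nat_lit 1, nat_lit 2, nat_lit 1]))))))
 (.node (nat_lit 141) (.node (nat_lit 138) (.node (nat_lit 137) (.leaf ((nat_lit 5), [nat_lit 1, nat_lit 0])) (.leaf ((nat_lit 5), [nat_lit 0, nat_lit 2, nat_lit 0]))) (.node (nat_lit 139) (.leaf ((nat_lit 4), [nat_lit 0, nat_lit 2, nat_lit 0, nat_lit 2])) (.node (nat_lit 140) (.leaf ((nat_lit 4), [nat_lit 2, nat_lit 1, nat_lit 0, nat_lit 1])) (.leaf ((nat_lit 4), [nat_lit 2, nat_lit 1, nat_lit 0])))))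
 (.node (nat_lit 144) (.node (nat_lit 142) (.leaf ((nat_lit 4), [nat_lit 1, nat_lit 2, nat_lit 0, nat_lit 2, nat_lit 0])) (.node (nat_lit 143) (.leaf ((nat_lit 5), [nat_lit 2, nat_lit 0])) (.leaf ((nat_lit 3), [nat_lit 0, nat_lit 2, nat_lit 1, nat_lit 0, nat_lit 2, nat_lit 1])))) (.node (nat_lit 145) (.leaf ((nat_lit 3), [nat_lit 0, nat_lit 2, nat_lit 1, nat_lit 0, nat_lit 2])) (.node (nat_lit 146) (.leaf ((nat_lit 3), [nat_lit 1, nat_lit 2, nat_lit 1, nat_lit 2, nat_lit 1])) (.leaf ((nat_lit 3), [nat_lit 0, nat_lit 1, nat_lit 2, nat_lit 1, nat_lit 2])))))))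
 (.node (nat_lit 157) (.node (nat_lit 152) (.node (nat_lit 149) (.node (nat_lit 148) (.leaf ((nat_lit 3), [nat_lit 2, nat_lit 1, nat_lit 2, nat_lit 0, nat_lit 2])) (.leaf ((nat_lit 5), [nat_lit 2, nat_lit 1, nat_lit 2]))) (.node (nat_lit 150) (.leaf ((nat_lit 3), [nat_lit 2, nat_lit 0, nat_lit 2, nat_lit 1])) (.node (nat_lit 151) (.leaf ((nat_lit 4), [nat_lit 0, nat_lit 2])) (.leaf ((nat_lit 3), [nat_lit 0, nat_lit 2, nat_lit 0, nat_lit 2, nat_lit 1])))))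
 (.node (nat_lit 154) (.node (nat_lit 153) (.leaf ((nat_lit 3), [nat_lit 1, nat_lit 2, nat_lit 0, nat_lit 1, nat_lit 2, nat_lit 0])) (.leaf ((nat_lit 4), [nat_lit 2, nat_lit 0]))) (.node (nat_lit 155) (.leaf ((nat_lit 4), [nat_lit 2, nat_lit 0, nat_lit 1, nat_lit 2, nat_lit 1])) (.node (nat_lit 156) (.leaf ((nat_lit 4), [nat_lit 2, nat_lit 0, nat_lit 1, nat_lit 2, nat_lit 0, nat_lit 1])) (.leaf ((nat_lit 4), [nat_lit 0, nat_lit 1, nat_lit 2, nat_lit 0, nat_lit 2, nat_lit 0]))))))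
 (.node (nat_lit 162) (.node (nat_lit 159) (.node (nat_lit 158) (.leaf ((nat_lit 4), [nat_lit 0, nat_lit 1, nat_lit 2, nat_lit 0, nat_lit 1])) (.leaf ((nat_lit 3), [nat_lit 1, nat_lit 2, nat_lit 1, nat_lit 2, nat_lit 0]))) (.node (nat_lit 160) (.leaf ((nat_lit 4), [nat_lit 0, nat_lit 1, nat_lit 2, nat_lit 1])) (.node (nat_lit 161) (.leaf ((nat_lit 5), [nat_lit 1, nat_lit 2])) (.leaf ((nat_lit 4), [nat_lit 1, nat_lit 0, nat_lit 2, nat_lit 0, nat_lit 2, nat_lit 1, nat_lit 0])))))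
 (.node (nat_lit 165) (.node (nat_lit 163) (.leaf ((nat_lit 3), [nat_lit 2, nat_lit 1])) (.node (nat_lit 164) (.leaf ((nat_lit 5), [nat_lit 2, nat_lit 1, nat_lit 2, nat_lit 0])) (.leaf ((nat_lit 4), [nat_lit 2, nat_lit 1, nat_lit 2, nat_lit 0])))) (.node (nat_lit 166) (.leaf ((nat_lit 3), [nat_lit 1, nat_lit 2, nat_lit 1, nat_lit 2, nat_lit 1, nat_lit 0])) (.node (nat_lit 167) (.leaf ((nat_lit 5), [nat_lit 1, nat_lit 2, nat_lit 0])) (.leaf ((nat_lit 4), [nat_lit 0, nat_lit 2, nat_lit 1, nat_lit 2, nat_lit 0]))))))))))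
noncomputable def n5Wd_0 : Tr (ℕ × List ℕ) := (.node (nat_lit 126) (.node (nat_lit 63) (.node (nat_lit 31) (.node (nat_lit 15) (.node (nat_lit 7) (.node (nat_lit 3) (.node (nat_lit 1) (.leaf ((nat_lit 1), [])) (.node (nat_lit 2) (.leaf ((nat_lit 1), [nat_lit 0, nat_lit 2, nat_lit 0, nat_lit 2, nat_lit 0])) (.leaf ((nat_lit 2), [nat_lit 1, nat_lit 2, nat_lit 0, nat_lit 1, nat_lit 0, nat_lit 1]))))
 (.node (nat_lit 5) (.node (nat_lit 4) (.leaf ((nat_lit 0), [nat_lit 1, nat_lit 0, nat_lit 1])) (.leaf ((nat_lit 0), [nat_lit 2, nat_lit 0, nat_lit 2]))) (.node (nat_lit 6) (.leaf ((nat_lit 3), [])) (.leaf ((nat_lit 0), [])))))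
 (.node (nat_lit 11) (.node (nat_lit 9) (.node (nat_lit 8) (.leaf ((nat_lit 0), [nat_lit 0, nat_lit 2, nat_lit 0, nat_lit 2, nat_lit 0])) (.leaf ((nat_lit 4), [nat_lit 1, nat_lit 2, nat_lit 0, nat_lit 2, nat_lit 1]))) (.node (nat_lit 10) (.leaf ((nat_lit 5), [])) (.leaf ((nat_lit 6), []))))
 (.node (nat_lit 13) (.node (nat_lit 12) (.leaf ((nat_lit 7), [])) (.leaf ((nat_lit 4), [nat_lit 1, nat_lit 2, nat_lit 1, nat_lit 0, nat_lit 1]))) (.node (nat_lit 14) (.leaf ((nat_lit 4), [nat_lit 2, nat_lit 1, nat_lit 2, nat_lit 0, nat_lit 1, nat_lit 0, nat_lit 1])) (.leaf ((nat_lit 0), [nat_lit 1, nat_lit 2, nat_lit 0, nat_lit 1, nat_lit 0, nat_lit 1]))))))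
 (.node (nat_lit 23) (.node (nat_lit 19) (.node (nat_lit 17) (.node (nat_lit 16) (.leaf ((nat_lit 8), [])) (.leaf ((nat_lit 9), [nat_lit 0, nat_lit 2, nat_lit 0, nat_lit 2, nat_lit 1, nat_lit 0, nat_lit 1, nat_lit 0]))) (.node (nat_lit 18) (.leaf ((nat_lit 10), [nat_lit 0, nat_lit 2, nat_lit 0, nat_lit 2, nat_lit 0])) (.leaf ((nat_lit 11), [nat_lit 0, nat_lit 2, nat_lit 1, nat_lit 2, nat_lit 0, nat_lit 1]))))
 (.node (nat_lit 21) (.node (nat_lit 20) (.leaf ((nat_lit 12), [nat_lit 0, nat_lit 2, nat_lit 1, nat_lit 2, nat_lit 0, nat_lit 1])) (.leaf ((nat_lit 13), [nat_lit 2, nat_lit 1, nat_lit 0, nat_lit 1]))) (.node (nat_lit 22) (.leaf ((nat_lit 3), [nat_lit 0])) (.leaf ((nat_lit 14), [nat_lit 2, nat_lit 1, nat_lit 2])))))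
 (.node (nat_lit 27) (.node (nat_lit 25) (.node (nat_lit 24) (.leaf ((nat_lit 0), [])) (.leaf ((nat_lit 2), [nat_lit 2, nat_lit 0, nat_lit 1, nat_lit 0, nat_lit 1, nat_lit 0]))) (.node (nat_lit 26) (.leaf ((nat_lit 2), [nat_lit 1, nat_lit 2, nat_lit 0, nat_lit 2, nat_lit 1, nat_lit 0, nat_lit 1, nat_lit 0, nat_lit 1, nat_lit 0])) (.leaf ((nat_lit 1), [nat_lit 1, nat_lit 2, nat_lit 0, nat_lit 2, nat_lit 1]))))
 (.node (nat_lit 29) (.node (nat_lit 28) (.leaf ((nat_lit 15), [nat_lit 0, nat_lit 1, nat_lit 0, nat_lit 1, nat_lit 0])) (.leaf ((nat_lit 16), []))) (.node (nat_lit 30) (.leaf ((nat_lit 17), [nat_lit 0, nat_lit 2, nat_lit 0, nat_lit 2, nat_lit 1, nat_lit 0, nat_lit 1, nat_lit 0])) (.leaf ((nat_lit 18), [nat_lit 1, nat_lit 2, nat_lit 1, nat_lit 2, nat_lit 1, nat_lit 0, nat_lit 1, nat_lit 0, nat_lit 1])))))))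
 (.node (nat_lit 47) (.node (nat_lit 39) (.node (nat_lit 35) (.node (nat_lit 33) (.node (nat_lit 32) (.leaf ((nat_lit 5), [nat_lit 1, nat_lit 2, nat_lit 1, nat_lit 2, nat_lit 1, nat_lit 0])) (.leaf ((nat_lit 19), []))) (.node (nat_lit 34) (.leaf ((nat_lit 1), [])) (.leaf ((nat_lit 20), [nat_lit 0, nat_lit 1, nat_lit 0, nat_lit 1, nat_lit 0]))))
 (.node (nat_lit 37) (.node (nat_lit 36) (.leaf ((nat_lit 21), [])) (.leaf ((nat_lit 22), [nat_lit 0, nat_lit 2, nat_lit 0, nat_lit 2]))) (.node (nat_lit 38) (.leaf ((nat_lit 6), [nat_lit 0])) (.leaf ((nat_lit 23), [nat_lit 0, nat_lit 2, nat_lit 1, nat_lit 0, nat_lit 1, nat_lit 0, nat_lit 1])))))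
 (.node (nat_lit 43) (.node (nat_lit 41) (.node (nat_lit 40) (.leaf ((nat_lit 20), [nat_lit 0, nat_lit 1, nat_lit 0, nat_lit 1, nat_lit 0])) (.leaf ((nat_lit 1), []))) (.node (nat_lit 42) (.leaf ((nat_lit 24), [nat_lit 1, nat_lit 2, nat_lit 1, nat_lit 2, nat_lit 1, nat_lit 0, nat_lit 1, nat_lit 0, nat_lit 1, nat_lit 0])) (.leaf ((nat_lit 25), [nat_lit 0, nat_lit 2, nat_lit 1, nat_lit 0, nat_lit 1]))))
 (.node (nat_lit 45) (.node (nat_lit 44) (.leaf ((nat_lit 26), [nat_lit 0, nat_lit 2, nat_lit 1, nat_lit 0])) (.leaf ((nat_lit 27), [nat_lit 2, nat_lit 1, nat_lit 2, nat_lit 1, nat_lit 0]))) (.node (nat_lit 46) (.leaf ((nat_lit 28), [])) (.leaf ((nat_lit 29), []))))))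
 (.node (nat_lit 55) (.node (nat_lit 51) (.node (nat_lit 49) (.node (nat_lit 48) (.leaf ((nat_lit 1), [])) (.leaf ((nat_lit 30), [nat_lit 0, nat_lit 2, nat_lit 1]))) (.node (nat_lit 50) (.leaf ((nat_lit 31), [nat_lit 0, nat_lit 2, nat_lit 0, nat_lit 2, nat_lit 0])) (.leaf ((nat_lit 32), [nat_lit 0, nat_lit 2, nat_lit 0, nat_lit 2, nat_lit 0, nat_lit 1, nat_lit 0, nat_lit 1]))))
 (.node (nat_lit 53) (.node (nat_lit 52) (.leaf ((nat_lit 2), [])) (.leaf ((nat_lit 26), [nat_lit 0, nat_lit 2, nat_lit 0, nat_lit 2, nat_lit 1, nat_lit 0, nat_lit 1, nat_lit 0]))) (.node (nat_lit 54) (.leaf ((nat_lit 33), [nat_lit 0, nat_lit 2, nat_lit 0, nat_lit 2, nat_lit 1, nat_lit 0, nat_lit 1, nat_lit 0])) (.leaf ((nat_lit 34), [nat_lit 2, nat_lit 0, nat_lit 1, nat_lit 0, nat_lit 1, nat_lit 0])))))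
 (.node (nat_lit 59) (.node (nat_lit 57) (.node (nat_lit 56) (.leaf ((nat_lit 35), [nat_lit 2, nat_lit 0, nat_lit 1, nat_lit 0, nat_lit 1, nat_lit 0])) (.leaf ((nat_lit 9), [nat_lit 1, nat_lit 0, nat_lit 1, nat_lit 0, nat_lit 1, nat_lit 0]))) (.node (nat_lit 58) (.leaf ((nat_lit 26), [])) (.leaf ((nat_lit 2), [nat_lit 0, nat_lit 2, nat_lit 0, nat_lit 2, nat_lit 1, nat_lit 0, nat_lit 1, nat_lit 0]))))
 (.node (nat_lit 61) (.node (nat_lit 60) (.leaf ((nat_lit 36), [nat_lit 2, nat_lit 0, nat_lit 2, nat_lit 0, nat_lit 1, nat_lit 0, nat_lit 1])) (.leaf ((nat_lit 37), [nat_lit 2, nat_lit 1, nat_lit 2, nat_lit 0, nat_lit 1, nat_lit 0]))) (.node (nat_lit 62) (.leaf ((nat_lit 38), [nat_lit 2, nat_lit 1, nat_lit 2, nat_lit 0, nat_lit 1, nat_lit 0])) (.leaf ((nat_lit 39), [nat_lit 1, nat_lit 0]))))))))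
 (.node (nat_lit 94) (.node (nat_lit 78) (.node (nat_lit 70) (.node (nat_lit 66) (.node (nat_lit 64) (.leaf ((nat_lit 40), [nat_lit 0, nat_lit 1, nat_lit 0, nat_lit 1, nat_lit 0])) (.node (nat_lit 65) (.leaf ((nat_lit 41), [])) (.leaf ((nat_lit 2), [nat_lit 0, nat_lit 2, nat_lit 0, nat_lit 2, nat_lit 0]))))
 (.node (nat_lit 68) (.node (nat_lit 67) (.leaf ((nat_lit 3), [nat_lit 0, nat_lit 2, nat_lit 0, nat_lit 2, nat_lit 1, nat_lit 0, nat_lit 1, nat_lit 0, nat_lit 1])) (.leaf ((nat_lit 42), [nat_lit 1, nat_lit 2, nat_lit 1, nat_lit 0]))) (.node (nat_lit 69) (.leaf ((nat_lit 40), [nat_lit 2, nat_lit 0, nat_lit 2])) (.leaf ((nat_lit 43), [])))))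
 (.node (nat_lit 74) (.node (nat_lit 72) (.node (nat_lit 71) (.leaf ((nat_lit 44), [])) (.leaf ((nat_lit 25), [nat_lit 1, nat_lit 2, nat_lit 1, nat_lit 2, nat_lit 1, nat_lit 0, nat_lit 1, nat_lit 0, nat_lit 1, nat_lit 0]))) (.node (nat_lit 73) (.leaf ((nat_lit 42), [nat_lit 1, nat_lit 2, nat_lit 1, nat_lit 0])) (.leaf ((nat_lit 3), [nat_lit 0, nat_lit 2, nat_lit 0, nat_lit 2, nat_lit 1, nat_lit 0, nat_lit 1, nat_lit 0, nat_lit 1]))))
 (.node (nat_lit 76) (.node (nat_lit 75) (.leaf ((nat_lit 45), [nat_lit 1, nat_lit 2, nat_lit 1, nat_lit 2, nat_lit 0, nat_lit 1, nat_lit 0])) (.leaf ((nat_lit 46), [nat_lit 0, nat_lit 1, nat_lit 0, nat_lit 1, nat_lit 0]))) (.node (nat_lit 77) (.leaf ((nat_lit 47), [nat_lit 0, nat_lit 1, nat_lit 0, nat_lit 1, nat_lit 0])) (.leaf ((nat_lit 48), []))))))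
 (.node (nat_lit 86) (.node (nat_lit 82) (.node (nat_lit 80) (.node (nat_lit 79) (.leaf ((nat_lit 40), [nat_lit 1, nat_lit 2, nat_lit 1, nat_lit 2, nat_lit 0, nat_lit 1, nat_lit 0])) (.leaf ((nat_lit 45), [nat_lit 2, nat_lit 0, nat_lit 2]))) (.node (nat_lit 81) (.leaf ((nat_lit 3), [nat_lit 2, nat_lit 1, nat_lit 0, nat_lit 1, nat_lit 0, nat_lit 1, nat_lit 0])) (.leaf ((nat_lit 49), [nat_lit 0, nat_lit 1, nat_lit 0, nat_lit 1, nat_lit 0]))))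
 (.node (nat_lit 84) (.node (nat_lit 83) (.leaf ((nat_lit 50), [nat_lit 0, nat_lit 1, nat_lit 0, nat_lit 1, nat_lit 0])) (.leaf ((nat_lit 51), [nat_lit 2, nat_lit 0, nat_lit 2, nat_lit 0, nat_lit 1, nat_lit 0, nat_lit 1]))) (.node (nat_lit 85) (.leaf ((nat_lit 52), [nat_lit 0, nat_lit 1, nat_lit 0, nat_lit 1])) (.leaf ((nat_lit 52), [nat_lit 0])))))
 (.node (nat_lit 90) (.node (nat_lit 88) (.node (nat_lit 87) (.leaf ((nat_lit 53), [nat_lit 1, nat_lit 0])) (.leaf ((nat_lit 14), [nat_lit 1, nat_lit 2, nat_lit 0, nat_lit 2, nat_lit 1]))) (.node (nat_lit 89) (.leaf ((nat_lit 3), [nat_lit 2, nat_lit 1, nat_lit 2])) (.leaf ((nat_lit 54), [nat_lit 1, nat_lit 2, nat_lit 1, nat_lit 0, nat_lit 1]))))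
 (.node (nat_lit 92) (.node (nat_lit 91) (.leaf ((nat_lit 55), [nat_lit 2])) (.leaf ((nat_lit 56), [nat_lit 2]))) (.node (nat_lit 93) (.leaf ((nat_lit 56), [nat_lit 2, nat_lit 1, nat_lit 0, nat_lit 1, nat_lit 0, nat_lit 1, nat_lit 0])) (.leaf ((nat_lit 4), [nat_lit 0, nat_lit 1, nat_lit 0, nat_lit 1, nat_lit 0])))))))
 (.node (nat_lit 110) (.node (nat_lit 102) (.node (nat_lit 98) (.node (nat_lit 96) (.node (nat_lit 95) (.leaf ((nat_lit 25), [])) (.leaf ((nat_lit 57), [nat_lit 0, nat_lit 2, nat_lit 0, nat_lit 2, nat_lit 1, nat_lit 0, nat_lit 1, nat_lit 0]))) (.node (nat_lit 97) (.leaf ((nat_lit 58), [nat_lit 0, nat_lit 1, nat_lit 0, nat_lit 1, nat_lit 0])) (.leaf ((nat_lit 59), [nat_lit 2, nat_lit 1, nat_lit 2, nat_lit 0, nat_lit 1, nat_lit 0, nat_lit 1, nat_lit 0]))))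
 (.node (nat_lit 100) (.node (nat_lit 99) (.leaf ((nat_lit 58), [nat_lit 1, nat_lit 2, nat_lit 1, nat_lit 2, nat_lit 0, nat_lit 1, nat_lit 0])) (.leaf ((nat_lit 25), [nat_lit 0, nat_lit 1, nat_lit 0, nat_lit 1, nat_lit 0]))) (.node (nat_lit 101) (.leaf ((nat_lit 4), [])) (.leaf ((nat_lit 60), [nat_lit 2, nat_lit 0, nat_lit 2, nat_lit 1, nat_lit 0, nat_lit 1])))))
 (.node (nat_lit 106) (.node (nat_lit 104) (.node (nat_lit 103) (.leaf ((nat_lit 61), [nat_lit 0, nat_lit 1, nat_lit 0])) (.leaf ((nat_lit 62), [nat_lit 0, nat_lit 1, nat_lit 0]))) (.node (nat_lit 105) (.leaf ((nat_lit 63), [nat_lit 0, nat_lit 2, nat_lit 1, nat_lit 0])) (.leaf ((nat_lit 64), [nat_lit 0, nat_lit 1, nat_lit 0, nat_lit 1, nat_lit 0]))))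
 (.node (nat_lit 108) (.node (nat_lit 107) (.leaf ((nat_lit 65), [])) (.leaf ((nat_lit 4), [nat_lit 0, nat_lit 2, nat_lit 0, nat_lit 2, nat_lit 1, nat_lit 0, nat_lit 1, nat_lit 0]))) (.node (nat_lit 109) (.leaf ((nat_lit 5), [nat_lit 0, nat_lit 2, nat_lit 0, nat_lit 2, nat_lit 0, nat_lit 1, nat_lit 0, nat_lit 1])) (.leaf ((nat_lit 18), [nat_lit 1, nat_lit 0, nat_lit 1]))))))
 (.node (nat_lit 118) (.node (nat_lit 114) (.node (nat_lit 112) (.node (nat_lit 111) (.leaf ((nat_lit 66), [nat_lit 0, nat_lit 2, nat_lit 1])) (.leaf ((nat_lit 18), [nat_lit 0, nat_lit 2, nat_lit 0, nat_lit 2, nat_lit 0]))) (.node (nat_lit 113) (.leaf ((nat_lit 18), [nat_lit 0, nat_lit 1, nat_lit 0, nat_lit 1, nat_lit 0])) (.leaf ((nat_lit 67), [nat_lit 2, nat_lit 0, nat_lit 2, nat_lit 0, nat_lit 1, nat_lit 0, nat_lit 1]))))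
 (.node (nat_lit 116) (.node (nat_lit 115) (.leaf ((nat_lit 66), [nat_lit 1, nat_lit 2, nat_lit 0])) (.leaf ((nat_lit 19), [nat_lit 1, nat_lit 2, nat_lit 1, nat_lit 2, nat_lit 1, nat_lit 0]))) (.node (nat_lit 117) (.leaf ((nat_lit 5), [])) (.leaf ((nat_lit 30), [])))))
 (.node (nat_lit 122) (.node (nat_lit 120) (.node (nat_lit 119) (.leaf ((nat_lit 68), [])) (.leaf ((nat_lit 69), []))) (.node (nat_lit 121) (.leaf ((nat_lit 70), [nat_lit 2, nat_lit 1, nat_lit 2, nat_lit 1])) (.leaf ((nat_lit 70), [nat_lit 2, nat_lit 1, nat_lit 2, nat_lit 1, nat_lit 0, nat_lit 1, nat_lit 0, nat_lit 1, nat_lit 0]))))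
 (.node (nat_lit 124) (.node (nat_lit 123) (.leaf ((nat_lit 71), [nat_lit 1])) (.leaf ((nat_lit 6), [nat_lit 0, nat_lit 1, nat_lit 0, nat_lit 1, nat_lit 0]))) (.node (nat_lit 125) (.leaf ((nat_lit 5), [nat_lit 0, nat_lit 1, nat_lit 0, nat_lit 1, nat_lit 0])) (.leaf ((nat_lit 72), [nat_lit 1, nat_lit 2, nat_lit 1, nat_lit 2, nat_lit 1])))))))))
 (.node (nat_lit 189) (.node (nat_lit 157) (.node (nat_lit 141) (.node (nat_lit 133) (.node (nat_lit 129) (.node (nat_lit 127) (.leaf ((nat_lit 73), [nat_lit 2, nat_lit 0, nat_lit 2, nat_lit 1, nat_lit 0, nat_lit 1])) (.node (nat_lit 128) (.leaf ((nat_lit 74), [nat_lit 2, nat_lit 0, nat_lit 2, nat_lit 1, nat_lit 0, nat_lit 1])) (.leaf ((nat_lit 75), [nat_lit 2, nat_lit 1, nat_lit 2, nat_lit 1, nat_lit 0, nat_lit 1]))))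
 (.node (nat_lit 131) (.node (nat_lit 130) (.leaf ((nat_lit 21), [nat_lit 0, nat_lit 1, nat_lit 0, nat_lit 1, nat_lit 0])) (.leaf ((nat_lit 76), []))) (.node (nat_lit 132) (.leaf ((nat_lit 5), [])) (.leaf ((nat_lit 6), [nat_lit 2, nat_lit 0, nat_lit 2, nat_lit 0])))))
 (.node (nat_lit 137) (.node (nat_lit 135) (.node (nat_lit 134) (.leaf ((nat_lit 22), [nat_lit 2, nat_lit 0, nat_lit 2])) (.leaf ((nat_lit 77), [nat_lit 1, nat_lit 2, nat_lit 1, nat_lit 2, nat_lit 0, nat_lit 1, nat_lit 0]))) (.node (nat_lit 136) (.leaf ((nat_lit 22), [nat_lit 0, nat_lit 1, nat_lit 0, nat_lit 1, nat_lit 0])) (.leaf ((nat_lit 22), [nat_lit 0, nat_lit 2, nat_lit 0, nat_lit 2, nat_lit 0]))))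
 (.node (nat_lit 139) (.node (nat_lit 138) (.leaf ((nat_lit 28), [])) (.leaf ((nat_lit 77), [nat_lit 0, nat_lit 2, nat_lit 1]))) (.node (nat_lit 140) (.leaf ((nat_lit 23), [nat_lit 0, nat_lit 2, nat_lit 0, nat_lit 2, nat_lit 0])) (.leaf ((nat_lit 6), [nat_lit 0, nat_lit 2, nat_lit 1, nat_lit 0, nat_lit 1, nat_lit 0]))))))
 (.node (nat_lit 149) (.node (nat_lit 145) (.node (nat_lit 143) (.node (nat_lit 142) (.leaf ((nat_lit 74), [])) (.leaf ((nat_lit 58), []))) (.node (nat_lit 144) (.leaf ((nat_lit 78), [nat_lit 1, nat_lit 2, nat_lit 1, nat_lit 2])) (.leaf ((nat_lit 79), [nat_lit 0, nat_lit 2, nat_lit 0, nat_lit 1]))))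
 (.node (nat_lit 147) (.node (nat_lit 146) (.leaf ((nat_lit 80), [nat_lit 0, nat_lit 2, nat_lit 0, nat_lit 2, nat_lit 0, nat_lit 1, nat_lit 0, nat_lit 1])) (.leaf ((nat_lit 49), [nat_lit 1, nat_lit 2, nat_lit 0, nat_lit 1, nat_lit 0, nat_lit 1]))) (.node (nat_lit 148) (.leaf ((nat_lit 24), [nat_lit 0, nat_lit 1, nat_lit 0, nat_lit 1, nat_lit 0])) (.leaf ((nat_lit 81), [])))))
 (.node (nat_lit 153) (.node (nat_lit 151) (.node (nat_lit 150) (.leaf ((nat_lit 6), [nat_lit 2, nat_lit 0, nat_lit 2, nat_lit 0, nat_lit 1, nat_lit 0, nat_lit 1])) (.leaf ((nat_lit 7), [nat_lit 2, nat_lit 1, nat_lit 0, nat_lit 1, nat_lit 0, nat_lit 1]))) (.node (nat_lit 152) (.leaf ((nat_lit 82), [nat_lit 2, nat_lit 1, nat_lit 0, nat_lit 1, nat_lit 0, nat_lit 1])) (.leaf ((nat_lit 83), [nat_lit 2, nat_lit 0, nat_lit 1, nat_lit 0]))))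
 (.node (nat_lit 155) (.node (nat_lit 154) (.leaf ((nat_lit 16), [nat_lit 0, nat_lit 1, nat_lit 0, nat_lit 1, nat_lit 0])) (.leaf ((nat_lit 15), []))) (.node (nat_lit 156) (.leaf ((nat_lit 11), [nat_lit 2, nat_lit 0, nat_lit 2, nat_lit 0, nat_lit 1, nat_lit 0, nat_lit 1])) (.leaf ((nat_lit 82), [nat_lit 1, nat_lit 2, nat_lit 1, nat_lit 0, nat_lit 1, nat_lit 0, nat_lit 1])))))))
 (.node (nat_lit 173) (.node (nat_lit 165) (.node (nat_lit 161) (.node (nat_lit 159) (.node (nat_lit 158) (.leaf ((nat_lit 7), [nat_lit 1, nat_lit 2, nat_lit 1, nat_lit 0, nat_lit 1, nat_lit 0, nat_lit 1])) (.leaf ((nat_lit 84), [nat_lit 0, nat_lit 2, nat_lit 0, nat_lit 2, nat_lit 0, nat_lit 1, nat_lit 0]))) (.node (nat_lit 160) (.leaf ((nat_lit 9), [])) (.leaf ((nat_lit 8), [nat_lit 0, nat_lit 2, nat_lit 0, nat_lit 2, nat_lit 1, nat_lit 0, nat_lit 1, nat_lit 0]))))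
 (.node (nat_lit 163) (.node (nat_lit 162) (.leaf ((nat_lit 85), [nat_lit 2, nat_lit 0, nat_lit 2, nat_lit 0, nat_lit 1, nat_lit 0, nat_lit 1])) (.leaf ((nat_lit 83), [nat_lit 1, nat_lit 2, nat_lit 0, nat_lit 2, nat_lit 1]))) (.node (nat_lit 164) (.leaf ((nat_lit 84), [nat_lit 1, nat_lit 2, nat_lit 0, nat_lit 2, nat_lit 1])) (.leaf ((nat_lit 7), [nat_lit 1, nat_lit 2, nat_lit 1, nat_lit 2, nat_lit 1, nat_lit 0, nat_lit 1])))))
 (.node (nat_lit 169) (.node (nat_lit 167) (.node (nat_lit 166) (.leaf ((nat_lit 68), [nat_lit 2, nat_lit 1, nat_lit 2])) (.leaf ((nat_lit 30), [nat_lit 2, nat_lit 1, nat_lit 2]))) (.node (nat_lit 168) (.leaf ((nat_lit 86), [nat_lit 1, nat_lit 2])) (.leaf ((nat_lit 68), [nat_lit 2, nat_lit 0, nat_lit 2, nat_lit 1]))))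
 (.node (nat_lit 171) (.node (nat_lit 170) (.leaf ((nat_lit 87), [nat_lit 2, nat_lit 0, nat_lit 2, nat_lit 1])) (.leaf ((nat_lit 68), [nat_lit 1]))) (.node (nat_lit 172) (.leaf ((nat_lit 7), [])) (.leaf ((nat_lit 71), [nat_lit 0, nat_lit 1, nat_lit 0, nat_lit 1, nat_lit 0]))))))
 (.node (nat_lit 181) (.node (nat_lit 177) (.node (nat_lit 175) (.node (nat_lit 174) (.leaf ((nat_lit 22), [])) (.leaf ((nat_lit 88), [nat_lit 0, nat_lit 2, nat_lit 0, nat_lit 2, nat_lit 1, nat_lit 0, nat_lit 1, nat_lit 0, nat_lit 1, nat_lit 0]))) (.node (nat_lit 176) (.leaf ((nat_lit 89), [nat_lit 0, nat_lit 2, nat_lit 0, nat_lit 1, nat_lit 0, nat_lit 1])) (.leaf ((nat_lit 89), [nat_lit 0, nat_lit 2, nat_lit 0]))))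
 (.node (nat_lit 179) (.node (nat_lit 178) (.leaf ((nat_lit 71), [nat_lit 0, nat_lit 1, nat_lit 0, nat_lit 1, nat_lit 0])) (.leaf ((nat_lit 7), []))) (.node (nat_lit 180) (.leaf ((nat_lit 90), [nat_lit 1, nat_lit 2, nat_lit 1, nat_lit 2, nat_lit 1])) (.leaf ((nat_lit 8), [nat_lit 1, nat_lit 2, nat_lit 0])))))
 (.node (nat_lit 185) (.node (nat_lit 183) (.node (nat_lit 182) (.leaf ((nat_lit 32), [nat_lit 2, nat_lit 1, nat_lit 2])) (.leaf ((nat_lit 31), [nat_lit 0, nat_lit 2, nat_lit 1]))) (.node (nat_lit 184) (.leaf ((nat_lit 19), [])) (.leaf ((nat_lit 27), [nat_lit 2, nat_lit 1, nat_lit 2]))))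
 (.node (nat_lit 187) (.node (nat_lit 186) (.leaf ((nat_lit 91), [])) (.leaf ((nat_lit 32), []))) (.node (nat_lit 188) (.leaf ((nat_lit 8), [nat_lit 0, nat_lit 2, nat_lit 0, nat_lit 2, nat_lit 0])) (.leaf ((nat_lit 30), [nat_lit 1, nat_lit 2, nat_lit 0]))))))))
 (.node (nat_lit 220) (.node (nat_lit 204) (.node (nat_lit 196) (.node (nat_lit 192) (.node (nat_lit 190) (.leaf ((nat_lit 56), [])) (.node (nat_lit 191) (.leaf ((nat_lit 89), [])) (.leaf ((nat_lit 31), [nat_lit 1]))))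
 (.node (nat_lit 194) (.node (nat_lit 193) (.leaf ((nat_lit 31), [])) (.leaf ((nat_lit 30), [nat_lit 2, nat_lit 1, nat_lit 2]))) (.node (nat_lit 195) (.leaf ((nat_lit 8), [nat_lit 1, nat_lit 2, nat_lit 1, nat_lit 2, nat_lit 1, nat_lit 0, nat_lit 1, nat_lit 0, nat_lit 1])) (.leaf ((nat_lit 32), [nat_lit 0, nat_lit 2, nat_lit 0, nat_lit 2, nat_lit 0])))))
 (.node (nat_lit 200) (.node (nat_lit 198) (.node (nat_lit 197) (.leaf ((nat_lit 92), [nat_lit 0, nat_lit 2, nat_lit 0, nat_lit 2, nat_lit 0])) (.leaf ((nat_lit 43), [nat_lit 1, nat_lit 2, nat_lit 1, nat_lit 2, nat_lit 1]))) (.node (nat_lit 199) (.leaf ((nat_lit 93), [nat_lit 2, nat_lit 1, nat_lit 2, nat_lit 1])) (.leaf ((nat_lit 94), [nat_lit 2, nat_lit 1, nat_lit 2, nat_lit 1]))))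
 (.node (nat_lit 202) (.node (nat_lit 201) (.leaf ((nat_lit 95), [nat_lit 2, nat_lit 1, nat_lit 2, nat_lit 0, nat_lit 1, nat_lit 0, nat_lit 1])) (.leaf ((nat_lit 57), []))) (.node (nat_lit 203) (.leaf ((nat_lit 96), [nat_lit 0, nat_lit 1, nat_lit 0, nat_lit 1, nat_lit 0])) (.leaf ((nat_lit 8), [nat_lit 0, nat_lit 2, nat_lit 0, nat_lit 2, nat_lit 1, nat_lit 0, nat_lit 1, nat_lit 0]))))))
 (.node (nat_lit 212) (.node (nat_lit 208) (.node (nat_lit 206) (.node (nat_lit 205) (.leaf ((nat_lit 9), [nat_lit 1, nat_lit 2, nat_lit 1, nat_lit 0, nat_lit 1])) (.leaf ((nat_lit 97), [nat_lit 2]))) (.node (nat_lit 207) (.leaf ((nat_lit 34), [nat_lit 1, nat_lit 0, nat_lit 1])) (.leaf ((nat_lit 98), []))))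
 (.node (nat_lit 210) (.node (nat_lit 209) (.leaf ((nat_lit 77), [nat_lit 2, nat_lit 1, nat_lit 2])) (.leaf ((nat_lit 83), [nat_lit 1]))) (.node (nat_lit 211) (.leaf ((nat_lit 97), [nat_lit 2])) (.leaf ((nat_lit 9), [nat_lit 1, nat_lit 2, nat_lit 1, nat_lit 0, nat_lit 1])))))
 (.node (nat_lit 216) (.node (nat_lit 214) (.node (nat_lit 213) (.leaf ((nat_lit 35), [nat_lit 1, nat_lit 0, nat_lit 1])) (.leaf ((nat_lit 87), [nat_lit 2, nat_lit 1, nat_lit 2]))) (.node (nat_lit 215) (.leaf ((nat_lit 59), [nat_lit 2, nat_lit 1, nat_lit 2])) (.leaf ((nat_lit 99), [nat_lit 1, nat_lit 2, nat_lit 1]))))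
 (.node (nat_lit 218) (.node (nat_lit 217) (.leaf ((nat_lit 39), [nat_lit 0, nat_lit 2, nat_lit 1, nat_lit 0, nat_lit 1, nat_lit 0])) (.leaf ((nat_lit 100), [nat_lit 0, nat_lit 2, nat_lit 0, nat_lit 2, nat_lit 1, nat_lit 0]))) (.node (nat_lit 219) (.leaf ((nat_lit 37), [nat_lit 2, nat_lit 0, nat_lit 1, nat_lit 0])) (.leaf ((nat_lit 36), [nat_lit 0, nat_lit 1, nat_lit 0, nat_lit 1, nat_lit 0])))))))
 (.node (nat_lit 236) (.node (nat_lit 228) (.node (nat_lit 224) (.node (nat_lit 222) (.node (nat_lit 221) (.leaf ((nat_lit 101), [nat_lit 0, nat_lit 2, nat_lit 0, nat_lit 2, nat_lit 0])) (.leaf ((nat_lit 9), [nat_lit 1, nat_lit 2, nat_lit 1, nat_lit 2, nat_lit 1, nat_lit 0, nat_lit 1, nat_lit 0, nat_lit 1, nat_lit 0]))) (.node (nat_lit 223) (.leaf ((nat_lit 10), [nat_lit 2, nat_lit 0, nat_lit 2, nat_lit 1, nat_lit 0, nat_lit 1, nat_lit 0, nat_lit 1, nat_lit 0])) (.leaf ((nat_lit 102),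 [nat_lit 2, nat_lit 0, nat_lit 2, nat_lit 1, nat_lit 0, nat_lit 1, nat_lit 0, nat_lit 1, nat_lit 0]))))
 (.node (nat_lit 226) (.node (nat_lit 225) (.leaf ((nat_lit 36), [nat_lit 2, nat_lit 0, nat_lit 1, nat_lit 0])) (.leaf ((nat_lit 103), []))) (.node (nat_lit 227) (.leaf ((nat_lit 104), [])) (.leaf ((nat_lit 37), [nat_lit 1, nat_lit 2, nat_lit 1, nat_lit 2, nat_lit 1])))))
 (.node (nat_lit 232) (.node (nat_lit 230) (.node (nat_lit 229) (.leaf ((nat_lit 102), [nat_lit 2, nat_lit 0, nat_lit 2, nat_lit 1, nat_lit 0, nat_lit 1, nat_lit 0, nat_lit 1, nat_lit 0])) (.leaf ((nat_lit 10), [nat_lit 2, nat_lit 0, nat_lit 2, nat_lit 1, nat_lit 0, nat_lit 1, nat_lit 0, nat_lit 1, nat_lit 0]))) (.node (nat_lit 231) (.leaf ((nat_lit 51), [nat_lit 2, nat_lit 1, nat_lit 2, nat_lit 1, nat_lit 0, nat_lit 1, nat_lit 0, nat_lit 1])) (.leaf ((nat_lit 94), [nat_lit 2, nat_lit 1, nat_lit 2]))))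
 (.node (nat_lit 234) (.node (nat_lit 233) (.leaf ((nat_lit 94), [])) (.leaf ((nat_lit 104), [nat_lit 2, nat_lit 1, nat_lit 2, nat_lit 1]))) (.node (nat_lit 235) (.leaf ((nat_lit 36), [nat_lit 0, nat_lit 2, nat_lit 1, nat_lit 0, nat_lit 1, nat_lit 0, nat_lit 1])) (.leaf ((nat_lit 51), [nat_lit 0, nat_lit 2]))))))
 (.node (nat_lit 244) (.node (nat_lit 240) (.node (nat_lit 238) (.node (nat_lit 237) (.leaf ((nat_lit 10), [nat_lit 0, nat_lit 1])) (.leaf ((nat_lit 79), []))) (.node (nat_lit 239) (.leaf ((nat_lit 105), [nat_lit 2, nat_lit 1, nat_lit 2])) (.leaf ((nat_lit 84), [nat_lit 2, nat_lit 1]))))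
 (.node (nat_lit 242) (.node (nat_lit 241) (.leaf ((nat_lit 13), [nat_lit 2, nat_lit 0, nat_lit 2, nat_lit 0, nat_lit 1, nat_lit 0, nat_lit 1, nat_lit 0])) (.leaf ((nat_lit 57), [nat_lit 1, nat_lit 2, nat_lit 1, nat_lit 2, nat_lit 1, nat_lit 0]))) (.node (nat_lit 243) (.leaf ((nat_lit 11), [nat_lit 2, nat_lit 0, nat_lit 2])) (.leaf ((nat_lit 10), [nat_lit 0, nat_lit 1, nat_lit 0, nat_lit 1, nat_lit 0])))))
 (.node (nat_lit 248) (.node (nat_lit 246) (.node (nat_lit 245) (.leaf ((nat_lit 106), [])) (.leaf ((nat_lit 97), [nat_lit 0, nat_lit 2, nat_lit 0, nat_lit 2, nat_lit 1, nat_lit 0, nat_lit 1, nat_lit 0]))) (.node (nat_lit 247) (.leaf ((nat_lit 41), [nat_lit 1, nat_lit 0, nat_lit 1])) (.leaf ((nat_lit 96), [nat_lit 1, nat_lit 0, nat_lit 1]))))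
 (.node (nat_lit 250) (.node (nat_lit 249) (.leaf ((nat_lit 107), [nat_lit 0, nat_lit 2, nat_lit 0, nat_lit 2, nat_lit 0, nat_lit 1, nat_lit 0])) (.leaf ((nat_lit 106), [nat_lit 0, nat_lit 1, nat_lit 0, nat_lit 1, nat_lit 0]))) (.node (nat_lit 251) (.leaf ((nat_lit 10), [])) (.leaf ((nat_lit 108), [nat_lit 1, nat_lit 2, nat_lit 1, nat_lit 2, nat_lit 1]))))))))))
noncomputable def n5Wd_1 : Tr (ℕ × List ℕ) := (.node (nat_lit 378) (.node (nat_lit 315) (.node (nat_lit 283) (.node (nat_lit 267) (.node (nat_lit 259) (.node (nat_lit 255) (.node (nat_lit 253) (.leaf ((nat_lit 12), [nat_lit 1, nat_lit 2, nat_lit 0, nat_lit 1, nat_lit 0, nat_lit 1, nat_lit 0])) (.node (nat_lit 254) (.leaf ((nat_lit 11), [nat_lit 1, nat_lit 2, nat_lit 0, nat_lit 1, nat_lit 0, nat_lit 1, nat_lit 0])) (.leaf ((nat_lit 57), [nat_lit 2, nat_lit 1, nat_lit 0, nat_lit 1]))))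
 (.node (nat_lit 257) (.node (nat_lit 256) (.leaf ((nat_lit 54), [nat_lit 0, nat_lit 1, nat_lit 0, nat_lit 1, nat_lit 0])) (.leaf ((nat_lit 42), [nat_lit 1, nat_lit 0, nat_lit 1]))) (.node (nat_lit 258) (.leaf ((nat_lit 42), [nat_lit 2])) (.leaf ((nat_lit 60), [nat_lit 1, nat_lit 2, nat_lit 1, nat_lit 0, nat_lit 1])))))
 (.node (nat_lit 263) (.node (nat_lit 261) (.node (nat_lit 260) (.leaf ((nat_lit 47), [nat_lit 2])) (.leaf ((nat_lit 109), [nat_lit 2, nat_lit 1, nat_lit 2, nat_lit 1, nat_lit 0, nat_lit 1, nat_lit 0]))) (.node (nat_lit 262) (.leaf ((nat_lit 11), [])) (.leaf ((nat_lit 52), []))))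
 (.node (nat_lit 265) (.node (nat_lit 264) (.leaf ((nat_lit 32), [nat_lit 1, nat_lit 2, nat_lit 1, nat_lit 2, nat_lit 1])) (.leaf ((nat_lit 110), [nat_lit 1, nat_lit 2, nat_lit 0, nat_lit 2, nat_lit 1]))) (.node (nat_lit 266) (.leaf ((nat_lit 44), [nat_lit 1, nat_lit 2, nat_lit 0, nat_lit 2, nat_lit 1])) (.leaf ((nat_lit 111), [nat_lit 2, nat_lit 0, nat_lit 2, nat_lit 0, nat_lit 1, nat_lit 0, nat_lit 1]))))))
 (.node (nat_lit 275) (.node (nat_lit 271) (.node (nat_lit 269) (.node (nat_lit 268) (.leaf ((nat_lit 52), [])) (.leaf ((nat_lit 11), []))) (.node (nat_lit 270) (.leaf ((nat_lit 112), [nat_lit 2, nat_lit 0, nat_lit 2, nat_lit 1, nat_lit 0, nat_lit 1])) (.leaf ((nat_lit 57), [nat_lit 1, nat_lit 2, nat_lit 1, nat_lit 2, nat_lit 0, nat_lit 1, nat_lit 0]))))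
 (.node (nat_lit 273) (.node (nat_lit 272) (.leaf ((nat_lit 13), [nat_lit 2, nat_lit 0, nat_lit 2])) (.leaf ((nat_lit 12), [nat_lit 2, nat_lit 0, nat_lit 2, nat_lit 0, nat_lit 1, nat_lit 0, nat_lit 1, nat_lit 0]))) (.node (nat_lit 274) (.leaf ((nat_lit 113), [nat_lit 0, nat_lit 1, nat_lit 0, nat_lit 1, nat_lit 0])) (.leaf ((nat_lit 114), [nat_lit 0, nat_lit 1, nat_lit 0, nat_lit 1, nat_lit 0])))))
 (.node (nat_lit 279) (.node (nat_lit 277) (.node (nat_lit 276) (.leaf ((nat_lit 63), [nat_lit 2, nat_lit 0, nat_lit 2, nat_lit 0, nat_lit 1, nat_lit 0, nat_lit 1])) (.leaf ((nat_lit 115), [nat_lit 1, nat_lit 2, nat_lit 0, nat_lit 2, nat_lit 1]))) (.node (nat_lit 278) (.leaf ((nat_lit 46), [nat_lit 1, nat_lit 2, nat_lit 0, nat_lit 2, nat_lit 1])) (.leaf ((nat_lit 116), [nat_lit 1]))))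
 (.node (nat_lit 281) (.node (nat_lit 280) (.leaf ((nat_lit 12), [nat_lit 0, nat_lit 1, nat_lit 0, nat_lit 1, nat_lit 0])) (.leaf ((nat_lit 108), []))) (.node (nat_lit 282) (.leaf ((nat_lit 101), [nat_lit 0, nat_lit 1, nat_lit 0, nat_lit 1, nat_lit 0])) (.leaf ((nat_lit 117), [nat_lit 2])))))))
 (.node (nat_lit 299) (.node (nat_lit 291) (.node (nat_lit 287) (.node (nat_lit 285) (.node (nat_lit 284) (.leaf ((nat_lit 43), [nat_lit 2])) (.leaf ((nat_lit 118), [nat_lit 0, nat_lit 2, nat_lit 1, nat_lit 0, nat_lit 1, nat_lit 0, nat_lit 1]))) (.node (nat_lit 286) (.leaf ((nat_lit 108), [])) (.leaf ((nat_lit 12), [nat_lit 0, nat_lit 1, nat_lit 0, nat_lit 1, nat_lit 0]))))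
 (.node (nat_lit 289) (.node (nat_lit 288) (.leaf ((nat_lit 95), [nat_lit 1, nat_lit 2, nat_lit 1, nat_lit 2, nat_lit 1])) (.leaf ((nat_lit 48), [nat_lit 0, nat_lit 2, nat_lit 1, nat_lit 2, nat_lit 1, nat_lit 0, nat_lit 1, nat_lit 0]))) (.node (nat_lit 290) (.leaf ((nat_lit 85), [nat_lit 0, nat_lit 2, nat_lit 1, nat_lit 2, nat_lit 0, nat_lit 1])) (.leaf ((nat_lit 119), [nat_lit 0, nat_lit 2, nat_lit 1, nat_lit 2, nat_lit 0, nat_lit 1, nat_lit 0, nat_lit 1, nat_lit 0])))))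
 (.node (nat_lit 295) (.node (nat_lit 293) (.node (nat_lit 292) (.leaf ((nat_lit 120), [nat_lit 0, nat_lit 2, nat_lit 0, nat_lit 2, nat_lit 1, nat_lit 0, nat_lit 1, nat_lit 0])) (.leaf ((nat_lit 51), [nat_lit 0, nat_lit 1, nat_lit 0, nat_lit 1, nat_lit 0]))) (.node (nat_lit 294) (.leaf ((nat_lit 12), [])) (.leaf ((nat_lit 121), [nat_lit 1, nat_lit 2, nat_lit 1, nat_lit 2, nat_lit 1, nat_lit 0]))))
 (.node (nat_lit 297) (.node (nat_lit 296) (.leaf ((nat_lit 122), [nat_lit 1, nat_lit 2, nat_lit 0])) (.leaf ((nat_lit 24), [nat_lit 1, nat_lit 2, nat_lit 0, nat_lit 1, nat_lit 0, nat_lit 1]))) (.node (nat_lit 298) (.leaf ((nat_lit 13), [nat_lit 0, nat_lit 1, nat_lit 0, nat_lit 1, nat_lit 0])) (.leaf ((nat_lit 123), []))))))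
 (.node (nat_lit 307) (.node (nat_lit 303) (.node (nat_lit 301) (.node (nat_lit 300) (.leaf ((nat_lit 124), [nat_lit 1, nat_lit 2, nat_lit 1, nat_lit 2, nat_lit 1, nat_lit 0, nat_lit 1, nat_lit 0, nat_lit 1, nat_lit 0])) (.leaf ((nat_lit 62), [nat_lit 1, nat_lit 0]))) (.node (nat_lit 302) (.leaf ((nat_lit 61), [nat_lit 1, nat_lit 0])) (.leaf ((nat_lit 125), [nat_lit 0, nat_lit 2, nat_lit 1, nat_lit 0]))))
 (.node (nat_lit 305) (.node (nat_lit 304) (.leaf ((nat_lit 123), [])) (.leaf ((nat_lit 13), [nat_lit 0, nat_lit 1, nat_lit 0, nat_lit 1, nat_lit 0]))) (.node (nat_lit 306) (.leaf ((nat_lit 102), [nat_lit 0, nat_lit 2, nat_lit 0, nat_lit 2, nat_lit 1, nat_lit 0, nat_lit 1, nat_lit 0])) (.leaf ((nat_lit 100), [nat_lit 2, nat_lit 1, nat_lit 0])))))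
 (.node (nat_lit 311) (.node (nat_lit 309) (.node (nat_lit 308) (.leaf ((nat_lit 39), [nat_lit 2, nat_lit 0])) (.leaf ((nat_lit 38), [nat_lit 0, nat_lit 2, nat_lit 0, nat_lit 2, nat_lit 0, nat_lit 1, nat_lit 0]))) (.node (nat_lit 310) (.leaf ((nat_lit 126), [])) (.leaf ((nat_lit 48), [nat_lit 0, nat_lit 1, nat_lit 0, nat_lit 1, nat_lit 0]))))
 (.node (nat_lit 313) (.node (nat_lit 312) (.leaf ((nat_lit 13), [nat_lit 1, nat_lit 2, nat_lit 1, nat_lit 2, nat_lit 1, nat_lit 0, nat_lit 1, nat_lit 0, nat_lit 1, nat_lit 0])) (.leaf ((nat_lit 14), [nat_lit 1, nat_lit 0, nat_lit 1, nat_lit 0]))) (.node (nat_lit 314) (.leaf ((nat_lit 14), [nat_lit 0])) (.leaf ((nat_lit 127), [nat_lit 0, nat_lit 2, nat_lit 1, nat_lit 2, nat_lit 1, nat_lit 0, nat_lit 1, nat_lit 0]))))))))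
 (.node (nat_lit 346) (.node (nat_lit 330) (.node (nat_lit 322) (.node (nat_lit 318) (.node (nat_lit 316) (.leaf ((nat_lit 44), [])) (.node (nat_lit 317) (.leaf ((nat_lit 43), [])) (.leaf ((nat_lit 128), [nat_lit 2, nat_lit 0, nat_lit 2, nat_lit 1, nat_lit 0, nat_lit 1]))))
 (.node (nat_lit 320) (.node (nat_lit 319) (.leaf ((nat_lit 127), [nat_lit 0, nat_lit 2, nat_lit 1, nat_lit 2, nat_lit 0, nat_lit 1])) (.leaf ((nat_lit 127), [nat_lit 0, nat_lit 2, nat_lit 1, nat_lit 2, nat_lit 1, nat_lit 0, nat_lit 1, nat_lit 0, nat_lit 1]))) (.node (nat_lit 321) (.leaf ((nat_lit 14), [nat_lit 0, nat_lit 1])) (.leaf ((nat_lit 124), [])))))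
 (.node (nat_lit 326) (.node (nat_lit 324) (.node (nat_lit 323) (.leaf ((nat_lit 125), [nat_lit 0, nat_lit 2, nat_lit 0, nat_lit 2, nat_lit 0])) (.leaf ((nat_lit 113), [nat_lit 2, nat_lit 0, nat_lit 2, nat_lit 0, nat_lit 1, nat_lit 0, nat_lit 1]))) (.node (nat_lit 325) (.leaf ((nat_lit 108), [nat_lit 1, nat_lit 2, nat_lit 0, nat_lit 2, nat_lit 0, nat_lit 1, nat_lit 0])) (.leaf ((nat_lit 108), [nat_lit 2, nat_lit 1, nat_lit 2]))))
 (.node (nat_lit 328) (.node (nat_lit 327) (.leaf ((nat_lit 90), [nat_lit 1, nat_lit 2, nat_lit 0, nat_lit 2, nat_lit 1, nat_lit 0])) (.leaf ((nat_lit 42), [nat_lit 0, nat_lit 1, nat_lit 0, nat_lit 1, nat_lit 0]))) (.node (nat_lit 329) (.leaf ((nat_lit 54), [nat_lit 0])) (.leaf ((nat_lit 14), [nat_lit 2, nat_lit 0, nat_lit 1, nat_lit 0, nat_lit 1, nat_lit 0]))))))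
 (.node (nat_lit 338) (.node (nat_lit 334) (.node (nat_lit 332) (.node (nat_lit 331) (.leaf ((nat_lit 15), [nat_lit 2])) (.leaf ((nat_lit 92), [nat_lit 2]))) (.node (nat_lit 333) (.leaf ((nat_lit 92), [nat_lit 2, nat_lit 1, nat_lit 0, nat_lit 1])) (.leaf ((nat_lit 66), []))))
 (.node (nat_lit 336) (.node (nat_lit 335) (.leaf ((nat_lit 84), [])) (.leaf ((nat_lit 100), [nat_lit 1, nat_lit 2, nat_lit 1, nat_lit 2]))) (.node (nat_lit 337) (.leaf ((nat_lit 92), [nat_lit 2])) (.leaf ((nat_lit 15), [nat_lit 2])))))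
 (.node (nat_lit 342) (.node (nat_lit 340) (.node (nat_lit 339) (.leaf ((nat_lit 15), [nat_lit 2, nat_lit 1, nat_lit 0, nat_lit 1])) (.leaf ((nat_lit 31), []))) (.node (nat_lit 341) (.leaf ((nat_lit 73), [])) (.leaf ((nat_lit 98), [nat_lit 1]))))
 (.node (nat_lit 344) (.node (nat_lit 343) (.leaf ((nat_lit 45), [nat_lit 2, nat_lit 0, nat_lit 2, nat_lit 0, nat_lit 1, nat_lit 0, nat_lit 1, nat_lit 0])) (.leaf ((nat_lit 40), [nat_lit 1, nat_lit 2, nat_lit 1, nat_lit 2, nat_lit 1, nat_lit 0]))) (.node (nat_lit 345) (.leaf ((nat_lit 42), [nat_lit 2, nat_lit 1, nat_lit 0, nat_lit 1, nat_lit 0, nat_lit 1, nat_lit 0])) (.leaf ((nat_lit 33), [])))))))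
 (.node (nat_lit 362) (.node (nat_lit 354) (.node (nat_lit 350) (.node (nat_lit 348) (.node (nat_lit 347) (.leaf ((nat_lit 129), [])) (.leaf ((nat_lit 15), [nat_lit 0, nat_lit 2, nat_lit 0, nat_lit 2, nat_lit 1, nat_lit 0, nat_lit 1, nat_lit 0]))) (.node (nat_lit 349) (.leaf ((nat_lit 16), [nat_lit 0, nat_lit 1, nat_lit 0, nat_lit 1, nat_lit 0])) (.leaf ((nat_lit 130), [nat_lit 0, nat_lit 2, nat_lit 0, nat_lit 2, nat_lit 1, nat_lit 0, nat_lit 1, nat_lit 0]))))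
 (.node (nat_lit 352) (.node (nat_lit 351) (.leaf ((nat_lit 16), [nat_lit 2, nat_lit 0, nat_lit 2, nat_lit 0, nat_lit 1, nat_lit 0, nat_lit 1, nat_lit 0])) (.leaf ((nat_lit 83), []))) (.node (nat_lit 353) (.leaf ((nat_lit 23), [])) (.leaf ((nat_lit 58), [nat_lit 1])))))
 (.node (nat_lit 358) (.node (nat_lit 356) (.node (nat_lit 355) (.leaf ((nat_lit 130), [nat_lit 2, nat_lit 1, nat_lit 0, nat_lit 1, nat_lit 0])) (.leaf ((nat_lit 16), [nat_lit 1, nat_lit 2, nat_lit 0, nat_lit 2, nat_lit 0, nat_lit 1, nat_lit 0]))) (.node (nat_lit 357) (.leaf ((nat_lit 130), [nat_lit 0, nat_lit 2, nat_lit 1, nat_lit 0, nat_lit 1, nat_lit 0])) (.leaf ((nat_lit 131), []))))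
 (.node (nat_lit 360) (.node (nat_lit 359) (.leaf ((nat_lit 35), [nat_lit 2, nat_lit 1, nat_lit 2])) (.leaf ((nat_lit 109), [nat_lit 1, nat_lit 2, nat_lit 1, nat_lit 2]))) (.node (nat_lit 361) (.leaf ((nat_lit 43), [nat_lit 2, nat_lit 0, nat_lit 1, nat_lit 0, nat_lit 1, nat_lit 0])) (.leaf ((nat_lit 117), [nat_lit 2, nat_lit 0, nat_lit 1, nat_lit 0, nat_lit 1, nat_lit 0]))))))
 (.node (nat_lit 370) (.node (nat_lit 366) (.node (nat_lit 364) (.node (nat_lit 363) (.leaf ((nat_lit 103), [nat_lit 0, nat_lit 2, nat_lit 0, nat_lit 2, nat_lit 0, nat_lit 1, nat_lit 0, nat_lit 1])) (.leaf ((nat_lit 60), [nat_lit 0, nat_lit 1, nat_lit 0, nat_lit 1, nat_lit 0]))) (.node (nat_lit 365) (.leaf ((nat_lit 110), [])) (.leaf ((nat_lit 16), [nat_lit 2, nat_lit 0, nat_lit 2, nat_lit 1, nat_lit 0, nat_lit 1]))))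
 (.node (nat_lit 368) (.node (nat_lit 367) (.leaf ((nat_lit 17), [nat_lit 0, nat_lit 1, nat_lit 0])) (.leaf ((nat_lit 50), [nat_lit 0, nat_lit 1]))) (.node (nat_lit 369) (.leaf ((nat_lit 99), [nat_lit 0])) (.leaf ((nat_lit 132), [nat_lit 2, nat_lit 1, nat_lit 2])))))
 (.node (nat_lit 374) (.node (nat_lit 372) (.node (nat_lit 371) (.leaf ((nat_lit 132), [])) (.leaf ((nat_lit 61), [nat_lit 2]))) (.node (nat_lit 373) (.leaf ((nat_lit 50), [nat_lit 0, nat_lit 1])) (.leaf ((nat_lit 17), [nat_lit 0, nat_lit 1, nat_lit 0]))))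
 (.node (nat_lit 376) (.node (nat_lit 375) (.leaf ((nat_lit 86), [nat_lit 0])) (.leaf ((nat_lit 104), []))) (.node (nat_lit 377) (.leaf ((nat_lit 103), [])) (.leaf ((nat_lit 119), [nat_lit 1, nat_lit 2, nat_lit 1, nat_lit 2])))))))))
 (.node (nat_lit 441) (.node (nat_lit 409) (.node (nat_lit 393) (.node (nat_lit 385) (.node (nat_lit 381) (.node (nat_lit 379) (.leaf ((nat_lit 99), [nat_lit 2, nat_lit 0])) (.node (nat_lit 380) (.leaf ((nat_lit 86), [nat_lit 2, nat_lit 0])) (.leaf ((nat_lit 17), [nat_lit 1, nat_lit 2, nat_lit 1, nat_lit 0, nat_lit 1, nat_lit 0, nat_lit 1]))))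
 (.node (nat_lit 383) (.node (nat_lit 382) (.leaf ((nat_lit 133), [nat_lit 0, nat_lit 1, nat_lit 0, nat_lit 1, nat_lit 0])) (.leaf ((nat_lit 63), [nat_lit 0, nat_lit 1, nat_lit 0, nat_lit 1, nat_lit 0]))) (.node (nat_lit 384) (.leaf ((nat_lit 45), [nat_lit 1, nat_lit 2, nat_lit 1, nat_lit 2, nat_lit 1, nat_lit 0, nat_lit 1, nat_lit 0, nat_lit 1, nat_lit 0])) (.leaf ((nat_lit 132), [nat_lit 2, nat_lit 1, nat_lit 2, nat_lit 1])))))
 (.node (nat_lit 389) (.node (nat_lit 387) (.node (nat_lit 386) (.leaf ((nat_lit 134), [nat_lit 2, nat_lit 1, nat_lit 2, nat_lit 1])) (.leaf ((nat_lit 132), [nat_lit 2, nat_lit 0, nat_lit 2, nat_lit 0, nat_lit 1, nat_lit 0, nat_lit 1]))) (.node (nat_lit 388) (.leaf ((nat_lit 17), [nat_lit 0, nat_lit 1, nat_lit 0, nat_lit 1, nat_lit 0])) (.leaf ((nat_lit 135), [nat_lit 0, nat_lit 1, nat_lit 0, nat_lit 1, nat_lit 0]))))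
 (.node (nat_lit 391) (.node (nat_lit 390) (.leaf ((nat_lit 130), [nat_lit 0, nat_lit 2, nat_lit 0, nat_lit 2, nat_lit 0])) (.leaf ((nat_lit 136), [nat_lit 1, nat_lit 0, nat_lit 1, nat_lit 0, nat_lit 1, nat_lit 0]))) (.node (nat_lit 392) (.leaf ((nat_lit 137), [nat_lit 2, nat_lit 1, nat_lit 0, nat_lit 1, nat_lit 0, nat_lit 1, nat_lit 0])) (.leaf ((nat_lit 65), [nat_lit 1, nat_lit 0, nat_lit 1, nat_lit 0, nat_lit 1, nat_lit 0]))))))
 (.node (nat_lit 401) (.node (nat_lit 397) (.node (nat_lit 395) (.node (nat_lit 394) (.leaf ((nat_lit 135), [])) (.leaf ((nat_lit 17), []))) (.node (nat_lit 396) (.leaf ((nat_lit 126), [nat_lit 2, nat_lit 0, nat_lit 2, nat_lit 0, nat_lit 1, nat_lit 0, nat_lit 1])) (.leaf ((nat_lit 19), [nat_lit 0, nat_lit 2, nat_lit 1]))))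
 (.node (nat_lit 399) (.node (nat_lit 398) (.leaf ((nat_lit 66), [nat_lit 0, nat_lit 2, nat_lit 0, nat_lit 2, nat_lit 0])) (.leaf ((nat_lit 18), [nat_lit 1, nat_lit 2, nat_lit 0]))) (.node (nat_lit 400) (.leaf ((nat_lit 55), [])) (.leaf ((nat_lit 138), [nat_lit 2, nat_lit 1, nat_lit 2])))))
 (.node (nat_lit 405) (.node (nat_lit 403) (.node (nat_lit 402) (.leaf ((nat_lit 139), [nat_lit 1, nat_lit 2, nat_lit 1])) (.leaf ((nat_lit 140), [nat_lit 0, nat_lit 2, nat_lit 1, nat_lit 0, nat_lit 1, nat_lit 0, nat_lit 1]))) (.node (nat_lit 404) (.leaf ((nat_lit 141), [nat_lit 0, nat_lit 2, nat_lit 1, nat_lit 0, nat_lit 1, nat_lit 0, nat_lit 1])) (.leaf ((nat_lit 142), [nat_lit 1, nat_lit 0, nat_lit 1, nat_lit 0]))))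
 (.node (nat_lit 407) (.node (nat_lit 406) (.leaf ((nat_lit 72), [])) (.leaf ((nat_lit 127), [nat_lit 0, nat_lit 1, nat_lit 0, nat_lit 1, nat_lit 0]))) (.node (nat_lit 408) (.leaf ((nat_lit 18), [nat_lit 1, nat_lit 2, nat_lit 1, nat_lit 2, nat_lit 1, nat_lit 0, nat_lit 1, nat_lit 0, nat_lit 1, nat_lit 0])) (.leaf ((nat_lit 28), [nat_lit 1, nat_lit 2, nat_lit 0, nat_lit 2])))))))
 (.node (nat_lit 425) (.node (nat_lit 417) (.node (nat_lit 413) (.node (nat_lit 411) (.node (nat_lit 410) (.leaf ((nat_lit 143), [nat_lit 1, nat_lit 2, nat_lit 0, nat_lit 2])) (.leaf ((nat_lit 28), [nat_lit 1]))) (.node (nat_lit 412) (.leaf ((nat_lit 27), [nat_lit 2, nat_lit 1, nat_lit 2])) (.leaf ((nat_lit 19), []))))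
 (.node (nat_lit 415) (.node (nat_lit 414) (.leaf ((nat_lit 140), [nat_lit 2])) (.leaf ((nat_lit 135), [nat_lit 0, nat_lit 2, nat_lit 1, nat_lit 2, nat_lit 1, nat_lit 0]))) (.node (nat_lit 416) (.leaf ((nat_lit 106), [nat_lit 0, nat_lit 2, nat_lit 1, nat_lit 2, nat_lit 1])) (.leaf ((nat_lit 144), [nat_lit 0, nat_lit 2, nat_lit 1, nat_lit 2, nat_lit 1, nat_lit 0, nat_lit 1])))))
 (.node (nat_lit 421) (.node (nat_lit 419) (.node (nat_lit 418) (.leaf ((nat_lit 136), [nat_lit 1, nat_lit 2, nat_lit 1, nat_lit 2, nat_lit 1])) (.leaf ((nat_lit 136), [nat_lit 1, nat_lit 2]))) (.node (nat_lit 420) (.leaf ((nat_lit 19), [])) (.leaf ((nat_lit 20), [nat_lit 1, nat_lit 2, nat_lit 1, nat_lit 2]))))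
 (.node (nat_lit 423) (.node (nat_lit 422) (.leaf ((nat_lit 20), [nat_lit 2, nat_lit 0, nat_lit 2, nat_lit 0, nat_lit 1, nat_lit 0])) (.leaf ((nat_lit 145), [nat_lit 1, nat_lit 2, nat_lit 0, nat_lit 2, nat_lit 1, nat_lit 0]))) (.node (nat_lit 424) (.leaf ((nat_lit 70), [nat_lit 1, nat_lit 0, nat_lit 1])) (.leaf ((nat_lit 70), [nat_lit 2, nat_lit 1, nat_lit 2, nat_lit 1, nat_lit 0, nat_lit 1]))))))
 (.node (nat_lit 433) (.node (nat_lit 429) (.node (nat_lit 427) (.node (nat_lit 426) (.leaf ((nat_lit 70), [nat_lit 1])) (.leaf ((nat_lit 145), [nat_lit 0, nat_lit 2, nat_lit 1, nat_lit 2, nat_lit 0]))) (.node (nat_lit 428) (.leaf ((nat_lit 145), [nat_lit 0, nat_lit 2, nat_lit 1, nat_lit 2, nat_lit 1, nat_lit 0, nat_lit 1, nat_lit 0])) (.leaf ((nat_lit 20), [nat_lit 1]))))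
 (.node (nat_lit 431) (.node (nat_lit 430) (.leaf ((nat_lit 29), [nat_lit 0, nat_lit 1, nat_lit 0, nat_lit 1, nat_lit 0])) (.leaf ((nat_lit 28), [nat_lit 0, nat_lit 1, nat_lit 0, nat_lit 1, nat_lit 0]))) (.node (nat_lit 432) (.leaf ((nat_lit 146), [nat_lit 1, nat_lit 2, nat_lit 1, nat_lit 2, nat_lit 1, nat_lit 0, nat_lit 1, nat_lit 0, nat_lit 1, nat_lit 0])) (.leaf ((nat_lit 72), [nat_lit 1, nat_lit 0, nat_lit 1, nat_lit 0, nat_lit 1, nat_lit 0])))))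
 (.node (nat_lit 437) (.node (nat_lit 435) (.node (nat_lit 434) (.leaf ((nat_lit 147), [nat_lit 1, nat_lit 0, nat_lit 1, nat_lit 0, nat_lit 1, nat_lit 0])) (.leaf ((nat_lit 148), [nat_lit 1, nat_lit 2, nat_lit 1, nat_lit 2, nat_lit 0, nat_lit 1, nat_lit 0, nat_lit 1, nat_lit 0]))) (.node (nat_lit 436) (.leaf ((nat_lit 67), [])) (.leaf ((nat_lit 149), []))))
 (.node (nat_lit 439) (.node (nat_lit 438) (.leaf ((nat_lit 20), [nat_lit 1, nat_lit 2, nat_lit 1, nat_lit 2, nat_lit 1])) (.leaf ((nat_lit 21), [nat_lit 2, nat_lit 0, nat_lit 2, nat_lit 1, nat_lit 0, nat_lit 1]))) (.node (nat_lit 440) (.leaf ((nat_lit 75), [nat_lit 2, nat_lit 0, nat_lit 2, nat_lit 1, nat_lit 0, nat_lit 1])) (.leaf ((nat_lit 74), [nat_lit 1, nat_lit 0, nat_lit 1, nat_lit 0, nat_lit 1, nat_lit 0]))))))))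
 (.node (nat_lit 472) (.node (nat_lit 456) (.node (nat_lit 448) (.node (nat_lit 444) (.node (nat_lit 442) (.leaf ((nat_lit 89), [])) (.node (nat_lit 443) (.leaf ((nat_lit 56), [])) (.leaf ((nat_lit 79), [nat_lit 1, nat_lit 2]))))
 (.node (nat_lit 446) (.node (nat_lit 445) (.leaf ((nat_lit 75), [nat_lit 2, nat_lit 0, nat_lit 2, nat_lit 1, nat_lit 0, nat_lit 1])) (.leaf ((nat_lit 21), [nat_lit 2, nat_lit 0, nat_lit 2, nat_lit 1, nat_lit 0, nat_lit 1]))) (.node (nat_lit 447) (.leaf ((nat_lit 73), [nat_lit 1, nat_lit 0, nat_lit 1, nat_lit 0, nat_lit 1, nat_lit 0])) (.leaf ((nat_lit 23), [])))))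
 (.node (nat_lit 452) (.node (nat_lit 450) (.node (nat_lit 449) (.leaf ((nat_lit 83), [])) (.leaf ((nat_lit 150), [nat_lit 1, nat_lit 2, nat_lit 1, nat_lit 2]))) (.node (nat_lit 451) (.leaf ((nat_lit 74), [nat_lit 2, nat_lit 0, nat_lit 2, nat_lit 1, nat_lit 0, nat_lit 1])) (.leaf ((nat_lit 73), [nat_lit 2, nat_lit 0, nat_lit 2, nat_lit 1, nat_lit 0, nat_lit 1]))))
 (.node (nat_lit 454) (.node (nat_lit 453) (.leaf ((nat_lit 21), [nat_lit 2, nat_lit 1, nat_lit 2, nat_lit 1, nat_lit 0, nat_lit 1])) (.leaf ((nat_lit 145), [nat_lit 0, nat_lit 1, nat_lit 0, nat_lit 1, nat_lit 0]))) (.node (nat_lit 455) (.leaf ((nat_lit 82), [])) (.leaf ((nat_lit 151), [nat_lit 2, nat_lit 0, nat_lit 2, nat_lit 0, nat_lit 1, nat_lit 0, nat_lit 1]))))))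
 (.node (nat_lit 464) (.node (nat_lit 460) (.node (nat_lit 458) (.node (nat_lit 457) (.leaf ((nat_lit 89), [nat_lit 0, nat_lit 2, nat_lit 0, nat_lit 1, nat_lit 0, nat_lit 1])) (.leaf ((nat_lit 88), [nat_lit 0, nat_lit 2, nat_lit 0, nat_lit 2, nat_lit 1, nat_lit 0, nat_lit 1, nat_lit 0, nat_lit 1, nat_lit 0]))) (.node (nat_lit 459) (.leaf ((nat_lit 88), [nat_lit 0, nat_lit 2, nat_lit 0, nat_lit 2, nat_lit 0, nat_lit 1, nat_lit 0])) (.leaf ((nat_lit 76), [nat_lit 0, nat_lit 1, nat_lit 0, nat_lit 1, nat_lit 0]))))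
 (.node (nat_lit 462) (.node (nat_lit 461) (.leaf ((nat_lit 21), [])) (.leaf ((nat_lit 152), [nat_lit 0, nat_lit 2, nat_lit 0, nat_lit 2, nat_lit 1, nat_lit 0, nat_lit 1, nat_lit 0]))) (.node (nat_lit 463) (.leaf ((nat_lit 23), [nat_lit 1, nat_lit 2, nat_lit 0])) (.leaf ((nat_lit 77), [nat_lit 1, nat_lit 2, nat_lit 1, nat_lit 2, nat_lit 1, nat_lit 0])))))
 (.node (nat_lit 468) (.node (nat_lit 466) (.node (nat_lit 465) (.leaf ((nat_lit 22), [nat_lit 2, nat_lit 0, nat_lit 2, nat_lit 0, nat_lit 1, nat_lit 0, nat_lit 1, nat_lit 0])) (.leaf ((nat_lit 88), []))) (.node (nat_lit 467) (.leaf ((nat_lit 34), [nat_lit 2, nat_lit 1, nat_lit 2])) (.leaf ((nat_lit 121), [nat_lit 2]))))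
 (.node (nat_lit 470) (.node (nat_lit 469) (.leaf ((nat_lit 133), [nat_lit 1, nat_lit 2, nat_lit 1, nat_lit 2, nat_lit 1, nat_lit 0])) (.leaf ((nat_lit 120), [nat_lit 1, nat_lit 2, nat_lit 1, nat_lit 2, nat_lit 1, nat_lit 0, nat_lit 1, nat_lit 0, nat_lit 1]))) (.node (nat_lit 471) (.leaf ((nat_lit 133), [])) (.leaf ((nat_lit 99), [nat_lit 2, nat_lit 1, nat_lit 2])))))))
 (.node (nat_lit 488) (.node (nat_lit 480) (.node (nat_lit 476) (.node (nat_lit 474) (.node (nat_lit 473) (.leaf ((nat_lit 153), [])) (.leaf ((nat_lit 23), [nat_lit 2, nat_lit 1, nat_lit 2, nat_lit 1]))) (.node (nat_lit 475) (.leaf ((nat_lit 24), [nat_lit 0, nat_lit 2, nat_lit 0, nat_lit 1])) (.leaf ((nat_lit 151), [nat_lit 0, nat_lit 2, nat_lit 0, nat_lit 1]))))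
 (.node (nat_lit 478) (.node (nat_lit 477) (.leaf ((nat_lit 121), [nat_lit 1, nat_lit 0, nat_lit 1])) (.leaf ((nat_lit 39), []))) (.node (nat_lit 479) (.leaf ((nat_lit 154), [nat_lit 2, nat_lit 1, nat_lit 2])) (.leaf ((nat_lit 73), [nat_lit 2, nat_lit 1])))))
 (.node (nat_lit 484) (.node (nat_lit 482) (.node (nat_lit 481) (.leaf ((nat_lit 151), [nat_lit 1, nat_lit 2, nat_lit 1, nat_lit 2, nat_lit 1, nat_lit 0, nat_lit 1, nat_lit 0, nat_lit 1])) (.leaf ((nat_lit 24), [nat_lit 1, nat_lit 2, nat_lit 1, nat_lit 2, nat_lit 1, nat_lit 0, nat_lit 1, nat_lit 0, nat_lit 1]))) (.node (nat_lit 483) (.leaf ((nat_lit 122), [nat_lit 1, nat_lit 0, nat_lit 1])) (.leaf ((nat_lit 116), []))))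
 (.node (nat_lit 486) (.node (nat_lit 485) (.leaf ((nat_lit 155), [nat_lit 2, nat_lit 1, nat_lit 2])) (.leaf ((nat_lit 156), [nat_lit 2, nat_lit 1]))) (.node (nat_lit 487) (.leaf ((nat_lit 154), [nat_lit 0, nat_lit 2, nat_lit 0, nat_lit 2, nat_lit 1, nat_lit 0])) (.leaf ((nat_lit 157), [nat_lit 0, nat_lit 2, nat_lit 0, nat_lit 2, nat_lit 1, nat_lit 0]))))))
 (.node (nat_lit 496) (.node (nat_lit 492) (.node (nat_lit 490) (.node (nat_lit 489) (.leaf ((nat_lit 157), [nat_lit 0, nat_lit 2, nat_lit 0, nat_lit 2, nat_lit 1])) (.leaf ((nat_lit 81), [nat_lit 0, nat_lit 1, nat_lit 0, nat_lit 1, nat_lit 0]))) (.node (nat_lit 491) (.leaf ((nat_lit 24), [])) (.leaf ((nat_lit 158), [nat_lit 0, nat_lit 2, nat_lit 0, nat_lit 2, nat_lit 0]))))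
 (.node (nat_lit 494) (.node (nat_lit 493) (.leaf ((nat_lit 26), [nat_lit 0, nat_lit 2, nat_lit 1, nat_lit 0])) (.leaf ((nat_lit 25), [nat_lit 0, nat_lit 2, nat_lit 1, nat_lit 0, nat_lit 1]))) (.node (nat_lit 495) (.leaf ((nat_lit 98), [nat_lit 2, nat_lit 1, nat_lit 2, nat_lit 1, nat_lit 0])) (.leaf ((nat_lit 152), [])))))
 (.node (nat_lit 500) (.node (nat_lit 498) (.node (nat_lit 497) (.leaf ((nat_lit 75), [])) (.leaf ((nat_lit 82), [nat_lit 0, nat_lit 2, nat_lit 0, nat_lit 2, nat_lit 1, nat_lit 0, nat_lit 1, nat_lit 0]))) (.node (nat_lit 499) (.leaf ((nat_lit 27), [nat_lit 1, nat_lit 2, nat_lit 0, nat_lit 2, nat_lit 1])) (.leaf ((nat_lit 98), [nat_lit 1, nat_lit 2, nat_lit 0, nat_lit 2, nat_lit 1]))))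
 (.node (nat_lit 502) (.node (nat_lit 501) (.leaf ((nat_lit 25), [nat_lit 2, nat_lit 0, nat_lit 1, nat_lit 0])) (.leaf ((nat_lit 58), []))) (.node (nat_lit 503) (.leaf ((nat_lit 74), [])) (.leaf ((nat_lit 34), [nat_lit 1]))))))))))
noncomputable def n5Wd_2 : Tr (ℕ × List ℕ) := (.node (nat_lit 630) (.node (nat_lit 567) (.node (nat_lit 535) (.node (nat_lit 519) (.node (nat_lit 511) (.node (nat_lit 507) (.node (nat_lit 505) (.leaf ((nat_lit 98), [nat_lit 1, nat_lit 2, nat_lit 0, nat_lit 2, nat_lit 1])) (.node (nat_lit 506) (.leaf ((nat_lit 27), [nat_lit 1, nat_lit 2, nat_lit 0, nat_lit 2, nat_lit 1])) (.leaf ((nat_lit 26), [nat_lit 2, nat_lit 1, nat_lit 2, nat_lit 1, nat_lit 0, nat_lit 1, nat_lit 0, nat_lit 1]))))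
 (.node (nat_lit 509) (.node (nat_lit 508) (.leaf ((nat_lit 138), [nat_lit 2, nat_lit 1, nat_lit 2])) (.leaf ((nat_lit 55), []))) (.node (nat_lit 510) (.leaf ((nat_lit 39), [nat_lit 1, nat_lit 2])) (.leaf ((nat_lit 85), [nat_lit 1, nat_lit 0, nat_lit 1, nat_lit 0, nat_lit 1, nat_lit 0])))))
 (.node (nat_lit 515) (.node (nat_lit 513) (.node (nat_lit 512) (.leaf ((nat_lit 48), [nat_lit 0, nat_lit 2, nat_lit 0, nat_lit 2, nat_lit 1, nat_lit 0, nat_lit 1, nat_lit 0, nat_lit 1])) (.leaf ((nat_lit 104), [nat_lit 2, nat_lit 1, nat_lit 0, nat_lit 1, nat_lit 0, nat_lit 1, nat_lit 0]))) (.node (nat_lit 514) (.leaf ((nat_lit 125), [])) (.leaf ((nat_lit 124), [nat_lit 0, nat_lit 2, nat_lit 0, nat_lit 2, nat_lit 0]))))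
 (.node (nat_lit 517) (.node (nat_lit 516) (.leaf ((nat_lit 26), [nat_lit 1, nat_lit 2, nat_lit 1, nat_lit 2, nat_lit 1, nat_lit 0, nat_lit 1, nat_lit 0, nat_lit 1, nat_lit 0])) (.leaf ((nat_lit 125), [nat_lit 0, nat_lit 2, nat_lit 0]))) (.node (nat_lit 518) (.leaf ((nat_lit 63), [nat_lit 0, nat_lit 2])) (.leaf ((nat_lit 62), [nat_lit 0]))))))
 (.node (nat_lit 527) (.node (nat_lit 523) (.node (nat_lit 521) (.node (nat_lit 520) (.leaf ((nat_lit 159), [])) (.leaf ((nat_lit 156), []))) (.node (nat_lit 522) (.leaf ((nat_lit 27), [nat_lit 2, nat_lit 1])) (.leaf ((nat_lit 143), [nat_lit 1, nat_lit 2, nat_lit 0, nat_lit 2]))))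
 (.node (nat_lit 525) (.node (nat_lit 524) (.leaf ((nat_lit 28), [nat_lit 1, nat_lit 2, nat_lit 0, nat_lit 2])) (.leaf ((nat_lit 143), [nat_lit 1]))) (.node (nat_lit 526) (.leaf ((nat_lit 35), [nat_lit 2, nat_lit 1, nat_lit 2])) (.leaf ((nat_lit 131), [])))))
 (.node (nat_lit 531) (.node (nat_lit 529) (.node (nat_lit 528) (.leaf ((nat_lit 111), [nat_lit 2, nat_lit 1, nat_lit 2, nat_lit 1])) (.leaf ((nat_lit 29), [nat_lit 2, nat_lit 1, nat_lit 2, nat_lit 0, nat_lit 1]))) (.node (nat_lit 530) (.leaf ((nat_lit 76), [nat_lit 2, nat_lit 1, nat_lit 2, nat_lit 0, nat_lit 1])) (.leaf ((nat_lit 76), [nat_lit 2, nat_lit 1, nat_lit 2, nat_lit 1, nat_lit 0, nat_lit 1, nat_lit 0, nat_lit 1]))))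
 (.node (nat_lit 533) (.node (nat_lit 532) (.leaf ((nat_lit 77), [])) (.leaf ((nat_lit 98), [nat_lit 2, nat_lit 1, nat_lit 2]))) (.node (nat_lit 534) (.leaf ((nat_lit 160), [nat_lit 2])) (.leaf ((nat_lit 76), [nat_lit 1, nat_lit 2, nat_lit 0, nat_lit 1])))))))
 (.node (nat_lit 551) (.node (nat_lit 543) (.node (nat_lit 539) (.node (nat_lit 537) (.node (nat_lit 536) (.leaf ((nat_lit 29), [nat_lit 1, nat_lit 2, nat_lit 0, nat_lit 1])) (.leaf ((nat_lit 29), [nat_lit 0, nat_lit 2, nat_lit 0]))) (.node (nat_lit 538) (.leaf ((nat_lit 73), [])) (.leaf ((nat_lit 31), []))))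
 (.node (nat_lit 541) (.node (nat_lit 540) (.leaf ((nat_lit 159), [nat_lit 1, nat_lit 2])) (.leaf ((nat_lit 126), [nat_lit 0, nat_lit 2, nat_lit 0, nat_lit 2, nat_lit 0, nat_lit 1]))) (.node (nat_lit 542) (.leaf ((nat_lit 126), [nat_lit 0, nat_lit 2, nat_lit 0, nat_lit 2, nat_lit 1, nat_lit 0, nat_lit 1, nat_lit 0, nat_lit 1])) (.leaf ((nat_lit 54), [nat_lit 1, nat_lit 2, nat_lit 0, nat_lit 2, nat_lit 1, nat_lit 0])))))
 (.node (nat_lit 547) (.node (nat_lit 545) (.node (nat_lit 544) (.leaf ((nat_lit 151), [nat_lit 0, nat_lit 1, nat_lit 0, nat_lit 1, nat_lit 0])) (.leaf ((nat_lit 158), []))) (.node (nat_lit 546) (.leaf ((nat_lit 29), [nat_lit 1, nat_lit 2, nat_lit 1, nat_lit 2, nat_lit 1])) (.leaf ((nat_lit 118), [nat_lit 0, nat_lit 2, nat_lit 0, nat_lit 2, nat_lit 0, nat_lit 1, nat_lit 0, nat_lit 1, nat_lit 0]))))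
 (.node (nat_lit 549) (.node (nat_lit 548) (.leaf ((nat_lit 103), [nat_lit 0, nat_lit 2, nat_lit 0, nat_lit 1, nat_lit 0])) (.leaf ((nat_lit 117), [nat_lit 0, nat_lit 1, nat_lit 0, nat_lit 1]))) (.node (nat_lit 550) (.leaf ((nat_lit 160), [nat_lit 2])) (.leaf ((nat_lit 137), [nat_lit 2, nat_lit 1, nat_lit 2]))))))
 (.node (nat_lit 559) (.node (nat_lit 555) (.node (nat_lit 553) (.node (nat_lit 552) (.leaf ((nat_lit 30), [])) (.leaf ((nat_lit 56), [nat_lit 2]))) (.node (nat_lit 554) (.leaf ((nat_lit 55), [nat_lit 2])) (.leaf ((nat_lit 55), [nat_lit 2, nat_lit 1, nat_lit 0, nat_lit 1, nat_lit 0, nat_lit 1, nat_lit 0]))))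
 (.node (nat_lit 557) (.node (nat_lit 556) (.leaf ((nat_lit 92), [nat_lit 0, nat_lit 2, nat_lit 0, nat_lit 2, nat_lit 0])) (.leaf ((nat_lit 32), [nat_lit 0, nat_lit 2, nat_lit 0, nat_lit 2, nat_lit 0]))) (.node (nat_lit 558) (.leaf ((nat_lit 125), [nat_lit 1, nat_lit 2, nat_lit 1, nat_lit 2, nat_lit 1, nat_lit 0, nat_lit 1, nat_lit 0, nat_lit 1, nat_lit 0])) (.leaf ((nat_lit 33), [nat_lit 1, nat_lit 2, nat_lit 1, nat_lit 2])))))
 (.node (nat_lit 563) (.node (nat_lit 561) (.node (nat_lit 560) (.leaf ((nat_lit 95), [nat_lit 2, nat_lit 0, nat_lit 2, nat_lit 0, nat_lit 1, nat_lit 0])) (.leaf ((nat_lit 94), [nat_lit 1, nat_lit 0, nat_lit 1, nat_lit 0, nat_lit 1, nat_lit 0]))) (.node (nat_lit 562) (.leaf ((nat_lit 118), [])) (.leaf ((nat_lit 119), []))))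
 (.node (nat_lit 565) (.node (nat_lit 564) (.leaf ((nat_lit 103), [nat_lit 1, nat_lit 2, nat_lit 1, nat_lit 2, nat_lit 1])) (.leaf ((nat_lit 95), [nat_lit 2, nat_lit 0, nat_lit 2, nat_lit 0, nat_lit 1, nat_lit 0]))) (.node (nat_lit 566) (.leaf ((nat_lit 33), [nat_lit 1, nat_lit 2, nat_lit 1, nat_lit 2])) (.leaf ((nat_lit 93), [nat_lit 1, nat_lit 0, nat_lit 1, nat_lit 0, nat_lit 1, nat_lit 0]))))))))
 (.node (nat_lit 598) (.node (nat_lit 582) (.node (nat_lit 574) (.node (nat_lit 570) (.node (nat_lit 568) (.leaf ((nat_lit 38), [nat_lit 2, nat_lit 1, nat_lit 2])) (.node (nat_lit 569) (.leaf ((nat_lit 38), [])) (.leaf ((nat_lit 94), [nat_lit 1, nat_lit 2, nat_lit 1]))))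
 (.node (nat_lit 572) (.node (nat_lit 571) (.leaf ((nat_lit 94), [nat_lit 2, nat_lit 1, nat_lit 2, nat_lit 1, nat_lit 0, nat_lit 1, nat_lit 0, nat_lit 1, nat_lit 0])) (.leaf ((nat_lit 93), [nat_lit 2, nat_lit 1, nat_lit 2, nat_lit 1, nat_lit 0, nat_lit 1, nat_lit 0, nat_lit 1, nat_lit 0]))) (.node (nat_lit 573) (.leaf ((nat_lit 33), [nat_lit 1, nat_lit 2, nat_lit 0, nat_lit 2, nat_lit 1, nat_lit 0, nat_lit 1, nat_lit 0, nat_lit 1, nat_lit 0])) (.leaf ((nat_lit 112), [nat_lit 0, nat_lit 1, nat_lit 0, nat_lit 1, nat_lit 0])))))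
 (.node (nat_lit 578) (.node (nat_lit 576) (.node (nat_lit 575) (.leaf ((nat_lit 102), [])) (.leaf ((nat_lit 47), [nat_lit 1, nat_lit 2, nat_lit 1, nat_lit 2, nat_lit 1]))) (.node (nat_lit 577) (.leaf ((nat_lit 96), [nat_lit 1, nat_lit 0, nat_lit 1])) (.leaf ((nat_lit 41), [nat_lit 1, nat_lit 0, nat_lit 1]))))
 (.node (nat_lit 580) (.node (nat_lit 579) (.leaf ((nat_lit 161), [nat_lit 0, nat_lit 2, nat_lit 0])) (.leaf ((nat_lit 129), [nat_lit 0, nat_lit 1, nat_lit 0, nat_lit 1, nat_lit 0]))) (.node (nat_lit 581) (.leaf ((nat_lit 33), [nat_lit 0, nat_lit 1, nat_lit 0, nat_lit 1, nat_lit 0])) (.leaf ((nat_lit 123), [nat_lit 0, nat_lit 2, nat_lit 0, nat_lit 2, nat_lit 1, nat_lit 0, nat_lit 1, nat_lit 0]))))))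
 (.node (nat_lit 590) (.node (nat_lit 586) (.node (nat_lit 584) (.node (nat_lit 583) (.leaf ((nat_lit 35), [nat_lit 2])) (.leaf ((nat_lit 34), [nat_lit 2]))) (.node (nat_lit 585) (.leaf ((nat_lit 97), [nat_lit 1, nat_lit 0, nat_lit 1, nat_lit 0, nat_lit 1, nat_lit 0])) (.leaf ((nat_lit 130), [nat_lit 0, nat_lit 1, nat_lit 0, nat_lit 1, nat_lit 0]))))
 (.node (nat_lit 588) (.node (nat_lit 587) (.leaf ((nat_lit 97), [nat_lit 0, nat_lit 2, nat_lit 0, nat_lit 2, nat_lit 0])) (.leaf ((nat_lit 40), [nat_lit 0, nat_lit 2, nat_lit 0, nat_lit 2, nat_lit 1, nat_lit 0, nat_lit 1, nat_lit 0]))) (.node (nat_lit 589) (.leaf ((nat_lit 84), [nat_lit 1, nat_lit 2, nat_lit 0, nat_lit 2, nat_lit 1])) (.leaf ((nat_lit 83), [nat_lit 1, nat_lit 2, nat_lit 0, nat_lit 2, nat_lit 1])))))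
 (.node (nat_lit 594) (.node (nat_lit 592) (.node (nat_lit 591) (.leaf ((nat_lit 82), [nat_lit 1, nat_lit 2, nat_lit 1, nat_lit 2, nat_lit 1, nat_lit 0, nat_lit 1])) (.leaf ((nat_lit 34), []))) (.node (nat_lit 593) (.leaf ((nat_lit 88), [nat_lit 2, nat_lit 1, nat_lit 2])) (.leaf ((nat_lit 56), [nat_lit 1]))))
 (.node (nat_lit 596) (.node (nat_lit 595) (.leaf ((nat_lit 63), [nat_lit 0, nat_lit 2])) (.leaf ((nat_lit 125), [nat_lit 0, nat_lit 2, nat_lit 0]))) (.node (nat_lit 597) (.leaf ((nat_lit 61), [nat_lit 0])) (.leaf ((nat_lit 78), [nat_lit 2, nat_lit 1, nat_lit 2])))))))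
 (.node (nat_lit 614) (.node (nat_lit 606) (.node (nat_lit 602) (.node (nat_lit 600) (.node (nat_lit 599) (.leaf ((nat_lit 141), [])) (.leaf ((nat_lit 35), [nat_lit 1, nat_lit 2, nat_lit 1]))) (.node (nat_lit 601) (.leaf ((nat_lit 51), [nat_lit 1, nat_lit 2, nat_lit 1, nat_lit 0, nat_lit 1, nat_lit 0, nat_lit 1, nat_lit 0])) (.leaf ((nat_lit 36), [nat_lit 1, nat_lit 2, nat_lit 0, nat_lit 2, nat_lit 1, nat_lit 0, nat_lit 1, nat_lit 0]))))
 (.node (nat_lit 604) (.node (nat_lit 603) (.leaf ((nat_lit 102), [nat_lit 1, nat_lit 2, nat_lit 1, nat_lit 2, nat_lit 1, nat_lit 0, nat_lit 1])) (.leaf ((nat_lit 150), []))) (.node (nat_lit 605) (.leaf ((nat_lit 161), [])) (.leaf ((nat_lit 55), [nat_lit 2, nat_lit 1, nat_lit 2, nat_lit 1])))))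
 (.node (nat_lit 610) (.node (nat_lit 608) (.node (nat_lit 607) (.leaf ((nat_lit 105), [nat_lit 1, nat_lit 2, nat_lit 1, nat_lit 2, nat_lit 1, nat_lit 0])) (.leaf ((nat_lit 139), [nat_lit 1, nat_lit 2, nat_lit 0]))) (.node (nat_lit 609) (.leaf ((nat_lit 124), [nat_lit 1, nat_lit 2, nat_lit 1, nat_lit 2, nat_lit 1, nat_lit 0])) (.leaf ((nat_lit 101), [nat_lit 0, nat_lit 1, nat_lit 0, nat_lit 1, nat_lit 0]))))
 (.node (nat_lit 612) (.node (nat_lit 611) (.leaf ((nat_lit 36), [nat_lit 0, nat_lit 2, nat_lit 0, nat_lit 2, nat_lit 0])) (.leaf ((nat_lit 46), [nat_lit 0, nat_lit 1, nat_lit 0, nat_lit 1, nat_lit 0]))) (.node (nat_lit 613) (.leaf ((nat_lit 38), [nat_lit 2, nat_lit 1, nat_lit 2, nat_lit 0, nat_lit 1, nat_lit 0])) (.leaf ((nat_lit 37), [nat_lit 2, nat_lit 1, nat_lit 2, nat_lit 0, nat_lit 1, nat_lit 0]))))))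
 (.node (nat_lit 622) (.node (nat_lit 618) (.node (nat_lit 616) (.node (nat_lit 615) (.leaf ((nat_lit 100), [nat_lit 2, nat_lit 1, nat_lit 2, nat_lit 1, nat_lit 0])) (.leaf ((nat_lit 162), [nat_lit 0, nat_lit 1, nat_lit 0, nat_lit 1, nat_lit 0]))) (.node (nat_lit 617) (.leaf ((nat_lit 95), [])) (.leaf ((nat_lit 50), [nat_lit 0, nat_lit 2, nat_lit 0, nat_lit 2, nat_lit 1, nat_lit 0, nat_lit 1, nat_lit 0]))))
 (.node (nat_lit 620) (.node (nat_lit 619) (.leaf ((nat_lit 109), [nat_lit 2, nat_lit 1, nat_lit 0, nat_lit 1])) (.leaf ((nat_lit 91), [nat_lit 2, nat_lit 0, nat_lit 1]))) (.node (nat_lit 621) (.leaf ((nat_lit 60), [nat_lit 1, nat_lit 2, nat_lit 1, nat_lit 2, nat_lit 1, nat_lit 0, nat_lit 1, nat_lit 0, nat_lit 1])) (.leaf ((nat_lit 37), [])))))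
 (.node (nat_lit 626) (.node (nat_lit 624) (.node (nat_lit 623) (.leaf ((nat_lit 62), [])) (.leaf ((nat_lit 93), [nat_lit 1, nat_lit 2, nat_lit 1, nat_lit 2, nat_lit 1]))) (.node (nat_lit 625) (.leaf ((nat_lit 104), [nat_lit 1, nat_lit 0, nat_lit 1])) (.leaf ((nat_lit 119), [nat_lit 1, nat_lit 0, nat_lit 1]))))
 (.node (nat_lit 628) (.node (nat_lit 627) (.leaf ((nat_lit 85), [nat_lit 2, nat_lit 1, nat_lit 0, nat_lit 1])) (.leaf ((nat_lit 62), []))) (.node (nat_lit 629) (.leaf ((nat_lit 37), [])) (.leaf ((nat_lit 38), [nat_lit 1, nat_lit 2, nat_lit 1, nat_lit 2])))))))))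
 (.node (nat_lit 693) (.node (nat_lit 661) (.node (nat_lit 645) (.node (nat_lit 637) (.node (nat_lit 633) (.node (nat_lit 631) (.leaf ((nat_lit 101), [nat_lit 1, nat_lit 2, nat_lit 1, nat_lit 2, nat_lit 1, nat_lit 0])) (.node (nat_lit 632) (.leaf ((nat_lit 124), [nat_lit 1, nat_lit 2, nat_lit 1, nat_lit 2, nat_lit 1, nat_lit 0])) (.leaf ((nat_lit 139), [nat_lit 1, nat_lit 2, nat_lit 0]))))
 (.node (nat_lit 635) (.node (nat_lit 634) (.leaf ((nat_lit 154), [])) (.leaf ((nat_lit 39), [nat_lit 2, nat_lit 1, nat_lit 2]))) (.node (nat_lit 636) (.leaf ((nat_lit 122), [nat_lit 2])) (.leaf ((nat_lit 142), [nat_lit 1, nat_lit 2, nat_lit 1, nat_lit 0])))))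
 (.node (nat_lit 641) (.node (nat_lit 639) (.node (nat_lit 638) (.leaf ((nat_lit 69), [nat_lit 1, nat_lit 2, nat_lit 1, nat_lit 2, nat_lit 0])) (.leaf ((nat_lit 140), [nat_lit 0, nat_lit 2, nat_lit 0, nat_lit 2, nat_lit 0, nat_lit 1, nat_lit 0, nat_lit 1]))) (.node (nat_lit 640) (.leaf ((nat_lit 41), [nat_lit 0, nat_lit 1, nat_lit 0, nat_lit 1, nat_lit 0])) (.leaf ((nat_lit 40), []))))
 (.node (nat_lit 643) (.node (nat_lit 642) (.leaf ((nat_lit 115), [nat_lit 2, nat_lit 0, nat_lit 2, nat_lit 1, nat_lit 0, nat_lit 1])) (.leaf ((nat_lit 107), [nat_lit 0, nat_lit 1, nat_lit 0, nat_lit 1, nat_lit 0]))) (.node (nat_lit 644) (.leaf ((nat_lit 161), [nat_lit 2, nat_lit 1, nat_lit 2, nat_lit 0, nat_lit 1, nat_lit 0, nat_lit 1, nat_lit 0])) (.leaf ((nat_lit 41), [nat_lit 2, nat_lit 1, nat_lit 2, nat_lit 1, nat_lit 0, nat_lit 1, nat_lit 0, nat_lit 1]))))))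
 (.node (nat_lit 653) (.node (nat_lit 649) (.node (nat_lit 647) (.node (nat_lit 646) (.leaf ((nat_lit 140), [])) (.leaf ((nat_lit 139), []))) (.node (nat_lit 648) (.leaf ((nat_lit 138), [nat_lit 2])) (.leaf ((nat_lit 54), [nat_lit 2, nat_lit 1, nat_lit 2, nat_lit 0, nat_lit 1, nat_lit 0, nat_lit 1, nat_lit 0]))))
 (.node (nat_lit 651) (.node (nat_lit 650) (.leaf ((nat_lit 54), [nat_lit 2, nat_lit 1, nat_lit 2])) (.leaf ((nat_lit 126), [nat_lit 1]))) (.node (nat_lit 652) (.leaf ((nat_lit 47), [])) (.leaf ((nat_lit 46), [])))))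
 (.node (nat_lit 657) (.node (nat_lit 655) (.node (nat_lit 654) (.leaf ((nat_lit 41), [nat_lit 1, nat_lit 2, nat_lit 1, nat_lit 2, nat_lit 1])) (.leaf ((nat_lit 103), [nat_lit 2, nat_lit 1, nat_lit 0, nat_lit 1, nat_lit 0, nat_lit 1, nat_lit 0]))) (.node (nat_lit 656) (.leaf ((nat_lit 118), [nat_lit 2, nat_lit 0, nat_lit 1, nat_lit 0, nat_lit 1, nat_lit 0])) (.leaf ((nat_lit 43), [nat_lit 0, nat_lit 2, nat_lit 1, nat_lit 2, nat_lit 1, nat_lit 0, nat_lit 1]))))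
 (.node (nat_lit 659) (.node (nat_lit 658) (.leaf ((nat_lit 121), [nat_lit 1, nat_lit 2, nat_lit 1])) (.leaf ((nat_lit 142), []))) (.node (nat_lit 660) (.leaf ((nat_lit 59), [nat_lit 2, nat_lit 1, nat_lit 2, nat_lit 1])) (.leaf ((nat_lit 44), [nat_lit 1, nat_lit 2, nat_lit 0, nat_lit 2, nat_lit 1])))))))
 (.node (nat_lit 677) (.node (nat_lit 669) (.node (nat_lit 665) (.node (nat_lit 663) (.node (nat_lit 662) (.leaf ((nat_lit 110), [nat_lit 1, nat_lit 2, nat_lit 0, nat_lit 2, nat_lit 1])) (.leaf ((nat_lit 156), [nat_lit 2, nat_lit 0, nat_lit 2, nat_lit 0, nat_lit 1, nat_lit 0, nat_lit 1]))) (.node (nat_lit 664) (.leaf ((nat_lit 110), [nat_lit 0, nat_lit 1, nat_lit 0, nat_lit 1, nat_lit 0])) (.leaf ((nat_lit 60), []))))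
 (.node (nat_lit 667) (.node (nat_lit 666) (.leaf ((nat_lit 120), [nat_lit 0, nat_lit 2, nat_lit 0, nat_lit 2, nat_lit 1, nat_lit 0, nat_lit 1, nat_lit 0])) (.leaf ((nat_lit 156), [nat_lit 1, nat_lit 0, nat_lit 1, nat_lit 0, nat_lit 1, nat_lit 0]))) (.node (nat_lit 668) (.leaf ((nat_lit 111), [nat_lit 1, nat_lit 0, nat_lit 1, nat_lit 0, nat_lit 1, nat_lit 0])) (.leaf ((nat_lit 44), [nat_lit 1, nat_lit 2, nat_lit 1, nat_lit 2, nat_lit 1, nat_lit 0, nat_lit 1, nat_lit 0, nat_lit 1, nat_lit 0])))))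
 (.node (nat_lit 673) (.node (nat_lit 671) (.node (nat_lit 670) (.leaf ((nat_lit 139), [])) (.leaf ((nat_lit 140), []))) (.node (nat_lit 672) (.leaf ((nat_lit 87), [nat_lit 1, nat_lit 2, nat_lit 1, nat_lit 2])) (.leaf ((nat_lit 122), [nat_lit 1, nat_lit 2, nat_lit 0]))))
 (.node (nat_lit 675) (.node (nat_lit 674) (.leaf ((nat_lit 121), [nat_lit 1, nat_lit 2, nat_lit 1, nat_lit 2, nat_lit 1, nat_lit 0])) (.leaf ((nat_lit 151), [nat_lit 1, nat_lit 2, nat_lit 0, nat_lit 1, nat_lit 0, nat_lit 1]))) (.node (nat_lit 676) (.leaf ((nat_lit 95), [nat_lit 0, nat_lit 1, nat_lit 0, nat_lit 1, nat_lit 0])) (.leaf ((nat_lit 162), []))))))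
 (.node (nat_lit 685) (.node (nat_lit 681) (.node (nat_lit 679) (.node (nat_lit 678) (.leaf ((nat_lit 44), [nat_lit 2, nat_lit 0, nat_lit 2, nat_lit 1, nat_lit 0, nat_lit 1])) (.leaf ((nat_lit 160), [nat_lit 1, nat_lit 2, nat_lit 1, nat_lit 2, nat_lit 1]))) (.node (nat_lit 680) (.leaf ((nat_lit 163), [nat_lit 1, nat_lit 2, nat_lit 1, nat_lit 2, nat_lit 1])) (.leaf ((nat_lit 163), [nat_lit 1, nat_lit 2, nat_lit 1, nat_lit 2, nat_lit 0, nat_lit 1, nat_lit 0, nat_lit 1, nat_lit 0]))))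
 (.node (nat_lit 683) (.node (nat_lit 682) (.leaf ((nat_lit 45), [nat_lit 0, nat_lit 1, nat_lit 0, nat_lit 1, nat_lit 0])) (.leaf ((nat_lit 128), []))) (.node (nat_lit 684) (.leaf ((nat_lit 53), [nat_lit 1, nat_lit 2, nat_lit 1, nat_lit 2, nat_lit 1, nat_lit 0, nat_lit 1, nat_lit 0, nat_lit 1, nat_lit 0])) (.leaf ((nat_lit 134), [nat_lit 2, nat_lit 1, nat_lit 2, nat_lit 1])))))
 (.node (nat_lit 689) (.node (nat_lit 687) (.node (nat_lit 686) (.leaf ((nat_lit 132), [nat_lit 2, nat_lit 1, nat_lit 2, nat_lit 1])) (.leaf ((nat_lit 134), [nat_lit 2, nat_lit 0, nat_lit 2, nat_lit 0, nat_lit 1, nat_lit 0, nat_lit 1]))) (.node (nat_lit 688) (.leaf ((nat_lit 128), [])) (.leaf ((nat_lit 45), [nat_lit 0, nat_lit 1, nat_lit 0, nat_lit 1, nat_lit 0]))))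
 (.node (nat_lit 691) (.node (nat_lit 690) (.leaf ((nat_lit 117), [nat_lit 1, nat_lit 2, nat_lit 1, nat_lit 2, nat_lit 1, nat_lit 0, nat_lit 1, nat_lit 0, nat_lit 1, nat_lit 0])) (.leaf ((nat_lit 46), [nat_lit 1, nat_lit 2, nat_lit 0, nat_lit 2, nat_lit 1]))) (.node (nat_lit 692) (.leaf ((nat_lit 115), [nat_lit 1, nat_lit 2, nat_lit 0, nat_lit 2, nat_lit 1])) (.leaf ((nat_lit 150), [nat_lit 1]))))))))
 (.node (nat_lit 724) (.node (nat_lit 708) (.node (nat_lit 700) (.node (nat_lit 696) (.node (nat_lit 694) (.leaf ((nat_lit 117), [nat_lit 0, nat_lit 1, nat_lit 0, nat_lit 1, nat_lit 0])) (.node (nat_lit 695) (.leaf ((nat_lit 115), [nat_lit 0, nat_lit 1, nat_lit 0, nat_lit 1, nat_lit 0])) (.leaf ((nat_lit 106), [nat_lit 2, nat_lit 0, nat_lit 2, nat_lit 1, nat_lit 0, nat_lit 1]))))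
 (.node (nat_lit 698) (.node (nat_lit 697) (.leaf ((nat_lit 150), [nat_lit 2, nat_lit 0, nat_lit 2])) (.leaf ((nat_lit 116), [nat_lit 2, nat_lit 0, nat_lit 2]))) (.node (nat_lit 699) (.leaf ((nat_lit 46), [nat_lit 1])) (.leaf ((nat_lit 80), [])))))
 (.node (nat_lit 704) (.node (nat_lit 702) (.node (nat_lit 701) (.leaf ((nat_lit 164), [nat_lit 2, nat_lit 1, nat_lit 2])) (.leaf ((nat_lit 141), [nat_lit 2, nat_lit 1]))) (.node (nat_lit 703) (.leaf ((nat_lit 47), [nat_lit 2])) (.leaf ((nat_lit 60), [nat_lit 1, nat_lit 2, nat_lit 1, nat_lit 0, nat_lit 1]))))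
 (.node (nat_lit 706) (.node (nat_lit 705) (.leaf ((nat_lit 91), [nat_lit 1, nat_lit 0, nat_lit 1, nat_lit 0])) (.leaf ((nat_lit 115), [nat_lit 0, nat_lit 1, nat_lit 0, nat_lit 1, nat_lit 0]))) (.node (nat_lit 707) (.leaf ((nat_lit 117), [nat_lit 0, nat_lit 1, nat_lit 0, nat_lit 1, nat_lit 0])) (.leaf ((nat_lit 114), [nat_lit 2, nat_lit 0, nat_lit 2, nat_lit 0, nat_lit 1, nat_lit 0, nat_lit 1]))))))
 (.node (nat_lit 716) (.node (nat_lit 712) (.node (nat_lit 710) (.node (nat_lit 709) (.leaf ((nat_lit 91), [nat_lit 1, nat_lit 2, nat_lit 1, nat_lit 2, nat_lit 0, nat_lit 1])) (.leaf ((nat_lit 109), [nat_lit 1, nat_lit 2, nat_lit 1, nat_lit 0, nat_lit 1]))) (.node (nat_lit 711) (.leaf ((nat_lit 47), [nat_lit 0, nat_lit 2, nat_lit 1, nat_lit 0, nat_lit 1, nat_lit 0])) (.leaf ((nat_lit 93), []))))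
 (.node (nat_lit 714) (.node (nat_lit 713) (.leaf ((nat_lit 134), [nat_lit 2, nat_lit 1, nat_lit 2])) (.leaf ((nat_lit 132), [nat_lit 1, nat_lit 2, nat_lit 1, nat_lit 2, nat_lit 1]))) (.node (nat_lit 715) (.leaf ((nat_lit 119), [nat_lit 1, nat_lit 0, nat_lit 1])) (.leaf ((nat_lit 104), [nat_lit 1, nat_lit 0, nat_lit 1])))))
 (.node (nat_lit 720) (.node (nat_lit 718) (.node (nat_lit 717) (.leaf ((nat_lit 48), [nat_lit 1, nat_lit 2, nat_lit 0, nat_lit 2, nat_lit 0, nat_lit 1])) (.leaf ((nat_lit 134), [nat_lit 2, nat_lit 1, nat_lit 2]))) (.node (nat_lit 719) (.leaf ((nat_lit 93), [])) (.leaf ((nat_lit 62), [nat_lit 2, nat_lit 1, nat_lit 2, nat_lit 1]))))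
 (.node (nat_lit 722) (.node (nat_lit 721) (.leaf ((nat_lit 164), [nat_lit 0, nat_lit 2, nat_lit 0, nat_lit 1])) (.leaf ((nat_lit 78), [nat_lit 0, nat_lit 2, nat_lit 0, nat_lit 2, nat_lit 0, nat_lit 1, nat_lit 0, nat_lit 1]))) (.node (nat_lit 723) (.leaf ((nat_lit 164), [nat_lit 0, nat_lit 2, nat_lit 1])) (.leaf ((nat_lit 48), [nat_lit 0, nat_lit 2, nat_lit 0, nat_lit 2, nat_lit 1, nat_lit 0, nat_lit 1, nat_lit 0])))))))
 (.node (nat_lit 740) (.node (nat_lit 732) (.node (nat_lit 728) (.node (nat_lit 726) (.node (nat_lit 725) (.leaf ((nat_lit 126), [nat_lit 0, nat_lit 2, nat_lit 0, nat_lit 2, nat_lit 0])) (.leaf ((nat_lit 110), [nat_lit 0, nat_lit 2, nat_lit 0, nat_lit 2, nat_lit 1, nat_lit 0, nat_lit 1, nat_lit 0]))) (.node (nat_lit 727) (.leaf ((nat_lit 49), [nat_lit 1, nat_lit 2, nat_lit 1, nat_lit 2, nat_lit 1, nat_lit 0])) (.leaf ((nat_lit 112), [nat_lit 1, nat_lit 2, nat_lit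 1, nat_lit 2, nat_lit 1, nat_lit 0]))))
 (.node (nat_lit 730) (.node (nat_lit 729) (.leaf ((nat_lit 79), [nat_lit 1, nat_lit 0, nat_lit 1])) (.leaf ((nat_lit 109), [nat_lit 1, nat_lit 2, nat_lit 1]))) (.node (nat_lit 731) (.leaf ((nat_lit 148), [nat_lit 2, nat_lit 1, nat_lit 2])) (.leaf ((nat_lit 77), [nat_lit 2])))))
 (.node (nat_lit 736) (.node (nat_lit 734) (.node (nat_lit 733) (.leaf ((nat_lit 112), [nat_lit 0, nat_lit 2, nat_lit 1])) (.leaf ((nat_lit 49), [nat_lit 0, nat_lit 2, nat_lit 1]))) (.node (nat_lit 735) (.leaf ((nat_lit 80), [nat_lit 1, nat_lit 0, nat_lit 1])) (.leaf ((nat_lit 163), [nat_lit 2, nat_lit 1]))))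
 (.node (nat_lit 738) (.node (nat_lit 737) (.leaf ((nat_lit 163), [nat_lit 2, nat_lit 1, nat_lit 2])) (.leaf ((nat_lit 105), [nat_lit 2]))) (.node (nat_lit 739) (.leaf ((nat_lit 123), [nat_lit 0])) (.leaf ((nat_lit 128), [nat_lit 0]))))))
 (.node (nat_lit 748) (.node (nat_lit 744) (.node (nat_lit 742) (.node (nat_lit 741) (.leaf ((nat_lit 159), [nat_lit 0, nat_lit 2, nat_lit 0, nat_lit 2, nat_lit 1])) (.leaf ((nat_lit 50), []))) (.node (nat_lit 743) (.leaf ((nat_lit 49), [])) (.leaf ((nat_lit 96), [nat_lit 0, nat_lit 2, nat_lit 0, nat_lit 2, nat_lit 1, nat_lit 0, nat_lit 1, nat_lit 0]))))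
 (.node (nat_lit 746) (.node (nat_lit 745) (.leaf ((nat_lit 139), [nat_lit 1, nat_lit 2, nat_lit 0])) (.leaf ((nat_lit 105), [nat_lit 1, nat_lit 2, nat_lit 1, nat_lit 2, nat_lit 1, nat_lit 0]))) (.node (nat_lit 747) (.leaf ((nat_lit 101), [nat_lit 1, nat_lit 2, nat_lit 1, nat_lit 2, nat_lit 1, nat_lit 0])) (.leaf ((nat_lit 53), [])))))
 (.node (nat_lit 752) (.node (nat_lit 750) (.node (nat_lit 749) (.leaf ((nat_lit 85), [nat_lit 0, nat_lit 2, nat_lit 0, nat_lit 2, nat_lit 0])) (.leaf ((nat_lit 49), [nat_lit 2, nat_lit 0, nat_lit 2, nat_lit 0, nat_lit 1, nat_lit 0, nat_lit 1]))) (.node (nat_lit 751) (.leaf ((nat_lit 86), [nat_lit 0, nat_lit 2, nat_lit 0])) (.leaf ((nat_lit 99), [nat_lit 0, nat_lit 2, nat_lit 0]))))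
 (.node (nat_lit 754) (.node (nat_lit 753) (.leaf ((nat_lit 50), [nat_lit 1, nat_lit 2, nat_lit 1, nat_lit 0, nat_lit 1, nat_lit 0, nat_lit 1])) (.leaf ((nat_lit 85), []))) (.node (nat_lit 755) (.leaf ((nat_lit 53), [nat_lit 0, nat_lit 2, nat_lit 0, nat_lit 2, nat_lit 0])) (.leaf ((nat_lit 92), [nat_lit 2, nat_lit 0, nat_lit 2, nat_lit 0, nat_lit 1, nat_lit 0, nat_lit 1]))))))))))
noncomputable def n5Wd_3 : Tr (ℕ × List ℕ) := (.node (nat_lit 882) (.node (nat_lit 819) (.node (nat_lit 787) (.node (nat_lit 771) (.node (nat_lit 763) (.node (nat_lit 759) (.node (nat_lit 757) (.leaf ((nat_lit 90), [nat_lit 0, nat_lit 2, nat_lit 1, nat_lit 2, nat_lit 1, nat_lit 0, nat_lit 1, nat_lit 0, nat_lit 1])) (.node (nat_lit 758) (.leaf ((nat_lit 90), [nat_lit 0, nat_lit 2, nat_lit 1, nat_lit 2, nat_lit 0, nat_lit 1])) (.leaf ((nat_lit 108), [nat_lit 1]))))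
 (.node (nat_lit 761) (.node (nat_lit 760) (.leaf ((nat_lit 51), [])) (.leaf ((nat_lit 120), [nat_lit 0, nat_lit 2, nat_lit 0, nat_lit 2, nat_lit 0]))) (.node (nat_lit 762) (.leaf ((nat_lit 65), [nat_lit 1, nat_lit 2, nat_lit 1, nat_lit 2, nat_lit 1, nat_lit 0, nat_lit 1, nat_lit 0, nat_lit 1, nat_lit 0])) (.leaf ((nat_lit 53), [nat_lit 0, nat_lit 2, nat_lit 0, nat_lit 2, nat_lit 1, nat_lit 0, nat_lit 1, nat_lit 0, nat_lit 1])))))
 (.node (nat_lit 767) (.node (nat_lit 765) (.node (nat_lit 764) (.leaf ((nat_lit 53), [nat_lit 0, nat_lit 2, nat_lit 0, nat_lit 2, nat_lit 0, nat_lit 1])) (.leaf ((nat_lit 52), [nat_lit 0, nat_lit 2, nat_lit 1, nat_lit 2, nat_lit 1, nat_lit 0, nat_lit 1, nat_lit 0]))) (.node (nat_lit 766) (.leaf ((nat_lit 149), [nat_lit 0, nat_lit 1, nat_lit 0, nat_lit 1, nat_lit 0])) (.leaf ((nat_lit 67), [nat_lit 0, nat_lit 1, nat_lit 0, nat_lit 1, nat_lit 0]))))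
 (.node (nat_lit 769) (.node (nat_lit 768) (.leaf ((nat_lit 165), [nat_lit 2, nat_lit 0, nat_lit 2, nat_lit 0, nat_lit 1, nat_lit 0, nat_lit 1])) (.leaf ((nat_lit 128), [nat_lit 0]))) (.node (nat_lit 770) (.leaf ((nat_lit 123), [nat_lit 0])) (.leaf ((nat_lit 155), [nat_lit 0, nat_lit 2, nat_lit 0, nat_lit 2, nat_lit 1]))))))
 (.node (nat_lit 779) (.node (nat_lit 775) (.node (nat_lit 773) (.node (nat_lit 772) (.leaf ((nat_lit 114), [])) (.leaf ((nat_lit 113), []))) (.node (nat_lit 774) (.leaf ((nat_lit 52), [nat_lit 2, nat_lit 0, nat_lit 2, nat_lit 1, nat_lit 0, nat_lit 1])) (.leaf ((nat_lit 137), [nat_lit 2, nat_lit 1]))))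
 (.node (nat_lit 777) (.node (nat_lit 776) (.leaf ((nat_lit 136), [nat_lit 1])) (.leaf ((nat_lit 129), [nat_lit 1, nat_lit 0, nat_lit 1, nat_lit 0, nat_lit 1, nat_lit 0]))) (.node (nat_lit 778) (.leaf ((nat_lit 96), [nat_lit 0, nat_lit 1, nat_lit 0, nat_lit 1, nat_lit 0])) (.leaf ((nat_lit 57), [])))))
 (.node (nat_lit 783) (.node (nat_lit 781) (.node (nat_lit 780) (.leaf ((nat_lit 162), [nat_lit 0, nat_lit 2, nat_lit 0, nat_lit 2, nat_lit 0])) (.leaf ((nat_lit 59), [nat_lit 0, nat_lit 2, nat_lit 1, nat_lit 0, nat_lit 1, nat_lit 0, nat_lit 1, nat_lit 0]))) (.node (nat_lit 782) (.leaf ((nat_lit 58), [nat_lit 0, nat_lit 2, nat_lit 0, nat_lit 2, nat_lit 1, nat_lit 0, nat_lit 1, nat_lit 0])) (.leaf ((nat_lit 59), [nat_lit 0, nat_lit 2, nat_lit 1, nat_lit 0, nat_lit 1, nat_lit 0, nat_lit 1]))))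
 (.node (nat_lit 785) (.node (nat_lit 784) (.leaf ((nat_lit 97), [nat_lit 0, nat_lit 1, nat_lit 0, nat_lit 1, nat_lit 0])) (.leaf ((nat_lit 130), [nat_lit 0, nat_lit 2, nat_lit 0, nat_lit 2, nat_lit 0]))) (.node (nat_lit 786) (.leaf ((nat_lit 64), [nat_lit 0, nat_lit 2, nat_lit 0, nat_lit 2, nat_lit 0])) (.leaf ((nat_lit 165), [nat_lit 1, nat_lit 2, nat_lit 0, nat_lit 2, nat_lit 0])))))))
 (.node (nat_lit 803) (.node (nat_lit 795) (.node (nat_lit 791) (.node (nat_lit 789) (.node (nat_lit 788) (.leaf ((nat_lit 152), [nat_lit 1, nat_lit 2, nat_lit 0, nat_lit 2, nat_lit 0])) (.leaf ((nat_lit 131), [nat_lit 0, nat_lit 1, nat_lit 0, nat_lit 1, nat_lit 0]))) (.node (nat_lit 790) (.leaf ((nat_lit 59), [])) (.leaf ((nat_lit 87), []))))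
 (.node (nat_lit 793) (.node (nat_lit 792) (.leaf ((nat_lit 136), [nat_lit 1, nat_lit 2, nat_lit 1, nat_lit 2, nat_lit 1])) (.leaf ((nat_lit 64), [nat_lit 1, nat_lit 2, nat_lit 1, nat_lit 2]))) (.node (nat_lit 794) (.leaf ((nat_lit 114), [nat_lit 1, nat_lit 2, nat_lit 1, nat_lit 2])) (.leaf ((nat_lit 64), [nat_lit 1, nat_lit 2, nat_lit 1, nat_lit 2, nat_lit 1, nat_lit 0, nat_lit 1, nat_lit 0, nat_lit 1, nat_lit 0])))))
 (.node (nat_lit 799) (.node (nat_lit 797) (.node (nat_lit 796) (.leaf ((nat_lit 61), [nat_lit 2, nat_lit 1, nat_lit 2])) (.leaf ((nat_lit 61), []))) (.node (nat_lit 798) (.leaf ((nat_lit 118), [nat_lit 1, nat_lit 2, nat_lit 1, nat_lit 2, nat_lit 1])) (.leaf ((nat_lit 78), [nat_lit 1, nat_lit 2, nat_lit 1, nat_lit 2, nat_lit 1, nat_lit 0]))))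
 (.node (nat_lit 801) (.node (nat_lit 800) (.leaf ((nat_lit 164), [nat_lit 1, nat_lit 2, nat_lit 0])) (.leaf ((nat_lit 78), []))) (.node (nat_lit 802) (.leaf ((nat_lit 63), [nat_lit 0, nat_lit 1, nat_lit 0, nat_lit 1, nat_lit 0])) (.leaf ((nat_lit 133), [nat_lit 0, nat_lit 1, nat_lit 0, nat_lit 1, nat_lit 0]))))))
 (.node (nat_lit 811) (.node (nat_lit 807) (.node (nat_lit 805) (.node (nat_lit 804) (.leaf ((nat_lit 135), [nat_lit 1, nat_lit 2, nat_lit 1, nat_lit 2, nat_lit 1])) (.leaf ((nat_lit 114), [nat_lit 1, nat_lit 2, nat_lit 1, nat_lit 2]))) (.node (nat_lit 806) (.leaf ((nat_lit 64), [nat_lit 1, nat_lit 2, nat_lit 1, nat_lit 2])) (.leaf ((nat_lit 114), [nat_lit 1, nat_lit 2, nat_lit 1, nat_lit 2, nat_lit 1, nat_lit 0, nat_lit 1, nat_lit 0, nat_lit 1, nat_lit 0]))))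
 (.node (nat_lit 809) (.node (nat_lit 808) (.leaf ((nat_lit 119), [nat_lit 2, nat_lit 1, nat_lit 2])) (.leaf ((nat_lit 118), [nat_lit 2, nat_lit 1, nat_lit 2]))) (.node (nat_lit 810) (.leaf ((nat_lit 134), [nat_lit 1, nat_lit 2, nat_lit 1])) (.leaf ((nat_lit 69), [nat_lit 1, nat_lit 2, nat_lit 1, nat_lit 2, nat_lit 1, nat_lit 0, nat_lit 1, nat_lit 0])))))
 (.node (nat_lit 815) (.node (nat_lit 813) (.node (nat_lit 812) (.leaf ((nat_lit 142), [nat_lit 1, nat_lit 2, nat_lit 0, nat_lit 1, nat_lit 0])) (.leaf ((nat_lit 141), [nat_lit 0, nat_lit 2, nat_lit 0, nat_lit 2, nat_lit 1, nat_lit 0, nat_lit 1]))) (.node (nat_lit 814) (.leaf ((nat_lit 65), [])) (.leaf ((nat_lit 64), [nat_lit 0, nat_lit 1, nat_lit 0, nat_lit 1, nat_lit 0]))))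
 (.node (nat_lit 817) (.node (nat_lit 816) (.leaf ((nat_lit 133), [nat_lit 1, nat_lit 2, nat_lit 1, nat_lit 2, nat_lit 1])) (.leaf ((nat_lit 65), [nat_lit 1, nat_lit 0, nat_lit 1, nat_lit 0, nat_lit 1, nat_lit 0]))) (.node (nat_lit 818) (.leaf ((nat_lit 129), [nat_lit 1])) (.leaf ((nat_lit 136), [nat_lit 1, nat_lit 0, nat_lit 1, nat_lit 0, nat_lit 1, nat_lit 0]))))))))
 (.node (nat_lit 850) (.node (nat_lit 834) (.node (nat_lit 826) (.node (nat_lit 822) (.node (nat_lit 820) (.leaf ((nat_lit 69), [nat_lit 1, nat_lit 2, nat_lit 1, nat_lit 2, nat_lit 1])) (.node (nat_lit 821) (.leaf ((nat_lit 69), [nat_lit 2, nat_lit 1])) (.leaf ((nat_lit 131), [nat_lit 1, nat_lit 2, nat_lit 1, nat_lit 2, nat_lit 1]))))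
 (.node (nat_lit 824) (.node (nat_lit 823) (.leaf ((nat_lit 129), [nat_lit 1, nat_lit 2])) (.leaf ((nat_lit 65), [nat_lit 2, nat_lit 1, nat_lit 0, nat_lit 1]))) (.node (nat_lit 825) (.leaf ((nat_lit 137), [nat_lit 1, nat_lit 0, nat_lit 1])) (.leaf ((nat_lit 166), [nat_lit 1, nat_lit 2, nat_lit 1, nat_lit 2, nat_lit 1])))))
 (.node (nat_lit 830) (.node (nat_lit 828) (.node (nat_lit 827) (.leaf ((nat_lit 91), [nat_lit 2, nat_lit 1, nat_lit 2])) (.leaf ((nat_lit 155), [nat_lit 1, nat_lit 2, nat_lit 1]))) (.node (nat_lit 829) (.leaf ((nat_lit 152), [nat_lit 1, nat_lit 2, nat_lit 0, nat_lit 2, nat_lit 0])) (.leaf ((nat_lit 165), [nat_lit 1, nat_lit 2, nat_lit 0, nat_lit 2, nat_lit 0]))))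
 (.node (nat_lit 832) (.node (nat_lit 831) (.leaf ((nat_lit 138), [nat_lit 0, nat_lit 1, nat_lit 0, nat_lit 1, nat_lit 0])) (.leaf ((nat_lit 84), [nat_lit 2, nat_lit 1, nat_lit 2]))) (.node (nat_lit 833) (.leaf ((nat_lit 66), [nat_lit 2, nat_lit 1, nat_lit 2])) (.leaf ((nat_lit 107), [nat_lit 2]))))))
 (.node (nat_lit 842) (.node (nat_lit 838) (.node (nat_lit 836) (.node (nat_lit 835) (.leaf ((nat_lit 124), [nat_lit 0, nat_lit 2, nat_lit 1])) (.leaf ((nat_lit 101), [nat_lit 0, nat_lit 2, nat_lit 1]))) (.node (nat_lit 837) (.leaf ((nat_lit 105), [nat_lit 0, nat_lit 2, nat_lit 1])) (.leaf ((nat_lit 111), []))))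
 (.node (nat_lit 840) (.node (nat_lit 839) (.leaf ((nat_lit 107), [])) (.leaf ((nat_lit 66), [nat_lit 1, nat_lit 2, nat_lit 1]))) (.node (nat_lit 841) (.leaf ((nat_lit 67), [nat_lit 0, nat_lit 2, nat_lit 1, nat_lit 0, nat_lit 1, nat_lit 0])) (.leaf ((nat_lit 144), [nat_lit 0, nat_lit 2, nat_lit 1, nat_lit 0, nat_lit 1, nat_lit 0])))))
 (.node (nat_lit 846) (.node (nat_lit 844) (.node (nat_lit 843) (.leaf ((nat_lit 106), [nat_lit 1, nat_lit 2, nat_lit 1, nat_lit 2, nat_lit 1, nat_lit 0, nat_lit 1, nat_lit 0, nat_lit 1])) (.leaf ((nat_lit 107), []))) (.node (nat_lit 845) (.leaf ((nat_lit 111), [])) (.leaf ((nat_lit 68), [nat_lit 2]))))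
 (.node (nat_lit 848) (.node (nat_lit 847) (.leaf ((nat_lit 144), [nat_lit 0, nat_lit 2, nat_lit 1, nat_lit 0, nat_lit 1, nat_lit 0])) (.leaf ((nat_lit 67), [nat_lit 0, nat_lit 2, nat_lit 1, nat_lit 0, nat_lit 1, nat_lit 0]))) (.node (nat_lit 849) (.leaf ((nat_lit 135), [nat_lit 2, nat_lit 0, nat_lit 2, nat_lit 1, nat_lit 0, nat_lit 1, nat_lit 0])) (.leaf ((nat_lit 153), [nat_lit 2, nat_lit 1, nat_lit 2])))))))
 (.node (nat_lit 866) (.node (nat_lit 858) (.node (nat_lit 854) (.node (nat_lit 852) (.node (nat_lit 851) (.leaf ((nat_lit 99), [])) (.leaf ((nat_lit 116), [nat_lit 1, nat_lit 2]))) (.node (nat_lit 853) (.leaf ((nat_lit 106), [nat_lit 1, nat_lit 2, nat_lit 0, nat_lit 1, nat_lit 0, nat_lit 1, nat_lit 0])) (.leaf ((nat_lit 135), [nat_lit 2, nat_lit 0, nat_lit 1, nat_lit 0, nat_lit 1]))))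
 (.node (nat_lit 856) (.node (nat_lit 855) (.leaf ((nat_lit 67), [nat_lit 0, nat_lit 1, nat_lit 0, nat_lit 1])) (.leaf ((nat_lit 148), [nat_lit 1, nat_lit 2, nat_lit 1, nat_lit 2]))) (.node (nat_lit 857) (.leaf ((nat_lit 109), [])) (.leaf ((nat_lit 164), [nat_lit 1, nat_lit 2, nat_lit 1])))))
 (.node (nat_lit 862) (.node (nat_lit 860) (.node (nat_lit 859) (.leaf ((nat_lit 87), [nat_lit 2, nat_lit 0, nat_lit 2, nat_lit 1])) (.leaf ((nat_lit 68), [nat_lit 2, nat_lit 0, nat_lit 2, nat_lit 1]))) (.node (nat_lit 861) (.leaf ((nat_lit 87), [nat_lit 1])) (.leaf ((nat_lit 165), []))))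
 (.node (nat_lit 864) (.node (nat_lit 863) (.leaf ((nat_lit 143), [nat_lit 0, nat_lit 1, nat_lit 0, nat_lit 1, nat_lit 0])) (.leaf ((nat_lit 144), [nat_lit 1, nat_lit 2, nat_lit 1, nat_lit 2, nat_lit 1, nat_lit 0, nat_lit 1, nat_lit 0, nat_lit 1, nat_lit 0]))) (.node (nat_lit 865) (.leaf ((nat_lit 141), [nat_lit 0, nat_lit 2, nat_lit 1, nat_lit 0, nat_lit 1, nat_lit 0, nat_lit 1])) (.leaf ((nat_lit 140), [nat_lit 0, nat_lit 2, nat_lit 1, nat_lit 0, nat_lit 1, nat_lit 0, nat_lit 1]))))))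
 (.node (nat_lit 874) (.node (nat_lit 870) (.node (nat_lit 868) (.node (nat_lit 867) (.leaf ((nat_lit 69), [nat_lit 2, nat_lit 1, nat_lit 2, nat_lit 1, nat_lit 0, nat_lit 1, nat_lit 0])) (.leaf ((nat_lit 146), []))) (.node (nat_lit 869) (.leaf ((nat_lit 144), [nat_lit 0, nat_lit 1, nat_lit 0, nat_lit 1, nat_lit 0])) (.leaf ((nat_lit 143), [nat_lit 2, nat_lit 0, nat_lit 2, nat_lit 0, nat_lit 1, nat_lit 0, nat_lit 1]))))
 (.node (nat_lit 872) (.node (nat_lit 871) (.leaf ((nat_lit 71), [nat_lit 0, nat_lit 2, nat_lit 1, nat_lit 2, nat_lit 0])) (.leaf ((nat_lit 71), [nat_lit 0, nat_lit 2, nat_lit 1, nat_lit 2, nat_lit 1, nat_lit 0, nat_lit 1, nat_lit 0]))) (.node (nat_lit 873) (.leaf ((nat_lit 70), [nat_lit 1, nat_lit 2, nat_lit 0, nat_lit 2, nat_lit 1, nat_lit 0])) (.leaf ((nat_lit 75), [nat_lit 0, nat_lit 1, nat_lit 0, nat_lit 1, nat_lit 0])))))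
 (.node (nat_lit 878) (.node (nat_lit 876) (.node (nat_lit 875) (.leaf ((nat_lit 152), [nat_lit 0, nat_lit 1, nat_lit 0, nat_lit 1, nat_lit 0])) (.leaf ((nat_lit 149), [nat_lit 2, nat_lit 0, nat_lit 2, nat_lit 1, nat_lit 0, nat_lit 1]))) (.node (nat_lit 877) (.leaf ((nat_lit 153), [nat_lit 0, nat_lit 2, nat_lit 0, nat_lit 2, nat_lit 0, nat_lit 1, nat_lit 0])) (.leaf ((nat_lit 167), [nat_lit 0, nat_lit 2, nat_lit 0]))))
 (.node (nat_lit 880) (.node (nat_lit 879) (.leaf ((nat_lit 146), [nat_lit 1, nat_lit 0, nat_lit 1])) (.leaf ((nat_lit 144), []))) (.node (nat_lit 881) (.leaf ((nat_lit 146), [nat_lit 0, nat_lit 1, nat_lit 0, nat_lit 1, nat_lit 0])) (.leaf ((nat_lit 71), [nat_lit 2, nat_lit 0, nat_lit 2, nat_lit 0, nat_lit 1, nat_lit 0, nat_lit 1])))))))))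
 (.node (nat_lit 945) (.node (nat_lit 913) (.node (nat_lit 897) (.node (nat_lit 889) (.node (nat_lit 885) (.node (nat_lit 883) (.leaf ((nat_lit 147), [nat_lit 1, nat_lit 0, nat_lit 1, nat_lit 0, nat_lit 1, nat_lit 0])) (.node (nat_lit 884) (.leaf ((nat_lit 72), [nat_lit 1, nat_lit 0, nat_lit 1, nat_lit 0, nat_lit 1, nat_lit 0])) (.leaf ((nat_lit 166), [nat_lit 1, nat_lit 2, nat_lit 1, nat_lit 2, nat_lit 0, nat_lit 1, nat_lit 0, nat_lit 1, nat_lit 0]))))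
 (.node (nat_lit 887) (.node (nat_lit 886) (.leaf ((nat_lit 158), [nat_lit 0, nat_lit 1, nat_lit 0, nat_lit 1, nat_lit 0])) (.leaf ((nat_lit 151), []))) (.node (nat_lit 888) (.leaf ((nat_lit 147), [nat_lit 0, nat_lit 2, nat_lit 0, nat_lit 2, nat_lit 1, nat_lit 0, nat_lit 1, nat_lit 0])) (.leaf ((nat_lit 148), [nat_lit 1, nat_lit 2, nat_lit 0, nat_lit 2, nat_lit 1])))))
 (.node (nat_lit 893) (.node (nat_lit 891) (.node (nat_lit 890) (.leaf ((nat_lit 166), [nat_lit 1, nat_lit 2, nat_lit 0, nat_lit 2, nat_lit 1])) (.leaf ((nat_lit 72), [nat_lit 1, nat_lit 2, nat_lit 0, nat_lit 2, nat_lit 0, nat_lit 1, nat_lit 0, nat_lit 1]))) (.node (nat_lit 892) (.leaf ((nat_lit 142), [nat_lit 2, nat_lit 1, nat_lit 2, nat_lit 1])) (.leaf ((nat_lit 121), [nat_lit 2, nat_lit 1, nat_lit 2]))))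
 (.node (nat_lit 895) (.node (nat_lit 894) (.leaf ((nat_lit 167), [nat_lit 2, nat_lit 1, nat_lit 2])) (.leaf ((nat_lit 157), [nat_lit 0, nat_lit 2, nat_lit 0, nat_lit 2, nat_lit 1, nat_lit 0]))) (.node (nat_lit 896) (.leaf ((nat_lit 154), [nat_lit 0, nat_lit 2, nat_lit 0, nat_lit 2, nat_lit 1, nat_lit 0])) (.leaf ((nat_lit 154), [nat_lit 0, nat_lit 2, nat_lit 0, nat_lit 2, nat_lit 1]))))))
 (.node (nat_lit 905) (.node (nat_lit 901) (.node (nat_lit 899) (.node (nat_lit 898) (.leaf ((nat_lit 127), [nat_lit 0, nat_lit 1, nat_lit 0, nat_lit 1, nat_lit 0])) (.leaf ((nat_lit 72), []))) (.node (nat_lit 900) (.leaf ((nat_lit 145), [nat_lit 2, nat_lit 0, nat_lit 2, nat_lit 1, nat_lit 0, nat_lit 1])) (.leaf ((nat_lit 116), [nat_lit 2, nat_lit 0, nat_lit 2]))))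
 (.node (nat_lit 903) (.node (nat_lit 902) (.leaf ((nat_lit 150), [nat_lit 2, nat_lit 0, nat_lit 2])) (.leaf ((nat_lit 115), [nat_lit 1]))) (.node (nat_lit 904) (.leaf ((nat_lit 100), [])) (.leaf ((nat_lit 167), [nat_lit 2, nat_lit 1, nat_lit 2])))))
 (.node (nat_lit 909) (.node (nat_lit 907) (.node (nat_lit 906) (.leaf ((nat_lit 74), [nat_lit 2, nat_lit 1, nat_lit 2, nat_lit 1])) (.leaf ((nat_lit 80), [nat_lit 0, nat_lit 2, nat_lit 0, nat_lit 2, nat_lit 0, nat_lit 1, nat_lit 0, nat_lit 1]))) (.node (nat_lit 908) (.leaf ((nat_lit 79), [nat_lit 0, nat_lit 2, nat_lit 0, nat_lit 1])) (.leaf ((nat_lit 112), [nat_lit 1, nat_lit 2, nat_lit 0, nat_lit 1, nat_lit 0, nat_lit 1]))))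
 (.node (nat_lit 911) (.node (nat_lit 910) (.leaf ((nat_lit 90), [nat_lit 0, nat_lit 1, nat_lit 0, nat_lit 1, nat_lit 0])) (.leaf ((nat_lit 147), []))) (.node (nat_lit 912) (.leaf ((nat_lit 75), [nat_lit 1, nat_lit 2, nat_lit 1, nat_lit 2, nat_lit 1, nat_lit 0, nat_lit 1, nat_lit 0, nat_lit 1, nat_lit 0])) (.leaf ((nat_lit 138), [nat_lit 0, nat_lit 2, nat_lit 0, nat_lit 2, nat_lit 1])))))))
 (.node (nat_lit 929) (.node (nat_lit 921) (.node (nat_lit 917) (.node (nat_lit 915) (.node (nat_lit 914) (.leaf ((nat_lit 131), [nat_lit 0, nat_lit 2, nat_lit 0, nat_lit 2, nat_lit 1])) (.leaf ((nat_lit 152), [nat_lit 0]))) (.node (nat_lit 916) (.leaf ((nat_lit 82), [])) (.leaf ((nat_lit 145), [nat_lit 0, nat_lit 1, nat_lit 0, nat_lit 1, nat_lit 0]))))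
 (.node (nat_lit 919) (.node (nat_lit 918) (.leaf ((nat_lit 76), [nat_lit 0, nat_lit 2, nat_lit 0, nat_lit 2, nat_lit 1, nat_lit 0, nat_lit 1, nat_lit 0])) (.leaf ((nat_lit 146), [nat_lit 2, nat_lit 1, nat_lit 2, nat_lit 1, nat_lit 0, nat_lit 1, nat_lit 0, nat_lit 1]))) (.node (nat_lit 920) (.leaf ((nat_lit 158), [nat_lit 1, nat_lit 2, nat_lit 0, nat_lit 2, nat_lit 1, nat_lit 0, nat_lit 1, nat_lit 0])) (.leaf ((nat_lit 153), [nat_lit 0, nat_lit 1, nat_lit 0, nat_lit 1, nat_lit 0])))))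
 (.node (nat_lit 925) (.node (nat_lit 923) (.node (nat_lit 922) (.leaf ((nat_lit 141), [nat_lit 2, nat_lit 1, nat_lit 2])) (.leaf ((nat_lit 78), []))) (.node (nat_lit 924) (.leaf ((nat_lit 153), [nat_lit 2])) (.leaf ((nat_lit 81), [nat_lit 1, nat_lit 2, nat_lit 0, nat_lit 2, nat_lit 1, nat_lit 0, nat_lit 1, nat_lit 0]))))
 (.node (nat_lit 927) (.node (nat_lit 926) (.leaf ((nat_lit 149), [nat_lit 1, nat_lit 2, nat_lit 0, nat_lit 2, nat_lit 1, nat_lit 0, nat_lit 1, nat_lit 0])) (.leaf ((nat_lit 149), [nat_lit 1, nat_lit 2, nat_lit 0, nat_lit 2, nat_lit 0]))) (.node (nat_lit 928) (.leaf ((nat_lit 105), [])) (.leaf ((nat_lit 79), [nat_lit 2, nat_lit 1, nat_lit 2]))))))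
 (.node (nat_lit 937) (.node (nat_lit 933) (.node (nat_lit 931) (.node (nat_lit 930) (.leaf ((nat_lit 166), [nat_lit 2])) (.leaf ((nat_lit 155), [nat_lit 0, nat_lit 1, nat_lit 0, nat_lit 1, nat_lit 0]))) (.node (nat_lit 932) (.leaf ((nat_lit 159), [nat_lit 0, nat_lit 1, nat_lit 0, nat_lit 1, nat_lit 0])) (.leaf ((nat_lit 128), [nat_lit 1, nat_lit 2, nat_lit 0, nat_lit 2, nat_lit 0]))))
 (.node (nat_lit 935) (.node (nat_lit 934) (.leaf ((nat_lit 164), [])) (.leaf ((nat_lit 80), [nat_lit 2, nat_lit 1, nat_lit 2]))) (.node (nat_lit 936) (.leaf ((nat_lit 137), [nat_lit 1, nat_lit 2, nat_lit 1])) (.leaf ((nat_lit 111), [nat_lit 1, nat_lit 0, nat_lit 1, nat_lit 0, nat_lit 1, nat_lit 0])))))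
 (.node (nat_lit 941) (.node (nat_lit 939) (.node (nat_lit 938) (.leaf ((nat_lit 156), [nat_lit 1, nat_lit 0, nat_lit 1, nat_lit 0, nat_lit 1, nat_lit 0])) (.leaf ((nat_lit 110), [nat_lit 1, nat_lit 2, nat_lit 1, nat_lit 2, nat_lit 1, nat_lit 0, nat_lit 1, nat_lit 0, nat_lit 1, nat_lit 0]))) (.node (nat_lit 940) (.leaf ((nat_lit 157), [nat_lit 2, nat_lit 1, nat_lit 2])) (.leaf ((nat_lit 86), []))))
 (.node (nat_lit 943) (.node (nat_lit 942) (.leaf ((nat_lit 80), [nat_lit 1, nat_lit 2])) (.leaf ((nat_lit 149), [nat_lit 1, nat_lit 2, nat_lit 0, nat_lit 2, nat_lit 1, nat_lit 0, nat_lit 1, nat_lit 0]))) (.node (nat_lit 944) (.leaf ((nat_lit 81), [nat_lit 1, nat_lit 2, nat_lit 0, nat_lit 2, nat_lit 1, nat_lit 0, nat_lit 1, nat_lit 0])) (.leaf ((nat_lit 81), [nat_lit 1, nat_lit 2, nat_lit 0, nat_lit 2, nat_lit 0]))))))))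
 (.node (nat_lit 976) (.node (nat_lit 960) (.node (nat_lit 952) (.node (nat_lit 948) (.node (nat_lit 946) (.leaf ((nat_lit 156), [nat_lit 2, nat_lit 1, nat_lit 2])) (.node (nat_lit 947) (.leaf ((nat_lit 159), [nat_lit 2, nat_lit 1, nat_lit 2])) (.leaf ((nat_lit 157), [nat_lit 2]))))
 (.node (nat_lit 950) (.node (nat_lit 949) (.leaf ((nat_lit 167), [nat_lit 0, nat_lit 2, nat_lit 1, nat_lit 0, nat_lit 1, nat_lit 0])) (.leaf ((nat_lit 153), [nat_lit 0, nat_lit 2, nat_lit 0, nat_lit 2, nat_lit 1, nat_lit 0]))) (.node (nat_lit 951) (.leaf ((nat_lit 158), [nat_lit 0])) (.leaf ((nat_lit 147), [nat_lit 0, nat_lit 1, nat_lit 0, nat_lit 1, nat_lit 0])))))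
 (.node (nat_lit 956) (.node (nat_lit 954) (.node (nat_lit 953) (.leaf ((nat_lit 90), [])) (.leaf ((nat_lit 81), [nat_lit 0, nat_lit 2, nat_lit 0, nat_lit 2, nat_lit 0]))) (.node (nat_lit 955) (.leaf ((nat_lit 159), [nat_lit 0, nat_lit 1, nat_lit 0, nat_lit 1, nat_lit 0])) (.leaf ((nat_lit 155), [nat_lit 0, nat_lit 1, nat_lit 0, nat_lit 1, nat_lit 0]))))
 (.node (nat_lit 958) (.node (nat_lit 957) (.leaf ((nat_lit 123), [nat_lit 1, nat_lit 2, nat_lit 0, nat_lit 2, nat_lit 0])) (.leaf ((nat_lit 86), []))) (.node (nat_lit 959) (.leaf ((nat_lit 157), [nat_lit 2, nat_lit 1, nat_lit 2])) (.leaf ((nat_lit 89), [nat_lit 2, nat_lit 1]))))))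
 (.node (nat_lit 968) (.node (nat_lit 964) (.node (nat_lit 962) (.node (nat_lit 961) (.leaf ((nat_lit 113), [nat_lit 1, nat_lit 2, nat_lit 1, nat_lit 2, nat_lit 1])) (.leaf ((nat_lit 162), [nat_lit 1, nat_lit 2, nat_lit 1, nat_lit 2, nat_lit 1]))) (.node (nat_lit 963) (.leaf ((nat_lit 162), [nat_lit 1, nat_lit 2, nat_lit 0, nat_lit 2, nat_lit 0, nat_lit 1, nat_lit 0, nat_lit 1])) (.leaf ((nat_lit 91), [nat_lit 2]))))
 (.node (nat_lit 966) (.node (nat_lit 965) (.leaf ((nat_lit 166), [nat_lit 2, nat_lit 1, nat_lit 2])) (.leaf ((nat_lit 88), [nat_lit 2]))) (.node (nat_lit 967) (.leaf ((nat_lit 161), [nat_lit 0, nat_lit 2, nat_lit 1, nat_lit 2, nat_lit 1, nat_lit 0, nat_lit 1, nat_lit 0])) (.leaf ((nat_lit 107), [nat_lit 1, nat_lit 2, nat_lit 0, nat_lit 2, nat_lit 0, nat_lit 1, nat_lit 0])))))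
 (.node (nat_lit 972) (.node (nat_lit 970) (.node (nat_lit 969) (.leaf ((nat_lit 96), [nat_lit 0, nat_lit 2, nat_lit 0])) (.leaf ((nat_lit 167), [nat_lit 2, nat_lit 1, nat_lit 2]))) (.node (nat_lit 971) (.leaf ((nat_lit 100), [])) (.leaf ((nat_lit 163), [nat_lit 2, nat_lit 1, nat_lit 2]))))
 (.node (nat_lit 974) (.node (nat_lit 973) (.leaf ((nat_lit 163), [nat_lit 1, nat_lit 2, nat_lit 1, nat_lit 2, nat_lit 1])) (.leaf ((nat_lit 160), [nat_lit 1, nat_lit 2, nat_lit 1, nat_lit 2, nat_lit 1]))) (.node (nat_lit 975) (.leaf ((nat_lit 160), [nat_lit 1, nat_lit 2, nat_lit 1, nat_lit 2, nat_lit 0, nat_lit 1, nat_lit 0, nat_lit 1, nat_lit 0])) (.leaf ((nat_lit 102), [nat_lit 0, nat_lit 1, nat_lit 0, nat_lit 1, nat_lit 0])))))))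
 (.node (nat_lit 992) (.node (nat_lit 984) (.node (nat_lit 980) (.node (nat_lit 978) (.node (nat_lit 977) (.leaf ((nat_lit 112), [])) (.leaf ((nat_lit 129), [nat_lit 0, nat_lit 2, nat_lit 0, nat_lit 2, nat_lit 0]))) (.node (nat_lit 979) (.leaf ((nat_lit 162), [nat_lit 1, nat_lit 2, nat_lit 1, nat_lit 2, nat_lit 1])) (.leaf ((nat_lit 113), [nat_lit 1, nat_lit 2, nat_lit 1, nat_lit 2, nat_lit 1]))))
 (.node (nat_lit 982) (.node (nat_lit 981) (.leaf ((nat_lit 113), [nat_lit 1, nat_lit 2, nat_lit 0, nat_lit 2, nat_lit 0, nat_lit 1, nat_lit 0, nat_lit 1])) (.leaf ((nat_lit 122), [nat_lit 1, nat_lit 2]))) (.node (nat_lit 983) (.leaf ((nat_lit 122), [nat_lit 2, nat_lit 1, nat_lit 2])) (.leaf ((nat_lit 161), [nat_lit 2, nat_lit 1, nat_lit 2])))))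
 (.node (nat_lit 988) (.node (nat_lit 986) (.node (nat_lit 985) (.leaf ((nat_lit 120), [nat_lit 0, nat_lit 2, nat_lit 0, nat_lit 1])) (.leaf ((nat_lit 133), [nat_lit 0, nat_lit 2, nat_lit 1]))) (.node (nat_lit 987) (.leaf ((nat_lit 120), [nat_lit 1, nat_lit 2, nat_lit 0])) (.leaf ((nat_lit 155), []))))
 (.node (nat_lit 990) (.node (nat_lit 989) (.leaf ((nat_lit 116), [nat_lit 2, nat_lit 1, nat_lit 2])) (.leaf ((nat_lit 142), [nat_lit 1, nat_lit 2, nat_lit 1]))) (.node (nat_lit 991) (.leaf ((nat_lit 131), [nat_lit 0, nat_lit 2, nat_lit 0, nat_lit 2, nat_lit 1])) (.leaf ((nat_lit 138), [nat_lit 0, nat_lit 2, nat_lit 0, nat_lit 2, nat_lit 1]))))))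
 (.node (nat_lit 1000) (.node (nat_lit 996) (.node (nat_lit 994) (.node (nat_lit 993) (.leaf ((nat_lit 165), [nat_lit 0])) (.leaf ((nat_lit 143), []))) (.node (nat_lit 995) (.leaf ((nat_lit 165), [nat_lit 0, nat_lit 1, nat_lit 0, nat_lit 1, nat_lit 0])) (.leaf ((nat_lit 127), [nat_lit 1, nat_lit 2, nat_lit 1, nat_lit 2, nat_lit 1, nat_lit 0, nat_lit 1, nat_lit 0, nat_lit 1, nat_lit 0]))))
 (.node (nat_lit 998) (.node (nat_lit 997) (.leaf ((nat_lit 166), [nat_lit 1, nat_lit 2, nat_lit 0, nat_lit 2, nat_lit 1])) (.leaf ((nat_lit 148), [nat_lit 1, nat_lit 2, nat_lit 0, nat_lit 2, nat_lit 1]))) (.node (nat_lit 999) (.leaf ((nat_lit 147), [nat_lit 1, nat_lit 2, nat_lit 0, nat_lit 2, nat_lit 0, nat_lit 1, nat_lit 0, nat_lit 1])) (.leaf ((nat_lit 137), [nat_lit 1, nat_lit 2, nat_lit 1, nat_lit 2, nat_lit 1])))))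
 (.node (nat_lit 1004) (.node (nat_lit 1002) (.node (nat_lit 1001) (.leaf ((nat_lit 160), [nat_lit 2, nat_lit 1, nat_lit 2])) (.leaf ((nat_lit 154), [nat_lit 2]))) (.node (nat_lit 1003) (.leaf ((nat_lit 158), [nat_lit 0, nat_lit 2, nat_lit 1, nat_lit 0, nat_lit 1, nat_lit 0, nat_lit 1])) (.leaf ((nat_lit 146), [nat_lit 0, nat_lit 2, nat_lit 0]))))
 (.node (nat_lit 1006) (.node (nat_lit 1005) (.leaf ((nat_lit 167), [nat_lit 0, nat_lit 2, nat_lit 1, nat_lit 2, nat_lit 1, nat_lit 0, nat_lit 1, nat_lit 0])) (.leaf ((nat_lit 161), [nat_lit 2, nat_lit 1, nat_lit 2]))) (.node (nat_lit 1007) (.leaf ((nat_lit 150), [nat_lit 2, nat_lit 1, nat_lit 2])) (.leaf ((nat_lit 148), [nat_lit 2, nat_lit 1, nat_lit 2]))))))))))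
noncomputable def n5Wd : Tr (ℕ × List ℕ) := (.node (nat_lit 504) (.node (nat_lit 252) n5Wd_0 n5Wd_1) (.node (nat_lit 756) n5Wd_2 n5Wd_3))
theorem n5q : allR 0 168 (dblChk (nat_lit 4) (nat_lit 15) (MG.gl42L.map Lev.b) MG.gl42T n5T n5Dd (topN MG.gl42L) 168 6 n5PA n5Wd) = true := by decide +kernel
noncomputable def n5Ws : List (List ℕ) := [[]]
noncomputable def n5CE : Tr (ℕ × List ℕ × List (List ℕ)) := (.node (nat_lit 3) (.node (nat_lit 1) (.leaf ((nat_lit 0), [], [])) (.node (nat_lit 2) (.leaf ((nat_lit 1), [nat_lit 5, nat_lit 2, nat_lit 4], [[nat_lit 99, nat_lit 2, nat_lit 1]])) (.leaf ((nat_lit 7), [nat_lit 3, nat_lit 1, nat_lit 5, nat_lit 2, nat_lit 4, nat_lit 3, nat_lit 2, nat_lit 3, nat_lit 1], [[nat_lit 99, nat_lit 2, nat_lit 1], [nat_lit 1, nat_lit 2]])))) (.node (nat_lit 4) (.leaf ((nat_lit 1), [nat_lit 1, nat_lit 5, nat_lit 4], [[nat_lit 2, nat_lit 99, nat_lit 1]])) (.node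 (nat_lit 5) (.leaf ((nat_lit 1), [nat_lit 4, nat_lit 2, nat_lit 1, nat_lit 4, nat_lit 2, nat_lit 3, nat_lit 2], [[nat_lit 99, nat_lit 2]])) (.leaf ((nat_lit 1), [nat_lit 2, nat_lit 0, nat_lit 4, nat_lit 0, nat_lit 3, nat_lit 2, nat_lit 0], [[nat_lit 99, nat_lit 1]])))))
theorem n5s : allR 0 6 (stepChk (nat_lit 4) (nat_lit 15) (MG.gl42L.map Lev.b) MG.gl42T n5T n5T n5T n5Dd AW [nat_lit 1, nat_lit 7] n5Ws n5CE) = true := by decide +kernel
noncomputable def n5iI : Tr (List ℕ) := (.node (nat_lit 2) (.node (nat_lit 1) (.leaf [nat_lit 0, nat_lit 1, nat_lit 0, nat_lit 1, nat_lit 0]) (.leaf [nat_lit 2, nat_lit 0, nat_lit 2])) (.node (nat_lit 3) (.leaf [nat_lit 0, nat_lit 2, nat_lit 0, nat_lit 2, nat_lit 0]) (.leaf [nat_lit 0, nat_lit 2, nat_lit 1, nat_lit 2, nat_lit 1, nat_lit 0, nat_lit 1, nat_lit 0])))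
theorem n5ih : Alt.s5R.all (fun w => eqB (n5L.map Lev.b) (apF (fun y => apL (nat_lit 4) (nat_lit 15) n5T (n5iI.get y)) w) fun a => a) = true := by decide +kernel
noncomputable def n5iD : Tr (List ℕ) := (.node (nat_lit 1) (.leaf [nat_lit 1, nat_lit 2, nat_lit 1]) (.node (nat_lit 2) (.leaf [nat_lit 2, nat_lit 3, nat_lit 2, nat_lit 0]) (.leaf [nat_lit 0, nat_lit 1, nat_lit 2, nat_lit 3, nat_lit 1, nat_lit 2, nat_lit 1, nat_lit 0])))
theorem n5is : band (surChk (nat_lit 4) (nat_lit 15) (n5L.map Lev.b) n5T n5iI (topN Alt.s5L) n5iD (topN n5L)) (Nat.ble (chainOrd 5 Alt.s5L) (chainOrd 15 n5L)) = true := by decide +kernel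
theorem s5 {G : Type*} [Group G] [Finite G] {X : Type*} [MulAction G X] {pt : ℕ → X} (C : Ch G 15 (nat_lit 4) (nat_lit 15) pt MG.gl42T MG.gl42L) {H : Subgroup G} (h : PJ C.lets.e AW 5 H) :
    ∃ K : Subgroup G, Nonempty (H ≃* K) ∧ (Q K ∨ ∃ j ∈ [nat_lit 1, nat_lit 7], PJ C.lets.e AW j K) := by
  obtain ⟨K, e, hK⟩ := h.conj
  refine ⟨K, e, ?_⟩
  obtain ⟨N, D, S⟩ := (C.gen (lets_words C.lets n5E n5w) n5chain n5sd n5tc)
  have le := C.le_AW D hK n5slp n5a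
  have hD := lets_words C.lets n5dE n5dw
  refine (C.step D.lets D.lets D.lets hD le_normalizer le_rfl (C.dbl D.lets hD n5q (by decide +kernel)) (Ws := n5Ws) (fun u hu => ⟨[], List.mem_singleton_self _, u, hu, (one_mul u).symm⟩) (by decide +kernel) n5s le).imp_left fun h => ?_
  rw [le_antisymm h le]
  exact .inr (.inr (.inl ((Alt.s5std.isoW D n5ih n5is).map MulEquiv.symm)))
noncomputable def n7t0 : ℕ := (nat_lit 0x789a6543bcde210)
noncomputable def n7t1 : ℕ := (nat_lit 0x3456bcdea987210)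
noncomputable def n7t2 : ℕ := (nat_lit 0xdea9cb786512340)
noncomputable def n7t3 : ℕ := (nat_lit 0x8d2341e705abc96)
noncomputable def n7T : Tr ℕ := (.node (nat_lit 2) (.node (nat_lit 1) (.leaf n7t0) (.leaf n7t1)) (.node (nat_lit 3) (.leaf n7t2) (.leaf n7t3)))
noncomputable def n7R : Tr (List ℕ) := (.node (nat_lit 4) (.node (nat_lit 2) (.node (nat_lit 1) (.leaf [nat_lit 2, nat_lit 0, nat_lit 2, nat_lit 0, nat_lit 2, nat_lit 0, nat_lit 2, nat_lit 0]) (.leaf [nat_lit 3, nat_lit 0, nat_lit 2, nat_lit 3, nat_lit 0, nat_lit 2, nat_lit 3, nat_lit 0, nat_lit 2, nat_lit 3, nat_lit 0, nat_lit 2])) (.node (nat_lit 3) (.leaf [nat_lit 0, nat_lit 1]) (.leaf [nat_lit 0, nat_lit 0, nat_lit 0])))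
 (.node (nat_lit 6) (.node (nat_lit 5) (.leaf [nat_lit 1, nat_lit 2, nat_lit 0, nat_lit 2, nat_lit 1, nat_lit 3, nat_lit 2, nat_lit 3]) (.leaf [nat_lit 2, nat_lit 2])) (.node (nat_lit 7) (.leaf [nat_lit 3, nat_lit 3]) (.leaf [nat_lit 3, nat_lit 0, nat_lit 3, nat_lit 0, nat_lit 3, nat_lit 0, nat_lit 3, nat_lit 0, nat_lit 3, nat_lit 0]))))
noncomputable def n7L0 : Lev := ⟨(nat_lit 0), (nat_lit 4), (nat_lit 0x20203020103010104010404040300), (nat_lit 0x40403020203040401040303040400),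
 (.node (nat_lit 2) (.node (nat_lit 1) (.leaf (nat_lit 0x2000200020002000000030000000000010000000100010006000b0000))
 (.leaf (nat_lit 0x10000000300030003000300010004000100010007000c0000)))
 (.node (nat_lit 3) (.leaf (nat_lit 0x9000a0000000100010000000800090002000400010005000600000000))
 (.leaf (nat_lit 0x2000c00010001000100050003000a0000000c00000000000000060001)))),
 (.node (nat_lit 2) (.node (nat_lit 1) (.leaf (nat_lit 0x301000301000402000301000000000300000000000000000200000000000200000200000104000007000000))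
 (.leaf (nat_lit 0x201000000000201000201000201000201000201000201000201000201000201000201000000)))
 (.node (nat_lit 3) (.leaf (nat_lit 0x4000501000000000500000501000000000403000501000406000000000500000406000501000000000000))
 (.leaf (nat_lit 0x704000405000600000600000600000407000601000407000000000706000000000000000000000601000601))))⟩
noncomputable def n7L1 : Lev := ⟨(nat_lit 1), (nat_lit 3), (nat_lit 0x30200000000010300000302030000), (nat_lit 0x30200000000020300000104050000),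
 (.node (nat_lit 1) (.leaf (nat_lit 0x200020000000000000000000000010000000000010003000400000000))
 (.node (nat_lit 2) (.leaf (nat_lit 0x400000000000000000000000300030000000000010000000500000000))
 (.leaf (nat_lit 0x10000000000000000000100000000000000000001000000010000)))),
 (.node (nat_lit 1) (.leaf (nat_lit 0x3000301000000000000000000000000000000000200000000000000000200000302000007000000000000))
 (.node (nat_lit 2) (.leaf (nat_lit 0x201000000000000000000000000000000000201000201000000000000000201000000000201000000000000))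
 (.leaf (nat_lit 0x501000000000000000000000000000500000000000000000000000000000500000000000501000000))))⟩
noncomputable def n7L2 : Lev := ⟨(nat_lit 3), (nat_lit 2), (nat_lit 0x20000000000000100000000000000), (nat_lit 0x10000000000000100000000000000),
 (.node (nat_lit 1) (.leaf (nat_lit 0x200000000000000000000000000000000000000000001000000000000))
 (.leaf (nat_lit 0x30000000000000001000000000000))),
 (.node (nat_lit 1) (.leaf (nat_lit 0x301000000000000000000000000000000000000000000000000000000000000000200000000000000000000))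
 (.leaf (nat_lit 0x201000000000000000000000201000000000000000000)))⟩
noncomputable def n7L : List Lev := [n7L0, n7L1, n7L2]
noncomputable def n7E : Tr (List ℕ) := (.node (nat_lit 2) (.node (nat_lit 1) (.leaf [nat_lit 1, nat_lit 0, nat_lit 4, nat_lit 1, nat_lit 0, nat_lit 3]) (.leaf [nat_lit 3, nat_lit 1, nat_lit 0, nat_lit 4, nat_lit 1, nat_lit 0])) (.node (nat_lit 3) (.leaf [nat_lit 2, nat_lit 0, nat_lit 5, nat_lit 2, nat_lit 1, nat_lit 4, nat_lit 2, nat_lit 0, nat_lit 3, nat_lit 1]) (.leaf [nat_lit 3, nat_lit 1, nat_lit 5, nat_lit 2, nat_lit 1, nat_lit 4, nat_lit 3, nat_lit 2, nat_lit 0, nat_lit 3, nat_lit 1])))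
theorem n7w_0 : n7T.all2 (fun c w => isProd 15 (nat_lit 4) (nat_lit 15) MG.gl42T c w) n7E = true := by decide +kernel
theorem n7w : n7T.all2 (fun c w => isProd 15 (nat_lit 4) (nat_lit 15) MG.gl42T c w) n7E = true := n7w_0
theorem n7lev0 : levChk 15 (nat_lit 4) (nat_lit 15) n7T n7R n7L0 n7L1.N = true := by decide +kernel
theorem n7lev1 : levChk 15 (nat_lit 4) (nat_lit 15) n7T n7R n7L1 n7L2.N = true := by decide +kernel
theorem n7lev2 : levChk 15 (nat_lit 4) (nat_lit 15) n7T n7R n7L2 0 = true := by decide +kernel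
theorem n7chain : Chain 15 (nat_lit 4) (nat_lit 15) n7T n7R n7L := chain_cons n7lev0 <| chain_cons n7lev1 <| chain_one n7lev2
theorem n7sd : band (selChk n7T n7T (topN n7L)) (n7R.all fun w => eqB (MG.gl42L.map Lev.b) (apL (nat_lit 4) (nat_lit 15) n7T w) fun a => a) = true := by decide +kernel
theorem n7tc : tchainChk 15 (nat_lit 4) (nat_lit 15) n7T n7L = true := by decide +kernel
noncomputable def n7s0 : ℕ := (nat_lit 0x3ab258d049c167e)
noncomputable def n7s1 : ℕ := (nat_lit 0x802ad53b4ce6197)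
noncomputable def n7s2 : ℕ := (nat_lit 0x84cd5912a6eb37)
noncomputable def n7s3 : ℕ := (nat_lit 0x4a57b1e03968c2d)
noncomputable def n7s4 : ℕ := (nat_lit 0x43a9bc125678ed0)
noncomputable def n7s5 : ℕ := (nat_lit 0x789a6543bcde210)
noncomputable def n7s6 : ℕ := (nat_lit 0x3456bcdea987210)
noncomputable def n7s7 : ℕ := (nat_lit 0xdea9cb786512340)
noncomputable def n7s8 : ℕ := (nat_lit 0x8d2341e705abc96)
noncomputable def n7S : Tr ℕ := (.node (nat_lit 4) (.node (nat_lit 2) (.node (nat_lit 1) (.leaf n7s0) (.leaf n7s1)) (.node (nat_lit 3) (.leaf n7s2) (.leaf n7s3)))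
 (.node (nat_lit 6) (.node (nat_lit 5) (.leaf n7s4) (.leaf n7s5)) (.node (nat_lit 7) (.leaf n7s6) (.node (nat_lit 8) (.leaf n7s7) (.leaf n7s8)))))
noncomputable def n7D : Tr (List ℕ) := (.node (nat_lit 4) (.node (nat_lit 2) (.node (nat_lit 1) (.leaf []) (.leaf [])) (.node (nat_lit 3) (.leaf [nat_lit 0, nat_lit 0, nat_lit 0, nat_lit 0]) (.leaf [nat_lit 1, nat_lit 1, nat_lit 1, nat_lit 1])))
 (.node (nat_lit 6) (.node (nat_lit 5) (.leaf [nat_lit 2, nat_lit 3, nat_lit 3, nat_lit 0, nat_lit 0]) (.leaf [nat_lit 2, nat_lit 2, nat_lit 3, nat_lit 0, nat_lit 0, nat_lit 3, nat_lit 0, nat_lit 3])) (.node (nat_lit 7) (.leaf [nat_lit 1, nat_lit 2, nat_lit 1, nat_lit 2, nat_lit 2, nat_lit 1, nat_lit 0, nat_lit 0]) (.node (nat_lit 8) (.leaf [nat_lit 6, nat_lit 4, nat_lit 6]) (.leaf [nat_lit 1, nat_lit 5, nat_lit 2, nat_lit 4, nat_lit 6, nat_lit 4])))))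
theorem n7slp : slpChk 15 (nat_lit 4) (nat_lit 15) n7S n7D 2 7 = true := by decide +kernel
theorem n7a : band (selChk n7T n7S (2 + 7)) (allB 2 fun j => anyL (AW.get 7) fun w => isProd 15 (nat_lit 4) (nat_lit 15) MG.gl42T (n7S.get j) w) = true := by decide +kernel
noncomputable def n7Dd : Tr ℕ := (.node (nat_lit 3) (.node (nat_lit 1) (.leaf (nat_lit 0xedcba9876543210)) (.node (nat_lit 2) (.leaf (nat_lit 0xcdeb89a74563012)) (.leaf (nat_lit 0x789abcde6543210))))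
 (.node (nat_lit 5) (.node (nat_lit 4) (.leaf (nat_lit 0x9e7cdab82503614)) (.leaf (nat_lit 0xac8eb9d72406315))) (.node (nat_lit 6) (.leaf (nat_lit 0xdab89e7c2503614)) (.leaf (nat_lit 0x5a0bd2831e4796c)))))
noncomputable def n7dE : Tr (List ℕ) := (.node (nat_lit 3) (.node (nat_lit 1) (.leaf []) (.node (nat_lit 2) (.leaf [nat_lit 0]) (.leaf [nat_lit 3])))
 (.node (nat_lit 5) (.node (nat_lit 4) (.leaf [nat_lit 2, nat_lit 3, nat_lit 0]) (.leaf [nat_lit 2, nat_lit 4, nat_lit 0])) (.node (nat_lit 6) (.leaf [nat_lit 0, nat_lit 3, nat_lit 2]) (.leaf [nat_lit 2, nat_lit 5, nat_lit 2]))))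
theorem n7dw_0 : n7Dd.all2 (fun c w => isProd 15 (nat_lit 4) (nat_lit 15) MG.gl42T c w) n7dE = true := by decide +kernel
theorem n7dw : n7Dd.all2 (fun c w => isProd 15 (nat_lit 4) (nat_lit 15) MG.gl42T c w) n7dE = true := n7dw_0
noncomputable def n7PA : Tr (ℕ × List ℕ) := (.node (nat_lit 28) (.node (nat_lit 14) (.node (nat_lit 7) (.node (nat_lit 3) (.node (nat_lit 1) (.leaf ((nat_lit 0), [])) (.node (nat_lit 2) (.leaf ((nat_lit 1), [])) (.leaf ((nat_lit 1), [nat_lit 2, nat_lit 3, nat_lit 0]))))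
 (.node (nat_lit 5) (.node (nat_lit 4) (.leaf ((nat_lit 1), [nat_lit 0, nat_lit 2])) (.leaf ((nat_lit 2), []))) (.node (nat_lit 6) (.leaf ((nat_lit 1), [nat_lit 3, nat_lit 2, nat_lit 3, nat_lit 0])) (.leaf ((nat_lit 1), [nat_lit 3, nat_lit 2])))))
 (.node (nat_lit 10) (.node (nat_lit 8) (.leaf ((nat_lit 1), [nat_lit 0])) (.node (nat_lit 9) (.leaf ((nat_lit 1), [nat_lit 1, nat_lit 3, nat_lit 1])) (.leaf ((nat_lit 1), [nat_lit 3]))))
 (.node (nat_lit 12) (.node (nat_lit 11) (.leaf ((nat_lit 1), [nat_lit 2, nat_lit 3, nat_lit 1])) (.leaf ((nat_lit 1), [nat_lit 2, nat_lit 0, nat_lit 2]))) (.node (nat_lit 13) (.leaf ((nat_lit 1), [nat_lit 2, nat_lit 1, nat_lit 3, nat_lit 0])) (.leaf ((nat_lit 1), [nat_lit 1, nat_lit 3, nat_lit 0]))))))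
 (.node (nat_lit 21) (.node (nat_lit 17) (.node (nat_lit 15) (.leaf ((nat_lit 1), [nat_lit 0, nat_lit 3, nat_lit 0])) (.node (nat_lit 16) (.leaf ((nat_lit 1), [nat_lit 1, nat_lit 2])) (.leaf ((nat_lit 1), [nat_lit 3, nat_lit 1]))))
 (.node (nat_lit 19) (.node (nat_lit 18) (.leaf ((nat_lit 1), [nat_lit 2, nat_lit 0])) (.leaf ((nat_lit 1), [nat_lit 1]))) (.node (nat_lit 20) (.leaf ((nat_lit 3), [])) (.leaf ((nat_lit 1), [nat_lit 0, nat_lit 3, nat_lit 2, nat_lit 1])))))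
 (.node (nat_lit 24) (.node (nat_lit 22) (.leaf ((nat_lit 1), [nat_lit 2, nat_lit 1])) (.node (nat_lit 23) (.leaf ((nat_lit 4), [])) (.leaf ((nat_lit 1), [nat_lit 0, nat_lit 3, nat_lit 1]))))
 (.node (nat_lit 26) (.node (nat_lit 25) (.leaf ((nat_lit 1), [nat_lit 2, nat_lit 3])) (.leaf ((nat_lit 4), [nat_lit 3, nat_lit 0]))) (.node (nat_lit 27) (.leaf ((nat_lit 1), [nat_lit 3, nat_lit 2, nat_lit 1])) (.leaf ((nat_lit 1), [nat_lit 2, nat_lit 3, nat_lit 2])))))))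
 (.node (nat_lit 42) (.node (nat_lit 35) (.node (nat_lit 31) (.node (nat_lit 29) (.leaf ((nat_lit 1), [nat_lit 3, nat_lit 1, nat_lit 2])) (.node (nat_lit 30) (.leaf ((nat_lit 3), [nat_lit 3, nat_lit 0])) (.leaf ((nat_lit 5), []))))
 (.node (nat_lit 33) (.node (nat_lit 32) (.leaf ((nat_lit 4), [nat_lit 2, nat_lit 1])) (.leaf ((nat_lit 1), [nat_lit 0, nat_lit 3]))) (.node (nat_lit 34) (.leaf ((nat_lit 4), [nat_lit 2])) (.leaf ((nat_lit 5), [nat_lit 0])))))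
 (.node (nat_lit 38) (.node (nat_lit 36) (.leaf ((nat_lit 1), [nat_lit 3, nat_lit 2, nat_lit 0])) (.node (nat_lit 37) (.leaf ((nat_lit 1), [nat_lit 3, nat_lit 1, nat_lit 3, nat_lit 1])) (.leaf ((nat_lit 4), [nat_lit 0]))))
 (.node (nat_lit 40) (.node (nat_lit 39) (.leaf ((nat_lit 5), [nat_lit 2, nat_lit 0])) (.leaf ((nat_lit 6), []))) (.node (nat_lit 41) (.leaf ((nat_lit 3), [nat_lit 0])) (.leaf ((nat_lit 6), [nat_lit 1]))))))
 (.node (nat_lit 49) (.node (nat_lit 45) (.node (nat_lit 43) (.leaf ((nat_lit 3), [nat_lit 1])) (.node (nat_lit 44) (.leaf ((nat_lit 5), [nat_lit 3, nat_lit 1])) (.leaf ((nat_lit 1), [nat_lit 3, nat_lit 0]))))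
 (.node (nat_lit 47) (.node (nat_lit 46) (.leaf ((nat_lit 5), [nat_lit 1])) (.leaf ((nat_lit 6), [nat_lit 2, nat_lit 0]))) (.node (nat_lit 48) (.leaf ((nat_lit 3), [nat_lit 2, nat_lit 1])) (.leaf ((nat_lit 1), [nat_lit 1, nat_lit 2, nat_lit 3])))))
 (.node (nat_lit 52) (.node (nat_lit 50) (.leaf ((nat_lit 6), [nat_lit 3, nat_lit 1])) (.node (nat_lit 51) (.leaf ((nat_lit 4), [nat_lit 1])) (.leaf ((nat_lit 6), [nat_lit 0]))))
 (.node (nat_lit 54) (.node (nat_lit 53) (.leaf ((nat_lit 6), [nat_lit 2])) (.leaf ((nat_lit 3), [nat_lit 2]))) (.node (nat_lit 55) (.leaf ((nat_lit 1), [nat_lit 2])) (.leaf ((nat_lit 5), [nat_lit 2]))))))))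
noncomputable def n7Wd_0 : Tr (ℕ × List ℕ) := (.node (nat_lit 84) (.node (nat_lit 42) (.node (nat_lit 21) (.node (nat_lit 10) (.node (nat_lit 5) (.node (nat_lit 2) (.node (nat_lit 1) (.leaf ((nat_lit 1), [])) (.leaf ((nat_lit 2), [nat_lit 1, nat_lit 3, nat_lit 2]))) (.node (nat_lit 3) (.leaf ((nat_lit 3), [nat_lit 0, nat_lit 3, nat_lit 0, nat_lit 3, nat_lit 2, nat_lit 0, nat_lit 2, nat_lit 0])) (.node (nat_lit 4) (.leaf ((nat_lit 4), [])) (.leaf ((nat_lit 4), [nat_lit 3, nat_lit 0, nat_lit 3, nat_lit 2, nat_lit 0, nat_lit 2, nat_lit 1, nat_lit 2, nat_lit 0])))))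
 (.node (nat_lit 7) (.node (nat_lit 6) (.leaf ((nat_lit 0), [nat_lit 2, nat_lit 3, nat_lit 1, nat_lit 3, nat_lit 0, nat_lit 2, nat_lit 1, nat_lit 2, nat_lit 1])) (.leaf ((nat_lit 0), []))) (.node (nat_lit 8) (.leaf ((nat_lit 4), [nat_lit 1, nat_lit 3, nat_lit 0, nat_lit 3, nat_lit 2, nat_lit 0, nat_lit 2, nat_lit 1, nat_lit 2])) (.node (nat_lit 9) (.leaf ((nat_lit 5), [nat_lit 2, nat_lit 1, nat_lit 2, nat_lit 0])) (.leaf ((nat_lit 6), [nat_lit 1, nat_lit 3, nat_lit 1, nat_lit 3, nat_lit 0, nat_lit 2]))))))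
 (.node (nat_lit 15) (.node (nat_lit 12) (.node (nat_lit 11) (.leaf ((nat_lit 7), [nat_lit 2, nat_lit 0, nat_lit 3, nat_lit 2, nat_lit 0, nat_lit 2, nat_lit 0])) (.leaf ((nat_lit 8), [nat_lit 2, nat_lit 0, nat_lit 3, nat_lit 2, nat_lit 0, nat_lit 2, nat_lit 1, nat_lit 2, nat_lit 1]))) (.node (nat_lit 13) (.leaf ((nat_lit 4), [nat_lit 0, nat_lit 3, nat_lit 1, nat_lit 3, nat_lit 1, nat_lit 2, nat_lit 0])) (.node (nat_lit 14) (.leaf ((nat_lit 0), [nat_lit 3, nat_lit 0, nat_lit 2, nat_lit 1, nat_lit 2, nat_lit 1])) (.leaf ((nat_lit 9), [nat_lit 0, nat_lit 2, nat_lit 1, nat_lit 2, nat_lit 1])))))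
 (.node (nat_lit 18) (.node (nat_lit 16) (.leaf ((nat_lit 7), [nat_lit 3, nat_lit 1, nat_lit 3, nat_lit 1, nat_lit 2, nat_lit 0])) (.node (nat_lit 17) (.leaf ((nat_lit 6), [nat_lit 2, nat_lit 1, nat_lit 3, nat_lit 2, nat_lit 1, nat_lit 2, nat_lit 0])) (.leaf ((nat_lit 10), [nat_lit 3, nat_lit 2, nat_lit 1, nat_lit 3, nat_lit 2, nat_lit 0])))) (.node (nat_lit 19) (.leaf ((nat_lit 5), [nat_lit 3, nat_lit 1, nat_lit 3, nat_lit 2, nat_lit 0, nat_lit 2, nat_lit 1])) (.node (nat_lit 20) (.leaf ((nat_lit 9), [nat_lit 0, nat_lit 3, nat_lit 0, nat_lit 3, nat_lit 0, nat_lit 2, nat_lit 1, nat_lit 2, nat_lit 1])) (.leaf ((nat_lit 0), [nat_lit 1, nat_lit 3, nat_lit 1, nat_lit 3, nat_lit 2, nat_lit 1, nat_lit 2, nat_lit 1])))))))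
 (.node (nat_lit 31) (.node (nat_lit 26) (.node (nat_lit 23) (.node (nat_lit 22) (.leaf ((nat_lit 11), [nat_lit 2, nat_lit 1, nat_lit 3, nat_lit 2, nat_lit 1, nat_lit 2, nat_lit 0])) (.leaf ((nat_lit 12), [nat_lit 3, nat_lit 0, nat_lit 3, nat_lit 2, nat_lit 0, nat_lit 2, nat_lit 1, nat_lit 2, nat_lit 0]))) (.node (nat_lit 24) (.leaf ((nat_lit 13), [nat_lit 2, nat_lit 1, nat_lit 3, nat_lit 0, nat_lit 2])) (.node (nat_lit 25) (.leaf ((nat_lit 2), [nat_lit 3, nat_lit 1, nat_lit 3, nat_lit 1, nat_lit 2])) (.leaf ((nat_lit 1), [nat_lit 0, nat_lit 3, nat_lit 0, nat_lit 3, nat_lit 2, nat_lit 0, nat_lit 2, nat_lit 1, nat_lit 2, nat_lit 1])))))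
 (.node (nat_lit 28) (.node (nat_lit 27) (.leaf ((nat_lit 14), [nat_lit 1, nat_lit 3, nat_lit 2, nat_lit 1, nat_lit 2, nat_lit 0])) (.leaf ((nat_lit 0), []))) (.node (nat_lit 29) (.leaf ((nat_lit 0), [nat_lit 3, nat_lit 0, nat_lit 3, nat_lit 2, nat_lit 0, nat_lit 2, nat_lit 1, nat_lit 2, nat_lit 0])) (.node (nat_lit 30) (.leaf ((nat_lit 4), [nat_lit 2, nat_lit 3, nat_lit 1, nat_lit 3, nat_lit 0, nat_lit 2, nat_lit 1, nat_lit 2])) (.leaf ((nat_lit 3), [nat_lit 0, nat_lit 3, nat_lit 0, nat_lit 3, nat_lit 2, nat_lit 1, nat_lit 2]))))))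
 (.node (nat_lit 36) (.node (nat_lit 33) (.node (nat_lit 32) (.leaf ((nat_lit 14), [nat_lit 3, nat_lit 2, nat_lit 0, nat_lit 2, nat_lit 1, nat_lit 2])) (.leaf ((nat_lit 1), [nat_lit 0, nat_lit 2, nat_lit 1, nat_lit 2, nat_lit 1]))) (.node (nat_lit 34) (.leaf ((nat_lit 15), [nat_lit 2, nat_lit 1, nat_lit 3, nat_lit 2, nat_lit 1, nat_lit 2, nat_lit 0])) (.node (nat_lit 35) (.leaf ((nat_lit 16), [nat_lit 3, nat_lit 1, nat_lit 3, nat_lit 1, nat_lit 2, nat_lit 0])) (.leaf ((nat_lit 17), [nat_lit 3, nat_lit 1, nat_lit 3, nat_lit 2, nat_lit 0, nat_lit 2])))))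
 (.node (nat_lit 39) (.node (nat_lit 37) (.leaf ((nat_lit 18), [nat_lit 1, nat_lit 3, nat_lit 1, nat_lit 3, nat_lit 1, nat_lit 2, nat_lit 0])) (.node (nat_lit 38) (.leaf ((nat_lit 7), [nat_lit 3, nat_lit 1, nat_lit 3, nat_lit 2, nat_lit 1, nat_lit 2, nat_lit 0])) (.leaf ((nat_lit 19), [nat_lit 1, nat_lit 3, nat_lit 1, nat_lit 3, nat_lit 0, nat_lit 2])))) (.node (nat_lit 40) (.leaf ((nat_lit 1), [nat_lit 1, nat_lit 3, nat_lit 1, nat_lit 3, nat_lit 0, nat_lit 2])) (.node (nat_lit 41) (.leaf ((nat_lit 2), [nat_lit 2, nat_lit 1, nat_lit 3, nat_lit 2, nat_lit 1, nat_lit 2, nat_lit 0])) (.leaf ((nat_lit 20), [nat_lit 3, nat_lit 2, nat_lit 1, nat_lit 3, nat_lit 2, nat_lit 0]))))))))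
 (.node (nat_lit 63) (.node (nat_lit 52) (.node (nat_lit 47) (.node (nat_lit 44) (.node (nat_lit 43) (.leaf ((nat_lit 21), [nat_lit 3, nat_lit 2, nat_lit 1, nat_lit 3, nat_lit 2, nat_lit 1, nat_lit 2, nat_lit 0])) (.leaf ((nat_lit 6), [nat_lit 1, nat_lit 3, nat_lit 0, nat_lit 3, nat_lit 2, nat_lit 0, nat_lit 2]))) (.node (nat_lit 45) (.leaf ((nat_lit 22), [nat_lit 1, nat_lit 2, nat_lit 1, nat_lit 3, nat_lit 0, nat_lit 2, nat_lit 1])) (.node (nat_lit 46) (.leaf ((nat_lit 2), [nat_lit 3, nat_lit 1, nat_lit 3, nat_lit 1, nat_lit 2, nat_lit 0])) (.leaf ((nat_lit 1), [nat_lit 1, nat_lit 2, nat_lit 1, nat_lit 3, nat_lit 0, nat_lit 2, nat_lit 1])))))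
 (.node (nat_lit 49) (.node (nat_lit 48) (.leaf ((nat_lit 23), [nat_lit 2, nat_lit 0, nat_lit 3, nat_lit 2, nat_lit 0, nat_lit 2, nat_lit 1, nat_lit 2, nat_lit 1])) (.leaf ((nat_lit 10), [nat_lit 0, nat_lit 3, nat_lit 0, nat_lit 3, nat_lit 2, nat_lit 1, nat_lit 2]))) (.node (nat_lit 50) (.leaf ((nat_lit 24), [nat_lit 1, nat_lit 2, nat_lit 1, nat_lit 3, nat_lit 2, nat_lit 1, nat_lit 2, nat_lit 0])) (.node (nat_lit 51) (.leaf ((nat_lit 25), [nat_lit 2, nat_lit 0, nat_lit 3, nat_lit 0, nat_lit 2, nat_lit 1, nat_lit 2, nat_lit 1])) (.leaf ((nat_lit 26), [nat_lit 0, nat_lit 3, nat_lit 0, nat_lit 3, nat_lit 0, nat_lit 2, nat_lit 1, nat_lit 2]))))))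
 (.node (nat_lit 57) (.node (nat_lit 54) (.node (nat_lit 53) (.leaf ((nat_lit 13), [nat_lit 1, nat_lit 2, nat_lit 1, nat_lit 3, nat_lit 0, nat_lit 2, nat_lit 1])) (.leaf ((nat_lit 1), [nat_lit 1, nat_lit 3, nat_lit 2, nat_lit 0, nat_lit 2, nat_lit 1]))) (.node (nat_lit 55) (.leaf ((nat_lit 14), [nat_lit 3, nat_lit 1, nat_lit 3, nat_lit 0, nat_lit 2, nat_lit 1, nat_lit 2, nat_lit 0])) (.node (nat_lit 56) (.leaf ((nat_lit 3), [nat_lit 3, nat_lit 2, nat_lit 1, nat_lit 3, nat_lit 2, nat_lit 0, nat_lit 2, nat_lit 1])) (.leaf ((nat_lit 2), [nat_lit 2, nat_lit 1, nat_lit 2, nat_lit 0])))))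
 (.node (nat_lit 60) (.node (nat_lit 58) (.leaf ((nat_lit 13), [nat_lit 2, nat_lit 0, nat_lit 3, nat_lit 2, nat_lit 0, nat_lit 2, nat_lit 0])) (.node (nat_lit 59) (.leaf ((nat_lit 26), [nat_lit 2, nat_lit 1, nat_lit 3, nat_lit 2, nat_lit 1, nat_lit 2, nat_lit 0])) (.leaf ((nat_lit 27), [nat_lit 1, nat_lit 3, nat_lit 0, nat_lit 3, nat_lit 2, nat_lit 0, nat_lit 2, nat_lit 0])))) (.node (nat_lit 61) (.leaf ((nat_lit 8), [nat_lit 3, nat_lit 1, nat_lit 3, nat_lit 2, nat_lit 0, nat_lit 2, nat_lit 1])) (.node (nat_lit 62) (.leaf ((nat_lit 28), [nat_lit 3, nat_lit 2, nat_lit 1, nat_lit 3, nat_lit 2, nat_lit 1, nat_lit 2, nat_lit 0])) (.leaf ((nat_lit 29), [nat_lit 3, nat_lit 2, nat_lit 0, nat_lit 2, nat_lit 1, nat_lit 2, nat_lit 0])))))))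
 (.node (nat_lit 73) (.node (nat_lit 68) (.node (nat_lit 65) (.node (nat_lit 64) (.leaf ((nat_lit 16), [nat_lit 2, nat_lit 1, nat_lit 3, nat_lit 2, nat_lit 1, nat_lit 2, nat_lit 0])) (.leaf ((nat_lit 15), [nat_lit 1, nat_lit 3, nat_lit 0, nat_lit 3, nat_lit 2, nat_lit 0, nat_lit 2, nat_lit 1, nat_lit 2, nat_lit 1]))) (.node (nat_lit 66) (.leaf ((nat_lit 2), [nat_lit 3, nat_lit 2, nat_lit 1, nat_lit 3, nat_lit 2, nat_lit 0])) (.node (nat_lit 67) (.leaf ((nat_lit 30), [nat_lit 0, nat_lit 3, nat_lit 0, nat_lit 3, nat_lit 0, nat_lit 2, nat_lit 0])) (.leaf ((nat_lit 31), [nat_lit 1, nat_lit 3, nat_lit 0, nat_lit 3, nat_lit 2, nat_lit 0, nat_lit 2, nat_lit 0])))))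
 (.node (nat_lit 70) (.node (nat_lit 69) (.leaf ((nat_lit 20), [nat_lit 2, nat_lit 0, nat_lit 3, nat_lit 0, nat_lit 2, nat_lit 1])) (.leaf ((nat_lit 3), [nat_lit 2, nat_lit 1, nat_lit 3, nat_lit 2, nat_lit 1, nat_lit 2, nat_lit 0]))) (.node (nat_lit 71) (.leaf ((nat_lit 24), [nat_lit 0, nat_lit 2, nat_lit 1])) (.node (nat_lit 72) (.leaf ((nat_lit 32), [nat_lit 1, nat_lit 2, nat_lit 1, nat_lit 3])) (.leaf ((nat_lit 33), [nat_lit 2, nat_lit 1, nat_lit 2, nat_lit 1]))))))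
 (.node (nat_lit 78) (.node (nat_lit 75) (.node (nat_lit 74) (.leaf ((nat_lit 34), [nat_lit 1, nat_lit 3, nat_lit 2, nat_lit 0, nat_lit 2])) (.leaf ((nat_lit 35), [nat_lit 2, nat_lit 0, nat_lit 3, nat_lit 0, nat_lit 2, nat_lit 1]))) (.node (nat_lit 76) (.leaf ((nat_lit 24), [nat_lit 1, nat_lit 2, nat_lit 1, nat_lit 3, nat_lit 0, nat_lit 2, nat_lit 1])) (.node (nat_lit 77) (.leaf ((nat_lit 3), [nat_lit 3, nat_lit 0, nat_lit 3, nat_lit 2, nat_lit 0, nat_lit 2, nat_lit 1, nat_lit 2, nat_lit 0])) (.leaf ((nat_lit 36), [nat_lit 3, nat_lit 0, nat_lit 3, nat_lit 2, nat_lit 1, nat_lit 2])))))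
 (.node (nat_lit 81) (.node (nat_lit 79) (.leaf ((nat_lit 37), [nat_lit 2, nat_lit 0, nat_lit 3, nat_lit 2, nat_lit 1, nat_lit 2, nat_lit 0])) (.node (nat_lit 80) (.leaf ((nat_lit 38), [nat_lit 1, nat_lit 3, nat_lit 0, nat_lit 2, nat_lit 0])) (.leaf ((nat_lit 39), [nat_lit 0, nat_lit 3, nat_lit 0, nat_lit 3, nat_lit 0, nat_lit 2, nat_lit 1, nat_lit 2, nat_lit 1])))) (.node (nat_lit 82) (.leaf ((nat_lit 9), [nat_lit 1, nat_lit 2, nat_lit 1, nat_lit 3, nat_lit 0, nat_lit 2, nat_lit 1])) (.node (nat_lit 83) (.leaf ((nat_lit 8), [nat_lit 2, nat_lit 0, nat_lit 3, nat_lit 2, nat_lit 0, nat_lit 2, nat_lit 0])) (.leaf ((nat_lit 3), [nat_lit 2, nat_lit 1, nat_lit 3, nat_lit 0, nat_lit 2])))))))))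
 (.node (nat_lit 126) (.node (nat_lit 105) (.node (nat_lit 94) (.node (nat_lit 89) (.node (nat_lit 86) (.node (nat_lit 85) (.leaf ((nat_lit 9), [nat_lit 2, nat_lit 3, nat_lit 1, nat_lit 3, nat_lit 2, nat_lit 0, nat_lit 2, nat_lit 1, nat_lit 2, nat_lit 0])) (.leaf ((nat_lit 5), [nat_lit 0, nat_lit 3, nat_lit 2, nat_lit 0, nat_lit 2, nat_lit 1, nat_lit 2, nat_lit 0]))) (.node (nat_lit 87) (.leaf ((nat_lit 4), [nat_lit 2, nat_lit 1, nat_lit 3, nat_lit 2, nat_lit 0, nat_lit 2, nat_lit 1, nat_lit 2, nat_lit 1])) (.node (nat_lit 88) (.leaf ((nat_lit 32), [nat_lit 1, nat_lit 2, nat_lit 1, nat_lit 3, nat_lit 0, nat_lit 2, nat_lit 1])) (.leaf ((nat_lit 35), [nat_lit 1, nat_lit 3, nat_lit 2])))))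
 (.node (nat_lit 91) (.node (nat_lit 90) (.leaf ((nat_lit 15), [nat_lit 2, nat_lit 1, nat_lit 3, nat_lit 0, nat_lit 2])) (.leaf ((nat_lit 40), [nat_lit 0, nat_lit 3, nat_lit 1, nat_lit 3, nat_lit 2, nat_lit 0, nat_lit 2, nat_lit 0]))) (.node (nat_lit 92) (.leaf ((nat_lit 39), [nat_lit 3, nat_lit 0, nat_lit 3, nat_lit 0, nat_lit 2, nat_lit 1, nat_lit 2, nat_lit 0])) (.node (nat_lit 93) (.leaf ((nat_lit 38), [nat_lit 0, nat_lit 3, nat_lit 0, nat_lit 3, nat_lit 2])) (.leaf ((nat_lit 5), [nat_lit 2, nat_lit 1, nat_lit 3, nat_lit 2, nat_lit 1, nat_lit 2, nat_lit 0]))))))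
 (.node (nat_lit 99) (.node (nat_lit 96) (.node (nat_lit 95) (.leaf ((nat_lit 10), [nat_lit 1, nat_lit 3, nat_lit 0, nat_lit 3, nat_lit 2, nat_lit 0, nat_lit 2, nat_lit 1, nat_lit 2, nat_lit 1])) (.leaf ((nat_lit 14), [nat_lit 2, nat_lit 1, nat_lit 3, nat_lit 0, nat_lit 2]))) (.node (nat_lit 97) (.leaf ((nat_lit 41), [nat_lit 3, nat_lit 0, nat_lit 3, nat_lit 0, nat_lit 2, nat_lit 0])) (.node (nat_lit 98) (.leaf ((nat_lit 42), [nat_lit 3, nat_lit 1, nat_lit 3, nat_lit 2, nat_lit 0, nat_lit 2, nat_lit 1, nat_lit 2, nat_lit 0])) (.leaf ((nat_lit 43), [nat_lit 0, nat_lit 3, nat_lit 0, nat_lit 3, nat_lit 2, nat_lit 0, nat_lit 2, nat_lit 1, nat_lit 2, nat_lit 1])))))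
 (.node (nat_lit 102) (.node (nat_lit 100) (.leaf ((nat_lit 10), [nat_lit 2, nat_lit 1, nat_lit 3, nat_lit 2, nat_lit 1, nat_lit 2, nat_lit 0])) (.node (nat_lit 101) (.leaf ((nat_lit 5), [nat_lit 3, nat_lit 1, nat_lit 3, nat_lit 1, nat_lit 2, nat_lit 0])) (.leaf ((nat_lit 18), [nat_lit 1, nat_lit 3, nat_lit 2, nat_lit 0, nat_lit 2, nat_lit 1])))) (.node (nat_lit 103) (.leaf ((nat_lit 34), [nat_lit 1, nat_lit 3, nat_lit 1, nat_lit 3, nat_lit 2, nat_lit 1, nat_lit 2])) (.node (nat_lit 104) (.leaf ((nat_lit 33), [nat_lit 3, nat_lit 2, nat_lit 1, nat_lit 2])) (.leaf ((nat_lit 27), [nat_lit 1, nat_lit 3, nat_lit 1, nat_lit 3, nat_lit 2, nat_lit 0, nat_lit 2, nat_lit 1, nat_lit 2, nat_lit 0])))))))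
 (.node (nat_lit 115) (.node (nat_lit 110) (.node (nat_lit 107) (.node (nat_lit 106) (.leaf ((nat_lit 44), [nat_lit 3, nat_lit 1, nat_lit 3, nat_lit 1, nat_lit 2, nat_lit 0])) (.leaf ((nat_lit 27), [nat_lit 3, nat_lit 1, nat_lit 3, nat_lit 1, nat_lit 2, nat_lit 0]))) (.node (nat_lit 108) (.leaf ((nat_lit 5), [nat_lit 3, nat_lit 0, nat_lit 3, nat_lit 2, nat_lit 1, nat_lit 2])) (.node (nat_lit 109) (.leaf ((nat_lit 6), [nat_lit 3, nat_lit 1, nat_lit 3, nat_lit 1, nat_lit 2, nat_lit 1])) (.leaf ((nat_lit 21), [nat_lit 1, nat_lit 3, nat_lit 2, nat_lit 0, nat_lit 2])))))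
 (.node (nat_lit 112) (.node (nat_lit 111) (.leaf ((nat_lit 45), [nat_lit 0, nat_lit 3, nat_lit 0, nat_lit 3, nat_lit 2, nat_lit 0, nat_lit 2, nat_lit 1, nat_lit 2, nat_lit 1])) (.leaf ((nat_lit 21), [nat_lit 2, nat_lit 1, nat_lit 3, nat_lit 2, nat_lit 1, nat_lit 2, nat_lit 0]))) (.node (nat_lit 113) (.leaf ((nat_lit 21), [nat_lit 0, nat_lit 3, nat_lit 0, nat_lit 3, nat_lit 0, nat_lit 2, nat_lit 1, nat_lit 2])) (.node (nat_lit 114) (.leaf ((nat_lit 16), [nat_lit 2, nat_lit 0, nat_lit 3, nat_lit 2, nat_lit 0, nat_lit 2, nat_lit 1, nat_lit 2, nat_lit 1])) (.leaf ((nat_lit 45), [nat_lit 2, nat_lit 1, nat_lit 3, nat_lit 0, nat_lit 2, nat_lit 1]))))))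
 (.node (nat_lit 120) (.node (nat_lit 117) (.node (nat_lit 116) (.leaf ((nat_lit 22), [nat_lit 2, nat_lit 1, nat_lit 3, nat_lit 0, nat_lit 2, nat_lit 0])) (.leaf ((nat_lit 6), [nat_lit 1, nat_lit 3, nat_lit 1, nat_lit 3, nat_lit 0, nat_lit 2]))) (.node (nat_lit 118) (.leaf ((nat_lit 46), [nat_lit 3, nat_lit 2, nat_lit 0, nat_lit 2, nat_lit 1])) (.node (nat_lit 119) (.leaf ((nat_lit 41), [nat_lit 1, nat_lit 3, nat_lit 0, nat_lit 2, nat_lit 1, nat_lit 2, nat_lit 0])) (.leaf ((nat_lit 42), [nat_lit 1, nat_lit 2, nat_lit 1, nat_lit 3, nat_lit 2, nat_lit 1, nat_lit 2, nat_lit 1])))))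
 (.node (nat_lit 123) (.node (nat_lit 121) (.leaf ((nat_lit 47), [nat_lit 3, nat_lit 0, nat_lit 3, nat_lit 2, nat_lit 0, nat_lit 2, nat_lit 1, nat_lit 2, nat_lit 0])) (.node (nat_lit 122) (.leaf ((nat_lit 46), [nat_lit 0, nat_lit 3, nat_lit 1, nat_lit 3, nat_lit 2, nat_lit 1])) (.leaf ((nat_lit 11), [nat_lit 2, nat_lit 0, nat_lit 3, nat_lit 2, nat_lit 1, nat_lit 2])))) (.node (nat_lit 124) (.leaf ((nat_lit 23), [nat_lit 3, nat_lit 2, nat_lit 1, nat_lit 3, nat_lit 2, nat_lit 1, nat_lit 2, nat_lit 1])) (.node (nat_lit 125) (.leaf ((nat_lit 48), [nat_lit 1, nat_lit 3, nat_lit 0, nat_lit 3, nat_lit 2, nat_lit 0, nat_lit 2, nat_lit 1, nat_lit 2, nat_lit 1])) (.leaf ((nat_lit 6), [nat_lit 3, nat_lit 2, nat_lit 1, nat_lit 3, nat_lit 2, nat_lit 0]))))))))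
 (.node (nat_lit 147) (.node (nat_lit 136) (.node (nat_lit 131) (.node (nat_lit 128) (.node (nat_lit 127) (.leaf ((nat_lit 7), [nat_lit 1, nat_lit 3, nat_lit 0, nat_lit 3, nat_lit 0, nat_lit 2, nat_lit 1, nat_lit 2])) (.leaf ((nat_lit 18), [nat_lit 2, nat_lit 1, nat_lit 3, nat_lit 0, nat_lit 2, nat_lit 1, nat_lit 2, nat_lit 1]))) (.node (nat_lit 129) (.leaf ((nat_lit 49), [nat_lit 0, nat_lit 3, nat_lit 1, nat_lit 3, nat_lit 1])) (.node (nat_lit 130) (.leaf ((nat_lit 18), [nat_lit 2, nat_lit 1, nat_lit 3, nat_lit 2, nat_lit 1, nat_lit 2, nat_lit 0])) (.leaf ((nat_lit 18), [nat_lit 3, nat_lit 2, nat_lit 1, nat_lit 3, nat_lit 2, nat_lit 1, nat_lit 2, nat_lit 1])))))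
 (.node (nat_lit 133) (.node (nat_lit 132) (.leaf ((nat_lit 26), [nat_lit 3, nat_lit 0, nat_lit 2, nat_lit 0])) (.leaf ((nat_lit 49), [nat_lit 2, nat_lit 0, nat_lit 2, nat_lit 1]))) (.node (nat_lit 134) (.leaf ((nat_lit 19), [nat_lit 1, nat_lit 2, nat_lit 1, nat_lit 3, nat_lit 0, nat_lit 2])) (.node (nat_lit 135) (.leaf ((nat_lit 7), [nat_lit 2, nat_lit 0, nat_lit 3, nat_lit 2, nat_lit 0, nat_lit 2, nat_lit 0])) (.leaf ((nat_lit 30), [nat_lit 1, nat_lit 2, nat_lit 1, nat_lit 3, nat_lit 0, nat_lit 2, nat_lit 0]))))))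
 (.node (nat_lit 141) (.node (nat_lit 138) (.node (nat_lit 137) (.leaf ((nat_lit 43), [nat_lit 1, nat_lit 3, nat_lit 2, nat_lit 0, nat_lit 2, nat_lit 1, nat_lit 2])) (.leaf ((nat_lit 50), [nat_lit 1, nat_lit 2, nat_lit 1, nat_lit 3, nat_lit 2, nat_lit 1, nat_lit 2, nat_lit 1]))) (.node (nat_lit 139) (.leaf ((nat_lit 31), [nat_lit 0, nat_lit 3, nat_lit 0, nat_lit 3, nat_lit 0, nat_lit 2, nat_lit 1, nat_lit 2])) (.node (nat_lit 140) (.leaf ((nat_lit 30), [nat_lit 1, nat_lit 3, nat_lit 2, nat_lit 0, nat_lit 2, nat_lit 1, nat_lit 2, nat_lit 1])) (.leaf ((nat_lit 32), [nat_lit 1])))))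
 (.node (nat_lit 144) (.node (nat_lit 142) (.leaf ((nat_lit 20), [nat_lit 0, nat_lit 3, nat_lit 0, nat_lit 3, nat_lit 0, nat_lit 2, nat_lit 1, nat_lit 2])) (.node (nat_lit 143) (.leaf ((nat_lit 36), [nat_lit 1, nat_lit 2, nat_lit 1, nat_lit 3, nat_lit 0, nat_lit 2, nat_lit 1])) (.leaf ((nat_lit 7), [nat_lit 1, nat_lit 3, nat_lit 2, nat_lit 0, nat_lit 2, nat_lit 1])))) (.node (nat_lit 145) (.leaf ((nat_lit 28), [nat_lit 1, nat_lit 3, nat_lit 2, nat_lit 0, nat_lit 2])) (.node (nat_lit 146) (.leaf ((nat_lit 8), [nat_lit 2, nat_lit 1, nat_lit 3, nat_lit 2, nat_lit 1, nat_lit 2, nat_lit 1])) (.leaf ((nat_lit 51), [nat_lit 0, nat_lit 3, nat_lit 0, nat_lit 3, nat_lit 2, nat_lit 0, nat_lit 2, nat_lit 1, nat_lit 2, nat_lit 0])))))))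
 (.node (nat_lit 157) (.node (nat_lit 152) (.node (nat_lit 149) (.node (nat_lit 148) (.leaf ((nat_lit 12), [nat_lit 2, nat_lit 0, nat_lit 3, nat_lit 2, nat_lit 0, nat_lit 2, nat_lit 0])) (.leaf ((nat_lit 11), [nat_lit 0, nat_lit 2, nat_lit 1]))) (.node (nat_lit 150) (.leaf ((nat_lit 24), [nat_lit 3, nat_lit 2, nat_lit 1, nat_lit 3, nat_lit 2, nat_lit 0])) (.node (nat_lit 151) (.leaf ((nat_lit 29), [nat_lit 2, nat_lit 0, nat_lit 3, nat_lit 2, nat_lit 0, nat_lit 2, nat_lit 0])) (.leaf ((nat_lit 51), [nat_lit 1, nat_lit 3, nat_lit 0, nat_lit 3, nat_lit 2, nat_lit 0])))))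
 (.node (nat_lit 154) (.node (nat_lit 153) (.leaf ((nat_lit 8), [nat_lit 1, nat_lit 3, nat_lit 2, nat_lit 1, nat_lit 2])) (.leaf ((nat_lit 43), [nat_lit 1, nat_lit 3, nat_lit 0, nat_lit 2, nat_lit 1, nat_lit 2]))) (.node (nat_lit 155) (.leaf ((nat_lit 30), [nat_lit 1, nat_lit 2, nat_lit 1, nat_lit 3, nat_lit 0, nat_lit 2, nat_lit 1, nat_lit 2, nat_lit 1])) (.node (nat_lit 156) (.leaf ((nat_lit 33), [nat_lit 3, nat_lit 2, nat_lit 1, nat_lit 3, nat_lit 2, nat_lit 1])) (.leaf ((nat_lit 43), [nat_lit 2, nat_lit 0, nat_lit 3, nat_lit 1, nat_lit 2, nat_lit 0]))))))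
 (.node (nat_lit 162) (.node (nat_lit 159) (.node (nat_lit 158) (.leaf ((nat_lit 50), [nat_lit 0, nat_lit 3, nat_lit 0, nat_lit 3, nat_lit 2, nat_lit 1, nat_lit 2, nat_lit 1])) (.leaf ((nat_lit 41), [nat_lit 0, nat_lit 3, nat_lit 1, nat_lit 3, nat_lit 1]))) (.node (nat_lit 160) (.leaf ((nat_lit 8), [nat_lit 3, nat_lit 2, nat_lit 1, nat_lit 3, nat_lit 2, nat_lit 1, nat_lit 2, nat_lit 1])) (.node (nat_lit 161) (.leaf ((nat_lit 9), [nat_lit 2, nat_lit 1, nat_lit 3, nat_lit 2, nat_lit 1, nat_lit 2, nat_lit 0])) (.leaf ((nat_lit 21), [nat_lit 1, nat_lit 2, nat_lit 1, nat_lit 3])))))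
 (.node (nat_lit 165) (.node (nat_lit 163) (.leaf ((nat_lit 52), [nat_lit 0, nat_lit 3, nat_lit 0, nat_lit 2, nat_lit 1, nat_lit 2, nat_lit 1])) (.node (nat_lit 164) (.leaf ((nat_lit 53), [nat_lit 1, nat_lit 3, nat_lit 1, nat_lit 3, nat_lit 2, nat_lit 0, nat_lit 2, nat_lit 1])) (.leaf ((nat_lit 17), [nat_lit 3, nat_lit 1, nat_lit 3, nat_lit 2, nat_lit 0, nat_lit 2, nat_lit 1, nat_lit 2, nat_lit 1])))) (.node (nat_lit 166) (.leaf ((nat_lit 54), [nat_lit 1, nat_lit 3, nat_lit 1, nat_lit 3, nat_lit 0, nat_lit 2])) (.node (nat_lit 167) (.leaf ((nat_lit 17), [nat_lit 3, nat_lit 1, nat_lit 3, nat_lit 1, nat_lit 2, nat_lit 0])) (.leaf ((nat_lit 9), [nat_lit 1, nat_lit 3, nat_lit 1, nat_lit 3, nat_lit 2, nat_lit 1, nat_lit 2, nat_lit 0]))))))))))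
noncomputable def n7Wd_1 : Tr (ℕ × List ℕ) := (.node (nat_lit 252) (.node (nat_lit 210) (.node (nat_lit 189) (.node (nat_lit 178) (.node (nat_lit 173) (.node (nat_lit 170) (.node (nat_lit 169) (.leaf ((nat_lit 24), [nat_lit 2, nat_lit 1, nat_lit 3, nat_lit 0, nat_lit 2, nat_lit 1, nat_lit 2, nat_lit 1])) (.leaf ((nat_lit 10), [nat_lit 1, nat_lit 3, nat_lit 0, nat_lit 3, nat_lit 0, nat_lit 2, nat_lit 1, nat_lit 2]))) (.node (nat_lit 171) (.leaf ((nat_lit 55), [nat_lit 0, nat_lit 3, nat_lit 0, nat_lit 2, nat_lit 0])) (.node (nat_lit 172) (.leaf ((nat_lit 35), [nat_lit 2, nat_lit 1, nat_lit 3, nat_lit 2, nat_lit 1, nat_lit 2, nat_lit 0])) (.leaf ((nat_lit 32), [nat_lit 1, nat_lit 3, nat_lit 2])))))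
 (.node (nat_lit 175) (.node (nat_lit 174) (.leaf ((nat_lit 28), [nat_lit 0, nat_lit 3, nat_lit 0, nat_lit 3, nat_lit 2, nat_lit 0, nat_lit 2, nat_lit 1, nat_lit 2])) (.leaf ((nat_lit 25), [nat_lit 1, nat_lit 2, nat_lit 1, nat_lit 3, nat_lit 0, nat_lit 2, nat_lit 1]))) (.node (nat_lit 176) (.leaf ((nat_lit 55), [nat_lit 2, nat_lit 0, nat_lit 3, nat_lit 0, nat_lit 2, nat_lit 1, nat_lit 2])) (.node (nat_lit 177) (.leaf ((nat_lit 10), [nat_lit 3, nat_lit 2, nat_lit 0, nat_lit 2, nat_lit 1, nat_lit 2, nat_lit 0])) (.leaf ((nat_lit 41), [nat_lit 3, nat_lit 1, nat_lit 3, nat_lit 1]))))))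
 (.node (nat_lit 183) (.node (nat_lit 180) (.node (nat_lit 179) (.leaf ((nat_lit 46), [nat_lit 0, nat_lit 3, nat_lit 0, nat_lit 3, nat_lit 2, nat_lit 0, nat_lit 2, nat_lit 1, nat_lit 2, nat_lit 0])) (.leaf ((nat_lit 53), [nat_lit 2, nat_lit 0, nat_lit 3, nat_lit 2, nat_lit 0, nat_lit 2, nat_lit 1]))) (.node (nat_lit 181) (.leaf ((nat_lit 11), [nat_lit 0, nat_lit 3, nat_lit 0, nat_lit 3, nat_lit 0, nat_lit 2, nat_lit 0])) (.node (nat_lit 182) (.leaf ((nat_lit 23), [nat_lit 1, nat_lit 3, nat_lit 2, nat_lit 0, nat_lit 2, nat_lit 1, nat_lit 2, nat_lit 1])) (.leaf ((nat_lit 47), [nat_lit 0, nat_lit 3, nat_lit 1, nat_lit 3, nat_lit 1, nat_lit 2, nat_lit 1])))))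
 (.node (nat_lit 186) (.node (nat_lit 184) (.leaf ((nat_lit 22), [nat_lit 1, nat_lit 2, nat_lit 1, nat_lit 3, nat_lit 0, nat_lit 2, nat_lit 0])) (.node (nat_lit 185) (.leaf ((nat_lit 25), [nat_lit 1, nat_lit 3, nat_lit 2, nat_lit 0, nat_lit 2, nat_lit 0])) (.leaf ((nat_lit 45), [nat_lit 1, nat_lit 2, nat_lit 1, nat_lit 3, nat_lit 2, nat_lit 1, nat_lit 2, nat_lit 1])))) (.node (nat_lit 187) (.leaf ((nat_lit 23), [nat_lit 3, nat_lit 2, nat_lit 1, nat_lit 3, nat_lit 2, nat_lit 1, nat_lit 2, nat_lit 1])) (.node (nat_lit 188) (.leaf ((nat_lit 11), [nat_lit 1, nat_lit 3, nat_lit 1, nat_lit 3, nat_lit 2, nat_lit 1, nat_lit 2, nat_lit 0])) (.leaf ((nat_lit 46), [nat_lit 0, nat_lit 2, nat_lit 1, nat_lit 2])))))))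
 (.node (nat_lit 199) (.node (nat_lit 194) (.node (nat_lit 191) (.node (nat_lit 190) (.leaf ((nat_lit 38), [nat_lit 1, nat_lit 2, nat_lit 1, nat_lit 3, nat_lit 0, nat_lit 2, nat_lit 0])) (.leaf ((nat_lit 38), [nat_lit 2, nat_lit 0, nat_lit 3, nat_lit 2, nat_lit 0, nat_lit 2]))) (.node (nat_lit 192) (.leaf ((nat_lit 31), [nat_lit 2, nat_lit 0, nat_lit 2, nat_lit 0])) (.node (nat_lit 193) (.leaf ((nat_lit 46), [nat_lit 2, nat_lit 3, nat_lit 1, nat_lit 3, nat_lit 2])) (.leaf ((nat_lit 47), [nat_lit 2, nat_lit 0, nat_lit 3, nat_lit 2, nat_lit 0, nat_lit 2, nat_lit 1, nat_lit 2, nat_lit 1])))))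
 (.node (nat_lit 196) (.node (nat_lit 195) (.leaf ((nat_lit 23), [nat_lit 0])) (.leaf ((nat_lit 14), [nat_lit 2, nat_lit 0, nat_lit 3, nat_lit 2, nat_lit 0, nat_lit 2, nat_lit 0]))) (.node (nat_lit 197) (.leaf ((nat_lit 28), [nat_lit 3, nat_lit 0, nat_lit 2, nat_lit 1, nat_lit 2, nat_lit 1])) (.node (nat_lit 198) (.leaf ((nat_lit 11), [nat_lit 3, nat_lit 0, nat_lit 2, nat_lit 0])) (.leaf ((nat_lit 12), [nat_lit 2, nat_lit 1, nat_lit 2, nat_lit 1]))))))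
 (.node (nat_lit 204) (.node (nat_lit 201) (.node (nat_lit 200) (.leaf ((nat_lit 17), [nat_lit 2, nat_lit 0, nat_lit 3, nat_lit 0, nat_lit 2, nat_lit 1, nat_lit 2, nat_lit 0])) (.leaf ((nat_lit 53), [nat_lit 1, nat_lit 2, nat_lit 1, nat_lit 3, nat_lit 2, nat_lit 0, nat_lit 2, nat_lit 0]))) (.node (nat_lit 202) (.leaf ((nat_lit 55), [nat_lit 1, nat_lit 2, nat_lit 1, nat_lit 3, nat_lit 0, nat_lit 2, nat_lit 0])) (.node (nat_lit 203) (.leaf ((nat_lit 45), [nat_lit 3, nat_lit 1, nat_lit 2])) (.leaf ((nat_lit 25), [nat_lit 3, nat_lit 2, nat_lit 1, nat_lit 3, nat_lit 2, nat_lit 1])))))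
 (.node (nat_lit 207) (.node (nat_lit 205) (.leaf ((nat_lit 17), [nat_lit 3, nat_lit 0, nat_lit 3, nat_lit 2, nat_lit 0, nat_lit 2, nat_lit 0])) (.node (nat_lit 206) (.leaf ((nat_lit 12), [nat_lit 2, nat_lit 1, nat_lit 3, nat_lit 0, nat_lit 2, nat_lit 1, nat_lit 2, nat_lit 1])) (.leaf ((nat_lit 52), [nat_lit 1, nat_lit 2, nat_lit 1, nat_lit 3, nat_lit 2, nat_lit 1, nat_lit 2, nat_lit 1])))) (.node (nat_lit 208) (.leaf ((nat_lit 50), [nat_lit 1, nat_lit 2, nat_lit 1, nat_lit 3, nat_lit 0, nat_lit 2, nat_lit 0])) (.node (nat_lit 209) (.leaf ((nat_lit 50), [nat_lit 3, nat_lit 0, nat_lit 3, nat_lit 2, nat_lit 0, nat_lit 2, nat_lit 1, nat_lit 2, nat_lit 1])) (.leaf ((nat_lit 34), [nat_lit 1, nat_lit 2, nat_lit 1, nat_lit 3, nat_lit 2, nat_lit 1, nat_lit 2, nat_lit 1]))))))))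
 (.node (nat_lit 231) (.node (nat_lit 220) (.node (nat_lit 215) (.node (nat_lit 212) (.node (nat_lit 211) (.leaf ((nat_lit 53), [nat_lit 0, nat_lit 3, nat_lit 0, nat_lit 3])) (.leaf ((nat_lit 52), [nat_lit 3, nat_lit 2, nat_lit 1, nat_lit 3, nat_lit 2]))) (.node (nat_lit 213) (.leaf ((nat_lit 12), [nat_lit 2, nat_lit 0, nat_lit 3, nat_lit 2, nat_lit 1, nat_lit 2])) (.node (nat_lit 214) (.leaf ((nat_lit 28), [nat_lit 2, nat_lit 1, nat_lit 3, nat_lit 2, nat_lit 1, nat_lit 2, nat_lit 0])) (.leaf ((nat_lit 14), [nat_lit 3, nat_lit 0, nat_lit 2, nat_lit 1, nat_lit 2, nat_lit 1])))))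
 (.node (nat_lit 217) (.node (nat_lit 216) (.leaf ((nat_lit 48), [])) (.leaf ((nat_lit 39), [nat_lit 0, nat_lit 3, nat_lit 0, nat_lit 3]))) (.node (nat_lit 218) (.leaf ((nat_lit 40), [nat_lit 0, nat_lit 3, nat_lit 0, nat_lit 3, nat_lit 1, nat_lit 2, nat_lit 1])) (.node (nat_lit 219) (.leaf ((nat_lit 37), [nat_lit 2, nat_lit 0, nat_lit 3, nat_lit 0, nat_lit 2, nat_lit 1, nat_lit 2, nat_lit 1])) (.leaf ((nat_lit 48), [nat_lit 3, nat_lit 0, nat_lit 2, nat_lit 1, nat_lit 2, nat_lit 1]))))))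
 (.node (nat_lit 225) (.node (nat_lit 222) (.node (nat_lit 221) (.leaf ((nat_lit 23), [nat_lit 2, nat_lit 0, nat_lit 3, nat_lit 2, nat_lit 0, nat_lit 2, nat_lit 0])) (.leaf ((nat_lit 12), [nat_lit 3, nat_lit 1, nat_lit 3, nat_lit 2, nat_lit 0, nat_lit 2]))) (.node (nat_lit 223) (.leaf ((nat_lit 13), [nat_lit 2, nat_lit 1, nat_lit 3, nat_lit 2, nat_lit 0, nat_lit 2, nat_lit 1])) (.node (nat_lit 224) (.leaf ((nat_lit 48), [nat_lit 3, nat_lit 1, nat_lit 3, nat_lit 2, nat_lit 1, nat_lit 2])) (.leaf ((nat_lit 36), [nat_lit 1, nat_lit 3, nat_lit 2, nat_lit 1, nat_lit 2])))))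
 (.node (nat_lit 228) (.node (nat_lit 226) (.leaf ((nat_lit 45), [nat_lit 1, nat_lit 2, nat_lit 1, nat_lit 3, nat_lit 0, nat_lit 2, nat_lit 0])) (.node (nat_lit 227) (.leaf ((nat_lit 55), [nat_lit 0, nat_lit 3, nat_lit 1, nat_lit 3, nat_lit 0, nat_lit 2, nat_lit 1, nat_lit 2])) (.leaf ((nat_lit 37), [nat_lit 1, nat_lit 2, nat_lit 1, nat_lit 3, nat_lit 2, nat_lit 1, nat_lit 2, nat_lit 1])))) (.node (nat_lit 229) (.leaf ((nat_lit 48), [nat_lit 3, nat_lit 0, nat_lit 3, nat_lit 2, nat_lit 0, nat_lit 2, nat_lit 1, nat_lit 2, nat_lit 1])) (.node (nat_lit 230) (.leaf ((nat_lit 13), [nat_lit 1, nat_lit 2, nat_lit 1, nat_lit 3, nat_lit 0])) (.leaf ((nat_lit 15), [nat_lit 2, nat_lit 3, nat_lit 1, nat_lit 3, nat_lit 1])))))))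
 (.node (nat_lit 241) (.node (nat_lit 236) (.node (nat_lit 233) (.node (nat_lit 232) (.leaf ((nat_lit 31), [nat_lit 1, nat_lit 2, nat_lit 1, nat_lit 3, nat_lit 0, nat_lit 2, nat_lit 0])) (.leaf ((nat_lit 31), [nat_lit 2, nat_lit 1, nat_lit 3, nat_lit 0, nat_lit 2, nat_lit 1]))) (.node (nat_lit 234) (.leaf ((nat_lit 55), [nat_lit 0, nat_lit 3, nat_lit 0, nat_lit 3])) (.node (nat_lit 235) (.leaf ((nat_lit 36), [nat_lit 3, nat_lit 1, nat_lit 3, nat_lit 1])) (.leaf ((nat_lit 15), [nat_lit 3, nat_lit 2, nat_lit 1, nat_lit 3])))))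
 (.node (nat_lit 238) (.node (nat_lit 237) (.leaf ((nat_lit 13), [nat_lit 3, nat_lit 2, nat_lit 1, nat_lit 3, nat_lit 2, nat_lit 0, nat_lit 2, nat_lit 1])) (.leaf ((nat_lit 47), [nat_lit 2, nat_lit 0, nat_lit 3, nat_lit 1, nat_lit 2, nat_lit 1]))) (.node (nat_lit 239) (.leaf ((nat_lit 47), [nat_lit 3, nat_lit 2, nat_lit 1, nat_lit 3, nat_lit 2, nat_lit 0, nat_lit 2])) (.node (nat_lit 240) (.leaf ((nat_lit 51), [nat_lit 3, nat_lit 1, nat_lit 3, nat_lit 1, nat_lit 2, nat_lit 0])) (.leaf ((nat_lit 15), [nat_lit 1, nat_lit 3, nat_lit 0, nat_lit 3, nat_lit 2, nat_lit 1, nat_lit 2, nat_lit 1]))))))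
 (.node (nat_lit 246) (.node (nat_lit 243) (.node (nat_lit 242) (.leaf ((nat_lit 36), [nat_lit 1, nat_lit 3, nat_lit 0, nat_lit 3, nat_lit 1, nat_lit 2])) (.leaf ((nat_lit 48), [nat_lit 1, nat_lit 3, nat_lit 0, nat_lit 3, nat_lit 0, nat_lit 2, nat_lit 1, nat_lit 2, nat_lit 0]))) (.node (nat_lit 244) (.leaf ((nat_lit 49), [nat_lit 3, nat_lit 0, nat_lit 3, nat_lit 0, nat_lit 2, nat_lit 0])) (.node (nat_lit 245) (.leaf ((nat_lit 51), [nat_lit 0, nat_lit 3, nat_lit 2, nat_lit 1])) (.leaf ((nat_lit 40), [nat_lit 1, nat_lit 2, nat_lit 1, nat_lit 3, nat_lit 2, nat_lit 1, nat_lit 2, nat_lit 1])))))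
 (.node (nat_lit 249) (.node (nat_lit 247) (.leaf ((nat_lit 16), [nat_lit 0, nat_lit 3, nat_lit 0, nat_lit 3, nat_lit 0, nat_lit 2, nat_lit 1])) (.node (nat_lit 248) (.leaf ((nat_lit 44), [nat_lit 2, nat_lit 0, nat_lit 3, nat_lit 2, nat_lit 1, nat_lit 2, nat_lit 0])) (.leaf ((nat_lit 26), [nat_lit 0, nat_lit 3, nat_lit 0, nat_lit 3, nat_lit 1])))) (.node (nat_lit 250) (.leaf ((nat_lit 29), [nat_lit 0, nat_lit 3, nat_lit 0, nat_lit 3])) (.node (nat_lit 251) (.leaf ((nat_lit 19), [nat_lit 3, nat_lit 2, nat_lit 0])) (.leaf ((nat_lit 41), [nat_lit 3, nat_lit 1, nat_lit 3, nat_lit 1, nat_lit 2, nat_lit 0])))))))))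
 (.node (nat_lit 294) (.node (nat_lit 273) (.node (nat_lit 262) (.node (nat_lit 257) (.node (nat_lit 254) (.node (nat_lit 253) (.leaf ((nat_lit 44), [nat_lit 1, nat_lit 3, nat_lit 2, nat_lit 1, nat_lit 2, nat_lit 0])) (.leaf ((nat_lit 16), [nat_lit 3, nat_lit 1, nat_lit 3, nat_lit 2, nat_lit 0, nat_lit 2, nat_lit 1, nat_lit 2, nat_lit 0]))) (.node (nat_lit 255) (.leaf ((nat_lit 54), [nat_lit 0, nat_lit 3, nat_lit 1, nat_lit 3, nat_lit 0, nat_lit 2, nat_lit 0])) (.node (nat_lit 256) (.leaf ((nat_lit 52), [nat_lit 1, nat_lit 2, nat_lit 1, nat_lit 3, nat_lit 2, nat_lit 1, nat_lit 2])) (.leaf ((nat_lit 52), [nat_lit 3, nat_lit 2, nat_lit 1, nat_lit 3, nat_lit 0])))))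
 (.node (nat_lit 259) (.node (nat_lit 258) (.leaf ((nat_lit 19), [nat_lit 1, nat_lit 2, nat_lit 1, nat_lit 3, nat_lit 2, nat_lit 1, nat_lit 2, nat_lit 1])) (.leaf ((nat_lit 26), [nat_lit 2, nat_lit 1, nat_lit 3, nat_lit 2, nat_lit 1, nat_lit 2]))) (.node (nat_lit 260) (.leaf ((nat_lit 54), [nat_lit 3, nat_lit 0, nat_lit 3, nat_lit 2, nat_lit 1, nat_lit 2, nat_lit 1])) (.node (nat_lit 261) (.leaf ((nat_lit 16), [nat_lit 1, nat_lit 3, nat_lit 0, nat_lit 3, nat_lit 2, nat_lit 0, nat_lit 2, nat_lit 1, nat_lit 2])) (.leaf ((nat_lit 25), [nat_lit 0, nat_lit 3, nat_lit 2, nat_lit 0]))))))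
 (.node (nat_lit 267) (.node (nat_lit 264) (.node (nat_lit 263) (.leaf ((nat_lit 22), [nat_lit 0, nat_lit 3, nat_lit 2, nat_lit 0, nat_lit 2, nat_lit 1, nat_lit 2, nat_lit 1])) (.leaf ((nat_lit 43), [nat_lit 2, nat_lit 0, nat_lit 2, nat_lit 1, nat_lit 2]))) (.node (nat_lit 265) (.leaf ((nat_lit 42), [nat_lit 2, nat_lit 1, nat_lit 3, nat_lit 2, nat_lit 0, nat_lit 2, nat_lit 1, nat_lit 2, nat_lit 1])) (.node (nat_lit 266) (.leaf ((nat_lit 41), [nat_lit 2, nat_lit 1, nat_lit 3, nat_lit 2, nat_lit 0, nat_lit 2, nat_lit 1])) (.leaf ((nat_lit 50), [nat_lit 3, nat_lit 0, nat_lit 3, nat_lit 2, nat_lit 1])))))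
 (.node (nat_lit 270) (.node (nat_lit 268) (.leaf ((nat_lit 17), [nat_lit 3, nat_lit 1, nat_lit 3, nat_lit 1, nat_lit 2, nat_lit 0])) (.node (nat_lit 269) (.leaf ((nat_lit 54), [nat_lit 1, nat_lit 3, nat_lit 1, nat_lit 3, nat_lit 0, nat_lit 2])) (.leaf ((nat_lit 54), [nat_lit 2, nat_lit 1, nat_lit 3, nat_lit 0, nat_lit 2])))) (.node (nat_lit 271) (.leaf ((nat_lit 19), [nat_lit 2, nat_lit 0, nat_lit 3, nat_lit 2, nat_lit 0, nat_lit 2])) (.node (nat_lit 272) (.leaf ((nat_lit 49), [nat_lit 2, nat_lit 3, nat_lit 1, nat_lit 3, nat_lit 2, nat_lit 0, nat_lit 2, nat_lit 0])) (.leaf ((nat_lit 18), [nat_lit 1, nat_lit 3, nat_lit 0, nat_lit 3, nat_lit 2, nat_lit 0, nat_lit 2, nat_lit 1, nat_lit 2])))))))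
 (.node (nat_lit 283) (.node (nat_lit 278) (.node (nat_lit 275) (.node (nat_lit 274) (.leaf ((nat_lit 37), [nat_lit 1, nat_lit 2, nat_lit 1, nat_lit 3, nat_lit 0, nat_lit 2, nat_lit 0])) (.leaf ((nat_lit 33), [nat_lit 2, nat_lit 0, nat_lit 3]))) (.node (nat_lit 276) (.leaf ((nat_lit 30), [nat_lit 1, nat_lit 2, nat_lit 1, nat_lit 3, nat_lit 2, nat_lit 1, nat_lit 2, nat_lit 1])) (.node (nat_lit 277) (.leaf ((nat_lit 32), [nat_lit 3, nat_lit 2, nat_lit 1, nat_lit 3, nat_lit 0, nat_lit 2, nat_lit 1, nat_lit 2, nat_lit 0])) (.leaf ((nat_lit 20), [nat_lit 3, nat_lit 2, nat_lit 1, nat_lit 3, nat_lit 1, nat_lit 2])))))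
 (.node (nat_lit 280) (.node (nat_lit 279) (.leaf ((nat_lit 31), [nat_lit 2, nat_lit 0, nat_lit 2, nat_lit 1])) (.leaf ((nat_lit 19), [nat_lit 2, nat_lit 0, nat_lit 3, nat_lit 2, nat_lit 0, nat_lit 2, nat_lit 1, nat_lit 2, nat_lit 0]))) (.node (nat_lit 281) (.leaf ((nat_lit 29), [nat_lit 3, nat_lit 0, nat_lit 3, nat_lit 2, nat_lit 0, nat_lit 2, nat_lit 1, nat_lit 2])) (.node (nat_lit 282) (.leaf ((nat_lit 49), [nat_lit 1, nat_lit 2, nat_lit 1, nat_lit 3, nat_lit 0, nat_lit 2, nat_lit 0])) (.leaf ((nat_lit 20), [nat_lit 3, nat_lit 0, nat_lit 3, nat_lit 2, nat_lit 0, nat_lit 2, nat_lit 1, nat_lit 2, nat_lit 0]))))))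
 (.node (nat_lit 288) (.node (nat_lit 285) (.node (nat_lit 284) (.leaf ((nat_lit 32), [nat_lit 1, nat_lit 3, nat_lit 2, nat_lit 0, nat_lit 2, nat_lit 1])) (.leaf ((nat_lit 30), [nat_lit 1, nat_lit 3, nat_lit 1, nat_lit 3, nat_lit 1, nat_lit 2]))) (.node (nat_lit 286) (.leaf ((nat_lit 39), [nat_lit 1, nat_lit 2, nat_lit 1, nat_lit 3, nat_lit 2, nat_lit 1, nat_lit 2])) (.node (nat_lit 287) (.leaf ((nat_lit 39), [nat_lit 3, nat_lit 0, nat_lit 3, nat_lit 0, nat_lit 2, nat_lit 1, nat_lit 2, nat_lit 1])) (.leaf ((nat_lit 47), [nat_lit 3])))))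
 (.node (nat_lit 291) (.node (nat_lit 289) (.leaf ((nat_lit 38), [nat_lit 1, nat_lit 3, nat_lit 0, nat_lit 3, nat_lit 2, nat_lit 0, nat_lit 2, nat_lit 1, nat_lit 2, nat_lit 0])) (.node (nat_lit 290) (.leaf ((nat_lit 37), [nat_lit 3, nat_lit 0, nat_lit 3, nat_lit 2, nat_lit 0, nat_lit 2])) (.leaf ((nat_lit 40), [nat_lit 3, nat_lit 2, nat_lit 1, nat_lit 3, nat_lit 0])))) (.node (nat_lit 292) (.leaf ((nat_lit 36), [nat_lit 1, nat_lit 3, nat_lit 2])) (.node (nat_lit 293) (.leaf ((nat_lit 20), [nat_lit 1, nat_lit 3, nat_lit 0, nat_lit 3, nat_lit 2, nat_lit 0, nat_lit 2, nat_lit 1, nat_lit 2, nat_lit 1])) (.leaf ((nat_lit 35), []))))))))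
 (.node (nat_lit 315) (.node (nat_lit 304) (.node (nat_lit 299) (.node (nat_lit 296) (.node (nat_lit 295) (.leaf ((nat_lit 22), [nat_lit 0, nat_lit 2, nat_lit 1, nat_lit 2])) (.leaf ((nat_lit 45), [nat_lit 1, nat_lit 3, nat_lit 0, nat_lit 3, nat_lit 2, nat_lit 1]))) (.node (nat_lit 297) (.leaf ((nat_lit 21), [nat_lit 0, nat_lit 3, nat_lit 0, nat_lit 3, nat_lit 1])) (.node (nat_lit 298) (.leaf ((nat_lit 40), [nat_lit 0, nat_lit 3, nat_lit 0, nat_lit 3, nat_lit 0, nat_lit 2, nat_lit 1])) (.leaf ((nat_lit 53), [nat_lit 3, nat_lit 0, nat_lit 3, nat_lit 2, nat_lit 0, nat_lit 2, nat_lit 1, nat_lit 2])))))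
 (.node (nat_lit 301) (.node (nat_lit 300) (.leaf ((nat_lit 46), [nat_lit 1, nat_lit 2, nat_lit 1, nat_lit 3, nat_lit 0, nat_lit 2, nat_lit 0])) (.leaf ((nat_lit 54), [nat_lit 0, nat_lit 3, nat_lit 2, nat_lit 1]))) (.node (nat_lit 302) (.leaf ((nat_lit 26), [nat_lit 0, nat_lit 3, nat_lit 1, nat_lit 3, nat_lit 2, nat_lit 0, nat_lit 2, nat_lit 1])) (.node (nat_lit 303) (.leaf ((nat_lit 44), [nat_lit 2, nat_lit 3, nat_lit 1, nat_lit 3, nat_lit 2, nat_lit 0, nat_lit 2])) (.leaf ((nat_lit 34), [nat_lit 1, nat_lit 2, nat_lit 1, nat_lit 3, nat_lit 0, nat_lit 2, nat_lit 0]))))))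
 (.node (nat_lit 309) (.node (nat_lit 306) (.node (nat_lit 305) (.leaf ((nat_lit 34), [nat_lit 1, nat_lit 3, nat_lit 0, nat_lit 3, nat_lit 2, nat_lit 0, nat_lit 2, nat_lit 1, nat_lit 2, nat_lit 0])) (.leaf ((nat_lit 22), [nat_lit 1, nat_lit 2, nat_lit 1, nat_lit 3, nat_lit 2, nat_lit 1, nat_lit 2, nat_lit 1]))) (.node (nat_lit 307) (.leaf ((nat_lit 55), [nat_lit 2, nat_lit 1, nat_lit 3])) (.node (nat_lit 308) (.leaf ((nat_lit 25), [nat_lit 2, nat_lit 3, nat_lit 1, nat_lit 3, nat_lit 2, nat_lit 1, nat_lit 2, nat_lit 0])) (.leaf ((nat_lit 24), [nat_lit 3, nat_lit 0, nat_lit 3, nat_lit 2, nat_lit 0, nat_lit 2, nat_lit 1, nat_lit 2])))))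
 (.node (nat_lit 312) (.node (nat_lit 310) (.leaf ((nat_lit 53), [nat_lit 2, nat_lit 0, nat_lit 3, nat_lit 2, nat_lit 0, nat_lit 2, nat_lit 1, nat_lit 2, nat_lit 0])) (.node (nat_lit 311) (.leaf ((nat_lit 40), [nat_lit 0, nat_lit 3, nat_lit 0, nat_lit 2, nat_lit 1, nat_lit 2])) (.leaf ((nat_lit 39), [nat_lit 3, nat_lit 1, nat_lit 3, nat_lit 1, nat_lit 2, nat_lit 0])))) (.node (nat_lit 313) (.leaf ((nat_lit 27), [nat_lit 1, nat_lit 3, nat_lit 2, nat_lit 1])) (.node (nat_lit 314) (.leaf ((nat_lit 35), [nat_lit 3, nat_lit 2, nat_lit 1, nat_lit 3, nat_lit 2])) (.leaf ((nat_lit 34), [nat_lit 1, nat_lit 2, nat_lit 1, nat_lit 3, nat_lit 2, nat_lit 1, nat_lit 2, nat_lit 1])))))))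
 (.node (nat_lit 325) (.node (nat_lit 320) (.node (nat_lit 317) (.node (nat_lit 316) (.leaf ((nat_lit 42), [nat_lit 2, nat_lit 0, nat_lit 3, nat_lit 1, nat_lit 2, nat_lit 1])) (.leaf ((nat_lit 42), [nat_lit 1, nat_lit 3, nat_lit 0, nat_lit 3, nat_lit 0, nat_lit 2, nat_lit 1, nat_lit 2, nat_lit 0]))) (.node (nat_lit 318) (.leaf ((nat_lit 52), [nat_lit 2, nat_lit 3, nat_lit 1, nat_lit 3, nat_lit 0, nat_lit 2, nat_lit 1, nat_lit 2])) (.node (nat_lit 319) (.leaf ((nat_lit 35), [nat_lit 3, nat_lit 1, nat_lit 3, nat_lit 1])) (.leaf ((nat_lit 27), [nat_lit 0, nat_lit 3, nat_lit 0, nat_lit 3, nat_lit 2, nat_lit 1, nat_lit 2, nat_lit 0])))))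
 (.node (nat_lit 322) (.node (nat_lit 321) (.leaf ((nat_lit 33), [nat_lit 1, nat_lit 2, nat_lit 1, nat_lit 3, nat_lit 1, nat_lit 2, nat_lit 1])) (.leaf ((nat_lit 51), [nat_lit 3, nat_lit 2, nat_lit 0, nat_lit 2, nat_lit 1]))) (.node (nat_lit 323) (.leaf ((nat_lit 49), [nat_lit 0, nat_lit 3, nat_lit 0, nat_lit 3, nat_lit 2, nat_lit 0, nat_lit 2, nat_lit 1, nat_lit 2, nat_lit 0])) (.node (nat_lit 324) (.leaf ((nat_lit 29), [nat_lit 2, nat_lit 0, nat_lit 3, nat_lit 2, nat_lit 0, nat_lit 2, nat_lit 1])) (.leaf ((nat_lit 50), [nat_lit 0, nat_lit 3, nat_lit 0, nat_lit 2, nat_lit 1, nat_lit 2]))))))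
 (.node (nat_lit 330) (.node (nat_lit 327) (.node (nat_lit 326) (.leaf ((nat_lit 43), [nat_lit 0, nat_lit 3, nat_lit 1, nat_lit 3, nat_lit 2, nat_lit 0, nat_lit 2])) (.leaf ((nat_lit 42), [nat_lit 0, nat_lit 3, nat_lit 1, nat_lit 3, nat_lit 0, nat_lit 2, nat_lit 0]))) (.node (nat_lit 328) (.leaf ((nat_lit 27), [nat_lit 1, nat_lit 3, nat_lit 1, nat_lit 3, nat_lit 0, nat_lit 2])) (.node (nat_lit 329) (.leaf ((nat_lit 44), [nat_lit 1, nat_lit 3, nat_lit 1, nat_lit 3, nat_lit 0, nat_lit 2])) (.leaf ((nat_lit 44), [nat_lit 2, nat_lit 1, nat_lit 3, nat_lit 0, nat_lit 2])))))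
 (.node (nat_lit 333) (.node (nat_lit 331) (.leaf ((nat_lit 51), [nat_lit 3, nat_lit 0, nat_lit 2])) (.node (nat_lit 332) (.leaf ((nat_lit 29), [nat_lit 0, nat_lit 3, nat_lit 2, nat_lit 1, nat_lit 2])) (.leaf ((nat_lit 28), [nat_lit 1, nat_lit 2, nat_lit 1, nat_lit 3, nat_lit 1])))) (.node (nat_lit 334) (.leaf ((nat_lit 33), [nat_lit 1, nat_lit 2, nat_lit 1, nat_lit 3, nat_lit 0, nat_lit 2, nat_lit 0])) (.node (nat_lit 335) (.leaf ((nat_lit 37), [nat_lit 2, nat_lit 3, nat_lit 1, nat_lit 3, nat_lit 0, nat_lit 2, nat_lit 0])) (.leaf ((nat_lit 38), [nat_lit 3, nat_lit 1, nat_lit 3, nat_lit 1]))))))))))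
noncomputable def n7Wd : Tr (ℕ × List ℕ) := (.node (nat_lit 168) n7Wd_0 n7Wd_1)
theorem n7q : allR 0 56 (dblChk (nat_lit 4) (nat_lit 15) (MG.gl42L.map Lev.b) MG.gl42T n7T n7Dd (topN MG.gl42L) 56 7 n7PA n7Wd) = true := by decide +kernel
noncomputable def n7Ws : List (List ℕ) := [[]]
noncomputable def n7CE : Tr (ℕ × List ℕ × List (List ℕ)) := (.node (nat_lit 3) (.node (nat_lit 1) (.leaf ((nat_lit 0), [], [])) (.node (nat_lit 2) (.leaf ((nat_lit 8), [nat_lit 1, nat_lit 0, nat_lit 5, nat_lit 2, nat_lit 1, nat_lit 4, nat_lit 1, nat_lit 3, nat_lit 2, nat_lit 1, nat_lit 0], [[nat_lit 2, nat_lit 99], [nat_lit 1, nat_lit 3, nat_lit 0]])) (.leaf ((nat_lit 8), [nat_lit 5, nat_lit 4, nat_lit 5, nat_lit 0, nat_lit 4, nat_lit 1, nat_lit 3, nat_lit 1], [[nat_lit 99, nat_lit 2, nat_lit 0], [nat_lit 3]]))))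
 (.node (nat_lit 5) (.node (nat_lit 4) (.leaf ((nat_lit 1), [nat_lit 4, nat_lit 2, nat_lit 1, nat_lit 4, nat_lit 2, nat_lit 3, nat_lit 2], [[nat_lit 99, nat_lit 3]])) (.leaf ((nat_lit 1), [nat_lit 2, nat_lit 1, nat_lit 5, nat_lit 2, nat_lit 4, nat_lit 2, nat_lit 1], [[nat_lit 99, nat_lit 1]]))) (.node (nat_lit 6) (.leaf ((nat_lit 1), [nat_lit 2, nat_lit 1, nat_lit 4, nat_lit 0], [[nat_lit 3, nat_lit 99, nat_lit 0]])) (.leaf ((nat_lit 1), [nat_lit 4, nat_lit 2, nat_lit 1, nat_lit 3, nat_lit 0], [[nat_lit 99, nat_lit 0]])))))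
theorem n7s : allR 0 7 (stepChk (nat_lit 4) (nat_lit 15) (MG.gl42L.map Lev.b) MG.gl42T n7T n7T n7T n7Dd AW [nat_lit 1, nat_lit 8] n7Ws n7CE) = true := by decide +kernel
noncomputable def n7iI : Tr (List ℕ) := (.node (nat_lit 4) (.node (nat_lit 2) (.node (nat_lit 1) (.leaf [nat_lit 3, nat_lit 2, nat_lit 1, nat_lit 3, nat_lit 2, nat_lit 0, nat_lit 2, nat_lit 1, nat_lit 2, nat_lit 0]) (.leaf [nat_lit 3, nat_lit 1, nat_lit 3, nat_lit 2])) (.node (nat_lit 3) (.leaf [nat_lit 0, nat_lit 2, nat_lit 1, nat_lit 2, nat_lit 1]) (.leaf [nat_lit 2, nat_lit 1, nat_lit 2, nat_lit 0])))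
 (.node (nat_lit 6) (.node (nat_lit 5) (.leaf [nat_lit 1, nat_lit 3, nat_lit 0, nat_lit 3, nat_lit 2, nat_lit 0]) (.leaf [nat_lit 2, nat_lit 3, nat_lit 1, nat_lit 3, nat_lit 2, nat_lit 1, nat_lit 2, nat_lit 0])) (.node (nat_lit 7) (.leaf [nat_lit 1, nat_lit 3, nat_lit 0, nat_lit 3, nat_lit 2, nat_lit 0, nat_lit 2, nat_lit 1, nat_lit 2]) (.leaf [nat_lit 0, nat_lit 3, nat_lit 0, nat_lit 3, nat_lit 2, nat_lit 0, nat_lit 2, nat_lit 1, nat_lit 2, nat_lit 1]))))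
theorem n7ih : Alt.a6R.all (fun w => eqB (n7L.map Lev.b) (apF (fun y => apL (nat_lit 4) (nat_lit 15) n7T (n7iI.get y)) w) fun a => a) = true := by decide +kernel
noncomputable def n7iD : Tr (List ℕ) := (.node (nat_lit 2) (.node (nat_lit 1) (.leaf [nat_lit 7, nat_lit 4, nat_lit 3]) (.leaf [nat_lit 3, nat_lit 7, nat_lit 4, nat_lit 2])) (.node (nat_lit 3) (.leaf [nat_lit 1, nat_lit 5, nat_lit 2, nat_lit 1]) (.leaf [nat_lit 6, nat_lit 4, nat_lit 0, nat_lit 3])))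
theorem n7is : band (surChk (nat_lit 4) (nat_lit 15) (n7L.map Lev.b) n7T n7iI (topN Alt.a6L) n7iD (topN n7L)) (Nat.ble (chainOrd 6 Alt.a6L) (chainOrd 15 n7L)) = true := by decide +kernel
theorem s7 {G : Type*} [Group G] [Finite G] {X : Type*} [MulAction G X] {pt : ℕ → X} (C : Ch G 15 (nat_lit 4) (nat_lit 15) pt MG.gl42T MG.gl42L) {H : Subgroup G} (h : PJ C.lets.e AW 7 H) :
    ∃ K : Subgroup G, Nonempty (H ≃* K) ∧ (Q K ∨ ∃ j ∈ [nat_lit 1, nat_lit 8], PJ C.lets.e AW j K) := by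
  obtain ⟨K, e, hK⟩ := h.conj
  refine ⟨K, e, ?_⟩
  obtain ⟨N, D, S⟩ := (C.gen (lets_words C.lets n7E n7w) n7chain n7sd n7tc)
  have le := C.le_AW D hK n7slp n7a
  have hD := lets_words C.lets n7dE n7dw
  refine (C.step D.lets D.lets D.lets hD le_normalizer le_rfl (C.dbl D.lets hD n7q (by decide +kernel)) (Ws := n7Ws) (fun u hu => ⟨[], List.mem_singleton_self _, u, hu, (one_mul u).symm⟩) (by decide +kernel) n7s le).imp_left fun h => ?_
  rw [le_antisymm h le]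
  exact .inr (.inl ⟨6, by norm_num, by norm_num, ((Alt.a6std.isoW D n7ih n7is).map MulEquiv.symm)⟩)
noncomputable def n8t0 : ℕ := (nat_lit 0x3456a987bcde210)
noncomputable def n8t1 : ℕ := (nat_lit 0xeda9cb876521430)
noncomputable def n8t2 : ℕ := (nat_lit 0xde65a912cb34780)
noncomputable def n8t3 : ℕ := (nat_lit 0xa6c0e284d17395b)
noncomputable def n8T : Tr ℕ := (.node (nat_lit 2) (.node (nat_lit 1) (.leaf n8t0) (.leaf n8t1)) (.node (nat_lit 3) (.leaf n8t2) (.leaf n8t3)))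
noncomputable def n8R : Tr (List ℕ) := (.node (nat_lit 6) (.node (nat_lit 3) (.node (nat_lit 1) (.leaf [nat_lit 0, nat_lit 2, nat_lit 3, nat_lit 0, nat_lit 3, nat_lit 0, nat_lit 3, nat_lit 2, nat_lit 3, nat_lit 1, nat_lit 3]) (.node (nat_lit 2) (.leaf [nat_lit 3, nat_lit 0, nat_lit 3, nat_lit 1, nat_lit 3, nat_lit 0, nat_lit 3, nat_lit 1]) (.leaf [nat_lit 3, nat_lit 0, nat_lit 1, nat_lit 0, nat_lit 3, nat_lit 0, nat_lit 1, nat_lit 0]))) (.node (nat_lit 4) (.leaf [nat_lit 2, nat_lit 0, nat_lit 2, nat_lit 0]) (.node (nat_lit 5) (.leaf [nat_lit 1, nat_lit 0, nat_lit 1, nat_lit 0, nat_lit 1, nat_lit 0]) (.leaf [nat_lit 0, nat_lit 0]))))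
 (.node (nat_lit 9) (.node (nat_lit 7) (.leaf [nat_lit 1, nat_lit 1]) (.node (nat_lit 8) (.leaf [nat_lit 0, nat_lit 1, nat_lit 0, nat_lit 2, nat_lit 1, nat_lit 2, nat_lit 1, nat_lit 0, nat_lit 1, nat_lit 2, nat_lit 1, nat_lit 2]) (.leaf [nat_lit 2, nat_lit 2])))
 (.node (nat_lit 11) (.node (nat_lit 10) (.leaf [nat_lit 3, nat_lit 1, nat_lit 2, nat_lit 1, nat_lit 3, nat_lit 1, nat_lit 2, nat_lit 1]) (.leaf [nat_lit 3, nat_lit 2, nat_lit 3, nat_lit 2, nat_lit 3, nat_lit 2, nat_lit 3, nat_lit 2, nat_lit 3, nat_lit 2])) (.node (nat_lit 12) (.leaf [nat_lit 3, nat_lit 3]) (.leaf [nat_lit 2, nat_lit 1, nat_lit 2, nat_lit 1, nat_lit 2, nat_lit 1, nat_lit 2, nat_lit 1, nat_lit 2, nat_lit 1, nat_lit 2, nat_lit 1])))))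
noncomputable def n8L0 : Lev := ⟨(nat_lit 0), (nat_lit 4), (nat_lit 0x30403040202030301030102040400), (nat_lit 0x40303010402040402020404030300),
 (.node (nat_lit 2) (.node (nat_lit 1) (.leaf (nat_lit 0xe000100030001000c0003000a0003000000020000000d000200090000))
 (.leaf (nat_lit 0x600020001000100000000000b00040002000b00050000000400010000)))
 (.node (nat_lit 3) (.leaf (nat_lit 0x100000001000900020000000000010000000e000f000100010000))
 (.leaf (nat_lit 0x80000000800000007000100020002000100010003000e000000000001)))),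
 (.node (nat_lit 2) (.node (nat_lit 1) (.leaf (nat_lit 0x500000500000500000500000403000403000301000301000000000303000000000205000101000003000000))
 (.leaf (nat_lit 0x704000103000600000600000000000000000009000103000202000009000600000000000206000601000000)))
 (.node (nat_lit 3) (.leaf (nat_lit 0x801000000000800000a03000902000000000000000801000000000300000801000801000801000000))
 (.leaf (nat_lit 0xb0000000000000a000000000904000b00000a04000006000b01000b00000b01000106000000000000000b01))))⟩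
noncomputable def n8L1 : Lev := ⟨(nat_lit 7), (nat_lit 3), (nat_lit 0x30100000000030000000203030200), (nat_lit 0x40300000000050000000203010400),
 (.node (nat_lit 1) (.leaf (nat_lit 0x300000000000000000000000600000000000000010002000200050000))
 (.node (nat_lit 2) (.leaf (nat_lit 0x400030000000000000000000200000000000000000001000100000000))
 (.leaf (nat_lit 0x10000000000000000000000010000000000010000000000010000)))),
 (.node (nat_lit 1) (.leaf (nat_lit 0x500000000000000000000000000000000000301000000000000000000000501000303000303000405000000))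
 (.node (nat_lit 2) (.leaf (nat_lit 0x704000402000000000000000000000000000c01000000000000000000000000000600000601000000000000))
 (.leaf (nat_lit 0x801000000000000000000000000000000000800000000000000000800000000000000000801000000))))⟩
noncomputable def n8L2 : Lev := ⟨(nat_lit 1), (nat_lit 2), (nat_lit 0x10000000000000000000002000000), (nat_lit 0x20000000000000000000001000000),
 (.node (nat_lit 1) (.leaf (nat_lit 0x1000000000000))
 (.leaf (nat_lit 0x200000000000000000000000000000000000000000000000000010000))),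
 (.node (nat_lit 1) (.leaf (nat_lit 0x501000000000000000000))
 (.leaf (nat_lit 0x402000000000000000000000000000000000000000000000000000000000000000000000000000601000000)))⟩
noncomputable def n8L3 : Lev := ⟨(nat_lit 3), (nat_lit 1), (nat_lit 0x10000000000000000000000000000), (nat_lit 0x10000000000000000000000000000),
 (.leaf (nat_lit 0x1000000000000)),
 (.leaf (nat_lit 0x501000000000000000000))⟩
noncomputable def n8L : List Lev := [n8L0, n8L1, n8L2, n8L3]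
noncomputable def n8E : Tr (List ℕ) := (.node (nat_lit 2) (.node (nat_lit 1) (.leaf [nat_lit 1, nat_lit 0, nat_lit 4, nat_lit 1, nat_lit 0]) (.leaf [nat_lit 4, nat_lit 5, nat_lit 4, nat_lit 1, nat_lit 0, nat_lit 3, nat_lit 1, nat_lit 0])) (.node (nat_lit 3) (.leaf [nat_lit 2, nat_lit 1, nat_lit 0, nat_lit 5, nat_lit 4, nat_lit 2, nat_lit 1, nat_lit 4, nat_lit 0, nat_lit 3, nat_lit 2, nat_lit 1]) (.leaf [nat_lit 4, nat_lit 0, nat_lit 5, nat_lit 0, nat_lit 4, nat_lit 3, nat_lit 2, nat_lit 0, nat_lit 3])))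
theorem n8w_0 : n8T.all2 (fun c w => isProd 15 (nat_lit 4) (nat_lit 15) MG.gl42T c w) n8E = true := by decide +kernel
theorem n8w : n8T.all2 (fun c w => isProd 15 (nat_lit 4) (nat_lit 15) MG.gl42T c w) n8E = true := n8w_0
theorem n8lev0 : levChk 15 (nat_lit 4) (nat_lit 15) n8T n8R n8L0 n8L1.N = true := by decide +kernel
theorem n8lev1 : levChk 15 (nat_lit 4) (nat_lit 15) n8T n8R n8L1 n8L2.N = true := by decide +kernel
theorem n8lev2 : levChk 15 (nat_lit 4) (nat_lit 15) n8T n8R n8L2 n8L3.N = true := by decide +kernel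
theorem n8lev3 : levChk 15 (nat_lit 4) (nat_lit 15) n8T n8R n8L3 0 = true := by decide +kernel
theorem n8chain : Chain 15 (nat_lit 4) (nat_lit 15) n8T n8R n8L := chain_cons n8lev0 <| chain_cons n8lev1 <| chain_cons n8lev2 <| chain_one n8lev3
theorem n8sd : band (selChk n8T n8T (topN n8L)) (n8R.all fun w => eqB (MG.gl42L.map Lev.b) (apL (nat_lit 4) (nat_lit 15) n8T w) fun a => a) = true := by decide +kernel
theorem n8tc : tchainChk 15 (nat_lit 4) (nat_lit 15) n8T n8L = true := by decide +kernel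
noncomputable def n8s0 : ℕ := (nat_lit 0xd6a1c370e592b48)
noncomputable def n8s1 : ℕ := (nat_lit 0x5436a789bedc012)
noncomputable def n8s2 : ℕ := (nat_lit 0x6ea2c408d5193b7)
noncomputable def n8s3 : ℕ := (nat_lit 0x4356a978bced120)
noncomputable def n8s4 : ℕ := (nat_lit 0xde65cb34a912780)
noncomputable def n8s5 : ℕ := (nat_lit 0xdea96512cb78340)
noncomputable def n8s6 : ℕ := (nat_lit 0xeda9cb876521430)
noncomputable def n8s7 : ℕ := (nat_lit 0x1256cb879ade430)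
noncomputable def n8s8 : ℕ := (nat_lit 0x3456a987bcde210)
noncomputable def n8s9 : ℕ := (nat_lit 0xde65a912cb34780)
noncomputable def n8s10 : ℕ := (nat_lit 0xa6c0e284d17395b)
noncomputable def n8S : Tr ℕ := (.node (nat_lit 5) (.node (nat_lit 2) (.node (nat_lit 1) (.leaf n8s0) (.leaf n8s1)) (.node (nat_lit 3) (.leaf n8s2) (.node (nat_lit 4) (.leaf n8s3) (.leaf n8s4))))
 (.node (nat_lit 8) (.node (nat_lit 6) (.leaf n8s5) (.node (nat_lit 7) (.leaf n8s6) (.leaf n8s7))) (.node (nat_lit 9) (.leaf n8s8) (.node (nat_lit 10) (.leaf n8s9) (.leaf n8s10)))))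
noncomputable def n8D : Tr (List ℕ) := (.node (nat_lit 5) (.node (nat_lit 2) (.node (nat_lit 1) (.leaf []) (.leaf [])) (.node (nat_lit 3) (.leaf [nat_lit 0, nat_lit 0, nat_lit 0, nat_lit 0, nat_lit 0]) (.node (nat_lit 4) (.leaf [nat_lit 1, nat_lit 2, nat_lit 2, nat_lit 1, nat_lit 0, nat_lit 0, nat_lit 1]) (.leaf [nat_lit 0, nat_lit 1, nat_lit 2, nat_lit 2, nat_lit 1]))))
 (.node (nat_lit 8) (.node (nat_lit 6) (.leaf [nat_lit 1, nat_lit 0, nat_lit 0, nat_lit 1, nat_lit 2]) (.node (nat_lit 7) (.leaf [nat_lit 3, nat_lit 5, nat_lit 3, nat_lit 4, nat_lit 3, nat_lit 4]) (.leaf [nat_lit 3, nat_lit 4, nat_lit 3, nat_lit 5]))) (.node (nat_lit 9) (.leaf [nat_lit 6, nat_lit 7]) (.node (nat_lit 10) (.leaf [nat_lit 5, nat_lit 6]) (.leaf [nat_lit 0, nat_lit 1, nat_lit 5, nat_lit 3, nat_lit 6, nat_lit 8])))))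
theorem n8slp : slpChk 15 (nat_lit 4) (nat_lit 15) n8S n8D 2 9 = true := by decide +kernel
theorem n8a : band (selChk n8T n8S (2 + 9)) (allB 2 fun j => anyL (AW.get 8) fun w => isProd 15 (nat_lit 4) (nat_lit 15) MG.gl42T (n8S.get j) w) = true := by decide +kernel
noncomputable def n8Dd : Tr ℕ := (.node (nat_lit 1) (.leaf (nat_lit 0xedcba9876543210)) (.node (nat_lit 2) (.leaf (nat_lit 0xcdeb89a74563012)) (.leaf (nat_lit 0x9e7cdab82503614))))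
noncomputable def n8dE : Tr (List ℕ) := (.node (nat_lit 1) (.leaf []) (.node (nat_lit 2) (.leaf [nat_lit 0]) (.leaf [nat_lit 2, nat_lit 3, nat_lit 0])))
theorem n8dw_0 : n8Dd.all2 (fun c w => isProd 15 (nat_lit 4) (nat_lit 15) MG.gl42T c w) n8dE = true := by decide +kernel
theorem n8dw : n8Dd.all2 (fun c w => isProd 15 (nat_lit 4) (nat_lit 15) MG.gl42T c w) n8dE = true := n8dw_0
noncomputable def n8PA : Tr (ℕ × List ℕ) := (.node (nat_lit 14) (.node (nat_lit 7) (.node (nat_lit 3) (.node (nat_lit 1) (.leaf ((nat_lit 0), [])) (.node (nat_lit 2) (.leaf ((nat_lit 1), [])) (.leaf ((nat_lit 1), [nat_lit 3, nat_lit 0]))))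
 (.node (nat_lit 5) (.node (nat_lit 4) (.leaf ((nat_lit 1), [nat_lit 1])) (.leaf ((nat_lit 1), [nat_lit 3, nat_lit 2]))) (.node (nat_lit 6) (.leaf ((nat_lit 1), [nat_lit 0, nat_lit 3])) (.leaf ((nat_lit 1), [nat_lit 2])))))
 (.node (nat_lit 10) (.node (nat_lit 8) (.leaf ((nat_lit 1), [nat_lit 3, nat_lit 0, nat_lit 1])) (.node (nat_lit 9) (.leaf ((nat_lit 1), [nat_lit 2, nat_lit 0])) (.leaf ((nat_lit 1), [nat_lit 1, nat_lit 0, nat_lit 3]))))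
 (.node (nat_lit 12) (.node (nat_lit 11) (.leaf ((nat_lit 1), [nat_lit 2, nat_lit 1, nat_lit 0])) (.leaf ((nat_lit 1), [nat_lit 0]))) (.node (nat_lit 13) (.leaf ((nat_lit 2), [])) (.leaf ((nat_lit 1), [nat_lit 3]))))))
 (.node (nat_lit 21) (.node (nat_lit 17) (.node (nat_lit 15) (.leaf ((nat_lit 1), [nat_lit 0, nat_lit 1, nat_lit 0])) (.node (nat_lit 16) (.leaf ((nat_lit 2), [nat_lit 0, nat_lit 1])) (.leaf ((nat_lit 2), [nat_lit 3, nat_lit 1]))))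
 (.node (nat_lit 19) (.node (nat_lit 18) (.leaf ((nat_lit 2), [nat_lit 1, nat_lit 3, nat_lit 1])) (.leaf ((nat_lit 2), [nat_lit 1, nat_lit 0]))) (.node (nat_lit 20) (.leaf ((nat_lit 2), [nat_lit 0])) (.leaf ((nat_lit 1), [nat_lit 1, nat_lit 0])))))
 (.node (nat_lit 24) (.node (nat_lit 22) (.leaf ((nat_lit 2), [nat_lit 3])) (.node (nat_lit 23) (.leaf ((nat_lit 2), [nat_lit 1])) (.leaf ((nat_lit 2), [nat_lit 0, nat_lit 1, nat_lit 0]))))
 (.node (nat_lit 26) (.node (nat_lit 25) (.leaf ((nat_lit 2), [nat_lit 3, nat_lit 1, nat_lit 0])) (.leaf ((nat_lit 1), [nat_lit 0, nat_lit 1]))) (.node (nat_lit 27) (.leaf ((nat_lit 2), [nat_lit 2, nat_lit 1])) (.leaf ((nat_lit 2), [nat_lit 3, nat_lit 0, nat_lit 1, nat_lit 0])))))))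
noncomputable def n8Wd : Tr (ℕ × List ℕ) := (.node (nat_lit 84) (.node (nat_lit 42) (.node (nat_lit 21) (.node (nat_lit 10) (.node (nat_lit 5) (.node (nat_lit 2) (.node (nat_lit 1) (.leaf ((nat_lit 1), [])) (.leaf ((nat_lit 1), [nat_lit 2, nat_lit 3, nat_lit 0, nat_lit 3, nat_lit 2]))) (.node (nat_lit 3) (.leaf ((nat_lit 2), [nat_lit 0, nat_lit 3, nat_lit 1])) (.node (nat_lit 4) (.leaf ((nat_lit 0), [nat_lit 2, nat_lit 0, nat_lit 1, nat_lit 2, nat_lit 0])) (.leaf ((nat_lit 0), [nat_lit 1, nat_lit 3, nat_lit 2, nat_lit 3, nat_lit 2, nat_lit 1, nat_lit 2, nat_lit 1])))))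
 (.node (nat_lit 7) (.node (nat_lit 6) (.leaf ((nat_lit 0), [nat_lit 3, nat_lit 2, nat_lit 3])) (.leaf ((nat_lit 0), []))) (.node (nat_lit 8) (.leaf ((nat_lit 0), [nat_lit 2, nat_lit 3, nat_lit 0, nat_lit 3, nat_lit 2])) (.node (nat_lit 9) (.leaf ((nat_lit 3), [nat_lit 1])) (.leaf ((nat_lit 4), [nat_lit 1, nat_lit 3, nat_lit 2, nat_lit 1, nat_lit 2, nat_lit 1, nat_lit 2, nat_lit 1, nat_lit 0]))))))
 (.node (nat_lit 15) (.node (nat_lit 12) (.node (nat_lit 11) (.leaf ((nat_lit 4), [nat_lit 1, nat_lit 2, nat_lit 0, nat_lit 3, nat_lit 2, nat_lit 1, nat_lit 2, nat_lit 1, nat_lit 2, nat_lit 1, nat_lit 0])) (.leaf ((nat_lit 5), [nat_lit 1, nat_lit 3, nat_lit 2, nat_lit 1, nat_lit 2, nat_lit 1, nat_lit 2, nat_lit 1, nat_lit 0]))) (.node (nat_lit 13) (.leaf ((nat_lit 3), [nat_lit 3, nat_lit 0])) (.node (nat_lit 14) (.leaf ((nat_lit 3), [nat_lit 3, nat_lit 2, nat_lit 0, nat_lit 1, nat_lit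 2])) (.leaf ((nat_lit 0), [nat_lit 1, nat_lit 3, nat_lit 0])))))
 (.node (nat_lit 18) (.node (nat_lit 16) (.leaf ((nat_lit 6), [nat_lit 0, nat_lit 3, nat_lit 0, nat_lit 3, nat_lit 2, nat_lit 0, nat_lit 1, nat_lit 2, nat_lit 1])) (.node (nat_lit 17) (.leaf ((nat_lit 7), [nat_lit 0, nat_lit 3, nat_lit 1, nat_lit 2, nat_lit 0, nat_lit 1, nat_lit 0])) (.leaf ((nat_lit 8), [nat_lit 2, nat_lit 0, nat_lit 3, nat_lit 2, nat_lit 0])))) (.node (nat_lit 19) (.leaf ((nat_lit 2), [nat_lit 0, nat_lit 3])) (.node (nat_lit 20) (.leaf ((nat_lit 2), [nat_lit 1, nat_lit 2, nat_lit 0, nat_lit 3, nat_lit 2, nat_lit 1, nat_lit 2, nat_lit 0, nat_lit 1, nat_lit 0])) (.leaf ((nat_lit 1), [nat_lit 1])))))))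
 (.node (nat_lit 31) (.node (nat_lit 26) (.node (nat_lit 23) (.node (nat_lit 22) (.leaf ((nat_lit 8), [nat_lit 2, nat_lit 0, nat_lit 3, nat_lit 1, nat_lit 2, nat_lit 1, nat_lit 2, nat_lit 0])) (.leaf ((nat_lit 9), [nat_lit 1, nat_lit 3, nat_lit 0, nat_lit 1, nat_lit 2, nat_lit 1]))) (.node (nat_lit 24) (.leaf ((nat_lit 10), [nat_lit 0, nat_lit 3, nat_lit 0, nat_lit 3, nat_lit 0, nat_lit 1, nat_lit 2, nat_lit 0, nat_lit 1, nat_lit 0])) (.node (nat_lit 25) (.leaf ((nat_lit 11), [nat_lit 3, nat_lit 2])) (.leaf ((nat_lit 4), [nat_lit 3, nat_lit 2, nat_lit 3, nat_lit 2, nat_lit 1, nat_lit 2])))))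
 (.node (nat_lit 28) (.node (nat_lit 27) (.leaf ((nat_lit 12), [nat_lit 0, nat_lit 3, nat_lit 2, nat_lit 1, nat_lit 2, nat_lit 1])) (.leaf ((nat_lit 1), [nat_lit 0, nat_lit 3, nat_lit 2, nat_lit 1, nat_lit 2, nat_lit 1]))) (.node (nat_lit 29) (.leaf ((nat_lit 1), [nat_lit 0, nat_lit 3, nat_lit 2, nat_lit 0, nat_lit 1, nat_lit 0])) (.node (nat_lit 30) (.leaf ((nat_lit 13), [])) (.leaf ((nat_lit 5), [nat_lit 1]))))))
 (.node (nat_lit 36) (.node (nat_lit 33) (.node (nat_lit 32) (.leaf ((nat_lit 14), [nat_lit 0, nat_lit 3, nat_lit 0, nat_lit 3, nat_lit 0, nat_lit 1, nat_lit 2, nat_lit 1, nat_lit 0])) (.leaf ((nat_lit 15), [nat_lit 2, nat_lit 3, nat_lit 2, nat_lit 3, nat_lit 0, nat_lit 1, nat_lit 2]))) (.node (nat_lit 34) (.leaf ((nat_lit 9), [nat_lit 2, nat_lit 0, nat_lit 3, nat_lit 2, nat_lit 0, nat_lit 1, nat_lit 2, nat_lit 0, nat_lit 1])) (.node (nat_lit 35) (.leaf ((nat_lit 8),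 [nat_lit 1, nat_lit 3, nat_lit 2, nat_lit 1, nat_lit 2, nat_lit 1, nat_lit 2, nat_lit 1, nat_lit 0])) (.leaf ((nat_lit 1), [nat_lit 0, nat_lit 3, nat_lit 2, nat_lit 1, nat_lit 2, nat_lit 1])))))
 (.node (nat_lit 39) (.node (nat_lit 37) (.leaf ((nat_lit 16), [nat_lit 0, nat_lit 3, nat_lit 2, nat_lit 1, nat_lit 2, nat_lit 1, nat_lit 0])) (.node (nat_lit 38) (.leaf ((nat_lit 17), [nat_lit 0, nat_lit 3, nat_lit 0, nat_lit 1, nat_lit 2, nat_lit 0])) (.leaf ((nat_lit 13), [nat_lit 0, nat_lit 3, nat_lit 1, nat_lit 2])))) (.node (nat_lit 40) (.leaf ((nat_lit 2), [nat_lit 2, nat_lit 3, nat_lit 2, nat_lit 3, nat_lit 1, nat_lit 2])) (.node (nat_lit 41) (.leaf ((nat_lit 14), [nat_lit 2, nat_lit 3, nat_lit 1, nat_lit 3, nat_lit 1, nat_lit 2, nat_lit 1, nat_lit 2, nat_lit 0])) (.leaf ((nat_lit 6), [nat_lit 0, nat_lit 3, nat_lit 1, nat_lit 2, nat_lit 0, nat_lit 1, nat_lit 0]))))))))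
 (.node (nat_lit 63) (.node (nat_lit 52) (.node (nat_lit 47) (.node (nat_lit 44) (.node (nat_lit 43) (.leaf ((nat_lit 18), [nat_lit 0, nat_lit 3, nat_lit 2, nat_lit 1, nat_lit 2, nat_lit 1, nat_lit 2, nat_lit 0])) (.leaf ((nat_lit 19), [nat_lit 1, nat_lit 3, nat_lit 1, nat_lit 2]))) (.node (nat_lit 45) (.leaf ((nat_lit 7), [nat_lit 0, nat_lit 3, nat_lit 0, nat_lit 3, nat_lit 0])) (.node (nat_lit 46) (.leaf ((nat_lit 14), [nat_lit 1, nat_lit 3, nat_lit 0, nat_lit 1, nat_lit 2, nat_lit 1])) (.leaf ((nat_lit 2), [nat_lit 0, nat_lit 3, nat_lit 1, nat_lit 2, nat_lit 0, nat_lit 1, nat_lit 0])))))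
 (.node (nat_lit 49) (.node (nat_lit 48) (.leaf ((nat_lit 20), [nat_lit 2, nat_lit 3, nat_lit 2, nat_lit 1, nat_lit 2, nat_lit 0])) (.leaf ((nat_lit 21), [nat_lit 2, nat_lit 1, nat_lit 2, nat_lit 1, nat_lit 2, nat_lit 0, nat_lit 1, nat_lit 0]))) (.node (nat_lit 50) (.leaf ((nat_lit 22), [nat_lit 2, nat_lit 0, nat_lit 3, nat_lit 2, nat_lit 1, nat_lit 2, nat_lit 0])) (.node (nat_lit 51) (.leaf ((nat_lit 22), [nat_lit 2, nat_lit 0, nat_lit 3, nat_lit 1, nat_lit 2, nat_lit 1, nat_lit 2, nat_lit 0])) (.leaf ((nat_lit 3), [nat_lit 2, nat_lit 0, nat_lit 3, nat_lit 1, nat_lit 2, nat_lit 1, nat_lit 2, nat_lit 0]))))))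
 (.node (nat_lit 57) (.node (nat_lit 54) (.node (nat_lit 53) (.leaf ((nat_lit 5), [nat_lit 0, nat_lit 3, nat_lit 2, nat_lit 1, nat_lit 2, nat_lit 1])) (.leaf ((nat_lit 2), [nat_lit 2, nat_lit 0, nat_lit 3, nat_lit 2, nat_lit 0]))) (.node (nat_lit 55) (.leaf ((nat_lit 23), [nat_lit 2, nat_lit 3, nat_lit 2, nat_lit 3, nat_lit 0, nat_lit 1, nat_lit 2, nat_lit 1])) (.node (nat_lit 56) (.leaf ((nat_lit 24), [nat_lit 0, nat_lit 3, nat_lit 0, nat_lit 3, nat_lit 2, nat_lit 1, nat_lit 2, nat_lit 1, nat_lit 2, nat_lit 0, nat_lit 1, nat_lit 0])) (.leaf ((nat_lit 23), [nat_lit 2, nat_lit 3, nat_lit 2, nat_lit 3, nat_lit 0, nat_lit 1, nat_lit 2])))))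
 (.node (nat_lit 60) (.node (nat_lit 58) (.leaf ((nat_lit 5), [nat_lit 2, nat_lit 0, nat_lit 3, nat_lit 2, nat_lit 0, nat_lit 1, nat_lit 2, nat_lit 0, nat_lit 1])) (.node (nat_lit 59) (.leaf ((nat_lit 3), [nat_lit 1, nat_lit 2, nat_lit 0, nat_lit 3, nat_lit 1, nat_lit 0])) (.leaf ((nat_lit 11), [nat_lit 0, nat_lit 3, nat_lit 0, nat_lit 3, nat_lit 1, nat_lit 2, nat_lit 1, nat_lit 2, nat_lit 1, nat_lit 0])))) (.node (nat_lit 61) (.leaf ((nat_lit 19), [nat_lit 3, nat_lit 0, nat_lit 3, nat_lit 1, nat_lit 2, nat_lit 0])) (.node (nat_lit 62) (.leaf ((nat_lit 18), [nat_lit 3, nat_lit 2, nat_lit 3, nat_lit 1])) (.leaf ((nat_lit 10), [nat_lit 1, nat_lit 2, nat_lit 1, nat_lit 2, nat_lit 1])))))))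
 (.node (nat_lit 73) (.node (nat_lit 68) (.node (nat_lit 65) (.node (nat_lit 64) (.leaf ((nat_lit 25), [nat_lit 2, nat_lit 0, nat_lit 3, nat_lit 1, nat_lit 2, nat_lit 1, nat_lit 2, nat_lit 0])) (.leaf ((nat_lit 10), [nat_lit 3, nat_lit 1, nat_lit 3]))) (.node (nat_lit 66) (.leaf ((nat_lit 3), [nat_lit 2, nat_lit 3, nat_lit 1, nat_lit 3, nat_lit 2, nat_lit 0, nat_lit 1, nat_lit 2, nat_lit 0, nat_lit 1])) (.node (nat_lit 67) (.leaf ((nat_lit 4), [nat_lit 2, nat_lit 3])) (.leaf ((nat_lit 11), [nat_lit 1, nat_lit 3, nat_lit 2, nat_lit 3, nat_lit 2, nat_lit 1, nat_lit 2, nat_lit 1])))))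
 (.node (nat_lit 70) (.node (nat_lit 69) (.leaf ((nat_lit 26), [nat_lit 3, nat_lit 2, nat_lit 3, nat_lit 1, nat_lit 2, nat_lit 1, nat_lit 2])) (.leaf ((nat_lit 11), [nat_lit 2, nat_lit 1, nat_lit 2]))) (.node (nat_lit 71) (.leaf ((nat_lit 11), [nat_lit 2, nat_lit 3, nat_lit 0, nat_lit 3, nat_lit 2])) (.node (nat_lit 72) (.leaf ((nat_lit 9), [nat_lit 0, nat_lit 3, nat_lit 0, nat_lit 3, nat_lit 1, nat_lit 2, nat_lit 1, nat_lit 2, nat_lit 1, nat_lit 0])) (.leaf ((nat_lit 26), [nat_lit 1, nat_lit 3, nat_lit 2, nat_lit 1, nat_lit 0]))))))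
 (.node (nat_lit 78) (.node (nat_lit 75) (.node (nat_lit 74) (.leaf ((nat_lit 12), [nat_lit 2, nat_lit 3, nat_lit 1, nat_lit 3, nat_lit 2])) (.leaf ((nat_lit 4), [nat_lit 1, nat_lit 3, nat_lit 2, nat_lit 1, nat_lit 2, nat_lit 1, nat_lit 2, nat_lit 1, nat_lit 0]))) (.node (nat_lit 76) (.leaf ((nat_lit 16), [nat_lit 2, nat_lit 0, nat_lit 3, nat_lit 1, nat_lit 2, nat_lit 0, nat_lit 1])) (.node (nat_lit 77) (.leaf ((nat_lit 23), [nat_lit 2, nat_lit 1, nat_lit 2, nat_lit 1, nat_lit 2, nat_lit 0, nat_lit 1])) (.leaf ((nat_lit 24), [nat_lit 1, nat_lit 2, nat_lit 0, nat_lit 3, nat_lit 2, nat_lit 1, nat_lit 2, nat_lit 1])))))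
 (.node (nat_lit 81) (.node (nat_lit 79) (.leaf ((nat_lit 17), [nat_lit 0, nat_lit 3, nat_lit 0, nat_lit 3, nat_lit 2, nat_lit 1, nat_lit 2, nat_lit 0, nat_lit 1])) (.node (nat_lit 80) (.leaf ((nat_lit 16), [nat_lit 1])) (.leaf ((nat_lit 6), [nat_lit 1, nat_lit 3, nat_lit 1, nat_lit 2, nat_lit 1, nat_lit 0])))) (.node (nat_lit 82) (.leaf ((nat_lit 13), [nat_lit 2, nat_lit 3, nat_lit 0, nat_lit 3, nat_lit 2])) (.node (nat_lit 83) (.leaf ((nat_lit 20), [nat_lit 0, nat_lit 3, nat_lit 0, nat_lit 3, nat_lit 0, nat_lit 1, nat_lit 2, nat_lit 0, nat_lit 1, nat_lit 0])) (.leaf ((nat_lit 4), [])))))))))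
 (.node (nat_lit 126) (.node (nat_lit 105) (.node (nat_lit 94) (.node (nat_lit 89) (.node (nat_lit 86) (.node (nat_lit 85) (.leaf ((nat_lit 14), [nat_lit 0, nat_lit 1, nat_lit 0])) (.leaf ((nat_lit 5), [nat_lit 2, nat_lit 3, nat_lit 1, nat_lit 3, nat_lit 2, nat_lit 0, nat_lit 1, nat_lit 2, nat_lit 1]))) (.node (nat_lit 87) (.leaf ((nat_lit 27), [nat_lit 2, nat_lit 3, nat_lit 0, nat_lit 3, nat_lit 0, nat_lit 1, nat_lit 2, nat_lit 1, nat_lit 0])) (.node (nat_lit 88) (.leaf ((nat_lit 7), [nat_lit 1, nat_lit 2, nat_lit 0, nat_lit 3, nat_lit 1, nat_lit 0])) (.leaf ((nat_lit 6), [nat_lit 2, nat_lit 3, nat_lit 2, nat_lit 3, nat_lit 1, nat_lit 2, nat_lit 1, nat_lit 2, nat_lit 0, nat_lit 1])))))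
 (.node (nat_lit 91) (.node (nat_lit 90) (.leaf ((nat_lit 14), [nat_lit 2, nat_lit 3, nat_lit 0, nat_lit 3, nat_lit 1, nat_lit 2])) (.leaf ((nat_lit 15), [nat_lit 0, nat_lit 3, nat_lit 0, nat_lit 3, nat_lit 0]))) (.node (nat_lit 92) (.leaf ((nat_lit 27), [nat_lit 2, nat_lit 3, nat_lit 0, nat_lit 1, nat_lit 2, nat_lit 0, nat_lit 1, nat_lit 0])) (.node (nat_lit 93) (.leaf ((nat_lit 5), [nat_lit 0, nat_lit 3, nat_lit 0, nat_lit 3, nat_lit 2, nat_lit 0, nat_lit 1, nat_lit 2, nat_lit 0, nat_lit 1])) (.leaf ((nat_lit 23), [nat_lit 1, nat_lit 2, nat_lit 0, nat_lit 3, nat_lit 1, nat_lit 2, nat_lit 1, nat_lit 2, nat_lit 0, nat_lit 1]))))))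
 (.node (nat_lit 99) (.node (nat_lit 96) (.node (nat_lit 95) (.leaf ((nat_lit 16), [nat_lit 1, nat_lit 3, nat_lit 2, nat_lit 3, nat_lit 2, nat_lit 1])) (.leaf ((nat_lit 18), [nat_lit 1, nat_lit 2, nat_lit 0, nat_lit 3, nat_lit 2]))) (.node (nat_lit 97) (.leaf ((nat_lit 6), [nat_lit 1, nat_lit 3, nat_lit 2, nat_lit 1, nat_lit 2, nat_lit 1, nat_lit 2, nat_lit 0, nat_lit 1, nat_lit 0])) (.node (nat_lit 98) (.leaf ((nat_lit 13), [nat_lit 1])) (.leaf ((nat_lit 17), [nat_lit 0, nat_lit 3, nat_lit 0, nat_lit 3, nat_lit 0])))))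
 (.node (nat_lit 102) (.node (nat_lit 100) (.leaf ((nat_lit 12), [nat_lit 3, nat_lit 2, nat_lit 0, nat_lit 1, nat_lit 2, nat_lit 0, nat_lit 1])) (.node (nat_lit 101) (.leaf ((nat_lit 15), [nat_lit 2, nat_lit 3, nat_lit 2, nat_lit 3, nat_lit 2, nat_lit 1, nat_lit 2, nat_lit 1])) (.leaf ((nat_lit 26), [nat_lit 3, nat_lit 2, nat_lit 3, nat_lit 2, nat_lit 0, nat_lit 1, nat_lit 2])))) (.node (nat_lit 103) (.leaf ((nat_lit 13), [nat_lit 3, nat_lit 1, nat_lit 3, nat_lit 2, nat_lit 0, nat_lit 1, nat_lit 2, nat_lit 0, nat_lit 1])) (.node (nat_lit 104) (.leaf ((nat_lit 6), [nat_lit 2, nat_lit 3, nat_lit 0, nat_lit 1])) (.leaf ((nat_lit 16), [nat_lit 0, nat_lit 3, nat_lit 0, nat_lit 3, nat_lit 0])))))))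
 (.node (nat_lit 115) (.node (nat_lit 110) (.node (nat_lit 107) (.node (nat_lit 106) (.leaf ((nat_lit 22), [nat_lit 3, nat_lit 2, nat_lit 0, nat_lit 1, nat_lit 2, nat_lit 0, nat_lit 1])) (.leaf ((nat_lit 22), [nat_lit 2, nat_lit 3, nat_lit 1, nat_lit 3, nat_lit 0, nat_lit 1, nat_lit 2, nat_lit 0, nat_lit 1, nat_lit 0]))) (.node (nat_lit 108) (.leaf ((nat_lit 17), [nat_lit 2, nat_lit 1, nat_lit 2, nat_lit 0, nat_lit 1, nat_lit 0])) (.node (nat_lit 109) (.leaf ((nat_lit 7), [nat_lit 1, nat_lit 3, nat_lit 2, nat_lit 1, nat_lit 2, nat_lit 0, nat_lit 1])) (.leaf ((nat_lit 10), [nat_lit 1, nat_lit 3, nat_lit 2, nat_lit 3])))))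
 (.node (nat_lit 112) (.node (nat_lit 111) (.leaf ((nat_lit 18), [nat_lit 2, nat_lit 1, nat_lit 2])) (.leaf ((nat_lit 27), [nat_lit 2, nat_lit 3, nat_lit 1, nat_lit 3, nat_lit 0, nat_lit 1, nat_lit 2, nat_lit 0, nat_lit 1, nat_lit 0]))) (.node (nat_lit 113) (.leaf ((nat_lit 26), [nat_lit 3, nat_lit 1, nat_lit 2, nat_lit 1, nat_lit 2, nat_lit 1, nat_lit 0])) (.node (nat_lit 114) (.leaf ((nat_lit 15), [nat_lit 2, nat_lit 3, nat_lit 2, nat_lit 0, nat_lit 1])) (.leaf ((nat_lit 10), [nat_lit 1, nat_lit 3, nat_lit 2, nat_lit 3, nat_lit 2, nat_lit 1, nat_lit 2, nat_lit 1, nat_lit 2, nat_lit 0, nat_lit 1]))))))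
 (.node (nat_lit 120) (.node (nat_lit 117) (.node (nat_lit 116) (.leaf ((nat_lit 7), [nat_lit 1, nat_lit 3, nat_lit 1, nat_lit 2])) (.leaf ((nat_lit 19), [nat_lit 2, nat_lit 1, nat_lit 2]))) (.node (nat_lit 118) (.leaf ((nat_lit 24), [nat_lit 2, nat_lit 3, nat_lit 1, nat_lit 3, nat_lit 1, nat_lit 2, nat_lit 1, nat_lit 2, nat_lit 0])) (.node (nat_lit 119) (.leaf ((nat_lit 24), [nat_lit 1, nat_lit 3, nat_lit 2, nat_lit 3, nat_lit 2, nat_lit 1])) (.leaf ((nat_lit 19), [nat_lit 2, nat_lit 3, nat_lit 1, nat_lit 2, nat_lit 1, nat_lit 2])))))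
 (.node (nat_lit 123) (.node (nat_lit 121) (.leaf ((nat_lit 22), [nat_lit 3, nat_lit 1, nat_lit 3, nat_lit 2, nat_lit 0, nat_lit 1, nat_lit 2])) (.node (nat_lit 122) (.leaf ((nat_lit 21), [nat_lit 2, nat_lit 3, nat_lit 1, nat_lit 3, nat_lit 2, nat_lit 1, nat_lit 0])) (.leaf ((nat_lit 21), [nat_lit 2, nat_lit 3, nat_lit 0, nat_lit 3, nat_lit 0, nat_lit 1, nat_lit 2, nat_lit 0, nat_lit 1, nat_lit 0])))) (.node (nat_lit 124) (.leaf ((nat_lit 20), [nat_lit 2, nat_lit 1, nat_lit 2])) (.node (nat_lit 125) (.leaf ((nat_lit 13), [nat_lit 2, nat_lit 3, nat_lit 1, nat_lit 3, nat_lit 2, nat_lit 0, nat_lit 1, nat_lit 2, nat_lit 0, nat_lit 1])) (.leaf ((nat_lit 7), [nat_lit 0, nat_lit 3, nat_lit 1, nat_lit 2, nat_lit 1, nat_lit 2, nat_lit 1]))))))))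
 (.node (nat_lit 147) (.node (nat_lit 136) (.node (nat_lit 131) (.node (nat_lit 128) (.node (nat_lit 127) (.leaf ((nat_lit 8), [nat_lit 2, nat_lit 1, nat_lit 2, nat_lit 1, nat_lit 2, nat_lit 0])) (.leaf ((nat_lit 20), [nat_lit 2, nat_lit 3, nat_lit 1, nat_lit 3, nat_lit 2, nat_lit 0, nat_lit 1]))) (.node (nat_lit 129) (.leaf ((nat_lit 20), [nat_lit 2, nat_lit 3, nat_lit 1, nat_lit 3, nat_lit 1, nat_lit 2, nat_lit 0, nat_lit 1])) (.node (nat_lit 130) (.leaf ((nat_lit 26), [nat_lit 1, nat_lit 2, nat_lit 0, nat_lit 3, nat_lit 2, nat_lit 1, nat_lit 2, nat_lit 1])) (.leaf ((nat_lit 27), [nat_lit 1, nat_lit 2, nat_lit 1])))))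
 (.node (nat_lit 133) (.node (nat_lit 132) (.leaf ((nat_lit 21), [nat_lit 1, nat_lit 3, nat_lit 2, nat_lit 3, nat_lit 1])) (.leaf ((nat_lit 20), [nat_lit 3, nat_lit 1, nat_lit 3, nat_lit 2, nat_lit 1, nat_lit 2, nat_lit 0]))) (.node (nat_lit 134) (.leaf ((nat_lit 8), [nat_lit 0, nat_lit 3, nat_lit 1, nat_lit 2, nat_lit 1, nat_lit 2, nat_lit 1, nat_lit 0])) (.node (nat_lit 135) (.leaf ((nat_lit 8), [nat_lit 2, nat_lit 0, nat_lit 3, nat_lit 1, nat_lit 2, nat_lit 1, nat_lit 2, nat_lit 0])) (.leaf ((nat_lit 17), [nat_lit 2, nat_lit 0, nat_lit 3, nat_lit 1, nat_lit 2, nat_lit 0, nat_lit 1]))))))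
 (.node (nat_lit 141) (.node (nat_lit 138) (.node (nat_lit 137) (.leaf ((nat_lit 17), [nat_lit 1, nat_lit 3, nat_lit 2, nat_lit 3, nat_lit 1, nat_lit 2, nat_lit 1, nat_lit 2, nat_lit 0, nat_lit 1, nat_lit 0])) (.leaf ((nat_lit 27), [nat_lit 3, nat_lit 1, nat_lit 3, nat_lit 0, nat_lit 1, nat_lit 2, nat_lit 1]))) (.node (nat_lit 139) (.leaf ((nat_lit 9), [nat_lit 3, nat_lit 1, nat_lit 3, nat_lit 1, nat_lit 2, nat_lit 1, nat_lit 2, nat_lit 0, nat_lit 1])) (.node (nat_lit 140) (.leaf ((nat_lit 25), [nat_lit 1, nat_lit 2, nat_lit 0, nat_lit 3, nat_lit 2, nat_lit 1, nat_lit 2, nat_lit 0])) (.leaf ((nat_lit 9), [nat_lit 0, nat_lit 3, nat_lit 0, nat_lit 3, nat_lit 2, nat_lit 0, nat_lit 1, nat_lit 2, nat_lit 0, nat_lit 1])))))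
 (.node (nat_lit 144) (.node (nat_lit 142) (.leaf ((nat_lit 15), [nat_lit 1, nat_lit 2, nat_lit 0, nat_lit 3, nat_lit 1, nat_lit 2, nat_lit 1, nat_lit 2, nat_lit 0, nat_lit 1])) (.node (nat_lit 143) (.leaf ((nat_lit 12), [nat_lit 2, nat_lit 1, nat_lit 2, nat_lit 1, nat_lit 2, nat_lit 0, nat_lit 1])) (.leaf ((nat_lit 23), [nat_lit 3, nat_lit 1, nat_lit 3, nat_lit 0])))) (.node (nat_lit 145) (.leaf ((nat_lit 25), [nat_lit 3, nat_lit 0, nat_lit 3, nat_lit 2, nat_lit 0, nat_lit 1, nat_lit 2, nat_lit 0])) (.node (nat_lit 146) (.leaf ((nat_lit 9), [nat_lit 3, nat_lit 2, nat_lit 3, nat_lit 1, nat_lit 2])) (.leaf ((nat_lit 25), [nat_lit 3, nat_lit 1, nat_lit 3, nat_lit 1, nat_lit 2, nat_lit 1, nat_lit 2, nat_lit 0, nat_lit 1])))))))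
 (.node (nat_lit 157) (.node (nat_lit 152) (.node (nat_lit 149) (.node (nat_lit 148) (.leaf ((nat_lit 19), [nat_lit 2, nat_lit 3, nat_lit 2, nat_lit 3, nat_lit 1, nat_lit 2, nat_lit 1, nat_lit 2, nat_lit 0, nat_lit 1])) (.leaf ((nat_lit 19), [nat_lit 2, nat_lit 3, nat_lit 2, nat_lit 3, nat_lit 2, nat_lit 1, nat_lit 2, nat_lit 1]))) (.node (nat_lit 150) (.leaf ((nat_lit 12), [nat_lit 1, nat_lit 3, nat_lit 1, nat_lit 2, nat_lit 1, nat_lit 2, nat_lit 0, nat_lit 1, nat_lit 0])) (.node (nat_lit 151) (.leaf ((nat_lit 24), [nat_lit 2, nat_lit 3, nat_lit 2, nat_lit 3, nat_lit 0, nat_lit 1, nat_lit 2, nat_lit 0, nat_lit 1])) (.leaf ((nat_lit 23), [nat_lit 0, nat_lit 3, nat_lit 1, nat_lit 2, nat_lit 1, nat_lit 2, nat_lit 0, nat_lit 1, nat_lit 0])))))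
 (.node (nat_lit 154) (.node (nat_lit 153) (.leaf ((nat_lit 24), [nat_lit 2, nat_lit 3, nat_lit 2, nat_lit 3, nat_lit 0, nat_lit 1, nat_lit 2, nat_lit 1])) (.leaf ((nat_lit 10), [nat_lit 2, nat_lit 0, nat_lit 3, nat_lit 1, nat_lit 2, nat_lit 1, nat_lit 2, nat_lit 0]))) (.node (nat_lit 155) (.leaf ((nat_lit 25), [nat_lit 2, nat_lit 3, nat_lit 0, nat_lit 3, nat_lit 2])) (.node (nat_lit 156) (.leaf ((nat_lit 25), [nat_lit 2, nat_lit 3, nat_lit 0, nat_lit 1, nat_lit 2, nat_lit 0])) (.leaf ((nat_lit 12), [nat_lit 2, nat_lit 0, nat_lit 3, nat_lit 2, nat_lit 1, nat_lit 2, nat_lit 1, nat_lit 2]))))))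
 (.node (nat_lit 162) (.node (nat_lit 159) (.node (nat_lit 158) (.leaf ((nat_lit 26), [nat_lit 1])) (.leaf ((nat_lit 11), [nat_lit 2, nat_lit 3, nat_lit 1, nat_lit 3, nat_lit 2, nat_lit 1, nat_lit 2, nat_lit 1, nat_lit 2, nat_lit 1]))) (.node (nat_lit 160) (.leaf ((nat_lit 21), [nat_lit 1, nat_lit 3, nat_lit 1, nat_lit 2, nat_lit 1, nat_lit 2, nat_lit 0, nat_lit 1, nat_lit 0])) (.node (nat_lit 161) (.leaf ((nat_lit 18), [nat_lit 2, nat_lit 0, nat_lit 3, nat_lit 2, nat_lit 1, nat_lit 2])) (.leaf ((nat_lit 16), [nat_lit 3, nat_lit 2, nat_lit 3, nat_lit 2, nat_lit 0, nat_lit 1, nat_lit 2])))))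
 (.node (nat_lit 165) (.node (nat_lit 163) (.leaf ((nat_lit 27), [nat_lit 1, nat_lit 2, nat_lit 1, nat_lit 2, nat_lit 1])) (.node (nat_lit 164) (.leaf ((nat_lit 15), [nat_lit 2, nat_lit 0, nat_lit 3, nat_lit 2, nat_lit 0, nat_lit 1, nat_lit 2, nat_lit 1, nat_lit 0])) (.leaf ((nat_lit 14), [nat_lit 2, nat_lit 3, nat_lit 1, nat_lit 3, nat_lit 2, nat_lit 1, nat_lit 2, nat_lit 1, nat_lit 2, nat_lit 0, nat_lit 1])))) (.node (nat_lit 166) (.leaf ((nat_lit 18), [nat_lit 1, nat_lit 3, nat_lit 2, nat_lit 3, nat_lit 1, nat_lit 2, nat_lit 1, nat_lit 2, nat_lit 0, nat_lit 1, nat_lit 0])) (.node (nat_lit 167) (.leaf ((nat_lit 21), [nat_lit 1, nat_lit 2, nat_lit 1])) (.leaf ((nat_lit 22), [nat_lit 3, nat_lit 2, nat_lit 3, nat_lit 2, nat_lit 1, nat_lit 2, nat_lit 1, nat_lit 2, nat_lit 1, nat_lit 0]))))))))))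
theorem n8q : allR 0 28 (dblChk (nat_lit 4) (nat_lit 15) (MG.gl42L.map Lev.b) MG.gl42T n8T n8Dd (topN MG.gl42L) 28 3 n8PA n8Wd) = true := by decide +kernel
noncomputable def n8Ws : List (List ℕ) := [[]]
noncomputable def n8CE : Tr (ℕ × List ℕ × List (List ℕ)) := (.node (nat_lit 1) (.leaf ((nat_lit 0), [], [])) (.node (nat_lit 2) (.leaf ((nat_lit 1), [nat_lit 2, nat_lit 0, nat_lit 4, nat_lit 1, nat_lit 3, nat_lit 0], [[nat_lit 1, nat_lit 99, nat_lit 0]])) (.leaf ((nat_lit 1), [nat_lit 5, nat_lit 0, nat_lit 4, nat_lit 2], [[nat_lit 99, nat_lit 2, nat_lit 0]]))))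
theorem n8s : allR 0 3 (stepChk (nat_lit 4) (nat_lit 15) (MG.gl42L.map Lev.b) MG.gl42T n8T n8T n8T n8Dd AW [nat_lit 1] n8Ws n8CE) = true := by decide +kernel
noncomputable def n8iI : Tr (List ℕ) := (.node (nat_lit 2) (.node (nat_lit 1) (.leaf [nat_lit 1]) (.leaf [nat_lit 0, nat_lit 3, nat_lit 0, nat_lit 3, nat_lit 0])) (.node (nat_lit 3) (.leaf [nat_lit 2, nat_lit 3, nat_lit 2, nat_lit 3, nat_lit 2, nat_lit 1]) (.node (nat_lit 4) (.leaf [nat_lit 2, nat_lit 3, nat_lit 1, nat_lit 3, nat_lit 2]) (.leaf [nat_lit 2, nat_lit 3, nat_lit 0, nat_lit 3, nat_lit 2]))))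
theorem n8ih : Alt.s6R.all (fun w => eqB (n8L.map Lev.b) (apF (fun y => apL (nat_lit 4) (nat_lit 15) n8T (n8iI.get y)) w) fun a => a) = true := by decide +kernel
noncomputable def n8iD : Tr (List ℕ) := (.node (nat_lit 2) (.node (nat_lit 1) (.leaf [nat_lit 1, nat_lit 2, nat_lit 3, nat_lit 4, nat_lit 3, nat_lit 2, nat_lit 1]) (.leaf [nat_lit 0])) (.node (nat_lit 3) (.leaf [nat_lit 2, nat_lit 3, nat_lit 0, nat_lit 1, nat_lit 2, nat_lit 0]) (.leaf [nat_lit 3, nat_lit 1])))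
theorem n8is : band (surChk (nat_lit 4) (nat_lit 15) (n8L.map Lev.b) n8T n8iI (topN Alt.s6L) n8iD (topN n8L)) (Nat.ble (chainOrd 6 Alt.s6L) (chainOrd 15 n8L)) = true := by decide +kernel
theorem s8 {G : Type*} [Group G] [Finite G] {X : Type*} [MulAction G X] {pt : ℕ → X} (C : Ch G 15 (nat_lit 4) (nat_lit 15) pt MG.gl42T MG.gl42L) {H : Subgroup G} (h : PJ C.lets.e AW 8 H) :
    ∃ K : Subgroup G, Nonempty (H ≃* K) ∧ (Q K ∨ ∃ j ∈ [nat_lit 1], PJ C.lets.e AW j K) := by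
  obtain ⟨K, e, hK⟩ := h.conj
  refine ⟨K, e, ?_⟩
  obtain ⟨N, D, S⟩ := (C.gen (lets_words C.lets n8E n8w) n8chain n8sd n8tc)
  have le := C.le_AW D hK n8slp n8a
  have hD := lets_words C.lets n8dE n8dw
  refine (C.step D.lets D.lets D.lets hD le_normalizer le_rfl (C.dbl D.lets hD n8q (by decide +kernel)) (Ws := n8Ws) (fun u hu => ⟨[], List.mem_singleton_self _, u, hu, (one_mul u).symm⟩) (by decide +kernel) n8s le).imp_left fun h => ?_
  rw [le_antisymm h le]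
  exact .inr (.inr (.inr (.inl ((Alt.s6std.isoW D n8ih n8is).map MulEquiv.symm))))
noncomputable def n6t0 : ℕ := (nat_lit 0x4378de21659abc0)
noncomputable def n6t1 : ℕ := (nat_lit 0x9a1234bc65ed870)
noncomputable def n6t2 : ℕ := (nat_lit 0x879abced6534120)
noncomputable def n6t3 : ℕ := (nat_lit 0x19c45d802ab36e7)
noncomputable def n6T : Tr ℕ := (.node (nat_lit 2) (.node (nat_lit 1) (.leaf n6t0) (.leaf n6t1)) (.node (nat_lit 3) (.leaf n6t2) (.leaf n6t3)))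
noncomputable def n6R : Tr (List ℕ) := (.node (nat_lit 3) (.node (nat_lit 1) (.leaf [nat_lit 0, nat_lit 0, nat_lit 0]) (.node (nat_lit 2) (.leaf [nat_lit 0, nat_lit 1]) (.leaf [nat_lit 0, nat_lit 2, nat_lit 1, nat_lit 3, nat_lit 0, nat_lit 3, nat_lit 1, nat_lit 3])))
 (.node (nat_lit 5) (.node (nat_lit 4) (.leaf [nat_lit 2, nat_lit 2]) (.leaf [nat_lit 0, nat_lit 2, nat_lit 0, nat_lit 2, nat_lit 0, nat_lit 2])) (.node (nat_lit 6) (.leaf [nat_lit 3, nat_lit 3]) (.leaf [nat_lit 0, nat_lit 2, nat_lit 3, nat_lit 2, nat_lit 3, nat_lit 2, nat_lit 1, nat_lit 3]))))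
noncomputable def n6L0 : Lev := ⟨(nat_lit 0), (nat_lit 4), (nat_lit 0x40301020103010404040102030200), (nat_lit 0x30202040303040104040403030200),
 (.node (nat_lit 2) (.node (nat_lit 1) (.leaf (nat_lit 0x400010000000200000003000000010008000400000002000100020000))
 (.leaf (nat_lit 0x200010003000000030001000300010007000500050000000100000000)))
 (.node (nat_lit 3) (.leaf (nat_lit 0x400000001000200030000000500010009000600030002000000010000))
 (.leaf (nat_lit 0x30002000600010002000700000000000000070003000100010001)))),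
 (.node (nat_lit 2) (.node (nat_lit 1) (.leaf (nat_lit 0x100000000000001000000000100000000000100000100000204000000000002000100000002000000))
 (.leaf (nat_lit 0x202000101000101000000000101000101000101000101000206000101000101000000000101000000000000)))
 (.node (nat_lit 3) (.leaf (nat_lit 0x401000000000300000403000301000000000301000301000201000201000300000405000000000301000000))
 (.leaf (nat_lit 0x500000205000207000500000604000207000000000000000000000501000203000501000501000501))))⟩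
noncomputable def n6L1 : Lev := ⟨(nat_lit 1), (nat_lit 3), (nat_lit 0x20302020103010100000102030000), (nat_lit 0x30201020302020100000303010000),
 (.node (nat_lit 1) (.leaf (nat_lit 0x200010002000200000001000000000000000000000002000100010000))
 (.node (nat_lit 2) (.leaf (nat_lit 0x10000000000030001000300030000000000030000000100010000))
 (.leaf (nat_lit 0x200000001000200030000000300010000000000040003000000010000)))),
 (.node (nat_lit 1) (.leaf (nat_lit 0x100000001000001000000000100000000000000000000000000000000000002000100000100000000))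
 (.node (nat_lit 2) (.leaf (nat_lit 0x101000000000000000101000101000101000101000000000000000101000000000101000101000000))
 (.leaf (nat_lit 0x401000000000300000403000301000000000301000301000000000000000300000405000000000301000000))))⟩
noncomputable def n6L : List Lev := [n6L0, n6L1]
noncomputable def n6E : Tr (List ℕ) := (.node (nat_lit 2) (.node (nat_lit 1) (.leaf [nat_lit 1, nat_lit 5, nat_lit 2, nat_lit 1, nat_lit 4, nat_lit 3, nat_lit 2, nat_lit 3, nat_lit 2, nat_lit 1]) (.leaf [nat_lit 5, nat_lit 4, nat_lit 5, nat_lit 4, nat_lit 2, nat_lit 1, nat_lit 4, nat_lit 0, nat_lit 3, nat_lit 0])) (.node (nat_lit 3) (.leaf [nat_lit 0, nat_lit 5, nat_lit 2, nat_lit 1, nat_lit 4, nat_lit 2, nat_lit 1, nat_lit 0, nat_lit 3, nat_lit 2, nat_lit 1]) (.leaf [nat_lit 1, nat_lit 0, nat_lit 5, nat_lit 3, nat_lit 1, nat_lit 0, nat_lit 4])))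
theorem n6w_0 : n6T.all2 (fun c w => isProd 15 (nat_lit 4) (nat_lit 15) MG.gl42T c w) n6E = true := by decide +kernel
theorem n6w : n6T.all2 (fun c w => isProd 15 (nat_lit 4) (nat_lit 15) MG.gl42T c w) n6E = true := n6w_0
theorem n6lev0 : levChk 15 (nat_lit 4) (nat_lit 15) n6T n6R n6L0 n6L1.N = true := by decide +kernel
theorem n6lev1 : levChk 15 (nat_lit 4) (nat_lit 15) n6T n6R n6L1 0 = true := by decide +kernel
theorem n6chain : Chain 15 (nat_lit 4) (nat_lit 15) n6T n6R n6L := chain_cons n6lev0 <| chain_one n6lev1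
theorem n6sd : band (selChk n6T n6T (topN n6L)) (n6R.all fun w => eqB (MG.gl42L.map Lev.b) (apL (nat_lit 4) (nat_lit 15) n6T w) fun a => a) = true := by decide +kernel
theorem n6tc : tchainChk 15 (nat_lit 4) (nat_lit 15) n6T n6L = true := by decide +kernel
noncomputable def n6s0 : ℕ := (nat_lit 0x71ae5b43c6d928)
noncomputable def n6s1 : ℕ := (nat_lit 0xbe1a54783692dc)
noncomputable def n6s2 : ℕ := (nat_lit 0xa358b20d49761ce)
noncomputable def n6s3 : ℕ := (nat_lit 0xc10da36749852be)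
noncomputable def n6s4 : ℕ := (nat_lit 0x1287ed3465bc9a0)
noncomputable def n6s5 : ℕ := (nat_lit 0xa93412cb6578de0)
noncomputable def n6s6 : ℕ := (nat_lit 0x78bc9ade6521430)
noncomputable def n6s7 : ℕ := (nat_lit 0x4378de21659abc0)
noncomputable def n6s8 : ℕ := (nat_lit 0x9a1234bc65ed870)
noncomputable def n6s9 : ℕ := (nat_lit 0x879abced6534120)
noncomputable def n6s10 : ℕ := (nat_lit 0x19c45d802ab36e7)
noncomputable def n6S : Tr ℕ := (.node (nat_lit 5) (.node (nat_lit 2) (.node (nat_lit 1) (.leaf n6s0) (.leaf n6s1)) (.node (nat_lit 3) (.leaf n6s2) (.node (nat_lit 4) (.leaf n6s3) (.leaf n6s4))))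
 (.node (nat_lit 8) (.node (nat_lit 6) (.leaf n6s5) (.node (nat_lit 7) (.leaf n6s6) (.leaf n6s7))) (.node (nat_lit 9) (.leaf n6s8) (.node (nat_lit 10) (.leaf n6s9) (.leaf n6s10)))))
noncomputable def n6D : Tr (List ℕ) := (.node (nat_lit 5) (.node (nat_lit 2) (.node (nat_lit 1) (.leaf []) (.leaf [])) (.node (nat_lit 3) (.leaf [nat_lit 0, nat_lit 0, nat_lit 0, nat_lit 0]) (.node (nat_lit 4) (.leaf [nat_lit 1, nat_lit 1]) (.leaf [nat_lit 0, nat_lit 3]))))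
 (.node (nat_lit 8) (.node (nat_lit 6) (.leaf [nat_lit 1, nat_lit 2]) (.node (nat_lit 7) (.leaf [nat_lit 3, nat_lit 2, nat_lit 1, nat_lit 0, nat_lit 0]) (.leaf [nat_lit 4, nat_lit 6]))) (.node (nat_lit 9) (.leaf [nat_lit 7, nat_lit 7]) (.node (nat_lit 10) (.leaf [nat_lit 5, nat_lit 6, nat_lit 4]) (.leaf [nat_lit 6, nat_lit 2, nat_lit 4, nat_lit 6, nat_lit 5])))))
theorem n6slp : slpChk 15 (nat_lit 4) (nat_lit 15) n6S n6D 2 9 = true := by decide +kernel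
theorem n6a : band (selChk n6T n6S (2 + 9)) (allB 2 fun j => anyL (AW.get 6) fun w => isProd 15 (nat_lit 4) (nat_lit 15) MG.gl42T (n6S.get j) w) = true := by decide +kernel
noncomputable def n6mt0 : ℕ := (nat_lit 0xcbed789a5634210)
noncomputable def n6mt1 : ℕ := (nat_lit 0x9d7b0426c8ea513)
noncomputable def n6mt2 : ℕ := (nat_lit 0x4d6b3e5c729081a)
noncomputable def n6mt3 : ℕ := (nat_lit 0xb98e7dca6013245)
noncomputable def n6mT : Tr ℕ := (.node (nat_lit 2) (.node (nat_lit 1) (.leaf n6mt0) (.leaf n6mt1)) (.node (nat_lit 3) (.leaf n6mt2) (.leaf n6mt3)))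
noncomputable def n6mR : Tr (List ℕ) := (.node (nat_lit 4) (.node (nat_lit 2) (.node (nat_lit 1) (.leaf [nat_lit 3, nat_lit 0, nat_lit 3, nat_lit 0, nat_lit 3, nat_lit 0]) (.leaf [nat_lit 1, nat_lit 0, nat_lit 1, nat_lit 0, nat_lit 1, nat_lit 0, nat_lit 1, nat_lit 0])) (.node (nat_lit 3) (.leaf [nat_lit 0, nat_lit 0]) (.leaf [nat_lit 2, nat_lit 0, nat_lit 1, nat_lit 0, nat_lit 3, nat_lit 0, nat_lit 2, nat_lit 0, nat_lit 3, nat_lit 1, nat_lit 0, nat_lit 3])))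
 (.node (nat_lit 6) (.node (nat_lit 5) (.leaf [nat_lit 1, nat_lit 0, nat_lit 1, nat_lit 3, nat_lit 2, nat_lit 3, nat_lit 0, nat_lit 3, nat_lit 2, nat_lit 3]) (.leaf [nat_lit 1, nat_lit 1, nat_lit 1])) (.node (nat_lit 7) (.leaf [nat_lit 1, nat_lit 2]) (.node (nat_lit 8) (.leaf [nat_lit 2, nat_lit 3, nat_lit 1, nat_lit 3, nat_lit 1, nat_lit 3, nat_lit 2, nat_lit 3]) (.leaf [nat_lit 3, nat_lit 3])))))
noncomputable def n6mL0 : Lev := ⟨(nat_lit 1), (nat_lit 4), (nat_lit 0x30401040302010102040401030002), (nat_lit 0x20303030302030404040102040003),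
 (.node (nat_lit 2) (.node (nat_lit 1) (.leaf (nat_lit 0x100020000000300010001000000000005000400010000000500000007))
 (.leaf (nat_lit 0x200020008000200020000000100090000000300010001000400000000)))
 (.node (nat_lit 3) (.leaf (nat_lit 0x3000100030000000300040009000a000500010001000000000003))
 (.leaf (nat_lit 0x1000000030000000a0001000400090006000000000002000500010001)))),
 (.node (nat_lit 2) (.node (nat_lit 1) (.leaf (nat_lit 0x20000040600000000020100020000020000000000000000020000030a000200000000000107000000000005))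
 (.leaf (nat_lit 0x501000704000102000702000500000000000600000500000000000402000600000600000502000000000000)))
 (.node (nat_lit 3) (.leaf (nat_lit 0x601000601000601000000000601000601000601000601000601000601000601000000000000000601))
 (.leaf (nat_lit 0x800000000000000000000000800000801000801000703000705000000000000000002000409000801000801))))⟩
noncomputable def n6mL1 : Lev := ⟨(nat_lit 0), (nat_lit 3), (nat_lit 0x30002000202010103010103020000), (nat_lit 0x30003000103040203040201050000),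
 (.node (nat_lit 1) (.leaf (nat_lit 0x200000003000000010001000000000001000000000001000500000000))
 (.node (nat_lit 2) (.leaf (nat_lit 0x200000000000000000000000400010002000300010002000000000001))
 (.leaf (nat_lit 0x3000000030003000400010000000100010000000500000001)))),
 (.node (nat_lit 1) (.leaf (nat_lit 0x103000000000201000000000200000200000000000000000200000000000000000201000107000000000000))
 (.node (nat_lit 2) (.leaf (nat_lit 0x501000000000000000000000000000000000500000600000502000102000600000501000000000000000600))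
 (.leaf (nat_lit 0x601000000000601000601000601000601000000000601000601000000000601000000000601))))⟩
noncomputable def n6mL2 : Lev := ⟨(nat_lit 3), (nat_lit 1), (nat_lit 0x100000000), (nat_lit 0x100000000),
 (.leaf (nat_lit 0x1000000000000)),
 (.leaf (nat_lit 0x201000000000000000000))⟩
noncomputable def n6mL : List Lev := [n6mL0, n6mL1, n6mL2]
noncomputable def n6mE : Tr (List ℕ) := (.node (nat_lit 2) (.node (nat_lit 1) (.leaf [nat_lit 2, nat_lit 0, nat_lit 4, nat_lit 3, nat_lit 2, nat_lit 0]) (.leaf [nat_lit 2, nat_lit 1, nat_lit 4, nat_lit 0, nat_lit 3, nat_lit 0])) (.node (nat_lit 3) (.leaf [nat_lit 4, nat_lit 0, nat_lit 3, nat_lit 2, nat_lit 1, nat_lit 0]) (.leaf [nat_lit 2, nat_lit 0, nat_lit 5, nat_lit 3, nat_lit 1, nat_lit 0, nat_lit 4, nat_lit 2, nat_lit 1])))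
theorem n6mw_0 : n6mT.all2 (fun c w => isProd 15 (nat_lit 4) (nat_lit 15) MG.gl42T c w) n6mE = true := by decide +kernel
theorem n6mw : n6mT.all2 (fun c w => isProd 15 (nat_lit 4) (nat_lit 15) MG.gl42T c w) n6mE = true := n6mw_0
theorem n6mlev0 : levChk 15 (nat_lit 4) (nat_lit 15) n6mT n6mR n6mL0 n6mL1.N = true := by decide +kernel
theorem n6mlev1 : levChk 15 (nat_lit 4) (nat_lit 15) n6mT n6mR n6mL1 n6mL2.N = true := by decide +kernel
theorem n6mlev2 : levChk 15 (nat_lit 4) (nat_lit 15) n6mT n6mR n6mL2 0 = true := by decide +kernel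
theorem n6mchain : Chain 15 (nat_lit 4) (nat_lit 15) n6mT n6mR n6mL := chain_cons n6mlev0 <| chain_cons n6mlev1 <| chain_one n6mlev2
theorem n6msd : band (selChk n6mT n6mT (topN n6mL)) (n6mR.all fun w => eqB (MG.gl42L.map Lev.b) (apL (nat_lit 4) (nat_lit 15) n6mT w) fun a => a) = true := by decide +kernel
theorem n6mtc : tchainChk 15 (nat_lit 4) (nat_lit 15) n6mT n6mL = true := by decide +kernel
noncomputable def n6xE : Tr (List ℕ) := (.node (nat_lit 2) (.node (nat_lit 1) (.leaf [nat_lit 0, nat_lit 1, nat_lit 3, nat_lit 0, nat_lit 2, nat_lit 0]) (.leaf [nat_lit 0, nat_lit 1, nat_lit 0, nat_lit 3, nat_lit 2, nat_lit 0])) (.node (nat_lit 3) (.leaf [nat_lit 1, nat_lit 0, nat_lit 2, nat_lit 3, nat_lit 1, nat_lit 0, nat_lit 2, nat_lit 0]) (.leaf [nat_lit 1, nat_lit 3, nat_lit 0, nat_lit 2, nat_lit 0, nat_lit 1, nat_lit 0])))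
theorem n6xw_0 : n6T.all2 (fun c w => isProd 15 (nat_lit 4) (nat_lit 15) n6mT c w) n6xE = true := by decide +kernel
theorem n6xw : n6T.all2 (fun c w => isProd 15 (nat_lit 4) (nat_lit 15) n6mT c w) n6xE = true := n6xw_0
noncomputable def n6pt0 : ℕ := (nat_lit 0x418d7e32509cab6)
noncomputable def n6pt1 : ℕ := (nat_lit 0x9b3124ca06e87d5)
noncomputable def n6pT : Tr ℕ := (.node (nat_lit 1) (.leaf n6pt0) (.leaf n6pt1))
noncomputable def n6pR : Tr (List ℕ) := (.node (nat_lit 1) (.leaf [nat_lit 0, nat_lit 1]) (.leaf [nat_lit 0, nat_lit 0, nat_lit 0]))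
noncomputable def n6pL0 : Lev := ⟨(nat_lit 0), (nat_lit 2), (nat_lit 0x2010000000000), (nat_lit 0x1010000000000),
 (.node (nat_lit 1) (.leaf (nat_lit 0x2000000000000000000000001))
 (.leaf (nat_lit 0x300000000000000000001))),
 (.node (nat_lit 1) (.leaf (nat_lit 0x101000000000000000000000000000000000000))
 (.leaf (nat_lit 0x1000000000000000000000000000001)))⟩
noncomputable def n6pL : List Lev := [n6pL0]
noncomputable def n6pE : Tr (List ℕ) := (.node (nat_lit 1) (.leaf [nat_lit 3, nat_lit 2, nat_lit 1, nat_lit 5, nat_lit 2, nat_lit 0, nat_lit 4, nat_lit 1, nat_lit 3, nat_lit 2]) (.leaf [nat_lit 5, nat_lit 1, nat_lit 5, nat_lit 2, nat_lit 1, nat_lit 0, nat_lit 4, nat_lit 3, nat_lit 1]))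
theorem n6pw_0 : n6pT.all2 (fun c w => isProd 15 (nat_lit 4) (nat_lit 15) MG.gl42T c w) n6pE = true := by decide +kernel
theorem n6pw : n6pT.all2 (fun c w => isProd 15 (nat_lit 4) (nat_lit 15) MG.gl42T c w) n6pE = true := n6pw_0
theorem n6plev0 : levChk 15 (nat_lit 4) (nat_lit 15) n6pT n6pR n6pL0 0 = true := by decide +kernel
theorem n6pchain : Chain 15 (nat_lit 4) (nat_lit 15) n6pT n6pR n6pL := chain_one n6plev0
theorem n6psd : band (selChk n6pT n6pT (topN n6pL)) (n6pR.all fun w => eqB (MG.gl42L.map Lev.b) (apL (nat_lit 4) (nat_lit 15) n6pT w) fun a => a) = true := by decide +kernel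
theorem n6ptc : tchainChk 15 (nat_lit 4) (nat_lit 15) n6pT n6pL = true := by decide +kernel
noncomputable def n6yE : Tr (List ℕ) := (.node (nat_lit 1) (.leaf [nat_lit 3, nat_lit 2, nat_lit 0, nat_lit 3, nat_lit 2, nat_lit 0]) (.leaf [nat_lit 3, nat_lit 1, nat_lit 2, nat_lit 3, nat_lit 1, nat_lit 2]))
theorem n6yw_0 : n6pT.all2 (fun c w => isProd 15 (nat_lit 4) (nat_lit 15) n6T c w) n6yE = true := by decide +kernel
theorem n6yw : n6pT.all2 (fun c w => isProd 15 (nat_lit 4) (nat_lit 15) n6T c w) n6yE = true := n6yw_0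
noncomputable def n6rW : Tr (List ℕ) := (.node (nat_lit 4) (.node (nat_lit 2) (.node (nat_lit 1) (.leaf [nat_lit 1]) (.leaf [nat_lit 0])) (.node (nat_lit 3) (.leaf [nat_lit 0]) (.leaf [nat_lit 1])))
 (.node (nat_lit 6) (.node (nat_lit 5) (.leaf [nat_lit 0]) (.leaf [nat_lit 1])) (.node (nat_lit 7) (.leaf [nat_lit 1]) (.leaf [nat_lit 0]))))
theorem n6r : nrmChk (nat_lit 4) (nat_lit 15) (MG.gl42L.map Lev.b) n6mT n6pT (topN n6mL) (topN n6pL) n6rW = true := by decide +kernel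
noncomputable def n6Dd : Tr ℕ := (.node (nat_lit 3) (.node (nat_lit 1) (.leaf (nat_lit 0xedcba9876543210)) (.node (nat_lit 2) (.leaf (nat_lit 0xcdeb89a74563012)) (.leaf (nat_lit 0x8dabc9e70523416)))) (.node (nat_lit 4) (.leaf (nat_lit 0xecdb6453a897201)) (.node (nat_lit 5) (.leaf (nat_lit 0x987adcbe4563012)) (.leaf (nat_lit 0xe6d5c4b3a291807)))))
noncomputable def n6dE : Tr (List ℕ) := (.node (nat_lit 3) (.node (nat_lit 1) (.leaf []) (.node (nat_lit 2) (.leaf [nat_lit 0]) (.leaf [nat_lit 2]))) (.node (nat_lit 4) (.leaf [nat_lit 5]) (.node (nat_lit 5) (.leaf [nat_lit 3, nat_lit 0]) (.leaf [nat_lit 5, nat_lit 4]))))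
theorem n6dw_0 : n6Dd.all2 (fun c w => isProd 15 (nat_lit 4) (nat_lit 15) MG.gl42T c w) n6dE = true := by decide +kernel
theorem n6dw : n6Dd.all2 (fun c w => isProd 15 (nat_lit 4) (nat_lit 15) MG.gl42T c w) n6dE = true := n6dw_0
noncomputable def n6PA : Tr (ℕ × List ℕ) := (.node (nat_lit 56) (.node (nat_lit 28) (.node (nat_lit 14) (.node (nat_lit 7) (.node (nat_lit 3) (.node (nat_lit 1) (.leaf ((nat_lit 0), [])) (.node (nat_lit 2) (.leaf ((nat_lit 1), [])) (.leaf ((nat_lit 1), [nat_lit 0, nat_lit 2]))))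
 (.node (nat_lit 5) (.node (nat_lit 4) (.leaf ((nat_lit 2), [])) (.leaf ((nat_lit 1), [nat_lit 3, nat_lit 1]))) (.node (nat_lit 6) (.leaf ((nat_lit 1), [nat_lit 1, nat_lit 3])) (.leaf ((nat_lit 3), [])))))
 (.node (nat_lit 10) (.node (nat_lit 8) (.leaf ((nat_lit 1), [nat_lit 2, nat_lit 1])) (.node (nat_lit 9) (.leaf ((nat_lit 2), [nat_lit 1, nat_lit 3, nat_lit 0])) (.leaf ((nat_lit 4), []))))
 (.node (nat_lit 12) (.node (nat_lit 11) (.leaf ((nat_lit 4), [nat_lit 3, nat_lit 2, nat_lit 3])) (.leaf ((nat_lit 4), [nat_lit 1, nat_lit 2, nat_lit 1, nat_lit 3]))) (.node (nat_lit 13) (.leaf ((nat_lit 2), [nat_lit 3, nat_lit 0, nat_lit 3])) (.leaf ((nat_lit 4), [nat_lit 3, nat_lit 2, nat_lit 3, nat_lit 0]))))))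
 (.node (nat_lit 21) (.node (nat_lit 17) (.node (nat_lit 15) (.leaf ((nat_lit 4), [nat_lit 0])) (.node (nat_lit 16) (.leaf ((nat_lit 4), [nat_lit 3, nat_lit 1, nat_lit 2, nat_lit 0])) (.leaf ((nat_lit 2), [nat_lit 2, nat_lit 0]))))
 (.node (nat_lit 19) (.node (nat_lit 18) (.leaf ((nat_lit 4), [nat_lit 3, nat_lit 2, nat_lit 1])) (.leaf ((nat_lit 4), [nat_lit 1, nat_lit 3, nat_lit 2]))) (.node (nat_lit 20) (.leaf ((nat_lit 4), [nat_lit 2, nat_lit 3, nat_lit 2, nat_lit 1])) (.leaf ((nat_lit 2), [nat_lit 1])))))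
 (.node (nat_lit 24) (.node (nat_lit 22) (.leaf ((nat_lit 3), [nat_lit 3])) (.node (nat_lit 23) (.leaf ((nat_lit 4), [nat_lit 3, nat_lit 1])) (.leaf ((nat_lit 4), [nat_lit 0, nat_lit 3, nat_lit 0, nat_lit 2]))))
 (.node (nat_lit 26) (.node (nat_lit 25) (.leaf ((nat_lit 4), [nat_lit 1, nat_lit 3, nat_lit 1, nat_lit 2])) (.leaf ((nat_lit 5), []))) (.node (nat_lit 27) (.leaf ((nat_lit 4), [nat_lit 2, nat_lit 3, nat_lit 1])) (.leaf ((nat_lit 4), [nat_lit 1, nat_lit 2])))))))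
 (.node (nat_lit 42) (.node (nat_lit 35) (.node (nat_lit 31) (.node (nat_lit 29) (.leaf ((nat_lit 4), [nat_lit 3, nat_lit 0, nat_lit 3])) (.node (nat_lit 30) (.leaf ((nat_lit 2), [nat_lit 3, nat_lit 2, nat_lit 0])) (.leaf ((nat_lit 3), [nat_lit 3, nat_lit 2, nat_lit 3]))))
 (.node (nat_lit 33) (.node (nat_lit 32) (.leaf ((nat_lit 1), [nat_lit 1])) (.leaf ((nat_lit 4), [nat_lit 0, nat_lit 3, nat_lit 0]))) (.node (nat_lit 34) (.leaf ((nat_lit 2), [nat_lit 3, nat_lit 0, nat_lit 3, nat_lit 0])) (.leaf ((nat_lit 4), [nat_lit 3, nat_lit 2, nat_lit 3, nat_lit 1])))))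
 (.node (nat_lit 38) (.node (nat_lit 36) (.leaf ((nat_lit 4), [nat_lit 0, nat_lit 2, nat_lit 3])) (.node (nat_lit 37) (.leaf ((nat_lit 3), [nat_lit 3, nat_lit 0])) (.leaf ((nat_lit 1), [nat_lit 1, nat_lit 3, nat_lit 1]))))
 (.node (nat_lit 40) (.node (nat_lit 39) (.leaf ((nat_lit 4), [nat_lit 1])) (.leaf ((nat_lit 4), [nat_lit 0, nat_lit 3]))) (.node (nat_lit 41) (.leaf ((nat_lit 3), [nat_lit 3, nat_lit 1, nat_lit 3])) (.leaf ((nat_lit 4), [nat_lit 3, nat_lit 1, nat_lit 2]))))))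
 (.node (nat_lit 49) (.node (nat_lit 45) (.node (nat_lit 43) (.leaf ((nat_lit 2), [nat_lit 2, nat_lit 1, nat_lit 3, nat_lit 0])) (.node (nat_lit 44) (.leaf ((nat_lit 1), [nat_lit 3])) (.leaf ((nat_lit 4), [nat_lit 0, nat_lit 3, nat_lit 1]))))
 (.node (nat_lit 47) (.node (nat_lit 46) (.leaf ((nat_lit 3), [nat_lit 2, nat_lit 1])) (.leaf ((nat_lit 4), [nat_lit 1, nat_lit 3]))) (.node (nat_lit 48) (.leaf ((nat_lit 2), [nat_lit 3])) (.leaf ((nat_lit 2), [nat_lit 3, nat_lit 0])))))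
 (.node (nat_lit 52) (.node (nat_lit 50) (.leaf ((nat_lit 4), [nat_lit 2, nat_lit 3, nat_lit 2, nat_lit 0])) (.node (nat_lit 51) (.leaf ((nat_lit 3), [nat_lit 3, nat_lit 1])) (.leaf ((nat_lit 1), [nat_lit 3, nat_lit 2]))))
 (.node (nat_lit 54) (.node (nat_lit 53) (.leaf ((nat_lit 2), [nat_lit 0, nat_lit 2, nat_lit 3])) (.leaf ((nat_lit 4), [nat_lit 2, nat_lit 1, nat_lit 3, nat_lit 1]))) (.node (nat_lit 55) (.leaf ((nat_lit 3), [nat_lit 3, nat_lit 0, nat_lit 2])) (.leaf ((nat_lit 2), [nat_lit 0]))))))))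
 (.node (nat_lit 84) (.node (nat_lit 70) (.node (nat_lit 63) (.node (nat_lit 59) (.node (nat_lit 57) (.leaf ((nat_lit 4), [nat_lit 3, nat_lit 1, nat_lit 3])) (.node (nat_lit 58) (.leaf ((nat_lit 3), [nat_lit 2, nat_lit 0])) (.leaf ((nat_lit 4), [nat_lit 1, nat_lit 3, nat_lit 1]))))
 (.node (nat_lit 61) (.node (nat_lit 60) (.leaf ((nat_lit 2), [nat_lit 0, nat_lit 3])) (.leaf ((nat_lit 4), [nat_lit 1, nat_lit 3, nat_lit 0]))) (.node (nat_lit 62) (.leaf ((nat_lit 1), [nat_lit 1, nat_lit 2, nat_lit 1])) (.leaf ((nat_lit 3), [nat_lit 2, nat_lit 3])))))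
 (.node (nat_lit 66) (.node (nat_lit 64) (.leaf ((nat_lit 4), [nat_lit 0, nat_lit 2, nat_lit 1])) (.node (nat_lit 65) (.leaf ((nat_lit 2), [nat_lit 2, nat_lit 3])) (.leaf ((nat_lit 4), [nat_lit 3, nat_lit 0, nat_lit 2]))))
 (.node (nat_lit 68) (.node (nat_lit 67) (.leaf ((nat_lit 4), [nat_lit 2, nat_lit 1, nat_lit 3, nat_lit 2])) (.leaf ((nat_lit 4), [nat_lit 0, nat_lit 2, nat_lit 0]))) (.node (nat_lit 69) (.leaf ((nat_lit 2), [nat_lit 0, nat_lit 3, nat_lit 0])) (.leaf ((nat_lit 3), [nat_lit 2]))))))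
 (.node (nat_lit 77) (.node (nat_lit 73) (.node (nat_lit 71) (.leaf ((nat_lit 2), [nat_lit 1, nat_lit 3, nat_lit 1])) (.node (nat_lit 72) (.leaf ((nat_lit 2), [nat_lit 2, nat_lit 1, nat_lit 3])) (.leaf ((nat_lit 4), [nat_lit 3]))))
 (.node (nat_lit 75) (.node (nat_lit 74) (.leaf ((nat_lit 2), [nat_lit 0, nat_lit 3, nat_lit 1])) (.leaf ((nat_lit 1), [nat_lit 1, nat_lit 2]))) (.node (nat_lit 76) (.leaf ((nat_lit 4), [nat_lit 3, nat_lit 0, nat_lit 2, nat_lit 0])) (.leaf ((nat_lit 2), [nat_lit 1, nat_lit 3])))))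
 (.node (nat_lit 80) (.node (nat_lit 78) (.leaf ((nat_lit 4), [nat_lit 2, nat_lit 3])) (.node (nat_lit 79) (.leaf ((nat_lit 3), [nat_lit 1, nat_lit 3])) (.leaf ((nat_lit 1), [nat_lit 2, nat_lit 3]))))
 (.node (nat_lit 82) (.node (nat_lit 81) (.leaf ((nat_lit 4), [nat_lit 2, nat_lit 1])) (.leaf ((nat_lit 4), [nat_lit 2, nat_lit 1, nat_lit 3]))) (.node (nat_lit 83) (.leaf ((nat_lit 2), [nat_lit 3, nat_lit 1])) (.leaf ((nat_lit 4), [nat_lit 3, nat_lit 1, nat_lit 3, nat_lit 2])))))))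
 (.node (nat_lit 98) (.node (nat_lit 91) (.node (nat_lit 87) (.node (nat_lit 85) (.leaf ((nat_lit 4), [nat_lit 3, nat_lit 0, nat_lit 2, nat_lit 1])) (.node (nat_lit 86) (.leaf ((nat_lit 4), [nat_lit 3, nat_lit 2, nat_lit 0])) (.leaf ((nat_lit 4), [nat_lit 2, nat_lit 3, nat_lit 0]))))
 (.node (nat_lit 89) (.node (nat_lit 88) (.leaf ((nat_lit 4), [nat_lit 2, nat_lit 0, nat_lit 3])) (.leaf ((nat_lit 3), [nat_lit 1]))) (.node (nat_lit 90) (.leaf ((nat_lit 4), [nat_lit 3, nat_lit 0])) (.leaf ((nat_lit 4), [nat_lit 2, nat_lit 1, nat_lit 3, nat_lit 2, nat_lit 0])))))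
 (.node (nat_lit 94) (.node (nat_lit 92) (.leaf ((nat_lit 1), [nat_lit 2, nat_lit 0])) (.node (nat_lit 93) (.leaf ((nat_lit 4), [nat_lit 3, nat_lit 1, nat_lit 3, nat_lit 0])) (.leaf ((nat_lit 3), [nat_lit 0, nat_lit 2]))))
 (.node (nat_lit 96) (.node (nat_lit 95) (.leaf ((nat_lit 4), [nat_lit 3, nat_lit 0, nat_lit 3, nat_lit 0])) (.leaf ((nat_lit 4), [nat_lit 1, nat_lit 2, nat_lit 0]))) (.node (nat_lit 97) (.leaf ((nat_lit 3), [nat_lit 0])) (.leaf ((nat_lit 4), [nat_lit 0, nat_lit 2]))))))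
 (.node (nat_lit 105) (.node (nat_lit 101) (.node (nat_lit 99) (.leaf ((nat_lit 4), [nat_lit 3, nat_lit 2])) (.node (nat_lit 100) (.leaf ((nat_lit 4), [nat_lit 1, nat_lit 2, nat_lit 1])) (.leaf ((nat_lit 4), [nat_lit 3, nat_lit 0, nat_lit 3, nat_lit 1]))))
 (.node (nat_lit 103) (.node (nat_lit 102) (.leaf ((nat_lit 4), [nat_lit 2])) (.leaf ((nat_lit 4), [nat_lit 0, nat_lit 3, nat_lit 0, nat_lit 2, nat_lit 0]))) (.node (nat_lit 104) (.leaf ((nat_lit 4), [nat_lit 2, nat_lit 1, nat_lit 3, nat_lit 0])) (.leaf ((nat_lit 4), [nat_lit 2, nat_lit 3, nat_lit 0, nat_lit 2])))))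
 (.node (nat_lit 108) (.node (nat_lit 106) (.leaf ((nat_lit 4), [nat_lit 2, nat_lit 3, nat_lit 2])) (.node (nat_lit 107) (.leaf ((nat_lit 1), [nat_lit 2])) (.leaf ((nat_lit 4), [nat_lit 2, nat_lit 0]))))
 (.node (nat_lit 110) (.node (nat_lit 109) (.leaf ((nat_lit 4), [nat_lit 1, nat_lit 3, nat_lit 2, nat_lit 0])) (.leaf ((nat_lit 4), [nat_lit 3, nat_lit 1, nat_lit 3, nat_lit 1]))) (.node (nat_lit 111) (.leaf ((nat_lit 1), [nat_lit 0])) (.leaf ((nat_lit 4), [nat_lit 1, nat_lit 2, nat_lit 0, nat_lit 3])))))))))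
noncomputable def n6Wd_0 : Tr (ℕ × List ℕ) := (.node (nat_lit 84) (.node (nat_lit 42) (.node (nat_lit 21) (.node (nat_lit 10) (.node (nat_lit 5) (.node (nat_lit 2) (.node (nat_lit 1) (.leaf ((nat_lit 1), [])) (.leaf ((nat_lit 2), [nat_lit 2, nat_lit 1]))) (.node (nat_lit 3) (.leaf ((nat_lit 3), [])) (.node (nat_lit 4) (.leaf ((nat_lit 4), [nat_lit 0, nat_lit 3, nat_lit 2])) (.leaf ((nat_lit 5), [nat_lit 3, nat_lit 1, nat_lit 2, nat_lit 3, nat_lit 2, nat_lit 1])))))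
 (.node (nat_lit 7) (.node (nat_lit 6) (.leaf ((nat_lit 6), [])) (.leaf ((nat_lit 0), []))) (.node (nat_lit 8) (.leaf ((nat_lit 7), [nat_lit 0, nat_lit 2])) (.node (nat_lit 9) (.leaf ((nat_lit 8), [nat_lit 1, nat_lit 3, nat_lit 0])) (.leaf ((nat_lit 9), []))))))
 (.node (nat_lit 15) (.node (nat_lit 12) (.node (nat_lit 11) (.leaf ((nat_lit 10), [nat_lit 3, nat_lit 2, nat_lit 0, nat_lit 3, nat_lit 0, nat_lit 2, nat_lit 0])) (.leaf ((nat_lit 11), [nat_lit 3, nat_lit 0, nat_lit 3, nat_lit 0, nat_lit 2, nat_lit 0]))) (.node (nat_lit 13) (.leaf ((nat_lit 7), [nat_lit 2, nat_lit 1])) (.node (nat_lit 14) (.leaf ((nat_lit 0), [nat_lit 0, nat_lit 2])) (.leaf ((nat_lit 12), [nat_lit 1, nat_lit 3, nat_lit 0])))))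
 (.node (nat_lit 18) (.node (nat_lit 16) (.leaf ((nat_lit 13), [nat_lit 2, nat_lit 0, nat_lit 3])) (.node (nat_lit 17) (.leaf ((nat_lit 14), [nat_lit 0, nat_lit 3, nat_lit 1, nat_lit 2, nat_lit 0])) (.leaf ((nat_lit 15), [nat_lit 1, nat_lit 2, nat_lit 0, nat_lit 3, nat_lit 0, nat_lit 2])))) (.node (nat_lit 19) (.leaf ((nat_lit 8), [nat_lit 1, nat_lit 3, nat_lit 0])) (.node (nat_lit 20) (.leaf ((nat_lit 12), [nat_lit 1, nat_lit 3, nat_lit 0, nat_lit 2, nat_lit 1])) (.leaf ((nat_lit 0), [])))))))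
 (.node (nat_lit 31) (.node (nat_lit 26) (.node (nat_lit 23) (.node (nat_lit 22) (.leaf ((nat_lit 16), [nat_lit 0, nat_lit 2, nat_lit 0])) (.leaf ((nat_lit 17), [nat_lit 2, nat_lit 1, nat_lit 3, nat_lit 1]))) (.node (nat_lit 24) (.leaf ((nat_lit 18), [nat_lit 2, nat_lit 1, nat_lit 3, nat_lit 1, nat_lit 2])) (.node (nat_lit 25) (.leaf ((nat_lit 18), [nat_lit 2, nat_lit 1, nat_lit 3, nat_lit 2, nat_lit 1])) (.leaf ((nat_lit 19), [nat_lit 3, nat_lit 0, nat_lit 3, nat_lit 2, nat_lit 1])))))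
 (.node (nat_lit 28) (.node (nat_lit 27) (.leaf ((nat_lit 20), [nat_lit 2, nat_lit 0, nat_lit 3, nat_lit 1])) (.leaf ((nat_lit 0), [nat_lit 2, nat_lit 3, nat_lit 1]))) (.node (nat_lit 29) (.leaf ((nat_lit 21), [nat_lit 2, nat_lit 1, nat_lit 3, nat_lit 0, nat_lit 2, nat_lit 1])) (.node (nat_lit 30) (.leaf ((nat_lit 4), [nat_lit 2, nat_lit 3, nat_lit 2])) (.leaf ((nat_lit 22), [nat_lit 2, nat_lit 3, nat_lit 0, nat_lit 2]))))))
 (.node (nat_lit 36) (.node (nat_lit 33) (.node (nat_lit 32) (.leaf ((nat_lit 23), [nat_lit 1, nat_lit 3, nat_lit 0])) (.leaf ((nat_lit 24), [nat_lit 0, nat_lit 2, nat_lit 0]))) (.node (nat_lit 34) (.leaf ((nat_lit 21), [nat_lit 2, nat_lit 0, nat_lit 3, nat_lit 0])) (.node (nat_lit 35) (.leaf ((nat_lit 0), [nat_lit 3, nat_lit 2, nat_lit 0, nat_lit 3, nat_lit 0])) (.leaf ((nat_lit 25), [nat_lit 3, nat_lit 2, nat_lit 0, nat_lit 3, nat_lit 0])))))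
 (.node (nat_lit 39) (.node (nat_lit 37) (.leaf ((nat_lit 26), [nat_lit 1, nat_lit 2, nat_lit 1, nat_lit 3, nat_lit 2])) (.node (nat_lit 38) (.leaf ((nat_lit 27), [nat_lit 3, nat_lit 0, nat_lit 3, nat_lit 1, nat_lit 2, nat_lit 1])) (.leaf ((nat_lit 28), [nat_lit 1, nat_lit 2, nat_lit 3, nat_lit 0, nat_lit 2])))) (.node (nat_lit 40) (.leaf ((nat_lit 7), [nat_lit 0, nat_lit 2, nat_lit 0, nat_lit 3, nat_lit 2, nat_lit 1])) (.node (nat_lit 41) (.leaf ((nat_lit 25), [nat_lit 0, nat_lit 2, nat_lit 3, nat_lit 2, nat_lit 1])) (.leaf ((nat_lit 0), []))))))))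
 (.node (nat_lit 63) (.node (nat_lit 52) (.node (nat_lit 47) (.node (nat_lit 44) (.node (nat_lit 43) (.leaf ((nat_lit 2), [nat_lit 0, nat_lit 2])) (.leaf ((nat_lit 1), [nat_lit 2, nat_lit 1]))) (.node (nat_lit 45) (.leaf ((nat_lit 29), [nat_lit 2, nat_lit 1, nat_lit 3, nat_lit 1, nat_lit 2, nat_lit 0])) (.node (nat_lit 46) (.leaf ((nat_lit 6), [nat_lit 0, nat_lit 2, nat_lit 3, nat_lit 1, nat_lit 2, nat_lit 1])) (.leaf ((nat_lit 30), [nat_lit 1, nat_lit 2, nat_lit 3, nat_lit 2])))))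
 (.node (nat_lit 49) (.node (nat_lit 48) (.leaf ((nat_lit 31), [nat_lit 3, nat_lit 2, nat_lit 0, nat_lit 3, nat_lit 1])) (.leaf ((nat_lit 3), [nat_lit 1, nat_lit 3, nat_lit 0]))) (.node (nat_lit 50) (.leaf ((nat_lit 29), [nat_lit 0, nat_lit 2, nat_lit 3, nat_lit 0, nat_lit 2, nat_lit 0])) (.node (nat_lit 51) (.leaf ((nat_lit 1), [nat_lit 1, nat_lit 3, nat_lit 0])) (.leaf ((nat_lit 32), [nat_lit 3, nat_lit 1, nat_lit 2, nat_lit 3, nat_lit 2]))))))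
 (.node (nat_lit 57) (.node (nat_lit 54) (.node (nat_lit 53) (.leaf ((nat_lit 18), [nat_lit 3])) (.leaf ((nat_lit 23), [nat_lit 3, nat_lit 2, nat_lit 0, nat_lit 3, nat_lit 1, nat_lit 2]))) (.node (nat_lit 55) (.leaf ((nat_lit 33), [nat_lit 0, nat_lit 3, nat_lit 0, nat_lit 2, nat_lit 0])) (.node (nat_lit 56) (.leaf ((nat_lit 34), [nat_lit 1, nat_lit 2, nat_lit 1, nat_lit 3, nat_lit 1])) (.leaf ((nat_lit 35), [nat_lit 2, nat_lit 3, nat_lit 1, nat_lit 2])))))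
 (.node (nat_lit 60) (.node (nat_lit 58) (.leaf ((nat_lit 1), [])) (.node (nat_lit 59) (.leaf ((nat_lit 36), [nat_lit 3, nat_lit 0, nat_lit 2])) (.leaf ((nat_lit 37), [nat_lit 2, nat_lit 1, nat_lit 3, nat_lit 1, nat_lit 2, nat_lit 0])))) (.node (nat_lit 61) (.leaf ((nat_lit 16), [nat_lit 3, nat_lit 2, nat_lit 0, nat_lit 3, nat_lit 0, nat_lit 2, nat_lit 1])) (.node (nat_lit 62) (.leaf ((nat_lit 38), [nat_lit 3, nat_lit 2, nat_lit 0, nat_lit 3, nat_lit 1, nat_lit 2])) (.leaf ((nat_lit 39), [nat_lit 0, nat_lit 3, nat_lit 0, nat_lit 2, nat_lit 1])))))))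
 (.node (nat_lit 73) (.node (nat_lit 68) (.node (nat_lit 65) (.node (nat_lit 64) (.leaf ((nat_lit 36), [nat_lit 1, nat_lit 2, nat_lit 3, nat_lit 1, nat_lit 2])) (.leaf ((nat_lit 1), [nat_lit 3, nat_lit 1, nat_lit 2, nat_lit 3, nat_lit 0]))) (.node (nat_lit 66) (.leaf ((nat_lit 40), [nat_lit 2, nat_lit 0, nat_lit 3, nat_lit 2, nat_lit 0])) (.node (nat_lit 67) (.leaf ((nat_lit 41), [nat_lit 3, nat_lit 0, nat_lit 2, nat_lit 1])) (.leaf ((nat_lit 42), [nat_lit 0, nat_lit 2, nat_lit 0, nat_lit 3, nat_lit 0, nat_lit 2, nat_lit 1])))))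
 (.node (nat_lit 70) (.node (nat_lit 69) (.leaf ((nat_lit 43), [nat_lit 3, nat_lit 0])) (.leaf ((nat_lit 44), [nat_lit 1, nat_lit 2, nat_lit 0, nat_lit 3, nat_lit 0, nat_lit 2, nat_lit 1]))) (.node (nat_lit 71) (.leaf ((nat_lit 45), [nat_lit 1, nat_lit 2, nat_lit 3])) (.node (nat_lit 72) (.leaf ((nat_lit 1), [nat_lit 1, nat_lit 2, nat_lit 0, nat_lit 3, nat_lit 0, nat_lit 2, nat_lit 1])) (.leaf ((nat_lit 29), [nat_lit 3, nat_lit 2, nat_lit 0]))))))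
 (.node (nat_lit 78) (.node (nat_lit 75) (.node (nat_lit 74) (.leaf ((nat_lit 3), [nat_lit 3, nat_lit 0, nat_lit 3])) (.leaf ((nat_lit 2), [nat_lit 1, nat_lit 3, nat_lit 0]))) (.node (nat_lit 76) (.leaf ((nat_lit 46), [nat_lit 1, nat_lit 2, nat_lit 3, nat_lit 0, nat_lit 2, nat_lit 1])) (.node (nat_lit 77) (.leaf ((nat_lit 33), [nat_lit 1, nat_lit 2])) (.leaf ((nat_lit 47), [nat_lit 2, nat_lit 3, nat_lit 0, nat_lit 2, nat_lit 0])))))
 (.node (nat_lit 81) (.node (nat_lit 79) (.leaf ((nat_lit 17), [nat_lit 3, nat_lit 0, nat_lit 3, nat_lit 0, nat_lit 2, nat_lit 0])) (.node (nat_lit 80) (.leaf ((nat_lit 48), [nat_lit 2, nat_lit 3, nat_lit 0, nat_lit 2, nat_lit 0])) (.leaf ((nat_lit 49), [nat_lit 0, nat_lit 2, nat_lit 3])))) (.node (nat_lit 82) (.leaf ((nat_lit 2), [nat_lit 3, nat_lit 1, nat_lit 2])) (.node (nat_lit 83) (.leaf ((nat_lit 50), [nat_lit 1, nat_lit 2])) (.leaf ((nat_lit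 51), [nat_lit 2, nat_lit 0, nat_lit 3, nat_lit 0, nat_lit 2, nat_lit 0])))))))))
 (.node (nat_lit 126) (.node (nat_lit 105) (.node (nat_lit 94) (.node (nat_lit 89) (.node (nat_lit 86) (.node (nat_lit 85) (.leaf ((nat_lit 46), [nat_lit 2, nat_lit 3])) (.leaf ((nat_lit 52), [nat_lit 1, nat_lit 2, nat_lit 0, nat_lit 3, nat_lit 1, nat_lit 2]))) (.node (nat_lit 87) (.leaf ((nat_lit 53), [nat_lit 3, nat_lit 1])) (.node (nat_lit 88) (.leaf ((nat_lit 50), [nat_lit 1, nat_lit 2, nat_lit 0, nat_lit 3, nat_lit 1, nat_lit 2])) (.leaf ((nat_lit 2), [nat_lit 1, nat_lit 2, nat_lit 0, nat_lit 3, nat_lit 1])))))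
 (.node (nat_lit 91) (.node (nat_lit 90) (.leaf ((nat_lit 54), [nat_lit 3, nat_lit 1, nat_lit 2, nat_lit 3, nat_lit 1])) (.leaf ((nat_lit 55), [nat_lit 2, nat_lit 3, nat_lit 0, nat_lit 2, nat_lit 1]))) (.node (nat_lit 92) (.leaf ((nat_lit 56), [nat_lit 3, nat_lit 1, nat_lit 2, nat_lit 3, nat_lit 1, nat_lit 2, nat_lit 1])) (.node (nat_lit 93) (.leaf ((nat_lit 57), [nat_lit 3, nat_lit 0, nat_lit 3, nat_lit 1])) (.leaf ((nat_lit 35), [nat_lit 2, nat_lit 0, nat_lit 3, nat_lit 2, nat_lit 1]))))))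
 (.node (nat_lit 99) (.node (nat_lit 96) (.node (nat_lit 95) (.leaf ((nat_lit 57), [nat_lit 0, nat_lit 3])) (.leaf ((nat_lit 2), [nat_lit 2, nat_lit 1, nat_lit 3, nat_lit 1, nat_lit 2, nat_lit 0]))) (.node (nat_lit 97) (.leaf ((nat_lit 10), [nat_lit 3, nat_lit 1, nat_lit 2, nat_lit 3, nat_lit 2])) (.node (nat_lit 98) (.leaf ((nat_lit 58), [nat_lit 3, nat_lit 2, nat_lit 1])) (.leaf ((nat_lit 37), [nat_lit 0, nat_lit 3, nat_lit 2, nat_lit 1])))))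
 (.node (nat_lit 102) (.node (nat_lit 100) (.leaf ((nat_lit 3), [nat_lit 1, nat_lit 2, nat_lit 1])) (.node (nat_lit 101) (.leaf ((nat_lit 59), [nat_lit 1, nat_lit 2, nat_lit 1, nat_lit 3, nat_lit 0, nat_lit 2])) (.leaf ((nat_lit 33), [nat_lit 0, nat_lit 2, nat_lit 3, nat_lit 1])))) (.node (nat_lit 103) (.leaf ((nat_lit 13), [nat_lit 1, nat_lit 2, nat_lit 0, nat_lit 3, nat_lit 0, nat_lit 2, nat_lit 1])) (.node (nat_lit 104) (.leaf ((nat_lit 60), [nat_lit 0, nat_lit 3, nat_lit 0, nat_lit 2, nat_lit 0])) (.leaf ((nat_lit 61), [nat_lit 1, nat_lit 3, nat_lit 1])))))))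
 (.node (nat_lit 115) (.node (nat_lit 110) (.node (nat_lit 107) (.node (nat_lit 106) (.leaf ((nat_lit 59), [nat_lit 3, nat_lit 2, nat_lit 0, nat_lit 3, nat_lit 2, nat_lit 1])) (.leaf ((nat_lit 3), [nat_lit 0, nat_lit 3, nat_lit 0, nat_lit 2]))) (.node (nat_lit 108) (.leaf ((nat_lit 20), [nat_lit 3, nat_lit 2, nat_lit 0, nat_lit 3, nat_lit 0])) (.node (nat_lit 109) (.leaf ((nat_lit 4), [nat_lit 0, nat_lit 2, nat_lit 3, nat_lit 0, nat_lit 2])) (.leaf ((nat_lit 62), [nat_lit 2, nat_lit 3, nat_lit 0])))))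
 (.node (nat_lit 112) (.node (nat_lit 111) (.leaf ((nat_lit 63), [nat_lit 0, nat_lit 2, nat_lit 0, nat_lit 3, nat_lit 2, nat_lit 1])) (.leaf ((nat_lit 64), [nat_lit 2, nat_lit 3, nat_lit 0, nat_lit 2, nat_lit 1]))) (.node (nat_lit 113) (.leaf ((nat_lit 8), [nat_lit 3])) (.node (nat_lit 114) (.leaf ((nat_lit 3), [nat_lit 2, nat_lit 0, nat_lit 3, nat_lit 0, nat_lit 2])) (.leaf ((nat_lit 62), [nat_lit 0, nat_lit 2, nat_lit 3, nat_lit 1, nat_lit 2, nat_lit 1]))))))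
 (.node (nat_lit 120) (.node (nat_lit 117) (.node (nat_lit 116) (.leaf ((nat_lit 4), [nat_lit 3, nat_lit 0, nat_lit 3, nat_lit 2, nat_lit 1])) (.leaf ((nat_lit 65), [nat_lit 0, nat_lit 3, nat_lit 1, nat_lit 2, nat_lit 1]))) (.node (nat_lit 118) (.leaf ((nat_lit 48), [nat_lit 0])) (.node (nat_lit 119) (.leaf ((nat_lit 34), [nat_lit 3, nat_lit 0, nat_lit 3, nat_lit 2, nat_lit 0])) (.leaf ((nat_lit 66), [nat_lit 3, nat_lit 0, nat_lit 3, nat_lit 0, nat_lit 2])))))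
 (.node (nat_lit 123) (.node (nat_lit 121) (.leaf ((nat_lit 63), [nat_lit 1])) (.node (nat_lit 122) (.leaf ((nat_lit 65), [nat_lit 3, nat_lit 1, nat_lit 2, nat_lit 3, nat_lit 2])) (.leaf ((nat_lit 4), [nat_lit 0, nat_lit 3, nat_lit 1, nat_lit 2])))) (.node (nat_lit 124) (.leaf ((nat_lit 55), [nat_lit 2, nat_lit 0])) (.node (nat_lit 125) (.leaf ((nat_lit 67), [nat_lit 1, nat_lit 2, nat_lit 1, nat_lit 3, nat_lit 2])) (.leaf ((nat_lit 17), [nat_lit 3, nat_lit 1, nat_lit 2, nat_lit 3, nat_lit 2, nat_lit 1]))))))))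
 (.node (nat_lit 147) (.node (nat_lit 136) (.node (nat_lit 131) (.node (nat_lit 128) (.node (nat_lit 127) (.leaf ((nat_lit 50), [nat_lit 0, nat_lit 2, nat_lit 3, nat_lit 2, nat_lit 0])) (.leaf ((nat_lit 36), [nat_lit 1, nat_lit 2, nat_lit 3, nat_lit 2, nat_lit 1]))) (.node (nat_lit 129) (.leaf ((nat_lit 68), [nat_lit 1, nat_lit 2, nat_lit 0, nat_lit 3, nat_lit 0, nat_lit 2])) (.node (nat_lit 130) (.leaf ((nat_lit 5), [nat_lit 1, nat_lit 3, nat_lit 1, nat_lit 2])) (.leaf ((nat_lit 4), [nat_lit 3, nat_lit 0, nat_lit 3, nat_lit 2])))))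
 (.node (nat_lit 133) (.node (nat_lit 132) (.leaf ((nat_lit 62), [nat_lit 3, nat_lit 1, nat_lit 2, nat_lit 3, nat_lit 0])) (.leaf ((nat_lit 5), [nat_lit 2, nat_lit 1, nat_lit 3, nat_lit 2]))) (.node (nat_lit 134) (.leaf ((nat_lit 69), [nat_lit 3, nat_lit 0, nat_lit 2])) (.node (nat_lit 135) (.leaf ((nat_lit 67), [nat_lit 0, nat_lit 3])) (.leaf ((nat_lit 29), [nat_lit 0, nat_lit 3, nat_lit 0, nat_lit 2, nat_lit 0]))))))
 (.node (nat_lit 141) (.node (nat_lit 138) (.node (nat_lit 137) (.leaf ((nat_lit 68), [nat_lit 2])) (.leaf ((nat_lit 70), [nat_lit 2, nat_lit 3, nat_lit 2, nat_lit 0]))) (.node (nat_lit 139) (.leaf ((nat_lit 69), [nat_lit 1, nat_lit 3, nat_lit 0, nat_lit 2, nat_lit 1])) (.node (nat_lit 140) (.leaf ((nat_lit 5), [nat_lit 1, nat_lit 3, nat_lit 0])) (.leaf ((nat_lit 71), [nat_lit 0, nat_lit 2, nat_lit 3, nat_lit 2])))))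
 (.node (nat_lit 144) (.node (nat_lit 142) (.leaf ((nat_lit 38), [nat_lit 3, nat_lit 2, nat_lit 0, nat_lit 3, nat_lit 0, nat_lit 2])) (.node (nat_lit 143) (.leaf ((nat_lit 52), [nat_lit 2, nat_lit 3, nat_lit 0, nat_lit 2])) (.leaf ((nat_lit 8), [nat_lit 3, nat_lit 1, nat_lit 2, nat_lit 3, nat_lit 2, nat_lit 0])))) (.node (nat_lit 145) (.leaf ((nat_lit 67), [nat_lit 3, nat_lit 0, nat_lit 3, nat_lit 0, nat_lit 2, nat_lit 0])) (.node (nat_lit 146) (.leaf ((nat_lit 71), [nat_lit 0, nat_lit 3, nat_lit 0, nat_lit 2])) (.leaf ((nat_lit 5), [nat_lit 1, nat_lit 2, nat_lit 1])))))))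
 (.node (nat_lit 157) (.node (nat_lit 152) (.node (nat_lit 149) (.node (nat_lit 148) (.leaf ((nat_lit 72), [nat_lit 1, nat_lit 3, nat_lit 1, nat_lit 2, nat_lit 1])) (.leaf ((nat_lit 61), [nat_lit 1, nat_lit 2, nat_lit 3, nat_lit 0, nat_lit 2, nat_lit 1]))) (.node (nat_lit 150) (.leaf ((nat_lit 57), [nat_lit 3, nat_lit 1, nat_lit 2, nat_lit 3, nat_lit 1])) (.node (nat_lit 151) (.leaf ((nat_lit 36), [nat_lit 0, nat_lit 3, nat_lit 0, nat_lit 2, nat_lit 1])) (.leaf ((nat_lit 50), [nat_lit 0, nat_lit 3, nat_lit 2, nat_lit 0])))))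
 (.node (nat_lit 154) (.node (nat_lit 153) (.leaf ((nat_lit 73), [nat_lit 3, nat_lit 1, nat_lit 2, nat_lit 0])) (.leaf ((nat_lit 30), [nat_lit 1, nat_lit 2, nat_lit 3, nat_lit 0]))) (.node (nat_lit 155) (.leaf ((nat_lit 6), [nat_lit 0, nat_lit 2, nat_lit 3, nat_lit 2, nat_lit 1])) (.node (nat_lit 156) (.leaf ((nat_lit 5), [nat_lit 3, nat_lit 1, nat_lit 2, nat_lit 3, nat_lit 2, nat_lit 1])) (.leaf ((nat_lit 6), [nat_lit 2, nat_lit 3, nat_lit 0, nat_lit 2, nat_lit 0]))))))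
 (.node (nat_lit 162) (.node (nat_lit 159) (.node (nat_lit 158) (.leaf ((nat_lit 74), [nat_lit 1, nat_lit 2, nat_lit 0, nat_lit 3])) (.leaf ((nat_lit 75), [nat_lit 0, nat_lit 2, nat_lit 3, nat_lit 0]))) (.node (nat_lit 160) (.leaf ((nat_lit 68), [nat_lit 0, nat_lit 3, nat_lit 0, nat_lit 2, nat_lit 1])) (.node (nat_lit 161) (.leaf ((nat_lit 29), [nat_lit 3, nat_lit 0, nat_lit 3, nat_lit 1, nat_lit 2, nat_lit 0])) (.leaf ((nat_lit 55), [nat_lit 2, nat_lit 1, nat_lit 3, nat_lit 0, nat_lit 2, nat_lit 1])))))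
 (.node (nat_lit 165) (.node (nat_lit 163) (.leaf ((nat_lit 74), [nat_lit 1])) (.node (nat_lit 164) (.leaf ((nat_lit 6), [nat_lit 0, nat_lit 2, nat_lit 3, nat_lit 0, nat_lit 2, nat_lit 1])) (.leaf ((nat_lit 76), [nat_lit 1, nat_lit 2, nat_lit 0, nat_lit 3, nat_lit 2, nat_lit 1])))) (.node (nat_lit 166) (.leaf ((nat_lit 34), [nat_lit 1, nat_lit 2, nat_lit 1, nat_lit 3, nat_lit 0, nat_lit 2, nat_lit 1])) (.node (nat_lit 167) (.leaf ((nat_lit 48), [nat_lit 3, nat_lit 2, nat_lit 0, nat_lit 3, nat_lit 2, nat_lit 1])) (.leaf ((nat_lit 64), [nat_lit 0, nat_lit 2, nat_lit 0, nat_lit 3, nat_lit 1, nat_lit 2]))))))))))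
noncomputable def n6Wd_1 : Tr (ℕ × List ℕ) := (.node (nat_lit 252) (.node (nat_lit 210) (.node (nat_lit 189) (.node (nat_lit 178) (.node (nat_lit 173) (.node (nat_lit 170) (.node (nat_lit 169) (.leaf ((nat_lit 75), [nat_lit 3, nat_lit 2, nat_lit 0, nat_lit 3, nat_lit 2, nat_lit 1])) (.leaf ((nat_lit 76), [nat_lit 0, nat_lit 2, nat_lit 0, nat_lit 3, nat_lit 0, nat_lit 2, nat_lit 0]))) (.node (nat_lit 171) (.leaf ((nat_lit 6), [nat_lit 2, nat_lit 1, nat_lit 3, nat_lit 2, nat_lit 0])) (.node (nat_lit 172) (.leaf ((nat_lit 77), [nat_lit 3, nat_lit 2])) (.leaf ((nat_lit 78), [nat_lit 3, nat_lit 2, nat_lit 0, nat_lit 3, nat_lit 1, nat_lit 2, nat_lit 1])))))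
 (.node (nat_lit 175) (.node (nat_lit 174) (.leaf ((nat_lit 79), [nat_lit 1, nat_lit 3, nat_lit 1, nat_lit 2, nat_lit 1])) (.leaf ((nat_lit 12), [nat_lit 1, nat_lit 2, nat_lit 3]))) (.node (nat_lit 176) (.leaf ((nat_lit 8), [nat_lit 1, nat_lit 2, nat_lit 1, nat_lit 3, nat_lit 2, nat_lit 1])) (.node (nat_lit 177) (.leaf ((nat_lit 7), [nat_lit 1, nat_lit 2, nat_lit 0, nat_lit 3, nat_lit 0, nat_lit 2])) (.leaf ((nat_lit 22), [nat_lit 1, nat_lit 2, nat_lit 1, nat_lit 3, nat_lit 1]))))))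
 (.node (nat_lit 183) (.node (nat_lit 180) (.node (nat_lit 179) (.leaf ((nat_lit 26), [nat_lit 1, nat_lit 2, nat_lit 3, nat_lit 0, nat_lit 2, nat_lit 1])) (.leaf ((nat_lit 80), [nat_lit 2, nat_lit 1, nat_lit 3, nat_lit 0, nat_lit 2, nat_lit 1]))) (.node (nat_lit 181) (.leaf ((nat_lit 32), [nat_lit 1, nat_lit 2, nat_lit 3, nat_lit 1])) (.node (nat_lit 182) (.leaf ((nat_lit 81), [nat_lit 3, nat_lit 1, nat_lit 2, nat_lit 3, nat_lit 2])) (.leaf ((nat_lit 82), [nat_lit 1, nat_lit 2, nat_lit 3, nat_lit 1, nat_lit 2, nat_lit 0])))))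
 (.node (nat_lit 186) (.node (nat_lit 184) (.leaf ((nat_lit 25), [nat_lit 1, nat_lit 3, nat_lit 2, nat_lit 0])) (.node (nat_lit 185) (.leaf ((nat_lit 7), [nat_lit 2, nat_lit 3, nat_lit 2, nat_lit 0])) (.leaf ((nat_lit 30), [nat_lit 2, nat_lit 1, nat_lit 3, nat_lit 0, nat_lit 2])))) (.node (nat_lit 187) (.leaf ((nat_lit 81), [nat_lit 2, nat_lit 3, nat_lit 0, nat_lit 2])) (.node (nat_lit 188) (.leaf ((nat_lit 32), [nat_lit 1, nat_lit 3, nat_lit 0])) (.leaf ((nat_lit 83), [nat_lit 3, nat_lit 0, nat_lit 3, nat_lit 1, nat_lit 2, nat_lit 1])))))))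
 (.node (nat_lit 199) (.node (nat_lit 194) (.node (nat_lit 191) (.node (nat_lit 190) (.leaf ((nat_lit 69), [nat_lit 0, nat_lit 2, nat_lit 3, nat_lit 1, nat_lit 2, nat_lit 1])) (.leaf ((nat_lit 69), [nat_lit 3, nat_lit 2, nat_lit 0, nat_lit 3, nat_lit 0, nat_lit 2]))) (.node (nat_lit 192) (.leaf ((nat_lit 7), [nat_lit 3, nat_lit 1, nat_lit 2, nat_lit 3, nat_lit 0, nat_lit 2])) (.node (nat_lit 193) (.leaf ((nat_lit 30), [nat_lit 0, nat_lit 3, nat_lit 2, nat_lit 0])) (.leaf ((nat_lit 31), [nat_lit 1, nat_lit 3, nat_lit 0])))))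
 (.node (nat_lit 196) (.node (nat_lit 195) (.leaf ((nat_lit 84), [nat_lit 2, nat_lit 3, nat_lit 0, nat_lit 2, nat_lit 0])) (.leaf ((nat_lit 8), [nat_lit 3, nat_lit 2, nat_lit 0, nat_lit 3, nat_lit 0, nat_lit 2, nat_lit 1]))) (.node (nat_lit 197) (.leaf ((nat_lit 64), [nat_lit 1, nat_lit 2, nat_lit 3, nat_lit 1, nat_lit 2])) (.node (nat_lit 198) (.leaf ((nat_lit 73), [nat_lit 1, nat_lit 2, nat_lit 3, nat_lit 0, nat_lit 2, nat_lit 0])) (.leaf ((nat_lit 9), [nat_lit 1, nat_lit 2, nat_lit 1, nat_lit 3, nat_lit 1]))))))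
 (.node (nat_lit 204) (.node (nat_lit 201) (.node (nat_lit 200) (.leaf ((nat_lit 85), [nat_lit 3, nat_lit 0, nat_lit 3, nat_lit 1, nat_lit 2])) (.leaf ((nat_lit 40), [nat_lit 2, nat_lit 0, nat_lit 3, nat_lit 0, nat_lit 2, nat_lit 0]))) (.node (nat_lit 202) (.leaf ((nat_lit 73), [nat_lit 1, nat_lit 2, nat_lit 3, nat_lit 2, nat_lit 1])) (.node (nat_lit 203) (.leaf ((nat_lit 12), [nat_lit 2, nat_lit 0])) (.leaf ((nat_lit 16), [nat_lit 0, nat_lit 3, nat_lit 2, nat_lit 1])))))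
 (.node (nat_lit 207) (.node (nat_lit 205) (.leaf ((nat_lit 85), [nat_lit 1, nat_lit 2, nat_lit 0, nat_lit 3, nat_lit 0, nat_lit 2, nat_lit 1])) (.node (nat_lit 206) (.leaf ((nat_lit 9), [nat_lit 0, nat_lit 3, nat_lit 0, nat_lit 2, nat_lit 0])) (.leaf ((nat_lit 86), [nat_lit 1, nat_lit 2, nat_lit 1, nat_lit 3, nat_lit 2])))) (.node (nat_lit 208) (.leaf ((nat_lit 27), [nat_lit 3, nat_lit 0, nat_lit 3, nat_lit 2, nat_lit 0])) (.node (nat_lit 209) (.leaf ((nat_lit 19), [nat_lit 1, nat_lit 2, nat_lit 1, nat_lit 3, nat_lit 0, nat_lit 2, nat_lit 1])) (.leaf ((nat_lit 38), [nat_lit 2, nat_lit 0, nat_lit 3, nat_lit 0, nat_lit 2, nat_lit 1]))))))))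
 (.node (nat_lit 231) (.node (nat_lit 220) (.node (nat_lit 215) (.node (nat_lit 212) (.node (nat_lit 211) (.leaf ((nat_lit 40), [nat_lit 3, nat_lit 1, nat_lit 2, nat_lit 3, nat_lit 2, nat_lit 1])) (.leaf ((nat_lit 86), [nat_lit 3, nat_lit 1, nat_lit 2]))) (.node (nat_lit 213) (.leaf ((nat_lit 9), [nat_lit 2, nat_lit 0, nat_lit 3, nat_lit 2])) (.node (nat_lit 214) (.leaf ((nat_lit 15), [nat_lit 0, nat_lit 2, nat_lit 3, nat_lit 1, nat_lit 2])) (.leaf ((nat_lit 84), [nat_lit 3, nat_lit 2, nat_lit 0, nat_lit 3, nat_lit 1, nat_lit 2])))))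
 (.node (nat_lit 217) (.node (nat_lit 216) (.leaf ((nat_lit 58), [nat_lit 3])) (.leaf ((nat_lit 25), [nat_lit 3, nat_lit 0, nat_lit 3, nat_lit 0]))) (.node (nat_lit 218) (.leaf ((nat_lit 21), [nat_lit 0, nat_lit 2, nat_lit 3, nat_lit 2, nat_lit 0])) (.node (nat_lit 219) (.leaf ((nat_lit 64), [nat_lit 2, nat_lit 0, nat_lit 3, nat_lit 0, nat_lit 2, nat_lit 0])) (.leaf ((nat_lit 10), [nat_lit 2, nat_lit 0, nat_lit 3, nat_lit 2, nat_lit 0]))))))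
 (.node (nat_lit 225) (.node (nat_lit 222) (.node (nat_lit 221) (.leaf ((nat_lit 9), [nat_lit 2, nat_lit 1, nat_lit 3])) (.leaf ((nat_lit 87), [nat_lit 2, nat_lit 1, nat_lit 3, nat_lit 1, nat_lit 2, nat_lit 0]))) (.node (nat_lit 223) (.leaf ((nat_lit 39), [nat_lit 1, nat_lit 2, nat_lit 1, nat_lit 3, nat_lit 2, nat_lit 1])) (.node (nat_lit 224) (.leaf ((nat_lit 88), [nat_lit 3, nat_lit 1, nat_lit 2, nat_lit 3, nat_lit 1, nat_lit 2, nat_lit 0])) (.leaf ((nat_lit 16), [nat_lit 0, nat_lit 2, nat_lit 3, nat_lit 1])))))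
 (.node (nat_lit 228) (.node (nat_lit 226) (.leaf ((nat_lit 51), [nat_lit 3, nat_lit 1, nat_lit 2, nat_lit 3, nat_lit 1, nat_lit 2])) (.node (nat_lit 227) (.leaf ((nat_lit 49), [nat_lit 2, nat_lit 3, nat_lit 0, nat_lit 2])) (.leaf ((nat_lit 9), [nat_lit 1, nat_lit 2, nat_lit 0, nat_lit 3, nat_lit 0, nat_lit 2])))) (.node (nat_lit 229) (.leaf ((nat_lit 58), [nat_lit 3, nat_lit 2])) (.node (nat_lit 230) (.leaf ((nat_lit 10), [nat_lit 3, nat_lit 1, nat_lit 2, nat_lit 3, nat_lit 2, nat_lit 0])) (.leaf ((nat_lit 89), [nat_lit 1, nat_lit 3, nat_lit 1, nat_lit 2, nat_lit 0])))))))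
 (.node (nat_lit 241) (.node (nat_lit 236) (.node (nat_lit 233) (.node (nat_lit 232) (.leaf ((nat_lit 23), [nat_lit 3, nat_lit 1, nat_lit 2, nat_lit 3, nat_lit 0, nat_lit 2, nat_lit 0])) (.leaf ((nat_lit 81), [nat_lit 3, nat_lit 0, nat_lit 3, nat_lit 2, nat_lit 0]))) (.node (nat_lit 234) (.leaf ((nat_lit 34), [nat_lit 3, nat_lit 0, nat_lit 3, nat_lit 0, nat_lit 2])) (.node (nat_lit 235) (.leaf ((nat_lit 37), [nat_lit 0, nat_lit 2, nat_lit 3, nat_lit 0, nat_lit 2, nat_lit 0])) (.leaf ((nat_lit 89), [nat_lit 3, nat_lit 1, nat_lit 2, nat_lit 3, nat_lit 0, nat_lit 2, nat_lit 0])))))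
 (.node (nat_lit 238) (.node (nat_lit 237) (.leaf ((nat_lit 10), [nat_lit 3, nat_lit 0, nat_lit 3, nat_lit 0])) (.leaf ((nat_lit 90), [nat_lit 1, nat_lit 3, nat_lit 1, nat_lit 2, nat_lit 1]))) (.node (nat_lit 239) (.leaf ((nat_lit 63), [nat_lit 1, nat_lit 2, nat_lit 1, nat_lit 3, nat_lit 1])) (.node (nat_lit 240) (.leaf ((nat_lit 85), [nat_lit 3, nat_lit 1, nat_lit 2, nat_lit 3, nat_lit 0, nat_lit 2])) (.leaf ((nat_lit 35), [nat_lit 3, nat_lit 2, nat_lit 0, nat_lit 3, nat_lit 0]))))))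
 (.node (nat_lit 246) (.node (nat_lit 243) (.node (nat_lit 242) (.leaf ((nat_lit 91), [nat_lit 3, nat_lit 0, nat_lit 3, nat_lit 2])) (.leaf ((nat_lit 33), [nat_lit 1, nat_lit 2, nat_lit 1, nat_lit 3, nat_lit 1, nat_lit 2]))) (.node (nat_lit 244) (.leaf ((nat_lit 54), [nat_lit 3, nat_lit 2, nat_lit 0, nat_lit 3, nat_lit 2, nat_lit 0])) (.node (nat_lit 245) (.leaf ((nat_lit 53), [nat_lit 2, nat_lit 0])) (.leaf ((nat_lit 10), [nat_lit 1, nat_lit 2, nat_lit 3, nat_lit 1, nat_lit 2])))))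
 (.node (nat_lit 249) (.node (nat_lit 247) (.leaf ((nat_lit 11), [nat_lit 3, nat_lit 0, nat_lit 3, nat_lit 1])) (.node (nat_lit 248) (.leaf ((nat_lit 92), [nat_lit 2, nat_lit 0, nat_lit 3, nat_lit 2, nat_lit 1])) (.leaf ((nat_lit 93), [nat_lit 1, nat_lit 2, nat_lit 3, nat_lit 0, nat_lit 2])))) (.node (nat_lit 250) (.leaf ((nat_lit 42), [nat_lit 1, nat_lit 2, nat_lit 3, nat_lit 1, nat_lit 2])) (.node (nat_lit 251) (.leaf ((nat_lit 94), [nat_lit 3, nat_lit 2, nat_lit 0, nat_lit 3, nat_lit 0, nat_lit 2])) (.leaf ((nat_lit 81), [nat_lit 3, nat_lit 2, nat_lit 0, nat_lit 3, nat_lit 2, nat_lit 0])))))))))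
 (.node (nat_lit 294) (.node (nat_lit 273) (.node (nat_lit 262) (.node (nat_lit 257) (.node (nat_lit 254) (.node (nat_lit 253) (.leaf ((nat_lit 92), [nat_lit 2, nat_lit 0, nat_lit 3, nat_lit 1, nat_lit 2, nat_lit 0])) (.leaf ((nat_lit 11), [nat_lit 3, nat_lit 0, nat_lit 3, nat_lit 0, nat_lit 2, nat_lit 1]))) (.node (nat_lit 255) (.leaf ((nat_lit 95), [nat_lit 1, nat_lit 3, nat_lit 0])) (.node (nat_lit 256) (.leaf ((nat_lit 41), [nat_lit 2, nat_lit 0, nat_lit 3, nat_lit 2, nat_lit 0])) (.leaf ((nat_lit 71), [nat_lit 0])))))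
 (.node (nat_lit 259) (.node (nat_lit 258) (.leaf ((nat_lit 59), [nat_lit 2, nat_lit 3, nat_lit 1, nat_lit 2])) (.leaf ((nat_lit 93), [nat_lit 3, nat_lit 1, nat_lit 2, nat_lit 3, nat_lit 2]))) (.node (nat_lit 260) (.leaf ((nat_lit 95), [nat_lit 2, nat_lit 1, nat_lit 3, nat_lit 2, nat_lit 1])) (.node (nat_lit 261) (.leaf ((nat_lit 11), [nat_lit 1, nat_lit 3])) (.leaf ((nat_lit 95), [nat_lit 1, nat_lit 2, nat_lit 1, nat_lit 3, nat_lit 2, nat_lit 1]))))))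
 (.node (nat_lit 267) (.node (nat_lit 264) (.node (nat_lit 263) (.leaf ((nat_lit 91), [nat_lit 1, nat_lit 2, nat_lit 1, nat_lit 3, nat_lit 0, nat_lit 2])) (.leaf ((nat_lit 96), [nat_lit 3, nat_lit 0, nat_lit 2]))) (.node (nat_lit 265) (.leaf ((nat_lit 95), [nat_lit 2, nat_lit 0, nat_lit 3])) (.node (nat_lit 266) (.leaf ((nat_lit 93), [nat_lit 2, nat_lit 3, nat_lit 0, nat_lit 2, nat_lit 0])) (.leaf ((nat_lit 92), [nat_lit 1, nat_lit 2, nat_lit 0, nat_lit 3, nat_lit 1, nat_lit 2])))))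
 (.node (nat_lit 270) (.node (nat_lit 268) (.leaf ((nat_lit 11), [nat_lit 3, nat_lit 0, nat_lit 3, nat_lit 0, nat_lit 2, nat_lit 0])) (.node (nat_lit 269) (.leaf ((nat_lit 97), [nat_lit 3, nat_lit 1, nat_lit 2, nat_lit 3, nat_lit 2, nat_lit 0])) (.leaf ((nat_lit 98), [nat_lit 1, nat_lit 2, nat_lit 1, nat_lit 3, nat_lit 2, nat_lit 1])))) (.node (nat_lit 271) (.leaf ((nat_lit 99), [nat_lit 3, nat_lit 0, nat_lit 3, nat_lit 1, nat_lit 2, nat_lit 1])) (.node (nat_lit 272) (.leaf ((nat_lit 61), [nat_lit 2, nat_lit 1, nat_lit 3, nat_lit 2, nat_lit 1])) (.leaf ((nat_lit 60), [nat_lit 1, nat_lit 2, nat_lit 3, nat_lit 0, nat_lit 2])))))))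
 (.node (nat_lit 283) (.node (nat_lit 278) (.node (nat_lit 275) (.node (nat_lit 274) (.leaf ((nat_lit 97), [nat_lit 0, nat_lit 2, nat_lit 0, nat_lit 3, nat_lit 2, nat_lit 1])) (.leaf ((nat_lit 11), [nat_lit 3, nat_lit 2, nat_lit 0]))) (.node (nat_lit 276) (.leaf ((nat_lit 100), [nat_lit 3, nat_lit 2, nat_lit 0, nat_lit 3])) (.node (nat_lit 277) (.leaf ((nat_lit 14), [nat_lit 3, nat_lit 2])) (.leaf ((nat_lit 98), [nat_lit 3, nat_lit 1, nat_lit 2, nat_lit 3, nat_lit 2, nat_lit 0])))))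
 (.node (nat_lit 280) (.node (nat_lit 279) (.leaf ((nat_lit 78), [nat_lit 0, nat_lit 2, nat_lit 3, nat_lit 1])) (.leaf ((nat_lit 12), [nat_lit 3, nat_lit 0, nat_lit 3, nat_lit 1, nat_lit 2, nat_lit 0]))) (.node (nat_lit 281) (.leaf ((nat_lit 73), [nat_lit 0, nat_lit 2, nat_lit 0, nat_lit 3, nat_lit 0, nat_lit 2, nat_lit 0])) (.node (nat_lit 282) (.leaf ((nat_lit 82), [nat_lit 3, nat_lit 1, nat_lit 2, nat_lit 3, nat_lit 2, nat_lit 1])) (.leaf ((nat_lit 101), [nat_lit 2, nat_lit 0, nat_lit 3, nat_lit 1, nat_lit 2, nat_lit 0]))))))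
 (.node (nat_lit 288) (.node (nat_lit 285) (.node (nat_lit 284) (.leaf ((nat_lit 87), [nat_lit 3, nat_lit 2, nat_lit 0, nat_lit 3, nat_lit 2])) (.leaf ((nat_lit 102), [nat_lit 0, nat_lit 2, nat_lit 0, nat_lit 3, nat_lit 0, nat_lit 2, nat_lit 1]))) (.node (nat_lit 286) (.leaf ((nat_lit 66), [nat_lit 3, nat_lit 0, nat_lit 3, nat_lit 1, nat_lit 2])) (.node (nat_lit 287) (.leaf ((nat_lit 76), [nat_lit 1, nat_lit 3, nat_lit 1, nat_lit 2])) (.leaf ((nat_lit 12), [nat_lit 1, nat_lit 2, nat_lit 1, nat_lit 3, nat_lit 2])))))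
 (.node (nat_lit 291) (.node (nat_lit 289) (.leaf ((nat_lit 60), [nat_lit 2, nat_lit 1, nat_lit 3, nat_lit 1])) (.node (nat_lit 290) (.leaf ((nat_lit 13), [nat_lit 1, nat_lit 2, nat_lit 1, nat_lit 3, nat_lit 2])) (.leaf ((nat_lit 99), [nat_lit 1, nat_lit 3, nat_lit 0])))) (.node (nat_lit 292) (.leaf ((nat_lit 19), [nat_lit 1])) (.node (nat_lit 293) (.leaf ((nat_lit 27), [nat_lit 3, nat_lit 1, nat_lit 2, nat_lit 3, nat_lit 1, nat_lit 2, nat_lit 1])) (.leaf ((nat_lit 75), [nat_lit 1, nat_lit 2, nat_lit 1, nat_lit 3, nat_lit 0, nat_lit 2, nat_lit 0]))))))))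
 (.node (nat_lit 315) (.node (nat_lit 304) (.node (nat_lit 299) (.node (nat_lit 296) (.node (nat_lit 295) (.leaf ((nat_lit 61), [nat_lit 3, nat_lit 1, nat_lit 2, nat_lit 3, nat_lit 0])) (.leaf ((nat_lit 99), [nat_lit 3, nat_lit 1, nat_lit 2, nat_lit 3, nat_lit 0, nat_lit 2, nat_lit 0]))) (.node (nat_lit 297) (.leaf ((nat_lit 13), [nat_lit 3, nat_lit 2, nat_lit 1])) (.node (nat_lit 298) (.leaf ((nat_lit 103), [nat_lit 0, nat_lit 2, nat_lit 3, nat_lit 1, nat_lit 2])) (.leaf ((nat_lit 37), [nat_lit 2, nat_lit 1, nat_lit 3, nat_lit 2])))))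
 (.node (nat_lit 301) (.node (nat_lit 300) (.leaf ((nat_lit 93), [nat_lit 3, nat_lit 2, nat_lit 0, nat_lit 3])) (.leaf ((nat_lit 21), [nat_lit 1, nat_lit 2, nat_lit 3, nat_lit 2, nat_lit 1]))) (.node (nat_lit 302) (.leaf ((nat_lit 25), [nat_lit 1, nat_lit 2, nat_lit 3, nat_lit 1])) (.node (nat_lit 303) (.leaf ((nat_lit 59), [nat_lit 1, nat_lit 2, nat_lit 1, nat_lit 3, nat_lit 0, nat_lit 2, nat_lit 0])) (.leaf ((nat_lit 14), [nat_lit 2, nat_lit 0, nat_lit 3, nat_lit 1, nat_lit 2, nat_lit 0]))))))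
 (.node (nat_lit 309) (.node (nat_lit 306) (.node (nat_lit 305) (.leaf ((nat_lit 13), [nat_lit 2, nat_lit 0])) (.leaf ((nat_lit 90), [nat_lit 1, nat_lit 2, nat_lit 3, nat_lit 1, nat_lit 2]))) (.node (nat_lit 307) (.leaf ((nat_lit 57), [nat_lit 2, nat_lit 1, nat_lit 3])) (.node (nat_lit 308) (.leaf ((nat_lit 103), [nat_lit 0, nat_lit 3, nat_lit 1, nat_lit 2, nat_lit 0])) (.leaf ((nat_lit 55), [nat_lit 0, nat_lit 2, nat_lit 0, nat_lit 3, nat_lit 2])))))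
 (.node (nat_lit 312) (.node (nat_lit 310) (.leaf ((nat_lit 37), [nat_lit 3, nat_lit 2, nat_lit 0, nat_lit 3, nat_lit 2, nat_lit 0])) (.node (nat_lit 311) (.leaf ((nat_lit 103), [nat_lit 1, nat_lit 2, nat_lit 1, nat_lit 3, nat_lit 2, nat_lit 1])) (.leaf ((nat_lit 13), [nat_lit 1, nat_lit 2, nat_lit 1, nat_lit 3, nat_lit 1, nat_lit 2])))) (.node (nat_lit 313) (.leaf ((nat_lit 98), [nat_lit 1, nat_lit 2, nat_lit 1])) (.node (nat_lit 314) (.leaf ((nat_lit 14), [nat_lit 2, nat_lit 0, nat_lit 3, nat_lit 1, nat_lit 2, nat_lit 0])) (.leaf ((nat_lit 104), [nat_lit 2, nat_lit 3, nat_lit 2, nat_lit 1])))))))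
 (.node (nat_lit 325) (.node (nat_lit 320) (.node (nat_lit 317) (.node (nat_lit 316) (.leaf ((nat_lit 81), [nat_lit 2, nat_lit 0, nat_lit 3, nat_lit 0, nat_lit 2, nat_lit 0])) (.leaf ((nat_lit 23), [nat_lit 2, nat_lit 1, nat_lit 3, nat_lit 2]))) (.node (nat_lit 318) (.leaf ((nat_lit 67), [nat_lit 0, nat_lit 2, nat_lit 0])) (.node (nat_lit 319) (.leaf ((nat_lit 78), [nat_lit 1, nat_lit 2, nat_lit 3, nat_lit 1, nat_lit 2])) (.leaf ((nat_lit 104), [nat_lit 3, nat_lit 1, nat_lit 2])))))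
 (.node (nat_lit 322) (.node (nat_lit 321) (.leaf ((nat_lit 14), [nat_lit 0, nat_lit 3])) (.leaf ((nat_lit 105), [nat_lit 3, nat_lit 1, nat_lit 2, nat_lit 3, nat_lit 1, nat_lit 2, nat_lit 1]))) (.node (nat_lit 323) (.leaf ((nat_lit 40), [nat_lit 1, nat_lit 2])) (.node (nat_lit 324) (.leaf ((nat_lit 106), [nat_lit 1, nat_lit 2, nat_lit 1, nat_lit 3, nat_lit 1])) (.leaf ((nat_lit 79), [nat_lit 2, nat_lit 0]))))))
 (.node (nat_lit 330) (.node (nat_lit 327) (.node (nat_lit 326) (.leaf ((nat_lit 105), [nat_lit 2, nat_lit 0])) (.leaf ((nat_lit 70), [nat_lit 2, nat_lit 1, nat_lit 3, nat_lit 0]))) (.node (nat_lit 328) (.leaf ((nat_lit 40), [nat_lit 3, nat_lit 1, nat_lit 2, nat_lit 3, nat_lit 1, nat_lit 2])) (.node (nat_lit 329) (.leaf ((nat_lit 105), [nat_lit 3, nat_lit 2, nat_lit 0, nat_lit 3, nat_lit 0])) (.leaf ((nat_lit 14), [nat_lit 3, nat_lit 2, nat_lit 0, nat_lit 3, nat_lit 1,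 nat_lit 2, nat_lit 1])))))
 (.node (nat_lit 333) (.node (nat_lit 331) (.leaf ((nat_lit 15), [nat_lit 3, nat_lit 0, nat_lit 3, nat_lit 1, nat_lit 2])) (.node (nat_lit 332) (.leaf ((nat_lit 107), [nat_lit 2])) (.leaf ((nat_lit 51), [nat_lit 2, nat_lit 3, nat_lit 1, nat_lit 2, nat_lit 1])))) (.node (nat_lit 334) (.leaf ((nat_lit 20), [nat_lit 1, nat_lit 2])) (.node (nat_lit 335) (.leaf ((nat_lit 56), [nat_lit 3, nat_lit 2, nat_lit 0, nat_lit 3, nat_lit 2])) (.leaf ((nat_lit 26), [nat_lit 3, nat_lit 0, nat_lit 3, nat_lit 2]))))))))))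
noncomputable def n6Wd_2 : Tr (ℕ × List ℕ) := (.node (nat_lit 420) (.node (nat_lit 378) (.node (nat_lit 357) (.node (nat_lit 346) (.node (nat_lit 341) (.node (nat_lit 338) (.node (nat_lit 337) (.leaf ((nat_lit 107), [nat_lit 2, nat_lit 0, nat_lit 3, nat_lit 0, nat_lit 2, nat_lit 0])) (.leaf ((nat_lit 15), [nat_lit 3, nat_lit 2, nat_lit 0, nat_lit 3, nat_lit 2, nat_lit 1]))) (.node (nat_lit 339) (.leaf ((nat_lit 77), [nat_lit 0, nat_lit 2, nat_lit 3])) (.node (nat_lit 340) (.leaf ((nat_lit 67), [nat_lit 3, nat_lit 0, nat_lit 3, nat_lit 2, nat_lit 0])) (.leaf ((nat_lit 55), [nat_lit 3, nat_lit 1, nat_lit 2, nat_lit 3, nat_lit 1, nat_lit 2, nat_lit 0])))))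
 (.node (nat_lit 343) (.node (nat_lit 342) (.leaf ((nat_lit 68), [nat_lit 0, nat_lit 2, nat_lit 0, nat_lit 3, nat_lit 2, nat_lit 0])) (.leaf ((nat_lit 51), [nat_lit 3, nat_lit 0, nat_lit 2]))) (.node (nat_lit 344) (.leaf ((nat_lit 77), [nat_lit 2, nat_lit 1, nat_lit 3, nat_lit 1, nat_lit 2])) (.node (nat_lit 345) (.leaf ((nat_lit 15), [nat_lit 3, nat_lit 0, nat_lit 2, nat_lit 1])) (.leaf ((nat_lit 84), [nat_lit 1, nat_lit 2, nat_lit 0, nat_lit 3, nat_lit 1, nat_lit 2]))))))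
 (.node (nat_lit 351) (.node (nat_lit 348) (.node (nat_lit 347) (.leaf ((nat_lit 15), [nat_lit 3, nat_lit 1])) (.leaf ((nat_lit 24), [nat_lit 3, nat_lit 2, nat_lit 0, nat_lit 3, nat_lit 1, nat_lit 2, nat_lit 1]))) (.node (nat_lit 349) (.leaf ((nat_lit 38), [nat_lit 2, nat_lit 3])) (.node (nat_lit 350) (.leaf ((nat_lit 16), [nat_lit 0, nat_lit 2, nat_lit 3])) (.leaf ((nat_lit 88), [nat_lit 3, nat_lit 1, nat_lit 2, nat_lit 3, nat_lit 1, nat_lit 2, nat_lit 1])))))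
 (.node (nat_lit 354) (.node (nat_lit 352) (.leaf ((nat_lit 98), [nat_lit 3, nat_lit 1, nat_lit 2, nat_lit 3, nat_lit 1, nat_lit 2, nat_lit 1])) (.node (nat_lit 353) (.leaf ((nat_lit 98), [nat_lit 3, nat_lit 2])) (.leaf ((nat_lit 35), [nat_lit 3])))) (.node (nat_lit 355) (.leaf ((nat_lit 68), [nat_lit 0, nat_lit 2, nat_lit 0])) (.node (nat_lit 356) (.leaf ((nat_lit 73), [nat_lit 2, nat_lit 0])) (.leaf ((nat_lit 50), [nat_lit 1, nat_lit 2, nat_lit 1, nat_lit 3, nat_lit 0, nat_lit 2, nat_lit 0])))))))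
 (.node (nat_lit 367) (.node (nat_lit 362) (.node (nat_lit 359) (.node (nat_lit 358) (.leaf ((nat_lit 17), [nat_lit 3, nat_lit 1, nat_lit 2, nat_lit 3, nat_lit 1, nat_lit 2, nat_lit 1])) (.leaf ((nat_lit 16), [nat_lit 2, nat_lit 1, nat_lit 3, nat_lit 0, nat_lit 2, nat_lit 0]))) (.node (nat_lit 360) (.leaf ((nat_lit 42), [nat_lit 2, nat_lit 0, nat_lit 3, nat_lit 2])) (.node (nat_lit 361) (.leaf ((nat_lit 48), [nat_lit 0, nat_lit 3, nat_lit 0, nat_lit 2])) (.leaf ((nat_lit 17), [nat_lit 1, nat_lit 2, nat_lit 1, nat_lit 3, nat_lit 1])))))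
 (.node (nat_lit 364) (.node (nat_lit 363) (.leaf ((nat_lit 45), [nat_lit 2, nat_lit 1, nat_lit 3, nat_lit 2, nat_lit 0])) (.leaf ((nat_lit 85), [nat_lit 2, nat_lit 0, nat_lit 3, nat_lit 2, nat_lit 1]))) (.node (nat_lit 365) (.leaf ((nat_lit 85), [nat_lit 2, nat_lit 3])) (.node (nat_lit 366) (.leaf ((nat_lit 108), [nat_lit 0, nat_lit 2, nat_lit 3, nat_lit 0, nat_lit 2, nat_lit 0])) (.leaf ((nat_lit 49), [nat_lit 3, nat_lit 2, nat_lit 0, nat_lit 3, nat_lit 0, nat_lit 2, nat_lit 0]))))))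
 (.node (nat_lit 372) (.node (nat_lit 369) (.node (nat_lit 368) (.leaf ((nat_lit 45), [nat_lit 0, nat_lit 2, nat_lit 3, nat_lit 0, nat_lit 2])) (.leaf ((nat_lit 17), [nat_lit 0, nat_lit 3, nat_lit 0]))) (.node (nat_lit 370) (.leaf ((nat_lit 109), [nat_lit 2, nat_lit 0, nat_lit 3])) (.node (nat_lit 371) (.leaf ((nat_lit 24), [nat_lit 3, nat_lit 0, nat_lit 3, nat_lit 1, nat_lit 2, nat_lit 0])) (.leaf ((nat_lit 105), [nat_lit 3, nat_lit 2, nat_lit 0, nat_lit 3, nat_lit 1, nat_lit 2, nat_lit 0])))))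
 (.node (nat_lit 375) (.node (nat_lit 373) (.leaf ((nat_lit 19), [nat_lit 0, nat_lit 2, nat_lit 0, nat_lit 3, nat_lit 2, nat_lit 1])) (.node (nat_lit 374) (.leaf ((nat_lit 18), [nat_lit 1, nat_lit 3, nat_lit 2])) (.leaf ((nat_lit 94), [nat_lit 2, nat_lit 0, nat_lit 3, nat_lit 1])))) (.node (nat_lit 376) (.leaf ((nat_lit 74), [nat_lit 3, nat_lit 2, nat_lit 0, nat_lit 3, nat_lit 1, nat_lit 2, nat_lit 0])) (.node (nat_lit 377) (.leaf ((nat_lit 74), [nat_lit 1, nat_lit 3, nat_lit 0, nat_lit 2, nat_lit 0])) (.leaf ((nat_lit 21), [nat_lit 3, nat_lit 2, nat_lit 0, nat_lit 3, nat_lit 0, nat_lit 2, nat_lit 0]))))))))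
 (.node (nat_lit 399) (.node (nat_lit 388) (.node (nat_lit 383) (.node (nat_lit 380) (.node (nat_lit 379) (.leaf ((nat_lit 20), [nat_lit 0])) (.leaf ((nat_lit 94), [nat_lit 3, nat_lit 2]))) (.node (nat_lit 381) (.leaf ((nat_lit 18), [nat_lit 0, nat_lit 2, nat_lit 3, nat_lit 1, nat_lit 2, nat_lit 1])) (.node (nat_lit 382) (.leaf ((nat_lit 79), [nat_lit 0, nat_lit 2, nat_lit 3, nat_lit 0, nat_lit 2, nat_lit 0])) (.leaf ((nat_lit 39), [nat_lit 0, nat_lit 3, nat_lit 0, nat_lit 2, nat_lit 0])))))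
 (.node (nat_lit 385) (.node (nat_lit 384) (.leaf ((nat_lit 95), [nat_lit 1, nat_lit 2, nat_lit 0, nat_lit 3])) (.leaf ((nat_lit 73), [nat_lit 3, nat_lit 2, nat_lit 0, nat_lit 3, nat_lit 0, nat_lit 2]))) (.node (nat_lit 386) (.leaf ((nat_lit 68), [nat_lit 3, nat_lit 2, nat_lit 0, nat_lit 3, nat_lit 1])) (.node (nat_lit 387) (.leaf ((nat_lit 36), [nat_lit 1, nat_lit 2, nat_lit 1, nat_lit 3, nat_lit 1, nat_lit 2])) (.leaf ((nat_lit 18), [nat_lit 3, nat_lit 0, nat_lit 3, nat_lit 1, nat_lit 2]))))))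
 (.node (nat_lit 393) (.node (nat_lit 390) (.node (nat_lit 389) (.leaf ((nat_lit 32), [nat_lit 2, nat_lit 0, nat_lit 3, nat_lit 2, nat_lit 0])) (.leaf ((nat_lit 27), [nat_lit 2, nat_lit 0, nat_lit 3, nat_lit 1, nat_lit 2, nat_lit 1]))) (.node (nat_lit 391) (.leaf ((nat_lit 94), [nat_lit 2, nat_lit 0, nat_lit 3, nat_lit 2, nat_lit 1])) (.node (nat_lit 392) (.leaf ((nat_lit 20), [nat_lit 3, nat_lit 2, nat_lit 0, nat_lit 3, nat_lit 0, nat_lit 2, nat_lit 1])) (.leaf ((nat_lit 19), [nat_lit 0, nat_lit 2, nat_lit 0, nat_lit 3, nat_lit 1])))))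
 (.node (nat_lit 396) (.node (nat_lit 394) (.leaf ((nat_lit 110), [nat_lit 3, nat_lit 2, nat_lit 0, nat_lit 3, nat_lit 0, nat_lit 2])) (.node (nat_lit 395) (.leaf ((nat_lit 108), [nat_lit 2, nat_lit 0, nat_lit 3, nat_lit 0, nat_lit 2, nat_lit 0])) (.leaf ((nat_lit 104), [nat_lit 2, nat_lit 0, nat_lit 3, nat_lit 1])))) (.node (nat_lit 397) (.leaf ((nat_lit 87), [nat_lit 3, nat_lit 2, nat_lit 0, nat_lit 3, nat_lit 1, nat_lit 2])) (.node (nat_lit 398) (.leaf ((nat_lit 101), [nat_lit 2, nat_lit 0, nat_lit 3, nat_lit 2, nat_lit 1])) (.leaf ((nat_lit 106), [nat_lit 0, nat_lit 2, nat_lit 0, nat_lit 3, nat_lit 2, nat_lit 1])))))))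
 (.node (nat_lit 409) (.node (nat_lit 404) (.node (nat_lit 401) (.node (nat_lit 400) (.leaf ((nat_lit 47), [nat_lit 2, nat_lit 3, nat_lit 0, nat_lit 2, nat_lit 1])) (.leaf ((nat_lit 83), [nat_lit 2, nat_lit 0, nat_lit 3]))) (.node (nat_lit 402) (.leaf ((nat_lit 19), [nat_lit 2, nat_lit 0, nat_lit 3, nat_lit 0, nat_lit 2, nat_lit 1])) (.node (nat_lit 403) (.leaf ((nat_lit 24), [nat_lit 1, nat_lit 2, nat_lit 0, nat_lit 3, nat_lit 0, nat_lit 2, nat_lit 1])) (.leaf ((nat_lit 100), [nat_lit 2, nat_lit 3])))))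
 (.node (nat_lit 406) (.node (nat_lit 405) (.leaf ((nat_lit 22), [nat_lit 3, nat_lit 1])) (.leaf ((nat_lit 56), [nat_lit 1, nat_lit 2, nat_lit 1, nat_lit 3, nat_lit 0, nat_lit 2, nat_lit 1]))) (.node (nat_lit 407) (.leaf ((nat_lit 20), [nat_lit 2, nat_lit 3, nat_lit 0, nat_lit 2, nat_lit 0])) (.node (nat_lit 408) (.leaf ((nat_lit 52), [nat_lit 1, nat_lit 2, nat_lit 1])) (.leaf ((nat_lit 59), [nat_lit 1, nat_lit 2, nat_lit 1]))))))
 (.node (nat_lit 414) (.node (nat_lit 411) (.node (nat_lit 410) (.leaf ((nat_lit 64), [nat_lit 3, nat_lit 1, nat_lit 2, nat_lit 3, nat_lit 0, nat_lit 2])) (.leaf ((nat_lit 21), [nat_lit 2, nat_lit 1, nat_lit 3, nat_lit 1, nat_lit 2, nat_lit 0]))) (.node (nat_lit 412) (.leaf ((nat_lit 26), [nat_lit 3, nat_lit 0, nat_lit 3, nat_lit 0])) (.node (nat_lit 413) (.leaf ((nat_lit 22), [nat_lit 2])) (.leaf ((nat_lit 56), [nat_lit 1, nat_lit 2, nat_lit 3, nat_lit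 1, nat_lit 2, nat_lit 1])))))
 (.node (nat_lit 417) (.node (nat_lit 415) (.leaf ((nat_lit 23), [nat_lit 3, nat_lit 0, nat_lit 3])) (.node (nat_lit 416) (.leaf ((nat_lit 22), [nat_lit 2, nat_lit 1, nat_lit 3])) (.leaf ((nat_lit 100), [nat_lit 1, nat_lit 2, nat_lit 1, nat_lit 3, nat_lit 1])))) (.node (nat_lit 418) (.leaf ((nat_lit 31), [nat_lit 0, nat_lit 2, nat_lit 0, nat_lit 3, nat_lit 2, nat_lit 1])) (.node (nat_lit 419) (.leaf ((nat_lit 31), [nat_lit 3, nat_lit 1, nat_lit 2, nat_lit 3, nat_lit 0, nat_lit 2, nat_lit 0])) (.leaf ((nat_lit 69), [nat_lit 2])))))))))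
 (.node (nat_lit 462) (.node (nat_lit 441) (.node (nat_lit 430) (.node (nat_lit 425) (.node (nat_lit 422) (.node (nat_lit 421) (.leaf ((nat_lit 90), [nat_lit 3, nat_lit 0, nat_lit 3, nat_lit 1, nat_lit 2])) (.leaf ((nat_lit 109), [nat_lit 2]))) (.node (nat_lit 423) (.leaf ((nat_lit 54), [nat_lit 1, nat_lit 3, nat_lit 0, nat_lit 2])) (.node (nat_lit 424) (.leaf ((nat_lit 82), [nat_lit 1, nat_lit 2, nat_lit 0, nat_lit 3, nat_lit 0, nat_lit 2])) (.leaf ((nat_lit 80), [nat_lit 1, nat_lit 2, nat_lit 3, nat_lit 0, nat_lit 2, nat_lit 1])))))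
 (.node (nat_lit 427) (.node (nat_lit 426) (.leaf ((nat_lit 22), [nat_lit 1, nat_lit 2, nat_lit 3, nat_lit 2])) (.leaf ((nat_lit 100), [nat_lit 3, nat_lit 2, nat_lit 0, nat_lit 3, nat_lit 2]))) (.node (nat_lit 428) (.leaf ((nat_lit 24), [nat_lit 2, nat_lit 1, nat_lit 3, nat_lit 1])) (.node (nat_lit 429) (.leaf ((nat_lit 23), [nat_lit 2, nat_lit 3, nat_lit 2, nat_lit 1])) (.leaf ((nat_lit 94), [nat_lit 2, nat_lit 1, nat_lit 3, nat_lit 1, nat_lit 2, nat_lit 1]))))))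
 (.node (nat_lit 435) (.node (nat_lit 432) (.node (nat_lit 431) (.leaf ((nat_lit 42), [nat_lit 1])) (.leaf ((nat_lit 76), [nat_lit 0, nat_lit 2, nat_lit 0, nat_lit 3, nat_lit 0]))) (.node (nat_lit 433) (.leaf ((nat_lit 105), [nat_lit 3, nat_lit 2, nat_lit 0, nat_lit 3, nat_lit 0, nat_lit 2])) (.node (nat_lit 434) (.leaf ((nat_lit 79), [nat_lit 3, nat_lit 2, nat_lit 0, nat_lit 3, nat_lit 0, nat_lit 2])) (.leaf ((nat_lit 80), [nat_lit 2, nat_lit 0, nat_lit 3, nat_lit 2])))))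
 (.node (nat_lit 438) (.node (nat_lit 436) (.leaf ((nat_lit 24), [nat_lit 0, nat_lit 2, nat_lit 0, nat_lit 3, nat_lit 0])) (.node (nat_lit 437) (.leaf ((nat_lit 109), [nat_lit 3, nat_lit 0, nat_lit 3, nat_lit 0, nat_lit 2, nat_lit 0])) (.leaf ((nat_lit 77), [nat_lit 3, nat_lit 2, nat_lit 0, nat_lit 3, nat_lit 0, nat_lit 2, nat_lit 0])))) (.node (nat_lit 439) (.leaf ((nat_lit 64), [nat_lit 3, nat_lit 1, nat_lit 2, nat_lit 3, nat_lit 0, nat_lit 2, nat_lit 0])) (.node (nat_lit 440) (.leaf ((nat_lit 59), [nat_lit 1, nat_lit 2])) (.leaf ((nat_lit 25), [nat_lit 1, nat_lit 2, nat_lit 0, nat_lit 3])))))))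
 (.node (nat_lit 451) (.node (nat_lit 446) (.node (nat_lit 443) (.node (nat_lit 442) (.leaf ((nat_lit 33), [nat_lit 0, nat_lit 2, nat_lit 3, nat_lit 2, nat_lit 0])) (.leaf ((nat_lit 46), [nat_lit 1, nat_lit 2, nat_lit 1, nat_lit 3, nat_lit 1, nat_lit 2, nat_lit 1]))) (.node (nat_lit 444) (.leaf ((nat_lit 32), [nat_lit 1, nat_lit 2, nat_lit 1, nat_lit 3, nat_lit 2, nat_lit 0])) (.node (nat_lit 445) (.leaf ((nat_lit 27), [nat_lit 0])) (.leaf ((nat_lit 26), [nat_lit 3, nat_lit 1, nat_lit 2, nat_lit 0])))))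
 (.node (nat_lit 448) (.node (nat_lit 447) (.leaf ((nat_lit 111), [nat_lit 2, nat_lit 3, nat_lit 1, nat_lit 2])) (.leaf ((nat_lit 62), [nat_lit 3, nat_lit 1, nat_lit 2, nat_lit 3, nat_lit 0, nat_lit 2, nat_lit 1]))) (.node (nat_lit 449) (.leaf ((nat_lit 62), [nat_lit 1, nat_lit 2, nat_lit 1, nat_lit 3, nat_lit 0])) (.node (nat_lit 450) (.leaf ((nat_lit 74), [nat_lit 0, nat_lit 2, nat_lit 0, nat_lit 3, nat_lit 1, nat_lit 2, nat_lit 1])) (.leaf ((nat_lit 28), [nat_lit 3, nat_lit 1, nat_lit 2, nat_lit 3, nat_lit 1, nat_lit 2, nat_lit 1]))))))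
 (.node (nat_lit 456) (.node (nat_lit 453) (.node (nat_lit 452) (.leaf ((nat_lit 111), [nat_lit 3, nat_lit 2, nat_lit 0, nat_lit 3, nat_lit 2, nat_lit 1])) (.leaf ((nat_lit 26), [nat_lit 1, nat_lit 3, nat_lit 2, nat_lit 1]))) (.node (nat_lit 454) (.leaf ((nat_lit 80), [nat_lit 3, nat_lit 1, nat_lit 2])) (.node (nat_lit 455) (.leaf ((nat_lit 82), [nat_lit 0, nat_lit 2, nat_lit 3])) (.leaf ((nat_lit 48), [nat_lit 1, nat_lit 2, nat_lit 1, nat_lit 3, nat_lit 0, nat_lit 2, nat_lit 0])))))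
 (.node (nat_lit 459) (.node (nat_lit 457) (.leaf ((nat_lit 111), [nat_lit 2, nat_lit 1, nat_lit 3, nat_lit 2])) (.node (nat_lit 458) (.leaf ((nat_lit 28), [nat_lit 1, nat_lit 2, nat_lit 1, nat_lit 3, nat_lit 1, nat_lit 2, nat_lit 1])) (.leaf ((nat_lit 27), [nat_lit 0, nat_lit 2, nat_lit 3, nat_lit 1, nat_lit 2, nat_lit 0])))) (.node (nat_lit 460) (.leaf ((nat_lit 83), [nat_lit 2])) (.node (nat_lit 461) (.leaf ((nat_lit 47), [nat_lit 2, nat_lit 0, nat_lit 3, nat_lit 0])) (.leaf ((nat_lit 71), [nat_lit 1, nat_lit 3, nat_lit 1, nat_lit 2, nat_lit 1]))))))))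
 (.node (nat_lit 483) (.node (nat_lit 472) (.node (nat_lit 467) (.node (nat_lit 464) (.node (nat_lit 463) (.leaf ((nat_lit 103), [nat_lit 3, nat_lit 1, nat_lit 2, nat_lit 3, nat_lit 0, nat_lit 2, nat_lit 0])) (.leaf ((nat_lit 57), [nat_lit 2, nat_lit 0, nat_lit 3, nat_lit 0, nat_lit 2]))) (.node (nat_lit 465) (.leaf ((nat_lit 56), [nat_lit 3, nat_lit 2, nat_lit 1])) (.node (nat_lit 466) (.leaf ((nat_lit 28), [nat_lit 2, nat_lit 3])) (.leaf ((nat_lit 107), [nat_lit 1, nat_lit 2, nat_lit 1, nat_lit 3, nat_lit 1, nat_lit 2])))))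
 (.node (nat_lit 469) (.node (nat_lit 468) (.leaf ((nat_lit 72), [nat_lit 3, nat_lit 1, nat_lit 2, nat_lit 3, nat_lit 0])) (.leaf ((nat_lit 53), [nat_lit 2, nat_lit 0, nat_lit 3, nat_lit 2, nat_lit 0]))) (.node (nat_lit 470) (.leaf ((nat_lit 110), [nat_lit 3, nat_lit 2, nat_lit 0, nat_lit 3, nat_lit 2])) (.node (nat_lit 471) (.leaf ((nat_lit 46), [nat_lit 0, nat_lit 3, nat_lit 2, nat_lit 1])) (.leaf ((nat_lit 107), [nat_lit 3, nat_lit 2, nat_lit 0, nat_lit 3, nat_lit 1, nat_lit 2, nat_lit 0]))))))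
 (.node (nat_lit 477) (.node (nat_lit 474) (.node (nat_lit 473) (.leaf ((nat_lit 28), [nat_lit 3, nat_lit 1, nat_lit 2, nat_lit 3, nat_lit 1])) (.leaf ((nat_lit 103), [nat_lit 3, nat_lit 1, nat_lit 2, nat_lit 3, nat_lit 2, nat_lit 1]))) (.node (nat_lit 475) (.leaf ((nat_lit 54), [nat_lit 1, nat_lit 2])) (.node (nat_lit 476) (.leaf ((nat_lit 72), [nat_lit 3, nat_lit 1, nat_lit 2, nat_lit 3, nat_lit 0, nat_lit 2, nat_lit 0])) (.leaf ((nat_lit 90), [nat_lit 0, nat_lit 2, nat_lit 0, nat_lit 3, nat_lit 1, nat_lit 2, nat_lit 0])))))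
 (.node (nat_lit 480) (.node (nat_lit 478) (.leaf ((nat_lit 63), [nat_lit 1, nat_lit 2, nat_lit 1, nat_lit 3, nat_lit 2, nat_lit 1])) (.node (nat_lit 479) (.leaf ((nat_lit 90), [nat_lit 1, nat_lit 3, nat_lit 0])) (.leaf ((nat_lit 28), [nat_lit 0, nat_lit 2, nat_lit 0, nat_lit 3, nat_lit 0])))) (.node (nat_lit 481) (.leaf ((nat_lit 109), [nat_lit 2, nat_lit 0, nat_lit 3, nat_lit 0, nat_lit 2, nat_lit 0])) (.node (nat_lit 482) (.leaf ((nat_lit 90), [nat_lit 3, nat_lit 2, nat_lit 0, nat_lit 3, nat_lit 2, nat_lit 1])) (.leaf ((nat_lit 72), [nat_lit 2, nat_lit 3, nat_lit 1, nat_lit 2])))))))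
 (.node (nat_lit 493) (.node (nat_lit 488) (.node (nat_lit 485) (.node (nat_lit 484) (.leaf ((nat_lit 75), [nat_lit 2, nat_lit 0, nat_lit 3])) (.leaf ((nat_lit 70), [nat_lit 3, nat_lit 0, nat_lit 3, nat_lit 1, nat_lit 2, nat_lit 0]))) (.node (nat_lit 486) (.leaf ((nat_lit 29), [nat_lit 3, nat_lit 0, nat_lit 3, nat_lit 2])) (.node (nat_lit 487) (.leaf ((nat_lit 31), [nat_lit 2, nat_lit 1, nat_lit 3, nat_lit 2])) (.leaf ((nat_lit 30), [nat_lit 3, nat_lit 2, nat_lit 0, nat_lit 3, nat_lit 0, nat_lit 2, nat_lit 1])))))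
 (.node (nat_lit 490) (.node (nat_lit 489) (.leaf ((nat_lit 97), [nat_lit 2, nat_lit 0, nat_lit 3, nat_lit 2])) (.leaf ((nat_lit 52), [nat_lit 1, nat_lit 2, nat_lit 1, nat_lit 3, nat_lit 1, nat_lit 2]))) (.node (nat_lit 491) (.leaf ((nat_lit 38), [nat_lit 1, nat_lit 2, nat_lit 1, nat_lit 3, nat_lit 0, nat_lit 2, nat_lit 1])) (.node (nat_lit 492) (.leaf ((nat_lit 41), [nat_lit 3, nat_lit 1, nat_lit 2, nat_lit 3, nat_lit 1, nat_lit 2])) (.leaf ((nat_lit 84), [nat_lit 3, nat_lit 0, nat_lit 2]))))))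
 (.node (nat_lit 498) (.node (nat_lit 495) (.node (nat_lit 494) (.leaf ((nat_lit 97), [nat_lit 2, nat_lit 1, nat_lit 3, nat_lit 1])) (.leaf ((nat_lit 30), [nat_lit 1, nat_lit 2, nat_lit 0, nat_lit 3, nat_lit 2, nat_lit 0]))) (.node (nat_lit 496) (.leaf ((nat_lit 70), [nat_lit 2, nat_lit 1, nat_lit 3, nat_lit 1, nat_lit 2, nat_lit 0])) (.node (nat_lit 497) (.leaf ((nat_lit 75), [nat_lit 3, nat_lit 2, nat_lit 1])) (.leaf ((nat_lit 46), [nat_lit 3, nat_lit 2, nat_lit 0, nat_lit 3, nat_lit 0])))))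
 (.node (nat_lit 501) (.node (nat_lit 499) (.leaf ((nat_lit 97), [nat_lit 1, nat_lit 2, nat_lit 0, nat_lit 3, nat_lit 0, nat_lit 2, nat_lit 1])) (.node (nat_lit 500) (.leaf ((nat_lit 84), [nat_lit 0, nat_lit 2, nat_lit 0, nat_lit 3, nat_lit 0])) (.leaf ((nat_lit 31), [nat_lit 0, nat_lit 2, nat_lit 3, nat_lit 0, nat_lit 2, nat_lit 1])))) (.node (nat_lit 502) (.leaf ((nat_lit 76), [nat_lit 2])) (.node (nat_lit 503) (.leaf ((nat_lit 66), [nat_lit 3, nat_lit 1, nat_lit 2])) (.leaf ((nat_lit 94), [nat_lit 3, nat_lit 0, nat_lit 3, nat_lit 0, nat_lit 2]))))))))))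
noncomputable def n6Wd_3 : Tr (ℕ × List ℕ) := (.node (nat_lit 588) (.node (nat_lit 546) (.node (nat_lit 525) (.node (nat_lit 514) (.node (nat_lit 509) (.node (nat_lit 506) (.node (nat_lit 505) (.leaf ((nat_lit 82), [nat_lit 2, nat_lit 1, nat_lit 3])) (.leaf ((nat_lit 83), [nat_lit 1, nat_lit 3, nat_lit 1, nat_lit 2, nat_lit 1]))) (.node (nat_lit 507) (.leaf ((nat_lit 32), [nat_lit 1, nat_lit 2, nat_lit 1, nat_lit 3, nat_lit 2])) (.node (nat_lit 508) (.leaf ((nat_lit 57), [nat_lit 2, nat_lit 0, nat_lit 3, nat_lit 1, nat_lit 2, nat_lit 0])) (.leaf ((nat_lit 35), [nat_lit 3, nat_lit 1, nat_lit 2, nat_lit 3, nat_lit 2, nat_lit 0])))))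
 (.node (nat_lit 511) (.node (nat_lit 510) (.leaf ((nat_lit 102), [nat_lit 1, nat_lit 2, nat_lit 1, nat_lit 3, nat_lit 2, nat_lit 1])) (.leaf ((nat_lit 34), [nat_lit 3, nat_lit 0, nat_lit 3, nat_lit 0, nat_lit 2, nat_lit 0]))) (.node (nat_lit 512) (.leaf ((nat_lit 33), [nat_lit 2, nat_lit 3, nat_lit 0, nat_lit 2, nat_lit 1])) (.node (nat_lit 513) (.leaf ((nat_lit 91), [nat_lit 3, nat_lit 1, nat_lit 2, nat_lit 3, nat_lit 2, nat_lit 1])) (.leaf ((nat_lit 60), [nat_lit 0, nat_lit 2, nat_lit 3, nat_lit 1, nat_lit 2]))))))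
 (.node (nat_lit 519) (.node (nat_lit 516) (.node (nat_lit 515) (.leaf ((nat_lit 60), [nat_lit 3, nat_lit 2])) (.leaf ((nat_lit 39), [nat_lit 3, nat_lit 2, nat_lit 0, nat_lit 3, nat_lit 1]))) (.node (nat_lit 517) (.leaf ((nat_lit 91), [nat_lit 1, nat_lit 3, nat_lit 0])) (.node (nat_lit 518) (.leaf ((nat_lit 35), [nat_lit 2, nat_lit 0, nat_lit 3])) (.leaf ((nat_lit 34), [nat_lit 2, nat_lit 3, nat_lit 0, nat_lit 2, nat_lit 0])))))
 (.node (nat_lit 522) (.node (nat_lit 520) (.leaf ((nat_lit 100), [nat_lit 3, nat_lit 2])) (.node (nat_lit 521) (.leaf ((nat_lit 101), [nat_lit 2, nat_lit 0, nat_lit 3, nat_lit 0, nat_lit 2, nat_lit 0])) (.leaf ((nat_lit 89), [nat_lit 2, nat_lit 0, nat_lit 3, nat_lit 1])))) (.node (nat_lit 523) (.leaf ((nat_lit 66), [nat_lit 3, nat_lit 1, nat_lit 2, nat_lit 3, nat_lit 2, nat_lit 0])) (.node (nat_lit 524) (.leaf ((nat_lit 47), [nat_lit 3, nat_lit 1, nat_lit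 2, nat_lit 3, nat_lit 1, nat_lit 2, nat_lit 0])) (.leaf ((nat_lit 96), [nat_lit 0, nat_lit 3, nat_lit 0, nat_lit 2, nat_lit 0])))))))
 (.node (nat_lit 535) (.node (nat_lit 530) (.node (nat_lit 527) (.node (nat_lit 526) (.leaf ((nat_lit 108), [nat_lit 1, nat_lit 3, nat_lit 1, nat_lit 2, nat_lit 1])) (.leaf ((nat_lit 110), [nat_lit 1, nat_lit 2, nat_lit 1, nat_lit 3, nat_lit 2, nat_lit 0]))) (.node (nat_lit 528) (.leaf ((nat_lit 36), [nat_lit 1, nat_lit 2, nat_lit 0, nat_lit 3, nat_lit 0, nat_lit 2])) (.node (nat_lit 529) (.leaf ((nat_lit 89), [nat_lit 2, nat_lit 0, nat_lit 3, nat_lit 2, nat_lit 0])) (.leaf ((nat_lit 37), [nat_lit 3, nat_lit 2, nat_lit 0, nat_lit 3, nat_lit 2])))))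
 (.node (nat_lit 532) (.node (nat_lit 531) (.leaf ((nat_lit 58), [nat_lit 3, nat_lit 2, nat_lit 0, nat_lit 3, nat_lit 2, nat_lit 1])) (.leaf ((nat_lit 99), [nat_lit 0, nat_lit 2, nat_lit 0, nat_lit 3, nat_lit 2, nat_lit 1]))) (.node (nat_lit 533) (.leaf ((nat_lit 96), [nat_lit 2, nat_lit 3, nat_lit 2, nat_lit 1])) (.node (nat_lit 534) (.leaf ((nat_lit 91), [nat_lit 1, nat_lit 3, nat_lit 2, nat_lit 0])) (.leaf ((nat_lit 88), [nat_lit 1, nat_lit 2, nat_lit 3, nat_lit 1, nat_lit 2]))))))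
 (.node (nat_lit 540) (.node (nat_lit 537) (.node (nat_lit 536) (.leaf ((nat_lit 39), [nat_lit 3, nat_lit 2, nat_lit 0, nat_lit 3, nat_lit 0, nat_lit 2])) (.leaf ((nat_lit 38), [nat_lit 1, nat_lit 2, nat_lit 0, nat_lit 3, nat_lit 0]))) (.node (nat_lit 538) (.leaf ((nat_lit 111), [nat_lit 3, nat_lit 2])) (.node (nat_lit 539) (.leaf ((nat_lit 92), [nat_lit 1, nat_lit 2, nat_lit 0, nat_lit 3, nat_lit 0, nat_lit 2, nat_lit 1])) (.leaf ((nat_lit 86), [nat_lit 0, nat_lit 3, nat_lit 1, nat_lit 2])))))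
 (.node (nat_lit 543) (.node (nat_lit 541) (.leaf ((nat_lit 70), [nat_lit 2, nat_lit 3, nat_lit 0, nat_lit 2, nat_lit 1])) (.node (nat_lit 542) (.leaf ((nat_lit 80), [nat_lit 3, nat_lit 1, nat_lit 2, nat_lit 3, nat_lit 1, nat_lit 2, nat_lit 1])) (.leaf ((nat_lit 79), [nat_lit 1, nat_lit 2, nat_lit 0, nat_lit 3, nat_lit 1, nat_lit 2, nat_lit 1])))) (.node (nat_lit 544) (.leaf ((nat_lit 39), [nat_lit 0, nat_lit 2, nat_lit 0, nat_lit 3, nat_lit 0])) (.node (nat_lit 545) (.leaf ((nat_lit 79), [nat_lit 1, nat_lit 3, nat_lit 0])) (.leaf ((nat_lit 50), [nat_lit 2, nat_lit 0, nat_lit 3, nat_lit 2, nat_lit 0]))))))))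
 (.node (nat_lit 567) (.node (nat_lit 556) (.node (nat_lit 551) (.node (nat_lit 548) (.node (nat_lit 547) (.leaf ((nat_lit 86), [nat_lit 1, nat_lit 3, nat_lit 0])) (.leaf ((nat_lit 40), [nat_lit 2, nat_lit 1, nat_lit 3, nat_lit 0, nat_lit 2, nat_lit 1]))) (.node (nat_lit 549) (.leaf ((nat_lit 85), [nat_lit 3, nat_lit 2, nat_lit 0, nat_lit 3, nat_lit 0])) (.node (nat_lit 550) (.leaf ((nat_lit 104), [nat_lit 3, nat_lit 1, nat_lit 2, nat_lit 3, nat_lit 0, nat_lit 2, nat_lit 0])) (.leaf ((nat_lit 43), [nat_lit 2, nat_lit 1, nat_lit 3, nat_lit 0, nat_lit 2, nat_lit 0])))))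
 (.node (nat_lit 553) (.node (nat_lit 552) (.leaf ((nat_lit 88), [nat_lit 1, nat_lit 2, nat_lit 3, nat_lit 0])) (.leaf ((nat_lit 42), [nat_lit 1, nat_lit 2, nat_lit 0, nat_lit 3, nat_lit 1, nat_lit 2]))) (.node (nat_lit 554) (.leaf ((nat_lit 41), [nat_lit 0, nat_lit 2, nat_lit 3, nat_lit 1, nat_lit 2])) (.node (nat_lit 555) (.leaf ((nat_lit 44), [nat_lit 2, nat_lit 0, nat_lit 3, nat_lit 1, nat_lit 2, nat_lit 0])) (.leaf ((nat_lit 93), [nat_lit 1, nat_lit 3, nat_lit 2, nat_lit 1]))))))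
 (.node (nat_lit 561) (.node (nat_lit 558) (.node (nat_lit 557) (.leaf ((nat_lit 89), [nat_lit 3, nat_lit 0, nat_lit 3, nat_lit 0, nat_lit 2, nat_lit 0])) (.leaf ((nat_lit 92), [nat_lit 3, nat_lit 0, nat_lit 3, nat_lit 2, nat_lit 1]))) (.node (nat_lit 559) (.leaf ((nat_lit 43), [nat_lit 3, nat_lit 2, nat_lit 0, nat_lit 3, nat_lit 0, nat_lit 2, nat_lit 1])) (.node (nat_lit 560) (.leaf ((nat_lit 44), [nat_lit 1, nat_lit 2, nat_lit 1, nat_lit 3, nat_lit 2])) (.leaf ((nat_lit 41), [nat_lit 2, nat_lit 1, nat_lit 3, nat_lit 2, nat_lit 0])))))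
 (.node (nat_lit 564) (.node (nat_lit 562) (.leaf ((nat_lit 92), [nat_lit 0, nat_lit 2, nat_lit 3, nat_lit 0])) (.node (nat_lit 563) (.leaf ((nat_lit 111), [nat_lit 2, nat_lit 0, nat_lit 3, nat_lit 2, nat_lit 0])) (.leaf ((nat_lit 49), [nat_lit 3, nat_lit 1, nat_lit 2, nat_lit 3])))) (.node (nat_lit 565) (.leaf ((nat_lit 65), [nat_lit 0, nat_lit 2, nat_lit 3, nat_lit 1, nat_lit 2])) (.node (nat_lit 566) (.leaf ((nat_lit 63), [nat_lit 2, nat_lit 3])) (.leaf ((nat_lit 62), [nat_lit 0, nat_lit 3, nat_lit 1, nat_lit 2])))))))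
 (.node (nat_lit 577) (.node (nat_lit 572) (.node (nat_lit 569) (.node (nat_lit 568) (.leaf ((nat_lit 71), [nat_lit 0, nat_lit 2, nat_lit 0, nat_lit 3, nat_lit 0, nat_lit 2])) (.leaf ((nat_lit 41), [nat_lit 3, nat_lit 1, nat_lit 2, nat_lit 3, nat_lit 0, nat_lit 2, nat_lit 0]))) (.node (nat_lit 570) (.leaf ((nat_lit 83), [nat_lit 2, nat_lit 0, nat_lit 3, nat_lit 0, nat_lit 2, nat_lit 1])) (.node (nat_lit 571) (.leaf ((nat_lit 44), [nat_lit 3, nat_lit 1, nat_lit 2])) (.leaf ((nat_lit 43), [nat_lit 0, nat_lit 2, nat_lit 3, nat_lit 0, nat_lit 2])))))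
 (.node (nat_lit 574) (.node (nat_lit 573) (.leaf ((nat_lit 42), [nat_lit 1, nat_lit 3, nat_lit 0])) (.leaf ((nat_lit 43), [nat_lit 0, nat_lit 2, nat_lit 3, nat_lit 0, nat_lit 2, nat_lit 0]))) (.node (nat_lit 575) (.leaf ((nat_lit 104), [nat_lit 3, nat_lit 0, nat_lit 3, nat_lit 0, nat_lit 2, nat_lit 0])) (.node (nat_lit 576) (.leaf ((nat_lit 63), [nat_lit 3, nat_lit 1, nat_lit 2, nat_lit 0])) (.leaf ((nat_lit 106), [nat_lit 1, nat_lit 2, nat_lit 3, nat_lit 2, nat_lit 1]))))))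
 (.node (nat_lit 582) (.node (nat_lit 579) (.node (nat_lit 578) (.leaf ((nat_lit 102), [nat_lit 3, nat_lit 2, nat_lit 0, nat_lit 3, nat_lit 1, nat_lit 2, nat_lit 0])) (.leaf ((nat_lit 87), [nat_lit 1, nat_lit 2, nat_lit 1, nat_lit 3, nat_lit 1]))) (.node (nat_lit 580) (.leaf ((nat_lit 102), [nat_lit 1, nat_lit 3, nat_lit 2])) (.node (nat_lit 581) (.leaf ((nat_lit 88), [nat_lit 0, nat_lit 2, nat_lit 3, nat_lit 2])) (.leaf ((nat_lit 43), [nat_lit 2, nat_lit 1, nat_lit 3])))))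
 (.node (nat_lit 585) (.node (nat_lit 583) (.leaf ((nat_lit 83), [nat_lit 3, nat_lit 0, nat_lit 3, nat_lit 0, nat_lit 2, nat_lit 0])) (.node (nat_lit 584) (.leaf ((nat_lit 82), [nat_lit 0, nat_lit 3, nat_lit 0, nat_lit 2])) (.leaf ((nat_lit 81), [nat_lit 2, nat_lit 3, nat_lit 1, nat_lit 2])))) (.node (nat_lit 586) (.leaf ((nat_lit 45), [nat_lit 0, nat_lit 2, nat_lit 3, nat_lit 1, nat_lit 2, nat_lit 1])) (.node (nat_lit 587) (.leaf ((nat_lit 44), [nat_lit 3, nat_lit 2, nat_lit 0, nat_lit 3, nat_lit 1, nat_lit 2])) (.leaf ((nat_lit 99), [nat_lit 3, nat_lit 0, nat_lit 3, nat_lit 1, nat_lit 2])))))))))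
 (.node (nat_lit 630) (.node (nat_lit 609) (.node (nat_lit 598) (.node (nat_lit 593) (.node (nat_lit 590) (.node (nat_lit 589) (.leaf ((nat_lit 52), [nat_lit 0, nat_lit 2, nat_lit 0])) (.leaf ((nat_lit 46), [nat_lit 3, nat_lit 2, nat_lit 0, nat_lit 3, nat_lit 1, nat_lit 2]))) (.node (nat_lit 591) (.leaf ((nat_lit 110), [nat_lit 0, nat_lit 2, nat_lit 0, nat_lit 3, nat_lit 2, nat_lit 1])) (.node (nat_lit 592) (.leaf ((nat_lit 58), [nat_lit 3, nat_lit 2, nat_lit 0, nat_lit 3, nat_lit 2, nat_lit 1])) (.leaf ((nat_lit 58), [nat_lit 2, nat_lit 3])))))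
 (.node (nat_lit 595) (.node (nat_lit 594) (.leaf ((nat_lit 44), [nat_lit 0, nat_lit 2, nat_lit 3, nat_lit 0, nat_lit 2, nat_lit 0])) (.leaf ((nat_lit 45), [nat_lit 0, nat_lit 2, nat_lit 3, nat_lit 0, nat_lit 2, nat_lit 1]))) (.node (nat_lit 596) (.leaf ((nat_lit 49), [nat_lit 3, nat_lit 2, nat_lit 0, nat_lit 3, nat_lit 0, nat_lit 2])) (.node (nat_lit 597) (.leaf ((nat_lit 48), [nat_lit 1, nat_lit 3, nat_lit 0])) (.leaf ((nat_lit 88), [nat_lit 0, nat_lit 2, nat_lit 3, nat_lit 1, nat_lit 2, nat_lit 1]))))))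
 (.node (nat_lit 603) (.node (nat_lit 600) (.node (nat_lit 599) (.leaf ((nat_lit 102), [nat_lit 1, nat_lit 3, nat_lit 1, nat_lit 2, nat_lit 1])) (.leaf ((nat_lit 97), [nat_lit 2, nat_lit 3, nat_lit 0, nat_lit 2, nat_lit 1]))) (.node (nat_lit 601) (.leaf ((nat_lit 71), [nat_lit 3, nat_lit 1, nat_lit 2, nat_lit 3, nat_lit 1, nat_lit 2, nat_lit 0])) (.node (nat_lit 602) (.leaf ((nat_lit 67), [nat_lit 3, nat_lit 2])) (.leaf ((nat_lit 69), [nat_lit 0, nat_lit 3, nat_lit 0, nat_lit 2, nat_lit 0])))))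
 (.node (nat_lit 606) (.node (nat_lit 604) (.leaf ((nat_lit 86), [nat_lit 2, nat_lit 3])) (.node (nat_lit 605) (.leaf ((nat_lit 106), [nat_lit 1, nat_lit 2, nat_lit 1, nat_lit 3, nat_lit 2, nat_lit 1])) (.leaf ((nat_lit 45), [nat_lit 3, nat_lit 1, nat_lit 2, nat_lit 3])))) (.node (nat_lit 607) (.leaf ((nat_lit 47), [nat_lit 1, nat_lit 2, nat_lit 0, nat_lit 3, nat_lit 1, nat_lit 2])) (.node (nat_lit 608) (.leaf ((nat_lit 66), [nat_lit 0, nat_lit 2, nat_lit 3, nat_lit 1, nat_lit 2])) (.leaf ((nat_lit 108), [nat_lit 3, nat_lit 2, nat_lit 0, nat_lit 3, nat_lit 0])))))))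
 (.node (nat_lit 619) (.node (nat_lit 614) (.node (nat_lit 611) (.node (nat_lit 610) (.leaf ((nat_lit 106), [])) (.leaf ((nat_lit 86), [nat_lit 1, nat_lit 2, nat_lit 1, nat_lit 3, nat_lit 1, nat_lit 2]))) (.node (nat_lit 612) (.leaf ((nat_lit 101), [nat_lit 2, nat_lit 0, nat_lit 3, nat_lit 1, nat_lit 2])) (.node (nat_lit 613) (.leaf ((nat_lit 108), [nat_lit 2, nat_lit 0, nat_lit 3])) (.leaf ((nat_lit 96), [nat_lit 3, nat_lit 1, nat_lit 2, nat_lit 3, nat_lit 0, nat_lit 2, nat_lit 1])))))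
 (.node (nat_lit 616) (.node (nat_lit 615) (.leaf ((nat_lit 47), [nat_lit 3, nat_lit 0, nat_lit 3, nat_lit 0, nat_lit 2, nat_lit 1])) (.leaf ((nat_lit 96), [nat_lit 2, nat_lit 3, nat_lit 0]))) (.node (nat_lit 617) (.leaf ((nat_lit 99), [nat_lit 0, nat_lit 2, nat_lit 0, nat_lit 3, nat_lit 0])) (.node (nat_lit 618) (.leaf ((nat_lit 84), [nat_lit 0, nat_lit 2, nat_lit 3, nat_lit 0, nat_lit 2, nat_lit 0])) (.leaf ((nat_lit 77), [nat_lit 3, nat_lit 2, nat_lit 0, nat_lit 3, nat_lit 0, nat_lit 2]))))))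
 (.node (nat_lit 624) (.node (nat_lit 621) (.node (nat_lit 620) (.leaf ((nat_lit 51), [nat_lit 1, nat_lit 2, nat_lit 0, nat_lit 3, nat_lit 1])) (.leaf ((nat_lit 107), [nat_lit 1, nat_lit 2, nat_lit 0, nat_lit 3, nat_lit 0]))) (.node (nat_lit 622) (.leaf ((nat_lit 49), [nat_lit 2, nat_lit 0, nat_lit 3, nat_lit 2, nat_lit 1])) (.node (nat_lit 623) (.leaf ((nat_lit 51), [nat_lit 0, nat_lit 2, nat_lit 3, nat_lit 0, nat_lit 2, nat_lit 0])) (.leaf ((nat_lit 78), [nat_lit 3, nat_lit 2, nat_lit 0, nat_lit 3, nat_lit 0])))))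
 (.node (nat_lit 627) (.node (nat_lit 625) (.leaf ((nat_lit 110), [nat_lit 3, nat_lit 2, nat_lit 0, nat_lit 3, nat_lit 0, nat_lit 2, nat_lit 0])) (.node (nat_lit 626) (.leaf ((nat_lit 53), [nat_lit 2, nat_lit 0, nat_lit 3])) (.leaf ((nat_lit 52), [nat_lit 0, nat_lit 2, nat_lit 3, nat_lit 2])))) (.node (nat_lit 628) (.leaf ((nat_lit 91), [nat_lit 3, nat_lit 2, nat_lit 0, nat_lit 3, nat_lit 0, nat_lit 2])) (.node (nat_lit 629) (.leaf ((nat_lit 95), [nat_lit 1, nat_lit 2, nat_lit 0, nat_lit 3, nat_lit 0, nat_lit 2, nat_lit 1])) (.leaf ((nat_lit 65), [nat_lit 0, nat_lit 3, nat_lit 1, nat_lit 2]))))))))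
 (.node (nat_lit 651) (.node (nat_lit 640) (.node (nat_lit 635) (.node (nat_lit 632) (.node (nat_lit 631) (.leaf ((nat_lit 72), [nat_lit 3, nat_lit 1, nat_lit 2, nat_lit 3, nat_lit 0, nat_lit 2, nat_lit 0])) (.leaf ((nat_lit 54), [nat_lit 1, nat_lit 2]))) (.node (nat_lit 633) (.leaf ((nat_lit 109), [nat_lit 1, nat_lit 3, nat_lit 2])) (.node (nat_lit 634) (.leaf ((nat_lit 53), [nat_lit 3, nat_lit 2, nat_lit 0, nat_lit 3, nat_lit 2, nat_lit 1])) (.leaf ((nat_lit 54), [nat_lit 3, nat_lit 1, nat_lit 2, nat_lit 3, nat_lit 2, nat_lit 1])))))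
 (.node (nat_lit 637) (.node (nat_lit 636) (.leaf ((nat_lit 61), [nat_lit 3, nat_lit 1, nat_lit 2, nat_lit 3, nat_lit 0, nat_lit 2, nat_lit 1])) (.leaf ((nat_lit 96), [nat_lit 0, nat_lit 2, nat_lit 3, nat_lit 2, nat_lit 0]))) (.node (nat_lit 638) (.leaf ((nat_lit 108), [nat_lit 3, nat_lit 2, nat_lit 0, nat_lit 3])) (.node (nat_lit 639) (.leaf ((nat_lit 66), [nat_lit 0, nat_lit 2, nat_lit 3, nat_lit 1, nat_lit 2, nat_lit 1])) (.leaf ((nat_lit 101), []))))))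
 (.node (nat_lit 645) (.node (nat_lit 642) (.node (nat_lit 641) (.leaf ((nat_lit 100), [nat_lit 0, nat_lit 2, nat_lit 3, nat_lit 0, nat_lit 2, nat_lit 0])) (.leaf ((nat_lit 53), [nat_lit 0, nat_lit 3, nat_lit 0, nat_lit 2, nat_lit 0]))) (.node (nat_lit 643) (.leaf ((nat_lit 56), [nat_lit 1, nat_lit 2, nat_lit 1, nat_lit 3, nat_lit 1, nat_lit 2])) (.node (nat_lit 644) (.leaf ((nat_lit 55), [nat_lit 2])) (.leaf ((nat_lit 103), [nat_lit 1, nat_lit 3, nat_lit 1, nat_lit 2, nat_lit 0])))))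
 (.node (nat_lit 648) (.node (nat_lit 646) (.leaf ((nat_lit 78), [nat_lit 3, nat_lit 1, nat_lit 2, nat_lit 3, nat_lit 0, nat_lit 2, nat_lit 1])) (.node (nat_lit 647) (.leaf ((nat_lit 77), [nat_lit 2, nat_lit 0, nat_lit 3, nat_lit 0, nat_lit 2, nat_lit 0])) (.leaf ((nat_lit 107), [nat_lit 1, nat_lit 2, nat_lit 1, nat_lit 3, nat_lit 0, nat_lit 2, nat_lit 0])))) (.node (nat_lit 649) (.leaf ((nat_lit 102), [nat_lit 3, nat_lit 1, nat_lit 2])) (.node (nat_lit 650) (.leaf ((nat_lit 106), [nat_lit 3, nat_lit 1, nat_lit 2, nat_lit 3])) (.leaf ((nat_lit 101), [nat_lit 3, nat_lit 1, nat_lit 2, nat_lit 3, nat_lit 2, nat_lit 1])))))))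
 (.node (nat_lit 661) (.node (nat_lit 656) (.node (nat_lit 653) (.node (nat_lit 652) (.leaf ((nat_lit 87), [nat_lit 0, nat_lit 2, nat_lit 0, nat_lit 3, nat_lit 0])) (.leaf ((nat_lit 65), [nat_lit 1, nat_lit 2, nat_lit 1, nat_lit 3, nat_lit 1, nat_lit 2]))) (.node (nat_lit 654) (.leaf ((nat_lit 60), [nat_lit 1, nat_lit 2, nat_lit 1, nat_lit 3, nat_lit 2, nat_lit 1])) (.node (nat_lit 655) (.leaf ((nat_lit 80), [nat_lit 1, nat_lit 2, nat_lit 1, nat_lit 3, nat_lit 1, nat_lit 2])) (.leaf ((nat_lit 70), [nat_lit 2])))))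
 (.node (nat_lit 658) (.node (nat_lit 657) (.leaf ((nat_lit 105), [nat_lit 2, nat_lit 3, nat_lit 0])) (.leaf ((nat_lit 61), [nat_lit 3, nat_lit 1, nat_lit 2]))) (.node (nat_lit 659) (.leaf ((nat_lit 72), [nat_lit 1, nat_lit 2, nat_lit 0, nat_lit 3, nat_lit 0, nat_lit 2, nat_lit 1])) (.node (nat_lit 660) (.leaf ((nat_lit 109), [nat_lit 0, nat_lit 2, nat_lit 0, nat_lit 3, nat_lit 1, nat_lit 2, nat_lit 1])) (.leaf ((nat_lit 104), [nat_lit 3, nat_lit 1, nat_lit 2, nat_lit 3, nat_lit 0]))))))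
 (.node (nat_lit 666) (.node (nat_lit 663) (.node (nat_lit 662) (.leaf ((nat_lit 78), [nat_lit 3, nat_lit 1, nat_lit 2, nat_lit 3, nat_lit 1, nat_lit 2, nat_lit 0])) (.leaf ((nat_lit 98), [nat_lit 0, nat_lit 2, nat_lit 3, nat_lit 1, nat_lit 2, nat_lit 1]))) (.node (nat_lit 664) (.leaf ((nat_lit 65), [nat_lit 3, nat_lit 1, nat_lit 2, nat_lit 3, nat_lit 0, nat_lit 2, nat_lit 0])) (.node (nat_lit 665) (.leaf ((nat_lit 87), [nat_lit 1, nat_lit 2, nat_lit 3, nat_lit 0, nat_lit 2, nat_lit 0])) (.leaf ((nat_lit 111), [nat_lit 1, nat_lit 2, nat_lit 3, nat_lit 2, nat_lit 1])))))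
 (.node (nat_lit 669) (.node (nat_lit 667) (.leaf ((nat_lit 76), [nat_lit 2, nat_lit 3, nat_lit 0, nat_lit 2])) (.node (nat_lit 668) (.leaf ((nat_lit 75), [nat_lit 3, nat_lit 1, nat_lit 2, nat_lit 3, nat_lit 1, nat_lit 2, nat_lit 1])) (.leaf ((nat_lit 74), [nat_lit 2, nat_lit 0, nat_lit 3, nat_lit 2])))) (.node (nat_lit 670) (.leaf ((nat_lit 89), [nat_lit 2, nat_lit 3])) (.node (nat_lit 671) (.leaf ((nat_lit 93), [nat_lit 1, nat_lit 2, nat_lit 3, nat_lit 1, nat_lit 2])) (.leaf ((nat_lit 110), [nat_lit 0, nat_lit 2, nat_lit 3, nat_lit 2, nat_lit 0]))))))))))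
noncomputable def n6Wd : Tr (ℕ × List ℕ) := (.node (nat_lit 336) (.node (nat_lit 168) n6Wd_0 n6Wd_1) (.node (nat_lit 504) n6Wd_2 n6Wd_3))
theorem n6q : allR 0 112 (dblChk (nat_lit 4) (nat_lit 15) (MG.gl42L.map Lev.b) MG.gl42T n6T n6Dd (topN MG.gl42L) 112 6 n6PA n6Wd) = true := by decide +kernel
noncomputable def n6Ws : List (List ℕ) := [[]]
noncomputable def n6CE : Tr (ℕ × List ℕ × List (List ℕ)) := (.node (nat_lit 3) (.node (nat_lit 1) (.leaf ((nat_lit 0), [], [])) (.node (nat_lit 2) (.leaf ((nat_lit 1), [nat_lit 3, nat_lit 2, nat_lit 1, nat_lit 4, nat_lit 3, nat_lit 0, nat_lit 3, nat_lit 1], [[nat_lit 99, nat_lit 0]])) (.leaf ((nat_lit 1), [nat_lit 1, nat_lit 3, nat_lit 1, nat_lit 0], [[nat_lit 99, nat_lit 3, nat_lit 2]])))) (.node (nat_lit 4) (.leaf ((nat_lit 1), [nat_lit 3, nat_lit 1, nat_lit 5, nat_lit 3], [[nat_lit 2, nat_lit 99, nat_lit 0]])) (.node (nat_lit 5) (.leaf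 ((nat_lit 1), [nat_lit 1, nat_lit 0, nat_lit 4, nat_lit 1, nat_lit 0], [[nat_lit 99, nat_lit 0, nat_lit 2, nat_lit 0]])) (.leaf ((nat_lit 0), [nat_lit 2, nat_lit 0, nat_lit 3, nat_lit 0], [])))))
theorem n6s : allR 0 6 (stepChk (nat_lit 4) (nat_lit 15) (MG.gl42L.map Lev.b) MG.gl42T n6T n6mT n6T n6Dd AW [nat_lit 1] n6Ws n6CE) = true := by decide +kernel
theorem s6 {G : Type*} [Group G] [Finite G] {X : Type*} [MulAction G X] {pt : ℕ → X} (C : Ch G 15 (nat_lit 4) (nat_lit 15) pt MG.gl42T MG.gl42L) {H : Subgroup G} (h : PJ C.lets.e AW 6 H) :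
    ∃ K : Subgroup G, Nonempty (H ≃* K) ∧ (Q K ∨ ∃ j ∈ [nat_lit 1], PJ C.lets.e AW j K) := by
  obtain ⟨K, e, hK⟩ := h.conj
  refine ⟨K, e, ?_⟩
  obtain ⟨N, D, S⟩ := (C.gen (lets_words C.lets n6E n6w) n6chain n6sd n6tc)
  have le := C.le_AW D hK n6slp n6a
  obtain ⟨M, E, -⟩ := (C.gen (lets_words C.lets n6mE n6mw) n6mchain n6msd n6mtc)
  have NM := D.le_lets C.base (lets_words E.lets n6xE n6xw)
  obtain ⟨P, F, -⟩ := (C.gen (lets_words C.lets n6pE n6pw) n6pchain n6psd n6ptc)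
  have PN := F.le_lets C.base (lets_words D.lets n6yE n6yw)
  have MP := C.le_nor E F n6r
  have hD := lets_words C.lets n6dE n6dw
  refine (C.step D.lets E.lets D.lets hD le_normalizer NM (C.dbl D.lets hD n6q (by decide +kernel)) (Ws := n6Ws) (fun u hu => ⟨[], List.mem_singleton_self _, u, hu, (one_mul u).symm⟩) (by decide +kernel) n6s le).imp_left fun h => ?_
  exact .inl (QS.of (PN.trans le) (h.trans MP) (p := 3) (j := 0) (by norm_num) (F.card.trans (by decide +kernel)))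

end H8.LA
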