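import Cfsg.Agent.H8.LA0

/-! H8.LA4: subgroups of GL(4,2): overgroups of L3(2) (generated certificate) -/

set_option autoImplicit false
set_option maxRecDepth 200000

set_option linter.all false
open Subgroup 

namespace H8.LA

noncomputable def n9t0 : ℕ := (nat_lit 0xcbed789a5634210)
noncomputable def n9t1 : ℕ := (nat_lit 0xdebc87a93456210)
noncomputable def n9t2 : ℕ := (nat_lit 0xde65a912cb34780)
noncomputable def n9t3 : ℕ := (nat_lit 0xc3e529074b6da18)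
noncomputable def n9T : Tr ℕ := (.node (nat_lit 2) (.node (nat_lit 1) (.leaf n9t0) (.leaf n9t1)) (.node (nat_lit 3) (.leaf n9t2) (.leaf n9t3)))
noncomputable def n9R : Tr (List ℕ) := (.node (nat_lit 6) (.node (nat_lit 3) (.node (nat_lit 1) (.leaf [nat_lit 2, nat_lit 0, nat_lit 2, nat_lit 0, nat_lit 2, nat_lit 0]) (.node (nat_lit 2) (.leaf [nat_lit 3, nat_lit 0, nat_lit 3, nat_lit 0, nat_lit 3, nat_lit 0]) (.leaf [nat_lit 0, nat_lit 0]))) (.node (nat_lit 4) (.leaf [nat_lit 0, nat_lit 1, nat_lit 0, nat_lit 1]) (.node (nat_lit 5) (.leaf [nat_lit 2, nat_lit 1, nat_lit 2, nat_lit 1, nat_lit 2, nat_lit 1]) (.leaf [nat_lit 3, nat_lit 1, nat_lit 3, nat_lit 1, nat_lit 3, nat_lit 1, nat_lit 3, nat_lit 1]))))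
 (.node (nat_lit 9) (.node (nat_lit 7) (.leaf [nat_lit 1, nat_lit 1]) (.node (nat_lit 8) (.leaf [nat_lit 2, nat_lit 0, nat_lit 1, nat_lit 3, nat_lit 0, nat_lit 1, nat_lit 2, nat_lit 3, nat_lit 1, nat_lit 3]) (.leaf [nat_lit 2, nat_lit 2])))
 (.node (nat_lit 11) (.node (nat_lit 10) (.leaf [nat_lit 3, nat_lit 0, nat_lit 3, nat_lit 2, nat_lit 3, nat_lit 0, nat_lit 3, nat_lit 2]) (.leaf [nat_lit 3, nat_lit 3])) (.node (nat_lit 12) (.leaf [nat_lit 3, nat_lit 2, nat_lit 3, nat_lit 2, nat_lit 3, nat_lit 2]) (.leaf [nat_lit 3, nat_lit 0, nat_lit 1, nat_lit 3, nat_lit 0, nat_lit 1, nat_lit 3, nat_lit 0, nat_lit 1])))))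
noncomputable def n9L0 : Lev := ⟨(nat_lit 0), (nat_lit 4), (nat_lit 0x201040200000000040300), (nat_lit 0x202010300000000030200),
 (.node (nat_lit 2) (.node (nat_lit 1) (.leaf (nat_lit 0x20000000100030000000000000000000400040000))
 (.leaf (nat_lit 0x1000100000000000000000000000200060000)))
 (.node (nat_lit 3) (.leaf (nat_lit 0x50003000100030000000000000000000200000000))
 (.leaf (nat_lit 0x10002000000030000000000000000000000020001)))),
 (.node (nat_lit 2) (.node (nat_lit 1) (.leaf (nat_lit 0x300000000000201000201000000000000000000000000000105000005000000))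
 (.leaf (nat_lit 0x600000601000000000000000000000000000000000503000405000000)))
 (.node (nat_lit 3) (.leaf (nat_lit 0x2000903000800000800000000000000000000000000000706000000000000))
 (.leaf (nat_lit 0xa00000102000000000c03000000000000000000000000000000000b02000a01))))⟩
noncomputable def n9L1 : Lev := ⟨(nat_lit 1), (nat_lit 3), (nat_lit 0x201030200000000030000), (nat_lit 0x202010300000000040000),
 (.node (nat_lit 1) (.leaf (nat_lit 0x20000000100030000000000000000000400000000))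
 (.node (nat_lit 2) (.leaf (nat_lit 0x1000100000000000000000000000300000000))
 (.leaf (nat_lit 0x20002000000010000000000000000000000010000)))),
 (.node (nat_lit 1) (.leaf (nat_lit 0x300000000000201000201000000000000000000000000000005000000000000))
 (.node (nat_lit 2) (.leaf (nat_lit 0x600000601000000000000000000000000000000000405000000000000))
 (.leaf (nat_lit 0x402000002000000000800000000000000000000000000000000000801000000))))⟩
noncomputable def n9L2 : Lev := ⟨(nat_lit 3), (nat_lit 2), (nat_lit 0x2020100000000), (nat_lit 0x1020100000000),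
 (.node (nat_lit 1) (.leaf (nat_lit 0x2000300000001000000000000))
 (.leaf (nat_lit 0x10001000000000000))),
 (.node (nat_lit 1) (.leaf (nat_lit 0x302000201000000000201000000000000000000))
 (.leaf (nat_lit 0x601000601000000000000000000)))⟩
noncomputable def n9L : List Lev := [n9L0, n9L1, n9L2]
noncomputable def n9E : Tr (List ℕ) := (.node (nat_lit 2) (.node (nat_lit 1) (.leaf [nat_lit 2, nat_lit 0, nat_lit 4, nat_lit 3, nat_lit 2, nat_lit 0]) (.leaf [nat_lit 2, nat_lit 4, nat_lit 3, nat_lit 0, nat_lit 3, nat_lit 2, nat_lit 0])) (.node (nat_lit 3) (.leaf [nat_lit 2, nat_lit 1, nat_lit 0, nat_lit 5, nat_lit 4, nat_lit 2, nat_lit 1, nat_lit 4, nat_lit 0, nat_lit 3, nat_lit 2, nat_lit 1]) (.leaf [nat_lit 4, nat_lit 2, nat_lit 1, nat_lit 4, nat_lit 2, nat_lit 1, nat_lit 0])))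
theorem n9w_0 : n9T.all2 (fun c w => isProd 15 (nat_lit 4) (nat_lit 15) MG.gl42T c w) n9E = true := by decide +kernel
theorem n9w : n9T.all2 (fun c w => isProd 15 (nat_lit 4) (nat_lit 15) MG.gl42T c w) n9E = true := n9w_0
theorem n9lev0 : levChk 15 (nat_lit 4) (nat_lit 15) n9T n9R n9L0 n9L1.N = true := by decide +kernel
theorem n9lev1 : levChk 15 (nat_lit 4) (nat_lit 15) n9T n9R n9L1 n9L2.N = true := by decide +kernel
theorem n9lev2 : levChk 15 (nat_lit 4) (nat_lit 15) n9T n9R n9L2 0 = true := by decide +kernel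
theorem n9chain : Chain 15 (nat_lit 4) (nat_lit 15) n9T n9R n9L := chain_cons n9lev0 <| chain_cons n9lev1 <| chain_one n9lev2
theorem n9sd : band (selChk n9T n9T (topN n9L)) (n9R.all fun w => eqB (MG.gl42L.map Lev.b) (apL (nat_lit 4) (nat_lit 15) n9T w) fun a => a) = true := by decide +kernel
theorem n9tc : tchainChk 15 (nat_lit 4) (nat_lit 15) n9T n9L = true := by decide +kernel
noncomputable def n9s0 : ℕ := (nat_lit 0xe64c08a2b35d197)
noncomputable def n9s1 : ℕ := (nat_lit 0x5cd409813eb627a)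
noncomputable def n9s2 : ℕ := (nat_lit 0xe3b68190d4c572a)
noncomputable def n9s3 : ℕ := (nat_lit 0x43cb21a9ed65870)
noncomputable def n9s4 : ℕ := (nat_lit 0x65cb872143eda90)
noncomputable def n9s5 : ℕ := (nat_lit 0x346578a9decb120)
noncomputable def n9s6 : ℕ := (nat_lit 0x5643879acbde120)
noncomputable def n9s7 : ℕ := (nat_lit 0xbcde9a784365210)
noncomputable def n9s8 : ℕ := (nat_lit 0xcbed789a5634210)
noncomputable def n9s9 : ℕ := (nat_lit 0xdebc87a93456210)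
noncomputable def n9s10 : ℕ := (nat_lit 0xde65a912cb34780)
noncomputable def n9s11 : ℕ := (nat_lit 0xc3e529074b6da18)
noncomputable def n9S : Tr ℕ := (.node (nat_lit 6) (.node (nat_lit 3) (.node (nat_lit 1) (.leaf n9s0) (.node (nat_lit 2) (.leaf n9s1) (.leaf n9s2))) (.node (nat_lit 4) (.leaf n9s3) (.node (nat_lit 5) (.leaf n9s4) (.leaf n9s5))))
 (.node (nat_lit 9) (.node (nat_lit 7) (.leaf n9s6) (.node (nat_lit 8) (.leaf n9s7) (.leaf n9s8))) (.node (nat_lit 10) (.leaf n9s9) (.node (nat_lit 11) (.leaf n9s10) (.leaf n9s11)))))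
noncomputable def n9D : Tr (List ℕ) := (.node (nat_lit 6) (.node (nat_lit 3) (.node (nat_lit 1) (.leaf []) (.node (nat_lit 2) (.leaf []) (.leaf [nat_lit 0, nat_lit 0, nat_lit 0, nat_lit 0, nat_lit 0, nat_lit 0]))) (.node (nat_lit 4) (.leaf [nat_lit 0, nat_lit 0, nat_lit 1, nat_lit 2, nat_lit 1]) (.node (nat_lit 5) (.leaf [nat_lit 1, nat_lit 0, nat_lit 1, nat_lit 2, nat_lit 2]) (.leaf [nat_lit 0, nat_lit 1]))))
 (.node (nat_lit 9) (.node (nat_lit 7) (.leaf [nat_lit 1, nat_lit 2]) (.node (nat_lit 8) (.leaf [nat_lit 3, nat_lit 6, nat_lit 3, nat_lit 5]) (.leaf [nat_lit 3, nat_lit 5, nat_lit 4, nat_lit 4]))) (.node (nat_lit 10) (.leaf [nat_lit 8, nat_lit 7]) (.node (nat_lit 11) (.leaf [nat_lit 8, nat_lit 4, nat_lit 7]) (.leaf [nat_lit 4, nat_lit 2, nat_lit 6, nat_lit 8])))))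
theorem n9slp : slpChk 15 (nat_lit 4) (nat_lit 15) n9S n9D 2 10 = true := by decide +kernel
theorem n9a : band (selChk n9T n9S (2 + 10)) (allB 2 fun j => anyL (AW.get 9) fun w => isProd 15 (nat_lit 4) (nat_lit 15) MG.gl42T (n9S.get j) w) = true := by decide +kernel
noncomputable def n9Dd : Tr ℕ := (.node (nat_lit 2) (.node (nat_lit 1) (.leaf (nat_lit 0xedcba9876543210)) (.leaf (nat_lit 0xcdeb89a74563012))) (.node (nat_lit 3) (.leaf (nat_lit 0x2d0b6947a583e1c)) (.node (nat_lit 4) (.leaf (nat_lit 0xecdb6453a897201)) (.leaf (nat_lit 0x987adcbe4563012)))))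
noncomputable def n9dE : Tr (List ℕ) := (.node (nat_lit 2) (.node (nat_lit 1) (.leaf []) (.leaf [nat_lit 0])) (.node (nat_lit 3) (.leaf [nat_lit 1]) (.node (nat_lit 4) (.leaf [nat_lit 5]) (.leaf [nat_lit 3, nat_lit 0]))))
theorem n9dw_0 : n9Dd.all2 (fun c w => isProd 15 (nat_lit 4) (nat_lit 15) MG.gl42T c w) n9dE = true := by decide +kernel
theorem n9dw : n9Dd.all2 (fun c w => isProd 15 (nat_lit 4) (nat_lit 15) MG.gl42T c w) n9dE = true := n9dw_0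
noncomputable def n9PA : Tr (ℕ × List ℕ) := (.node (nat_lit 60) (.node (nat_lit 30) (.node (nat_lit 15) (.node (nat_lit 7) (.node (nat_lit 3) (.node (nat_lit 1) (.leaf ((nat_lit 0), [])) (.node (nat_lit 2) (.leaf ((nat_lit 1), [])) (.leaf ((nat_lit 2), []))))
 (.node (nat_lit 5) (.node (nat_lit 4) (.leaf ((nat_lit 2), [nat_lit 3])) (.leaf ((nat_lit 2), [nat_lit 1, nat_lit 3, nat_lit 0]))) (.node (nat_lit 6) (.leaf ((nat_lit 2), [nat_lit 1, nat_lit 3])) (.leaf ((nat_lit 3), [])))))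
 (.node (nat_lit 11) (.node (nat_lit 9) (.node (nat_lit 8) (.leaf ((nat_lit 2), [nat_lit 1, nat_lit 3, nat_lit 1])) (.leaf ((nat_lit 2), [nat_lit 3, nat_lit 1, nat_lit 3, nat_lit 1]))) (.node (nat_lit 10) (.leaf ((nat_lit 4), [])) (.leaf ((nat_lit 2), [nat_lit 3, nat_lit 1]))))
 (.node (nat_lit 13) (.node (nat_lit 12) (.leaf ((nat_lit 2), [nat_lit 3, nat_lit 1, nat_lit 0])) (.leaf ((nat_lit 1), [nat_lit 2, nat_lit 1, nat_lit 0]))) (.node (nat_lit 14) (.leaf ((nat_lit 4), [nat_lit 0, nat_lit 3])) (.leaf ((nat_lit 2), [nat_lit 3, nat_lit 2, nat_lit 1, nat_lit 3, nat_lit 1]))))))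
 (.node (nat_lit 22) (.node (nat_lit 18) (.node (nat_lit 16) (.leaf ((nat_lit 4), [nat_lit 2, nat_lit 3, nat_lit 1, nat_lit 2])) (.node (nat_lit 17) (.leaf ((nat_lit 2), [nat_lit 1, nat_lit 2, nat_lit 0, nat_lit 3, nat_lit 0])) (.leaf ((nat_lit 4), [nat_lit 3, nat_lit 2, nat_lit 1, nat_lit 3]))))
 (.node (nat_lit 20) (.node (nat_lit 19) (.leaf ((nat_lit 2), [nat_lit 1, nat_lit 0, nat_lit 3, nat_lit 0])) (.leaf ((nat_lit 2), [nat_lit 0, nat_lit 3, nat_lit 1]))) (.node (nat_lit 21) (.leaf ((nat_lit 3), [nat_lit 1, nat_lit 3])) (.leaf ((nat_lit 2), [nat_lit 1])))))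
 (.node (nat_lit 26) (.node (nat_lit 24) (.node (nat_lit 23) (.leaf ((nat_lit 4), [nat_lit 2, nat_lit 0, nat_lit 3, nat_lit 1, nat_lit 2])) (.leaf ((nat_lit 4), [nat_lit 0, nat_lit 2, nat_lit 3]))) (.node (nat_lit 25) (.leaf ((nat_lit 2), [nat_lit 1, nat_lit 3, nat_lit 2, nat_lit 1])) (.leaf ((nat_lit 2), [nat_lit 3, nat_lit 1, nat_lit 0, nat_lit 3]))))
 (.node (nat_lit 28) (.node (nat_lit 27) (.leaf ((nat_lit 2), [nat_lit 0])) (.leaf ((nat_lit 2), [nat_lit 1, nat_lit 3, nat_lit 1, nat_lit 0]))) (.node (nat_lit 29) (.leaf ((nat_lit 1), [nat_lit 1])) (.leaf ((nat_lit 3), [nat_lit 1, nat_lit 0, nat_lit 3])))))))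
 (.node (nat_lit 45) (.node (nat_lit 37) (.node (nat_lit 33) (.node (nat_lit 31) (.leaf ((nat_lit 4), [nat_lit 1, nat_lit 2])) (.node (nat_lit 32) (.leaf ((nat_lit 4), [nat_lit 0, nat_lit 2, nat_lit 1, nat_lit 3])) (.leaf ((nat_lit 4), [nat_lit 0, nat_lit 3, nat_lit 2]))))
 (.node (nat_lit 35) (.node (nat_lit 34) (.leaf ((nat_lit 2), [nat_lit 0, nat_lit 3, nat_lit 0])) (.leaf ((nat_lit 2), [nat_lit 3, nat_lit 0]))) (.node (nat_lit 36) (.leaf ((nat_lit 2), [nat_lit 1, nat_lit 0])) (.leaf ((nat_lit 2), [nat_lit 3, nat_lit 1, nat_lit 3])))))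
 (.node (nat_lit 41) (.node (nat_lit 39) (.node (nat_lit 38) (.leaf ((nat_lit 4), [nat_lit 1, nat_lit 0, nat_lit 3])) (.leaf ((nat_lit 3), [nat_lit 0, nat_lit 3]))) (.node (nat_lit 40) (.leaf ((nat_lit 4), [nat_lit 1, nat_lit 0, nat_lit 2])) (.leaf ((nat_lit 4), [nat_lit 2, nat_lit 1, nat_lit 0, nat_lit 2]))))
 (.node (nat_lit 43) (.node (nat_lit 42) (.leaf ((nat_lit 4), [nat_lit 3])) (.leaf ((nat_lit 4), [nat_lit 2, nat_lit 3, nat_lit 2]))) (.node (nat_lit 44) (.leaf ((nat_lit 4), [nat_lit 3, nat_lit 1, nat_lit 3])) (.leaf ((nat_lit 1), [nat_lit 1, nat_lit 0]))))))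
 (.node (nat_lit 52) (.node (nat_lit 48) (.node (nat_lit 46) (.leaf ((nat_lit 1), [nat_lit 3, nat_lit 1, nat_lit 0])) (.node (nat_lit 47) (.leaf ((nat_lit 2), [nat_lit 2, nat_lit 3, nat_lit 2])) (.leaf ((nat_lit 4), [nat_lit 2, nat_lit 0, nat_lit 3]))))
 (.node (nat_lit 50) (.node (nat_lit 49) (.leaf ((nat_lit 4), [nat_lit 0, nat_lit 3, nat_lit 1, nat_lit 3, nat_lit 2])) (.leaf ((nat_lit 2), [nat_lit 0, nat_lit 2, nat_lit 1, nat_lit 3]))) (.node (nat_lit 51) (.leaf ((nat_lit 2), [nat_lit 0, nat_lit 3, nat_lit 2])) (.leaf ((nat_lit 4), [nat_lit 1, nat_lit 3, nat_lit 1, nat_lit 0, nat_lit 2])))))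
 (.node (nat_lit 56) (.node (nat_lit 54) (.node (nat_lit 53) (.leaf ((nat_lit 1), [nat_lit 0])) (.leaf ((nat_lit 1), [nat_lit 2]))) (.node (nat_lit 55) (.leaf ((nat_lit 2), [nat_lit 3, nat_lit 2])) (.leaf ((nat_lit 3), [nat_lit 3, nat_lit 0, nat_lit 2]))))
 (.node (nat_lit 58) (.node (nat_lit 57) (.leaf ((nat_lit 2), [nat_lit 2, nat_lit 1, nat_lit 3, nat_lit 1])) (.leaf ((nat_lit 4), [nat_lit 3, nat_lit 1, nat_lit 2]))) (.node (nat_lit 59) (.leaf ((nat_lit 2), [nat_lit 2, nat_lit 3, nat_lit 1, nat_lit 0])) (.leaf ((nat_lit 3), [nat_lit 2, nat_lit 3, nat_lit 2]))))))))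
 (.node (nat_lit 90) (.node (nat_lit 75) (.node (nat_lit 67) (.node (nat_lit 63) (.node (nat_lit 61) (.leaf ((nat_lit 4), [nat_lit 1, nat_lit 3])) (.node (nat_lit 62) (.leaf ((nat_lit 4), [nat_lit 3, nat_lit 1, nat_lit 2, nat_lit 3])) (.leaf ((nat_lit 2), [nat_lit 0, nat_lit 3, nat_lit 1, nat_lit 3]))))
 (.node (nat_lit 65) (.node (nat_lit 64) (.leaf ((nat_lit 4), [nat_lit 2, nat_lit 1, nat_lit 3])) (.leaf ((nat_lit 4), [nat_lit 0, nat_lit 2]))) (.node (nat_lit 66) (.leaf ((nat_lit 2), [nat_lit 1, nat_lit 0, nat_lit 3, nat_lit 1])) (.leaf ((nat_lit 3), [nat_lit 3, nat_lit 2])))))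
 (.node (nat_lit 71) (.node (nat_lit 69) (.node (nat_lit 68) (.leaf ((nat_lit 2), [nat_lit 3, nat_lit 1, nat_lit 3, nat_lit 2])) (.leaf ((nat_lit 4), [nat_lit 2, nat_lit 3, nat_lit 1, nat_lit 3]))) (.node (nat_lit 70) (.leaf ((nat_lit 2), [nat_lit 3, nat_lit 1, nat_lit 3, nat_lit 0])) (.leaf ((nat_lit 2), [nat_lit 1, nat_lit 2]))))
 (.node (nat_lit 73) (.node (nat_lit 72) (.leaf ((nat_lit 2), [nat_lit 0, nat_lit 3, nat_lit 1, nat_lit 2])) (.leaf ((nat_lit 3), [nat_lit 0, nat_lit 2]))) (.node (nat_lit 74) (.leaf ((nat_lit 3), [nat_lit 2])) (.leaf ((nat_lit 4), [nat_lit 1, nat_lit 2, nat_lit 3]))))))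
 (.node (nat_lit 82) (.node (nat_lit 78) (.node (nat_lit 76) (.leaf ((nat_lit 2), [nat_lit 2, nat_lit 1, nat_lit 0, nat_lit 3, nat_lit 0])) (.node (nat_lit 77) (.leaf ((nat_lit 2), [nat_lit 0, nat_lit 3, nat_lit 1, nat_lit 0])) (.leaf ((nat_lit 2), [nat_lit 2]))))
 (.node (nat_lit 80) (.node (nat_lit 79) (.leaf ((nat_lit 2), [nat_lit 2, nat_lit 3])) (.leaf ((nat_lit 4), [nat_lit 1, nat_lit 2, nat_lit 1, nat_lit 3]))) (.node (nat_lit 81) (.leaf ((nat_lit 3), [nat_lit 3])) (.leaf ((nat_lit 4), [nat_lit 2, nat_lit 3])))))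
 (.node (nat_lit 86) (.node (nat_lit 84) (.node (nat_lit 83) (.leaf ((nat_lit 2), [nat_lit 3, nat_lit 2, nat_lit 1, nat_lit 3])) (.leaf ((nat_lit 2), [nat_lit 0, nat_lit 3]))) (.node (nat_lit 85) (.leaf ((nat_lit 4), [nat_lit 3, nat_lit 2])) (.leaf ((nat_lit 3), [nat_lit 1, nat_lit 3, nat_lit 0, nat_lit 2]))))
 (.node (nat_lit 88) (.node (nat_lit 87) (.leaf ((nat_lit 4), [nat_lit 1, nat_lit 3, nat_lit 1, nat_lit 2])) (.leaf ((nat_lit 2), [nat_lit 2, nat_lit 3, nat_lit 0]))) (.node (nat_lit 89) (.leaf ((nat_lit 2), [nat_lit 1, nat_lit 0, nat_lit 3, nat_lit 2])) (.leaf ((nat_lit 4), [nat_lit 1, nat_lit 3, nat_lit 0, nat_lit 2])))))))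
 (.node (nat_lit 105) (.node (nat_lit 97) (.node (nat_lit 93) (.node (nat_lit 91) (.leaf ((nat_lit 2), [nat_lit 0, nat_lit 3, nat_lit 1, nat_lit 2, nat_lit 1])) (.node (nat_lit 92) (.leaf ((nat_lit 2), [nat_lit 3, nat_lit 2, nat_lit 1])) (.leaf ((nat_lit 2), [nat_lit 3, nat_lit 1, nat_lit 2]))))
 (.node (nat_lit 95) (.node (nat_lit 94) (.leaf ((nat_lit 2), [nat_lit 1, nat_lit 2, nat_lit 3])) (.leaf ((nat_lit 4), [nat_lit 1, nat_lit 2, nat_lit 0, nat_lit 3]))) (.node (nat_lit 96) (.leaf ((nat_lit 4), [nat_lit 0, nat_lit 3, nat_lit 1, nat_lit 0, nat_lit 2])) (.leaf ((nat_lit 3), [nat_lit 1, nat_lit 3, nat_lit 1, nat_lit 2])))))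
 (.node (nat_lit 101) (.node (nat_lit 99) (.node (nat_lit 98) (.leaf ((nat_lit 3), [nat_lit 1, nat_lit 2])) (.leaf ((nat_lit 4), [nat_lit 3, nat_lit 1, nat_lit 3, nat_lit 1, nat_lit 2]))) (.node (nat_lit 100) (.leaf ((nat_lit 2), [nat_lit 1, nat_lit 2, nat_lit 1])) (.leaf ((nat_lit 2), [nat_lit 1, nat_lit 0, nat_lit 3]))))
 (.node (nat_lit 103) (.node (nat_lit 102) (.leaf ((nat_lit 2), [nat_lit 0, nat_lit 2, nat_lit 3, nat_lit 0])) (.leaf ((nat_lit 4), [nat_lit 1, nat_lit 3, nat_lit 2]))) (.node (nat_lit 104) (.leaf ((nat_lit 4), [nat_lit 3, nat_lit 1, nat_lit 0, nat_lit 2])) (.leaf ((nat_lit 2), [nat_lit 2, nat_lit 3, nat_lit 1]))))))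
 (.node (nat_lit 112) (.node (nat_lit 108) (.node (nat_lit 106) (.leaf ((nat_lit 4), [nat_lit 2])) (.node (nat_lit 107) (.leaf ((nat_lit 2), [nat_lit 1, nat_lit 3, nat_lit 2])) (.leaf ((nat_lit 2), [nat_lit 3, nat_lit 1, nat_lit 2, nat_lit 1]))))
 (.node (nat_lit 110) (.node (nat_lit 109) (.leaf ((nat_lit 4), [nat_lit 3, nat_lit 1, nat_lit 3, nat_lit 0, nat_lit 2])) (.leaf ((nat_lit 4), [nat_lit 1, nat_lit 0, nat_lit 3, nat_lit 2]))) (.node (nat_lit 111) (.leaf ((nat_lit 2), [nat_lit 2, nat_lit 0, nat_lit 3, nat_lit 0])) (.leaf ((nat_lit 4), [nat_lit 1, nat_lit 0, nat_lit 3, nat_lit 1, nat_lit 2])))))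
 (.node (nat_lit 116) (.node (nat_lit 114) (.node (nat_lit 113) (.leaf ((nat_lit 2), [nat_lit 1, nat_lit 2, nat_lit 3, nat_lit 1])) (.leaf ((nat_lit 4), [nat_lit 3, nat_lit 1, nat_lit 3, nat_lit 2]))) (.node (nat_lit 115) (.leaf ((nat_lit 3), [nat_lit 3, nat_lit 1, nat_lit 2])) (.leaf ((nat_lit 4), [nat_lit 0, nat_lit 3, nat_lit 1, nat_lit 2]))))
 (.node (nat_lit 118) (.node (nat_lit 117) (.leaf ((nat_lit 2), [nat_lit 2, nat_lit 1])) (.leaf ((nat_lit 2), [nat_lit 2, nat_lit 1, nat_lit 3]))) (.node (nat_lit 119) (.leaf ((nat_lit 2), [nat_lit 2, nat_lit 3, nat_lit 1, nat_lit 3])) (.leaf ((nat_lit 4), [nat_lit 3, nat_lit 0, nat_lit 2])))))))))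
noncomputable def n9Wd_0 : Tr (ℕ × List ℕ) := (.node (nat_lit 90) (.node (nat_lit 45) (.node (nat_lit 22) (.node (nat_lit 11) (.node (nat_lit 5) (.node (nat_lit 2) (.node (nat_lit 1) (.leaf ((nat_lit 1), [])) (.leaf ((nat_lit 2), []))) (.node (nat_lit 3) (.leaf ((nat_lit 3), [nat_lit 3])) (.node (nat_lit 4) (.leaf ((nat_lit 4), [nat_lit 0, nat_lit 3, nat_lit 1])) (.leaf ((nat_lit 5), [nat_lit 3, nat_lit 1])))))
 (.node (nat_lit 8) (.node (nat_lit 6) (.leaf ((nat_lit 6), [])) (.node (nat_lit 7) (.leaf ((nat_lit 0), [])) (.leaf ((nat_lit 7), [nat_lit 1, nat_lit 3, nat_lit 1])))) (.node (nat_lit 9) (.leaf ((nat_lit 8), [nat_lit 3, nat_lit 1, nat_lit 3, nat_lit 1])) (.node (nat_lit 10) (.leaf ((nat_lit 9), [])) (.leaf ((nat_lit 10), [nat_lit 1]))))))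
 (.node (nat_lit 16) (.node (nat_lit 13) (.node (nat_lit 12) (.leaf ((nat_lit 11), [nat_lit 0, nat_lit 3, nat_lit 2, nat_lit 1, nat_lit 0, nat_lit 2, nat_lit 1, nat_lit 0])) (.leaf ((nat_lit 7), [nat_lit 1, nat_lit 3, nat_lit 1]))) (.node (nat_lit 14) (.leaf ((nat_lit 0), [])) (.node (nat_lit 15) (.leaf ((nat_lit 12), [nat_lit 0, nat_lit 3, nat_lit 2, nat_lit 1, nat_lit 0, nat_lit 2, nat_lit 1, nat_lit 0])) (.leaf ((nat_lit 3), [nat_lit 0, nat_lit 3, nat_lit 1, nat_lit 0])))))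
 (.node (nat_lit 19) (.node (nat_lit 17) (.leaf ((nat_lit 13), [nat_lit 0, nat_lit 3, nat_lit 1, nat_lit 0])) (.node (nat_lit 18) (.leaf ((nat_lit 14), [nat_lit 0])) (.leaf ((nat_lit 8), [nat_lit 1, nat_lit 3, nat_lit 1])))) (.node (nat_lit 20) (.leaf ((nat_lit 12), [nat_lit 1, nat_lit 3, nat_lit 0, nat_lit 2, nat_lit 1])) (.node (nat_lit 21) (.leaf ((nat_lit 0), [nat_lit 3])) (.leaf ((nat_lit 2), [nat_lit 1, nat_lit 0, nat_lit 3, nat_lit 0])))))))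
 (.node (nat_lit 33) (.node (nat_lit 27) (.node (nat_lit 24) (.node (nat_lit 23) (.leaf ((nat_lit 15), [nat_lit 0, nat_lit 3, nat_lit 1, nat_lit 2, nat_lit 1, nat_lit 0])) (.leaf ((nat_lit 16), [nat_lit 0, nat_lit 2]))) (.node (nat_lit 25) (.leaf ((nat_lit 17), [nat_lit 1, nat_lit 0, nat_lit 3, nat_lit 2, nat_lit 1, nat_lit 0])) (.node (nat_lit 26) (.leaf ((nat_lit 18), [nat_lit 3, nat_lit 1, nat_lit 3, nat_lit 0])) (.leaf ((nat_lit 19), [nat_lit 1, nat_lit 3, nat_lit 0])))))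
 (.node (nat_lit 30) (.node (nat_lit 28) (.leaf ((nat_lit 0), [nat_lit 1, nat_lit 3, nat_lit 0])) (.node (nat_lit 29) (.leaf ((nat_lit 20), [nat_lit 3, nat_lit 1, nat_lit 3, nat_lit 2, nat_lit 1, nat_lit 0, nat_lit 2, nat_lit 1])) (.leaf ((nat_lit 4), [nat_lit 0, nat_lit 2, nat_lit 0])))) (.node (nat_lit 31) (.leaf ((nat_lit 21), [nat_lit 3, nat_lit 1, nat_lit 3, nat_lit 1])) (.node (nat_lit 32) (.leaf ((nat_lit 22), [nat_lit 1, nat_lit 0, nat_lit 3, nat_lit 2, nat_lit 0])) (.leaf ((nat_lit 23), [nat_lit 3, nat_lit 1, nat_lit 2, nat_lit 1, nat_lit 0]))))))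
 (.node (nat_lit 39) (.node (nat_lit 36) (.node (nat_lit 34) (.leaf ((nat_lit 20), [nat_lit 3, nat_lit 1, nat_lit 3, nat_lit 2, nat_lit 1, nat_lit 0, nat_lit 2, nat_lit 1, nat_lit 0])) (.node (nat_lit 35) (.leaf ((nat_lit 0), [nat_lit 1, nat_lit 3])) (.leaf ((nat_lit 24), [nat_lit 1, nat_lit 0])))) (.node (nat_lit 37) (.leaf ((nat_lit 25), [nat_lit 2, nat_lit 3, nat_lit 0, nat_lit 2, nat_lit 0])) (.node (nat_lit 38) (.leaf ((nat_lit 26), [nat_lit 2, nat_lit 3, nat_lit 1, nat_lit 0, nat_lit 2, nat_lit 1, nat_lit 0])) (.leaf ((nat_lit 11), [nat_lit 2, nat_lit 3, nat_lit 2, nat_lit 1, nat_lit 0, nat_lit 2, nat_lit 1, nat_lit 0])))))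
 (.node (nat_lit 42) (.node (nat_lit 40) (.leaf ((nat_lit 27), [nat_lit 2, nat_lit 3, nat_lit 1, nat_lit 2])) (.node (nat_lit 41) (.leaf ((nat_lit 27), [nat_lit 2, nat_lit 3, nat_lit 2, nat_lit 1, nat_lit 0, nat_lit 2, nat_lit 1])) (.leaf ((nat_lit 0), [])))) (.node (nat_lit 43) (.leaf ((nat_lit 2), [nat_lit 1, nat_lit 3, nat_lit 1])) (.node (nat_lit 44) (.leaf ((nat_lit 1), [nat_lit 1, nat_lit 3, nat_lit 1])) (.leaf ((nat_lit 28), [nat_lit 1]))))))))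
 (.node (nat_lit 67) (.node (nat_lit 56) (.node (nat_lit 50) (.node (nat_lit 47) (.node (nat_lit 46) (.leaf ((nat_lit 29), [nat_lit 0, nat_lit 3, nat_lit 2, nat_lit 1])) (.leaf ((nat_lit 29), [nat_lit 0, nat_lit 3, nat_lit 2, nat_lit 1, nat_lit 0]))) (.node (nat_lit 48) (.leaf ((nat_lit 30), [nat_lit 2, nat_lit 1, nat_lit 0, nat_lit 2, nat_lit 0])) (.node (nat_lit 49) (.leaf ((nat_lit 3), [nat_lit 1, nat_lit 3, nat_lit 1])) (.leaf ((nat_lit 28), [nat_lit 1, nat_lit 3])))))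
 (.node (nat_lit 53) (.node (nat_lit 51) (.leaf ((nat_lit 1), [nat_lit 3, nat_lit 1, nat_lit 3, nat_lit 1])) (.node (nat_lit 52) (.leaf ((nat_lit 31), [nat_lit 1, nat_lit 0, nat_lit 3, nat_lit 2, nat_lit 1])) (.leaf ((nat_lit 31), [nat_lit 1, nat_lit 0, nat_lit 3, nat_lit 2, nat_lit 0])))) (.node (nat_lit 54) (.leaf ((nat_lit 32), [nat_lit 1])) (.node (nat_lit 55) (.leaf ((nat_lit 33), [nat_lit 0, nat_lit 3, nat_lit 0])) (.leaf ((nat_lit 34), [nat_lit 3, nat_lit 1, nat_lit 3, nat_lit 1]))))))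
 (.node (nat_lit 61) (.node (nat_lit 58) (.node (nat_lit 57) (.leaf ((nat_lit 35), [nat_lit 1, nat_lit 3, nat_lit 1])) (.leaf ((nat_lit 1), []))) (.node (nat_lit 59) (.leaf ((nat_lit 26), [nat_lit 1, nat_lit 3, nat_lit 1, nat_lit 0])) (.node (nat_lit 60) (.leaf ((nat_lit 9), [nat_lit 2, nat_lit 1, nat_lit 0, nat_lit 2])) (.leaf ((nat_lit 36), [nat_lit 3, nat_lit 1, nat_lit 3, nat_lit 1])))))
 (.node (nat_lit 64) (.node (nat_lit 62) (.leaf ((nat_lit 37), [nat_lit 1, nat_lit 3, nat_lit 1, nat_lit 0])) (.node (nat_lit 63) (.leaf ((nat_lit 38), [nat_lit 0, nat_lit 3, nat_lit 2, nat_lit 1, nat_lit 0])) (.leaf ((nat_lit 26), [nat_lit 1, nat_lit 3, nat_lit 0])))) (.node (nat_lit 65) (.leaf ((nat_lit 1), [nat_lit 1])) (.node (nat_lit 66) (.leaf ((nat_lit 39), [nat_lit 2, nat_lit 1, nat_lit 0, nat_lit 2, nat_lit 0])) (.leaf ((nat_lit 40), [nat_lit 0, nat_lit 3, nat_lit 2, nat_lit 1, nat_lit 0])))))))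
 (.node (nat_lit 78) (.node (nat_lit 72) (.node (nat_lit 69) (.node (nat_lit 68) (.leaf ((nat_lit 41), [nat_lit 1, nat_lit 3, nat_lit 1])) (.leaf ((nat_lit 6), [nat_lit 1, nat_lit 0, nat_lit 3, nat_lit 2, nat_lit 1]))) (.node (nat_lit 70) (.leaf ((nat_lit 42), [nat_lit 0, nat_lit 3, nat_lit 1, nat_lit 2, nat_lit 1, nat_lit 0])) (.node (nat_lit 71) (.leaf ((nat_lit 25), [nat_lit 1, nat_lit 0, nat_lit 3, nat_lit 0])) (.leaf ((nat_lit 1), [nat_lit 1, nat_lit 0, nat_lit 3, nat_lit 1, nat_lit 2, nat_lit 1, nat_lit 0])))))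
 (.node (nat_lit 75) (.node (nat_lit 73) (.leaf ((nat_lit 28), [nat_lit 0, nat_lit 3, nat_lit 1, nat_lit 0, nat_lit 2, nat_lit 1, nat_lit 0])) (.node (nat_lit 74) (.leaf ((nat_lit 3), [nat_lit 1, nat_lit 0, nat_lit 3, nat_lit 0, nat_lit 2, nat_lit 1, nat_lit 0])) (.leaf ((nat_lit 2), [nat_lit 1, nat_lit 0, nat_lit 3, nat_lit 1, nat_lit 2, nat_lit 1, nat_lit 0])))) (.node (nat_lit 76) (.leaf ((nat_lit 18), [nat_lit 1, nat_lit 3, nat_lit 2, nat_lit 1, nat_lit 0])) (.node (nat_lit 77) (.leaf ((nat_lit 21), [nat_lit 0, nat_lit 3, nat_lit 2, nat_lit 1, nat_lit 0])) (.leaf ((nat_lit 43), [nat_lit 0, nat_lit 3, nat_lit 2, nat_lit 1, nat_lit 0, nat_lit 2, nat_lit 1, nat_lit 0]))))))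
 (.node (nat_lit 84) (.node (nat_lit 81) (.node (nat_lit 79) (.leaf ((nat_lit 31), [nat_lit 3, nat_lit 1, nat_lit 3, nat_lit 2, nat_lit 1, nat_lit 0, nat_lit 2])) (.node (nat_lit 80) (.leaf ((nat_lit 44), [nat_lit 1, nat_lit 3, nat_lit 1, nat_lit 0])) (.leaf ((nat_lit 45), [nat_lit 1, nat_lit 3, nat_lit 0])))) (.node (nat_lit 82) (.leaf ((nat_lit 15), [nat_lit 0, nat_lit 3, nat_lit 1, nat_lit 2, nat_lit 1, nat_lit 0])) (.node (nat_lit 83) (.leaf ((nat_lit 2), [nat_lit 1, nat_lit 0, nat_lit 3, nat_lit 0])) (.leaf ((nat_lit 46), [nat_lit 1, nat_lit 0])))))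
 (.node (nat_lit 87) (.node (nat_lit 85) (.leaf ((nat_lit 47), [nat_lit 1, nat_lit 0, nat_lit 3, nat_lit 2, nat_lit 1, nat_lit 0])) (.node (nat_lit 86) (.leaf ((nat_lit 48), [nat_lit 0, nat_lit 3, nat_lit 0, nat_lit 2, nat_lit 0])) (.leaf ((nat_lit 49), [nat_lit 1, nat_lit 3, nat_lit 1, nat_lit 2, nat_lit 0])))) (.node (nat_lit 88) (.leaf ((nat_lit 50), [nat_lit 0, nat_lit 3, nat_lit 1])) (.node (nat_lit 89) (.leaf ((nat_lit 51), [nat_lit 3, nat_lit 1, nat_lit 3, nat_lit 1, nat_lit 0, nat_lit 2, nat_lit 0])) (.leaf ((nat_lit 2), [nat_lit 0])))))))))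
 (.node (nat_lit 135) (.node (nat_lit 112) (.node (nat_lit 101) (.node (nat_lit 95) (.node (nat_lit 92) (.node (nat_lit 91) (.leaf ((nat_lit 29), [nat_lit 3, nat_lit 1, nat_lit 3])) (.leaf ((nat_lit 52), [nat_lit 1, nat_lit 3, nat_lit 2, nat_lit 1, nat_lit 0, nat_lit 2, nat_lit 0]))) (.node (nat_lit 93) (.leaf ((nat_lit 53), [nat_lit 0, nat_lit 3, nat_lit 2, nat_lit 0])) (.node (nat_lit 94) (.leaf ((nat_lit 13), [nat_lit 0, nat_lit 3, nat_lit 2, nat_lit 1, nat_lit 0, nat_lit 2, nat_lit 0])) (.leaf ((nat_lit 3), [nat_lit 0, nat_lit 3, nat_lit 2, nat_lit 1, nat_lit 0, nat_lit 2, nat_lit 0])))))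
 (.node (nat_lit 98) (.node (nat_lit 96) (.leaf ((nat_lit 54), [nat_lit 2, nat_lit 1, nat_lit 0, nat_lit 2])) (.node (nat_lit 97) (.leaf ((nat_lit 55), [nat_lit 1, nat_lit 3, nat_lit 1, nat_lit 0])) (.leaf ((nat_lit 56), [nat_lit 1, nat_lit 0, nat_lit 3, nat_lit 1, nat_lit 0, nat_lit 2])))) (.node (nat_lit 99) (.leaf ((nat_lit 57), [nat_lit 3, nat_lit 1, nat_lit 3, nat_lit 0, nat_lit 2])) (.node (nat_lit 100) (.leaf ((nat_lit 58), [nat_lit 0, nat_lit 3, nat_lit 1, nat_lit 2, nat_lit 1])) (.leaf ((nat_lit 54), [nat_lit 1, nat_lit 3, nat_lit 2, nat_lit 1, nat_lit 0, nat_lit 2]))))))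
 (.node (nat_lit 106) (.node (nat_lit 103) (.node (nat_lit 102) (.leaf ((nat_lit 3), [nat_lit 2, nat_lit 0])) (.leaf ((nat_lit 4), [nat_lit 2, nat_lit 3, nat_lit 1, nat_lit 2, nat_lit 0]))) (.node (nat_lit 104) (.leaf ((nat_lit 59), [nat_lit 2, nat_lit 3, nat_lit 1, nat_lit 2, nat_lit 1, nat_lit 0])) (.node (nat_lit 105) (.leaf ((nat_lit 60), [nat_lit 2, nat_lit 3, nat_lit 2, nat_lit 1, nat_lit 0, nat_lit 2, nat_lit 1])) (.leaf ((nat_lit 44), [nat_lit 2, nat_lit 3, nat_lit 1, nat_lit 0, nat_lit 2, nat_lit 0])))))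
 (.node (nat_lit 109) (.node (nat_lit 107) (.leaf ((nat_lit 41), [nat_lit 2, nat_lit 3, nat_lit 2, nat_lit 1, nat_lit 0, nat_lit 2])) (.node (nat_lit 108) (.leaf ((nat_lit 61), [nat_lit 2, nat_lit 1, nat_lit 0, nat_lit 2, nat_lit 1])) (.leaf ((nat_lit 59), [nat_lit 1, nat_lit 3, nat_lit 1, nat_lit 0])))) (.node (nat_lit 110) (.leaf ((nat_lit 4), [nat_lit 3, nat_lit 1, nat_lit 3, nat_lit 1, nat_lit 0])) (.node (nat_lit 111) (.leaf ((nat_lit 62), [nat_lit 1, nat_lit 3, nat_lit 1, nat_lit 0])) (.leaf ((nat_lit 12), [nat_lit 2, nat_lit 3, nat_lit 1, nat_lit 2])))))))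
 (.node (nat_lit 123) (.node (nat_lit 117) (.node (nat_lit 114) (.node (nat_lit 113) (.leaf ((nat_lit 63), [nat_lit 3, nat_lit 1, nat_lit 3, nat_lit 2, nat_lit 1, nat_lit 0, nat_lit 2, nat_lit 0])) (.leaf ((nat_lit 34), [nat_lit 0, nat_lit 2, nat_lit 0]))) (.node (nat_lit 115) (.leaf ((nat_lit 60), [nat_lit 3, nat_lit 0])) (.node (nat_lit 116) (.leaf ((nat_lit 62), [nat_lit 0, nat_lit 3, nat_lit 1, nat_lit 0])) (.leaf ((nat_lit 4), [nat_lit 0, nat_lit 3, nat_lit 1])))))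
 (.node (nat_lit 120) (.node (nat_lit 118) (.leaf ((nat_lit 62), [nat_lit 3, nat_lit 1, nat_lit 3, nat_lit 0])) (.node (nat_lit 119) (.leaf ((nat_lit 62), [nat_lit 3, nat_lit 1, nat_lit 3, nat_lit 1, nat_lit 0])) (.leaf ((nat_lit 64), [nat_lit 2, nat_lit 1, nat_lit 0, nat_lit 2, nat_lit 0])))) (.node (nat_lit 121) (.leaf ((nat_lit 65), [nat_lit 2, nat_lit 3, nat_lit 0, nat_lit 2])) (.node (nat_lit 122) (.leaf ((nat_lit 42), [nat_lit 3, nat_lit 1, nat_lit 3, nat_lit 1, nat_lit 2])) (.leaf ((nat_lit 63), [nat_lit 1, nat_lit 2, nat_lit 1, nat_lit 0]))))))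
 (.node (nat_lit 129) (.node (nat_lit 126) (.node (nat_lit 124) (.leaf ((nat_lit 5), [nat_lit 2, nat_lit 3, nat_lit 1, nat_lit 0, nat_lit 2, nat_lit 0])) (.node (nat_lit 125) (.leaf ((nat_lit 4), [nat_lit 2, nat_lit 3, nat_lit 1, nat_lit 0, nat_lit 2, nat_lit 1, nat_lit 0])) (.leaf ((nat_lit 66), [nat_lit 1, nat_lit 0, nat_lit 2, nat_lit 1])))) (.node (nat_lit 127) (.leaf ((nat_lit 5), [nat_lit 3, nat_lit 1, nat_lit 3, nat_lit 1])) (.node (nat_lit 128) (.leaf ((nat_lit 38), [nat_lit 1, nat_lit 0, nat_lit 3, nat_lit 2, nat_lit 1, nat_lit 0])) (.leaf ((nat_lit 37), [nat_lit 0, nat_lit 3, nat_lit 1, nat_lit 0])))))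
 (.node (nat_lit 132) (.node (nat_lit 130) (.leaf ((nat_lit 63), [nat_lit 3, nat_lit 1, nat_lit 3, nat_lit 2, nat_lit 1, nat_lit 0, nat_lit 2, nat_lit 1])) (.node (nat_lit 131) (.leaf ((nat_lit 12), [nat_lit 2, nat_lit 3, nat_lit 1, nat_lit 2, nat_lit 1, nat_lit 0])) (.leaf ((nat_lit 67), [nat_lit 1, nat_lit 0, nat_lit 2])))) (.node (nat_lit 133) (.leaf ((nat_lit 38), [nat_lit 2, nat_lit 1, nat_lit 0, nat_lit 2, nat_lit 1, nat_lit 0])) (.node (nat_lit 134) (.leaf ((nat_lit 5), [nat_lit 2, nat_lit 3, nat_lit 0, nat_lit 2, nat_lit 1])) (.leaf ((nat_lit 36), [nat_lit 2, nat_lit 3, nat_lit 0, nat_lit 2, nat_lit 1, nat_lit 0]))))))))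
 (.node (nat_lit 157) (.node (nat_lit 146) (.node (nat_lit 140) (.node (nat_lit 137) (.node (nat_lit 136) (.leaf ((nat_lit 41), [nat_lit 2, nat_lit 3, nat_lit 0, nat_lit 2, nat_lit 0])) (.leaf ((nat_lit 44), [nat_lit 2, nat_lit 3, nat_lit 2, nat_lit 1, nat_lit 0, nat_lit 2, nat_lit 0]))) (.node (nat_lit 138) (.leaf ((nat_lit 68), [nat_lit 1, nat_lit 2, nat_lit 0])) (.node (nat_lit 139) (.leaf ((nat_lit 37), [nat_lit 3, nat_lit 1, nat_lit 3, nat_lit 2, nat_lit 1, nat_lit 0, nat_lit 2, nat_lit 1])) (.leaf ((nat_lit 36), [nat_lit 0, nat_lit 3, nat_lit 2, nat_lit 1, nat_lit 0, nat_lit 2, nat_lit 1])))))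
 (.node (nat_lit 143) (.node (nat_lit 141) (.leaf ((nat_lit 5), [nat_lit 0, nat_lit 3, nat_lit 2, nat_lit 1, nat_lit 0, nat_lit 2])) (.node (nat_lit 142) (.leaf ((nat_lit 69), [nat_lit 1, nat_lit 3, nat_lit 2, nat_lit 1, nat_lit 0, nat_lit 2, nat_lit 1, nat_lit 0])) (.leaf ((nat_lit 53), [nat_lit 0, nat_lit 2, nat_lit 0])))) (.node (nat_lit 144) (.leaf ((nat_lit 50), [nat_lit 2, nat_lit 1, nat_lit 0, nat_lit 2, nat_lit 0])) (.node (nat_lit 145) (.leaf ((nat_lit 70), [nat_lit 3, nat_lit 1, nat_lit 3, nat_lit 0, nat_lit 2, nat_lit 0])) (.leaf ((nat_lit 39), [nat_lit 3, nat_lit 1, nat_lit 3, nat_lit 0, nat_lit 2, nat_lit 1, nat_lit 0]))))))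
 (.node (nat_lit 151) (.node (nat_lit 148) (.node (nat_lit 147) (.leaf ((nat_lit 71), [nat_lit 0, nat_lit 3, nat_lit 1, nat_lit 0, nat_lit 2])) (.leaf ((nat_lit 72), [nat_lit 0]))) (.node (nat_lit 149) (.leaf ((nat_lit 73), [nat_lit 1, nat_lit 3, nat_lit 1, nat_lit 0, nat_lit 2, nat_lit 1])) (.node (nat_lit 150) (.leaf ((nat_lit 5), [nat_lit 1, nat_lit 0])) (.leaf ((nat_lit 6), [nat_lit 3, nat_lit 2, nat_lit 0])))))
 (.node (nat_lit 154) (.node (nat_lit 152) (.leaf ((nat_lit 74), [nat_lit 1, nat_lit 3, nat_lit 1, nat_lit 2])) (.node (nat_lit 153) (.leaf ((nat_lit 40), [nat_lit 1, nat_lit 3, nat_lit 2, nat_lit 1])) (.leaf ((nat_lit 43), [nat_lit 1, nat_lit 0, nat_lit 3, nat_lit 1, nat_lit 0])))) (.node (nat_lit 155) (.leaf ((nat_lit 11), [nat_lit 0, nat_lit 3, nat_lit 1, nat_lit 0])) (.node (nat_lit 156) (.leaf ((nat_lit 44), [nat_lit 1, nat_lit 0, nat_lit 3, nat_lit 1, nat_lit 2, nat_lit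 1, nat_lit 0])) (.leaf ((nat_lit 74), [nat_lit 3, nat_lit 1, nat_lit 2, nat_lit 0])))))))
 (.node (nat_lit 168) (.node (nat_lit 162) (.node (nat_lit 159) (.node (nat_lit 158) (.leaf ((nat_lit 6), [nat_lit 3, nat_lit 1, nat_lit 3, nat_lit 2, nat_lit 1, nat_lit 0, nat_lit 2, nat_lit 1])) (.leaf ((nat_lit 41), [nat_lit 3, nat_lit 1, nat_lit 3, nat_lit 1]))) (.node (nat_lit 160) (.leaf ((nat_lit 10), [nat_lit 0, nat_lit 3, nat_lit 1])) (.node (nat_lit 161) (.leaf ((nat_lit 9), [nat_lit 1, nat_lit 0, nat_lit 3, nat_lit 1])) (.leaf ((nat_lit 75), [nat_lit 0, nat_lit 2, nat_lit 1])))))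
 (.node (nat_lit 165) (.node (nat_lit 163) (.leaf ((nat_lit 42), [nat_lit 1, nat_lit 0, nat_lit 3, nat_lit 1, nat_lit 2, nat_lit 0])) (.node (nat_lit 164) (.leaf ((nat_lit 65), [nat_lit 1, nat_lit 0, nat_lit 3, nat_lit 1])) (.leaf ((nat_lit 76), [nat_lit 1, nat_lit 0, nat_lit 3, nat_lit 0])))) (.node (nat_lit 166) (.leaf ((nat_lit 6), [nat_lit 1, nat_lit 3, nat_lit 2, nat_lit 1, nat_lit 0])) (.node (nat_lit 167) (.leaf ((nat_lit 6), [nat_lit 1, nat_lit 3, nat_lit 2, nat_lit 1])) (.leaf ((nat_lit 52), [nat_lit 1, nat_lit 0, nat_lit 3, nat_lit 1, nat_lit 2, nat_lit 1, nat_lit 0]))))))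
 (.node (nat_lit 174) (.node (nat_lit 171) (.node (nat_lit 169) (.leaf ((nat_lit 12), [nat_lit 3, nat_lit 1, nat_lit 3, nat_lit 0, nat_lit 2, nat_lit 1])) (.node (nat_lit 170) (.leaf ((nat_lit 8), [nat_lit 3, nat_lit 1])) (.leaf ((nat_lit 7), [nat_lit 1])))) (.node (nat_lit 172) (.leaf ((nat_lit 61), [nat_lit 2, nat_lit 3, nat_lit 1, nat_lit 0, nat_lit 2, nat_lit 0])) (.node (nat_lit 173) (.leaf ((nat_lit 36), [nat_lit 3, nat_lit 1, nat_lit 3, nat_lit 1])) (.leaf ((nat_lit 76), [nat_lit 0, nat_lit 3, nat_lit 2, nat_lit 1, nat_lit 0, nat_lit 2, nat_lit 1, nat_lit 0])))))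
 (.node (nat_lit 177) (.node (nat_lit 175) (.leaf ((nat_lit 15), [nat_lit 3, nat_lit 1, nat_lit 3])) (.node (nat_lit 176) (.leaf ((nat_lit 45), [nat_lit 2, nat_lit 3, nat_lit 2, nat_lit 1, nat_lit 0, nat_lit 2, nat_lit 1])) (.leaf ((nat_lit 44), [nat_lit 2, nat_lit 3, nat_lit 2, nat_lit 1, nat_lit 0, nat_lit 2, nat_lit 0])))) (.node (nat_lit 178) (.leaf ((nat_lit 7), [nat_lit 2, nat_lit 3, nat_lit 2, nat_lit 1, nat_lit 0, nat_lit 2, nat_lit 0])) (.node (nat_lit 179) (.leaf ((nat_lit 7), [nat_lit 2, nat_lit 3, nat_lit 1, nat_lit 2, nat_lit 1, nat_lit 0])) (.leaf ((nat_lit 72), [nat_lit 2, nat_lit 3, nat_lit 1, nat_lit 2, nat_lit 1, nat_lit 0]))))))))))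
noncomputable def n9Wd_1 : Tr (ℕ × List ℕ) := (.node (nat_lit 270) (.node (nat_lit 225) (.node (nat_lit 202) (.node (nat_lit 191) (.node (nat_lit 185) (.node (nat_lit 182) (.node (nat_lit 181) (.leaf ((nat_lit 77), [nat_lit 0, nat_lit 3])) (.leaf ((nat_lit 49), [nat_lit 2, nat_lit 3, nat_lit 1, nat_lit 0, nat_lit 2, nat_lit 0]))) (.node (nat_lit 183) (.leaf ((nat_lit 48), [nat_lit 2, nat_lit 3, nat_lit 1, nat_lit 0])) (.node (nat_lit 184) (.leaf ((nat_lit 73), [nat_lit 1, nat_lit 3, nat_lit 2, nat_lit 1, nat_lit 0, nat_lit 2, nat_lit 1])) (.leaf ((nat_lit 72), [nat_lit 2, nat_lit 0])))))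
 (.node (nat_lit 188) (.node (nat_lit 186) (.leaf ((nat_lit 7), [nat_lit 2, nat_lit 1, nat_lit 0, nat_lit 2, nat_lit 1])) (.node (nat_lit 187) (.leaf ((nat_lit 13), [nat_lit 2, nat_lit 3, nat_lit 1, nat_lit 0, nat_lit 2])) (.leaf ((nat_lit 53), [nat_lit 1, nat_lit 3, nat_lit 1, nat_lit 0, nat_lit 2])))) (.node (nat_lit 189) (.leaf ((nat_lit 52), [nat_lit 2, nat_lit 3, nat_lit 2, nat_lit 1, nat_lit 0, nat_lit 2])) (.node (nat_lit 190) (.leaf ((nat_lit 8), [nat_lit 2, nat_lit 3, nat_lit 2, nat_lit 1, nat_lit 0, nat_lit 2, nat_lit 1, nat_lit 0])) (.leaf ((nat_lit 8), [nat_lit 2, nat_lit 3, nat_lit 0, nat_lit 2, nat_lit 1]))))))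
 (.node (nat_lit 196) (.node (nat_lit 193) (.node (nat_lit 192) (.leaf ((nat_lit 51), [nat_lit 1, nat_lit 2])) (.leaf ((nat_lit 56), [nat_lit 2, nat_lit 3, nat_lit 1, nat_lit 2, nat_lit 1, nat_lit 0]))) (.node (nat_lit 194) (.leaf ((nat_lit 55), [nat_lit 0, nat_lit 3, nat_lit 1, nat_lit 0, nat_lit 2, nat_lit 1, nat_lit 0])) (.node (nat_lit 195) (.leaf ((nat_lit 78), [nat_lit 3, nat_lit 1, nat_lit 2, nat_lit 1])) (.leaf ((nat_lit 68), [nat_lit 1, nat_lit 0, nat_lit 3, nat_lit 2])))))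
 (.node (nat_lit 199) (.node (nat_lit 197) (.leaf ((nat_lit 46), [nat_lit 1, nat_lit 3, nat_lit 2, nat_lit 0])) (.node (nat_lit 198) (.leaf ((nat_lit 8), [nat_lit 1])) (.leaf ((nat_lit 9), [nat_lit 0, nat_lit 3, nat_lit 0])))) (.node (nat_lit 200) (.leaf ((nat_lit 61), [nat_lit 2, nat_lit 3, nat_lit 1, nat_lit 0, nat_lit 2, nat_lit 1, nat_lit 0])) (.node (nat_lit 201) (.leaf ((nat_lit 79), [nat_lit 3, nat_lit 1, nat_lit 3, nat_lit 2, nat_lit 1, nat_lit 0, nat_lit 2, nat_lit 0])) (.leaf ((nat_lit 53), [nat_lit 1, nat_lit 2, nat_lit 1])))))))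
 (.node (nat_lit 213) (.node (nat_lit 207) (.node (nat_lit 204) (.node (nat_lit 203) (.leaf ((nat_lit 69), [nat_lit 1, nat_lit 3, nat_lit 1, nat_lit 0])) (.leaf ((nat_lit 33), [nat_lit 0, nat_lit 2, nat_lit 0]))) (.node (nat_lit 205) (.leaf ((nat_lit 61), [nat_lit 3, nat_lit 1, nat_lit 2, nat_lit 0])) (.node (nat_lit 206) (.leaf ((nat_lit 9), [nat_lit 3, nat_lit 1, nat_lit 3, nat_lit 1])) (.leaf ((nat_lit 80), [nat_lit 3, nat_lit 1, nat_lit 3, nat_lit 2, nat_lit 1, nat_lit 0, nat_lit 2, nat_lit 1])))))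
 (.node (nat_lit 210) (.node (nat_lit 208) (.leaf ((nat_lit 45), [nat_lit 3, nat_lit 1])) (.node (nat_lit 209) (.leaf ((nat_lit 65), [nat_lit 1, nat_lit 3, nat_lit 0])) (.leaf ((nat_lit 18), [nat_lit 0, nat_lit 2, nat_lit 0])))) (.node (nat_lit 211) (.leaf ((nat_lit 79), [nat_lit 0, nat_lit 3, nat_lit 2, nat_lit 1, nat_lit 0])) (.node (nat_lit 212) (.leaf ((nat_lit 80), [nat_lit 1, nat_lit 0, nat_lit 3, nat_lit 2, nat_lit 1])) (.leaf ((nat_lit 9), [nat_lit 1, nat_lit 3, nat_lit 1]))))))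
 (.node (nat_lit 219) (.node (nat_lit 216) (.node (nat_lit 214) (.leaf ((nat_lit 81), [nat_lit 2, nat_lit 3, nat_lit 1, nat_lit 0, nat_lit 2, nat_lit 0])) (.node (nat_lit 215) (.leaf ((nat_lit 60), [nat_lit 3, nat_lit 1, nat_lit 3, nat_lit 1])) (.leaf ((nat_lit 82), [nat_lit 0])))) (.node (nat_lit 217) (.leaf ((nat_lit 10), [nat_lit 3, nat_lit 1, nat_lit 3, nat_lit 1])) (.node (nat_lit 218) (.leaf ((nat_lit 23), [nat_lit 1, nat_lit 3, nat_lit 1, nat_lit 2, nat_lit 1, nat_lit 0])) (.leaf ((nat_lit 22), [nat_lit 1, nat_lit 3, nat_lit 2, nat_lit 0])))))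
 (.node (nat_lit 222) (.node (nat_lit 220) (.leaf ((nat_lit 83), [nat_lit 1, nat_lit 3, nat_lit 1, nat_lit 0])) (.node (nat_lit 221) (.leaf ((nat_lit 28), [nat_lit 3, nat_lit 1, nat_lit 3, nat_lit 1])) (.leaf ((nat_lit 84), [nat_lit 1])))) (.node (nat_lit 223) (.leaf ((nat_lit 23), [nat_lit 2, nat_lit 3, nat_lit 1, nat_lit 0, nat_lit 2, nat_lit 1, nat_lit 0])) (.node (nat_lit 224) (.leaf ((nat_lit 10), [nat_lit 1, nat_lit 0, nat_lit 3, nat_lit 1])) (.leaf ((nat_lit 21), [nat_lit 1, nat_lit 0, nat_lit 3, nat_lit 0]))))))))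
 (.node (nat_lit 247) (.node (nat_lit 236) (.node (nat_lit 230) (.node (nat_lit 227) (.node (nat_lit 226) (.leaf ((nat_lit 65), [nat_lit 1, nat_lit 3])) (.leaf ((nat_lit 45), [nat_lit 3, nat_lit 1, nat_lit 0]))) (.node (nat_lit 228) (.leaf ((nat_lit 58), [nat_lit 1, nat_lit 0, nat_lit 2, nat_lit 1])) (.node (nat_lit 229) (.leaf ((nat_lit 22), [nat_lit 2, nat_lit 1, nat_lit 0, nat_lit 2, nat_lit 1, nat_lit 0])) (.leaf ((nat_lit 21), [nat_lit 2, nat_lit 3, nat_lit 1, nat_lit 2, nat_lit 0])))))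
 (.node (nat_lit 233) (.node (nat_lit 231) (.leaf ((nat_lit 10), [nat_lit 2, nat_lit 3, nat_lit 1, nat_lit 2, nat_lit 1, nat_lit 0])) (.node (nat_lit 232) (.leaf ((nat_lit 74), [nat_lit 3, nat_lit 1, nat_lit 3, nat_lit 2, nat_lit 1, nat_lit 0])) (.leaf ((nat_lit 52), [nat_lit 2, nat_lit 3, nat_lit 2, nat_lit 1, nat_lit 0, nat_lit 2, nat_lit 0])))) (.node (nat_lit 234) (.leaf ((nat_lit 73), [nat_lit 2, nat_lit 3, nat_lit 1, nat_lit 2, nat_lit 1, nat_lit 0])) (.node (nat_lit 235) (.leaf ((nat_lit 85), [nat_lit 2, nat_lit 3, nat_lit 2, nat_lit 0])) (.leaf ((nat_lit 24), [nat_lit 3, nat_lit 1, nat_lit 0, nat_lit 2, nat_lit 1, nat_lit 0]))))))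
 (.node (nat_lit 241) (.node (nat_lit 238) (.node (nat_lit 237) (.leaf ((nat_lit 86), [nat_lit 0, nat_lit 3, nat_lit 2, nat_lit 0])) (.leaf ((nat_lit 46), [nat_lit 1, nat_lit 3, nat_lit 2, nat_lit 1, nat_lit 0, nat_lit 2]))) (.node (nat_lit 239) (.leaf ((nat_lit 68), [nat_lit 1, nat_lit 0, nat_lit 3, nat_lit 1, nat_lit 2, nat_lit 1])) (.node (nat_lit 240) (.leaf ((nat_lit 10), [nat_lit 2, nat_lit 1, nat_lit 0, nat_lit 2, nat_lit 1])) (.leaf ((nat_lit 11), [nat_lit 2, nat_lit 3, nat_lit 1, nat_lit 2, nat_lit 1, nat_lit 0])))))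
 (.node (nat_lit 244) (.node (nat_lit 242) (.leaf ((nat_lit 83), [nat_lit 2, nat_lit 3, nat_lit 1, nat_lit 0, nat_lit 2, nat_lit 1])) (.node (nat_lit 243) (.leaf ((nat_lit 25), [nat_lit 2, nat_lit 3, nat_lit 2, nat_lit 1, nat_lit 0, nat_lit 2, nat_lit 1])) (.leaf ((nat_lit 76), [nat_lit 2, nat_lit 3, nat_lit 0, nat_lit 2, nat_lit 0])))) (.node (nat_lit 245) (.leaf ((nat_lit 76), [nat_lit 2, nat_lit 3, nat_lit 2, nat_lit 1, nat_lit 0, nat_lit 2])) (.node (nat_lit 246) (.leaf ((nat_lit 45), [nat_lit 1, nat_lit 0, nat_lit 3, nat_lit 2, nat_lit 1, nat_lit 0, nat_lit 2, nat_lit 1, nat_lit 0])) (.leaf ((nat_lit 83), [nat_lit 0, nat_lit 3, nat_lit 0])))))))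
 (.node (nat_lit 258) (.node (nat_lit 252) (.node (nat_lit 249) (.node (nat_lit 248) (.leaf ((nat_lit 11), [nat_lit 1, nat_lit 3, nat_lit 1])) (.leaf ((nat_lit 26), [nat_lit 3, nat_lit 1, nat_lit 3, nat_lit 1]))) (.node (nat_lit 250) (.leaf ((nat_lit 22), [nat_lit 3, nat_lit 2, nat_lit 0])) (.node (nat_lit 251) (.leaf ((nat_lit 17), [nat_lit 3, nat_lit 2, nat_lit 1])) (.leaf ((nat_lit 87), [nat_lit 0, nat_lit 2])))))
 (.node (nat_lit 255) (.node (nat_lit 253) (.leaf ((nat_lit 27), [nat_lit 1, nat_lit 0, nat_lit 3, nat_lit 2, nat_lit 1, nat_lit 0, nat_lit 2, nat_lit 1, nat_lit 0])) (.node (nat_lit 254) (.leaf ((nat_lit 20), [nat_lit 1, nat_lit 0, nat_lit 3, nat_lit 1, nat_lit 0, nat_lit 2, nat_lit 1])) (.leaf ((nat_lit 43), [nat_lit 1, nat_lit 3, nat_lit 2, nat_lit 1, nat_lit 0, nat_lit 2, nat_lit 1])))) (.node (nat_lit 256) (.leaf ((nat_lit 11), [nat_lit 0, nat_lit 3, nat_lit 2, nat_lit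 1, nat_lit 0, nat_lit 2, nat_lit 0])) (.node (nat_lit 257) (.leaf ((nat_lit 43), [nat_lit 1, nat_lit 0, nat_lit 3, nat_lit 2, nat_lit 1, nat_lit 0, nat_lit 2, nat_lit 0])) (.leaf ((nat_lit 53), [nat_lit 1, nat_lit 0, nat_lit 3, nat_lit 0, nat_lit 2]))))))
 (.node (nat_lit 264) (.node (nat_lit 261) (.node (nat_lit 259) (.leaf ((nat_lit 76), [nat_lit 0, nat_lit 3])) (.node (nat_lit 260) (.leaf ((nat_lit 63), [nat_lit 1, nat_lit 3, nat_lit 2, nat_lit 1])) (.leaf ((nat_lit 42), [nat_lit 1, nat_lit 3, nat_lit 1, nat_lit 2])))) (.node (nat_lit 262) (.leaf ((nat_lit 25), [nat_lit 1, nat_lit 0, nat_lit 3, nat_lit 1, nat_lit 0])) (.node (nat_lit 263) (.leaf ((nat_lit 42), [nat_lit 0, nat_lit 3, nat_lit 1, nat_lit 2, nat_lit 0])) (.leaf ((nat_lit 12), [nat_lit 1, nat_lit 0, nat_lit 3, nat_lit 1, nat_lit 2, nat_lit 1, nat_lit 0])))))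
 (.node (nat_lit 267) (.node (nat_lit 265) (.leaf ((nat_lit 53), [nat_lit 3, nat_lit 1, nat_lit 3, nat_lit 1, nat_lit 2, nat_lit 0])) (.node (nat_lit 266) (.leaf ((nat_lit 13), [nat_lit 1, nat_lit 0, nat_lit 3, nat_lit 1])) (.leaf ((nat_lit 29), [nat_lit 0, nat_lit 3, nat_lit 2, nat_lit 1])))) (.node (nat_lit 268) (.leaf ((nat_lit 17), [nat_lit 3, nat_lit 1, nat_lit 3, nat_lit 2, nat_lit 1, nat_lit 0, nat_lit 2, nat_lit 1, nat_lit 0])) (.node (nat_lit 269) (.leaf ((nat_lit 22), [nat_lit 0, nat_lit 3, nat_lit 2, nat_lit 1])) (.leaf ((nat_lit 25), [nat_lit 0, nat_lit 3, nat_lit 2, nat_lit 1, nat_lit 0, nat_lit 2, nat_lit 1, nat_lit 0])))))))))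
 (.node (nat_lit 315) (.node (nat_lit 292) (.node (nat_lit 281) (.node (nat_lit 275) (.node (nat_lit 272) (.node (nat_lit 271) (.leaf ((nat_lit 52), [nat_lit 0, nat_lit 3, nat_lit 1, nat_lit 0])) (.leaf ((nat_lit 29), [nat_lit 1, nat_lit 3, nat_lit 2, nat_lit 1]))) (.node (nat_lit 273) (.leaf ((nat_lit 13), [nat_lit 0, nat_lit 3, nat_lit 1])) (.node (nat_lit 274) (.leaf ((nat_lit 34), [nat_lit 1, nat_lit 3])) (.leaf ((nat_lit 37), [nat_lit 1, nat_lit 0, nat_lit 3])))))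
 (.node (nat_lit 278) (.node (nat_lit 276) (.leaf ((nat_lit 40), [nat_lit 1, nat_lit 0, nat_lit 3, nat_lit 1, nat_lit 2, nat_lit 0])) (.node (nat_lit 277) (.leaf ((nat_lit 48), [nat_lit 1, nat_lit 0, nat_lit 3, nat_lit 1, nat_lit 2, nat_lit 0])) (.leaf ((nat_lit 47), [nat_lit 1, nat_lit 3, nat_lit 2, nat_lit 1, nat_lit 0, nat_lit 2])))) (.node (nat_lit 279) (.leaf ((nat_lit 77), [nat_lit 3, nat_lit 2])) (.node (nat_lit 280) (.leaf ((nat_lit 39), [nat_lit 3, nat_lit 1, nat_lit 2])) (.leaf ((nat_lit 32), [nat_lit 2, nat_lit 3, nat_lit 0, nat_lit 2, nat_lit 1, nat_lit 0]))))))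
 (.node (nat_lit 286) (.node (nat_lit 283) (.node (nat_lit 282) (.leaf ((nat_lit 13), [nat_lit 1, nat_lit 0])) (.leaf ((nat_lit 14), [nat_lit 2, nat_lit 3, nat_lit 1, nat_lit 2, nat_lit 0]))) (.node (nat_lit 284) (.leaf ((nat_lit 46), [nat_lit 3, nat_lit 1, nat_lit 2])) (.node (nat_lit 285) (.leaf ((nat_lit 72), [nat_lit 0, nat_lit 3, nat_lit 1, nat_lit 0, nat_lit 2, nat_lit 0])) (.leaf ((nat_lit 77), [nat_lit 1, nat_lit 0, nat_lit 3, nat_lit 1, nat_lit 2, nat_lit 1, nat_lit 0])))))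
 (.node (nat_lit 289) (.node (nat_lit 287) (.leaf ((nat_lit 88), [nat_lit 3, nat_lit 1, nat_lit 3, nat_lit 1, nat_lit 2, nat_lit 1])) (.node (nat_lit 288) (.leaf ((nat_lit 89), [nat_lit 2, nat_lit 1])) (.leaf ((nat_lit 46), [nat_lit 1, nat_lit 0, nat_lit 3, nat_lit 2, nat_lit 1, nat_lit 0, nat_lit 2, nat_lit 1, nat_lit 0])))) (.node (nat_lit 290) (.leaf ((nat_lit 14), [nat_lit 3, nat_lit 0, nat_lit 2])) (.node (nat_lit 291) (.leaf ((nat_lit 30), [nat_lit 1, nat_lit 0, nat_lit 3, nat_lit 2])) (.leaf ((nat_lit 57), [nat_lit 0, nat_lit 3, nat_lit 2, nat_lit 1, nat_lit 0, nat_lit 2])))))))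
 (.node (nat_lit 303) (.node (nat_lit 297) (.node (nat_lit 294) (.node (nat_lit 293) (.leaf ((nat_lit 82), [nat_lit 3, nat_lit 1, nat_lit 3, nat_lit 0, nat_lit 2, nat_lit 1, nat_lit 0])) (.leaf ((nat_lit 90), [nat_lit 2, nat_lit 1, nat_lit 0, nat_lit 2, nat_lit 0]))) (.node (nat_lit 295) (.leaf ((nat_lit 72), [nat_lit 1, nat_lit 3, nat_lit 2, nat_lit 0])) (.node (nat_lit 296) (.leaf ((nat_lit 30), [nat_lit 3, nat_lit 1, nat_lit 3, nat_lit 2, nat_lit 1, nat_lit 0, nat_lit 2, nat_lit 1, nat_lit 0])) (.leaf ((nat_lit 14), [nat_lit 1, nat_lit 0, nat_lit 3, nat_lit 2, nat_lit 1, nat_lit 0, nat_lit 2, nat_lit 1])))))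
 (.node (nat_lit 300) (.node (nat_lit 298) (.leaf ((nat_lit 78), [nat_lit 0, nat_lit 3, nat_lit 0, nat_lit 2, nat_lit 1])) (.node (nat_lit 299) (.leaf ((nat_lit 91), [nat_lit 3, nat_lit 1, nat_lit 3, nat_lit 0, nat_lit 2])) (.leaf ((nat_lit 92), [nat_lit 2, nat_lit 0])))) (.node (nat_lit 301) (.leaf ((nat_lit 93), [nat_lit 3, nat_lit 1, nat_lit 3, nat_lit 0, nat_lit 2, nat_lit 0])) (.node (nat_lit 302) (.leaf ((nat_lit 67), [nat_lit 1, nat_lit 3, nat_lit 2, nat_lit 1, nat_lit 0, nat_lit 2])) (.leaf ((nat_lit 94), [nat_lit 0, nat_lit 3, nat_lit 1, nat_lit 0, nat_lit 2, nat_lit 1]))))))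
 (.node (nat_lit 309) (.node (nat_lit 306) (.node (nat_lit 304) (.leaf ((nat_lit 14), [nat_lit 1, nat_lit 3, nat_lit 0])) (.node (nat_lit 305) (.leaf ((nat_lit 67), [nat_lit 1, nat_lit 0, nat_lit 3, nat_lit 0, nat_lit 2])) (.leaf ((nat_lit 23), [nat_lit 2, nat_lit 1, nat_lit 0, nat_lit 2, nat_lit 1])))) (.node (nat_lit 307) (.leaf ((nat_lit 78), [nat_lit 1, nat_lit 0, nat_lit 3, nat_lit 2, nat_lit 1, nat_lit 0, nat_lit 2, nat_lit 1, nat_lit 0])) (.node (nat_lit 308) (.leaf ((nat_lit 57), [nat_lit 1, nat_lit 0, nat_lit 3, nat_lit 2])) (.leaf ((nat_lit 56), [nat_lit 3, nat_lit 0, nat_lit 2])))))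
 (.node (nat_lit 312) (.node (nat_lit 310) (.leaf ((nat_lit 67), [nat_lit 1, nat_lit 0, nat_lit 3, nat_lit 1, nat_lit 0, nat_lit 2, nat_lit 1, nat_lit 0])) (.node (nat_lit 311) (.leaf ((nat_lit 14), [nat_lit 1, nat_lit 3, nat_lit 1, nat_lit 0, nat_lit 2, nat_lit 0])) (.leaf ((nat_lit 31), [nat_lit 2, nat_lit 1])))) (.node (nat_lit 313) (.leaf ((nat_lit 45), [nat_lit 1, nat_lit 0, nat_lit 3, nat_lit 0])) (.node (nat_lit 314) (.leaf ((nat_lit 15), [nat_lit 0, nat_lit 3, nat_lit 1, nat_lit 2])) (.leaf ((nat_lit 31), [nat_lit 3, nat_lit 2, nat_lit 1]))))))))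
 (.node (nat_lit 337) (.node (nat_lit 326) (.node (nat_lit 320) (.node (nat_lit 317) (.node (nat_lit 316) (.leaf ((nat_lit 59), [nat_lit 3, nat_lit 1, nat_lit 3, nat_lit 1, nat_lit 0])) (.leaf ((nat_lit 38), [nat_lit 0, nat_lit 3, nat_lit 2, nat_lit 1]))) (.node (nat_lit 318) (.leaf ((nat_lit 27), [nat_lit 0, nat_lit 3, nat_lit 2, nat_lit 1, nat_lit 0, nat_lit 2, nat_lit 1, nat_lit 0])) (.node (nat_lit 319) (.leaf ((nat_lit 44), [nat_lit 1, nat_lit 3, nat_lit 1, nat_lit 0, nat_lit 2, nat_lit 1])) (.leaf ((nat_lit 31), [nat_lit 3, nat_lit 1, nat_lit 3, nat_lit 2, nat_lit 0])))))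
 (.node (nat_lit 323) (.node (nat_lit 321) (.leaf ((nat_lit 15), [nat_lit 2, nat_lit 3, nat_lit 0, nat_lit 2])) (.node (nat_lit 322) (.leaf ((nat_lit 33), [nat_lit 1, nat_lit 2, nat_lit 1])) (.leaf ((nat_lit 23), [nat_lit 0, nat_lit 2, nat_lit 0])))) (.node (nat_lit 324) (.leaf ((nat_lit 42), [nat_lit 0, nat_lit 3, nat_lit 0, nat_lit 2, nat_lit 1])) (.node (nat_lit 325) (.leaf ((nat_lit 57), [nat_lit 3, nat_lit 0])) (.leaf ((nat_lit 78), [nat_lit 2, nat_lit 3]))))))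
 (.node (nat_lit 331) (.node (nat_lit 328) (.node (nat_lit 327) (.leaf ((nat_lit 55), [nat_lit 3, nat_lit 1, nat_lit 3, nat_lit 1, nat_lit 0, nat_lit 2, nat_lit 1])) (.leaf ((nat_lit 84), [nat_lit 0, nat_lit 3, nat_lit 1]))) (.node (nat_lit 329) (.leaf ((nat_lit 16), [nat_lit 3, nat_lit 1, nat_lit 2])) (.node (nat_lit 330) (.leaf ((nat_lit 15), [nat_lit 2, nat_lit 1, nat_lit 0, nat_lit 2])) (.leaf ((nat_lit 16), [nat_lit 1, nat_lit 0, nat_lit 3, nat_lit 1])))))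
 (.node (nat_lit 334) (.node (nat_lit 332) (.leaf ((nat_lit 32), [nat_lit 3, nat_lit 1, nat_lit 3, nat_lit 0, nat_lit 2, nat_lit 1])) (.node (nat_lit 333) (.leaf ((nat_lit 54), [nat_lit 0, nat_lit 3, nat_lit 1, nat_lit 0, nat_lit 2, nat_lit 0])) (.leaf ((nat_lit 56), [nat_lit 3, nat_lit 1, nat_lit 3, nat_lit 1, nat_lit 2, nat_lit 1, nat_lit 0])))) (.node (nat_lit 335) (.leaf ((nat_lit 95), [nat_lit 3, nat_lit 1, nat_lit 3, nat_lit 2, nat_lit 1, nat_lit 0])) (.node (nat_lit 336) (.leaf ((nat_lit 96), [nat_lit 1, nat_lit 3, nat_lit 1, nat_lit 0, nat_lit 2, nat_lit 0])) (.leaf ((nat_lit 32), [nat_lit 0, nat_lit 3, nat_lit 2, nat_lit 1, nat_lit 0])))))))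
 (.node (nat_lit 348) (.node (nat_lit 342) (.node (nat_lit 339) (.node (nat_lit 338) (.leaf ((nat_lit 16), [nat_lit 3, nat_lit 1, nat_lit 3, nat_lit 2])) (.leaf ((nat_lit 51), [nat_lit 0, nat_lit 3, nat_lit 0, nat_lit 2, nat_lit 0]))) (.node (nat_lit 340) (.leaf ((nat_lit 55), [nat_lit 3, nat_lit 1, nat_lit 0, nat_lit 2, nat_lit 1])) (.node (nat_lit 341) (.leaf ((nat_lit 97), [nat_lit 2, nat_lit 3, nat_lit 2, nat_lit 1, nat_lit 0, nat_lit 2, nat_lit 1])) (.leaf ((nat_lit 98), [nat_lit 1, nat_lit 0, nat_lit 2])))))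
 (.node (nat_lit 345) (.node (nat_lit 343) (.leaf ((nat_lit 54), [nat_lit 0, nat_lit 3])) (.node (nat_lit 344) (.leaf ((nat_lit 51), [nat_lit 2, nat_lit 3, nat_lit 1, nat_lit 0])) (.leaf ((nat_lit 16), [nat_lit 1, nat_lit 0, nat_lit 3, nat_lit 1, nat_lit 0, nat_lit 2, nat_lit 1, nat_lit 0])))) (.node (nat_lit 346) (.leaf ((nat_lit 48), [nat_lit 3, nat_lit 1, nat_lit 2, nat_lit 1, nat_lit 0])) (.node (nat_lit 347) (.leaf ((nat_lit 64), [nat_lit 2, nat_lit 3, nat_lit 0, nat_lit 2])) (.leaf ((nat_lit 99), [nat_lit 0, nat_lit 2]))))))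
 (.node (nat_lit 354) (.node (nat_lit 351) (.node (nat_lit 349) (.leaf ((nat_lit 71), [nat_lit 1, nat_lit 3, nat_lit 1, nat_lit 0, nat_lit 2, nat_lit 1, nat_lit 0])) (.node (nat_lit 350) (.leaf ((nat_lit 68), [nat_lit 2, nat_lit 3, nat_lit 0, nat_lit 2, nat_lit 1, nat_lit 0])) (.leaf ((nat_lit 70), [nat_lit 1, nat_lit 0, nat_lit 3, nat_lit 1, nat_lit 2, nat_lit 1])))) (.node (nat_lit 352) (.leaf ((nat_lit 16), [nat_lit 3, nat_lit 2, nat_lit 1, nat_lit 0, nat_lit 2, nat_lit 0])) (.node (nat_lit 353) (.leaf ((nat_lit 84), [nat_lit 0, nat_lit 3, nat_lit 0, nat_lit 2])) (.leaf ((nat_lit 37), [nat_lit 1, nat_lit 2, nat_lit 1, nat_lit 0])))))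
 (.node (nat_lit 357) (.node (nat_lit 355) (.leaf ((nat_lit 18), [nat_lit 1, nat_lit 0, nat_lit 3, nat_lit 1])) (.node (nat_lit 356) (.leaf ((nat_lit 17), [nat_lit 0, nat_lit 3, nat_lit 2, nat_lit 1, nat_lit 0])) (.leaf ((nat_lit 81), [nat_lit 1, nat_lit 0, nat_lit 3, nat_lit 1, nat_lit 2, nat_lit 0])))) (.node (nat_lit 358) (.leaf ((nat_lit 52), [nat_lit 3, nat_lit 1, nat_lit 3, nat_lit 0])) (.node (nat_lit 359) (.leaf ((nat_lit 74), [nat_lit 1, nat_lit 0, nat_lit 3, nat_lit 1, nat_lit 2, nat_lit 1])) (.leaf ((nat_lit 59), [nat_lit 2, nat_lit 3, nat_lit 2]))))))))))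
noncomputable def n9Wd_2 : Tr (ℕ × List ℕ) := (.node (nat_lit 450) (.node (nat_lit 405) (.node (nat_lit 382) (.node (nat_lit 371) (.node (nat_lit 365) (.node (nat_lit 362) (.node (nat_lit 361) (.leaf ((nat_lit 19), [nat_lit 0, nat_lit 3])) (.leaf ((nat_lit 81), [nat_lit 1, nat_lit 3, nat_lit 1, nat_lit 2]))) (.node (nat_lit 363) (.leaf ((nat_lit 17), [nat_lit 1, nat_lit 3, nat_lit 2, nat_lit 1])) (.node (nat_lit 364) (.leaf ((nat_lit 100), [nat_lit 3, nat_lit 1, nat_lit 3])) (.leaf ((nat_lit 35), [nat_lit 3, nat_lit 1, nat_lit 3, nat_lit 1])))))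
 (.node (nat_lit 368) (.node (nat_lit 366) (.leaf ((nat_lit 101), [nat_lit 0, nat_lit 2])) (.node (nat_lit 367) (.leaf ((nat_lit 34), [nat_lit 1, nat_lit 0, nat_lit 3, nat_lit 2, nat_lit 1, nat_lit 0, nat_lit 2])) (.leaf ((nat_lit 33), [nat_lit 3, nat_lit 1, nat_lit 3, nat_lit 2, nat_lit 1, nat_lit 0, nat_lit 2, nat_lit 1])))) (.node (nat_lit 369) (.leaf ((nat_lit 100), [nat_lit 1, nat_lit 3, nat_lit 2, nat_lit 1, nat_lit 0, nat_lit 2, nat_lit 1])) (.node (nat_lit 370) (.leaf ((nat_lit 28), [nat_lit 3, nat_lit 1, nat_lit 3, nat_lit 2, nat_lit 1, nat_lit 0, nat_lit 2, nat_lit 1, nat_lit 0])) (.leaf ((nat_lit 83), [nat_lit 1, nat_lit 3, nat_lit 2, nat_lit 1, nat_lit 0, nat_lit 2, nat_lit 0]))))))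
 (.node (nat_lit 376) (.node (nat_lit 373) (.node (nat_lit 372) (.leaf ((nat_lit 17), [nat_lit 2, nat_lit 1, nat_lit 0, nat_lit 2, nat_lit 0])) (.leaf ((nat_lit 81), [nat_lit 1, nat_lit 0, nat_lit 3, nat_lit 1, nat_lit 2, nat_lit 0]))) (.node (nat_lit 374) (.leaf ((nat_lit 19), [nat_lit 1, nat_lit 0, nat_lit 3, nat_lit 0])) (.node (nat_lit 375) (.leaf ((nat_lit 18), [nat_lit 1, nat_lit 0, nat_lit 3, nat_lit 1])) (.leaf ((nat_lit 19), [nat_lit 3, nat_lit 1, nat_lit 3, nat_lit 1, nat_lit 0])))))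
 (.node (nat_lit 379) (.node (nat_lit 377) (.leaf ((nat_lit 19), [nat_lit 3, nat_lit 1, nat_lit 3, nat_lit 0])) (.node (nat_lit 378) (.leaf ((nat_lit 102), [nat_lit 1])) (.leaf ((nat_lit 69), [nat_lit 2, nat_lit 3, nat_lit 1, nat_lit 2, nat_lit 0])))) (.node (nat_lit 380) (.leaf ((nat_lit 43), [nat_lit 2, nat_lit 3, nat_lit 2, nat_lit 1, nat_lit 0, nat_lit 2, nat_lit 1])) (.node (nat_lit 381) (.leaf ((nat_lit 20), [nat_lit 1, nat_lit 0, nat_lit 2, nat_lit 1])) (.leaf ((nat_lit 21), [nat_lit 2, nat_lit 3, nat_lit 1, nat_lit 0, nat_lit 2, nat_lit 1, nat_lit 0])))))))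
 (.node (nat_lit 393) (.node (nat_lit 387) (.node (nat_lit 384) (.node (nat_lit 383) (.leaf ((nat_lit 18), [nat_lit 2, nat_lit 3, nat_lit 1, nat_lit 0, nat_lit 2, nat_lit 1])) (.leaf ((nat_lit 103), [nat_lit 1, nat_lit 2]))) (.node (nat_lit 385) (.leaf ((nat_lit 104), [nat_lit 2, nat_lit 3, nat_lit 1, nat_lit 2, nat_lit 0])) (.node (nat_lit 386) (.leaf ((nat_lit 82), [nat_lit 3, nat_lit 1, nat_lit 0, nat_lit 2, nat_lit 1])) (.leaf ((nat_lit 95), [nat_lit 1, nat_lit 0, nat_lit 3, nat_lit 1, nat_lit 2, nat_lit 1])))))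
 (.node (nat_lit 390) (.node (nat_lit 388) (.leaf ((nat_lit 82), [nat_lit 3, nat_lit 1, nat_lit 3, nat_lit 2, nat_lit 1, nat_lit 0, nat_lit 2])) (.node (nat_lit 389) (.leaf ((nat_lit 57), [nat_lit 0, nat_lit 3, nat_lit 2, nat_lit 0])) (.leaf ((nat_lit 19), [nat_lit 2, nat_lit 1, nat_lit 0, nat_lit 2, nat_lit 1])))) (.node (nat_lit 391) (.leaf ((nat_lit 20), [nat_lit 0, nat_lit 3, nat_lit 2, nat_lit 0])) (.node (nat_lit 392) (.leaf ((nat_lit 27), [nat_lit 1, nat_lit 3, nat_lit 1, nat_lit 0])) (.leaf ((nat_lit 69), [nat_lit 3, nat_lit 1, nat_lit 3, nat_lit 1, nat_lit 0]))))))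
 (.node (nat_lit 399) (.node (nat_lit 396) (.node (nat_lit 394) (.leaf ((nat_lit 37), [nat_lit 3, nat_lit 1])) (.node (nat_lit 395) (.leaf ((nat_lit 34), [nat_lit 0, nat_lit 3, nat_lit 1])) (.leaf ((nat_lit 105), [nat_lit 2, nat_lit 1, nat_lit 0, nat_lit 2, nat_lit 0])))) (.node (nat_lit 397) (.leaf ((nat_lit 89), [nat_lit 2, nat_lit 1, nat_lit 0, nat_lit 2])) (.node (nat_lit 398) (.leaf ((nat_lit 99), [nat_lit 3, nat_lit 2, nat_lit 1, nat_lit 0])) (.leaf ((nat_lit 105), [nat_lit 0, nat_lit 3, nat_lit 1, nat_lit 0, nat_lit 2, nat_lit 1])))))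
 (.node (nat_lit 402) (.node (nat_lit 400) (.leaf ((nat_lit 106), [nat_lit 2, nat_lit 3, nat_lit 2, nat_lit 1, nat_lit 0, nat_lit 2])) (.node (nat_lit 401) (.leaf ((nat_lit 94), [nat_lit 0, nat_lit 3, nat_lit 0, nat_lit 2, nat_lit 0])) (.leaf ((nat_lit 20), [nat_lit 1, nat_lit 2, nat_lit 1, nat_lit 0])))) (.node (nat_lit 403) (.leaf ((nat_lit 107), [nat_lit 1, nat_lit 3, nat_lit 1, nat_lit 0, nat_lit 2, nat_lit 1, nat_lit 0])) (.node (nat_lit 404) (.leaf ((nat_lit 50), [nat_lit 3, nat_lit 1, nat_lit 2])) (.leaf ((nat_lit 108), [nat_lit 3, nat_lit 0, nat_lit 2, nat_lit 0]))))))))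
 (.node (nat_lit 427) (.node (nat_lit 416) (.node (nat_lit 410) (.node (nat_lit 407) (.node (nat_lit 406) (.leaf ((nat_lit 51), [nat_lit 3, nat_lit 1, nat_lit 3, nat_lit 0, nat_lit 2])) (.leaf ((nat_lit 50), [nat_lit 0, nat_lit 3, nat_lit 0, nat_lit 2, nat_lit 1]))) (.node (nat_lit 408) (.leaf ((nat_lit 21), [nat_lit 2, nat_lit 1, nat_lit 0])) (.node (nat_lit 409) (.leaf ((nat_lit 86), [nat_lit 2, nat_lit 3, nat_lit 1, nat_lit 0, nat_lit 2, nat_lit 1])) (.leaf ((nat_lit 58), [nat_lit 1, nat_lit 3, nat_lit 2, nat_lit 0])))))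
 (.node (nat_lit 413) (.node (nat_lit 411) (.leaf ((nat_lit 85), [nat_lit 3, nat_lit 1, nat_lit 0, nat_lit 2])) (.node (nat_lit 412) (.leaf ((nat_lit 32), [nat_lit 2, nat_lit 3, nat_lit 1, nat_lit 0])) (.leaf ((nat_lit 39), [nat_lit 3, nat_lit 2, nat_lit 1, nat_lit 0, nat_lit 2, nat_lit 1, nat_lit 0])))) (.node (nat_lit 414) (.leaf ((nat_lit 22), [nat_lit 0, nat_lit 2, nat_lit 1])) (.node (nat_lit 415) (.leaf ((nat_lit 63), [nat_lit 1, nat_lit 0, nat_lit 3, nat_lit 2, nat_lit 1, nat_lit 0])) (.leaf ((nat_lit 76), [nat_lit 1, nat_lit 3, nat_lit 0]))))))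
 (.node (nat_lit 421) (.node (nat_lit 418) (.node (nat_lit 417) (.leaf ((nat_lit 65), [nat_lit 3, nat_lit 1, nat_lit 3, nat_lit 0])) (.leaf ((nat_lit 23), [nat_lit 1, nat_lit 0, nat_lit 3, nat_lit 1, nat_lit 2]))) (.node (nat_lit 419) (.leaf ((nat_lit 33), [nat_lit 1, nat_lit 0, nat_lit 3, nat_lit 1])) (.node (nat_lit 420) (.leaf ((nat_lit 109), [nat_lit 1])) (.leaf ((nat_lit 24), [nat_lit 1, nat_lit 3, nat_lit 1, nat_lit 0, nat_lit 2, nat_lit 1, nat_lit 0])))))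
 (.node (nat_lit 424) (.node (nat_lit 422) (.leaf ((nat_lit 85), [nat_lit 0, nat_lit 3, nat_lit 0, nat_lit 2])) (.node (nat_lit 423) (.leaf ((nat_lit 58), [nat_lit 3, nat_lit 2, nat_lit 1, nat_lit 0, nat_lit 2, nat_lit 1, nat_lit 0])) (.leaf ((nat_lit 107), [nat_lit 3, nat_lit 1, nat_lit 3, nat_lit 1, nat_lit 2, nat_lit 1, nat_lit 0])))) (.node (nat_lit 425) (.leaf ((nat_lit 87), [nat_lit 0, nat_lit 3, nat_lit 1, nat_lit 2, nat_lit 1])) (.node (nat_lit 426) (.leaf ((nat_lit 86), [nat_lit 1, nat_lit 2, nat_lit 1, nat_lit 0])) (.leaf ((nat_lit 58), [nat_lit 3, nat_lit 1, nat_lit 3, nat_lit 0, nat_lit 2, nat_lit 0])))))))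
 (.node (nat_lit 438) (.node (nat_lit 432) (.node (nat_lit 429) (.node (nat_lit 428) (.leaf ((nat_lit 86), [nat_lit 1, nat_lit 0, nat_lit 3, nat_lit 2, nat_lit 1, nat_lit 0, nat_lit 2, nat_lit 1, nat_lit 0])) (.leaf ((nat_lit 24), [nat_lit 3, nat_lit 1, nat_lit 3, nat_lit 2, nat_lit 1]))) (.node (nat_lit 430) (.leaf ((nat_lit 86), [nat_lit 3, nat_lit 1, nat_lit 3])) (.node (nat_lit 431) (.leaf ((nat_lit 75), [nat_lit 2, nat_lit 3, nat_lit 1, nat_lit 0, nat_lit 2, nat_lit 1])) (.leaf ((nat_lit 71), [nat_lit 1, nat_lit 0])))))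
 (.node (nat_lit 435) (.node (nat_lit 433) (.leaf ((nat_lit 49), [nat_lit 2, nat_lit 3, nat_lit 0, nat_lit 2, nat_lit 1, nat_lit 0])) (.node (nat_lit 434) (.leaf ((nat_lit 77), [nat_lit 0, nat_lit 3, nat_lit 1, nat_lit 0, nat_lit 2, nat_lit 0])) (.leaf ((nat_lit 47), [nat_lit 3, nat_lit 1, nat_lit 3, nat_lit 1, nat_lit 0, nat_lit 2, nat_lit 1])))) (.node (nat_lit 436) (.leaf ((nat_lit 24), [nat_lit 0])) (.node (nat_lit 437) (.leaf ((nat_lit 30), [nat_lit 0, nat_lit 2])) (.leaf ((nat_lit 29), [nat_lit 0, nat_lit 3, nat_lit 2, nat_lit 1, nat_lit 0]))))))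
 (.node (nat_lit 444) (.node (nat_lit 441) (.node (nat_lit 439) (.leaf ((nat_lit 108), [nat_lit 2, nat_lit 1, nat_lit 0, nat_lit 2])) (.node (nat_lit 440) (.leaf ((nat_lit 84), [nat_lit 0, nat_lit 3, nat_lit 1, nat_lit 0, nat_lit 2, nat_lit 1])) (.leaf ((nat_lit 107), [nat_lit 3, nat_lit 2, nat_lit 1, nat_lit 0])))) (.node (nat_lit 442) (.leaf ((nat_lit 30), [nat_lit 1, nat_lit 3, nat_lit 1, nat_lit 2])) (.node (nat_lit 443) (.leaf ((nat_lit 24), [nat_lit 3, nat_lit 1, nat_lit 3, nat_lit 1, nat_lit 2, nat_lit 0])) (.leaf ((nat_lit 38), [nat_lit 0, nat_lit 3, nat_lit 2, nat_lit 1, nat_lit 0])))))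
 (.node (nat_lit 447) (.node (nat_lit 445) (.leaf ((nat_lit 26), [nat_lit 1, nat_lit 0, nat_lit 3, nat_lit 2, nat_lit 1, nat_lit 0, nat_lit 2])) (.node (nat_lit 446) (.leaf ((nat_lit 25), [nat_lit 1, nat_lit 3, nat_lit 2, nat_lit 1, nat_lit 0, nat_lit 2, nat_lit 1])) (.leaf ((nat_lit 83), [nat_lit 3, nat_lit 1, nat_lit 3, nat_lit 2, nat_lit 1, nat_lit 0, nat_lit 2, nat_lit 1])))) (.node (nat_lit 448) (.leaf ((nat_lit 38), [nat_lit 3, nat_lit 1, nat_lit 0, nat_lit 2])) (.node (nat_lit 449) (.leaf ((nat_lit 59), [nat_lit 3, nat_lit 2, nat_lit 1, nat_lit 0, nat_lit 2, nat_lit 1, nat_lit 0])) (.leaf ((nat_lit 106), [nat_lit 2, nat_lit 1, nat_lit 0, nat_lit 2, nat_lit 0])))))))))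
 (.node (nat_lit 495) (.node (nat_lit 472) (.node (nat_lit 461) (.node (nat_lit 455) (.node (nat_lit 452) (.node (nat_lit 451) (.leaf ((nat_lit 92), [nat_lit 3, nat_lit 1, nat_lit 3, nat_lit 0, nat_lit 2, nat_lit 0])) (.leaf ((nat_lit 90), [nat_lit 2, nat_lit 3, nat_lit 1, nat_lit 0, nat_lit 2, nat_lit 0]))) (.node (nat_lit 453) (.leaf ((nat_lit 103), [nat_lit 3, nat_lit 1, nat_lit 3, nat_lit 0, nat_lit 2, nat_lit 1, nat_lit 0])) (.node (nat_lit 454) (.leaf ((nat_lit 110), [nat_lit 1, nat_lit 0, nat_lit 3, nat_lit 2, nat_lit 1])) (.leaf ((nat_lit 71), [nat_lit 3, nat_lit 1, nat_lit 3, nat_lit 2, nat_lit 1, nat_lit 0, nat_lit 2, nat_lit 0])))))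
 (.node (nat_lit 458) (.node (nat_lit 456) (.leaf ((nat_lit 26), [nat_lit 1, nat_lit 2, nat_lit 0])) (.node (nat_lit 457) (.leaf ((nat_lit 43), [nat_lit 3, nat_lit 0])) (.leaf ((nat_lit 69), [nat_lit 0, nat_lit 3, nat_lit 1])))) (.node (nat_lit 459) (.leaf ((nat_lit 27), [nat_lit 0, nat_lit 3, nat_lit 1, nat_lit 0])) (.node (nat_lit 460) (.leaf ((nat_lit 40), [nat_lit 3, nat_lit 2, nat_lit 0])) (.leaf ((nat_lit 40), [nat_lit 3, nat_lit 2, nat_lit 1]))))))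
 (.node (nat_lit 466) (.node (nat_lit 463) (.node (nat_lit 462) (.leaf ((nat_lit 28), [nat_lit 1, nat_lit 0, nat_lit 3, nat_lit 1, nat_lit 2, nat_lit 1, nat_lit 0])) (.leaf ((nat_lit 30), [nat_lit 3, nat_lit 0]))) (.node (nat_lit 464) (.leaf ((nat_lit 72), [nat_lit 3, nat_lit 1, nat_lit 3, nat_lit 1, nat_lit 0, nat_lit 2, nat_lit 1])) (.node (nat_lit 465) (.leaf ((nat_lit 46), [nat_lit 2, nat_lit 3])) (.leaf ((nat_lit 47), [nat_lit 0, nat_lit 3, nat_lit 2, nat_lit 1, nat_lit 0, nat_lit 2, nat_lit 1, nat_lit 0])))))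
 (.node (nat_lit 469) (.node (nat_lit 467) (.leaf ((nat_lit 101), [nat_lit 1, nat_lit 3, nat_lit 1, nat_lit 2, nat_lit 0])) (.node (nat_lit 468) (.leaf ((nat_lit 111), [nat_lit 1, nat_lit 2, nat_lit 1, nat_lit 0])) (.leaf ((nat_lit 51), [nat_lit 1, nat_lit 0, nat_lit 3, nat_lit 1, nat_lit 2, nat_lit 0])))) (.node (nat_lit 470) (.leaf ((nat_lit 54), [nat_lit 3, nat_lit 2])) (.node (nat_lit 471) (.leaf ((nat_lit 32), [nat_lit 3, nat_lit 2, nat_lit 1, nat_lit 0, nat_lit 2])) (.leaf ((nat_lit 49), [nat_lit 1, nat_lit 0, nat_lit 3, nat_lit 0, nat_lit 2])))))))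
 (.node (nat_lit 483) (.node (nat_lit 477) (.node (nat_lit 474) (.node (nat_lit 473) (.leaf ((nat_lit 102), [nat_lit 3, nat_lit 1, nat_lit 3, nat_lit 1, nat_lit 2, nat_lit 1])) (.leaf ((nat_lit 112), [nat_lit 2, nat_lit 1, nat_lit 0, nat_lit 2, nat_lit 0]))) (.node (nat_lit 475) (.leaf ((nat_lit 35), [nat_lit 2, nat_lit 3, nat_lit 1, nat_lit 2, nat_lit 1, nat_lit 0])) (.node (nat_lit 476) (.leaf ((nat_lit 100), [nat_lit 2, nat_lit 3, nat_lit 2, nat_lit 1, nat_lit 0, nat_lit 2, nat_lit 1])) (.leaf ((nat_lit 33), [nat_lit 2, nat_lit 3, nat_lit 1, nat_lit 0, nat_lit 2, nat_lit 1])))))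
 (.node (nat_lit 480) (.node (nat_lit 478) (.leaf ((nat_lit 80), [nat_lit 2, nat_lit 0])) (.node (nat_lit 479) (.leaf ((nat_lit 80), [nat_lit 1, nat_lit 0, nat_lit 2, nat_lit 1])) (.leaf ((nat_lit 95), [nat_lit 1, nat_lit 2])))) (.node (nat_lit 481) (.leaf ((nat_lit 100), [nat_lit 2, nat_lit 3, nat_lit 0, nat_lit 2, nat_lit 0])) (.node (nat_lit 482) (.leaf ((nat_lit 35), [nat_lit 2, nat_lit 3, nat_lit 2, nat_lit 1, nat_lit 0, nat_lit 2, nat_lit 1, nat_lit 0])) (.leaf ((nat_lit 34), [nat_lit 2, nat_lit 3, nat_lit 1, nat_lit 0, nat_lit 2, nat_lit 1, nat_lit 0]))))))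
 (.node (nat_lit 489) (.node (nat_lit 486) (.node (nat_lit 484) (.leaf ((nat_lit 79), [nat_lit 0, nat_lit 2])) (.node (nat_lit 485) (.leaf ((nat_lit 79), [nat_lit 1, nat_lit 2, nat_lit 1, nat_lit 0])) (.leaf ((nat_lit 97), [nat_lit 2, nat_lit 3, nat_lit 1, nat_lit 2, nat_lit 1, nat_lit 0])))) (.node (nat_lit 487) (.leaf ((nat_lit 62), [nat_lit 1, nat_lit 0, nat_lit 3, nat_lit 2, nat_lit 1, nat_lit 0, nat_lit 2, nat_lit 1, nat_lit 0])) (.node (nat_lit 488) (.leaf ((nat_lit 60), [nat_lit 1, nat_lit 3, nat_lit 2, nat_lit 1, nat_lit 0, nat_lit 2, nat_lit 1])) (.leaf ((nat_lit 59), [nat_lit 1, nat_lit 0, nat_lit 3, nat_lit 2, nat_lit 1, nat_lit 0, nat_lit 2, nat_lit 1, nat_lit 0])))))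
 (.node (nat_lit 492) (.node (nat_lit 490) (.leaf ((nat_lit 35), [nat_lit 3, nat_lit 1, nat_lit 3, nat_lit 2, nat_lit 1, nat_lit 0, nat_lit 2, nat_lit 1, nat_lit 0])) (.node (nat_lit 491) (.leaf ((nat_lit 100), [nat_lit 3, nat_lit 1, nat_lit 3, nat_lit 2, nat_lit 1, nat_lit 0, nat_lit 2, nat_lit 1])) (.leaf ((nat_lit 88), [nat_lit 2, nat_lit 1, nat_lit 0, nat_lit 2, nat_lit 0])))) (.node (nat_lit 493) (.leaf ((nat_lit 113), [nat_lit 3, nat_lit 1, nat_lit 2, nat_lit 0])) (.node (nat_lit 494) (.leaf ((nat_lit 64), [nat_lit 3, nat_lit 1, nat_lit 3, nat_lit 1, nat_lit 2, nat_lit 1, nat_lit 0])) (.leaf ((nat_lit 88), [nat_lit 0, nat_lit 3, nat_lit 2]))))))))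
 (.node (nat_lit 517) (.node (nat_lit 506) (.node (nat_lit 500) (.node (nat_lit 497) (.node (nat_lit 496) (.leaf ((nat_lit 64), [nat_lit 2, nat_lit 3, nat_lit 1, nat_lit 0, nat_lit 2])) (.leaf ((nat_lit 48), [nat_lit 3, nat_lit 1, nat_lit 0, nat_lit 2, nat_lit 1, nat_lit 0]))) (.node (nat_lit 498) (.leaf ((nat_lit 35), [nat_lit 0])) (.node (nat_lit 499) (.leaf ((nat_lit 41), [nat_lit 0, nat_lit 3, nat_lit 0])) (.leaf ((nat_lit 40), [nat_lit 3, nat_lit 1, nat_lit 3, nat_lit 2, nat_lit 1, nat_lit 0, nat_lit 2, nat_lit 0])))))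
 (.node (nat_lit 503) (.node (nat_lit 501) (.leaf ((nat_lit 74), [nat_lit 2, nat_lit 3, nat_lit 1, nat_lit 0, nat_lit 2, nat_lit 1, nat_lit 0])) (.node (nat_lit 502) (.leaf ((nat_lit 36), [nat_lit 1, nat_lit 0, nat_lit 3, nat_lit 1])) (.leaf ((nat_lit 61), [nat_lit 0, nat_lit 3, nat_lit 1, nat_lit 2])))) (.node (nat_lit 504) (.leaf ((nat_lit 110), [nat_lit 0, nat_lit 2])) (.node (nat_lit 505) (.leaf ((nat_lit 94), [nat_lit 3, nat_lit 1, nat_lit 3, nat_lit 2, nat_lit 1, nat_lit 0, nat_lit 2])) (.leaf ((nat_lit 73), [nat_lit 3, nat_lit 1, nat_lit 3, nat_lit 1, nat_lit 2, nat_lit 1]))))))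
 (.node (nat_lit 511) (.node (nat_lit 508) (.node (nat_lit 507) (.leaf ((nat_lit 93), [nat_lit 0, nat_lit 3, nat_lit 1, nat_lit 0, nat_lit 2, nat_lit 1])) (.leaf ((nat_lit 54), [nat_lit 1, nat_lit 3, nat_lit 0]))) (.node (nat_lit 509) (.leaf ((nat_lit 58), [nat_lit 0, nat_lit 3, nat_lit 0, nat_lit 2])) (.node (nat_lit 510) (.leaf ((nat_lit 36), [nat_lit 1])) (.leaf ((nat_lit 39), [nat_lit 2, nat_lit 3, nat_lit 2, nat_lit 0])))))
 (.node (nat_lit 514) (.node (nat_lit 512) (.leaf ((nat_lit 70), [nat_lit 0, nat_lit 3, nat_lit 0, nat_lit 2])) (.node (nat_lit 513) (.leaf ((nat_lit 68), [nat_lit 3, nat_lit 1, nat_lit 3, nat_lit 2, nat_lit 1, nat_lit 0])) (.leaf ((nat_lit 94), [nat_lit 1, nat_lit 0, nat_lit 3, nat_lit 1, nat_lit 0, nat_lit 2, nat_lit 1])))) (.node (nat_lit 515) (.leaf ((nat_lit 106), [nat_lit 0, nat_lit 3, nat_lit 1, nat_lit 0, nat_lit 2, nat_lit 0])) (.node (nat_lit 516) (.leaf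 ((nat_lit 85), [nat_lit 0, nat_lit 3, nat_lit 0, nat_lit 2])) (.leaf ((nat_lit 68), [nat_lit 3, nat_lit 1, nat_lit 3, nat_lit 2, nat_lit 1, nat_lit 0, nat_lit 2, nat_lit 0])))))))
 (.node (nat_lit 528) (.node (nat_lit 522) (.node (nat_lit 519) (.node (nat_lit 518) (.leaf ((nat_lit 71), [nat_lit 1, nat_lit 0, nat_lit 3, nat_lit 1, nat_lit 2, nat_lit 0])) (.leaf ((nat_lit 39), [nat_lit 2, nat_lit 3, nat_lit 0, nat_lit 2]))) (.node (nat_lit 520) (.leaf ((nat_lit 71), [nat_lit 3, nat_lit 1, nat_lit 3])) (.node (nat_lit 521) (.leaf ((nat_lit 110), [nat_lit 1, nat_lit 0, nat_lit 3, nat_lit 1, nat_lit 0, nat_lit 2, nat_lit 1, nat_lit 0])) (.leaf ((nat_lit 70), [nat_lit 1, nat_lit 0, nat_lit 2, nat_lit 1])))))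
 (.node (nat_lit 525) (.node (nat_lit 523) (.leaf ((nat_lit 90), [nat_lit 3, nat_lit 1, nat_lit 3, nat_lit 0, nat_lit 2, nat_lit 0])) (.node (nat_lit 524) (.leaf ((nat_lit 92), [nat_lit 1, nat_lit 0, nat_lit 3, nat_lit 1, nat_lit 0, nat_lit 2])) (.leaf ((nat_lit 109), [nat_lit 2, nat_lit 3])))) (.node (nat_lit 526) (.leaf ((nat_lit 103), [nat_lit 0, nat_lit 3, nat_lit 0, nat_lit 2])) (.node (nat_lit 527) (.leaf ((nat_lit 70), [nat_lit 3, nat_lit 2, nat_lit 1, nat_lit 0, nat_lit 2, nat_lit 0])) (.leaf ((nat_lit 41), [nat_lit 2, nat_lit 0]))))))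
 (.node (nat_lit 534) (.node (nat_lit 531) (.node (nat_lit 529) (.leaf ((nat_lit 114), [nat_lit 0, nat_lit 3, nat_lit 2, nat_lit 0])) (.node (nat_lit 530) (.leaf ((nat_lit 95), [nat_lit 2, nat_lit 3, nat_lit 1, nat_lit 2, nat_lit 1])) (.leaf ((nat_lit 82), [nat_lit 2, nat_lit 3, nat_lit 0])))) (.node (nat_lit 532) (.leaf ((nat_lit 101), [nat_lit 1, nat_lit 3, nat_lit 1, nat_lit 0, nat_lit 2])) (.node (nat_lit 533) (.leaf ((nat_lit 47), [nat_lit 0, nat_lit 3, nat_lit 1, nat_lit 0, nat_lit 2, nat_lit 1])) (.leaf ((nat_lit 81), [nat_lit 2, nat_lit 1, nat_lit 0, nat_lit 2, nat_lit 1])))))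
 (.node (nat_lit 537) (.node (nat_lit 535) (.leaf ((nat_lit 66), [nat_lit 2, nat_lit 1, nat_lit 0, nat_lit 2])) (.node (nat_lit 536) (.leaf ((nat_lit 106), [nat_lit 3, nat_lit 0, nat_lit 2, nat_lit 0])) (.leaf ((nat_lit 111), [nat_lit 3, nat_lit 1, nat_lit 2, nat_lit 1, nat_lit 0])))) (.node (nat_lit 538) (.leaf ((nat_lit 104), [nat_lit 0, nat_lit 3, nat_lit 1, nat_lit 0, nat_lit 2, nat_lit 1])) (.node (nat_lit 539) (.leaf ((nat_lit 92), [nat_lit 1, nat_lit 3, nat_lit 1, nat_lit 0, nat_lit 2])) (.leaf ((nat_lit 47), [nat_lit 1, nat_lit 2]))))))))))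
noncomputable def n9Wd_3 : Tr (ℕ × List ℕ) := (.node (nat_lit 630) (.node (nat_lit 585) (.node (nat_lit 562) (.node (nat_lit 551) (.node (nat_lit 545) (.node (nat_lit 542) (.node (nat_lit 541) (.leaf ((nat_lit 87), [nat_lit 1, nat_lit 3, nat_lit 1, nat_lit 0, nat_lit 2, nat_lit 1, nat_lit 0])) (.leaf ((nat_lit 75), [nat_lit 3, nat_lit 1, nat_lit 3, nat_lit 2, nat_lit 1, nat_lit 0, nat_lit 2, nat_lit 1, nat_lit 0]))) (.node (nat_lit 543) (.leaf ((nat_lit 98), [nat_lit 1, nat_lit 0, nat_lit 3, nat_lit 0, nat_lit 2])) (.node (nat_lit 544) (.leaf ((nat_lit 115), [nat_lit 3, nat_lit 1])) (.leaf ((nat_lit 111), [nat_lit 2, nat_lit 3, nat_lit 2, nat_lit 1, nat_lit 0, nat_lit 2, nat_lit 1])))))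
 (.node (nat_lit 548) (.node (nat_lit 546) (.leaf ((nat_lit 48), [nat_lit 2, nat_lit 1, nat_lit 0, nat_lit 2, nat_lit 1])) (.node (nat_lit 547) (.leaf ((nat_lit 115), [nat_lit 0, nat_lit 3, nat_lit 0])) (.leaf ((nat_lit 101), [nat_lit 3, nat_lit 1, nat_lit 3, nat_lit 2, nat_lit 1, nat_lit 0])))) (.node (nat_lit 549) (.leaf ((nat_lit 97), [nat_lit 1, nat_lit 3, nat_lit 1, nat_lit 0, nat_lit 2, nat_lit 1])) (.node (nat_lit 550) (.leaf ((nat_lit 102), [nat_lit 3, nat_lit 1, nat_lit 3, nat_lit 1, nat_lit 0])) (.leaf ((nat_lit 49), [nat_lit 1, nat_lit 0, nat_lit 3, nat_lit 1, nat_lit 0, nat_lit 2, nat_lit 1, nat_lit 0]))))))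
 (.node (nat_lit 556) (.node (nat_lit 553) (.node (nat_lit 552) (.leaf ((nat_lit 100), [nat_lit 1, nat_lit 0])) (.leaf ((nat_lit 75), [nat_lit 1, nat_lit 3, nat_lit 1, nat_lit 0, nat_lit 2, nat_lit 1, nat_lit 0]))) (.node (nat_lit 554) (.leaf ((nat_lit 87), [nat_lit 3, nat_lit 1, nat_lit 3, nat_lit 2])) (.node (nat_lit 555) (.leaf ((nat_lit 96), [nat_lit 3, nat_lit 2, nat_lit 1, nat_lit 0, nat_lit 2])) (.leaf ((nat_lit 116), [nat_lit 2, nat_lit 3, nat_lit 0, nat_lit 2, nat_lit 1, nat_lit 0])))))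
 (.node (nat_lit 559) (.node (nat_lit 557) (.leaf ((nat_lit 89), [nat_lit 3, nat_lit 1, nat_lit 3, nat_lit 2, nat_lit 0])) (.node (nat_lit 558) (.leaf ((nat_lit 49), [nat_lit 0, nat_lit 2])) (.leaf ((nat_lit 50), [nat_lit 1, nat_lit 3, nat_lit 1, nat_lit 0, nat_lit 2, nat_lit 1, nat_lit 0])))) (.node (nat_lit 560) (.leaf ((nat_lit 107), [nat_lit 2, nat_lit 3, nat_lit 2, nat_lit 1, nat_lit 0])) (.node (nat_lit 561) (.leaf ((nat_lit 84), [nat_lit 3, nat_lit 1, nat_lit 3, nat_lit 1, nat_lit 2, nat_lit 1])) (.leaf ((nat_lit 108), [nat_lit 2, nat_lit 3])))))))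
 (.node (nat_lit 573) (.node (nat_lit 567) (.node (nat_lit 564) (.node (nat_lit 563) (.leaf ((nat_lit 109), [nat_lit 3, nat_lit 2, nat_lit 1, nat_lit 0, nat_lit 2])) (.leaf ((nat_lit 93), [nat_lit 1, nat_lit 2, nat_lit 1]))) (.node (nat_lit 565) (.leaf ((nat_lit 84), [nat_lit 2, nat_lit 3, nat_lit 1, nat_lit 0, nat_lit 2])) (.node (nat_lit 566) (.leaf ((nat_lit 108), [nat_lit 0, nat_lit 3, nat_lit 2, nat_lit 1, nat_lit 0, nat_lit 2, nat_lit 1])) (.leaf ((nat_lit 50), [nat_lit 3, nat_lit 1, nat_lit 3, nat_lit 1, nat_lit 2, nat_lit 1])))))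
 (.node (nat_lit 570) (.node (nat_lit 568) (.leaf ((nat_lit 85), [nat_lit 3, nat_lit 1, nat_lit 3, nat_lit 1, nat_lit 2])) (.node (nat_lit 569) (.leaf ((nat_lit 66), [nat_lit 3, nat_lit 0, nat_lit 2])) (.leaf ((nat_lit 94), [nat_lit 1, nat_lit 2, nat_lit 1])))) (.node (nat_lit 571) (.leaf ((nat_lit 116), [nat_lit 0, nat_lit 3, nat_lit 0])) (.node (nat_lit 572) (.leaf ((nat_lit 88), [nat_lit 3, nat_lit 2, nat_lit 1, nat_lit 0])) (.leaf ((nat_lit 64), [nat_lit 3, nat_lit 2, nat_lit 1, nat_lit 0, nat_lit 2, nat_lit 1, nat_lit 0]))))))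
 (.node (nat_lit 579) (.node (nat_lit 576) (.node (nat_lit 574) (.leaf ((nat_lit 97), [nat_lit 2, nat_lit 3, nat_lit 2, nat_lit 1, nat_lit 0, nat_lit 2])) (.node (nat_lit 575) (.leaf ((nat_lit 55), [nat_lit 3, nat_lit 1, nat_lit 0, nat_lit 2])) (.leaf ((nat_lit 79), [nat_lit 2, nat_lit 1])))) (.node (nat_lit 577) (.leaf ((nat_lit 103), [nat_lit 2, nat_lit 1, nat_lit 0, nat_lit 2])) (.node (nat_lit 578) (.leaf ((nat_lit 109), [nat_lit 3, nat_lit 0, nat_lit 2, nat_lit 1, nat_lit 0])) (.leaf ((nat_lit 92), [nat_lit 3, nat_lit 1, nat_lit 2, nat_lit 1])))))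
 (.node (nat_lit 582) (.node (nat_lit 580) (.leaf ((nat_lit 117), [nat_lit 0, nat_lit 3, nat_lit 1, nat_lit 0, nat_lit 2])) (.node (nat_lit 581) (.leaf ((nat_lit 98), [nat_lit 1, nat_lit 0, nat_lit 3, nat_lit 1, nat_lit 0, nat_lit 2])) (.leaf ((nat_lit 55), [nat_lit 3, nat_lit 1, nat_lit 3, nat_lit 1, nat_lit 0, nat_lit 2, nat_lit 0])))) (.node (nat_lit 583) (.leaf ((nat_lit 118), [nat_lit 2, nat_lit 3, nat_lit 0, nat_lit 2])) (.node (nat_lit 584) (.leaf ((nat_lit 102), [nat_lit 1, nat_lit 0, nat_lit 3, nat_lit 1, nat_lit 0, nat_lit 2])) (.leaf ((nat_lit 91), [nat_lit 3, nat_lit 1, nat_lit 3, nat_lit 1, nat_lit 2, nat_lit 0]))))))))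
 (.node (nat_lit 607) (.node (nat_lit 596) (.node (nat_lit 590) (.node (nat_lit 587) (.node (nat_lit 586) (.leaf ((nat_lit 95), [nat_lit 3, nat_lit 2, nat_lit 1])) (.leaf ((nat_lit 56), [nat_lit 1, nat_lit 3, nat_lit 2, nat_lit 1]))) (.node (nat_lit 588) (.leaf ((nat_lit 80), [nat_lit 0, nat_lit 3, nat_lit 2, nat_lit 1, nat_lit 0])) (.node (nat_lit 589) (.leaf ((nat_lit 109), [nat_lit 3, nat_lit 1, nat_lit 3, nat_lit 2, nat_lit 1, nat_lit 0, nat_lit 2, nat_lit 0])) (.leaf ((nat_lit 103), [nat_lit 2, nat_lit 3, nat_lit 0, nat_lit 2])))))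
 (.node (nat_lit 593) (.node (nat_lit 591) (.leaf ((nat_lit 90), [nat_lit 0, nat_lit 3, nat_lit 0, nat_lit 2, nat_lit 1])) (.node (nat_lit 592) (.leaf ((nat_lit 114), [nat_lit 3, nat_lit 1, nat_lit 0, nat_lit 2])) (.leaf ((nat_lit 96), [nat_lit 3, nat_lit 1, nat_lit 3, nat_lit 2])))) (.node (nat_lit 594) (.leaf ((nat_lit 56), [nat_lit 2, nat_lit 1, nat_lit 0])) (.node (nat_lit 595) (.leaf ((nat_lit 106), [nat_lit 3, nat_lit 1, nat_lit 3, nat_lit 0, nat_lit 2, nat_lit 0])) (.leaf ((nat_lit 66), [nat_lit 2, nat_lit 3, nat_lit 1, nat_lit 2, nat_lit 1]))))))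
 (.node (nat_lit 601) (.node (nat_lit 598) (.node (nat_lit 597) (.leaf ((nat_lit 112), [nat_lit 0, nat_lit 3, nat_lit 2])) (.leaf ((nat_lit 113), [nat_lit 1, nat_lit 0, nat_lit 3, nat_lit 2, nat_lit 1, nat_lit 0, nat_lit 2]))) (.node (nat_lit 599) (.leaf ((nat_lit 112), [nat_lit 3, nat_lit 2, nat_lit 1, nat_lit 0, nat_lit 2])) (.node (nat_lit 600) (.leaf ((nat_lit 57), [nat_lit 2, nat_lit 0])) (.leaf ((nat_lit 80), [nat_lit 3, nat_lit 2, nat_lit 0])))))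
 (.node (nat_lit 604) (.node (nat_lit 602) (.leaf ((nat_lit 79), [nat_lit 1, nat_lit 3, nat_lit 2, nat_lit 1])) (.node (nat_lit 603) (.leaf ((nat_lit 61), [nat_lit 1, nat_lit 3, nat_lit 1, nat_lit 2])) (.leaf ((nat_lit 60), [nat_lit 3, nat_lit 1, nat_lit 3])))) (.node (nat_lit 605) (.leaf ((nat_lit 81), [nat_lit 2, nat_lit 3, nat_lit 1, nat_lit 0, nat_lit 2, nat_lit 1, nat_lit 0])) (.node (nat_lit 606) (.leaf ((nat_lit 91), [nat_lit 1, nat_lit 0])) (.leaf ((nat_lit 119), [nat_lit 1, nat_lit 0, nat_lit 3, nat_lit 0])))))))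
 (.node (nat_lit 618) (.node (nat_lit 612) (.node (nat_lit 609) (.node (nat_lit 608) (.leaf ((nat_lit 91), [nat_lit 3, nat_lit 1, nat_lit 0, nat_lit 2])) (.leaf ((nat_lit 102), [nat_lit 0, nat_lit 3, nat_lit 2, nat_lit 1]))) (.node (nat_lit 610) (.leaf ((nat_lit 88), [nat_lit 3, nat_lit 1, nat_lit 3, nat_lit 2, nat_lit 0])) (.node (nat_lit 611) (.leaf ((nat_lit 77), [nat_lit 1, nat_lit 0, nat_lit 3, nat_lit 2, nat_lit 1, nat_lit 0, nat_lit 2, nat_lit 1])) (.leaf ((nat_lit 60), [nat_lit 2, nat_lit 0])))))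
 (.node (nat_lit 615) (.node (nat_lit 613) (.leaf ((nat_lit 117), [nat_lit 1, nat_lit 0, nat_lit 3, nat_lit 2, nat_lit 1, nat_lit 0, nat_lit 2])) (.node (nat_lit 614) (.leaf ((nat_lit 97), [nat_lit 3, nat_lit 1, nat_lit 3, nat_lit 2])) (.leaf ((nat_lit 101), [nat_lit 2, nat_lit 3, nat_lit 2, nat_lit 1, nat_lit 0, nat_lit 2, nat_lit 0])))) (.node (nat_lit 616) (.leaf ((nat_lit 91), [nat_lit 3, nat_lit 1, nat_lit 3, nat_lit 0])) (.node (nat_lit 617) (.leaf ((nat_lit 78), [nat_lit 0, nat_lit 3, nat_lit 1, nat_lit 0, nat_lit 2, nat_lit 1])) (.leaf ((nat_lit 62), [nat_lit 1]))))))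
 (.node (nat_lit 624) (.node (nat_lit 621) (.node (nat_lit 619) (.leaf ((nat_lit 96), [nat_lit 2, nat_lit 1, nat_lit 0, nat_lit 2])) (.node (nat_lit 620) (.leaf ((nat_lit 98), [nat_lit 0, nat_lit 3, nat_lit 2, nat_lit 0])) (.leaf ((nat_lit 75), [nat_lit 3, nat_lit 1, nat_lit 0, nat_lit 2, nat_lit 1, nat_lit 0])))) (.node (nat_lit 622) (.leaf ((nat_lit 87), [nat_lit 0, nat_lit 3, nat_lit 0, nat_lit 2])) (.node (nat_lit 623) (.leaf ((nat_lit 107), [nat_lit 3, nat_lit 1, nat_lit 3, nat_lit 0, nat_lit 2, nat_lit 1])) (.leaf ((nat_lit 63), [nat_lit 2, nat_lit 1])))))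
 (.node (nat_lit 627) (.node (nat_lit 625) (.leaf ((nat_lit 64), [nat_lit 1, nat_lit 0, nat_lit 3, nat_lit 2, nat_lit 1, nat_lit 0])) (.node (nat_lit 626) (.leaf ((nat_lit 113), [nat_lit 0, nat_lit 3, nat_lit 2, nat_lit 1, nat_lit 0, nat_lit 2, nat_lit 1, nat_lit 0])) (.leaf ((nat_lit 116), [nat_lit 3, nat_lit 1, nat_lit 2, nat_lit 1])))) (.node (nat_lit 628) (.leaf ((nat_lit 89), [nat_lit 3, nat_lit 1, nat_lit 3, nat_lit 1, nat_lit 2, nat_lit 1])) (.node (nat_lit 629) (.leaf ((nat_lit 116), [nat_lit 2, nat_lit 3, nat_lit 0])) (.leaf ((nat_lit 104), [nat_lit 2])))))))))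
 (.node (nat_lit 675) (.node (nat_lit 652) (.node (nat_lit 641) (.node (nat_lit 635) (.node (nat_lit 632) (.node (nat_lit 631) (.leaf ((nat_lit 111), [nat_lit 3, nat_lit 1, nat_lit 3, nat_lit 2, nat_lit 1, nat_lit 0, nat_lit 2, nat_lit 0])) (.leaf ((nat_lit 112), [nat_lit 1, nat_lit 0, nat_lit 3, nat_lit 1, nat_lit 0, nat_lit 2, nat_lit 0]))) (.node (nat_lit 633) (.leaf ((nat_lit 66), [nat_lit 3, nat_lit 1, nat_lit 3, nat_lit 1, nat_lit 2, nat_lit 1])) (.node (nat_lit 634) (.leaf ((nat_lit 109), [nat_lit 3, nat_lit 2, nat_lit 1, nat_lit 0, nat_lit 2, nat_lit 1, nat_lit 0])) (.leaf ((nat_lit 108), [nat_lit 2, nat_lit 3, nat_lit 1, nat_lit 0])))))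
 (.node (nat_lit 638) (.node (nat_lit 636) (.leaf ((nat_lit 65), [nat_lit 2, nat_lit 1, nat_lit 0, nat_lit 2, nat_lit 1])) (.node (nat_lit 637) (.leaf ((nat_lit 99), [nat_lit 1, nat_lit 3, nat_lit 1, nat_lit 0, nat_lit 2, nat_lit 1, nat_lit 0])) (.leaf ((nat_lit 89), [nat_lit 3, nat_lit 0, nat_lit 2, nat_lit 0])))) (.node (nat_lit 639) (.leaf ((nat_lit 110), [nat_lit 3, nat_lit 1, nat_lit 2])) (.node (nat_lit 640) (.leaf ((nat_lit 66), [nat_lit 3, nat_lit 2, nat_lit 1])) (.leaf ((nat_lit 85), [nat_lit 3, nat_lit 1, nat_lit 3, nat_lit 1, nat_lit 0, nat_lit 2, nat_lit 1]))))))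
 (.node (nat_lit 646) (.node (nat_lit 643) (.node (nat_lit 642) (.leaf ((nat_lit 74), [nat_lit 2, nat_lit 1, nat_lit 0, nat_lit 2, nat_lit 1])) (.leaf ((nat_lit 67), [nat_lit 3, nat_lit 1, nat_lit 3, nat_lit 0, nat_lit 2, nat_lit 0]))) (.node (nat_lit 644) (.leaf ((nat_lit 93), [nat_lit 2, nat_lit 3, nat_lit 2, nat_lit 1])) (.node (nat_lit 645) (.leaf ((nat_lit 73), [nat_lit 2, nat_lit 3, nat_lit 1, nat_lit 2, nat_lit 1])) (.leaf ((nat_lit 70), [nat_lit 3, nat_lit 1, nat_lit 0, nat_lit 2, nat_lit 1])))))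
 (.node (nat_lit 649) (.node (nat_lit 647) (.leaf ((nat_lit 103), [nat_lit 0, nat_lit 3, nat_lit 1, nat_lit 0, nat_lit 2, nat_lit 1, nat_lit 0])) (.node (nat_lit 648) (.leaf ((nat_lit 108), [nat_lit 2, nat_lit 1, nat_lit 0, nat_lit 2, nat_lit 1])) (.leaf ((nat_lit 73), [nat_lit 2, nat_lit 1, nat_lit 0, nat_lit 2])))) (.node (nat_lit 650) (.leaf ((nat_lit 94), [nat_lit 1, nat_lit 3, nat_lit 1, nat_lit 2, nat_lit 1, nat_lit 0])) (.node (nat_lit 651) (.leaf ((nat_lit 67), [nat_lit 3, nat_lit 0, nat_lit 2, nat_lit 0])) (.leaf ((nat_lit 93), [nat_lit 3, nat_lit 2])))))))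
 (.node (nat_lit 663) (.node (nat_lit 657) (.node (nat_lit 654) (.node (nat_lit 653) (.leaf ((nat_lit 105), [nat_lit 1, nat_lit 0, nat_lit 3, nat_lit 2])) (.leaf ((nat_lit 107), [nat_lit 2, nat_lit 1, nat_lit 0, nat_lit 2, nat_lit 0]))) (.node (nat_lit 655) (.leaf ((nat_lit 98), [nat_lit 2, nat_lit 3, nat_lit 1, nat_lit 0, nat_lit 2, nat_lit 1])) (.node (nat_lit 656) (.leaf ((nat_lit 96), [nat_lit 1, nat_lit 3, nat_lit 0, nat_lit 2, nat_lit 0])) (.leaf ((nat_lit 87), [nat_lit 3, nat_lit 2])))))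
 (.node (nat_lit 660) (.node (nat_lit 658) (.leaf ((nat_lit 105), [nat_lit 1, nat_lit 0, nat_lit 3, nat_lit 1, nat_lit 2, nat_lit 1])) (.node (nat_lit 659) (.leaf ((nat_lit 93), [nat_lit 3, nat_lit 1, nat_lit 2, nat_lit 1])) (.leaf ((nat_lit 69), [nat_lit 1])))) (.node (nat_lit 661) (.leaf ((nat_lit 112), [nat_lit 1, nat_lit 3, nat_lit 1])) (.node (nat_lit 662) (.leaf ((nat_lit 111), [nat_lit 1, nat_lit 0, nat_lit 3, nat_lit 1, nat_lit 0, nat_lit 2, nat_lit 1])) (.leaf ((nat_lit 106), [nat_lit 1, nat_lit 3, nat_lit 2, nat_lit 1, nat_lit 0, nat_lit 2]))))))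
 (.node (nat_lit 669) (.node (nat_lit 666) (.node (nat_lit 664) (.leaf ((nat_lit 75), [nat_lit 2, nat_lit 3, nat_lit 2, nat_lit 1, nat_lit 0, nat_lit 2, nat_lit 1, nat_lit 0])) (.node (nat_lit 665) (.leaf ((nat_lit 86), [nat_lit 3, nat_lit 1, nat_lit 3, nat_lit 0, nat_lit 2])) (.leaf ((nat_lit 83), [nat_lit 2, nat_lit 0])))) (.node (nat_lit 667) (.leaf ((nat_lit 105), [nat_lit 2, nat_lit 3, nat_lit 1, nat_lit 0, nat_lit 2, nat_lit 1])) (.node (nat_lit 668) (.leaf ((nat_lit 110), [nat_lit 3, nat_lit 1, nat_lit 3, nat_lit 1, nat_lit 2])) (.leaf ((nat_lit 89), [nat_lit 0, nat_lit 3, nat_lit 2, nat_lit 1, nat_lit 0, nat_lit 2])))))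
 (.node (nat_lit 672) (.node (nat_lit 670) (.leaf ((nat_lit 119), [nat_lit 0, nat_lit 3, nat_lit 2, nat_lit 0])) (.node (nat_lit 671) (.leaf ((nat_lit 90), [nat_lit 1, nat_lit 3, nat_lit 2, nat_lit 1])) (.leaf ((nat_lit 77), [nat_lit 1, nat_lit 0, nat_lit 2, nat_lit 1])))) (.node (nat_lit 673) (.leaf ((nat_lit 110), [nat_lit 1, nat_lit 3, nat_lit 1])) (.node (nat_lit 674) (.leaf ((nat_lit 105), [nat_lit 3, nat_lit 1, nat_lit 3, nat_lit 1, nat_lit 0, nat_lit 2])) (.leaf ((nat_lit 99), [nat_lit 2, nat_lit 3, nat_lit 0]))))))))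
 (.node (nat_lit 697) (.node (nat_lit 686) (.node (nat_lit 680) (.node (nat_lit 677) (.node (nat_lit 676) (.leaf ((nat_lit 118), [nat_lit 1, nat_lit 0, nat_lit 3, nat_lit 1, nat_lit 2, nat_lit 1])) (.leaf ((nat_lit 99), [nat_lit 3, nat_lit 1, nat_lit 2, nat_lit 1]))) (.node (nat_lit 678) (.leaf ((nat_lit 78), [nat_lit 2, nat_lit 1, nat_lit 0, nat_lit 2, nat_lit 1])) (.node (nat_lit 679) (.leaf ((nat_lit 82), [nat_lit 1, nat_lit 0, nat_lit 3, nat_lit 2, nat_lit 1, nat_lit 0, nat_lit 2])) (.leaf ((nat_lit 104), [nat_lit 1, nat_lit 0, nat_lit 3, nat_lit 1, nat_lit 2, nat_lit 1, nat_lit 0])))))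
 (.node (nat_lit 683) (.node (nat_lit 681) (.leaf ((nat_lit 114), [nat_lit 3, nat_lit 1, nat_lit 3, nat_lit 2])) (.node (nat_lit 682) (.leaf ((nat_lit 99), [nat_lit 3, nat_lit 1, nat_lit 2, nat_lit 0])) (.leaf ((nat_lit 118), [nat_lit 1, nat_lit 0, nat_lit 3, nat_lit 1, nat_lit 2, nat_lit 0])))) (.node (nat_lit 684) (.leaf ((nat_lit 118), [nat_lit 1, nat_lit 2, nat_lit 1])) (.node (nat_lit 685) (.leaf ((nat_lit 88), [nat_lit 2, nat_lit 3, nat_lit 0, nat_lit 2])) (.leaf ((nat_lit 116), [nat_lit 3, nat_lit 1, nat_lit 3, nat_lit 1, nat_lit 2, nat_lit 0]))))))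
 (.node (nat_lit 691) (.node (nat_lit 688) (.node (nat_lit 687) (.leaf ((nat_lit 113), [nat_lit 1, nat_lit 0, nat_lit 3, nat_lit 1, nat_lit 0, nat_lit 2])) (.leaf ((nat_lit 98), [nat_lit 3, nat_lit 1, nat_lit 3, nat_lit 2, nat_lit 1, nat_lit 0]))) (.node (nat_lit 689) (.leaf ((nat_lit 117), [nat_lit 3, nat_lit 1, nat_lit 3, nat_lit 1, nat_lit 2, nat_lit 1, nat_lit 0])) (.node (nat_lit 690) (.leaf ((nat_lit 114), [nat_lit 1, nat_lit 2, nat_lit 1])) (.leaf ((nat_lit 91), [nat_lit 0, nat_lit 3, nat_lit 0])))))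
 (.node (nat_lit 694) (.node (nat_lit 692) (.leaf ((nat_lit 119), [nat_lit 3, nat_lit 2, nat_lit 1, nat_lit 0, nat_lit 2, nat_lit 1, nat_lit 0])) (.node (nat_lit 693) (.leaf ((nat_lit 118), [nat_lit 3, nat_lit 2, nat_lit 1, nat_lit 0])) (.leaf ((nat_lit 90), [nat_lit 1, nat_lit 3])))) (.node (nat_lit 695) (.leaf ((nat_lit 119), [nat_lit 0, nat_lit 3, nat_lit 2, nat_lit 1, nat_lit 0, nat_lit 2])) (.node (nat_lit 696) (.leaf ((nat_lit 116), [nat_lit 0, nat_lit 2])) (.leaf ((nat_lit 95), [nat_lit 0, nat_lit 3, nat_lit 0])))))))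
 (.node (nat_lit 708) (.node (nat_lit 702) (.node (nat_lit 699) (.node (nat_lit 698) (.leaf ((nat_lit 114), [nat_lit 1, nat_lit 3, nat_lit 1, nat_lit 0, nat_lit 2, nat_lit 1])) (.leaf ((nat_lit 104), [nat_lit 3, nat_lit 2, nat_lit 1, nat_lit 0, nat_lit 2]))) (.node (nat_lit 700) (.leaf ((nat_lit 92), [nat_lit 1, nat_lit 3, nat_lit 2, nat_lit 0])) (.node (nat_lit 701) (.leaf ((nat_lit 104), [nat_lit 0, nat_lit 3, nat_lit 2])) (.leaf ((nat_lit 115), [nat_lit 2, nat_lit 0])))))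
 (.node (nat_lit 705) (.node (nat_lit 703) (.leaf ((nat_lit 102), [nat_lit 3, nat_lit 1, nat_lit 2, nat_lit 0])) (.node (nat_lit 704) (.leaf ((nat_lit 118), [nat_lit 0, nat_lit 3, nat_lit 2])) (.leaf ((nat_lit 119), [nat_lit 3, nat_lit 1, nat_lit 3, nat_lit 1, nat_lit 2, nat_lit 1, nat_lit 0])))) (.node (nat_lit 706) (.leaf ((nat_lit 96), [nat_lit 3, nat_lit 1, nat_lit 3, nat_lit 2, nat_lit 1])) (.node (nat_lit 707) (.leaf ((nat_lit 114), [nat_lit 3, nat_lit 1, nat_lit 0, nat_lit 2, nat_lit 1])) (.leaf ((nat_lit 117), [nat_lit 2, nat_lit 1, nat_lit 0, nat_lit 2, nat_lit 1, nat_lit 0]))))))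
 (.node (nat_lit 714) (.node (nat_lit 711) (.node (nat_lit 709) (.leaf ((nat_lit 97), [nat_lit 0, nat_lit 3, nat_lit 2, nat_lit 0])) (.node (nat_lit 710) (.leaf ((nat_lit 117), [nat_lit 2, nat_lit 3, nat_lit 0])) (.leaf ((nat_lit 115), [nat_lit 2, nat_lit 3, nat_lit 1, nat_lit 2, nat_lit 1])))) (.node (nat_lit 712) (.leaf ((nat_lit 112), [nat_lit 3, nat_lit 2, nat_lit 1, nat_lit 0, nat_lit 2, nat_lit 1, nat_lit 0])) (.node (nat_lit 713) (.leaf ((nat_lit 113), [nat_lit 1, nat_lit 0, nat_lit 3, nat_lit 2, nat_lit 1, nat_lit 0, nat_lit 2, nat_lit 1, nat_lit 0])) (.leaf ((nat_lit 113), [nat_lit 1, nat_lit 2, nat_lit 1])))))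
 (.node (nat_lit 717) (.node (nat_lit 715) (.leaf ((nat_lit 101), [nat_lit 0, nat_lit 3, nat_lit 1, nat_lit 0])) (.node (nat_lit 716) (.leaf ((nat_lit 115), [nat_lit 1, nat_lit 0, nat_lit 3, nat_lit 1, nat_lit 2, nat_lit 1])) (.leaf ((nat_lit 117), [nat_lit 3, nat_lit 1, nat_lit 0, nat_lit 2, nat_lit 1])))) (.node (nat_lit 718) (.leaf ((nat_lit 111), [nat_lit 2, nat_lit 3, nat_lit 0, nat_lit 2])) (.node (nat_lit 719) (.leaf ((nat_lit 115), [nat_lit 3, nat_lit 1, nat_lit 2, nat_lit 1, nat_lit 0])) (.leaf ((nat_lit 119), [nat_lit 2]))))))))))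
noncomputable def n9Wd : Tr (ℕ × List ℕ) := (.node (nat_lit 360) (.node (nat_lit 180) n9Wd_0 n9Wd_1) (.node (nat_lit 540) n9Wd_2 n9Wd_3))
theorem n9q : allR 0 120 (dblChk (nat_lit 4) (nat_lit 15) (MG.gl42L.map Lev.b) MG.gl42T n9T n9Dd (topN MG.gl42L) 120 5 n9PA n9Wd) = true := by decide +kernel
noncomputable def n9Ws : List (List ℕ) := [[]]
noncomputable def n9CE : Tr (ℕ × List ℕ × List (List ℕ)) := (.node (nat_lit 2) (.node (nat_lit 1) (.leaf ((nat_lit 0), [], [])) (.leaf ((nat_lit 12), [nat_lit 5, nat_lit 4, nat_lit 5, nat_lit 1, nat_lit 4, nat_lit 2, nat_lit 1, nat_lit 0, nat_lit 3, nat_lit 1], [[nat_lit 1, nat_lit 3, nat_lit 2, nat_lit 0], [nat_lit 2, nat_lit 99, nat_lit 0]]))) (.node (nat_lit 3) (.leaf ((nat_lit 14), [nat_lit 1, nat_lit 5, nat_lit 3, nat_lit 2, nat_lit 1, nat_lit 4, nat_lit 3, nat_lit 2, nat_lit 3, nat_lit 0], [[nat_lit 2, nat_lit 3, nat_lit 1, nat_lit 0], [nat_lit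 99, nat_lit 0, nat_lit 99, nat_lit 3]])) (.node (nat_lit 4) (.leaf ((nat_lit 14), [nat_lit 5, nat_lit 1, nat_lit 5, nat_lit 2, nat_lit 0, nat_lit 4, nat_lit 2, nat_lit 0, nat_lit 3, nat_lit 0], [[nat_lit 3, nat_lit 2, nat_lit 1], [nat_lit 2, nat_lit 3, nat_lit 99, nat_lit 0]])) (.leaf ((nat_lit 14), [nat_lit 5, nat_lit 4, nat_lit 5, nat_lit 1, nat_lit 0, nat_lit 4, nat_lit 2, nat_lit 1, nat_lit 3, nat_lit 0], [[nat_lit 2, nat_lit 99, nat_lit 3, nat_lit 0], [nat_lit 3, nat_lit 2, nat_lit 0]])))))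
theorem n9s : allR 0 5 (stepChk (nat_lit 4) (nat_lit 15) (MG.gl42L.map Lev.b) MG.gl42T n9T n9T n9T n9Dd AW [nat_lit 12, nat_lit 13, nat_lit 14] n9Ws n9CE) = true := by decide +kernel
noncomputable def n9iI : Tr (List ℕ) := (.node (nat_lit 2) (.node (nat_lit 1) (.leaf [nat_lit 1, nat_lit 0, nat_lit 2, nat_lit 1, nat_lit 0]) (.leaf [nat_lit 2, nat_lit 1, nat_lit 0, nat_lit 2, nat_lit 1, nat_lit 0])) (.node (nat_lit 3) (.leaf [nat_lit 2, nat_lit 3, nat_lit 2, nat_lit 0]) (.leaf [nat_lit 2, nat_lit 3, nat_lit 2])))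
theorem n9ih : MG.gl32R.all (fun w => eqB (n9L.map Lev.b) (apF (fun y => apL (nat_lit 4) (nat_lit 15) n9T (n9iI.get y)) w) fun a => a) = true := by decide +kernel
noncomputable def n9iD : Tr (List ℕ) := (.node (nat_lit 2) (.node (nat_lit 1) (.leaf [nat_lit 3, nat_lit 2]) (.leaf [nat_lit 1, nat_lit 3, nat_lit 2, nat_lit 1])) (.node (nat_lit 3) (.leaf [nat_lit 1, nat_lit 0]) (.leaf [nat_lit 1, nat_lit 0, nat_lit 3, nat_lit 1, nat_lit 0])))
theorem n9is : band (surChk (nat_lit 4) (nat_lit 15) (n9L.map Lev.b) n9T n9iI (topN MG.gl32L) n9iD (topN n9L)) (Nat.ble (chainOrd 7 MG.gl32L) (chainOrd 15 n9L)) = true := by decide +kernel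
theorem s9 {G : Type*} [Group G] [Finite G] {X : Type*} [MulAction G X] {pt : ℕ → X} (C : Ch G 15 (nat_lit 4) (nat_lit 15) pt MG.gl42T MG.gl42L) {H : Subgroup G} (h : PJ C.lets.e AW 9 H) :
    ∃ K : Subgroup G, Nonempty (H ≃* K) ∧ (Q K ∨ ∃ j ∈ [nat_lit 12, nat_lit 13, nat_lit 14], PJ C.lets.e AW j K) := by
  obtain ⟨K, e, hK⟩ := h.conj
  refine ⟨K, e, ?_⟩
  obtain ⟨N, D, S⟩ := (C.gen (lets_words C.lets n9E n9w) n9chain n9sd n9tc)
  have le := C.le_AW D hK n9slp n9a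
  have hD := lets_words C.lets n9dE n9dw
  refine (C.step D.lets D.lets D.lets hD le_normalizer le_rfl (C.dbl D.lets hD n9q (by decide +kernel)) (Ws := n9Ws) (fun u hu => ⟨[], List.mem_singleton_self _, u, hu, (one_mul u).symm⟩) (by decide +kernel) n9s le).imp_left fun h => ?_
  rw [le_antisymm h le]
  exact .inr (.inr (.inr (.inr (((MG.gl32std fm2 (ZMod.card 2)).isoW D n9ih n9is).map MulEquiv.symm))))
noncomputable def n10t0 : ℕ := (nat_lit 0x87cbde9a1256430)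
noncomputable def n10t1 : ℕ := (nat_lit 0x9acb78ed3421560)
noncomputable def n10t2 : ℕ := (nat_lit 0xdecb6534a978120)
noncomputable def n10t3 : ℕ := (nat_lit 0x92c35e071a4bd68)
noncomputable def n10T : Tr ℕ := (.node (nat_lit 2) (.node (nat_lit 1) (.leaf n10t0) (.leaf n10t1)) (.node (nat_lit 3) (.leaf n10t2) (.leaf n10t3)))
noncomputable def n10R : Tr (List ℕ) := (.node (nat_lit 4) (.node (nat_lit 2) (.node (nat_lit 1) (.leaf [nat_lit 0, nat_lit 2, nat_lit 0, nat_lit 2, nat_lit 0, nat_lit 2]) (.leaf [nat_lit 0, nat_lit 1])) (.node (nat_lit 3) (.leaf [nat_lit 0, nat_lit 0, nat_lit 0]) (.leaf [nat_lit 3, nat_lit 0, nat_lit 3, nat_lit 0, nat_lit 3, nat_lit 0])))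
 (.node (nat_lit 6) (.node (nat_lit 5) (.leaf [nat_lit 2, nat_lit 2]) (.leaf [nat_lit 1, nat_lit 2, nat_lit 3, nat_lit 2, nat_lit 0, nat_lit 2, nat_lit 3, nat_lit 2, nat_lit 1, nat_lit 3])) (.node (nat_lit 7) (.leaf [nat_lit 3, nat_lit 2, nat_lit 3, nat_lit 2, nat_lit 3, nat_lit 2, nat_lit 3, nat_lit 2]) (.leaf [nat_lit 3, nat_lit 3]))))
noncomputable def n10L0 : Lev := ⟨(nat_lit 0), (nat_lit 4), (nat_lit 0x10300040102040202030103040100), (nat_lit 0x20300030402010403030402040300),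
 (.node (nat_lit 2) (.node (nat_lit 1) (.leaf (nat_lit 0x10000000400000002000100020002000600000001000500000000))
 (.leaf (nat_lit 0x300010000000500030000000100000000000100060001000700030000)))
 (.node (nat_lit 3) (.leaf (nat_lit 0x100000000000200030001000100030002000000040000000200030000))
 (.leaf (nat_lit 0x300010000000000050002000000070003000400060001000000020001)))),
 (.node (nat_lit 2) (.node (nat_lit 1) (.leaf (nat_lit 0x100000000000303000000000201000100000202000200000200000000000100000004000000000000))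
 (.leaf (nat_lit 0x101000101000000000101000101000000000101000000000000000101000101000101000101000101000000)))
 (.node (nat_lit 3) (.leaf (nat_lit 0x400000000000000000603000400000400000400000001000005000000000401000000000505000401000000))
 (.leaf (nat_lit 0x700000700000000000000000700000302000000000302000700000602000304000701000000000509000701))))⟩
noncomputable def n10L1 : Lev := ⟨(nat_lit 1), (nat_lit 3), (nat_lit 0x10200000302030101010202030000), (nat_lit 0x30300000203020301020201010000),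
 (.node (nat_lit 1) (.leaf (nat_lit 0x20000000000010002000100000000000000020002000100010000))
 (.node (nat_lit 2) (.leaf (nat_lit 0x300000000000000010000000100030003000300000000000100010000))
 (.leaf (nat_lit 0x400050000000000000002000000030001000300020001000000010000)))),
 (.node (nat_lit 1) (.leaf (nat_lit 0x200000000000000000100000201000100000000000000000000000201000201000100000100000000))
 (.node (nat_lit 2) (.leaf (nat_lit 0x101000000000000000000000101000000000101000101000101000101000000000000000101000101000000))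
 (.leaf (nat_lit 0x3000401000000000000000000000001000000000400000401000401000003000401000000000401000000))))⟩
noncomputable def n10L : List Lev := [n10L0, n10L1]
noncomputable def n10E : Tr (List ℕ) := (.node (nat_lit 2) (.node (nat_lit 1) (.leaf [nat_lit 4, nat_lit 5, nat_lit 2, nat_lit 1, nat_lit 4, nat_lit 2, nat_lit 1, nat_lit 0, nat_lit 3, nat_lit 1, nat_lit 0]) (.leaf [nat_lit 2, nat_lit 5, nat_lit 4, nat_lit 0, nat_lit 3, nat_lit 2, nat_lit 1, nat_lit 0])) (.node (nat_lit 3) (.leaf [nat_lit 0, nat_lit 5, nat_lit 2, nat_lit 4, nat_lit 0, nat_lit 3, nat_lit 2]) (.leaf [nat_lit 2, nat_lit 5, nat_lit 3, nat_lit 2, nat_lit 1, nat_lit 4, nat_lit 1, nat_lit 0, nat_lit 3, nat_lit 1, nat_lit 0])))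
theorem n10w_0 : n10T.all2 (fun c w => isProd 15 (nat_lit 4) (nat_lit 15) MG.gl42T c w) n10E = true := by decide +kernel
theorem n10w : n10T.all2 (fun c w => isProd 15 (nat_lit 4) (nat_lit 15) MG.gl42T c w) n10E = true := n10w_0
theorem n10lev0 : levChk 15 (nat_lit 4) (nat_lit 15) n10T n10R n10L0 n10L1.N = true := by decide +kernel
theorem n10lev1 : levChk 15 (nat_lit 4) (nat_lit 15) n10T n10R n10L1 0 = true := by decide +kernel
theorem n10chain : Chain 15 (nat_lit 4) (nat_lit 15) n10T n10R n10L := chain_cons n10lev0 <| chain_one n10lev1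
theorem n10sd : band (selChk n10T n10T (topN n10L)) (n10R.all fun w => eqB (MG.gl42L.map Lev.b) (apL (nat_lit 4) (nat_lit 15) n10T w) fun a => a) = true := by decide +kernel
theorem n10tc : tchainChk 15 (nat_lit 4) (nat_lit 15) n10T n10L = true := by decide +kernel
noncomputable def n10s0 : ℕ := (nat_lit 0x62c87b1504aed93)
noncomputable def n10s1 : ℕ := (nat_lit 0xb1c2394a6857e0d)
noncomputable def n10s2 : ℕ := (nat_lit 0x32c941bae750d86)
noncomputable def n10s3 : ℕ := (nat_lit 0x20ce7953648abd1)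
noncomputable def n10s4 : ℕ := (nat_lit 0x9acb78ed3421560)
noncomputable def n10s5 : ℕ := (nat_lit 0x87cbde9a1256430)
noncomputable def n10s6 : ℕ := (nat_lit 0x56cb43de87129a0)
noncomputable def n10s7 : ℕ := (nat_lit 0xdecb6534a978120)
noncomputable def n10s8 : ℕ := (nat_lit 0x92c35e071a4bd68)
noncomputable def n10S : Tr ℕ := (.node (nat_lit 4) (.node (nat_lit 2) (.node (nat_lit 1) (.leaf n10s0) (.leaf n10s1)) (.node (nat_lit 3) (.leaf n10s2) (.leaf n10s3)))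
 (.node (nat_lit 6) (.node (nat_lit 5) (.leaf n10s4) (.leaf n10s5)) (.node (nat_lit 7) (.leaf n10s6) (.node (nat_lit 8) (.leaf n10s7) (.leaf n10s8)))))
noncomputable def n10D : Tr (List ℕ) := (.node (nat_lit 4) (.node (nat_lit 2) (.node (nat_lit 1) (.leaf []) (.leaf [])) (.node (nat_lit 3) (.leaf [nat_lit 0, nat_lit 0, nat_lit 0]) (.leaf [nat_lit 1, nat_lit 1])))
 (.node (nat_lit 6) (.node (nat_lit 5) (.leaf [nat_lit 2, nat_lit 1, nat_lit 2, nat_lit 1, nat_lit 0]) (.leaf [nat_lit 2, nat_lit 3, nat_lit 0, nat_lit 3, nat_lit 0])) (.node (nat_lit 7) (.leaf [nat_lit 0, nat_lit 1, nat_lit 2]) (.node (nat_lit 8) (.leaf [nat_lit 6, nat_lit 5]) (.leaf [nat_lit 6, nat_lit 2, nat_lit 6, nat_lit 5])))))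
theorem n10slp : slpChk 15 (nat_lit 4) (nat_lit 15) n10S n10D 2 7 = true := by decide +kernel
theorem n10a : band (selChk n10T n10S (2 + 7)) (allB 2 fun j => anyL (AW.get 10) fun w => isProd 15 (nat_lit 4) (nat_lit 15) MG.gl42T (n10S.get j) w) = true := by decide +kernel
noncomputable def n10Dd : Tr ℕ := (.node (nat_lit 2) (.node (nat_lit 1) (.leaf (nat_lit 0xedcba9876543210)) (.leaf (nat_lit 0xcdeb89a74563012))) (.node (nat_lit 3) (.leaf (nat_lit 0xeac8d9b76240513)) (.node (nat_lit 4) (.leaf (nat_lit 0xecdb6453a897201)) (.leaf (nat_lit 0x987adcbe4563012)))))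
noncomputable def n10dE : Tr (List ℕ) := (.node (nat_lit 2) (.node (nat_lit 1) (.leaf []) (.leaf [nat_lit 0])) (.node (nat_lit 3) (.leaf [nat_lit 4]) (.node (nat_lit 4) (.leaf [nat_lit 5]) (.leaf [nat_lit 3, nat_lit 0]))))
theorem n10dw_0 : n10Dd.all2 (fun c w => isProd 15 (nat_lit 4) (nat_lit 15) MG.gl42T c w) n10dE = true := by decide +kernel
theorem n10dw : n10Dd.all2 (fun c w => isProd 15 (nat_lit 4) (nat_lit 15) MG.gl42T c w) n10dE = true := n10dw_0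
noncomputable def n10PA : Tr (ℕ × List ℕ) := (.node (nat_lit 60) (.node (nat_lit 30) (.node (nat_lit 15) (.node (nat_lit 7) (.node (nat_lit 3) (.node (nat_lit 1) (.leaf ((nat_lit 0), [])) (.node (nat_lit 2) (.leaf ((nat_lit 1), [])) (.leaf ((nat_lit 1), [nat_lit 3, nat_lit 0]))))
 (.node (nat_lit 5) (.node (nat_lit 4) (.leaf ((nat_lit 1), [nat_lit 3, nat_lit 2, nat_lit 1])) (.leaf ((nat_lit 1), [nat_lit 1, nat_lit 3, nat_lit 1]))) (.node (nat_lit 6) (.leaf ((nat_lit 2), [])) (.leaf ((nat_lit 3), [])))))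
 (.node (nat_lit 11) (.node (nat_lit 9) (.node (nat_lit 8) (.leaf ((nat_lit 1), [nat_lit 0, nat_lit 2, nat_lit 3])) (.leaf ((nat_lit 1), [nat_lit 1, nat_lit 3]))) (.node (nat_lit 10) (.leaf ((nat_lit 4), [])) (.leaf ((nat_lit 4), [nat_lit 3, nat_lit 1, nat_lit 2, nat_lit 1]))))
 (.node (nat_lit 13) (.node (nat_lit 12) (.leaf ((nat_lit 1), [nat_lit 0, nat_lit 2, nat_lit 0])) (.leaf ((nat_lit 4), [nat_lit 3, nat_lit 1, nat_lit 2, nat_lit 3, nat_lit 0]))) (.node (nat_lit 14) (.leaf ((nat_lit 1), [nat_lit 2, nat_lit 0])) (.leaf ((nat_lit 1), [nat_lit 2, nat_lit 3, nat_lit 2]))))))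
 (.node (nat_lit 22) (.node (nat_lit 18) (.node (nat_lit 16) (.leaf ((nat_lit 1), [nat_lit 2, nat_lit 3, nat_lit 2, nat_lit 0])) (.node (nat_lit 17) (.leaf ((nat_lit 4), [nat_lit 1, nat_lit 2, nat_lit 1, nat_lit 3, nat_lit 0])) (.leaf ((nat_lit 4), [nat_lit 1, nat_lit 3, nat_lit 2, nat_lit 0]))))
 (.node (nat_lit 20) (.node (nat_lit 19) (.leaf ((nat_lit 4), [nat_lit 2, nat_lit 3, nat_lit 0])) (.leaf ((nat_lit 4), [nat_lit 1, nat_lit 2, nat_lit 1]))) (.node (nat_lit 21) (.leaf ((nat_lit 1), [nat_lit 1])) (.leaf ((nat_lit 3), [nat_lit 1, nat_lit 2])))))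
 (.node (nat_lit 26) (.node (nat_lit 24) (.node (nat_lit 23) (.leaf ((nat_lit 4), [nat_lit 2, nat_lit 1, nat_lit 3, nat_lit 0, nat_lit 2])) (.leaf ((nat_lit 4), [nat_lit 2, nat_lit 1]))) (.node (nat_lit 25) (.leaf ((nat_lit 1), [nat_lit 1, nat_lit 3, nat_lit 0])) (.leaf ((nat_lit 4), [nat_lit 2, nat_lit 1, nat_lit 3, nat_lit 2, nat_lit 0]))))
 (.node (nat_lit 28) (.node (nat_lit 27) (.leaf ((nat_lit 1), [nat_lit 2, nat_lit 0, nat_lit 3])) (.leaf ((nat_lit 1), [nat_lit 3, nat_lit 0, nat_lit 2, nat_lit 1]))) (.node (nat_lit 29) (.leaf ((nat_lit 4), [nat_lit 3, nat_lit 1, nat_lit 2])) (.leaf ((nat_lit 4), [nat_lit 0, nat_lit 3, nat_lit 1, nat_lit 2, nat_lit 1])))))))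
 (.node (nat_lit 45) (.node (nat_lit 37) (.node (nat_lit 33) (.node (nat_lit 31) (.leaf ((nat_lit 1), [nat_lit 1, nat_lit 2, nat_lit 3, nat_lit 1])) (.node (nat_lit 32) (.leaf ((nat_lit 1), [nat_lit 1, nat_lit 2, nat_lit 1])) (.leaf ((nat_lit 3), [nat_lit 3]))))
 (.node (nat_lit 35) (.node (nat_lit 34) (.leaf ((nat_lit 3), [nat_lit 3, nat_lit 1])) (.leaf ((nat_lit 1), [nat_lit 2]))) (.node (nat_lit 36) (.leaf ((nat_lit 1), [nat_lit 3, nat_lit 2, nat_lit 1, nat_lit 3])) (.leaf ((nat_lit 1), [nat_lit 3, nat_lit 1, nat_lit 2])))))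
 (.node (nat_lit 41) (.node (nat_lit 39) (.node (nat_lit 38) (.leaf ((nat_lit 1), [nat_lit 1, nat_lit 3, nat_lit 2, nat_lit 3])) (.leaf ((nat_lit 1), [nat_lit 3, nat_lit 0, nat_lit 2]))) (.node (nat_lit 40) (.leaf ((nat_lit 4), [nat_lit 2, nat_lit 1, nat_lit 3, nat_lit 0])) (.leaf ((nat_lit 2), [nat_lit 0]))))
 (.node (nat_lit 43) (.node (nat_lit 42) (.leaf ((nat_lit 4), [nat_lit 3, nat_lit 1])) (.leaf ((nat_lit 3), [nat_lit 0, nat_lit 2]))) (.node (nat_lit 44) (.leaf ((nat_lit 4), [nat_lit 2, nat_lit 0])) (.leaf ((nat_lit 4), [nat_lit 0]))))))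
 (.node (nat_lit 52) (.node (nat_lit 48) (.node (nat_lit 46) (.leaf ((nat_lit 1), [nat_lit 3, nat_lit 2])) (.node (nat_lit 47) (.leaf ((nat_lit 2), [nat_lit 2, nat_lit 1, nat_lit 3, nat_lit 0])) (.leaf ((nat_lit 3), [nat_lit 2, nat_lit 1]))))
 (.node (nat_lit 50) (.node (nat_lit 49) (.leaf ((nat_lit 4), [nat_lit 1, nat_lit 2, nat_lit 0])) (.leaf ((nat_lit 1), [nat_lit 3, nat_lit 2, nat_lit 3, nat_lit 2, nat_lit 1]))) (.node (nat_lit 51) (.leaf ((nat_lit 4), [nat_lit 0, nat_lit 3, nat_lit 2, nat_lit 0])) (.leaf ((nat_lit 1), [nat_lit 2, nat_lit 0, nat_lit 3, nat_lit 1])))))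
 (.node (nat_lit 56) (.node (nat_lit 54) (.node (nat_lit 53) (.leaf ((nat_lit 1), [nat_lit 3, nat_lit 2, nat_lit 3, nat_lit 2, nat_lit 0])) (.leaf ((nat_lit 4), [nat_lit 0, nat_lit 3, nat_lit 0, nat_lit 2, nat_lit 0]))) (.node (nat_lit 55) (.leaf ((nat_lit 4), [nat_lit 0, nat_lit 2, nat_lit 0])) (.leaf ((nat_lit 4), [nat_lit 0, nat_lit 3, nat_lit 1, nat_lit 2, nat_lit 0]))))
 (.node (nat_lit 58) (.node (nat_lit 57) (.leaf ((nat_lit 3), [nat_lit 3, nat_lit 1, nat_lit 2, nat_lit 1])) (.leaf ((nat_lit 1), [nat_lit 3, nat_lit 2, nat_lit 0]))) (.node (nat_lit 59) (.leaf ((nat_lit 1), [nat_lit 3, nat_lit 2, nat_lit 3, nat_lit 0])) (.leaf ((nat_lit 4), [nat_lit 1, nat_lit 3, nat_lit 1, nat_lit 2, nat_lit 0]))))))))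
 (.node (nat_lit 90) (.node (nat_lit 75) (.node (nat_lit 67) (.node (nat_lit 63) (.node (nat_lit 61) (.leaf ((nat_lit 1), [nat_lit 2, nat_lit 3, nat_lit 1])) (.node (nat_lit 62) (.leaf ((nat_lit 2), [nat_lit 1])) (.leaf ((nat_lit 3), [nat_lit 2, nat_lit 0]))))
 (.node (nat_lit 65) (.node (nat_lit 64) (.leaf ((nat_lit 4), [nat_lit 3, nat_lit 0, nat_lit 2, nat_lit 1])) (.leaf ((nat_lit 1), [nat_lit 2, nat_lit 3, nat_lit 2, nat_lit 1]))) (.node (nat_lit 66) (.leaf ((nat_lit 1), [nat_lit 2, nat_lit 3, nat_lit 1, nat_lit 2])) (.leaf ((nat_lit 1), [nat_lit 1, nat_lit 2, nat_lit 3])))))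
 (.node (nat_lit 71) (.node (nat_lit 69) (.node (nat_lit 68) (.leaf ((nat_lit 4), [nat_lit 3, nat_lit 0, nat_lit 2, nat_lit 3, nat_lit 0])) (.leaf ((nat_lit 1), [nat_lit 3]))) (.node (nat_lit 70) (.leaf ((nat_lit 1), [nat_lit 0, nat_lit 3, nat_lit 2])) (.leaf ((nat_lit 4), [nat_lit 1, nat_lit 2, nat_lit 3, nat_lit 0]))))
 (.node (nat_lit 73) (.node (nat_lit 72) (.leaf ((nat_lit 1), [nat_lit 3, nat_lit 2, nat_lit 3, nat_lit 1])) (.leaf ((nat_lit 1), [nat_lit 1, nat_lit 3, nat_lit 2, nat_lit 3, nat_lit 0]))) (.node (nat_lit 74) (.leaf ((nat_lit 1), [nat_lit 3, nat_lit 1])) (.leaf ((nat_lit 4), [nat_lit 3, nat_lit 0, nat_lit 2, nat_lit 0]))))))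
 (.node (nat_lit 82) (.node (nat_lit 78) (.node (nat_lit 76) (.leaf ((nat_lit 1), [nat_lit 2, nat_lit 3, nat_lit 0])) (.node (nat_lit 77) (.leaf ((nat_lit 1), [nat_lit 3, nat_lit 2, nat_lit 3, nat_lit 2])) (.leaf ((nat_lit 3), [nat_lit 1]))))
 (.node (nat_lit 80) (.node (nat_lit 79) (.leaf ((nat_lit 4), [nat_lit 1])) (.leaf ((nat_lit 1), [nat_lit 0, nat_lit 3, nat_lit 1]))) (.node (nat_lit 81) (.leaf ((nat_lit 1), [nat_lit 0])) (.leaf ((nat_lit 1), [nat_lit 3, nat_lit 2, nat_lit 3])))))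
 (.node (nat_lit 86) (.node (nat_lit 84) (.node (nat_lit 83) (.leaf ((nat_lit 2), [nat_lit 3, nat_lit 1])) (.leaf ((nat_lit 1), [nat_lit 1, nat_lit 2]))) (.node (nat_lit 85) (.leaf ((nat_lit 1), [nat_lit 1, nat_lit 3, nat_lit 1, nat_lit 2])) (.leaf ((nat_lit 4), [nat_lit 0, nat_lit 2, nat_lit 3, nat_lit 0]))))
 (.node (nat_lit 88) (.node (nat_lit 87) (.leaf ((nat_lit 1), [nat_lit 1, nat_lit 3, nat_lit 2])) (.leaf ((nat_lit 2), [nat_lit 3, nat_lit 0]))) (.node (nat_lit 89) (.leaf ((nat_lit 1), [nat_lit 1, nat_lit 2, nat_lit 3, nat_lit 2])) (.leaf ((nat_lit 1), [nat_lit 2, nat_lit 1])))))))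
 (.node (nat_lit 105) (.node (nat_lit 97) (.node (nat_lit 93) (.node (nat_lit 91) (.leaf ((nat_lit 1), [nat_lit 2, nat_lit 3])) (.node (nat_lit 92) (.leaf ((nat_lit 4), [nat_lit 3, nat_lit 0, nat_lit 2])) (.leaf ((nat_lit 4), [nat_lit 3, nat_lit 0]))))
 (.node (nat_lit 95) (.node (nat_lit 94) (.leaf ((nat_lit 1), [nat_lit 1, nat_lit 3, nat_lit 2, nat_lit 1])) (.leaf ((nat_lit 4), [nat_lit 1, nat_lit 3, nat_lit 0, nat_lit 2]))) (.node (nat_lit 96) (.leaf ((nat_lit 3), [nat_lit 0])) (.leaf ((nat_lit 1), [nat_lit 0, nat_lit 2])))))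
 (.node (nat_lit 101) (.node (nat_lit 99) (.node (nat_lit 98) (.leaf ((nat_lit 1), [nat_lit 2, nat_lit 1, nat_lit 3])) (.leaf ((nat_lit 1), [nat_lit 0, nat_lit 3, nat_lit 0]))) (.node (nat_lit 100) (.leaf ((nat_lit 4), [nat_lit 2])) (.leaf ((nat_lit 4), [nat_lit 1, nat_lit 2]))))
 (.node (nat_lit 103) (.node (nat_lit 102) (.leaf ((nat_lit 4), [nat_lit 0, nat_lit 2, nat_lit 1])) (.leaf ((nat_lit 2), [nat_lit 1, nat_lit 3, nat_lit 0]))) (.node (nat_lit 104) (.leaf ((nat_lit 1), [nat_lit 1, nat_lit 2, nat_lit 3, nat_lit 2, nat_lit 0])) (.leaf ((nat_lit 4), [nat_lit 0, nat_lit 2]))))))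
 (.node (nat_lit 112) (.node (nat_lit 108) (.node (nat_lit 106) (.leaf ((nat_lit 1), [nat_lit 0, nat_lit 2, nat_lit 1])) (.node (nat_lit 107) (.leaf ((nat_lit 3), [nat_lit 1, nat_lit 2, nat_lit 1])) (.leaf ((nat_lit 4), [nat_lit 1, nat_lit 3, nat_lit 0, nat_lit 2, nat_lit 0]))))
 (.node (nat_lit 110) (.node (nat_lit 109) (.leaf ((nat_lit 3), [nat_lit 2, nat_lit 3])) (.leaf ((nat_lit 1), [nat_lit 1, nat_lit 2, nat_lit 1, nat_lit 3]))) (.node (nat_lit 111) (.leaf ((nat_lit 1), [nat_lit 1, nat_lit 2, nat_lit 0])) (.leaf ((nat_lit 4), [nat_lit 3, nat_lit 2, nat_lit 0])))))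
 (.node (nat_lit 116) (.node (nat_lit 114) (.node (nat_lit 113) (.leaf ((nat_lit 4), [nat_lit 3, nat_lit 1, nat_lit 2, nat_lit 0])) (.leaf ((nat_lit 4), [nat_lit 2, nat_lit 0, nat_lit 3, nat_lit 0, nat_lit 2, nat_lit 0]))) (.node (nat_lit 115) (.leaf ((nat_lit 3), [nat_lit 3, nat_lit 0, nat_lit 2])) (.leaf ((nat_lit 4), [nat_lit 1, nat_lit 3, nat_lit 0]))))
 (.node (nat_lit 118) (.node (nat_lit 117) (.leaf ((nat_lit 4), [nat_lit 3, nat_lit 2, nat_lit 1, nat_lit 3, nat_lit 2, nat_lit 0])) (.leaf ((nat_lit 4), [nat_lit 1, nat_lit 3, nat_lit 0, nat_lit 2, nat_lit 1]))) (.node (nat_lit 119) (.leaf ((nat_lit 3), [nat_lit 2])) (.leaf ((nat_lit 1), [nat_lit 0, nat_lit 3])))))))))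
noncomputable def n10Wd_0 : Tr (ℕ × List ℕ) := (.node (nat_lit 90) (.node (nat_lit 45) (.node (nat_lit 22) (.node (nat_lit 11) (.node (nat_lit 5) (.node (nat_lit 2) (.node (nat_lit 1) (.leaf ((nat_lit 1), [])) (.leaf ((nat_lit 2), [nat_lit 1, nat_lit 3]))) (.node (nat_lit 3) (.leaf ((nat_lit 3), [nat_lit 0, nat_lit 2, nat_lit 3])) (.node (nat_lit 4) (.leaf ((nat_lit 4), [nat_lit 0, nat_lit 3, nat_lit 0])) (.leaf ((nat_lit 5), [])))))
 (.node (nat_lit 8) (.node (nat_lit 6) (.leaf ((nat_lit 6), [])) (.node (nat_lit 7) (.leaf ((nat_lit 0), [])) (.leaf ((nat_lit 7), [nat_lit 3, nat_lit 2, nat_lit 1])))) (.node (nat_lit 9) (.leaf ((nat_lit 8), [nat_lit 3, nat_lit 0])) (.node (nat_lit 10) (.leaf ((nat_lit 9), [])) (.leaf ((nat_lit 10), [nat_lit 2, nat_lit 1, nat_lit 3, nat_lit 2]))))))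
 (.node (nat_lit 16) (.node (nat_lit 13) (.node (nat_lit 12) (.leaf ((nat_lit 10), [nat_lit 2, nat_lit 0, nat_lit 3, nat_lit 2, nat_lit 0])) (.leaf ((nat_lit 7), [nat_lit 3, nat_lit 2, nat_lit 1, nat_lit 3, nat_lit 0]))) (.node (nat_lit 14) (.leaf ((nat_lit 0), [nat_lit 3, nat_lit 0])) (.node (nat_lit 15) (.leaf ((nat_lit 11), [nat_lit 1, nat_lit 2, nat_lit 1, nat_lit 3, nat_lit 0])) (.leaf ((nat_lit 12), [nat_lit 1, nat_lit 3])))))
 (.node (nat_lit 19) (.node (nat_lit 17) (.leaf ((nat_lit 13), [nat_lit 2, nat_lit 1, nat_lit 3, nat_lit 0, nat_lit 2])) (.node (nat_lit 18) (.leaf ((nat_lit 14), [nat_lit 1, nat_lit 2, nat_lit 0, nat_lit 3, nat_lit 1, nat_lit 2, nat_lit 0])) (.leaf ((nat_lit 8), [nat_lit 1, nat_lit 3, nat_lit 1, nat_lit 2, nat_lit 1])))) (.node (nat_lit 20) (.leaf ((nat_lit 11), [nat_lit 1, nat_lit 2, nat_lit 1, nat_lit 3, nat_lit 2, nat_lit 1])) (.node (nat_lit 21) (.leaf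 ((nat_lit 0), [nat_lit 3, nat_lit 2, nat_lit 1])) (.leaf ((nat_lit 15), [nat_lit 2, nat_lit 1, nat_lit 3])))))))
 (.node (nat_lit 33) (.node (nat_lit 27) (.node (nat_lit 24) (.node (nat_lit 23) (.leaf ((nat_lit 16), [nat_lit 1, nat_lit 2, nat_lit 0, nat_lit 3, nat_lit 2, nat_lit 1])) (.leaf ((nat_lit 17), [nat_lit 3, nat_lit 2, nat_lit 1, nat_lit 3, nat_lit 1, nat_lit 2, nat_lit 0]))) (.node (nat_lit 25) (.leaf ((nat_lit 18), [nat_lit 2, nat_lit 1])) (.node (nat_lit 26) (.leaf ((nat_lit 19), [nat_lit 1, nat_lit 2, nat_lit 3, nat_lit 0, nat_lit 2])) (.leaf ((nat_lit 20), [nat_lit 3, nat_lit 0, nat_lit 2, nat_lit 1])))))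
 (.node (nat_lit 30) (.node (nat_lit 28) (.leaf ((nat_lit 0), [nat_lit 1, nat_lit 3, nat_lit 1])) (.node (nat_lit 29) (.leaf ((nat_lit 21), [nat_lit 1, nat_lit 2, nat_lit 1, nat_lit 3, nat_lit 1, nat_lit 2])) (.leaf ((nat_lit 22), [nat_lit 2, nat_lit 0, nat_lit 3, nat_lit 1, nat_lit 2, nat_lit 0])))) (.node (nat_lit 31) (.leaf ((nat_lit 23), [nat_lit 1, nat_lit 3, nat_lit 1])) (.node (nat_lit 32) (.leaf ((nat_lit 24), [nat_lit 1, nat_lit 2, nat_lit 0, nat_lit 3, nat_lit 0])) (.leaf ((nat_lit 25), [nat_lit 3, nat_lit 2, nat_lit 3, nat_lit 1, nat_lit 2, nat_lit 0]))))))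
 (.node (nat_lit 39) (.node (nat_lit 36) (.node (nat_lit 34) (.leaf ((nat_lit 21), [nat_lit 0, nat_lit 2, nat_lit 3, nat_lit 1, nat_lit 2, nat_lit 1])) (.node (nat_lit 35) (.leaf ((nat_lit 0), [])) (.leaf ((nat_lit 26), [nat_lit 2, nat_lit 1, nat_lit 3, nat_lit 1])))) (.node (nat_lit 37) (.leaf ((nat_lit 16), [nat_lit 1, nat_lit 3, nat_lit 1])) (.node (nat_lit 38) (.leaf ((nat_lit 27), [nat_lit 0, nat_lit 3, nat_lit 1, nat_lit 2, nat_lit 0])) (.leaf ((nat_lit 28), [nat_lit 0, nat_lit 2, nat_lit 1])))))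
 (.node (nat_lit 42) (.node (nat_lit 40) (.leaf ((nat_lit 29), [nat_lit 1, nat_lit 3, nat_lit 2, nat_lit 0])) (.node (nat_lit 41) (.leaf ((nat_lit 30), [nat_lit 3, nat_lit 2, nat_lit 1, nat_lit 3])) (.leaf ((nat_lit 0), [])))) (.node (nat_lit 43) (.leaf ((nat_lit 2), [nat_lit 0, nat_lit 2, nat_lit 3, nat_lit 1, nat_lit 2, nat_lit 1])) (.node (nat_lit 44) (.leaf ((nat_lit 1), [nat_lit 0, nat_lit 2, nat_lit 3])) (.leaf ((nat_lit 31), [nat_lit 1, nat_lit 2, nat_lit 0, nat_lit 3]))))))))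
 (.node (nat_lit 67) (.node (nat_lit 56) (.node (nat_lit 50) (.node (nat_lit 47) (.node (nat_lit 46) (.leaf ((nat_lit 32), [nat_lit 3, nat_lit 2, nat_lit 1, nat_lit 3, nat_lit 2])) (.leaf ((nat_lit 33), [nat_lit 1, nat_lit 2, nat_lit 1, nat_lit 3, nat_lit 1, nat_lit 2]))) (.node (nat_lit 48) (.leaf ((nat_lit 7), [nat_lit 0, nat_lit 2, nat_lit 1, nat_lit 3, nat_lit 0, nat_lit 2, nat_lit 1])) (.node (nat_lit 49) (.leaf ((nat_lit 3), [nat_lit 3, nat_lit 2, nat_lit 1, nat_lit 3, nat_lit 1, nat_lit 2, nat_lit 0])) (.leaf ((nat_lit 31), [nat_lit 0, nat_lit 2, nat_lit 3])))))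
 (.node (nat_lit 53) (.node (nat_lit 51) (.leaf ((nat_lit 1), [nat_lit 1, nat_lit 3])) (.node (nat_lit 52) (.leaf ((nat_lit 34), [nat_lit 3, nat_lit 2, nat_lit 3, nat_lit 1, nat_lit 2, nat_lit 0])) (.leaf ((nat_lit 35), [nat_lit 3, nat_lit 2, nat_lit 3, nat_lit 1, nat_lit 2])))) (.node (nat_lit 54) (.leaf ((nat_lit 36), [nat_lit 1, nat_lit 2, nat_lit 1, nat_lit 3, nat_lit 0, nat_lit 2, nat_lit 0])) (.node (nat_lit 55) (.leaf ((nat_lit 37), [nat_lit 3, nat_lit 2, nat_lit 3, nat_lit 0])) (.leaf ((nat_lit 38), [nat_lit 2, nat_lit 3]))))))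
 (.node (nat_lit 61) (.node (nat_lit 58) (.node (nat_lit 57) (.leaf ((nat_lit 39), [nat_lit 0, nat_lit 2, nat_lit 3, nat_lit 2, nat_lit 0])) (.leaf ((nat_lit 1), []))) (.node (nat_lit 59) (.leaf ((nat_lit 39), [nat_lit 2, nat_lit 1, nat_lit 3, nat_lit 2, nat_lit 0])) (.node (nat_lit 60) (.leaf ((nat_lit 13), [nat_lit 1, nat_lit 2, nat_lit 0, nat_lit 3, nat_lit 2])) (.leaf ((nat_lit 40), [nat_lit 3, nat_lit 2, nat_lit 1, nat_lit 3, nat_lit 0, nat_lit 2, nat_lit 0])))))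
 (.node (nat_lit 64) (.node (nat_lit 62) (.leaf ((nat_lit 41), [nat_lit 0, nat_lit 3, nat_lit 0])) (.node (nat_lit 63) (.leaf ((nat_lit 42), [nat_lit 2, nat_lit 0, nat_lit 3, nat_lit 1, nat_lit 2])) (.leaf ((nat_lit 39), [nat_lit 0, nat_lit 2, nat_lit 1, nat_lit 3, nat_lit 2, nat_lit 1])))) (.node (nat_lit 65) (.leaf ((nat_lit 1), [nat_lit 2, nat_lit 3, nat_lit 0, nat_lit 2])) (.node (nat_lit 66) (.leaf ((nat_lit 1), [nat_lit 1, nat_lit 2, nat_lit 3, nat_lit 1, nat_lit 2])) (.leaf ((nat_lit 31), [nat_lit 1, nat_lit 2, nat_lit 1])))))))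
 (.node (nat_lit 78) (.node (nat_lit 72) (.node (nat_lit 69) (.node (nat_lit 68) (.leaf ((nat_lit 3), [nat_lit 0, nat_lit 2, nat_lit 3, nat_lit 0, nat_lit 2, nat_lit 0])) (.leaf ((nat_lit 2), [nat_lit 1, nat_lit 3, nat_lit 0, nat_lit 2, nat_lit 0]))) (.node (nat_lit 70) (.leaf ((nat_lit 17), [nat_lit 0, nat_lit 2, nat_lit 1, nat_lit 3])) (.node (nat_lit 71) (.leaf ((nat_lit 43), [nat_lit 1, nat_lit 3, nat_lit 1])) (.leaf ((nat_lit 44), [nat_lit 2, nat_lit 3, nat_lit 2, nat_lit 0])))))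
 (.node (nat_lit 75) (.node (nat_lit 73) (.leaf ((nat_lit 45), [nat_lit 2, nat_lit 3, nat_lit 0])) (.node (nat_lit 74) (.leaf ((nat_lit 46), [nat_lit 1, nat_lit 2, nat_lit 1, nat_lit 3, nat_lit 1, nat_lit 2, nat_lit 1])) (.leaf ((nat_lit 47), [nat_lit 0, nat_lit 2, nat_lit 3, nat_lit 1])))) (.node (nat_lit 76) (.leaf ((nat_lit 2), [nat_lit 3, nat_lit 0])) (.node (nat_lit 77) (.leaf ((nat_lit 48), [nat_lit 1, nat_lit 2, nat_lit 0, nat_lit 3, nat_lit 2])) (.leaf ((nat_lit 49), [nat_lit 2, nat_lit 0]))))))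
 (.node (nat_lit 84) (.node (nat_lit 81) (.node (nat_lit 79) (.leaf ((nat_lit 50), [nat_lit 1, nat_lit 2, nat_lit 0, nat_lit 3, nat_lit 2, nat_lit 0])) (.node (nat_lit 80) (.leaf ((nat_lit 51), [nat_lit 0, nat_lit 2, nat_lit 1, nat_lit 3, nat_lit 1, nat_lit 2, nat_lit 0])) (.leaf ((nat_lit 52), [nat_lit 2, nat_lit 1, nat_lit 3, nat_lit 1, nat_lit 2, nat_lit 0])))) (.node (nat_lit 82) (.leaf ((nat_lit 48), [nat_lit 1, nat_lit 2, nat_lit 3, nat_lit 2, nat_lit 0])) (.node (nat_lit 83) (.leaf ((nat_lit 2), [nat_lit 2, nat_lit 1, nat_lit 3, nat_lit 0, nat_lit 2])) (.leaf ((nat_lit 9), [nat_lit 2, nat_lit 3, nat_lit 1, nat_lit 2, nat_lit 0])))))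
 (.node (nat_lit 87) (.node (nat_lit 85) (.leaf ((nat_lit 53), [nat_lit 1, nat_lit 2, nat_lit 3, nat_lit 2])) (.node (nat_lit 86) (.leaf ((nat_lit 54), [nat_lit 0, nat_lit 2, nat_lit 1, nat_lit 3, nat_lit 1])) (.leaf ((nat_lit 49), [nat_lit 1, nat_lit 3, nat_lit 2, nat_lit 1])))) (.node (nat_lit 88) (.leaf ((nat_lit 54), [nat_lit 3, nat_lit 0, nat_lit 2, nat_lit 0])) (.node (nat_lit 89) (.leaf ((nat_lit 54), [nat_lit 2, nat_lit 3, nat_lit 1, nat_lit 2])) (.leaf ((nat_lit 2), [nat_lit 1, nat_lit 2, nat_lit 0, nat_lit 3, nat_lit 1, nat_lit 2, nat_lit 0])))))))))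
 (.node (nat_lit 135) (.node (nat_lit 112) (.node (nat_lit 101) (.node (nat_lit 95) (.node (nat_lit 92) (.node (nat_lit 91) (.leaf ((nat_lit 55), [nat_lit 3, nat_lit 0, nat_lit 2, nat_lit 0])) (.leaf ((nat_lit 56), [nat_lit 1, nat_lit 2, nat_lit 3, nat_lit 0, nat_lit 2]))) (.node (nat_lit 93) (.leaf ((nat_lit 57), [nat_lit 0, nat_lit 3, nat_lit 0, nat_lit 2])) (.node (nat_lit 94) (.leaf ((nat_lit 3), [nat_lit 3, nat_lit 0, nat_lit 2])) (.leaf ((nat_lit 58), [nat_lit 2, nat_lit 1, nat_lit 3, nat_lit 0, nat_lit 2])))))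
 (.node (nat_lit 98) (.node (nat_lit 96) (.leaf ((nat_lit 59), [nat_lit 3, nat_lit 2, nat_lit 3, nat_lit 2, nat_lit 0])) (.node (nat_lit 97) (.leaf ((nat_lit 6), [nat_lit 0, nat_lit 3, nat_lit 0])) (.leaf ((nat_lit 26), [nat_lit 3, nat_lit 2, nat_lit 3, nat_lit 0])))) (.node (nat_lit 99) (.leaf ((nat_lit 60), [nat_lit 0, nat_lit 3, nat_lit 0, nat_lit 2, nat_lit 1])) (.node (nat_lit 100) (.leaf ((nat_lit 58), [nat_lit 3, nat_lit 1, nat_lit 2, nat_lit 0])) (.leaf ((nat_lit 3), [nat_lit 0, nat_lit 2, nat_lit 3, nat_lit 1, nat_lit 2, nat_lit 0]))))))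
 (.node (nat_lit 106) (.node (nat_lit 103) (.node (nat_lit 102) (.leaf ((nat_lit 61), [nat_lit 1, nat_lit 2, nat_lit 1, nat_lit 3, nat_lit 0, nat_lit 2, nat_lit 1])) (.leaf ((nat_lit 62), [nat_lit 1, nat_lit 2, nat_lit 0, nat_lit 3, nat_lit 1, nat_lit 2, nat_lit 0]))) (.node (nat_lit 104) (.leaf ((nat_lit 30), [nat_lit 2, nat_lit 0, nat_lit 3, nat_lit 1, nat_lit 2])) (.node (nat_lit 105) (.leaf ((nat_lit 63), [nat_lit 0, nat_lit 2, nat_lit 1, nat_lit 3, nat_lit 2, nat_lit 1])) (.leaf ((nat_lit 11), [nat_lit 3, nat_lit 0, nat_lit 2, nat_lit 1])))))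
 (.node (nat_lit 109) (.node (nat_lit 107) (.leaf ((nat_lit 64), [nat_lit 0, nat_lit 2, nat_lit 3, nat_lit 1, nat_lit 2, nat_lit 0])) (.node (nat_lit 108) (.leaf ((nat_lit 3), [nat_lit 1, nat_lit 3, nat_lit 1, nat_lit 2, nat_lit 1])) (.leaf ((nat_lit 4), [nat_lit 0, nat_lit 2])))) (.node (nat_lit 110) (.leaf ((nat_lit 21), [nat_lit 1, nat_lit 2, nat_lit 1, nat_lit 3, nat_lit 0])) (.node (nat_lit 111) (.leaf ((nat_lit 65), [nat_lit 0, nat_lit 3, nat_lit 0, nat_lit 2, nat_lit 0])) (.leaf ((nat_lit 61), [nat_lit 3, nat_lit 2, nat_lit 3, nat_lit 1, nat_lit 2, nat_lit 0])))))))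
 (.node (nat_lit 123) (.node (nat_lit 117) (.node (nat_lit 114) (.node (nat_lit 113) (.leaf ((nat_lit 65), [nat_lit 0, nat_lit 3, nat_lit 0])) (.leaf ((nat_lit 66), [nat_lit 2, nat_lit 0, nat_lit 3, nat_lit 0, nat_lit 2, nat_lit 0]))) (.node (nat_lit 115) (.leaf ((nat_lit 21), [nat_lit 1, nat_lit 3, nat_lit 2])) (.node (nat_lit 116) (.leaf ((nat_lit 4), [nat_lit 2, nat_lit 1, nat_lit 3, nat_lit 2, nat_lit 0])) (.leaf ((nat_lit 67), [nat_lit 3, nat_lit 2])))))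
 (.node (nat_lit 120) (.node (nat_lit 118) (.leaf ((nat_lit 46), [nat_lit 2, nat_lit 3])) (.node (nat_lit 119) (.leaf ((nat_lit 68), [nat_lit 2, nat_lit 3, nat_lit 0, nat_lit 2])) (.leaf ((nat_lit 69), [nat_lit 0, nat_lit 2, nat_lit 1, nat_lit 3, nat_lit 1, nat_lit 2, nat_lit 1])))) (.node (nat_lit 121) (.leaf ((nat_lit 65), [nat_lit 2, nat_lit 3, nat_lit 1, nat_lit 2, nat_lit 1])) (.node (nat_lit 122) (.leaf ((nat_lit 67), [nat_lit 2, nat_lit 1])) (.leaf ((nat_lit 4), [nat_lit 0, nat_lit 2, nat_lit 1, nat_lit 3]))))))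
 (.node (nat_lit 129) (.node (nat_lit 126) (.node (nat_lit 124) (.leaf ((nat_lit 40), [nat_lit 1, nat_lit 2, nat_lit 0, nat_lit 3, nat_lit 2, nat_lit 0])) (.node (nat_lit 125) (.leaf ((nat_lit 67), [nat_lit 1, nat_lit 2, nat_lit 0, nat_lit 3, nat_lit 2, nat_lit 1])) (.leaf ((nat_lit 31), [nat_lit 2, nat_lit 1])))) (.node (nat_lit 127) (.leaf ((nat_lit 19), [nat_lit 2, nat_lit 3, nat_lit 0])) (.node (nat_lit 128) (.leaf ((nat_lit 18), [nat_lit 1, nat_lit 3, nat_lit 0, nat_lit 2, nat_lit 0])) (.leaf ((nat_lit 68), [nat_lit 3, nat_lit 1])))))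
 (.node (nat_lit 132) (.node (nat_lit 130) (.leaf ((nat_lit 5), [nat_lit 3, nat_lit 2, nat_lit 1, nat_lit 3, nat_lit 0])) (.node (nat_lit 131) (.leaf ((nat_lit 4), [nat_lit 2, nat_lit 0, nat_lit 3, nat_lit 0, nat_lit 2, nat_lit 0])) (.leaf ((nat_lit 62), [nat_lit 2, nat_lit 0])))) (.node (nat_lit 133) (.leaf ((nat_lit 43), [nat_lit 3, nat_lit 2, nat_lit 1])) (.node (nat_lit 134) (.leaf ((nat_lit 70), [nat_lit 1, nat_lit 2, nat_lit 3, nat_lit 1, nat_lit 2, nat_lit 1])) (.leaf ((nat_lit 71), [nat_lit 3, nat_lit 2, nat_lit 1, nat_lit 3]))))))))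
 (.node (nat_lit 157) (.node (nat_lit 146) (.node (nat_lit 140) (.node (nat_lit 137) (.node (nat_lit 136) (.leaf ((nat_lit 62), [nat_lit 0, nat_lit 2, nat_lit 1, nat_lit 3, nat_lit 1, nat_lit 2, nat_lit 1])) (.leaf ((nat_lit 62), [nat_lit 2, nat_lit 0]))) (.node (nat_lit 138) (.leaf ((nat_lit 4), [nat_lit 1, nat_lit 2, nat_lit 0, nat_lit 3, nat_lit 1, nat_lit 2])) (.node (nat_lit 139) (.leaf ((nat_lit 5), [nat_lit 0, nat_lit 3, nat_lit 0])) (.leaf ((nat_lit 32), [nat_lit 1, nat_lit 3, nat_lit 2, nat_lit 0])))))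
 (.node (nat_lit 143) (.node (nat_lit 141) (.leaf ((nat_lit 58), [nat_lit 2, nat_lit 0, nat_lit 3, nat_lit 1, nat_lit 2])) (.node (nat_lit 142) (.leaf ((nat_lit 38), [nat_lit 1, nat_lit 3, nat_lit 2, nat_lit 0])) (.leaf ((nat_lit 72), [nat_lit 0, nat_lit 2, nat_lit 1, nat_lit 3, nat_lit 2, nat_lit 0])))) (.node (nat_lit 144) (.leaf ((nat_lit 73), [nat_lit 2, nat_lit 0, nat_lit 3, nat_lit 0, nat_lit 2, nat_lit 0])) (.node (nat_lit 145) (.leaf ((nat_lit 32), [nat_lit 2, nat_lit 0, nat_lit 3, nat_lit 0, nat_lit 2, nat_lit 1])) (.leaf ((nat_lit 5), [nat_lit 1, nat_lit 3, nat_lit 1, nat_lit 2, nat_lit 0]))))))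
 (.node (nat_lit 151) (.node (nat_lit 148) (.node (nat_lit 147) (.leaf ((nat_lit 74), [nat_lit 1, nat_lit 2, nat_lit 0, nat_lit 3])) (.leaf ((nat_lit 75), [nat_lit 2, nat_lit 3, nat_lit 1, nat_lit 2, nat_lit 1]))) (.node (nat_lit 149) (.leaf ((nat_lit 51), [nat_lit 3, nat_lit 2, nat_lit 1, nat_lit 3, nat_lit 2])) (.node (nat_lit 150) (.leaf ((nat_lit 53), [nat_lit 1, nat_lit 2])) (.leaf ((nat_lit 58), [nat_lit 1, nat_lit 3, nat_lit 2])))))
 (.node (nat_lit 154) (.node (nat_lit 152) (.leaf ((nat_lit 74), [nat_lit 2, nat_lit 3, nat_lit 2, nat_lit 1])) (.node (nat_lit 153) (.leaf ((nat_lit 5), [nat_lit 3, nat_lit 2, nat_lit 3, nat_lit 0, nat_lit 2, nat_lit 1])) (.leaf ((nat_lit 59), [nat_lit 1, nat_lit 2, nat_lit 0, nat_lit 3, nat_lit 2, nat_lit 1])))) (.node (nat_lit 155) (.leaf ((nat_lit 60), [nat_lit 0, nat_lit 2, nat_lit 3, nat_lit 1, nat_lit 2, nat_lit 0])) (.node (nat_lit 156) (.leaf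 ((nat_lit 76), [nat_lit 1, nat_lit 2, nat_lit 0, nat_lit 3, nat_lit 1, nat_lit 2])) (.leaf ((nat_lit 27), [nat_lit 2, nat_lit 1, nat_lit 3, nat_lit 2, nat_lit 1])))))))
 (.node (nat_lit 168) (.node (nat_lit 162) (.node (nat_lit 159) (.node (nat_lit 158) (.leaf ((nat_lit 16), [nat_lit 3, nat_lit 2, nat_lit 3, nat_lit 1, nat_lit 2, nat_lit 1])) (.leaf ((nat_lit 34), [nat_lit 1, nat_lit 2, nat_lit 3]))) (.node (nat_lit 160) (.leaf ((nat_lit 42), [nat_lit 0, nat_lit 2])) (.node (nat_lit 161) (.leaf ((nat_lit 77), [nat_lit 3, nat_lit 0, nat_lit 2, nat_lit 1])) (.leaf ((nat_lit 5), [nat_lit 0, nat_lit 3, nat_lit 0, nat_lit 2])))))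
 (.node (nat_lit 165) (.node (nat_lit 163) (.leaf ((nat_lit 26), [nat_lit 0, nat_lit 2, nat_lit 3, nat_lit 0, nat_lit 2])) (.node (nat_lit 164) (.leaf ((nat_lit 6), [nat_lit 1, nat_lit 2, nat_lit 0, nat_lit 3, nat_lit 1])) (.leaf ((nat_lit 78), [nat_lit 0, nat_lit 2, nat_lit 1, nat_lit 3, nat_lit 1, nat_lit 2])))) (.node (nat_lit 166) (.leaf ((nat_lit 79), [nat_lit 1, nat_lit 3, nat_lit 1, nat_lit 2, nat_lit 1])) (.node (nat_lit 167) (.leaf ((nat_lit 44), [nat_lit 2, nat_lit 1, nat_lit 3, nat_lit 2])) (.leaf ((nat_lit 40), [nat_lit 2, nat_lit 0, nat_lit 3]))))))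
 (.node (nat_lit 174) (.node (nat_lit 171) (.node (nat_lit 169) (.leaf ((nat_lit 60), [nat_lit 0, nat_lit 2, nat_lit 1, nat_lit 3, nat_lit 0])) (.node (nat_lit 170) (.leaf ((nat_lit 78), [nat_lit 2, nat_lit 3, nat_lit 0, nat_lit 2, nat_lit 1])) (.leaf ((nat_lit 6), [nat_lit 0, nat_lit 2, nat_lit 1])))) (.node (nat_lit 172) (.leaf ((nat_lit 80), [nat_lit 1, nat_lit 2, nat_lit 0, nat_lit 3, nat_lit 0])) (.node (nat_lit 173) (.leaf ((nat_lit 81), [nat_lit 2, nat_lit 0, nat_lit 3, nat_lit 2])) (.leaf ((nat_lit 82), [nat_lit 0, nat_lit 3, nat_lit 2, nat_lit 0])))))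
 (.node (nat_lit 177) (.node (nat_lit 175) (.leaf ((nat_lit 83), [nat_lit 0, nat_lit 2, nat_lit 1, nat_lit 3, nat_lit 1, nat_lit 2])) (.node (nat_lit 176) (.leaf ((nat_lit 84), [nat_lit 1, nat_lit 3, nat_lit 2, nat_lit 0])) (.leaf ((nat_lit 85), [nat_lit 3, nat_lit 2, nat_lit 1, nat_lit 3, nat_lit 1, nat_lit 2, nat_lit 1])))) (.node (nat_lit 178) (.leaf ((nat_lit 6), [nat_lit 1, nat_lit 2, nat_lit 3, nat_lit 0])) (.node (nat_lit 179) (.leaf ((nat_lit 56), [nat_lit 3, nat_lit 2, nat_lit 3, nat_lit 0, nat_lit 2, nat_lit 1])) (.leaf ((nat_lit 86), [nat_lit 3, nat_lit 2, nat_lit 3, nat_lit 2, nat_lit 0]))))))))))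
noncomputable def n10Wd_1 : Tr (ℕ × List ℕ) := (.node (nat_lit 270) (.node (nat_lit 225) (.node (nat_lit 202) (.node (nat_lit 191) (.node (nat_lit 185) (.node (nat_lit 182) (.node (nat_lit 181) (.leaf ((nat_lit 80), [nat_lit 1, nat_lit 2, nat_lit 3, nat_lit 0, nat_lit 2, nat_lit 1])) (.leaf ((nat_lit 17), [nat_lit 2, nat_lit 0, nat_lit 3, nat_lit 1, nat_lit 2]))) (.node (nat_lit 183) (.leaf ((nat_lit 87), [nat_lit 3, nat_lit 1, nat_lit 2, nat_lit 1])) (.node (nat_lit 184) (.leaf ((nat_lit 56), [nat_lit 3, nat_lit 2, nat_lit 3])) (.leaf ((nat_lit 6), [nat_lit 1, nat_lit 2, nat_lit 3, nat_lit 1, nat_lit 2, nat_lit 1])))))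
 (.node (nat_lit 188) (.node (nat_lit 186) (.leaf ((nat_lit 88), [nat_lit 0, nat_lit 2])) (.node (nat_lit 187) (.leaf ((nat_lit 11), [nat_lit 0, nat_lit 2, nat_lit 0])) (.leaf ((nat_lit 8), [nat_lit 3, nat_lit 2, nat_lit 1])))) (.node (nat_lit 189) (.leaf ((nat_lit 7), [nat_lit 3, nat_lit 1, nat_lit 2, nat_lit 0])) (.node (nat_lit 190) (.leaf ((nat_lit 66), [nat_lit 0, nat_lit 2, nat_lit 3, nat_lit 0])) (.leaf ((nat_lit 66), [nat_lit 2, nat_lit 3, nat_lit 0, nat_lit 2, nat_lit 1]))))))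
 (.node (nat_lit 196) (.node (nat_lit 193) (.node (nat_lit 192) (.leaf ((nat_lit 20), [nat_lit 0, nat_lit 2])) (.leaf ((nat_lit 24), [nat_lit 0, nat_lit 2, nat_lit 1, nat_lit 3, nat_lit 1, nat_lit 2]))) (.node (nat_lit 194) (.leaf ((nat_lit 23), [nat_lit 1, nat_lit 2, nat_lit 3, nat_lit 0])) (.node (nat_lit 195) (.leaf ((nat_lit 69), [nat_lit 2, nat_lit 3, nat_lit 0, nat_lit 2, nat_lit 0])) (.leaf ((nat_lit 7), [nat_lit 3, nat_lit 2, nat_lit 1, nat_lit 3, nat_lit 2])))))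
 (.node (nat_lit 199) (.node (nat_lit 197) (.leaf ((nat_lit 86), [nat_lit 3, nat_lit 1, nat_lit 2])) (.node (nat_lit 198) (.leaf ((nat_lit 32), [nat_lit 3])) (.leaf ((nat_lit 89), [nat_lit 0, nat_lit 2, nat_lit 3, nat_lit 1, nat_lit 2])))) (.node (nat_lit 200) (.leaf ((nat_lit 36), [nat_lit 0, nat_lit 2, nat_lit 0])) (.node (nat_lit 201) (.leaf ((nat_lit 90), [nat_lit 2, nat_lit 1, nat_lit 3, nat_lit 2, nat_lit 0])) (.leaf ((nat_lit 86), [nat_lit 3, nat_lit 2, nat_lit 3, nat_lit 0, nat_lit 2, nat_lit 1])))))))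
 (.node (nat_lit 213) (.node (nat_lit 207) (.node (nat_lit 204) (.node (nat_lit 203) (.leaf ((nat_lit 7), [nat_lit 2, nat_lit 0, nat_lit 3, nat_lit 0, nat_lit 2, nat_lit 0])) (.leaf ((nat_lit 42), [nat_lit 1, nat_lit 2, nat_lit 3, nat_lit 1, nat_lit 2]))) (.node (nat_lit 205) (.leaf ((nat_lit 78), [nat_lit 2, nat_lit 3, nat_lit 1])) (.node (nat_lit 206) (.leaf ((nat_lit 60), [nat_lit 0, nat_lit 2, nat_lit 1, nat_lit 3, nat_lit 1, nat_lit 2, nat_lit 0])) (.leaf ((nat_lit 26), [nat_lit 3, nat_lit 2, nat_lit 0])))))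
 (.node (nat_lit 210) (.node (nat_lit 208) (.leaf ((nat_lit 8), [nat_lit 3, nat_lit 2, nat_lit 3, nat_lit 0, nat_lit 2, nat_lit 1])) (.node (nat_lit 209) (.leaf ((nat_lit 91), [nat_lit 2, nat_lit 1, nat_lit 3, nat_lit 2])) (.leaf ((nat_lit 87), [nat_lit 1, nat_lit 3, nat_lit 1, nat_lit 2, nat_lit 1])))) (.node (nat_lit 211) (.leaf ((nat_lit 57), [nat_lit 0, nat_lit 2, nat_lit 1, nat_lit 3])) (.node (nat_lit 212) (.leaf ((nat_lit 59), [nat_lit 3, nat_lit 1, nat_lit 2, nat_lit 0])) (.leaf ((nat_lit 55), [nat_lit 0, nat_lit 2, nat_lit 1, nat_lit 3, nat_lit 1, nat_lit 2, nat_lit 1]))))))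
 (.node (nat_lit 219) (.node (nat_lit 216) (.node (nat_lit 214) (.leaf ((nat_lit 91), [nat_lit 2, nat_lit 1, nat_lit 3, nat_lit 1])) (.node (nat_lit 215) (.leaf ((nat_lit 8), [nat_lit 3, nat_lit 2, nat_lit 3, nat_lit 1, nat_lit 2])) (.leaf ((nat_lit 35), [nat_lit 1, nat_lit 2, nat_lit 3, nat_lit 2, nat_lit 0])))) (.node (nat_lit 217) (.leaf ((nat_lit 86), [nat_lit 3, nat_lit 2, nat_lit 3, nat_lit 1])) (.node (nat_lit 218) (.leaf ((nat_lit 33), [nat_lit 1, nat_lit 2, nat_lit 1])) (.leaf ((nat_lit 92), [nat_lit 2, nat_lit 3, nat_lit 2, nat_lit 1])))))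
 (.node (nat_lit 222) (.node (nat_lit 220) (.leaf ((nat_lit 90), [nat_lit 2, nat_lit 1, nat_lit 3, nat_lit 1, nat_lit 2, nat_lit 0])) (.node (nat_lit 221) (.leaf ((nat_lit 41), [nat_lit 1, nat_lit 2, nat_lit 3, nat_lit 0, nat_lit 2, nat_lit 1])) (.leaf ((nat_lit 8), [nat_lit 1, nat_lit 2, nat_lit 1, nat_lit 3, nat_lit 0, nat_lit 2, nat_lit 0])))) (.node (nat_lit 223) (.leaf ((nat_lit 9), [nat_lit 3, nat_lit 2, nat_lit 3, nat_lit 1, nat_lit 2, nat_lit 1])) (.node (nat_lit 224) (.leaf ((nat_lit 93), [nat_lit 1, nat_lit 2, nat_lit 3])) (.leaf ((nat_lit 94), [nat_lit 3, nat_lit 2, nat_lit 1, nat_lit 3, nat_lit 2]))))))))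
 (.node (nat_lit 247) (.node (nat_lit 236) (.node (nat_lit 230) (.node (nat_lit 227) (.node (nat_lit 226) (.leaf ((nat_lit 73), [nat_lit 0, nat_lit 2, nat_lit 3, nat_lit 1, nat_lit 2, nat_lit 1])) (.leaf ((nat_lit 93), [nat_lit 0, nat_lit 3]))) (.node (nat_lit 228) (.leaf ((nat_lit 50), [nat_lit 1, nat_lit 2, nat_lit 1, nat_lit 3, nat_lit 1, nat_lit 2])) (.node (nat_lit 229) (.leaf ((nat_lit 93), [nat_lit 0, nat_lit 3, nat_lit 1, nat_lit 2])) (.leaf ((nat_lit 9), [nat_lit 3, nat_lit 2])))))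
 (.node (nat_lit 233) (.node (nat_lit 231) (.leaf ((nat_lit 95), [nat_lit 3, nat_lit 2, nat_lit 3, nat_lit 2, nat_lit 0])) (.node (nat_lit 232) (.leaf ((nat_lit 23), [nat_lit 1, nat_lit 2, nat_lit 3, nat_lit 0])) (.leaf ((nat_lit 96), [nat_lit 2, nat_lit 1, nat_lit 3, nat_lit 0, nat_lit 2])))) (.node (nat_lit 234) (.leaf ((nat_lit 48), [nat_lit 3, nat_lit 0])) (.node (nat_lit 235) (.leaf ((nat_lit 94), [nat_lit 3, nat_lit 2, nat_lit 0])) (.leaf ((nat_lit 95), [nat_lit 1, nat_lit 2, nat_lit 1, nat_lit 3, nat_lit 0]))))))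
 (.node (nat_lit 241) (.node (nat_lit 238) (.node (nat_lit 237) (.leaf ((nat_lit 9), [nat_lit 1, nat_lit 2, nat_lit 3, nat_lit 2, nat_lit 1])) (.leaf ((nat_lit 10), [nat_lit 0, nat_lit 2, nat_lit 3, nat_lit 0, nat_lit 2, nat_lit 1]))) (.node (nat_lit 239) (.leaf ((nat_lit 9), [nat_lit 1, nat_lit 2, nat_lit 3, nat_lit 0, nat_lit 2])) (.node (nat_lit 240) (.leaf ((nat_lit 97), [nat_lit 1, nat_lit 2, nat_lit 1, nat_lit 3, nat_lit 2])) (.leaf ((nat_lit 10), [nat_lit 0, nat_lit 2, nat_lit 1, nat_lit 3, nat_lit 1, nat_lit 2, nat_lit 1])))))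
 (.node (nat_lit 244) (.node (nat_lit 242) (.leaf ((nat_lit 98), [nat_lit 2, nat_lit 1, nat_lit 3, nat_lit 1, nat_lit 2, nat_lit 0])) (.node (nat_lit 243) (.leaf ((nat_lit 81), [nat_lit 3, nat_lit 2, nat_lit 3, nat_lit 0])) (.leaf ((nat_lit 20), [nat_lit 1, nat_lit 2, nat_lit 3, nat_lit 1, nat_lit 2, nat_lit 0])))) (.node (nat_lit 245) (.leaf ((nat_lit 87), [nat_lit 0, nat_lit 2, nat_lit 3, nat_lit 2, nat_lit 1])) (.node (nat_lit 246) (.leaf ((nat_lit 27), [nat_lit 3, nat_lit 1, nat_lit 2])) (.leaf ((nat_lit 98), [nat_lit 1, nat_lit 2, nat_lit 1, nat_lit 3, nat_lit 0, nat_lit 2, nat_lit 0])))))))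
 (.node (nat_lit 258) (.node (nat_lit 252) (.node (nat_lit 249) (.node (nat_lit 248) (.leaf ((nat_lit 10), [nat_lit 1, nat_lit 3, nat_lit 1])) (.leaf ((nat_lit 99), [nat_lit 0, nat_lit 3, nat_lit 2, nat_lit 0]))) (.node (nat_lit 250) (.leaf ((nat_lit 100), [nat_lit 3, nat_lit 2])) (.node (nat_lit 251) (.leaf ((nat_lit 36), [nat_lit 0, nat_lit 2, nat_lit 1, nat_lit 3, nat_lit 2, nat_lit 0])) (.leaf ((nat_lit 41), [nat_lit 2, nat_lit 3, nat_lit 2])))))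
 (.node (nat_lit 255) (.node (nat_lit 253) (.leaf ((nat_lit 81), [nat_lit 2, nat_lit 1, nat_lit 3, nat_lit 0, nat_lit 2, nat_lit 1])) (.node (nat_lit 254) (.leaf ((nat_lit 99), [nat_lit 2, nat_lit 3, nat_lit 2, nat_lit 1])) (.leaf ((nat_lit 10), [nat_lit 2, nat_lit 0, nat_lit 3, nat_lit 1, nat_lit 2])))) (.node (nat_lit 256) (.leaf ((nat_lit 26), [nat_lit 2, nat_lit 1])) (.node (nat_lit 257) (.leaf ((nat_lit 55), [nat_lit 1, nat_lit 2])) (.leaf ((nat_lit 33), [nat_lit 2, nat_lit 0, nat_lit 3, nat_lit 2, nat_lit 0]))))))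
 (.node (nat_lit 264) (.node (nat_lit 261) (.node (nat_lit 259) (.leaf ((nat_lit 22), [nat_lit 0, nat_lit 2, nat_lit 3])) (.node (nat_lit 260) (.leaf ((nat_lit 77), [nat_lit 0, nat_lit 2, nat_lit 3, nat_lit 2])) (.leaf ((nat_lit 75), [nat_lit 1, nat_lit 2])))) (.node (nat_lit 262) (.leaf ((nat_lit 64), [nat_lit 2, nat_lit 3, nat_lit 2, nat_lit 0])) (.node (nat_lit 263) (.leaf ((nat_lit 11), [nat_lit 0, nat_lit 3, nat_lit 0])) (.leaf ((nat_lit 91), [nat_lit 3])))))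
 (.node (nat_lit 267) (.node (nat_lit 265) (.leaf ((nat_lit 101), [nat_lit 1, nat_lit 3, nat_lit 1])) (.node (nat_lit 266) (.leaf ((nat_lit 64), [nat_lit 3, nat_lit 2, nat_lit 3, nat_lit 0, nat_lit 2, nat_lit 0])) (.leaf ((nat_lit 102), [nat_lit 2, nat_lit 0, nat_lit 3, nat_lit 1, nat_lit 2, nat_lit 1])))) (.node (nat_lit 268) (.leaf ((nat_lit 103), [nat_lit 3, nat_lit 1, nat_lit 2])) (.node (nat_lit 269) (.leaf ((nat_lit 27), [nat_lit 2, nat_lit 3, nat_lit 0, nat_lit 2])) (.leaf ((nat_lit 11), [nat_lit 1, nat_lit 2, nat_lit 3, nat_lit 2])))))))))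
 (.node (nat_lit 315) (.node (nat_lit 292) (.node (nat_lit 281) (.node (nat_lit 275) (.node (nat_lit 272) (.node (nat_lit 271) (.leaf ((nat_lit 12), [nat_lit 1, nat_lit 3, nat_lit 2])) (.leaf ((nat_lit 85), [nat_lit 0, nat_lit 2]))) (.node (nat_lit 273) (.leaf ((nat_lit 84), [nat_lit 2, nat_lit 0, nat_lit 3, nat_lit 2])) (.node (nat_lit 274) (.leaf ((nat_lit 71), [nat_lit 0, nat_lit 2, nat_lit 1, nat_lit 3])) (.leaf ((nat_lit 104), [nat_lit 2, nat_lit 1, nat_lit 3, nat_lit 2])))))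
 (.node (nat_lit 278) (.node (nat_lit 276) (.leaf ((nat_lit 105), [nat_lit 2, nat_lit 0, nat_lit 3, nat_lit 1, nat_lit 2])) (.node (nat_lit 277) (.leaf ((nat_lit 85), [nat_lit 2, nat_lit 0, nat_lit 3, nat_lit 2, nat_lit 1])) (.leaf ((nat_lit 12), [nat_lit 3, nat_lit 2, nat_lit 1, nat_lit 3, nat_lit 0, nat_lit 2])))) (.node (nat_lit 279) (.leaf ((nat_lit 83), [nat_lit 1, nat_lit 3, nat_lit 0])) (.node (nat_lit 280) (.leaf ((nat_lit 19), [nat_lit 3, nat_lit 2])) (.leaf ((nat_lit 102), [nat_lit 1, nat_lit 2, nat_lit 1, nat_lit 3, nat_lit 1, nat_lit 2, nat_lit 1]))))))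
 (.node (nat_lit 286) (.node (nat_lit 283) (.node (nat_lit 282) (.leaf ((nat_lit 78), [nat_lit 1, nat_lit 2, nat_lit 3, nat_lit 2, nat_lit 1])) (.leaf ((nat_lit 84), [nat_lit 2, nat_lit 3, nat_lit 2, nat_lit 1]))) (.node (nat_lit 284) (.leaf ((nat_lit 83), [nat_lit 1, nat_lit 2, nat_lit 0])) (.node (nat_lit 285) (.leaf ((nat_lit 12), [nat_lit 0, nat_lit 3, nat_lit 2, nat_lit 1])) (.leaf ((nat_lit 88), [nat_lit 1, nat_lit 2, nat_lit 1, nat_lit 3, nat_lit 2])))))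
 (.node (nat_lit 289) (.node (nat_lit 287) (.leaf ((nat_lit 88), [nat_lit 0, nat_lit 2, nat_lit 1, nat_lit 3])) (.node (nat_lit 288) (.leaf ((nat_lit 77), [nat_lit 1, nat_lit 2, nat_lit 1])) (.leaf ((nat_lit 106), [nat_lit 3, nat_lit 2])))) (.node (nat_lit 290) (.leaf ((nat_lit 107), [nat_lit 1, nat_lit 3, nat_lit 2, nat_lit 1])) (.node (nat_lit 291) (.leaf ((nat_lit 97), [nat_lit 3, nat_lit 2, nat_lit 1, nat_lit 3, nat_lit 2])) (.leaf ((nat_lit 13), [nat_lit 1, nat_lit 2, nat_lit 3, nat_lit 2, nat_lit 0])))))))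
 (.node (nat_lit 303) (.node (nat_lit 297) (.node (nat_lit 294) (.node (nat_lit 293) (.leaf ((nat_lit 12), [nat_lit 2, nat_lit 3, nat_lit 1, nat_lit 2, nat_lit 0])) (.leaf ((nat_lit 38), [nat_lit 1, nat_lit 3]))) (.node (nat_lit 295) (.leaf ((nat_lit 108), [nat_lit 2, nat_lit 0, nat_lit 3, nat_lit 1, nat_lit 2, nat_lit 0])) (.node (nat_lit 296) (.leaf ((nat_lit 109), [nat_lit 1, nat_lit 2, nat_lit 3, nat_lit 1])) (.leaf ((nat_lit 14), [nat_lit 0, nat_lit 2, nat_lit 3, nat_lit 0])))))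
 (.node (nat_lit 300) (.node (nat_lit 298) (.leaf ((nat_lit 110), [nat_lit 2, nat_lit 1, nat_lit 3, nat_lit 1, nat_lit 2, nat_lit 0])) (.node (nat_lit 299) (.leaf ((nat_lit 53), [nat_lit 1, nat_lit 2, nat_lit 0, nat_lit 3, nat_lit 2, nat_lit 1])) (.leaf ((nat_lit 12), [nat_lit 1, nat_lit 2])))) (.node (nat_lit 301) (.leaf ((nat_lit 13), [nat_lit 1, nat_lit 2, nat_lit 3, nat_lit 1, nat_lit 2, nat_lit 0])) (.node (nat_lit 302) (.leaf ((nat_lit 97), [nat_lit 1, nat_lit 2, nat_lit 0])) (.leaf ((nat_lit 107), [nat_lit 0, nat_lit 3, nat_lit 2]))))))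
 (.node (nat_lit 309) (.node (nat_lit 306) (.node (nat_lit 304) (.leaf ((nat_lit 97), [nat_lit 2, nat_lit 3])) (.node (nat_lit 305) (.leaf ((nat_lit 63), [nat_lit 0, nat_lit 2, nat_lit 1, nat_lit 3, nat_lit 1, nat_lit 2, nat_lit 1])) (.leaf ((nat_lit 37), [nat_lit 2, nat_lit 0, nat_lit 3, nat_lit 0, nat_lit 2, nat_lit 0])))) (.node (nat_lit 307) (.leaf ((nat_lit 97), [nat_lit 1, nat_lit 3, nat_lit 2, nat_lit 1])) (.node (nat_lit 308) (.leaf ((nat_lit 13), [nat_lit 1, nat_lit 2, nat_lit 0, nat_lit 3, nat_lit 0, nat_lit 2, nat_lit 1])) (.leaf ((nat_lit 106), [nat_lit 3, nat_lit 2, nat_lit 1, nat_lit 3, nat_lit 0, nat_lit 2, nat_lit 0])))))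
 (.node (nat_lit 312) (.node (nat_lit 310) (.leaf ((nat_lit 52), [nat_lit 2, nat_lit 1, nat_lit 3, nat_lit 2, nat_lit 1])) (.node (nat_lit 311) (.leaf ((nat_lit 24), [nat_lit 3, nat_lit 2, nat_lit 1, nat_lit 3, nat_lit 2])) (.leaf ((nat_lit 96), [nat_lit 2, nat_lit 0, nat_lit 3, nat_lit 0, nat_lit 2, nat_lit 1])))) (.node (nat_lit 313) (.leaf ((nat_lit 107), [nat_lit 0, nat_lit 2, nat_lit 1, nat_lit 3, nat_lit 1])) (.node (nat_lit 314) (.leaf ((nat_lit 106), [nat_lit 3, nat_lit 2, nat_lit 1, nat_lit 3, nat_lit 0, nat_lit 2, nat_lit 1])) (.leaf ((nat_lit 13), [nat_lit 1, nat_lit 2, nat_lit 0, nat_lit 3, nat_lit 0, nat_lit 2]))))))))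
 (.node (nat_lit 337) (.node (nat_lit 326) (.node (nat_lit 320) (.node (nat_lit 317) (.node (nat_lit 316) (.leaf ((nat_lit 51), [nat_lit 0, nat_lit 2, nat_lit 3, nat_lit 0, nat_lit 2])) (.leaf ((nat_lit 75), [nat_lit 2, nat_lit 1, nat_lit 3, nat_lit 0, nat_lit 2]))) (.node (nat_lit 318) (.leaf ((nat_lit 93), [nat_lit 2, nat_lit 1])) (.node (nat_lit 319) (.leaf ((nat_lit 14), [nat_lit 2, nat_lit 3, nat_lit 2, nat_lit 0])) (.leaf ((nat_lit 110), [nat_lit 1, nat_lit 2, nat_lit 3, nat_lit 0, nat_lit 2, nat_lit 0])))))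
 (.node (nat_lit 323) (.node (nat_lit 321) (.leaf ((nat_lit 108), [nat_lit 2, nat_lit 3, nat_lit 1])) (.node (nat_lit 322) (.leaf ((nat_lit 111), [nat_lit 1, nat_lit 3, nat_lit 2, nat_lit 1])) (.leaf ((nat_lit 49), [nat_lit 0, nat_lit 2, nat_lit 3, nat_lit 1, nat_lit 2, nat_lit 0])))) (.node (nat_lit 324) (.leaf ((nat_lit 24), [nat_lit 2, nat_lit 0])) (.node (nat_lit 325) (.leaf ((nat_lit 110), [nat_lit 0, nat_lit 2, nat_lit 3, nat_lit 2])) (.leaf ((nat_lit 14), [nat_lit 0, nat_lit 3, nat_lit 0, nat_lit 2, nat_lit 1]))))))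
 (.node (nat_lit 331) (.node (nat_lit 328) (.node (nat_lit 327) (.leaf ((nat_lit 109), [nat_lit 1, nat_lit 3, nat_lit 1, nat_lit 2])) (.leaf ((nat_lit 14), [nat_lit 1, nat_lit 2, nat_lit 1, nat_lit 3]))) (.node (nat_lit 329) (.leaf ((nat_lit 14), [nat_lit 2, nat_lit 0, nat_lit 3, nat_lit 2])) (.node (nat_lit 330) (.leaf ((nat_lit 98), [nat_lit 3, nat_lit 2, nat_lit 3, nat_lit 2, nat_lit 0])) (.leaf ((nat_lit 15), [nat_lit 1, nat_lit 2, nat_lit 1, nat_lit 3])))))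
 (.node (nat_lit 334) (.node (nat_lit 332) (.leaf ((nat_lit 103), [nat_lit 2, nat_lit 3, nat_lit 2, nat_lit 0])) (.node (nat_lit 333) (.leaf ((nat_lit 35), [nat_lit 3, nat_lit 2, nat_lit 1, nat_lit 3, nat_lit 0, nat_lit 2, nat_lit 0])) (.leaf ((nat_lit 77), [nat_lit 3])))) (.node (nat_lit 335) (.leaf ((nat_lit 42), [nat_lit 2, nat_lit 0])) (.node (nat_lit 336) (.leaf ((nat_lit 55), [nat_lit 3, nat_lit 2, nat_lit 1, nat_lit 3, nat_lit 2])) (.leaf ((nat_lit 103), [nat_lit 2, nat_lit 0, nat_lit 3, nat_lit 1, nat_lit 2, nat_lit 1])))))))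
 (.node (nat_lit 348) (.node (nat_lit 342) (.node (nat_lit 339) (.node (nat_lit 338) (.leaf ((nat_lit 15), [nat_lit 2, nat_lit 1, nat_lit 3, nat_lit 2, nat_lit 0])) (.leaf ((nat_lit 112), [nat_lit 2, nat_lit 3, nat_lit 0]))) (.node (nat_lit 340) (.leaf ((nat_lit 30), [nat_lit 3, nat_lit 2, nat_lit 3])) (.node (nat_lit 341) (.leaf ((nat_lit 29), [nat_lit 3, nat_lit 2, nat_lit 3, nat_lit 1, nat_lit 2, nat_lit 0])) (.leaf ((nat_lit 56), [nat_lit 3, nat_lit 2, nat_lit 3])))))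
 (.node (nat_lit 345) (.node (nat_lit 343) (.leaf ((nat_lit 35), [nat_lit 3, nat_lit 0, nat_lit 2, nat_lit 1])) (.node (nat_lit 344) (.leaf ((nat_lit 112), [nat_lit 2, nat_lit 3, nat_lit 2, nat_lit 1])) (.leaf ((nat_lit 15), [nat_lit 2, nat_lit 1, nat_lit 3, nat_lit 1])))) (.node (nat_lit 346) (.leaf ((nat_lit 81), [nat_lit 3, nat_lit 0])) (.node (nat_lit 347) (.leaf ((nat_lit 80), [nat_lit 2, nat_lit 1, nat_lit 3, nat_lit 0, nat_lit 2])) (.leaf ((nat_lit 57), [nat_lit 3, nat_lit 2, nat_lit 3, nat_lit 0, nat_lit 2]))))))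
 (.node (nat_lit 354) (.node (nat_lit 351) (.node (nat_lit 349) (.leaf ((nat_lit 25), [nat_lit 2, nat_lit 3, nat_lit 0])) (.node (nat_lit 350) (.leaf ((nat_lit 69), [nat_lit 1, nat_lit 2, nat_lit 3, nat_lit 2, nat_lit 1])) (.leaf ((nat_lit 23), [nat_lit 2, nat_lit 0, nat_lit 3, nat_lit 1, nat_lit 2])))) (.node (nat_lit 352) (.leaf ((nat_lit 16), [nat_lit 1, nat_lit 2, nat_lit 0, nat_lit 3])) (.node (nat_lit 353) (.leaf ((nat_lit 15), [nat_lit 2, nat_lit 1, nat_lit 3, nat_lit 0, nat_lit 2])) (.leaf ((nat_lit 92), [nat_lit 3, nat_lit 1, nat_lit 2])))))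
 (.node (nat_lit 357) (.node (nat_lit 355) (.leaf ((nat_lit 112), [nat_lit 1, nat_lit 3, nat_lit 2, nat_lit 1])) (.node (nat_lit 356) (.leaf ((nat_lit 35), [nat_lit 1, nat_lit 2, nat_lit 0, nat_lit 3])) (.leaf ((nat_lit 103), [nat_lit 0, nat_lit 2, nat_lit 1, nat_lit 3, nat_lit 0])))) (.node (nat_lit 358) (.leaf ((nat_lit 25), [nat_lit 0, nat_lit 2, nat_lit 3, nat_lit 1, nat_lit 2, nat_lit 0])) (.node (nat_lit 359) (.leaf ((nat_lit 101), [nat_lit 0, nat_lit 2, nat_lit 1, nat_lit 3, nat_lit 1, nat_lit 2, nat_lit 1])) (.leaf ((nat_lit 15), [nat_lit 3, nat_lit 2, nat_lit 3, nat_lit 2, nat_lit 0]))))))))))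
noncomputable def n10Wd_2 : Tr (ℕ × List ℕ) := (.node (nat_lit 450) (.node (nat_lit 405) (.node (nat_lit 382) (.node (nat_lit 371) (.node (nat_lit 365) (.node (nat_lit 362) (.node (nat_lit 361) (.leaf ((nat_lit 28), [nat_lit 1, nat_lit 3, nat_lit 0, nat_lit 2, nat_lit 1])) (.leaf ((nat_lit 34), [nat_lit 1, nat_lit 2, nat_lit 0, nat_lit 3, nat_lit 0, nat_lit 2, nat_lit 1]))) (.node (nat_lit 363) (.leaf ((nat_lit 16), [nat_lit 0, nat_lit 2, nat_lit 1, nat_lit 3, nat_lit 1])) (.node (nat_lit 364) (.leaf ((nat_lit 101), [nat_lit 1, nat_lit 3, nat_lit 1, nat_lit 2])) (.leaf ((nat_lit 25), [nat_lit 1, nat_lit 2, nat_lit 0, nat_lit 3, nat_lit 2, nat_lit 1])))))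
 (.node (nat_lit 368) (.node (nat_lit 366) (.leaf ((nat_lit 102), [nat_lit 3, nat_lit 2, nat_lit 1, nat_lit 3, nat_lit 1])) (.node (nat_lit 367) (.leaf ((nat_lit 73), [nat_lit 1, nat_lit 2, nat_lit 3, nat_lit 1])) (.leaf ((nat_lit 75), [nat_lit 3, nat_lit 0, nat_lit 2])))) (.node (nat_lit 369) (.leaf ((nat_lit 77), [nat_lit 0, nat_lit 2, nat_lit 1, nat_lit 3, nat_lit 2])) (.node (nat_lit 370) (.leaf ((nat_lit 18), [nat_lit 3, nat_lit 2, nat_lit 3, nat_lit 0, nat_lit 2, nat_lit 1])) (.leaf ((nat_lit 82), [nat_lit 1, nat_lit 2, nat_lit 3, nat_lit 2, nat_lit 0]))))))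
 (.node (nat_lit 376) (.node (nat_lit 373) (.node (nat_lit 372) (.leaf ((nat_lit 16), [nat_lit 0, nat_lit 2, nat_lit 1, nat_lit 3, nat_lit 0, nat_lit 2, nat_lit 0])) (.leaf ((nat_lit 17), [nat_lit 1, nat_lit 2, nat_lit 0, nat_lit 3, nat_lit 1, nat_lit 2, nat_lit 0]))) (.node (nat_lit 374) (.leaf ((nat_lit 80), [nat_lit 1, nat_lit 2, nat_lit 0])) (.node (nat_lit 375) (.leaf ((nat_lit 113), [nat_lit 1, nat_lit 2, nat_lit 1, nat_lit 3])) (.leaf ((nat_lit 22), [nat_lit 3, nat_lit 2, nat_lit 1, nat_lit 3, nat_lit 0, nat_lit 2, nat_lit 0])))))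
 (.node (nat_lit 379) (.node (nat_lit 377) (.leaf ((nat_lit 22), [nat_lit 1, nat_lit 2])) (.node (nat_lit 378) (.leaf ((nat_lit 21), [nat_lit 1, nat_lit 2])) (.leaf ((nat_lit 113), [nat_lit 1, nat_lit 2, nat_lit 0, nat_lit 3, nat_lit 0])))) (.node (nat_lit 380) (.leaf ((nat_lit 87), [nat_lit 0, nat_lit 3, nat_lit 0])) (.node (nat_lit 381) (.leaf ((nat_lit 17), [nat_lit 0, nat_lit 2, nat_lit 3, nat_lit 0, nat_lit 2, nat_lit 1])) (.leaf ((nat_lit 98), [nat_lit 1, nat_lit 3, nat_lit 1, nat_lit 2])))))))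
 (.node (nat_lit 393) (.node (nat_lit 387) (.node (nat_lit 384) (.node (nat_lit 383) (.leaf ((nat_lit 50), [nat_lit 3, nat_lit 2, nat_lit 1, nat_lit 3, nat_lit 0, nat_lit 2, nat_lit 0])) (.leaf ((nat_lit 111), [nat_lit 1, nat_lit 2, nat_lit 1, nat_lit 3]))) (.node (nat_lit 385) (.leaf ((nat_lit 66), [nat_lit 0, nat_lit 2, nat_lit 3, nat_lit 2, nat_lit 0])) (.node (nat_lit 386) (.leaf ((nat_lit 44), [nat_lit 3, nat_lit 2, nat_lit 3, nat_lit 1])) (.leaf ((nat_lit 114), [nat_lit 1, nat_lit 2, nat_lit 0, nat_lit 3, nat_lit 0, nat_lit 2])))))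
 (.node (nat_lit 390) (.node (nat_lit 388) (.leaf ((nat_lit 43), [nat_lit 1, nat_lit 2, nat_lit 3, nat_lit 2])) (.node (nat_lit 389) (.leaf ((nat_lit 17), [nat_lit 1, nat_lit 2, nat_lit 0, nat_lit 3, nat_lit 2, nat_lit 1])) (.leaf ((nat_lit 81), [nat_lit 1, nat_lit 3, nat_lit 1, nat_lit 2])))) (.node (nat_lit 391) (.leaf ((nat_lit 20), [nat_lit 3, nat_lit 2, nat_lit 1, nat_lit 3, nat_lit 1])) (.node (nat_lit 392) (.leaf ((nat_lit 68), [nat_lit 0, nat_lit 3, nat_lit 0, nat_lit 2])) (.leaf ((nat_lit 18), [nat_lit 1, nat_lit 2, nat_lit 1, nat_lit 3, nat_lit 1]))))))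
 (.node (nat_lit 399) (.node (nat_lit 396) (.node (nat_lit 394) (.leaf ((nat_lit 82), [nat_lit 0, nat_lit 2, nat_lit 1, nat_lit 3, nat_lit 2, nat_lit 0])) (.node (nat_lit 395) (.leaf ((nat_lit 18), [nat_lit 1, nat_lit 3, nat_lit 1])) (.leaf ((nat_lit 115), [nat_lit 1, nat_lit 2])))) (.node (nat_lit 397) (.leaf ((nat_lit 64), [nat_lit 1, nat_lit 2, nat_lit 3, nat_lit 2, nat_lit 1])) (.node (nat_lit 398) (.leaf ((nat_lit 101), [nat_lit 1, nat_lit 2, nat_lit 0, nat_lit 3, nat_lit 0, nat_lit 2, nat_lit 1])) (.leaf ((nat_lit 100), [nat_lit 1, nat_lit 2, nat_lit 1, nat_lit 3, nat_lit 0, nat_lit 2, nat_lit 0])))))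
 (.node (nat_lit 402) (.node (nat_lit 400) (.leaf ((nat_lit 31), [nat_lit 1, nat_lit 3, nat_lit 2, nat_lit 1])) (.node (nat_lit 401) (.leaf ((nat_lit 31), [nat_lit 0, nat_lit 2, nat_lit 1, nat_lit 3, nat_lit 2])) (.leaf ((nat_lit 18), [nat_lit 1, nat_lit 2, nat_lit 1, nat_lit 3, nat_lit 1, nat_lit 2])))) (.node (nat_lit 403) (.leaf ((nat_lit 68), [nat_lit 3, nat_lit 0])) (.node (nat_lit 404) (.leaf ((nat_lit 20), [nat_lit 0, nat_lit 2])) (.leaf ((nat_lit 19), [nat_lit 2, nat_lit 3]))))))))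
 (.node (nat_lit 427) (.node (nat_lit 416) (.node (nat_lit 410) (.node (nat_lit 407) (.node (nat_lit 406) (.leaf ((nat_lit 87), [nat_lit 0, nat_lit 2, nat_lit 1, nat_lit 3, nat_lit 1, nat_lit 2, nat_lit 1])) (.leaf ((nat_lit 20), [nat_lit 0, nat_lit 2, nat_lit 3, nat_lit 1, nat_lit 2, nat_lit 0]))) (.node (nat_lit 408) (.leaf ((nat_lit 99), [nat_lit 2, nat_lit 3, nat_lit 1, nat_lit 2])) (.node (nat_lit 409) (.leaf ((nat_lit 67), [nat_lit 1, nat_lit 3])) (.leaf ((nat_lit 65), [nat_lit 2, nat_lit 1, nat_lit 3, nat_lit 1])))))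
 (.node (nat_lit 413) (.node (nat_lit 411) (.leaf ((nat_lit 21), [nat_lit 0, nat_lit 3])) (.node (nat_lit 412) (.leaf ((nat_lit 102), [nat_lit 0, nat_lit 3, nat_lit 2, nat_lit 0])) (.leaf ((nat_lit 19), [nat_lit 2, nat_lit 1, nat_lit 3, nat_lit 2])))) (.node (nat_lit 414) (.leaf ((nat_lit 84), [nat_lit 1, nat_lit 3, nat_lit 1, nat_lit 2])) (.node (nat_lit 415) (.leaf ((nat_lit 74), [nat_lit 0, nat_lit 2, nat_lit 1, nat_lit 3, nat_lit 0, nat_lit 2, nat_lit 1])) (.leaf ((nat_lit 58), [nat_lit 0, nat_lit 2, nat_lit 3, nat_lit 2, nat_lit 0]))))))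
 (.node (nat_lit 421) (.node (nat_lit 418) (.node (nat_lit 417) (.leaf ((nat_lit 32), [nat_lit 1, nat_lit 2, nat_lit 1, nat_lit 3, nat_lit 2])) (.leaf ((nat_lit 99), [nat_lit 2, nat_lit 1]))) (.node (nat_lit 419) (.leaf ((nat_lit 84), [nat_lit 3, nat_lit 2, nat_lit 3, nat_lit 1, nat_lit 2])) (.node (nat_lit 420) (.leaf ((nat_lit 19), [nat_lit 3, nat_lit 2, nat_lit 1, nat_lit 3, nat_lit 0, nat_lit 2, nat_lit 0])) (.leaf ((nat_lit 77), [nat_lit 2, nat_lit 3, nat_lit 0])))))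
 (.node (nat_lit 424) (.node (nat_lit 422) (.leaf ((nat_lit 22), [nat_lit 3, nat_lit 2, nat_lit 1, nat_lit 3])) (.node (nat_lit 423) (.leaf ((nat_lit 73), [nat_lit 0, nat_lit 2, nat_lit 3, nat_lit 1])) (.leaf ((nat_lit 78), [nat_lit 1, nat_lit 3, nat_lit 2])))) (.node (nat_lit 425) (.leaf ((nat_lit 112), [nat_lit 1, nat_lit 2, nat_lit 0, nat_lit 3, nat_lit 2])) (.node (nat_lit 426) (.leaf ((nat_lit 90), [nat_lit 1, nat_lit 3])) (.leaf ((nat_lit 75), [nat_lit 3, nat_lit 1, nat_lit 2])))))))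
 (.node (nat_lit 438) (.node (nat_lit 432) (.node (nat_lit 429) (.node (nat_lit 428) (.leaf ((nat_lit 73), [nat_lit 1, nat_lit 2, nat_lit 3, nat_lit 0, nat_lit 2, nat_lit 1])) (.leaf ((nat_lit 22), [nat_lit 1, nat_lit 2, nat_lit 3, nat_lit 1, nat_lit 2, nat_lit 1]))) (.node (nat_lit 430) (.leaf ((nat_lit 45), [nat_lit 3, nat_lit 0, nat_lit 2, nat_lit 1])) (.node (nat_lit 431) (.leaf ((nat_lit 116), [nat_lit 1, nat_lit 2, nat_lit 0, nat_lit 3, nat_lit 2, nat_lit 1])) (.leaf ((nat_lit 71), [nat_lit 3, nat_lit 2, nat_lit 3, nat_lit 2, nat_lit 1])))))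
 (.node (nat_lit 435) (.node (nat_lit 433) (.leaf ((nat_lit 87), [nat_lit 3, nat_lit 2, nat_lit 1, nat_lit 3])) (.node (nat_lit 434) (.leaf ((nat_lit 113), [nat_lit 0, nat_lit 2, nat_lit 3, nat_lit 2, nat_lit 0])) (.leaf ((nat_lit 80), [nat_lit 3, nat_lit 0, nat_lit 2])))) (.node (nat_lit 436) (.leaf ((nat_lit 96), [nat_lit 2, nat_lit 1, nat_lit 3])) (.node (nat_lit 437) (.leaf ((nat_lit 23), [nat_lit 1, nat_lit 2, nat_lit 3, nat_lit 0, nat_lit 2, nat_lit 1])) (.leaf ((nat_lit 72), [nat_lit 1, nat_lit 3, nat_lit 0]))))))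
 (.node (nat_lit 444) (.node (nat_lit 441) (.node (nat_lit 439) (.leaf ((nat_lit 61), [nat_lit 0, nat_lit 3, nat_lit 2, nat_lit 0])) (.node (nat_lit 440) (.leaf ((nat_lit 71), [nat_lit 0, nat_lit 2, nat_lit 1, nat_lit 3, nat_lit 2, nat_lit 0])) (.leaf ((nat_lit 70), [nat_lit 0, nat_lit 3, nat_lit 2, nat_lit 1])))) (.node (nat_lit 442) (.leaf ((nat_lit 37), [nat_lit 3, nat_lit 2, nat_lit 1, nat_lit 3, nat_lit 0])) (.node (nat_lit 443) (.leaf ((nat_lit 85), [nat_lit 1, nat_lit 2, nat_lit 0, nat_lit 3, nat_lit 2, nat_lit 1])) (.leaf ((nat_lit 23), [nat_lit 1, nat_lit 2, nat_lit 1, nat_lit 3, nat_lit 1, nat_lit 2])))))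
 (.node (nat_lit 447) (.node (nat_lit 445) (.leaf ((nat_lit 69), [nat_lit 0, nat_lit 2, nat_lit 1, nat_lit 3, nat_lit 0, nat_lit 2, nat_lit 1])) (.node (nat_lit 446) (.leaf ((nat_lit 25), [nat_lit 0, nat_lit 2, nat_lit 3, nat_lit 2])) (.leaf ((nat_lit 24), [nat_lit 3, nat_lit 1, nat_lit 2, nat_lit 0])))) (.node (nat_lit 448) (.leaf ((nat_lit 76), [nat_lit 1, nat_lit 2, nat_lit 1])) (.node (nat_lit 449) (.leaf ((nat_lit 76), [nat_lit 2, nat_lit 0, nat_lit 3, nat_lit 2])) (.leaf ((nat_lit 83), [nat_lit 2, nat_lit 0, nat_lit 3, nat_lit 0, nat_lit 2, nat_lit 0])))))))))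
 (.node (nat_lit 495) (.node (nat_lit 472) (.node (nat_lit 461) (.node (nat_lit 455) (.node (nat_lit 452) (.node (nat_lit 451) (.leaf ((nat_lit 71), [nat_lit 2, nat_lit 0, nat_lit 3])) (.leaf ((nat_lit 61), [nat_lit 2, nat_lit 1, nat_lit 3]))) (.node (nat_lit 453) (.leaf ((nat_lit 43), [nat_lit 2, nat_lit 0])) (.node (nat_lit 454) (.leaf ((nat_lit 24), [nat_lit 3, nat_lit 2, nat_lit 1, nat_lit 3, nat_lit 1])) (.leaf ((nat_lit 52), [nat_lit 2, nat_lit 1, nat_lit 3, nat_lit 0, nat_lit 2])))))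
 (.node (nat_lit 458) (.node (nat_lit 456) (.leaf ((nat_lit 110), [nat_lit 0, nat_lit 2, nat_lit 1, nat_lit 3, nat_lit 0])) (.node (nat_lit 457) (.leaf ((nat_lit 115), [nat_lit 3, nat_lit 2, nat_lit 3, nat_lit 1])) (.leaf ((nat_lit 91), [nat_lit 0, nat_lit 2, nat_lit 3, nat_lit 1, nat_lit 2, nat_lit 1])))) (.node (nat_lit 459) (.leaf ((nat_lit 117), [nat_lit 1, nat_lit 2, nat_lit 3, nat_lit 1, nat_lit 2, nat_lit 0])) (.node (nat_lit 460) (.leaf ((nat_lit 74), [nat_lit 0, nat_lit 2, nat_lit 0])) (.leaf ((nat_lit 74), [nat_lit 2, nat_lit 3, nat_lit 1, nat_lit 2]))))))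
 (.node (nat_lit 466) (.node (nat_lit 463) (.node (nat_lit 462) (.leaf ((nat_lit 25), [nat_lit 2, nat_lit 0, nat_lit 3, nat_lit 1, nat_lit 2, nat_lit 0])) (.leaf ((nat_lit 70), [nat_lit 1, nat_lit 3, nat_lit 2]))) (.node (nat_lit 464) (.leaf ((nat_lit 43), [nat_lit 2, nat_lit 3, nat_lit 2, nat_lit 1])) (.node (nat_lit 465) (.leaf ((nat_lit 61), [nat_lit 2, nat_lit 3, nat_lit 0, nat_lit 2, nat_lit 1])) (.leaf ((nat_lit 55), [nat_lit 3])))))
 (.node (nat_lit 469) (.node (nat_lit 467) (.leaf ((nat_lit 26), [nat_lit 0, nat_lit 2, nat_lit 1, nat_lit 3])) (.node (nat_lit 468) (.leaf ((nat_lit 47), [nat_lit 0, nat_lit 2, nat_lit 0])) (.leaf ((nat_lit 34), [nat_lit 0, nat_lit 3, nat_lit 2])))) (.node (nat_lit 470) (.leaf ((nat_lit 28), [nat_lit 0, nat_lit 2, nat_lit 1, nat_lit 3, nat_lit 2])) (.node (nat_lit 471) (.leaf ((nat_lit 27), [nat_lit 2, nat_lit 0, nat_lit 3, nat_lit 0, nat_lit 2, nat_lit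 1])) (.leaf ((nat_lit 70), [nat_lit 2, nat_lit 3, nat_lit 0])))))))
 (.node (nat_lit 483) (.node (nat_lit 477) (.node (nat_lit 474) (.node (nat_lit 473) (.leaf ((nat_lit 83), [nat_lit 0, nat_lit 2, nat_lit 1, nat_lit 3, nat_lit 2, nat_lit 0])) (.leaf ((nat_lit 46), [nat_lit 0, nat_lit 2, nat_lit 3, nat_lit 2, nat_lit 0]))) (.node (nat_lit 475) (.leaf ((nat_lit 91), [nat_lit 1, nat_lit 3, nat_lit 1, nat_lit 2, nat_lit 0])) (.node (nat_lit 476) (.leaf ((nat_lit 115), [nat_lit 1, nat_lit 2, nat_lit 1, nat_lit 3, nat_lit 0, nat_lit 2, nat_lit 0])) (.leaf ((nat_lit 118), [nat_lit 1, nat_lit 3, nat_lit 0, nat_lit 2, nat_lit 1])))))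
 (.node (nat_lit 480) (.node (nat_lit 478) (.leaf ((nat_lit 27), [nat_lit 3, nat_lit 2, nat_lit 1, nat_lit 3, nat_lit 1, nat_lit 2, nat_lit 0])) (.node (nat_lit 479) (.leaf ((nat_lit 103), [nat_lit 0, nat_lit 2, nat_lit 3, nat_lit 1, nat_lit 2])) (.leaf ((nat_lit 89), [nat_lit 1, nat_lit 3, nat_lit 0, nat_lit 2, nat_lit 1])))) (.node (nat_lit 481) (.leaf ((nat_lit 30), [nat_lit 0, nat_lit 2, nat_lit 1, nat_lit 3, nat_lit 2, nat_lit 0])) (.node (nat_lit 482) (.leaf ((nat_lit 62), [nat_lit 1, nat_lit 2, nat_lit 0])) (.leaf ((nat_lit 72), [nat_lit 2, nat_lit 1, nat_lit 3]))))))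
 (.node (nat_lit 489) (.node (nat_lit 486) (.node (nat_lit 484) (.leaf ((nat_lit 28), [nat_lit 1, nat_lit 3, nat_lit 1, nat_lit 2, nat_lit 0])) (.node (nat_lit 485) (.leaf ((nat_lit 57), [nat_lit 2, nat_lit 1, nat_lit 3, nat_lit 0, nat_lit 2])) (.leaf ((nat_lit 116), [nat_lit 0])))) (.node (nat_lit 487) (.leaf ((nat_lit 42), [nat_lit 0, nat_lit 2, nat_lit 1, nat_lit 3, nat_lit 0, nat_lit 2])) (.node (nat_lit 488) (.leaf ((nat_lit 88), [nat_lit 1, nat_lit 2, nat_lit 3, nat_lit 2, nat_lit 1])) (.leaf ((nat_lit 40), [nat_lit 3, nat_lit 2, nat_lit 3, nat_lit 1, nat_lit 2, nat_lit 1])))))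
 (.node (nat_lit 492) (.node (nat_lit 490) (.leaf ((nat_lit 57), [nat_lit 1, nat_lit 3])) (.node (nat_lit 491) (.leaf ((nat_lit 28), [nat_lit 2, nat_lit 3, nat_lit 1, nat_lit 2])) (.leaf ((nat_lit 64), [nat_lit 2, nat_lit 0, nat_lit 3, nat_lit 0])))) (.node (nat_lit 493) (.leaf ((nat_lit 118), [nat_lit 2, nat_lit 3, nat_lit 1])) (.node (nat_lit 494) (.leaf ((nat_lit 117), [nat_lit 0, nat_lit 2, nat_lit 1, nat_lit 3, nat_lit 1, nat_lit 2, nat_lit 1])) (.leaf ((nat_lit 91), [nat_lit 1, nat_lit 2, nat_lit 1, nat_lit 3, nat_lit 2, nat_lit 1]))))))))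
 (.node (nat_lit 517) (.node (nat_lit 506) (.node (nat_lit 500) (.node (nat_lit 497) (.node (nat_lit 496) (.leaf ((nat_lit 65), [nat_lit 1, nat_lit 2, nat_lit 3, nat_lit 0, nat_lit 2, nat_lit 1])) (.leaf ((nat_lit 61), [nat_lit 1, nat_lit 2, nat_lit 3, nat_lit 2, nat_lit 0]))) (.node (nat_lit 498) (.leaf ((nat_lit 28), [nat_lit 1, nat_lit 2, nat_lit 3, nat_lit 1])) (.node (nat_lit 499) (.leaf ((nat_lit 29), [nat_lit 2, nat_lit 0, nat_lit 3, nat_lit 0, nat_lit 2, nat_lit 1])) (.leaf ((nat_lit 47), [nat_lit 1, nat_lit 2, nat_lit 0])))))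
 (.node (nat_lit 503) (.node (nat_lit 501) (.leaf ((nat_lit 46), [nat_lit 1, nat_lit 3, nat_lit 0])) (.node (nat_lit 502) (.leaf ((nat_lit 112), [nat_lit 0, nat_lit 2, nat_lit 1, nat_lit 3, nat_lit 0, nat_lit 2, nat_lit 1])) (.leaf ((nat_lit 78), [nat_lit 1, nat_lit 2, nat_lit 3, nat_lit 0, nat_lit 2, nat_lit 1])))) (.node (nat_lit 504) (.leaf ((nat_lit 74), [nat_lit 1, nat_lit 2, nat_lit 1, nat_lit 3, nat_lit 1, nat_lit 2])) (.node (nat_lit 505) (.leaf ((nat_lit 47), [nat_lit 0, nat_lit 2, nat_lit 3, nat_lit 2])) (.leaf ((nat_lit 29), [nat_lit 1, nat_lit 2, nat_lit 3, nat_lit 0]))))))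
 (.node (nat_lit 511) (.node (nat_lit 508) (.node (nat_lit 507) (.leaf ((nat_lit 45), [nat_lit 2, nat_lit 3, nat_lit 1, nat_lit 2])) (.leaf ((nat_lit 115), [nat_lit 2, nat_lit 3, nat_lit 1]))) (.node (nat_lit 509) (.leaf ((nat_lit 69), [nat_lit 3, nat_lit 2, nat_lit 3, nat_lit 1, nat_lit 2])) (.node (nat_lit 510) (.leaf ((nat_lit 68), [nat_lit 2, nat_lit 0, nat_lit 3, nat_lit 0])) (.leaf ((nat_lit 46), [nat_lit 0, nat_lit 2, nat_lit 3, nat_lit 1, nat_lit 2])))))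
 (.node (nat_lit 514) (.node (nat_lit 512) (.leaf ((nat_lit 45), [nat_lit 2, nat_lit 1])) (.node (nat_lit 513) (.leaf ((nat_lit 29), [nat_lit 0, nat_lit 3, nat_lit 1, nat_lit 2, nat_lit 1])) (.leaf ((nat_lit 93), [nat_lit 0, nat_lit 3, nat_lit 1])))) (.node (nat_lit 515) (.leaf ((nat_lit 73), [nat_lit 0, nat_lit 2, nat_lit 3, nat_lit 1, nat_lit 2, nat_lit 0])) (.node (nat_lit 516) (.leaf ((nat_lit 85), [nat_lit 3, nat_lit 2, nat_lit 1, nat_lit 3, nat_lit 2])) (.leaf ((nat_lit 36), [nat_lit 3, nat_lit 2, nat_lit 3, nat_lit 0, nat_lit 2, nat_lit 0])))))))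
 (.node (nat_lit 528) (.node (nat_lit 522) (.node (nat_lit 519) (.node (nat_lit 518) (.leaf ((nat_lit 89), [nat_lit 0, nat_lit 3, nat_lit 1, nat_lit 2])) (.leaf ((nat_lit 104), [nat_lit 0, nat_lit 2, nat_lit 0]))) (.node (nat_lit 520) (.leaf ((nat_lit 33), [nat_lit 3, nat_lit 2, nat_lit 3, nat_lit 1, nat_lit 2, nat_lit 0])) (.node (nat_lit 521) (.leaf ((nat_lit 32), [nat_lit 2, nat_lit 0, nat_lit 3])) (.leaf ((nat_lit 29), [nat_lit 3, nat_lit 2, nat_lit 3, nat_lit 2, nat_lit 0])))))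
 (.node (nat_lit 525) (.node (nat_lit 523) (.leaf ((nat_lit 72), [nat_lit 1, nat_lit 2, nat_lit 3, nat_lit 1, nat_lit 2, nat_lit 1])) (.node (nat_lit 524) (.leaf ((nat_lit 63), [nat_lit 1, nat_lit 3, nat_lit 1])) (.leaf ((nat_lit 30), [nat_lit 3, nat_lit 2, nat_lit 1, nat_lit 3, nat_lit 1, nat_lit 2])))) (.node (nat_lit 526) (.leaf ((nat_lit 67), [nat_lit 3, nat_lit 2, nat_lit 1, nat_lit 3, nat_lit 0, nat_lit 2, nat_lit 0])) (.node (nat_lit 527) (.leaf ((nat_lit 40), [nat_lit 0, nat_lit 2, nat_lit 3, nat_lit 2, nat_lit 1])) (.leaf ((nat_lit 34), [nat_lit 3, nat_lit 2, nat_lit 1, nat_lit 3, nat_lit 1, nat_lit 2, nat_lit 0]))))))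
 (.node (nat_lit 534) (.node (nat_lit 531) (.node (nat_lit 529) (.leaf ((nat_lit 99), [nat_lit 0, nat_lit 2, nat_lit 3, nat_lit 1, nat_lit 2, nat_lit 1])) (.node (nat_lit 530) (.leaf ((nat_lit 81), [nat_lit 0, nat_lit 2, nat_lit 3, nat_lit 2, nat_lit 0])) (.leaf ((nat_lit 98), [nat_lit 2, nat_lit 0, nat_lit 3])))) (.node (nat_lit 532) (.leaf ((nat_lit 47), [nat_lit 2, nat_lit 3, nat_lit 0, nat_lit 2, nat_lit 0])) (.node (nat_lit 533) (.leaf ((nat_lit 47), [nat_lit 3, nat_lit 0, nat_lit 2, nat_lit 1])) (.leaf ((nat_lit 30), [nat_lit 2, nat_lit 1])))))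
 (.node (nat_lit 537) (.node (nat_lit 535) (.leaf ((nat_lit 33), [nat_lit 2, nat_lit 0, nat_lit 3, nat_lit 2, nat_lit 1])) (.node (nat_lit 536) (.leaf ((nat_lit 86), [nat_lit 2, nat_lit 0, nat_lit 3, nat_lit 1])) (.leaf ((nat_lit 116), [nat_lit 0, nat_lit 2, nat_lit 0])))) (.node (nat_lit 538) (.leaf ((nat_lit 92), [nat_lit 0, nat_lit 3])) (.node (nat_lit 539) (.leaf ((nat_lit 113), [nat_lit 1, nat_lit 2, nat_lit 0, nat_lit 3, nat_lit 2, nat_lit 1])) (.leaf ((nat_lit 79), [nat_lit 0, nat_lit 2, nat_lit 1, nat_lit 3, nat_lit 0]))))))))))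
noncomputable def n10Wd_3 : Tr (ℕ × List ℕ) := (.node (nat_lit 630) (.node (nat_lit 585) (.node (nat_lit 562) (.node (nat_lit 551) (.node (nat_lit 545) (.node (nat_lit 542) (.node (nat_lit 541) (.leaf ((nat_lit 116), [nat_lit 0, nat_lit 3])) (.leaf ((nat_lit 92), [nat_lit 3, nat_lit 2, nat_lit 3, nat_lit 1, nat_lit 2, nat_lit 1]))) (.node (nat_lit 543) (.leaf ((nat_lit 33), [nat_lit 1, nat_lit 2, nat_lit 3, nat_lit 0, nat_lit 2])) (.node (nat_lit 544) (.leaf ((nat_lit 36), [nat_lit 1, nat_lit 2, nat_lit 0, nat_lit 3, nat_lit 0, nat_lit 2])) (.leaf ((nat_lit 100), [nat_lit 2, nat_lit 3, nat_lit 1, nat_lit 2])))))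
 (.node (nat_lit 548) (.node (nat_lit 546) (.leaf ((nat_lit 70), [nat_lit 3, nat_lit 0])) (.node (nat_lit 547) (.leaf ((nat_lit 79), [nat_lit 1, nat_lit 2, nat_lit 0, nat_lit 3, nat_lit 0])) (.leaf ((nat_lit 76), [nat_lit 3, nat_lit 2, nat_lit 1, nat_lit 3, nat_lit 0])))) (.node (nat_lit 549) (.leaf ((nat_lit 82), [nat_lit 0, nat_lit 2, nat_lit 3, nat_lit 0, nat_lit 2, nat_lit 0])) (.node (nat_lit 550) (.leaf ((nat_lit 35), [nat_lit 0, nat_lit 3, nat_lit 0, nat_lit 2])) (.leaf ((nat_lit 34), [nat_lit 2, nat_lit 3, nat_lit 0, nat_lit 2]))))))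
 (.node (nat_lit 556) (.node (nat_lit 553) (.node (nat_lit 552) (.leaf ((nat_lit 43), [nat_lit 3])) (.leaf ((nat_lit 104), [nat_lit 2, nat_lit 1, nat_lit 3]))) (.node (nat_lit 554) (.leaf ((nat_lit 90), [nat_lit 3, nat_lit 2, nat_lit 3, nat_lit 0])) (.node (nat_lit 555) (.leaf ((nat_lit 36), [nat_lit 0, nat_lit 2, nat_lit 3, nat_lit 2])) (.leaf ((nat_lit 89), [nat_lit 3, nat_lit 1])))))
 (.node (nat_lit 559) (.node (nat_lit 557) (.leaf ((nat_lit 105), [nat_lit 2, nat_lit 3, nat_lit 0, nat_lit 2])) (.node (nat_lit 558) (.leaf ((nat_lit 58), [nat_lit 2, nat_lit 0, nat_lit 3])) (.leaf ((nat_lit 38), [nat_lit 2, nat_lit 0, nat_lit 3, nat_lit 1])))) (.node (nat_lit 560) (.leaf ((nat_lit 37), [nat_lit 3, nat_lit 2, nat_lit 0])) (.node (nat_lit 561) (.leaf ((nat_lit 96), [nat_lit 2, nat_lit 3, nat_lit 2, nat_lit 1])) (.leaf ((nat_lit 85), [nat_lit 0, nat_lit 3, nat_lit 1])))))))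
 (.node (nat_lit 573) (.node (nat_lit 567) (.node (nat_lit 564) (.node (nat_lit 563) (.leaf ((nat_lit 37), [nat_lit 3, nat_lit 1])) (.leaf ((nat_lit 52), [nat_lit 0, nat_lit 2]))) (.node (nat_lit 565) (.leaf ((nat_lit 39), [nat_lit 1, nat_lit 2, nat_lit 3])) (.node (nat_lit 566) (.leaf ((nat_lit 96), [nat_lit 3, nat_lit 2, nat_lit 3])) (.leaf ((nat_lit 37), [nat_lit 3, nat_lit 2, nat_lit 1, nat_lit 3, nat_lit 2])))))
 (.node (nat_lit 570) (.node (nat_lit 568) (.leaf ((nat_lit 118), [nat_lit 1, nat_lit 2, nat_lit 1, nat_lit 3, nat_lit 2, nat_lit 0])) (.node (nat_lit 569) (.leaf ((nat_lit 95), [nat_lit 1, nat_lit 3, nat_lit 0, nat_lit 2, nat_lit 0])) (.leaf ((nat_lit 107), [nat_lit 2, nat_lit 0, nat_lit 3, nat_lit 2])))) (.node (nat_lit 571) (.leaf ((nat_lit 96), [nat_lit 0, nat_lit 2, nat_lit 0])) (.node (nat_lit 572) (.leaf ((nat_lit 39), [nat_lit 1, nat_lit 3, nat_lit 0, nat_lit 2, nat_lit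 0])) (.leaf ((nat_lit 38), [nat_lit 3, nat_lit 2, nat_lit 3, nat_lit 2, nat_lit 0]))))))
 (.node (nat_lit 579) (.node (nat_lit 576) (.node (nat_lit 574) (.leaf ((nat_lit 119), [nat_lit 1, nat_lit 2, nat_lit 0, nat_lit 3, nat_lit 1, nat_lit 2, nat_lit 0])) (.node (nat_lit 575) (.leaf ((nat_lit 94), [nat_lit 1, nat_lit 2, nat_lit 1, nat_lit 3, nat_lit 0])) (.leaf ((nat_lit 106), [nat_lit 0, nat_lit 2])))) (.node (nat_lit 577) (.leaf ((nat_lit 95), [nat_lit 1, nat_lit 2, nat_lit 1])) (.node (nat_lit 578) (.leaf ((nat_lit 94), [nat_lit 3, nat_lit 2, nat_lit 3])) (.leaf ((nat_lit 93), [nat_lit 0, nat_lit 2, nat_lit 3, nat_lit 2])))))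
 (.node (nat_lit 582) (.node (nat_lit 580) (.leaf ((nat_lit 72), [nat_lit 3, nat_lit 0, nat_lit 2])) (.node (nat_lit 581) (.leaf ((nat_lit 38), [nat_lit 2, nat_lit 1, nat_lit 3, nat_lit 0, nat_lit 2])) (.leaf ((nat_lit 51), [nat_lit 0, nat_lit 2, nat_lit 1, nat_lit 3, nat_lit 1, nat_lit 2])))) (.node (nat_lit 583) (.leaf ((nat_lit 51), [nat_lit 0, nat_lit 2, nat_lit 3, nat_lit 0])) (.node (nat_lit 584) (.leaf ((nat_lit 50), [nat_lit 1, nat_lit 2, nat_lit 0])) (.leaf ((nat_lit 48), [nat_lit 3, nat_lit 2, nat_lit 1, nat_lit 3, nat_lit 2]))))))))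
 (.node (nat_lit 607) (.node (nat_lit 596) (.node (nat_lit 590) (.node (nat_lit 587) (.node (nat_lit 586) (.leaf ((nat_lit 50), [nat_lit 3, nat_lit 2])) (.leaf ((nat_lit 98), [nat_lit 3, nat_lit 2, nat_lit 3, nat_lit 1, nat_lit 2]))) (.node (nat_lit 588) (.leaf ((nat_lit 39), [nat_lit 2, nat_lit 3, nat_lit 0, nat_lit 2, nat_lit 0])) (.node (nat_lit 589) (.leaf ((nat_lit 41), [nat_lit 1, nat_lit 2, nat_lit 1, nat_lit 3, nat_lit 0, nat_lit 2, nat_lit 0])) (.leaf ((nat_lit 40), [nat_lit 1, nat_lit 2, nat_lit 0, nat_lit 3, nat_lit 0, nat_lit 2])))))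
 (.node (nat_lit 593) (.node (nat_lit 591) (.leaf ((nat_lit 88), [nat_lit 3, nat_lit 1, nat_lit 2])) (.node (nat_lit 592) (.leaf ((nat_lit 63), [nat_lit 2, nat_lit 0, nat_lit 3, nat_lit 0])) (.leaf ((nat_lit 97), [nat_lit 3, nat_lit 2, nat_lit 3, nat_lit 1, nat_lit 2])))) (.node (nat_lit 594) (.leaf ((nat_lit 54), [nat_lit 3, nat_lit 2, nat_lit 3, nat_lit 2, nat_lit 0])) (.node (nat_lit 595) (.leaf ((nat_lit 88), [nat_lit 3, nat_lit 2, nat_lit 1, nat_lit 3, nat_lit 0])) (.leaf ((nat_lit 42), [nat_lit 0, nat_lit 2, nat_lit 3, nat_lit 2]))))))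
 (.node (nat_lit 601) (.node (nat_lit 598) (.node (nat_lit 597) (.leaf ((nat_lit 41), [nat_lit 1, nat_lit 2, nat_lit 3, nat_lit 1])) (.leaf ((nat_lit 69), [nat_lit 0, nat_lit 2]))) (.node (nat_lit 599) (.leaf ((nat_lit 115), [nat_lit 3, nat_lit 0])) (.node (nat_lit 600) (.leaf ((nat_lit 67), [nat_lit 2, nat_lit 0, nat_lit 3, nat_lit 2])) (.leaf ((nat_lit 114), [nat_lit 0, nat_lit 2, nat_lit 0])))))
 (.node (nat_lit 604) (.node (nat_lit 602) (.leaf ((nat_lit 119), [nat_lit 0, nat_lit 2, nat_lit 1, nat_lit 3, nat_lit 1, nat_lit 2, nat_lit 0])) (.node (nat_lit 603) (.leaf ((nat_lit 66), [nat_lit 1, nat_lit 2, nat_lit 1, nat_lit 3, nat_lit 0, nat_lit 2, nat_lit 0])) (.leaf ((nat_lit 41), [nat_lit 2, nat_lit 3])))) (.node (nat_lit 605) (.leaf ((nat_lit 90), [nat_lit 2, nat_lit 0, nat_lit 3, nat_lit 2])) (.node (nat_lit 606) (.leaf ((nat_lit 113), [nat_lit 3, nat_lit 1, nat_lit 2, nat_lit 1]))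 (.leaf ((nat_lit 44), [nat_lit 0, nat_lit 3, nat_lit 0])))))))
 (.node (nat_lit 618) (.node (nat_lit 612) (.node (nat_lit 609) (.node (nat_lit 608) (.leaf ((nat_lit 66), [nat_lit 0, nat_lit 2, nat_lit 1, nat_lit 3, nat_lit 1, nat_lit 2, nat_lit 0])) (.leaf ((nat_lit 119), [nat_lit 0, nat_lit 3, nat_lit 0, nat_lit 2]))) (.node (nat_lit 610) (.leaf ((nat_lit 60), [nat_lit 2, nat_lit 0, nat_lit 3, nat_lit 0])) (.node (nat_lit 611) (.leaf ((nat_lit 59), [nat_lit 3, nat_lit 2, nat_lit 1, nat_lit 3, nat_lit 0, nat_lit 2, nat_lit 0])) (.leaf ((nat_lit 104), [nat_lit 2, nat_lit 0, nat_lit 3, nat_lit 0, nat_lit 2])))))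
 (.node (nat_lit 615) (.node (nat_lit 613) (.leaf ((nat_lit 119), [nat_lit 2, nat_lit 1, nat_lit 3, nat_lit 1, nat_lit 2, nat_lit 0])) (.node (nat_lit 614) (.leaf ((nat_lit 114), [nat_lit 2, nat_lit 3, nat_lit 1])) (.leaf ((nat_lit 44), [nat_lit 3, nat_lit 2, nat_lit 1, nat_lit 3, nat_lit 2, nat_lit 0])))) (.node (nat_lit 616) (.leaf ((nat_lit 68), [nat_lit 1, nat_lit 2, nat_lit 3, nat_lit 1])) (.node (nat_lit 617) (.leaf ((nat_lit 46), [nat_lit 3, nat_lit 2, nat_lit 1, nat_lit 3, nat_lit 0, nat_lit 2])) (.leaf ((nat_lit 60), [nat_lit 2, nat_lit 3, nat_lit 1, nat_lit 2, nat_lit 1]))))))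
 (.node (nat_lit 624) (.node (nat_lit 621) (.node (nat_lit 619) (.leaf ((nat_lit 56), [nat_lit 3, nat_lit 2, nat_lit 1, nat_lit 3, nat_lit 2, nat_lit 0])) (.node (nat_lit 620) (.leaf ((nat_lit 55), [nat_lit 1, nat_lit 2, nat_lit 3, nat_lit 2])) (.leaf ((nat_lit 59), [nat_lit 1, nat_lit 3, nat_lit 0, nat_lit 2, nat_lit 1])))) (.node (nat_lit 622) (.leaf ((nat_lit 44), [nat_lit 2, nat_lit 0, nat_lit 3])) (.node (nat_lit 623) (.leaf ((nat_lit 79), [nat_lit 2, nat_lit 0, nat_lit 3, nat_lit 2, nat_lit 1])) (.leaf ((nat_lit 112), [nat_lit 1, nat_lit 2])))))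
 (.node (nat_lit 627) (.node (nat_lit 625) (.leaf ((nat_lit 92), [nat_lit 3, nat_lit 0, nat_lit 2])) (.node (nat_lit 626) (.leaf ((nat_lit 116), [nat_lit 0, nat_lit 2, nat_lit 1, nat_lit 3, nat_lit 2])) (.leaf ((nat_lit 86), [nat_lit 1, nat_lit 2, nat_lit 1])))) (.node (nat_lit 628) (.leaf ((nat_lit 116), [nat_lit 0, nat_lit 2, nat_lit 1, nat_lit 3, nat_lit 1])) (.node (nat_lit 629) (.leaf ((nat_lit 45), [nat_lit 2, nat_lit 3, nat_lit 0, nat_lit 2])) (.leaf ((nat_lit 101), [nat_lit 2, nat_lit 1, nat_lit 3, nat_lit 1, nat_lit 2])))))))))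
 (.node (nat_lit 675) (.node (nat_lit 652) (.node (nat_lit 641) (.node (nat_lit 635) (.node (nat_lit 632) (.node (nat_lit 631) (.leaf ((nat_lit 117), [nat_lit 0, nat_lit 3, nat_lit 1, nat_lit 2])) (.leaf ((nat_lit 118), [nat_lit 1, nat_lit 2, nat_lit 0]))) (.node (nat_lit 633) (.leaf ((nat_lit 115), [nat_lit 1, nat_lit 3, nat_lit 2])) (.node (nat_lit 634) (.leaf ((nat_lit 113), [nat_lit 2, nat_lit 3, nat_lit 0, nat_lit 2])) (.leaf ((nat_lit 92), [nat_lit 2, nat_lit 1, nat_lit 3, nat_lit 2])))))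
 (.node (nat_lit 638) (.node (nat_lit 636) (.leaf ((nat_lit 45), [nat_lit 2, nat_lit 0, nat_lit 3, nat_lit 1, nat_lit 2])) (.node (nat_lit 637) (.leaf ((nat_lit 48), [nat_lit 2, nat_lit 3])) (.leaf ((nat_lit 52), [nat_lit 2, nat_lit 1, nat_lit 3, nat_lit 1, nat_lit 2, nat_lit 1])))) (.node (nat_lit 639) (.leaf ((nat_lit 51), [nat_lit 0, nat_lit 2, nat_lit 1, nat_lit 3, nat_lit 1, nat_lit 2, nat_lit 1])) (.node (nat_lit 640) (.leaf ((nat_lit 107), [nat_lit 3, nat_lit 2, nat_lit 1, nat_lit 3, nat_lit 1, nat_lit 2, nat_lit 0])) (.leaf ((nat_lit 117), [nat_lit 3, nat_lit 2, nat_lit 3, nat_lit 1, nat_lit 2, nat_lit 0]))))))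
 (.node (nat_lit 646) (.node (nat_lit 643) (.node (nat_lit 642) (.leaf ((nat_lit 95), [nat_lit 2, nat_lit 1])) (.leaf ((nat_lit 52), [nat_lit 0, nat_lit 3, nat_lit 0, nat_lit 2, nat_lit 1]))) (.node (nat_lit 644) (.leaf ((nat_lit 48), [nat_lit 0, nat_lit 2, nat_lit 3, nat_lit 0])) (.node (nat_lit 645) (.leaf ((nat_lit 50), [nat_lit 2, nat_lit 3, nat_lit 1])) (.leaf ((nat_lit 106), [nat_lit 1, nat_lit 3, nat_lit 1, nat_lit 2, nat_lit 1])))))
 (.node (nat_lit 649) (.node (nat_lit 647) (.leaf ((nat_lit 114), [nat_lit 2, nat_lit 0])) (.node (nat_lit 648) (.leaf ((nat_lit 94), [nat_lit 2, nat_lit 3, nat_lit 1, nat_lit 2])) (.leaf ((nat_lit 49), [nat_lit 1, nat_lit 2, nat_lit 0, nat_lit 3, nat_lit 1, nat_lit 2])))) (.node (nat_lit 650) (.leaf ((nat_lit 111), [nat_lit 2, nat_lit 0, nat_lit 3, nat_lit 1])) (.node (nat_lit 651) (.leaf ((nat_lit 53), [nat_lit 0, nat_lit 3, nat_lit 2])) (.leaf ((nat_lit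 109), [nat_lit 2, nat_lit 3, nat_lit 2, nat_lit 0])))))))
 (.node (nat_lit 663) (.node (nat_lit 657) (.node (nat_lit 654) (.node (nat_lit 653) (.leaf ((nat_lit 109), [nat_lit 3, nat_lit 1, nat_lit 2])) (.leaf ((nat_lit 114), [nat_lit 0, nat_lit 2, nat_lit 3, nat_lit 2, nat_lit 1]))) (.node (nat_lit 655) (.leaf ((nat_lit 111), [nat_lit 3, nat_lit 1, nat_lit 2, nat_lit 0])) (.node (nat_lit 656) (.leaf ((nat_lit 49), [nat_lit 0, nat_lit 3, nat_lit 2, nat_lit 0])) (.leaf ((nat_lit 54), [nat_lit 2, nat_lit 0, nat_lit 3, nat_lit 0])))))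
 (.node (nat_lit 660) (.node (nat_lit 658) (.leaf ((nat_lit 108), [nat_lit 1, nat_lit 2, nat_lit 3, nat_lit 2])) (.node (nat_lit 659) (.leaf ((nat_lit 108), [nat_lit 2, nat_lit 0, nat_lit 3])) (.leaf ((nat_lit 117), [nat_lit 3, nat_lit 2, nat_lit 3, nat_lit 0, nat_lit 2, nat_lit 0])))) (.node (nat_lit 661) (.leaf ((nat_lit 54), [nat_lit 2, nat_lit 3, nat_lit 2, nat_lit 1])) (.node (nat_lit 662) (.leaf ((nat_lit 53), [nat_lit 1, nat_lit 2, nat_lit 1, nat_lit 3, nat_lit 2, nat_lit 0])) (.leaf ((nat_lit 111), [nat_lit 1, nat_lit 2, nat_lit 0, nat_lit 3, nat_lit 2]))))))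
 (.node (nat_lit 669) (.node (nat_lit 666) (.node (nat_lit 664) (.leaf ((nat_lit 49), [nat_lit 1, nat_lit 2, nat_lit 0, nat_lit 3, nat_lit 0, nat_lit 2])) (.node (nat_lit 665) (.leaf ((nat_lit 111), [nat_lit 2, nat_lit 1, nat_lit 3, nat_lit 2])) (.leaf ((nat_lit 75), [nat_lit 1, nat_lit 3, nat_lit 0, nat_lit 2, nat_lit 1])))) (.node (nat_lit 667) (.leaf ((nat_lit 109), [nat_lit 1, nat_lit 2, nat_lit 0, nat_lit 3])) (.node (nat_lit 668) (.leaf ((nat_lit 108), [nat_lit 0, nat_lit 3, nat_lit 1, nat_lit 2])) (.leaf ((nat_lit 110), [nat_lit 2, nat_lit 3, nat_lit 1, nat_lit 2, nat_lit 0])))))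
 (.node (nat_lit 672) (.node (nat_lit 670) (.leaf ((nat_lit 53), [nat_lit 0, nat_lit 2, nat_lit 3, nat_lit 0])) (.node (nat_lit 671) (.leaf ((nat_lit 110), [nat_lit 2, nat_lit 3, nat_lit 0, nat_lit 2])) (.leaf ((nat_lit 63), [nat_lit 3, nat_lit 0, nat_lit 2, nat_lit 0])))) (.node (nat_lit 673) (.leaf ((nat_lit 59), [nat_lit 0, nat_lit 2, nat_lit 3, nat_lit 0])) (.node (nat_lit 674) (.leaf ((nat_lit 57), [nat_lit 0, nat_lit 2, nat_lit 3, nat_lit 2])) (.leaf ((nat_lit 56), [nat_lit 1, nat_lit 3, nat_lit 2]))))))))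
 (.node (nat_lit 697) (.node (nat_lit 686) (.node (nat_lit 680) (.node (nat_lit 677) (.node (nat_lit 676) (.leaf ((nat_lit 83), [nat_lit 0, nat_lit 2, nat_lit 1, nat_lit 3, nat_lit 0, nat_lit 2, nat_lit 1])) (.leaf ((nat_lit 70), [nat_lit 2, nat_lit 3, nat_lit 1, nat_lit 2, nat_lit 0]))) (.node (nat_lit 678) (.leaf ((nat_lit 103), [nat_lit 2, nat_lit 0])) (.node (nat_lit 679) (.leaf ((nat_lit 63), [nat_lit 1, nat_lit 3, nat_lit 1, nat_lit 2, nat_lit 0])) (.leaf ((nat_lit 72), [nat_lit 1, nat_lit 2, nat_lit 3, nat_lit 2, nat_lit 1])))))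
 (.node (nat_lit 683) (.node (nat_lit 681) (.leaf ((nat_lit 62), [nat_lit 3, nat_lit 0, nat_lit 2, nat_lit 0])) (.node (nat_lit 682) (.leaf ((nat_lit 105), [nat_lit 2, nat_lit 1, nat_lit 3, nat_lit 2])) (.leaf ((nat_lit 89), [nat_lit 0, nat_lit 2, nat_lit 3, nat_lit 1, nat_lit 2, nat_lit 0])))) (.node (nat_lit 684) (.leaf ((nat_lit 100), [nat_lit 3, nat_lit 2, nat_lit 1, nat_lit 3, nat_lit 1, nat_lit 2])) (.node (nat_lit 685) (.leaf ((nat_lit 100), [nat_lit 1, nat_lit 2, nat_lit 1])) (.leaf ((nat_lit 102), [nat_lit 0, nat_lit 3, nat_lit 2]))))))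
 (.node (nat_lit 691) (.node (nat_lit 688) (.node (nat_lit 687) (.leaf ((nat_lit 64), [nat_lit 2, nat_lit 1, nat_lit 3, nat_lit 1, nat_lit 2, nat_lit 0])) (.leaf ((nat_lit 117), [nat_lit 2, nat_lit 0, nat_lit 3, nat_lit 1, nat_lit 2, nat_lit 0]))) (.node (nat_lit 689) (.leaf ((nat_lit 107), [nat_lit 1, nat_lit 2])) (.node (nat_lit 690) (.leaf ((nat_lit 108), [nat_lit 0, nat_lit 2, nat_lit 3, nat_lit 2, nat_lit 1])) (.leaf ((nat_lit 76), [nat_lit 3, nat_lit 2, nat_lit 3, nat_lit 0, nat_lit 2, nat_lit 0])))))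
 (.node (nat_lit 694) (.node (nat_lit 692) (.leaf ((nat_lit 79), [nat_lit 1, nat_lit 2, nat_lit 1, nat_lit 3, nat_lit 0, nat_lit 2, nat_lit 0])) (.node (nat_lit 693) (.leaf ((nat_lit 105), [nat_lit 2, nat_lit 3, nat_lit 0])) (.leaf ((nat_lit 84), [nat_lit 0, nat_lit 3, nat_lit 2])))) (.node (nat_lit 695) (.leaf ((nat_lit 99), [nat_lit 1, nat_lit 3])) (.node (nat_lit 696) (.leaf ((nat_lit 65), [nat_lit 2, nat_lit 0])) (.leaf ((nat_lit 90), [nat_lit 3, nat_lit 1])))))))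
 (.node (nat_lit 708) (.node (nat_lit 702) (.node (nat_lit 699) (.node (nat_lit 698) (.leaf ((nat_lit 104), [nat_lit 2, nat_lit 3, nat_lit 0, nat_lit 2, nat_lit 1])) (.leaf ((nat_lit 89), [nat_lit 1, nat_lit 2, nat_lit 1]))) (.node (nat_lit 700) (.leaf ((nat_lit 104), [nat_lit 0, nat_lit 3, nat_lit 0, nat_lit 2, nat_lit 1])) (.node (nat_lit 701) (.leaf ((nat_lit 71), [nat_lit 0, nat_lit 2, nat_lit 3, nat_lit 1, nat_lit 2, nat_lit 0])) (.leaf ((nat_lit 80), [nat_lit 1])))))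
 (.node (nat_lit 705) (.node (nat_lit 703) (.leaf ((nat_lit 105), [nat_lit 2, nat_lit 0, nat_lit 3, nat_lit 1])) (.node (nat_lit 704) (.leaf ((nat_lit 82), [nat_lit 3, nat_lit 2, nat_lit 1, nat_lit 3, nat_lit 0, nat_lit 2, nat_lit 0])) (.leaf ((nat_lit 76), [nat_lit 1, nat_lit 2, nat_lit 0, nat_lit 3, nat_lit 2, nat_lit 0])))) (.node (nat_lit 706) (.leaf ((nat_lit 114), [nat_lit 1, nat_lit 2, nat_lit 0, nat_lit 3, nat_lit 1, nat_lit 2])) (.node (nat_lit 707) (.leaf ((nat_lit 106), [nat_lit 3, nat_lit 2, nat_lit 3, nat_lit 0, nat_lit 2, nat_lit 1])) (.leaf ((nat_lit 109), [nat_lit 3, nat_lit 2, nat_lit 3, nat_lit 1]))))))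
 (.node (nat_lit 714) (.node (nat_lit 711) (.node (nat_lit 709) (.leaf ((nat_lit 82), [nat_lit 0, nat_lit 3, nat_lit 2])) (.node (nat_lit 710) (.leaf ((nat_lit 105), [nat_lit 1, nat_lit 2, nat_lit 0])) (.leaf ((nat_lit 79), [nat_lit 0, nat_lit 2, nat_lit 1, nat_lit 3, nat_lit 0])))) (.node (nat_lit 712) (.leaf ((nat_lit 94), [nat_lit 1, nat_lit 2, nat_lit 3, nat_lit 0, nat_lit 2, nat_lit 0])) (.node (nat_lit 713) (.leaf ((nat_lit 119), [nat_lit 0, nat_lit 2, nat_lit 3, nat_lit 1])) (.leaf ((nat_lit 118), [nat_lit 2])))))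
 (.node (nat_lit 717) (.node (nat_lit 715) (.leaf ((nat_lit 102), [nat_lit 1, nat_lit 2, nat_lit 0, nat_lit 3, nat_lit 0, nat_lit 2])) (.node (nat_lit 716) (.leaf ((nat_lit 100), [nat_lit 1, nat_lit 2, nat_lit 0, nat_lit 3, nat_lit 0, nat_lit 2, nat_lit 1])) (.leaf ((nat_lit 101), [nat_lit 2, nat_lit 1, nat_lit 3, nat_lit 1])))) (.node (nat_lit 718) (.leaf ((nat_lit 95), [nat_lit 1, nat_lit 2, nat_lit 0, nat_lit 3, nat_lit 1, nat_lit 2, nat_lit 0])) (.node (nat_lit 719) (.leaf ((nat_lit 118), [nat_lit 0, nat_lit 3, nat_lit 2, nat_lit 1])) (.leaf ((nat_lit 119), [nat_lit 1, nat_lit 2, nat_lit 0, nat_lit 3, nat_lit 1, nat_lit 2, nat_lit 0]))))))))))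
noncomputable def n10Wd : Tr (ℕ × List ℕ) := (.node (nat_lit 360) (.node (nat_lit 180) n10Wd_0 n10Wd_1) (.node (nat_lit 540) n10Wd_2 n10Wd_3))
theorem n10q : allR 0 120 (dblChk (nat_lit 4) (nat_lit 15) (MG.gl42L.map Lev.b) MG.gl42T n10T n10Dd (topN MG.gl42L) 120 5 n10PA n10Wd) = true := by decide +kernel
noncomputable def n10Ws : List (List ℕ) := [[]]
noncomputable def n10CE : Tr (ℕ × List ℕ × List (List ℕ)) := (.node (nat_lit 2) (.node (nat_lit 1) (.leaf ((nat_lit 0), [], [])) (.leaf ((nat_lit 13), [nat_lit 1, nat_lit 0, nat_lit 5, nat_lit 2, nat_lit 4, nat_lit 1, nat_lit 3, nat_lit 2, nat_lit 1, nat_lit 0], [[nat_lit 3, nat_lit 99, nat_lit 3, nat_lit 1], [nat_lit 0, nat_lit 99, nat_lit 2]]))) (.node (nat_lit 3) (.leaf ((nat_lit 13), [nat_lit 5, nat_lit 1, nat_lit 5, nat_lit 2, nat_lit 1, nat_lit 4, nat_lit 2, nat_lit 1], [[nat_lit 3, nat_lit 0, nat_lit 2], [nat_lit 0, nat_lit 2, nat_lit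 99, nat_lit 0]])) (.node (nat_lit 4) (.leaf ((nat_lit 14), [nat_lit 2, nat_lit 5, nat_lit 4, nat_lit 1, nat_lit 3, nat_lit 0], [[nat_lit 2, nat_lit 3, nat_lit 1], [nat_lit 99, nat_lit 0, nat_lit 3]])) (.leaf ((nat_lit 12), [nat_lit 4, nat_lit 0, nat_lit 5, nat_lit 2, nat_lit 4, nat_lit 2, nat_lit 1, nat_lit 0, nat_lit 3, nat_lit 2, nat_lit 0], [[nat_lit 99, nat_lit 1, nat_lit 99, nat_lit 1], [nat_lit 0, nat_lit 99]])))))
theorem n10s : allR 0 5 (stepChk (nat_lit 4) (nat_lit 15) (MG.gl42L.map Lev.b) MG.gl42T n10T n10T n10T n10Dd AW [nat_lit 12, nat_lit 13, nat_lit 14] n10Ws n10CE) = true := by decide +kernel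
noncomputable def n10iI : Tr (List ℕ) := (.node (nat_lit 2) (.node (nat_lit 1) (.leaf [nat_lit 1, nat_lit 2, nat_lit 3, nat_lit 2, nat_lit 0]) (.leaf [nat_lit 1, nat_lit 3, nat_lit 0])) (.node (nat_lit 3) (.leaf [nat_lit 2, nat_lit 1, nat_lit 3, nat_lit 0, nat_lit 2]) (.leaf [nat_lit 2, nat_lit 0, nat_lit 3, nat_lit 1, nat_lit 2])))
theorem n10ih : MG.gl32R.all (fun w => eqB (n10L.map Lev.b) (apF (fun y => apL (nat_lit 4) (nat_lit 15) n10T (n10iI.get y)) w) fun a => a) = true := by decide +kernel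
noncomputable def n10iD : Tr (List ℕ) := (.node (nat_lit 2) (.node (nat_lit 1) (.leaf [nat_lit 0, nat_lit 3, nat_lit 2, nat_lit 1]) (.leaf [nat_lit 1, nat_lit 3, nat_lit 2, nat_lit 0])) (.node (nat_lit 3) (.leaf [nat_lit 1, nat_lit 2, nat_lit 1]) (.leaf [nat_lit 2, nat_lit 1, nat_lit 3, nat_lit 1, nat_lit 2, nat_lit 1])))
theorem n10is : band (surChk (nat_lit 4) (nat_lit 15) (n10L.map Lev.b) n10T n10iI (topN MG.gl32L) n10iD (topN n10L)) (Nat.ble (chainOrd 7 MG.gl32L) (chainOrd 15 n10L)) = true := by decide +kernel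
theorem s10 {G : Type*} [Group G] [Finite G] {X : Type*} [MulAction G X] {pt : ℕ → X} (C : Ch G 15 (nat_lit 4) (nat_lit 15) pt MG.gl42T MG.gl42L) {H : Subgroup G} (h : PJ C.lets.e AW 10 H) :
    ∃ K : Subgroup G, Nonempty (H ≃* K) ∧ (Q K ∨ ∃ j ∈ [nat_lit 12, nat_lit 13, nat_lit 14], PJ C.lets.e AW j K) := by
  obtain ⟨K, e, hK⟩ := h.conj
  refine ⟨K, e, ?_⟩
  obtain ⟨N, D, S⟩ := (C.gen (lets_words C.lets n10E n10w) n10chain n10sd n10tc)
  have le := C.le_AW D hK n10slp n10a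
  have hD := lets_words C.lets n10dE n10dw
  refine (C.step D.lets D.lets D.lets hD le_normalizer le_rfl (C.dbl D.lets hD n10q (by decide +kernel)) (Ws := n10Ws) (fun u hu => ⟨[], List.mem_singleton_self _, u, hu, (one_mul u).symm⟩) (by decide +kernel) n10s le).imp_left fun h => ?_
  rw [le_antisymm h le]
  exact .inr (.inr (.inr (.inr (((MG.gl32std fm2 (ZMod.card 2)).isoW D n10ih n10is).map MulEquiv.symm))))
noncomputable def n11t0 : ℕ := (nat_lit 0xedcb789a3456210)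
noncomputable def n11t1 : ℕ := (nat_lit 0xedcb87a94365210)
noncomputable def n11t2 : ℕ := (nat_lit 0x56cb1287de439a0)
noncomputable def n11t3 : ℕ := (nat_lit 0xe5c329076d4ba18)
noncomputable def n11T : Tr ℕ := (.node (nat_lit 2) (.node (nat_lit 1) (.leaf n11t0) (.leaf n11t1)) (.node (nat_lit 3) (.leaf n11t2) (.leaf n11t3)))
noncomputable def n11R : Tr (List ℕ) := (.node (nat_lit 5) (.node (nat_lit 2) (.node (nat_lit 1) (.leaf [nat_lit 2, nat_lit 0, nat_lit 2, nat_lit 0, nat_lit 2, nat_lit 0]) (.leaf [nat_lit 3, nat_lit 0, nat_lit 3, nat_lit 0, nat_lit 3, nat_lit 0])) (.node (nat_lit 3) (.leaf [nat_lit 0, nat_lit 0]) (.node (nat_lit 4) (.leaf [nat_lit 0, nat_lit 1, nat_lit 0, nat_lit 1]) (.leaf [nat_lit 2, nat_lit 1, nat_lit 2, nat_lit 1, nat_lit 2, nat_lit 1]))))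
 (.node (nat_lit 7) (.node (nat_lit 6) (.leaf [nat_lit 1, nat_lit 1]) (.leaf [nat_lit 0, nat_lit 2, nat_lit 3, nat_lit 1, nat_lit 3, nat_lit 2, nat_lit 0, nat_lit 3])) (.node (nat_lit 8) (.leaf [nat_lit 2, nat_lit 2]) (.node (nat_lit 9) (.leaf [nat_lit 3, nat_lit 3]) (.leaf [nat_lit 3, nat_lit 0, nat_lit 1, nat_lit 3, nat_lit 0, nat_lit 1, nat_lit 3, nat_lit 0, nat_lit 1])))))
noncomputable def n11L0 : Lev := ⟨(nat_lit 0), (nat_lit 4), (nat_lit 0x201040200000000030300), (nat_lit 0x202010300000000030300),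
 (.node (nat_lit 2) (.node (nat_lit 1) (.leaf (nat_lit 0x20000000100030000000000000000000400060000))
 (.leaf (nat_lit 0x1000100000000000000000000000600060000)))
 (.node (nat_lit 3) (.leaf (nat_lit 0x10001000500050000000000000000000000000000))
 (.leaf (nat_lit 0x30002000000030000000000000000000200070001)))),
 (.node (nat_lit 2) (.node (nat_lit 1) (.leaf (nat_lit 0x300000000000201000201000000000000000000000000000105000005000000))
 (.leaf (nat_lit 0x500000501000000000000000000000000000000000405000405000000)))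
 (.node (nat_lit 3) (.leaf (nat_lit 0x700000700000002000605000000000000000000000000000000000000000000))
 (.leaf (nat_lit 0x800000102000000000903000000000000000000000000000604000607000801))))⟩
noncomputable def n11L1 : Lev := ⟨(nat_lit 1), (nat_lit 3), (nat_lit 0x302020100000000030000), (nat_lit 0x103020200000000040000),
 (.node (nat_lit 1) (.leaf (nat_lit 0x10002000300000000000000000000000400000000))
 (.node (nat_lit 2) (.leaf (nat_lit 0x10000000000010000000000000000000300000000))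
 (.leaf (nat_lit 0x1000200020000000000000000000000010000)))),
 (.node (nat_lit 1) (.leaf (nat_lit 0x200000302000201000000000000000000000000000000000005000000000000))
 (.node (nat_lit 2) (.leaf (nat_lit 0x500000000000000000501000000000000000000000000000405000000000000))
 (.leaf (nat_lit 0x700000402000002000000000000000000000000000000000701000000))))⟩
noncomputable def n11L2 : Lev := ⟨(nat_lit 3), (nat_lit 2), (nat_lit 0x1020200000000), (nat_lit 0x1010200000000),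
 (.node (nat_lit 1) (.leaf (nat_lit 0x200030001000000000000))
 (.leaf (nat_lit 0x1000000000001000000000000))),
 (.node (nat_lit 1) (.leaf (nat_lit 0x302000201000201000000000000000000))
 (.leaf (nat_lit 0x500000000000000000501000000000000000000)))⟩
noncomputable def n11L : List Lev := [n11L0, n11L1, n11L2]
noncomputable def n11E : Tr (List ℕ) := (.node (nat_lit 2) (.node (nat_lit 1) (.leaf [nat_lit 2, nat_lit 4, nat_lit 0, nat_lit 3, nat_lit 2, nat_lit 0]) (.leaf [nat_lit 4, nat_lit 0, nat_lit 4, nat_lit 3, nat_lit 0, nat_lit 3, nat_lit 0])) (.node (nat_lit 3) (.leaf [nat_lit 2, nat_lit 1, nat_lit 5, nat_lit 3, nat_lit 1, nat_lit 0, nat_lit 4, nat_lit 1, nat_lit 0, nat_lit 3, nat_lit 2, nat_lit 1]) (.leaf [nat_lit 3, nat_lit 2, nat_lit 1, nat_lit 4, nat_lit 2, nat_lit 1, nat_lit 3])))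
theorem n11w_0 : n11T.all2 (fun c w => isProd 15 (nat_lit 4) (nat_lit 15) MG.gl42T c w) n11E = true := by decide +kernel
theorem n11w : n11T.all2 (fun c w => isProd 15 (nat_lit 4) (nat_lit 15) MG.gl42T c w) n11E = true := n11w_0
theorem n11lev0 : levChk 15 (nat_lit 4) (nat_lit 15) n11T n11R n11L0 n11L1.N = true := by decide +kernel
theorem n11lev1 : levChk 15 (nat_lit 4) (nat_lit 15) n11T n11R n11L1 n11L2.N = true := by decide +kernel
theorem n11lev2 : levChk 15 (nat_lit 4) (nat_lit 15) n11T n11R n11L2 0 = true := by decide +kernel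
theorem n11chain : Chain 15 (nat_lit 4) (nat_lit 15) n11T n11R n11L := chain_cons n11lev0 <| chain_cons n11lev1 <| chain_one n11lev2
theorem n11sd : band (selChk n11T n11T (topN n11L)) (n11R.all fun w => eqB (MG.gl42L.map Lev.b) (apL (nat_lit 4) (nat_lit 15) n11T w) fun a => a) = true := by decide +kernel
theorem n11tc : tchainChk 15 (nat_lit 4) (nat_lit 15) n11T n11L = true := by decide +kernel
noncomputable def n11s0 : ℕ := (nat_lit 0x4bc3921ad65e078)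
noncomputable def n11s1 : ℕ := (nat_lit 0x5ec329706db41a8)
noncomputable def n11s2 : ℕ := (nat_lit 0x36cd7a0154eb982)
noncomputable def n11s3 : ℕ := (nat_lit 0xd5c419086e3ba27)
noncomputable def n11s4 : ℕ := (nat_lit 0x65cb872143eda90)
noncomputable def n11s5 : ℕ := (nat_lit 0x43cb21a9ed65870)
noncomputable def n11s6 : ℕ := (nat_lit 0x34cb9a2156ed780)
noncomputable def n11s7 : ℕ := (nat_lit 0x43cb9a1256de870)
noncomputable def n11s8 : ℕ := (nat_lit 0xedcb9a785634210)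
noncomputable def n11s9 : ℕ := (nat_lit 0xedcb789a3456210)
noncomputable def n11s10 : ℕ := (nat_lit 0xedcb87a94365210)
noncomputable def n11s11 : ℕ := (nat_lit 0x56cb1287de439a0)
noncomputable def n11s12 : ℕ := (nat_lit 0xe5c329076d4ba18)
noncomputable def n11S : Tr ℕ := (.node (nat_lit 6) (.node (nat_lit 3) (.node (nat_lit 1) (.leaf n11s0) (.node (nat_lit 2) (.leaf n11s1) (.leaf n11s2))) (.node (nat_lit 4) (.leaf n11s3) (.node (nat_lit 5) (.leaf n11s4) (.leaf n11s5))))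
 (.node (nat_lit 9) (.node (nat_lit 7) (.leaf n11s6) (.node (nat_lit 8) (.leaf n11s7) (.leaf n11s8)))
 (.node (nat_lit 11) (.node (nat_lit 10) (.leaf n11s9) (.leaf n11s10)) (.node (nat_lit 12) (.leaf n11s11) (.leaf n11s12)))))
noncomputable def n11D : Tr (List ℕ) := (.node (nat_lit 6) (.node (nat_lit 3) (.node (nat_lit 1) (.leaf []) (.node (nat_lit 2) (.leaf []) (.leaf [nat_lit 0, nat_lit 0, nat_lit 0, nat_lit 0, nat_lit 0, nat_lit 0]))) (.node (nat_lit 4) (.leaf [nat_lit 1, nat_lit 1]) (.node (nat_lit 5) (.leaf [nat_lit 0, nat_lit 0, nat_lit 3, nat_lit 2, nat_lit 2]) (.leaf [nat_lit 0, nat_lit 0, nat_lit 1, nat_lit 2, nat_lit 2]))))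
 (.node (nat_lit 9) (.node (nat_lit 7) (.leaf [nat_lit 3, nat_lit 0]) (.node (nat_lit 8) (.leaf [nat_lit 2, nat_lit 1]) (.leaf [nat_lit 4, nat_lit 6, nat_lit 4, nat_lit 6])))
 (.node (nat_lit 11) (.node (nat_lit 10) (.leaf [nat_lit 4, nat_lit 7]) (.leaf [nat_lit 9, nat_lit 8])) (.node (nat_lit 12) (.leaf [nat_lit 9, nat_lit 5, nat_lit 8]) (.leaf [nat_lit 0, nat_lit 6])))))
theorem n11slp : slpChk 15 (nat_lit 4) (nat_lit 15) n11S n11D 2 11 = true := by decide +kernel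
theorem n11a : band (selChk n11T n11S (2 + 11)) (allB 2 fun j => anyL (AW.get 11) fun w => isProd 15 (nat_lit 4) (nat_lit 15) MG.gl42T (n11S.get j) w) = true := by decide +kernel
noncomputable def n11Dd : Tr ℕ := (.node (nat_lit 3) (.node (nat_lit 1) (.leaf (nat_lit 0xedcba9876543210)) (.node (nat_lit 2) (.leaf (nat_lit 0xcdeb89a74563012)) (.leaf (nat_lit 0x2d0b6947a583e1c))))
 (.node (nat_lit 5) (.node (nat_lit 4) (.leaf (nat_lit 0xeac8d9b76240513)) (.leaf (nat_lit 0xecdb6453a897201))) (.node (nat_lit 6) (.leaf (nat_lit 0x5a386947d2b0e1c)) (.leaf (nat_lit 0x2c1ba4936857e0d)))))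
noncomputable def n11dE : Tr (List ℕ) := (.node (nat_lit 3) (.node (nat_lit 1) (.leaf []) (.node (nat_lit 2) (.leaf [nat_lit 0]) (.leaf [nat_lit 1])))
 (.node (nat_lit 5) (.node (nat_lit 4) (.leaf [nat_lit 4]) (.leaf [nat_lit 5])) (.node (nat_lit 6) (.leaf [nat_lit 4, nat_lit 1]) (.leaf [nat_lit 5, nat_lit 1]))))
theorem n11dw_0 : n11Dd.all2 (fun c w => isProd 15 (nat_lit 4) (nat_lit 15) MG.gl42T c w) n11dE = true := by decide +kernel
theorem n11dw : n11Dd.all2 (fun c w => isProd 15 (nat_lit 4) (nat_lit 15) MG.gl42T c w) n11dE = true := n11dw_0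
noncomputable def n11PA : Tr (ℕ × List ℕ) := (.node (nat_lit 60) (.node (nat_lit 30) (.node (nat_lit 15) (.node (nat_lit 7) (.node (nat_lit 3) (.node (nat_lit 1) (.leaf ((nat_lit 0), [])) (.node (nat_lit 2) (.leaf ((nat_lit 1), [])) (.leaf ((nat_lit 2), []))))
 (.node (nat_lit 5) (.node (nat_lit 4) (.leaf ((nat_lit 2), [nat_lit 1, nat_lit 3])) (.leaf ((nat_lit 2), [nat_lit 0, nat_lit 3, nat_lit 0]))) (.node (nat_lit 6) (.leaf ((nat_lit 3), [])) (.leaf ((nat_lit 4), [])))))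
 (.node (nat_lit 11) (.node (nat_lit 9) (.node (nat_lit 8) (.leaf ((nat_lit 2), [nat_lit 3, nat_lit 1, nat_lit 3])) (.leaf ((nat_lit 2), [nat_lit 3]))) (.node (nat_lit 10) (.leaf ((nat_lit 2), [nat_lit 1, nat_lit 0, nat_lit 3, nat_lit 0])) (.leaf ((nat_lit 4), [nat_lit 0, nat_lit 2, nat_lit 3]))))
 (.node (nat_lit 13) (.node (nat_lit 12) (.leaf ((nat_lit 4), [nat_lit 3, nat_lit 2, nat_lit 3])) (.leaf ((nat_lit 1), [nat_lit 1, nat_lit 0, nat_lit 2]))) (.node (nat_lit 14) (.leaf ((nat_lit 5), [])) (.leaf ((nat_lit 6), []))))))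
 (.node (nat_lit 22) (.node (nat_lit 18) (.node (nat_lit 16) (.leaf ((nat_lit 5), [nat_lit 3])) (.node (nat_lit 17) (.leaf ((nat_lit 5), [nat_lit 3, nat_lit 1])) (.leaf ((nat_lit 4), [nat_lit 2]))))
 (.node (nat_lit 20) (.node (nat_lit 19) (.leaf ((nat_lit 6), [nat_lit 2, nat_lit 3, nat_lit 2])) (.leaf ((nat_lit 2), [nat_lit 0, nat_lit 3]))) (.node (nat_lit 21) (.leaf ((nat_lit 5), [nat_lit 3, nat_lit 1, nat_lit 0])) (.leaf ((nat_lit 6), [nat_lit 0, nat_lit 3, nat_lit 1, nat_lit 2])))))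
 (.node (nat_lit 26) (.node (nat_lit 24) (.node (nat_lit 23) (.leaf ((nat_lit 6), [nat_lit 2, nat_lit 1, nat_lit 3])) (.leaf ((nat_lit 5), [nat_lit 0, nat_lit 2, nat_lit 3, nat_lit 0]))) (.node (nat_lit 25) (.leaf ((nat_lit 5), [nat_lit 2, nat_lit 0])) (.leaf ((nat_lit 6), [nat_lit 1, nat_lit 2]))))
 (.node (nat_lit 28) (.node (nat_lit 27) (.leaf ((nat_lit 6), [nat_lit 2])) (.leaf ((nat_lit 1), [nat_lit 0, nat_lit 2]))) (.node (nat_lit 29) (.leaf ((nat_lit 5), [nat_lit 1])) (.leaf ((nat_lit 6), [nat_lit 3, nat_lit 2, nat_lit 3])))))))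
 (.node (nat_lit 45) (.node (nat_lit 37) (.node (nat_lit 33) (.node (nat_lit 31) (.leaf ((nat_lit 4), [nat_lit 1, nat_lit 0, nat_lit 2])) (.node (nat_lit 32) (.leaf ((nat_lit 6), [nat_lit 3, nat_lit 0, nat_lit 2])) (.leaf ((nat_lit 2), [nat_lit 1, nat_lit 0, nat_lit 3]))))
 (.node (nat_lit 35) (.node (nat_lit 34) (.leaf ((nat_lit 5), [nat_lit 0, nat_lit 3, nat_lit 0])) (.leaf ((nat_lit 6), [nat_lit 0, nat_lit 3, nat_lit 2]))) (.node (nat_lit 36) (.leaf ((nat_lit 6), [nat_lit 0, nat_lit 2, nat_lit 3, nat_lit 2])) (.leaf ((nat_lit 5), [nat_lit 0, nat_lit 2, nat_lit 3, nat_lit 2, nat_lit 0])))))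
 (.node (nat_lit 41) (.node (nat_lit 39) (.node (nat_lit 38) (.leaf ((nat_lit 3), [nat_lit 3, nat_lit 0])) (.leaf ((nat_lit 2), [nat_lit 2, nat_lit 0, nat_lit 3]))) (.node (nat_lit 40) (.leaf ((nat_lit 6), [nat_lit 0, nat_lit 2])) (.leaf ((nat_lit 5), [nat_lit 3, nat_lit 0]))))
 (.node (nat_lit 43) (.node (nat_lit 42) (.leaf ((nat_lit 4), [nat_lit 1, nat_lit 0, nat_lit 3])) (.leaf ((nat_lit 1), [nat_lit 1, nat_lit 2]))) (.node (nat_lit 44) (.leaf ((nat_lit 6), [nat_lit 0, nat_lit 2, nat_lit 0])) (.leaf ((nat_lit 2), [nat_lit 2, nat_lit 1, nat_lit 3, nat_lit 2]))))))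
 (.node (nat_lit 52) (.node (nat_lit 48) (.node (nat_lit 46) (.leaf ((nat_lit 2), [nat_lit 0, nat_lit 2, nat_lit 1, nat_lit 3, nat_lit 0])) (.node (nat_lit 47) (.leaf ((nat_lit 1), [nat_lit 3, nat_lit 1, nat_lit 2])) (.leaf ((nat_lit 4), [nat_lit 0, nat_lit 3, nat_lit 0, nat_lit 2]))))
 (.node (nat_lit 50) (.node (nat_lit 49) (.leaf ((nat_lit 1), [nat_lit 3, nat_lit 2])) (.leaf ((nat_lit 3), [nat_lit 2, nat_lit 3, nat_lit 0]))) (.node (nat_lit 51) (.leaf ((nat_lit 5), [nat_lit 1, nat_lit 0, nat_lit 2])) (.leaf ((nat_lit 2), [nat_lit 1, nat_lit 3, nat_lit 2])))))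
 (.node (nat_lit 56) (.node (nat_lit 54) (.node (nat_lit 53) (.leaf ((nat_lit 2), [nat_lit 1, nat_lit 2])) (.leaf ((nat_lit 5), [nat_lit 1, nat_lit 2, nat_lit 3, nat_lit 1, nat_lit 0]))) (.node (nat_lit 55) (.leaf ((nat_lit 3), [nat_lit 0])) (.leaf ((nat_lit 5), [nat_lit 2, nat_lit 3, nat_lit 1, nat_lit 0]))))
 (.node (nat_lit 58) (.node (nat_lit 57) (.leaf ((nat_lit 6), [nat_lit 1, nat_lit 0, nat_lit 2])) (.leaf ((nat_lit 4), [nat_lit 1, nat_lit 2]))) (.node (nat_lit 59) (.leaf ((nat_lit 2), [nat_lit 3, nat_lit 0])) (.leaf ((nat_lit 6), [nat_lit 3, nat_lit 2]))))))))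
 (.node (nat_lit 90) (.node (nat_lit 75) (.node (nat_lit 67) (.node (nat_lit 63) (.node (nat_lit 61) (.leaf ((nat_lit 5), [nat_lit 1, nat_lit 0])) (.node (nat_lit 62) (.leaf ((nat_lit 2), [nat_lit 0])) (.leaf ((nat_lit 5), [nat_lit 0, nat_lit 3]))))
 (.node (nat_lit 65) (.node (nat_lit 64) (.leaf ((nat_lit 4), [nat_lit 1, nat_lit 2, nat_lit 3, nat_lit 2])) (.leaf ((nat_lit 6), [nat_lit 1, nat_lit 2, nat_lit 0]))) (.node (nat_lit 66) (.leaf ((nat_lit 2), [nat_lit 1, nat_lit 2, nat_lit 3, nat_lit 0])) (.leaf ((nat_lit 2), [nat_lit 1, nat_lit 3, nat_lit 0])))))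
 (.node (nat_lit 71) (.node (nat_lit 69) (.node (nat_lit 68) (.leaf ((nat_lit 3), [nat_lit 0, nat_lit 2, nat_lit 3, nat_lit 0])) (.leaf ((nat_lit 4), [nat_lit 3, nat_lit 1, nat_lit 3]))) (.node (nat_lit 70) (.leaf ((nat_lit 1), [nat_lit 2])) (.leaf ((nat_lit 5), [nat_lit 0]))))
 (.node (nat_lit 73) (.node (nat_lit 72) (.leaf ((nat_lit 4), [nat_lit 0, nat_lit 3])) (.leaf ((nat_lit 5), [nat_lit 1, nat_lit 2, nat_lit 1]))) (.node (nat_lit 74) (.leaf ((nat_lit 2), [nat_lit 0, nat_lit 2, nat_lit 0, nat_lit 3, nat_lit 0])) (.leaf ((nat_lit 5), [nat_lit 1, nat_lit 2]))))))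
 (.node (nat_lit 82) (.node (nat_lit 78) (.node (nat_lit 76) (.leaf ((nat_lit 5), [nat_lit 0, nat_lit 2, nat_lit 3, nat_lit 1, nat_lit 0])) (.node (nat_lit 77) (.leaf ((nat_lit 4), [nat_lit 2, nat_lit 3])) (.leaf ((nat_lit 5), [nat_lit 2, nat_lit 0, nat_lit 3, nat_lit 0]))))
 (.node (nat_lit 80) (.node (nat_lit 79) (.leaf ((nat_lit 4), [nat_lit 0, nat_lit 2])) (.leaf ((nat_lit 4), [nat_lit 1, nat_lit 3]))) (.node (nat_lit 81) (.leaf ((nat_lit 3), [nat_lit 2])) (.leaf ((nat_lit 6), [nat_lit 1, nat_lit 2, nat_lit 3])))))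
 (.node (nat_lit 86) (.node (nat_lit 84) (.node (nat_lit 83) (.leaf ((nat_lit 5), [nat_lit 3, nat_lit 2, nat_lit 0])) (.leaf ((nat_lit 6), [nat_lit 3, nat_lit 2, nat_lit 0]))) (.node (nat_lit 85) (.leaf ((nat_lit 6), [nat_lit 3, nat_lit 1, nat_lit 2])) (.leaf ((nat_lit 2), [nat_lit 1, nat_lit 0, nat_lit 3, nat_lit 2]))))
 (.node (nat_lit 88) (.node (nat_lit 87) (.leaf ((nat_lit 2), [nat_lit 2, nat_lit 1, nat_lit 3, nat_lit 0])) (.leaf ((nat_lit 2), [nat_lit 2]))) (.node (nat_lit 89) (.leaf ((nat_lit 6), [nat_lit 1, nat_lit 3])) (.leaf ((nat_lit 5), [nat_lit 1, nat_lit 3, nat_lit 2])))))))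
 (.node (nat_lit 105) (.node (nat_lit 97) (.node (nat_lit 93) (.node (nat_lit 91) (.leaf ((nat_lit 2), [nat_lit 0, nat_lit 2, nat_lit 3, nat_lit 0])) (.node (nat_lit 92) (.leaf ((nat_lit 2), [nat_lit 0, nat_lit 3, nat_lit 2])) (.leaf ((nat_lit 5), [nat_lit 2, nat_lit 3, nat_lit 0]))))
 (.node (nat_lit 95) (.node (nat_lit 94) (.leaf ((nat_lit 5), [nat_lit 0, nat_lit 2])) (.leaf ((nat_lit 2), [nat_lit 2, nat_lit 1, nat_lit 3]))) (.node (nat_lit 96) (.leaf ((nat_lit 4), [nat_lit 1, nat_lit 3, nat_lit 2])) (.leaf ((nat_lit 6), [nat_lit 3, nat_lit 1, nat_lit 2, nat_lit 3])))))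
 (.node (nat_lit 101) (.node (nat_lit 99) (.node (nat_lit 98) (.leaf ((nat_lit 4), [nat_lit 3, nat_lit 2])) (.leaf ((nat_lit 2), [nat_lit 2, nat_lit 3, nat_lit 0]))) (.node (nat_lit 100) (.leaf ((nat_lit 2), [nat_lit 2, nat_lit 0, nat_lit 3, nat_lit 0])) (.leaf ((nat_lit 2), [nat_lit 3, nat_lit 2]))))
 (.node (nat_lit 103) (.node (nat_lit 102) (.leaf ((nat_lit 4), [nat_lit 3])) (.leaf ((nat_lit 6), [nat_lit 1, nat_lit 0, nat_lit 2, nat_lit 0]))) (.node (nat_lit 104) (.leaf ((nat_lit 6), [nat_lit 0])) (.leaf ((nat_lit 4), [nat_lit 3, nat_lit 0, nat_lit 2]))))))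
 (.node (nat_lit 112) (.node (nat_lit 108) (.node (nat_lit 106) (.leaf ((nat_lit 6), [nat_lit 2, nat_lit 0])) (.node (nat_lit 107) (.leaf ((nat_lit 5), [nat_lit 2, nat_lit 1])) (.leaf ((nat_lit 5), [nat_lit 2, nat_lit 3, nat_lit 2, nat_lit 0]))))
 (.node (nat_lit 110) (.node (nat_lit 109) (.leaf ((nat_lit 4), [nat_lit 1, nat_lit 0, nat_lit 3, nat_lit 2])) (.leaf ((nat_lit 4), [nat_lit 0, nat_lit 3, nat_lit 2]))) (.node (nat_lit 111) (.leaf ((nat_lit 5), [nat_lit 2])) (.leaf ((nat_lit 2), [nat_lit 2, nat_lit 1, nat_lit 0, nat_lit 3, nat_lit 0])))))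
 (.node (nat_lit 116) (.node (nat_lit 114) (.node (nat_lit 113) (.leaf ((nat_lit 6), [nat_lit 2, nat_lit 0, nat_lit 3, nat_lit 2])) (.leaf ((nat_lit 6), [nat_lit 3]))) (.node (nat_lit 115) (.leaf ((nat_lit 6), [nat_lit 3, nat_lit 1, nat_lit 2, nat_lit 0])) (.leaf ((nat_lit 5), [nat_lit 3, nat_lit 2]))))
 (.node (nat_lit 118) (.node (nat_lit 117) (.leaf ((nat_lit 3), [nat_lit 1, nat_lit 2])) (.leaf ((nat_lit 4), [nat_lit 2, nat_lit 3, nat_lit 2]))) (.node (nat_lit 119) (.leaf ((nat_lit 6), [nat_lit 2, nat_lit 3])) (.leaf ((nat_lit 6), [nat_lit 0, nat_lit 2, nat_lit 3])))))))))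
noncomputable def n11Wd_0 : Tr (ℕ × List ℕ) := (.node (nat_lit 90) (.node (nat_lit 45) (.node (nat_lit 22) (.node (nat_lit 11) (.node (nat_lit 5) (.node (nat_lit 2) (.node (nat_lit 1) (.leaf ((nat_lit 1), [])) (.leaf ((nat_lit 2), []))) (.node (nat_lit 3) (.leaf ((nat_lit 3), [nat_lit 3, nat_lit 1])) (.node (nat_lit 4) (.leaf ((nat_lit 4), [nat_lit 0, nat_lit 3, nat_lit 0])) (.leaf ((nat_lit 5), [])))))
 (.node (nat_lit 8) (.node (nat_lit 6) (.leaf ((nat_lit 6), [])) (.node (nat_lit 7) (.leaf ((nat_lit 0), [])) (.leaf ((nat_lit 7), [nat_lit 2, nat_lit 0, nat_lit 3, nat_lit 0, nat_lit 2])))) (.node (nat_lit 9) (.leaf ((nat_lit 8), [nat_lit 3])) (.node (nat_lit 10) (.leaf ((nat_lit 9), [nat_lit 1, nat_lit 0, nat_lit 3, nat_lit 0])) (.leaf ((nat_lit 10), [nat_lit 0, nat_lit 3, nat_lit 2, nat_lit 1, nat_lit 0]))))))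
 (.node (nat_lit 16) (.node (nat_lit 13) (.node (nat_lit 12) (.leaf ((nat_lit 11), [])) (.leaf ((nat_lit 7), [nat_lit 2, nat_lit 0, nat_lit 3, nat_lit 0, nat_lit 2]))) (.node (nat_lit 14) (.leaf ((nat_lit 0), [])) (.node (nat_lit 15) (.leaf ((nat_lit 12), [nat_lit 1, nat_lit 2, nat_lit 1, nat_lit 0])) (.leaf ((nat_lit 2), [nat_lit 0, nat_lit 3, nat_lit 0])))))
 (.node (nat_lit 19) (.node (nat_lit 17) (.leaf ((nat_lit 13), [])) (.node (nat_lit 18) (.leaf ((nat_lit 14), [])) (.leaf ((nat_lit 8), [nat_lit 2, nat_lit 0, nat_lit 3, nat_lit 0, nat_lit 2])))) (.node (nat_lit 20) (.leaf ((nat_lit 12), [nat_lit 2, nat_lit 0, nat_lit 3, nat_lit 1, nat_lit 0, nat_lit 2, nat_lit 1, nat_lit 0])) (.node (nat_lit 21) (.leaf ((nat_lit 0), [nat_lit 1, nat_lit 3])) (.leaf ((nat_lit 15), [nat_lit 0, nat_lit 3, nat_lit 1, nat_lit 0])))))))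
 (.node (nat_lit 33) (.node (nat_lit 27) (.node (nat_lit 24) (.node (nat_lit 23) (.leaf ((nat_lit 16), [])) (.leaf ((nat_lit 17), [nat_lit 1, nat_lit 3]))) (.node (nat_lit 25) (.leaf ((nat_lit 4), [nat_lit 2, nat_lit 0, nat_lit 3, nat_lit 0, nat_lit 2])) (.node (nat_lit 26) (.leaf ((nat_lit 4), [nat_lit 0, nat_lit 3, nat_lit 0])) (.leaf ((nat_lit 18), [nat_lit 1, nat_lit 3, nat_lit 2, nat_lit 1, nat_lit 0, nat_lit 2, nat_lit 1, nat_lit 0])))))
 (.node (nat_lit 30) (.node (nat_lit 28) (.leaf ((nat_lit 0), [nat_lit 0, nat_lit 3, nat_lit 0])) (.node (nat_lit 29) (.leaf ((nat_lit 19), [nat_lit 1, nat_lit 0])) (.leaf ((nat_lit 20), [nat_lit 1, nat_lit 3, nat_lit 1, nat_lit 0, nat_lit 2, nat_lit 1, nat_lit 0])))) (.node (nat_lit 31) (.leaf ((nat_lit 10), [nat_lit 3, nat_lit 2, nat_lit 1, nat_lit 0])) (.node (nat_lit 32) (.leaf ((nat_lit 21), [nat_lit 0, nat_lit 3, nat_lit 0, nat_lit 2, nat_lit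 1, nat_lit 0])) (.leaf ((nat_lit 22), [nat_lit 1, nat_lit 0]))))))
 (.node (nat_lit 39) (.node (nat_lit 36) (.node (nat_lit 34) (.leaf ((nat_lit 19), [nat_lit 1, nat_lit 3, nat_lit 0])) (.node (nat_lit 35) (.leaf ((nat_lit 0), [])) (.leaf ((nat_lit 23), [nat_lit 2, nat_lit 1, nat_lit 3, nat_lit 2, nat_lit 1])))) (.node (nat_lit 37) (.leaf ((nat_lit 6), [nat_lit 2, nat_lit 1, nat_lit 0, nat_lit 2, nat_lit 1, nat_lit 0])) (.node (nat_lit 38) (.leaf ((nat_lit 24), [nat_lit 1, nat_lit 0, nat_lit 3, nat_lit 1, nat_lit 2])) (.leaf ((nat_lit 6), [nat_lit 2])))))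
 (.node (nat_lit 42) (.node (nat_lit 40) (.leaf ((nat_lit 25), [nat_lit 1, nat_lit 3, nat_lit 0])) (.node (nat_lit 41) (.leaf ((nat_lit 26), [nat_lit 1, nat_lit 3, nat_lit 1, nat_lit 0, nat_lit 2, nat_lit 0])) (.leaf ((nat_lit 0), [])))) (.node (nat_lit 43) (.leaf ((nat_lit 2), [nat_lit 2, nat_lit 0, nat_lit 3, nat_lit 0, nat_lit 2])) (.node (nat_lit 44) (.leaf ((nat_lit 1), [nat_lit 2, nat_lit 0, nat_lit 3, nat_lit 0, nat_lit 2])) (.leaf ((nat_lit 27), [nat_lit 1, nat_lit 0, nat_lit 3, nat_lit 0, nat_lit 2, nat_lit 1, nat_lit 0]))))))))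
 (.node (nat_lit 67) (.node (nat_lit 56) (.node (nat_lit 50) (.node (nat_lit 47) (.node (nat_lit 46) (.leaf ((nat_lit 7), [nat_lit 1, nat_lit 0, nat_lit 3, nat_lit 1, nat_lit 0])) (.leaf ((nat_lit 28), []))) (.node (nat_lit 48) (.leaf ((nat_lit 29), [nat_lit 2, nat_lit 0, nat_lit 3, nat_lit 0, nat_lit 2])) (.node (nat_lit 49) (.leaf ((nat_lit 3), [nat_lit 2, nat_lit 0, nat_lit 3, nat_lit 0, nat_lit 2])) (.leaf ((nat_lit 27), [nat_lit 2, nat_lit 0, nat_lit 3, nat_lit 1, nat_lit 0, nat_lit 2, nat_lit 1, nat_lit 0])))))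
 (.node (nat_lit 53) (.node (nat_lit 51) (.leaf ((nat_lit 1), [nat_lit 3])) (.node (nat_lit 52) (.leaf ((nat_lit 16), [nat_lit 1, nat_lit 0, nat_lit 3, nat_lit 0])) (.leaf ((nat_lit 15), [])))) (.node (nat_lit 54) (.leaf ((nat_lit 30), [nat_lit 1, nat_lit 3])) (.node (nat_lit 55) (.leaf ((nat_lit 9), [nat_lit 2, nat_lit 0, nat_lit 3, nat_lit 0, nat_lit 2])) (.leaf ((nat_lit 9), [nat_lit 0, nat_lit 3, nat_lit 0]))))))
 (.node (nat_lit 61) (.node (nat_lit 58) (.node (nat_lit 57) (.leaf ((nat_lit 31), [nat_lit 3, nat_lit 2, nat_lit 1, nat_lit 0, nat_lit 2, nat_lit 0])) (.leaf ((nat_lit 1), [nat_lit 0, nat_lit 3, nat_lit 1, nat_lit 0]))) (.node (nat_lit 59) (.leaf ((nat_lit 32), [nat_lit 0])) (.node (nat_lit 60) (.leaf ((nat_lit 33), [nat_lit 3, nat_lit 1, nat_lit 0, nat_lit 2, nat_lit 1, nat_lit 0])) (.leaf ((nat_lit 5), [nat_lit 1, nat_lit 0, nat_lit 3, nat_lit 2, nat_lit 1, nat_lit 0,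 nat_lit 2, nat_lit 1, nat_lit 0])))))
 (.node (nat_lit 64) (.node (nat_lit 62) (.leaf ((nat_lit 34), [nat_lit 3])) (.node (nat_lit 63) (.leaf ((nat_lit 35), [nat_lit 1, nat_lit 3, nat_lit 1])) (.leaf ((nat_lit 32), [nat_lit 2, nat_lit 0, nat_lit 3, nat_lit 1, nat_lit 2, nat_lit 1, nat_lit 0])))) (.node (nat_lit 65) (.leaf ((nat_lit 1), [nat_lit 1, nat_lit 0, nat_lit 3, nat_lit 2, nat_lit 1, nat_lit 0, nat_lit 2, nat_lit 1])) (.node (nat_lit 66) (.leaf ((nat_lit 36), [nat_lit 2, nat_lit 0, nat_lit 3, nat_lit 1, nat_lit 0, nat_lit 2, nat_lit 0])) (.leaf ((nat_lit 37), [nat_lit 0, nat_lit 3, nat_lit 2, nat_lit 1, nat_lit 0, nat_lit 2, nat_lit 1])))))))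
 (.node (nat_lit 78) (.node (nat_lit 72) (.node (nat_lit 69) (.node (nat_lit 68) (.leaf ((nat_lit 38), [nat_lit 3, nat_lit 1, nat_lit 2, nat_lit 1])) (.leaf ((nat_lit 25), [nat_lit 1, nat_lit 0, nat_lit 2, nat_lit 1]))) (.node (nat_lit 70) (.leaf ((nat_lit 39), [nat_lit 3, nat_lit 1, nat_lit 0])) (.node (nat_lit 71) (.leaf ((nat_lit 11), [nat_lit 1, nat_lit 3, nat_lit 1, nat_lit 0, nat_lit 2, nat_lit 0])) (.leaf ((nat_lit 1), [])))))
 (.node (nat_lit 75) (.node (nat_lit 73) (.leaf ((nat_lit 27), [nat_lit 2])) (.node (nat_lit 74) (.leaf ((nat_lit 3), [nat_lit 3, nat_lit 0, nat_lit 2, nat_lit 1])) (.leaf ((nat_lit 2), [nat_lit 1, nat_lit 0, nat_lit 2, nat_lit 1])))) (.node (nat_lit 76) (.leaf ((nat_lit 40), [nat_lit 1, nat_lit 3, nat_lit 1, nat_lit 2, nat_lit 1])) (.node (nat_lit 77) (.leaf ((nat_lit 41), [nat_lit 3, nat_lit 2])) (.leaf ((nat_lit 26), [nat_lit 1, nat_lit 0, nat_lit 2, nat_lit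 1]))))))
 (.node (nat_lit 84) (.node (nat_lit 81) (.node (nat_lit 79) (.leaf ((nat_lit 13), [nat_lit 2, nat_lit 0, nat_lit 3, nat_lit 0, nat_lit 2, nat_lit 1])) (.node (nat_lit 80) (.leaf ((nat_lit 42), [nat_lit 2, nat_lit 0, nat_lit 3, nat_lit 1, nat_lit 0, nat_lit 2])) (.leaf ((nat_lit 42), [nat_lit 1, nat_lit 3, nat_lit 2, nat_lit 1, nat_lit 0, nat_lit 2])))) (.node (nat_lit 82) (.leaf ((nat_lit 13), [nat_lit 0, nat_lit 3, nat_lit 0])) (.node (nat_lit 83) (.leaf ((nat_lit 2), [])) (.leaf ((nat_lit 43), [nat_lit 1, nat_lit 0, nat_lit 3, nat_lit 1, nat_lit 0])))))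
 (.node (nat_lit 87) (.node (nat_lit 85) (.leaf ((nat_lit 44), [nat_lit 3, nat_lit 0, nat_lit 2, nat_lit 1])) (.node (nat_lit 86) (.leaf ((nat_lit 44), [nat_lit 3, nat_lit 1, nat_lit 2, nat_lit 1])) (.leaf ((nat_lit 44), [nat_lit 3, nat_lit 2, nat_lit 1])))) (.node (nat_lit 88) (.leaf ((nat_lit 45), [nat_lit 1, nat_lit 0, nat_lit 3, nat_lit 2, nat_lit 1, nat_lit 0, nat_lit 2, nat_lit 1, nat_lit 0])) (.node (nat_lit 89) (.leaf ((nat_lit 14), [nat_lit 1, nat_lit 3, nat_lit 1, nat_lit 0, nat_lit 2, nat_lit 0])) (.leaf ((nat_lit 2), [])))))))))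
 (.node (nat_lit 135) (.node (nat_lit 112) (.node (nat_lit 101) (.node (nat_lit 95) (.node (nat_lit 92) (.node (nat_lit 91) (.leaf ((nat_lit 15), [nat_lit 2, nat_lit 0, nat_lit 3, nat_lit 0, nat_lit 2, nat_lit 1])) (.leaf ((nat_lit 46), [nat_lit 2, nat_lit 1, nat_lit 3, nat_lit 2, nat_lit 1, nat_lit 0, nat_lit 2]))) (.node (nat_lit 93) (.leaf ((nat_lit 46), [nat_lit 0, nat_lit 3, nat_lit 1, nat_lit 0, nat_lit 2])) (.node (nat_lit 94) (.leaf ((nat_lit 3), [nat_lit 1, nat_lit 0, nat_lit 3, nat_lit 0])) (.leaf ((nat_lit 8), [])))))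
 (.node (nat_lit 98) (.node (nat_lit 96) (.leaf ((nat_lit 47), [nat_lit 0, nat_lit 3, nat_lit 2, nat_lit 1])) (.node (nat_lit 97) (.leaf ((nat_lit 16), [nat_lit 2, nat_lit 0, nat_lit 3, nat_lit 0, nat_lit 2, nat_lit 1])) (.leaf ((nat_lit 48), [nat_lit 1, nat_lit 3, nat_lit 2, nat_lit 1, nat_lit 0, nat_lit 2])))) (.node (nat_lit 99) (.leaf ((nat_lit 48), [nat_lit 0, nat_lit 3, nat_lit 1, nat_lit 0, nat_lit 2])) (.node (nat_lit 100) (.leaf ((nat_lit 8), [nat_lit 0, nat_lit 3, nat_lit 1, nat_lit 0])) (.leaf ((nat_lit 3), []))))))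
 (.node (nat_lit 106) (.node (nat_lit 103) (.node (nat_lit 102) (.leaf ((nat_lit 49), [nat_lit 1, nat_lit 0, nat_lit 2, nat_lit 1])) (.leaf ((nat_lit 50), [nat_lit 1, nat_lit 0, nat_lit 3, nat_lit 2, nat_lit 1, nat_lit 0, nat_lit 2, nat_lit 1, nat_lit 0]))) (.node (nat_lit 104) (.leaf ((nat_lit 51), [nat_lit 3, nat_lit 1, nat_lit 2, nat_lit 1])) (.node (nat_lit 105) (.leaf ((nat_lit 52), [nat_lit 1, nat_lit 2, nat_lit 1])) (.leaf ((nat_lit 53), [nat_lit 3, nat_lit 0, nat_lit 2])))))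
 (.node (nat_lit 109) (.node (nat_lit 107) (.leaf ((nat_lit 17), [nat_lit 1, nat_lit 3, nat_lit 1, nat_lit 0, nat_lit 2, nat_lit 0])) (.node (nat_lit 108) (.leaf ((nat_lit 3), [nat_lit 3, nat_lit 1])) (.leaf ((nat_lit 18), [nat_lit 2])))) (.node (nat_lit 110) (.leaf ((nat_lit 18), [nat_lit 1, nat_lit 0, nat_lit 2, nat_lit 1, nat_lit 0])) (.node (nat_lit 111) (.leaf ((nat_lit 4), [nat_lit 3, nat_lit 2, nat_lit 1])) (.leaf ((nat_lit 54), [nat_lit 0, nat_lit 3, nat_lit 0, nat_lit 2, nat_lit 1])))))))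
 (.node (nat_lit 123) (.node (nat_lit 117) (.node (nat_lit 114) (.node (nat_lit 113) (.leaf ((nat_lit 18), [nat_lit 1, nat_lit 3, nat_lit 1, nat_lit 0, nat_lit 2, nat_lit 0])) (.leaf ((nat_lit 55), [nat_lit 2, nat_lit 1, nat_lit 0, nat_lit 2]))) (.node (nat_lit 115) (.leaf ((nat_lit 19), [nat_lit 2, nat_lit 0, nat_lit 3, nat_lit 0, nat_lit 2])) (.node (nat_lit 116) (.leaf ((nat_lit 56), [nat_lit 2, nat_lit 1, nat_lit 3])) (.leaf ((nat_lit 19), [nat_lit 1, nat_lit 0, nat_lit 3, nat_lit 1, nat_lit 0])))))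
 (.node (nat_lit 120) (.node (nat_lit 118) (.leaf ((nat_lit 5), [nat_lit 0, nat_lit 3, nat_lit 1])) (.node (nat_lit 119) (.leaf ((nat_lit 4), [nat_lit 1, nat_lit 0])) (.leaf ((nat_lit 57), [nat_lit 1, nat_lit 3])))) (.node (nat_lit 121) (.leaf ((nat_lit 40), [nat_lit 2, nat_lit 0, nat_lit 3, nat_lit 0, nat_lit 2, nat_lit 1])) (.node (nat_lit 122) (.leaf ((nat_lit 58), [nat_lit 0, nat_lit 3, nat_lit 1, nat_lit 0])) (.leaf ((nat_lit 59), [nat_lit 3, nat_lit 2, nat_lit 1, nat_lit 0, nat_lit 2]))))))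
 (.node (nat_lit 129) (.node (nat_lit 126) (.node (nat_lit 124) (.leaf ((nat_lit 27), [nat_lit 1, nat_lit 3, nat_lit 2, nat_lit 1, nat_lit 0, nat_lit 2, nat_lit 0])) (.node (nat_lit 125) (.leaf ((nat_lit 60), [nat_lit 1, nat_lit 0])) (.leaf ((nat_lit 4), [nat_lit 3, nat_lit 1, nat_lit 0, nat_lit 2, nat_lit 0])))) (.node (nat_lit 127) (.leaf ((nat_lit 34), [nat_lit 0, nat_lit 3, nat_lit 0])) (.node (nat_lit 128) (.leaf ((nat_lit 5), [nat_lit 2, nat_lit 0, nat_lit 3, nat_lit 2, nat_lit 0])) (.leaf ((nat_lit 41), [nat_lit 1, nat_lit 3, nat_lit 2, nat_lit 1])))))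
 (.node (nat_lit 132) (.node (nat_lit 130) (.leaf ((nat_lit 61), [nat_lit 3, nat_lit 1, nat_lit 2])) (.node (nat_lit 131) (.leaf ((nat_lit 42), [nat_lit 0, nat_lit 3, nat_lit 2, nat_lit 1, nat_lit 0, nat_lit 2, nat_lit 1, nat_lit 0])) (.leaf ((nat_lit 45), [nat_lit 1, nat_lit 0, nat_lit 3, nat_lit 2, nat_lit 1, nat_lit 0])))) (.node (nat_lit 133) (.leaf ((nat_lit 35), [nat_lit 2, nat_lit 0, nat_lit 3, nat_lit 1, nat_lit 0, nat_lit 2, nat_lit 1])) (.node (nat_lit 134) (.leaf ((nat_lit 41), [nat_lit 0, nat_lit 3, nat_lit 1, nat_lit 2, nat_lit 1])) (.leaf ((nat_lit 5), [nat_lit 1, nat_lit 0]))))))))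
 (.node (nat_lit 157) (.node (nat_lit 146) (.node (nat_lit 140) (.node (nat_lit 137) (.node (nat_lit 136) (.leaf ((nat_lit 62), [nat_lit 1, nat_lit 3, nat_lit 1])) (.leaf ((nat_lit 48), [nat_lit 1, nat_lit 3, nat_lit 2, nat_lit 1, nat_lit 0, nat_lit 2, nat_lit 0]))) (.node (nat_lit 138) (.leaf ((nat_lit 53), [nat_lit 0, nat_lit 3, nat_lit 2, nat_lit 1, nat_lit 0, nat_lit 2, nat_lit 1])) (.node (nat_lit 139) (.leaf ((nat_lit 63), [nat_lit 1, nat_lit 3, nat_lit 1, nat_lit 2, nat_lit 0])) (.leaf ((nat_lit 23), [nat_lit 0, nat_lit 3, nat_lit 0])))))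
 (.node (nat_lit 143) (.node (nat_lit 141) (.leaf ((nat_lit 63), [nat_lit 2, nat_lit 1, nat_lit 3, nat_lit 1, nat_lit 2, nat_lit 0])) (.node (nat_lit 142) (.leaf ((nat_lit 64), [nat_lit 1, nat_lit 3, nat_lit 0, nat_lit 2, nat_lit 1, nat_lit 0])) (.leaf ((nat_lit 65), [nat_lit 0, nat_lit 2])))) (.node (nat_lit 144) (.leaf ((nat_lit 5), [nat_lit 1, nat_lit 3, nat_lit 1, nat_lit 2, nat_lit 1, nat_lit 0])) (.node (nat_lit 145) (.leaf ((nat_lit 24), [nat_lit 3, nat_lit 1, nat_lit 0, nat_lit 2, nat_lit 1, nat_lit 0])) (.leaf ((nat_lit 6), [nat_lit 2, nat_lit 1, nat_lit 3, nat_lit 1, nat_lit 0]))))))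
 (.node (nat_lit 151) (.node (nat_lit 148) (.node (nat_lit 147) (.leaf ((nat_lit 24), [nat_lit 2, nat_lit 1, nat_lit 3, nat_lit 1, nat_lit 2])) (.leaf ((nat_lit 35), [nat_lit 2, nat_lit 1, nat_lit 3, nat_lit 1, nat_lit 0, nat_lit 2, nat_lit 1]))) (.node (nat_lit 149) (.leaf ((nat_lit 66), [nat_lit 1, nat_lit 2, nat_lit 0])) (.node (nat_lit 150) (.leaf ((nat_lit 67), [nat_lit 1, nat_lit 2])) (.leaf ((nat_lit 26), [nat_lit 1, nat_lit 2, nat_lit 1])))))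
 (.node (nat_lit 154) (.node (nat_lit 152) (.leaf ((nat_lit 60), [nat_lit 1, nat_lit 0, nat_lit 3, nat_lit 1, nat_lit 2])) (.node (nat_lit 153) (.leaf ((nat_lit 11), [nat_lit 1, nat_lit 2, nat_lit 1, nat_lit 0])) (.leaf ((nat_lit 6), [nat_lit 0, nat_lit 3, nat_lit 1])))) (.node (nat_lit 155) (.leaf ((nat_lit 68), [nat_lit 1, nat_lit 3, nat_lit 1, nat_lit 0, nat_lit 2, nat_lit 0])) (.node (nat_lit 156) (.leaf ((nat_lit 69), [nat_lit 1, nat_lit 2, nat_lit 1, nat_lit 0])) (.leaf ((nat_lit 25), [nat_lit 1, nat_lit 2, nat_lit 1])))))))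
 (.node (nat_lit 168) (.node (nat_lit 162) (.node (nat_lit 159) (.node (nat_lit 158) (.leaf ((nat_lit 70), [nat_lit 1, nat_lit 0, nat_lit 3, nat_lit 1, nat_lit 2])) (.leaf ((nat_lit 37), [nat_lit 0, nat_lit 3, nat_lit 1, nat_lit 2]))) (.node (nat_lit 160) (.leaf ((nat_lit 68), [nat_lit 0, nat_lit 3, nat_lit 2, nat_lit 1])) (.node (nat_lit 161) (.leaf ((nat_lit 6), [nat_lit 1, nat_lit 3, nat_lit 1, nat_lit 0, nat_lit 2, nat_lit 0])) (.leaf ((nat_lit 12), [nat_lit 1, nat_lit 2, nat_lit 1, nat_lit 0])))))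
 (.node (nat_lit 165) (.node (nat_lit 163) (.leaf ((nat_lit 12), [nat_lit 2])) (.node (nat_lit 164) (.leaf ((nat_lit 8), [nat_lit 3, nat_lit 0, nat_lit 2, nat_lit 1])) (.leaf ((nat_lit 7), [nat_lit 2, nat_lit 0, nat_lit 3, nat_lit 2, nat_lit 1, nat_lit 0])))) (.node (nat_lit 166) (.leaf ((nat_lit 20), [nat_lit 1, nat_lit 3, nat_lit 2, nat_lit 1])) (.node (nat_lit 167) (.leaf ((nat_lit 71), [nat_lit 1, nat_lit 0, nat_lit 3, nat_lit 2])) (.leaf ((nat_lit 56), [nat_lit 1, nat_lit 0, nat_lit 2, nat_lit 1]))))))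
 (.node (nat_lit 174) (.node (nat_lit 171) (.node (nat_lit 169) (.leaf ((nat_lit 28), [nat_lit 2, nat_lit 0, nat_lit 3, nat_lit 0, nat_lit 2, nat_lit 1])) (.node (nat_lit 170) (.leaf ((nat_lit 69), [nat_lit 2, nat_lit 0, nat_lit 3, nat_lit 1, nat_lit 0, nat_lit 2])) (.leaf ((nat_lit 69), [nat_lit 2, nat_lit 1, nat_lit 3, nat_lit 2, nat_lit 1, nat_lit 0, nat_lit 2])))) (.node (nat_lit 172) (.leaf ((nat_lit 28), [nat_lit 1, nat_lit 0, nat_lit 3, nat_lit 1, nat_lit 0])) (.node (nat_lit 173) (.leaf ((nat_lit 7), [])) (.leaf ((nat_lit 64), [nat_lit 1, nat_lit 0, nat_lit 3, nat_lit 1, nat_lit 0])))))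
 (.node (nat_lit 177) (.node (nat_lit 175) (.leaf ((nat_lit 52), [nat_lit 1, nat_lit 0, nat_lit 2, nat_lit 1])) (.node (nat_lit 176) (.leaf ((nat_lit 72), [nat_lit 1, nat_lit 0, nat_lit 3, nat_lit 1, nat_lit 2, nat_lit 1, nat_lit 0])) (.leaf ((nat_lit 50), [nat_lit 1, nat_lit 0, nat_lit 3, nat_lit 2])))) (.node (nat_lit 178) (.leaf ((nat_lit 73), [nat_lit 2, nat_lit 1, nat_lit 3, nat_lit 2, nat_lit 1])) (.node (nat_lit 179) (.leaf ((nat_lit 30), [nat_lit 3, nat_lit 1, nat_lit 0, nat_lit 2, nat_lit 0])) (.leaf ((nat_lit 7), [nat_lit 2, nat_lit 0, nat_lit 3, nat_lit 0, nat_lit 2]))))))))))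
noncomputable def n11Wd_1 : Tr (ℕ × List ℕ) := (.node (nat_lit 270) (.node (nat_lit 225) (.node (nat_lit 202) (.node (nat_lit 191) (.node (nat_lit 185) (.node (nat_lit 182) (.node (nat_lit 181) (.leaf ((nat_lit 74), [nat_lit 1, nat_lit 0, nat_lit 3, nat_lit 2, nat_lit 1, nat_lit 0, nat_lit 2, nat_lit 1, nat_lit 0])) (.leaf ((nat_lit 74), [nat_lit 1, nat_lit 0, nat_lit 3, nat_lit 1, nat_lit 2, nat_lit 0]))) (.node (nat_lit 183) (.leaf ((nat_lit 74), [nat_lit 1, nat_lit 0, nat_lit 3, nat_lit 0, nat_lit 2, nat_lit 1])) (.node (nat_lit 184) (.leaf ((nat_lit 75), [nat_lit 0, nat_lit 2, nat_lit 1])) (.leaf ((nat_lit 29), [nat_lit 1, nat_lit 3, nat_lit 1, nat_lit 0, nat_lit 2, nat_lit 1, nat_lit 0])))))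
 (.node (nat_lit 188) (.node (nat_lit 186) (.leaf ((nat_lit 8), [nat_lit 3, nat_lit 1])) (.node (nat_lit 187) (.leaf ((nat_lit 31), [nat_lit 1, nat_lit 2, nat_lit 1])) (.leaf ((nat_lit 31), [nat_lit 2, nat_lit 1, nat_lit 0, nat_lit 2])))) (.node (nat_lit 189) (.leaf ((nat_lit 9), [nat_lit 1, nat_lit 3, nat_lit 2])) (.node (nat_lit 190) (.leaf ((nat_lit 76), [nat_lit 2, nat_lit 1, nat_lit 0])) (.leaf ((nat_lit 31), [nat_lit 2, nat_lit 1, nat_lit 3, nat_lit 1, nat_lit 2]))))))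
 (.node (nat_lit 196) (.node (nat_lit 193) (.node (nat_lit 192) (.leaf ((nat_lit 77), [nat_lit 1, nat_lit 3, nat_lit 2, nat_lit 0])) (.leaf ((nat_lit 32), [nat_lit 2, nat_lit 0, nat_lit 3, nat_lit 0, nat_lit 2]))) (.node (nat_lit 194) (.leaf ((nat_lit 39), [nat_lit 2, nat_lit 1, nat_lit 3])) (.node (nat_lit 195) (.leaf ((nat_lit 32), [nat_lit 0, nat_lit 3, nat_lit 0])) (.leaf ((nat_lit 10), [nat_lit 2, nat_lit 1, nat_lit 3, nat_lit 0, nat_lit 2, nat_lit 0])))))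
 (.node (nat_lit 199) (.node (nat_lit 197) (.leaf ((nat_lit 9), [nat_lit 0])) (.node (nat_lit 198) (.leaf ((nat_lit 78), [nat_lit 1, nat_lit 3])) (.leaf ((nat_lit 33), [nat_lit 2, nat_lit 0, nat_lit 3, nat_lit 0, nat_lit 2])))) (.node (nat_lit 200) (.leaf ((nat_lit 33), [nat_lit 0, nat_lit 3, nat_lit 0])) (.node (nat_lit 201) (.leaf ((nat_lit 79), [nat_lit 2, nat_lit 1, nat_lit 3, nat_lit 1, nat_lit 2, nat_lit 0])) (.leaf ((nat_lit 42), [nat_lit 1, nat_lit 0, nat_lit 3, nat_lit 0, nat_lit 2, nat_lit 1])))))))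
 (.node (nat_lit 213) (.node (nat_lit 207) (.node (nat_lit 204) (.node (nat_lit 203) (.leaf ((nat_lit 61), [nat_lit 1, nat_lit 0])) (.leaf ((nat_lit 9), [nat_lit 3, nat_lit 1, nat_lit 0, nat_lit 2, nat_lit 1, nat_lit 0]))) (.node (nat_lit 205) (.leaf ((nat_lit 21), [nat_lit 0, nat_lit 3, nat_lit 0])) (.node (nat_lit 206) (.leaf ((nat_lit 10), [nat_lit 3])) (.leaf ((nat_lit 71), [nat_lit 1, nat_lit 3, nat_lit 1])))))
 (.node (nat_lit 210) (.node (nat_lit 208) (.leaf ((nat_lit 38), [nat_lit 1, nat_lit 3, nat_lit 1, nat_lit 2, nat_lit 0])) (.node (nat_lit 209) (.leaf ((nat_lit 69), [nat_lit 2, nat_lit 0, nat_lit 3, nat_lit 1, nat_lit 2, nat_lit 0])) (.leaf ((nat_lit 73), [nat_lit 2, nat_lit 1, nat_lit 3, nat_lit 0, nat_lit 2, nat_lit 0])))) (.node (nat_lit 211) (.leaf ((nat_lit 22), [nat_lit 0, nat_lit 3, nat_lit 0, nat_lit 2, nat_lit 1])) (.node (nat_lit 212) (.leaf ((nat_lit 71), [nat_lit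 3])) (.leaf ((nat_lit 10), [nat_lit 1, nat_lit 3, nat_lit 1]))))))
 (.node (nat_lit 219) (.node (nat_lit 216) (.node (nat_lit 214) (.leaf ((nat_lit 24), [nat_lit 0, nat_lit 3, nat_lit 1, nat_lit 2, nat_lit 0])) (.node (nat_lit 215) (.leaf ((nat_lit 46), [nat_lit 0, nat_lit 3, nat_lit 2, nat_lit 1, nat_lit 0, nat_lit 2, nat_lit 0])) (.leaf ((nat_lit 75), [nat_lit 2, nat_lit 1, nat_lit 0, nat_lit 2])))) (.node (nat_lit 217) (.leaf ((nat_lit 80), [nat_lit 2, nat_lit 0, nat_lit 3, nat_lit 0, nat_lit 2, nat_lit 1])) (.node (nat_lit 218) (.leaf ((nat_lit 73), [nat_lit 0, nat_lit 3, nat_lit 2, nat_lit 0])) (.leaf ((nat_lit 81), [nat_lit 2, nat_lit 1, nat_lit 3, nat_lit 1, nat_lit 2, nat_lit 0])))))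
 (.node (nat_lit 222) (.node (nat_lit 220) (.leaf ((nat_lit 43), [nat_lit 3, nat_lit 0, nat_lit 2, nat_lit 1, nat_lit 0])) (.node (nat_lit 221) (.leaf ((nat_lit 36), [nat_lit 2])) (.leaf ((nat_lit 10), [nat_lit 1, nat_lit 3, nat_lit 0, nat_lit 2, nat_lit 1])))) (.node (nat_lit 223) (.leaf ((nat_lit 11), [nat_lit 0, nat_lit 3, nat_lit 2, nat_lit 0])) (.node (nat_lit 224) (.leaf ((nat_lit 61), [nat_lit 1, nat_lit 0, nat_lit 3, nat_lit 0])) (.leaf ((nat_lit 26), [nat_lit 2, nat_lit 1, nat_lit 3, nat_lit 0]))))))))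
 (.node (nat_lit 247) (.node (nat_lit 236) (.node (nat_lit 230) (.node (nat_lit 227) (.node (nat_lit 226) (.leaf ((nat_lit 56), [nat_lit 2, nat_lit 0, nat_lit 3, nat_lit 1])) (.leaf ((nat_lit 37), [nat_lit 0]))) (.node (nat_lit 228) (.leaf ((nat_lit 48), [nat_lit 0, nat_lit 3, nat_lit 0, nat_lit 2, nat_lit 0])) (.node (nat_lit 229) (.leaf ((nat_lit 61), [nat_lit 2, nat_lit 0, nat_lit 3, nat_lit 2])) (.leaf ((nat_lit 11), [nat_lit 2, nat_lit 1, nat_lit 3, nat_lit 2, nat_lit 1, nat_lit 0, nat_lit 2, nat_lit 1, nat_lit 0])))))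
 (.node (nat_lit 233) (.node (nat_lit 231) (.leaf ((nat_lit 60), [nat_lit 0, nat_lit 3, nat_lit 1, nat_lit 2, nat_lit 0])) (.node (nat_lit 232) (.leaf ((nat_lit 34), [nat_lit 2, nat_lit 1, nat_lit 3, nat_lit 1, nat_lit 0, nat_lit 2, nat_lit 0])) (.leaf ((nat_lit 82), [nat_lit 2, nat_lit 1, nat_lit 0, nat_lit 2, nat_lit 1, nat_lit 0])))) (.node (nat_lit 234) (.leaf ((nat_lit 83), [nat_lit 2, nat_lit 0, nat_lit 3, nat_lit 1, nat_lit 2])) (.node (nat_lit 235) (.leaf ((nat_lit 39), [nat_lit 1, nat_lit 2, nat_lit 1])) (.leaf ((nat_lit 32), [nat_lit 3, nat_lit 1, nat_lit 2]))))))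
 (.node (nat_lit 241) (.node (nat_lit 238) (.node (nat_lit 237) (.leaf ((nat_lit 39), [nat_lit 0, nat_lit 2, nat_lit 0])) (.leaf ((nat_lit 11), [nat_lit 1, nat_lit 0, nat_lit 3]))) (.node (nat_lit 239) (.leaf ((nat_lit 39), [nat_lit 2, nat_lit 1, nat_lit 3, nat_lit 1, nat_lit 2])) (.node (nat_lit 240) (.leaf ((nat_lit 42), [nat_lit 1, nat_lit 2, nat_lit 1, nat_lit 0])) (.leaf ((nat_lit 20), [nat_lit 2, nat_lit 0, nat_lit 3, nat_lit 0, nat_lit 2, nat_lit 1])))))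
 (.node (nat_lit 244) (.node (nat_lit 242) (.leaf ((nat_lit 66), [nat_lit 0, nat_lit 3, nat_lit 0])) (.node (nat_lit 243) (.leaf ((nat_lit 84), [nat_lit 3, nat_lit 2, nat_lit 1, nat_lit 0, nat_lit 2])) (.leaf ((nat_lit 12), [nat_lit 2, nat_lit 1, nat_lit 3, nat_lit 2, nat_lit 1, nat_lit 0, nat_lit 2, nat_lit 0])))) (.node (nat_lit 245) (.leaf ((nat_lit 70), [nat_lit 1, nat_lit 0])) (.node (nat_lit 246) (.leaf ((nat_lit 66), [nat_lit 3, nat_lit 1, nat_lit 0, nat_lit 2, nat_lit 1, nat_lit 0])) (.leaf ((nat_lit 71), [nat_lit 2, nat_lit 1, nat_lit 0, nat_lit 2, nat_lit 1, nat_lit 0])))))))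
 (.node (nat_lit 258) (.node (nat_lit 252) (.node (nat_lit 249) (.node (nat_lit 248) (.leaf ((nat_lit 22), [nat_lit 2, nat_lit 1, nat_lit 3, nat_lit 2, nat_lit 1, nat_lit 0, nat_lit 2, nat_lit 1])) (.leaf ((nat_lit 21), [nat_lit 1, nat_lit 3, nat_lit 2, nat_lit 1, nat_lit 0, nat_lit 2, nat_lit 0]))) (.node (nat_lit 250) (.leaf ((nat_lit 70), [nat_lit 2, nat_lit 1, nat_lit 3, nat_lit 0, nat_lit 2, nat_lit 1, nat_lit 0])) (.node (nat_lit 251) (.leaf ((nat_lit 12), [nat_lit 3, nat_lit 2, nat_lit 1, nat_lit 0, nat_lit 2, nat_lit 1, nat_lit 0])) (.leaf ((nat_lit 65), [nat_lit 0, nat_lit 3, nat_lit 2])))))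
 (.node (nat_lit 255) (.node (nat_lit 253) (.leaf ((nat_lit 42), [nat_lit 2])) (.node (nat_lit 254) (.leaf ((nat_lit 13), [nat_lit 1, nat_lit 0, nat_lit 3, nat_lit 0, nat_lit 2, nat_lit 1])) (.leaf ((nat_lit 13), [nat_lit 1, nat_lit 0, nat_lit 3, nat_lit 2, nat_lit 1])))) (.node (nat_lit 256) (.leaf ((nat_lit 33), [nat_lit 2, nat_lit 0, nat_lit 3, nat_lit 1, nat_lit 0, nat_lit 2])) (.node (nat_lit 257) (.leaf ((nat_lit 21), [nat_lit 3, nat_lit 2, nat_lit 0])) (.leaf ((nat_lit 39), [nat_lit 1, nat_lit 0, nat_lit 2, nat_lit 1]))))))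
 (.node (nat_lit 264) (.node (nat_lit 261) (.node (nat_lit 259) (.leaf ((nat_lit 85), [nat_lit 3, nat_lit 0])) (.node (nat_lit 260) (.leaf ((nat_lit 85), [nat_lit 3, nat_lit 1, nat_lit 2, nat_lit 1, nat_lit 0])) (.leaf ((nat_lit 85), [nat_lit 3, nat_lit 2, nat_lit 1, nat_lit 0, nat_lit 2, nat_lit 0])))) (.node (nat_lit 262) (.leaf ((nat_lit 36), [nat_lit 2, nat_lit 0, nat_lit 3, nat_lit 2])) (.node (nat_lit 263) (.leaf ((nat_lit 43), [nat_lit 2, nat_lit 1, nat_lit 3, nat_lit 1, nat_lit 2, nat_lit 0])) (.leaf ((nat_lit 13), [nat_lit 1, nat_lit 0, nat_lit 3, nat_lit 1, nat_lit 0])))))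
 (.node (nat_lit 267) (.node (nat_lit 265) (.leaf ((nat_lit 14), [nat_lit 2, nat_lit 0, nat_lit 3, nat_lit 1, nat_lit 0, nat_lit 2, nat_lit 1, nat_lit 0])) (.node (nat_lit 266) (.leaf ((nat_lit 14), [nat_lit 2, nat_lit 1, nat_lit 3, nat_lit 2, nat_lit 1, nat_lit 0, nat_lit 2, nat_lit 1, nat_lit 0])) (.leaf ((nat_lit 14), [nat_lit 1, nat_lit 3, nat_lit 2, nat_lit 1, nat_lit 0, nat_lit 2, nat_lit 1, nat_lit 0])))) (.node (nat_lit 268) (.leaf ((nat_lit 44), [nat_lit 2, nat_lit 1, nat_lit 3, nat_lit 1, nat_lit 2])) (.node (nat_lit 269) (.leaf ((nat_lit 86), [nat_lit 0, nat_lit 2, nat_lit 1])) (.leaf ((nat_lit 87), [nat_lit 1, nat_lit 3, nat_lit 2, nat_lit 1, nat_lit 0, nat_lit 2, nat_lit 1, nat_lit 0])))))))))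
 (.node (nat_lit 315) (.node (nat_lit 292) (.node (nat_lit 281) (.node (nat_lit 275) (.node (nat_lit 272) (.node (nat_lit 271) (.leaf ((nat_lit 88), [nat_lit 2, nat_lit 0, nat_lit 3, nat_lit 1, nat_lit 0, nat_lit 2, nat_lit 1, nat_lit 0])) (.leaf ((nat_lit 45), [nat_lit 0, nat_lit 3, nat_lit 0]))) (.node (nat_lit 273) (.leaf ((nat_lit 88), [nat_lit 2, nat_lit 1, nat_lit 3, nat_lit 2, nat_lit 1, nat_lit 0, nat_lit 2, nat_lit 1, nat_lit 0])) (.node (nat_lit 274) (.leaf ((nat_lit 14), [nat_lit 3, nat_lit 2, nat_lit 1, nat_lit 0])) (.leaf ((nat_lit 45), [nat_lit 0])))))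
 (.node (nat_lit 278) (.node (nat_lit 276) (.leaf ((nat_lit 21), [nat_lit 1, nat_lit 0, nat_lit 3, nat_lit 2, nat_lit 1, nat_lit 0, nat_lit 2])) (.node (nat_lit 277) (.leaf ((nat_lit 46), [nat_lit 2])) (.leaf ((nat_lit 15), [nat_lit 1, nat_lit 0, nat_lit 3, nat_lit 1, nat_lit 2, nat_lit 1])))) (.node (nat_lit 279) (.leaf ((nat_lit 15), [nat_lit 1, nat_lit 0, nat_lit 3, nat_lit 1, nat_lit 0, nat_lit 2, nat_lit 1])) (.node (nat_lit 280) (.leaf ((nat_lit 66), [nat_lit 2, nat_lit 0, nat_lit 3, nat_lit 2, nat_lit 1, nat_lit 0])) (.leaf ((nat_lit 35), [nat_lit 1, nat_lit 3, nat_lit 2, nat_lit 0]))))))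
 (.node (nat_lit 286) (.node (nat_lit 283) (.node (nat_lit 282) (.leaf ((nat_lit 68), [nat_lit 1, nat_lit 0, nat_lit 3, nat_lit 1, nat_lit 2])) (.leaf ((nat_lit 89), [nat_lit 0, nat_lit 3, nat_lit 2, nat_lit 1, nat_lit 0, nat_lit 2, nat_lit 1, nat_lit 0]))) (.node (nat_lit 284) (.leaf ((nat_lit 89), [nat_lit 3, nat_lit 0, nat_lit 2, nat_lit 1])) (.node (nat_lit 285) (.leaf ((nat_lit 89), [nat_lit 0, nat_lit 2])) (.leaf ((nat_lit 65), [nat_lit 1, nat_lit 3, nat_lit 1, nat_lit 2, nat_lit 1, nat_lit 0])))))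
 (.node (nat_lit 289) (.node (nat_lit 287) (.leaf ((nat_lit 64), [nat_lit 1, nat_lit 0, nat_lit 3, nat_lit 1, nat_lit 0, nat_lit 2, nat_lit 0])) (.node (nat_lit 288) (.leaf ((nat_lit 15), [nat_lit 1, nat_lit 3, nat_lit 2, nat_lit 1, nat_lit 0, nat_lit 2, nat_lit 1])) (.leaf ((nat_lit 48), [nat_lit 2])))) (.node (nat_lit 290) (.leaf ((nat_lit 16), [nat_lit 1, nat_lit 0, nat_lit 3, nat_lit 2, nat_lit 1])) (.node (nat_lit 291) (.leaf ((nat_lit 16), [nat_lit 1, nat_lit 0, nat_lit 3, nat_lit 1, nat_lit 0, nat_lit 2, nat_lit 1])) (.leaf ((nat_lit 58), [nat_lit 0, nat_lit 2, nat_lit 1])))))))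
 (.node (nat_lit 303) (.node (nat_lit 297) (.node (nat_lit 294) (.node (nat_lit 293) (.leaf ((nat_lit 22), [nat_lit 1, nat_lit 3, nat_lit 2, nat_lit 1])) (.leaf ((nat_lit 37), [nat_lit 2, nat_lit 0, nat_lit 3, nat_lit 2, nat_lit 1, nat_lit 0, nat_lit 2, nat_lit 1]))) (.node (nat_lit 295) (.leaf ((nat_lit 72), [nat_lit 3, nat_lit 1])) (.node (nat_lit 296) (.leaf ((nat_lit 52), [nat_lit 1, nat_lit 3, nat_lit 2, nat_lit 1, nat_lit 0, nat_lit 2, nat_lit 1])) (.leaf ((nat_lit 51), [nat_lit 2, nat_lit 0, nat_lit 3, nat_lit 1, nat_lit 2, nat_lit 1])))))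
 (.node (nat_lit 300) (.node (nat_lit 298) (.leaf ((nat_lit 90), [nat_lit 1, nat_lit 0, nat_lit 3, nat_lit 1, nat_lit 0, nat_lit 2])) (.node (nat_lit 299) (.leaf ((nat_lit 49), [nat_lit 2, nat_lit 1, nat_lit 3, nat_lit 1, nat_lit 2])) (.leaf ((nat_lit 16), [nat_lit 1, nat_lit 2, nat_lit 1, nat_lit 0])))) (.node (nat_lit 301) (.leaf ((nat_lit 17), [nat_lit 3, nat_lit 2, nat_lit 1, nat_lit 0])) (.node (nat_lit 302) (.leaf ((nat_lit 64), [nat_lit 2, nat_lit 1, nat_lit 3, nat_lit 1, nat_lit 0])) (.leaf ((nat_lit 29), [nat_lit 3, nat_lit 2, nat_lit 1, nat_lit 0, nat_lit 2]))))))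
 (.node (nat_lit 309) (.node (nat_lit 306) (.node (nat_lit 304) (.leaf ((nat_lit 50), [nat_lit 2, nat_lit 1, nat_lit 3, nat_lit 1, nat_lit 2, nat_lit 0])) (.node (nat_lit 305) (.leaf ((nat_lit 55), [nat_lit 1, nat_lit 0, nat_lit 2])) (.leaf ((nat_lit 91), [nat_lit 2, nat_lit 0, nat_lit 3, nat_lit 1])))) (.node (nat_lit 307) (.leaf ((nat_lit 64), [nat_lit 0, nat_lit 3])) (.node (nat_lit 308) (.leaf ((nat_lit 17), [nat_lit 2, nat_lit 1, nat_lit 3, nat_lit 2, nat_lit 1, nat_lit 0, nat_lit 2, nat_lit 1, nat_lit 0])) (.leaf ((nat_lit 49), [nat_lit 2, nat_lit 1, nat_lit 3, nat_lit 0, nat_lit 2, nat_lit 1, nat_lit 0])))))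
 (.node (nat_lit 312) (.node (nat_lit 310) (.leaf ((nat_lit 89), [nat_lit 1, nat_lit 0, nat_lit 3, nat_lit 1, nat_lit 0])) (.node (nat_lit 311) (.leaf ((nat_lit 92), [nat_lit 2, nat_lit 1, nat_lit 0, nat_lit 2, nat_lit 1, nat_lit 0])) (.leaf ((nat_lit 93), [nat_lit 1, nat_lit 3, nat_lit 0, nat_lit 2])))) (.node (nat_lit 313) (.leaf ((nat_lit 29), [nat_lit 1, nat_lit 2, nat_lit 1, nat_lit 0])) (.node (nat_lit 314) (.leaf ((nat_lit 49), [nat_lit 0, nat_lit 3, nat_lit 2, nat_lit 1])) (.leaf ((nat_lit 17), [nat_lit 1, nat_lit 2, nat_lit 1]))))))))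
 (.node (nat_lit 337) (.node (nat_lit 326) (.node (nat_lit 320) (.node (nat_lit 317) (.node (nat_lit 316) (.leaf ((nat_lit 52), [nat_lit 1, nat_lit 0, nat_lit 3, nat_lit 1, nat_lit 0, nat_lit 2])) (.leaf ((nat_lit 77), [nat_lit 2]))) (.node (nat_lit 318) (.leaf ((nat_lit 94), [nat_lit 3, nat_lit 2, nat_lit 1])) (.node (nat_lit 319) (.leaf ((nat_lit 95), [nat_lit 3, nat_lit 1, nat_lit 0])) (.leaf ((nat_lit 65), [nat_lit 0, nat_lit 3, nat_lit 1, nat_lit 0, nat_lit 2])))))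
 (.node (nat_lit 323) (.node (nat_lit 321) (.leaf ((nat_lit 96), [nat_lit 3, nat_lit 1, nat_lit 2])) (.node (nat_lit 322) (.leaf ((nat_lit 17), [nat_lit 2, nat_lit 0, nat_lit 3])) (.leaf ((nat_lit 53), [nat_lit 1, nat_lit 2, nat_lit 1])))) (.node (nat_lit 324) (.leaf ((nat_lit 22), [nat_lit 0, nat_lit 3, nat_lit 2, nat_lit 0])) (.node (nat_lit 325) (.leaf ((nat_lit 76), [nat_lit 0, nat_lit 3, nat_lit 2, nat_lit 0])) (.leaf ((nat_lit 84), [nat_lit 3, nat_lit 2, nat_lit 1, nat_lit 0, nat_lit 2, nat_lit 1]))))))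
 (.node (nat_lit 331) (.node (nat_lit 328) (.node (nat_lit 327) (.leaf ((nat_lit 66), [nat_lit 0, nat_lit 3, nat_lit 1, nat_lit 0])) (.leaf ((nat_lit 18), [nat_lit 2, nat_lit 0, nat_lit 3, nat_lit 1, nat_lit 0, nat_lit 2, nat_lit 1]))) (.node (nat_lit 329) (.leaf ((nat_lit 54), [nat_lit 0])) (.node (nat_lit 330) (.leaf ((nat_lit 92), [nat_lit 2, nat_lit 1, nat_lit 3, nat_lit 2, nat_lit 1])) (.leaf ((nat_lit 97), [nat_lit 3, nat_lit 1, nat_lit 0])))))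
 (.node (nat_lit 334) (.node (nat_lit 332) (.leaf ((nat_lit 98), [nat_lit 0, nat_lit 3, nat_lit 1, nat_lit 0, nat_lit 2])) (.node (nat_lit 333) (.leaf ((nat_lit 99), [nat_lit 2, nat_lit 1, nat_lit 3, nat_lit 1, nat_lit 2, nat_lit 1])) (.leaf ((nat_lit 55), [nat_lit 0, nat_lit 3, nat_lit 1, nat_lit 0, nat_lit 2, nat_lit 1])))) (.node (nat_lit 335) (.leaf ((nat_lit 50), [nat_lit 2, nat_lit 1, nat_lit 0])) (.node (nat_lit 336) (.leaf ((nat_lit 18), [nat_lit 2, nat_lit 1, nat_lit 0, nat_lit 2])) (.leaf ((nat_lit 56), [nat_lit 1, nat_lit 2, nat_lit 1])))))))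
 (.node (nat_lit 348) (.node (nat_lit 342) (.node (nat_lit 339) (.node (nat_lit 338) (.leaf ((nat_lit 19), [nat_lit 3, nat_lit 1, nat_lit 2])) (.leaf ((nat_lit 56), [nat_lit 2, nat_lit 1, nat_lit 0, nat_lit 2]))) (.node (nat_lit 340) (.leaf ((nat_lit 37), [nat_lit 1, nat_lit 3, nat_lit 0, nat_lit 2])) (.node (nat_lit 341) (.leaf ((nat_lit 56), [nat_lit 3, nat_lit 1, nat_lit 0, nat_lit 2, nat_lit 1, nat_lit 0])) (.leaf ((nat_lit 27), [nat_lit 1, nat_lit 2, nat_lit 1, nat_lit 0])))))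
 (.node (nat_lit 345) (.node (nat_lit 343) (.leaf ((nat_lit 93), [nat_lit 1, nat_lit 0, nat_lit 3, nat_lit 2, nat_lit 1, nat_lit 0, nat_lit 2, nat_lit 1, nat_lit 0])) (.node (nat_lit 344) (.leaf ((nat_lit 100), [nat_lit 3, nat_lit 1, nat_lit 2, nat_lit 1])) (.leaf ((nat_lit 83), [nat_lit 0, nat_lit 3, nat_lit 1, nat_lit 2, nat_lit 1])))) (.node (nat_lit 346) (.leaf ((nat_lit 57), [nat_lit 1, nat_lit 3, nat_lit 1])) (.node (nat_lit 347) (.leaf ((nat_lit 95), [nat_lit 1, nat_lit 0, nat_lit 3, nat_lit 1, nat_lit 0, nat_lit 2])) (.leaf ((nat_lit 19), [nat_lit 3, nat_lit 1]))))))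
 (.node (nat_lit 354) (.node (nat_lit 351) (.node (nat_lit 349) (.leaf ((nat_lit 66), [nat_lit 2, nat_lit 0, nat_lit 3, nat_lit 0, nat_lit 2])) (.node (nat_lit 350) (.leaf ((nat_lit 20), [nat_lit 1, nat_lit 0, nat_lit 3, nat_lit 0])) (.leaf ((nat_lit 76), [nat_lit 2, nat_lit 1, nat_lit 0, nat_lit 2, nat_lit 1])))) (.node (nat_lit 352) (.leaf ((nat_lit 48), [nat_lit 1, nat_lit 2, nat_lit 0])) (.node (nat_lit 353) (.leaf ((nat_lit 62), [nat_lit 1, nat_lit 0])) (.leaf ((nat_lit 82), [nat_lit 2, nat_lit 0, nat_lit 3, nat_lit 2])))))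
 (.node (nat_lit 357) (.node (nat_lit 355) (.leaf ((nat_lit 84), [nat_lit 1, nat_lit 2, nat_lit 1])) (.node (nat_lit 356) (.leaf ((nat_lit 76), [nat_lit 1, nat_lit 0, nat_lit 2, nat_lit 1, nat_lit 0])) (.leaf ((nat_lit 20), [nat_lit 1, nat_lit 0, nat_lit 3, nat_lit 2])))) (.node (nat_lit 358) (.leaf ((nat_lit 59), [nat_lit 2, nat_lit 1, nat_lit 0, nat_lit 2])) (.node (nat_lit 359) (.leaf ((nat_lit 101), [nat_lit 1, nat_lit 3, nat_lit 1, nat_lit 0, nat_lit 2, nat_lit 0])) (.leaf ((nat_lit 99), [nat_lit 2, nat_lit 1, nat_lit 3, nat_lit 0, nat_lit 2, nat_lit 0]))))))))))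
noncomputable def n11Wd_2 : Tr (ℕ × List ℕ) := (.node (nat_lit 450) (.node (nat_lit 405) (.node (nat_lit 382) (.node (nat_lit 371) (.node (nat_lit 365) (.node (nat_lit 362) (.node (nat_lit 361) (.leaf ((nat_lit 70), [nat_lit 2, nat_lit 0, nat_lit 3, nat_lit 0, nat_lit 2, nat_lit 1])) (.leaf ((nat_lit 25), [nat_lit 2, nat_lit 1, nat_lit 3, nat_lit 1, nat_lit 0]))) (.node (nat_lit 363) (.leaf ((nat_lit 38), [nat_lit 2, nat_lit 1, nat_lit 3, nat_lit 1, nat_lit 0, nat_lit 2, nat_lit 1])) (.node (nat_lit 364) (.leaf ((nat_lit 71), [nat_lit 2, nat_lit 1, nat_lit 3, nat_lit 1, nat_lit 2, nat_lit 1])) (.leaf ((nat_lit 20), [nat_lit 1, nat_lit 0])))))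
 (.node (nat_lit 368) (.node (nat_lit 366) (.leaf ((nat_lit 102), [nat_lit 1, nat_lit 0, nat_lit 3, nat_lit 1, nat_lit 0])) (.node (nat_lit 367) (.leaf ((nat_lit 38), [nat_lit 3, nat_lit 0, nat_lit 2, nat_lit 1, nat_lit 0])) (.leaf ((nat_lit 37), [nat_lit 0, nat_lit 3, nat_lit 1, nat_lit 0])))) (.node (nat_lit 369) (.leaf ((nat_lit 70), [nat_lit 1, nat_lit 0, nat_lit 3, nat_lit 1, nat_lit 0])) (.node (nat_lit 370) (.leaf ((nat_lit 21), [nat_lit 2, nat_lit 1, nat_lit 3])) (.leaf ((nat_lit 33), [nat_lit 1, nat_lit 0]))))))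
 (.node (nat_lit 376) (.node (nat_lit 373) (.node (nat_lit 372) (.leaf ((nat_lit 103), [])) (.leaf ((nat_lit 62), [nat_lit 2, nat_lit 0, nat_lit 3, nat_lit 0, nat_lit 2]))) (.node (nat_lit 374) (.leaf ((nat_lit 68), [nat_lit 2, nat_lit 0, nat_lit 3, nat_lit 1, nat_lit 2, nat_lit 1, nat_lit 0])) (.node (nat_lit 375) (.leaf ((nat_lit 62), [nat_lit 1, nat_lit 0, nat_lit 3, nat_lit 1, nat_lit 0])) (.leaf ((nat_lit 22), [nat_lit 1, nat_lit 3, nat_lit 1])))))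
 (.node (nat_lit 379) (.node (nat_lit 377) (.leaf ((nat_lit 58), [nat_lit 1, nat_lit 0])) (.node (nat_lit 378) (.leaf ((nat_lit 104), [nat_lit 0, nat_lit 3, nat_lit 2, nat_lit 1])) (.leaf ((nat_lit 23), [nat_lit 2, nat_lit 1, nat_lit 3, nat_lit 1, nat_lit 0, nat_lit 2, nat_lit 0])))) (.node (nat_lit 380) (.leaf ((nat_lit 63), [nat_lit 1, nat_lit 0, nat_lit 2, nat_lit 1, nat_lit 0])) (.node (nat_lit 381) (.leaf ((nat_lit 23), [nat_lit 2, nat_lit 1, nat_lit 3, nat_lit 1, nat_lit 2, nat_lit 0])) (.leaf ((nat_lit 81), [nat_lit 0, nat_lit 2, nat_lit 0])))))))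
 (.node (nat_lit 393) (.node (nat_lit 387) (.node (nat_lit 384) (.node (nat_lit 383) (.leaf ((nat_lit 105), [nat_lit 1, nat_lit 3, nat_lit 1, nat_lit 0, nat_lit 2, nat_lit 1])) (.leaf ((nat_lit 80), [nat_lit 2, nat_lit 1, nat_lit 0]))) (.node (nat_lit 385) (.leaf ((nat_lit 51), [nat_lit 3, nat_lit 0])) (.node (nat_lit 386) (.leaf ((nat_lit 50), [nat_lit 1, nat_lit 0, nat_lit 3, nat_lit 1, nat_lit 2])) (.leaf ((nat_lit 72), [nat_lit 1, nat_lit 0, nat_lit 3, nat_lit 1, nat_lit 0, nat_lit 2, nat_lit 1, nat_lit 0])))))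
 (.node (nat_lit 390) (.node (nat_lit 388) (.leaf ((nat_lit 23), [nat_lit 2, nat_lit 0, nat_lit 3, nat_lit 2, nat_lit 1])) (.node (nat_lit 389) (.leaf ((nat_lit 47), [nat_lit 1, nat_lit 3, nat_lit 1, nat_lit 0, nat_lit 2])) (.leaf ((nat_lit 28), [nat_lit 1, nat_lit 0, nat_lit 3, nat_lit 1, nat_lit 0])))) (.node (nat_lit 391) (.leaf ((nat_lit 81), [nat_lit 0])) (.node (nat_lit 392) (.leaf ((nat_lit 53), [nat_lit 1, nat_lit 0, nat_lit 3, nat_lit 1, nat_lit 0, nat_lit 2, nat_lit 1])) (.leaf ((nat_lit 80), [nat_lit 2, nat_lit 1, nat_lit 3, nat_lit 0, nat_lit 2, nat_lit 1, nat_lit 0]))))))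
 (.node (nat_lit 399) (.node (nat_lit 396) (.node (nat_lit 394) (.leaf ((nat_lit 47), [nat_lit 2, nat_lit 1, nat_lit 3, nat_lit 2, nat_lit 1])) (.node (nat_lit 395) (.leaf ((nat_lit 23), [nat_lit 2, nat_lit 0])) (.leaf ((nat_lit 41), [nat_lit 3, nat_lit 2, nat_lit 1, nat_lit 0, nat_lit 2, nat_lit 1])))) (.node (nat_lit 397) (.leaf ((nat_lit 58), [nat_lit 2, nat_lit 0, nat_lit 3, nat_lit 0, nat_lit 2])) (.node (nat_lit 398) (.leaf ((nat_lit 40), [nat_lit 0, nat_lit 3, nat_lit 0])) (.leaf ((nat_lit 54), [nat_lit 1, nat_lit 0, nat_lit 3, nat_lit 0])))))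
 (.node (nat_lit 402) (.node (nat_lit 400) (.leaf ((nat_lit 46), [nat_lit 1, nat_lit 0, nat_lit 3, nat_lit 0, nat_lit 2, nat_lit 1, nat_lit 0])) (.node (nat_lit 401) (.leaf ((nat_lit 24), [nat_lit 0, nat_lit 2, nat_lit 1])) (.leaf ((nat_lit 40), [nat_lit 3, nat_lit 1, nat_lit 0, nat_lit 2, nat_lit 1, nat_lit 0])))) (.node (nat_lit 403) (.leaf ((nat_lit 106), [nat_lit 3, nat_lit 1, nat_lit 0, nat_lit 2, nat_lit 0])) (.node (nat_lit 404) (.leaf ((nat_lit 87), [nat_lit 1, nat_lit 3, nat_lit 1, nat_lit 0, nat_lit 2, nat_lit 1])) (.leaf ((nat_lit 105), [nat_lit 1, nat_lit 0, nat_lit 3, nat_lit 1, nat_lit 0, nat_lit 2, nat_lit 1]))))))))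
 (.node (nat_lit 427) (.node (nat_lit 416) (.node (nat_lit 410) (.node (nat_lit 407) (.node (nat_lit 406) (.leaf ((nat_lit 102), [nat_lit 1, nat_lit 3, nat_lit 0, nat_lit 2, nat_lit 1, nat_lit 0])) (.leaf ((nat_lit 80), [nat_lit 2, nat_lit 1, nat_lit 3, nat_lit 1, nat_lit 0, nat_lit 2, nat_lit 1]))) (.node (nat_lit 408) (.leaf ((nat_lit 24), [nat_lit 2, nat_lit 1])) (.node (nat_lit 409) (.leaf ((nat_lit 68), [nat_lit 2, nat_lit 1, nat_lit 0, nat_lit 2, nat_lit 1, nat_lit 0])) (.leaf ((nat_lit 62), [nat_lit 2, nat_lit 1, nat_lit 3, nat_lit 0, nat_lit 2, nat_lit 0])))))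
 (.node (nat_lit 413) (.node (nat_lit 411) (.leaf ((nat_lit 68), [nat_lit 2])) (.node (nat_lit 412) (.leaf ((nat_lit 26), [nat_lit 1, nat_lit 3, nat_lit 2, nat_lit 1, nat_lit 0, nat_lit 2, nat_lit 1])) (.leaf ((nat_lit 25), [nat_lit 1, nat_lit 3, nat_lit 1, nat_lit 0, nat_lit 2, nat_lit 0])))) (.node (nat_lit 414) (.leaf ((nat_lit 46), [nat_lit 2, nat_lit 1, nat_lit 3, nat_lit 1, nat_lit 0])) (.node (nat_lit 415) (.leaf ((nat_lit 69), [nat_lit 2])) (.leaf ((nat_lit 28), [nat_lit 1, nat_lit 0, nat_lit 3, nat_lit 0, nat_lit 2, nat_lit 1]))))))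
 (.node (nat_lit 421) (.node (nat_lit 418) (.node (nat_lit 417) (.leaf ((nat_lit 28), [nat_lit 1, nat_lit 0, nat_lit 3, nat_lit 1, nat_lit 2, nat_lit 1])) (.leaf ((nat_lit 82), [nat_lit 2, nat_lit 1, nat_lit 0]))) (.node (nat_lit 419) (.leaf ((nat_lit 34), [nat_lit 2, nat_lit 1, nat_lit 3, nat_lit 0, nat_lit 2, nat_lit 1])) (.node (nat_lit 420) (.leaf ((nat_lit 25), [nat_lit 1, nat_lit 0, nat_lit 2, nat_lit 1])) (.leaf ((nat_lit 60), [nat_lit 2, nat_lit 0, nat_lit 3, nat_lit 0, nat_lit 2, nat_lit 1])))))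
 (.node (nat_lit 424) (.node (nat_lit 422) (.leaf ((nat_lit 26), [nat_lit 2, nat_lit 1, nat_lit 3, nat_lit 1, nat_lit 0])) (.node (nat_lit 423) (.leaf ((nat_lit 61), [nat_lit 1, nat_lit 0, nat_lit 3, nat_lit 1, nat_lit 0])) (.leaf ((nat_lit 41), [nat_lit 2, nat_lit 0, nat_lit 3, nat_lit 1, nat_lit 2, nat_lit 1])))) (.node (nat_lit 425) (.leaf ((nat_lit 40), [nat_lit 1, nat_lit 0])) (.node (nat_lit 426) (.leaf ((nat_lit 105), [nat_lit 1, nat_lit 0, nat_lit 3, nat_lit 1, nat_lit 0])) (.leaf ((nat_lit 41), [nat_lit 2, nat_lit 1, nat_lit 0, nat_lit 2, nat_lit 1, nat_lit 0])))))))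
 (.node (nat_lit 438) (.node (nat_lit 432) (.node (nat_lit 429) (.node (nat_lit 428) (.leaf ((nat_lit 35), [nat_lit 3])) (.leaf ((nat_lit 34), [nat_lit 1, nat_lit 3, nat_lit 1]))) (.node (nat_lit 430) (.leaf ((nat_lit 60), [nat_lit 2, nat_lit 1, nat_lit 3, nat_lit 1, nat_lit 2, nat_lit 1, nat_lit 0])) (.node (nat_lit 431) (.leaf ((nat_lit 27), [nat_lit 3, nat_lit 2, nat_lit 1, nat_lit 0, nat_lit 2])) (.leaf ((nat_lit 90), [nat_lit 0, nat_lit 3, nat_lit 2])))))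
 (.node (nat_lit 435) (.node (nat_lit 433) (.leaf ((nat_lit 49), [nat_lit 1, nat_lit 3])) (.node (nat_lit 434) (.leaf ((nat_lit 29), [nat_lit 2, nat_lit 1, nat_lit 3, nat_lit 2, nat_lit 1, nat_lit 0])) (.leaf ((nat_lit 64), [nat_lit 3, nat_lit 1, nat_lit 0, nat_lit 2])))) (.node (nat_lit 436) (.leaf ((nat_lit 85), [nat_lit 0, nat_lit 3, nat_lit 2, nat_lit 0])) (.node (nat_lit 437) (.leaf ((nat_lit 107), [nat_lit 2, nat_lit 1, nat_lit 0])) (.leaf ((nat_lit 106), [nat_lit 3, nat_lit 2]))))))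
 (.node (nat_lit 444) (.node (nat_lit 441) (.node (nat_lit 439) (.leaf ((nat_lit 96), [nat_lit 2, nat_lit 1, nat_lit 0])) (.node (nat_lit 440) (.leaf ((nat_lit 36), [nat_lit 0, nat_lit 3, nat_lit 2, nat_lit 1, nat_lit 0, nat_lit 2, nat_lit 1])) (.leaf ((nat_lit 95), [nat_lit 2, nat_lit 1, nat_lit 3, nat_lit 0, nat_lit 2, nat_lit 1])))) (.node (nat_lit 442) (.leaf ((nat_lit 29), [nat_lit 1, nat_lit 3, nat_lit 1, nat_lit 2, nat_lit 1, nat_lit 0])) (.node (nat_lit 443) (.leaf ((nat_lit 75), [nat_lit 1, nat_lit 0])) (.leaf ((nat_lit 34), [nat_lit 2, nat_lit 0, nat_lit 3, nat_lit 1, nat_lit 2, nat_lit 1, nat_lit 0])))))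
 (.node (nat_lit 447) (.node (nat_lit 445) (.leaf ((nat_lit 30), [nat_lit 3, nat_lit 2, nat_lit 1, nat_lit 0])) (.node (nat_lit 446) (.leaf ((nat_lit 30), [nat_lit 2, nat_lit 1, nat_lit 3, nat_lit 1, nat_lit 0, nat_lit 2])) (.leaf ((nat_lit 30), [nat_lit 2, nat_lit 0, nat_lit 3, nat_lit 1, nat_lit 0, nat_lit 2])))) (.node (nat_lit 448) (.leaf ((nat_lit 74), [nat_lit 1, nat_lit 0, nat_lit 3, nat_lit 1, nat_lit 0, nat_lit 2])) (.node (nat_lit 449) (.leaf ((nat_lit 99), [nat_lit 2])) (.leaf ((nat_lit 100), [nat_lit 2, nat_lit 0, nat_lit 3, nat_lit 1])))))))))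
 (.node (nat_lit 495) (.node (nat_lit 472) (.node (nat_lit 461) (.node (nat_lit 455) (.node (nat_lit 452) (.node (nat_lit 451) (.leaf ((nat_lit 108), [nat_lit 3, nat_lit 1, nat_lit 0])) (.leaf ((nat_lit 75), [nat_lit 1, nat_lit 0, nat_lit 3, nat_lit 1, nat_lit 0]))) (.node (nat_lit 453) (.leaf ((nat_lit 108), [nat_lit 2, nat_lit 0, nat_lit 3, nat_lit 0, nat_lit 2, nat_lit 0])) (.node (nat_lit 454) (.leaf ((nat_lit 30), [nat_lit 1, nat_lit 2, nat_lit 0])) (.leaf ((nat_lit 73), [nat_lit 1, nat_lit 0])))))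
 (.node (nat_lit 458) (.node (nat_lit 456) (.leaf ((nat_lit 35), [nat_lit 2, nat_lit 1, nat_lit 0, nat_lit 2])) (.node (nat_lit 457) (.leaf ((nat_lit 54), [nat_lit 0, nat_lit 3, nat_lit 2, nat_lit 1, nat_lit 0, nat_lit 2, nat_lit 1])) (.leaf ((nat_lit 59), [nat_lit 1, nat_lit 0, nat_lit 2, nat_lit 1, nat_lit 0])))) (.node (nat_lit 459) (.leaf ((nat_lit 58), [nat_lit 2, nat_lit 1, nat_lit 0, nat_lit 2, nat_lit 0])) (.node (nat_lit 460) (.leaf ((nat_lit 31), [nat_lit 1, nat_lit 0, nat_lit 2])) (.leaf ((nat_lit 76), [nat_lit 1, nat_lit 3, nat_lit 1, nat_lit 0, nat_lit 2, nat_lit 0]))))))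
 (.node (nat_lit 466) (.node (nat_lit 463) (.node (nat_lit 462) (.leaf ((nat_lit 107), [nat_lit 2, nat_lit 0, nat_lit 3, nat_lit 1, nat_lit 0, nat_lit 2, nat_lit 0])) (.leaf ((nat_lit 109), [nat_lit 3, nat_lit 2, nat_lit 0]))) (.node (nat_lit 464) (.leaf ((nat_lit 77), [nat_lit 0, nat_lit 3, nat_lit 1, nat_lit 0, nat_lit 2, nat_lit 1])) (.node (nat_lit 465) (.leaf ((nat_lit 77), [nat_lit 2, nat_lit 1, nat_lit 3, nat_lit 1, nat_lit 2])) (.leaf ((nat_lit 77), [nat_lit 1, nat_lit 0, nat_lit 3, nat_lit 1, nat_lit 0, nat_lit 2])))))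
 (.node (nat_lit 469) (.node (nat_lit 467) (.leaf ((nat_lit 52), [nat_lit 2])) (.node (nat_lit 468) (.leaf ((nat_lit 31), [nat_lit 0, nat_lit 3, nat_lit 2, nat_lit 1, nat_lit 0, nat_lit 2, nat_lit 0])) (.leaf ((nat_lit 110), [nat_lit 1, nat_lit 0, nat_lit 3, nat_lit 2, nat_lit 1, nat_lit 0, nat_lit 2, nat_lit 1, nat_lit 0])))) (.node (nat_lit 470) (.leaf ((nat_lit 110), [nat_lit 1, nat_lit 0, nat_lit 3, nat_lit 1, nat_lit 2, nat_lit 0])) (.node (nat_lit 471) (.leaf ((nat_lit 78), [nat_lit 0, nat_lit 2, nat_lit 0])) (.leaf ((nat_lit 78), [nat_lit 3])))))))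
 (.node (nat_lit 483) (.node (nat_lit 477) (.node (nat_lit 474) (.node (nat_lit 473) (.leaf ((nat_lit 96), [nat_lit 1, nat_lit 3, nat_lit 1, nat_lit 0, nat_lit 2, nat_lit 1, nat_lit 0])) (.leaf ((nat_lit 32), [nat_lit 3, nat_lit 1]))) (.node (nat_lit 475) (.leaf ((nat_lit 79), [nat_lit 2, nat_lit 1, nat_lit 0, nat_lit 2, nat_lit 1, nat_lit 0])) (.node (nat_lit 476) (.leaf ((nat_lit 79), [nat_lit 1, nat_lit 0, nat_lit 2, nat_lit 1, nat_lit 0])) (.leaf ((nat_lit 33), [nat_lit 2, nat_lit 1, nat_lit 3, nat_lit 1, nat_lit 2, nat_lit 0])))))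
 (.node (nat_lit 480) (.node (nat_lit 478) (.leaf ((nat_lit 79), [nat_lit 0, nat_lit 2, nat_lit 0])) (.node (nat_lit 479) (.leaf ((nat_lit 84), [nat_lit 1, nat_lit 3, nat_lit 1, nat_lit 0, nat_lit 2, nat_lit 0])) (.leaf ((nat_lit 111), [nat_lit 0, nat_lit 3, nat_lit 1, nat_lit 0, nat_lit 2, nat_lit 1, nat_lit 0])))) (.node (nat_lit 481) (.leaf ((nat_lit 36), [nat_lit 2, nat_lit 0, nat_lit 3, nat_lit 0, nat_lit 2, nat_lit 1])) (.node (nat_lit 482) (.leaf ((nat_lit 96), [nat_lit 1, nat_lit 0, nat_lit 3, nat_lit 2, nat_lit 1, nat_lit 0, nat_lit 2, nat_lit 1])) (.leaf ((nat_lit 65), [nat_lit 2, nat_lit 0, nat_lit 3, nat_lit 1, nat_lit 2, nat_lit 1]))))))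
 (.node (nat_lit 489) (.node (nat_lit 486) (.node (nat_lit 484) (.leaf ((nat_lit 112), [nat_lit 0, nat_lit 2, nat_lit 1, nat_lit 0])) (.node (nat_lit 485) (.leaf ((nat_lit 67), [nat_lit 0, nat_lit 3, nat_lit 1, nat_lit 2, nat_lit 0])) (.leaf ((nat_lit 63), [nat_lit 1, nat_lit 0, nat_lit 2])))) (.node (nat_lit 487) (.leaf ((nat_lit 65), [nat_lit 0])) (.node (nat_lit 488) (.leaf ((nat_lit 95), [nat_lit 1, nat_lit 0, nat_lit 2, nat_lit 1, nat_lit 0])) (.leaf ((nat_lit 36), [nat_lit 2, nat_lit 1, nat_lit 3, nat_lit 1, nat_lit 2, nat_lit 0])))))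
 (.node (nat_lit 492) (.node (nat_lit 490) (.leaf ((nat_lit 63), [nat_lit 0, nat_lit 2, nat_lit 0])) (.node (nat_lit 491) (.leaf ((nat_lit 104), [nat_lit 3, nat_lit 1, nat_lit 0, nat_lit 2, nat_lit 0])) (.leaf ((nat_lit 108), [nat_lit 3, nat_lit 2, nat_lit 1, nat_lit 0, nat_lit 2, nat_lit 1, nat_lit 0])))) (.node (nat_lit 493) (.leaf ((nat_lit 82), [nat_lit 3, nat_lit 1, nat_lit 0, nat_lit 2, nat_lit 1, nat_lit 0])) (.node (nat_lit 494) (.leaf ((nat_lit 82), [nat_lit 0, nat_lit 3, nat_lit 1, nat_lit 0, nat_lit 2, nat_lit 1])) (.leaf ((nat_lit 101), [nat_lit 2, nat_lit 0, nat_lit 3, nat_lit 2, nat_lit 1, nat_lit 0]))))))))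
 (.node (nat_lit 517) (.node (nat_lit 506) (.node (nat_lit 500) (.node (nat_lit 497) (.node (nat_lit 496) (.leaf ((nat_lit 69), [nat_lit 1, nat_lit 0, nat_lit 2])) (.leaf ((nat_lit 38), [nat_lit 2, nat_lit 1, nat_lit 0, nat_lit 2, nat_lit 1, nat_lit 0]))) (.node (nat_lit 498) (.leaf ((nat_lit 58), [nat_lit 3, nat_lit 0, nat_lit 2, nat_lit 1, nat_lit 0])) (.node (nat_lit 499) (.leaf ((nat_lit 87), [nat_lit 3, nat_lit 0])) (.leaf ((nat_lit 106), [nat_lit 2, nat_lit 1, nat_lit 3])))))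
 (.node (nat_lit 503) (.node (nat_lit 501) (.leaf ((nat_lit 57), [nat_lit 2, nat_lit 1, nat_lit 3, nat_lit 2, nat_lit 1, nat_lit 0, nat_lit 2, nat_lit 1])) (.node (nat_lit 502) (.leaf ((nat_lit 83), [nat_lit 2, nat_lit 1, nat_lit 0, nat_lit 2, nat_lit 1, nat_lit 0])) (.leaf ((nat_lit 108), [nat_lit 1, nat_lit 3, nat_lit 1, nat_lit 0, nat_lit 2])))) (.node (nat_lit 504) (.leaf ((nat_lit 38), [nat_lit 2, nat_lit 1, nat_lit 3, nat_lit 0, nat_lit 2])) (.node (nat_lit 505) (.leaf ((nat_lit 59), [nat_lit 1, nat_lit 2, nat_lit 1])) (.leaf ((nat_lit 54), [nat_lit 0, nat_lit 3, nat_lit 2]))))))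
 (.node (nat_lit 511) (.node (nat_lit 508) (.node (nat_lit 507) (.leaf ((nat_lit 40), [nat_lit 1, nat_lit 0, nat_lit 3, nat_lit 2])) (.leaf ((nat_lit 84), [nat_lit 0, nat_lit 2, nat_lit 0]))) (.node (nat_lit 509) (.leaf ((nat_lit 79), [nat_lit 1, nat_lit 3, nat_lit 1, nat_lit 0, nat_lit 2, nat_lit 0])) (.node (nat_lit 510) (.leaf ((nat_lit 86), [nat_lit 1, nat_lit 0, nat_lit 3, nat_lit 2, nat_lit 1, nat_lit 0])) (.leaf ((nat_lit 43), [nat_lit 0, nat_lit 3])))))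
 (.node (nat_lit 514) (.node (nat_lit 512) (.leaf ((nat_lit 43), [nat_lit 2, nat_lit 1, nat_lit 3, nat_lit 2])) (.node (nat_lit 513) (.leaf ((nat_lit 43), [nat_lit 1, nat_lit 3, nat_lit 2])) (.leaf ((nat_lit 72), [nat_lit 0, nat_lit 3, nat_lit 2, nat_lit 1, nat_lit 0, nat_lit 2, nat_lit 1])))) (.node (nat_lit 515) (.leaf ((nat_lit 111), [nat_lit 2, nat_lit 1, nat_lit 0, nat_lit 2, nat_lit 0])) (.node (nat_lit 516) (.leaf ((nat_lit 110), [nat_lit 1, nat_lit 3, nat_lit 0, nat_lit 2])) (.leaf ((nat_lit 113), [nat_lit 2, nat_lit 0, nat_lit 3, nat_lit 0, nat_lit 2, nat_lit 1, nat_lit 0])))))))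
 (.node (nat_lit 528) (.node (nat_lit 522) (.node (nat_lit 519) (.node (nat_lit 518) (.leaf ((nat_lit 86), [nat_lit 0, nat_lit 3, nat_lit 1, nat_lit 0, nat_lit 2, nat_lit 1])) (.leaf ((nat_lit 86), [nat_lit 2, nat_lit 1, nat_lit 3, nat_lit 1, nat_lit 2]))) (.node (nat_lit 520) (.leaf ((nat_lit 86), [nat_lit 1, nat_lit 0, nat_lit 3, nat_lit 1, nat_lit 0, nat_lit 2])) (.node (nat_lit 521) (.leaf ((nat_lit 44), [nat_lit 1, nat_lit 2, nat_lit 0])) (.leaf ((nat_lit 84), [nat_lit 1, nat_lit 0, nat_lit 3, nat_lit 2, nat_lit 1, nat_lit 0, nat_lit 2])))))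
 (.node (nat_lit 525) (.node (nat_lit 523) (.leaf ((nat_lit 83), [nat_lit 0, nat_lit 3])) (.node (nat_lit 524) (.leaf ((nat_lit 67), [nat_lit 0, nat_lit 3, nat_lit 1, nat_lit 0, nat_lit 2, nat_lit 0])) (.leaf ((nat_lit 93), [nat_lit 1, nat_lit 0, nat_lit 3, nat_lit 1, nat_lit 2, nat_lit 0])))) (.node (nat_lit 526) (.leaf ((nat_lit 114), [nat_lit 1, nat_lit 3, nat_lit 2])) (.node (nat_lit 527) (.leaf ((nat_lit 110), [nat_lit 2])) (.leaf ((nat_lit 44), [nat_lit 3, nat_lit 2, nat_lit 1]))))))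
 (.node (nat_lit 534) (.node (nat_lit 531) (.node (nat_lit 529) (.leaf ((nat_lit 45), [nat_lit 3, nat_lit 0, nat_lit 2, nat_lit 1])) (.node (nat_lit 530) (.leaf ((nat_lit 88), [nat_lit 1, nat_lit 0, nat_lit 2, nat_lit 1, nat_lit 0])) (.leaf ((nat_lit 45), [nat_lit 3, nat_lit 1, nat_lit 2, nat_lit 1])))) (.node (nat_lit 532) (.leaf ((nat_lit 88), [nat_lit 0, nat_lit 2, nat_lit 0])) (.node (nat_lit 533) (.leaf ((nat_lit 103), [nat_lit 2, nat_lit 1, nat_lit 3, nat_lit 1, nat_lit 2, nat_lit 1])) (.leaf ((nat_lit 96), [nat_lit 1, nat_lit 3, nat_lit 0, nat_lit 2])))))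
 (.node (nat_lit 537) (.node (nat_lit 535) (.leaf ((nat_lit 47), [nat_lit 3, nat_lit 2, nat_lit 0])) (.node (nat_lit 536) (.leaf ((nat_lit 47), [nat_lit 2, nat_lit 0, nat_lit 3, nat_lit 1, nat_lit 0, nat_lit 2, nat_lit 1, nat_lit 0])) (.leaf ((nat_lit 47), [nat_lit 2, nat_lit 0])))) (.node (nat_lit 538) (.leaf ((nat_lit 51), [nat_lit 1, nat_lit 0, nat_lit 3, nat_lit 1, nat_lit 0])) (.node (nat_lit 539) (.leaf ((nat_lit 98), [nat_lit 2, nat_lit 1, nat_lit 0, nat_lit 2, nat_lit 1, nat_lit 0])) (.leaf ((nat_lit 115), [nat_lit 2, nat_lit 0, nat_lit 3, nat_lit 0, nat_lit 2, nat_lit 1, nat_lit 0]))))))))))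
noncomputable def n11Wd_3 : Tr (ℕ × List ℕ) := (.node (nat_lit 630) (.node (nat_lit 585) (.node (nat_lit 562) (.node (nat_lit 551) (.node (nat_lit 545) (.node (nat_lit 542) (.node (nat_lit 541) (.leaf ((nat_lit 112), [nat_lit 0, nat_lit 3, nat_lit 1, nat_lit 0, nat_lit 2, nat_lit 1, nat_lit 0])) (.leaf ((nat_lit 90), [nat_lit 0, nat_lit 3, nat_lit 0]))) (.node (nat_lit 543) (.leaf ((nat_lit 112), [nat_lit 1, nat_lit 3, nat_lit 2, nat_lit 1, nat_lit 0, nat_lit 2, nat_lit 1, nat_lit 0])) (.node (nat_lit 544) (.leaf ((nat_lit 49), [nat_lit 1, nat_lit 0, nat_lit 3, nat_lit 1, nat_lit 0, nat_lit 2])) (.leaf ((nat_lit 90), [nat_lit 0])))))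
 (.node (nat_lit 548) (.node (nat_lit 546) (.leaf ((nat_lit 71), [nat_lit 3, nat_lit 2, nat_lit 1, nat_lit 0, nat_lit 2, nat_lit 1])) (.node (nat_lit 547) (.leaf ((nat_lit 102), [nat_lit 0, nat_lit 3])) (.leaf ((nat_lit 102), [nat_lit 2, nat_lit 1, nat_lit 3, nat_lit 2])))) (.node (nat_lit 549) (.leaf ((nat_lit 91), [nat_lit 1, nat_lit 0, nat_lit 3, nat_lit 1, nat_lit 0, nat_lit 2])) (.node (nat_lit 550) (.leaf ((nat_lit 116), [nat_lit 1, nat_lit 0, nat_lit 3, nat_lit 2, nat_lit 1, nat_lit 0, nat_lit 2, nat_lit 1, nat_lit 0])) (.leaf ((nat_lit 91), [nat_lit 1, nat_lit 2, nat_lit 1]))))))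
 (.node (nat_lit 556) (.node (nat_lit 553) (.node (nat_lit 552) (.leaf ((nat_lit 50), [nat_lit 1, nat_lit 3, nat_lit 0, nat_lit 2])) (.leaf ((nat_lit 117), [nat_lit 1, nat_lit 3, nat_lit 1, nat_lit 0]))) (.node (nat_lit 554) (.leaf ((nat_lit 92), [nat_lit 0, nat_lit 3, nat_lit 1, nat_lit 0, nat_lit 2, nat_lit 1])) (.node (nat_lit 555) (.leaf ((nat_lit 92), [nat_lit 2, nat_lit 1, nat_lit 3, nat_lit 1, nat_lit 2])) (.leaf ((nat_lit 98), [nat_lit 1, nat_lit 0, nat_lit 3, nat_lit 1, nat_lit 0, nat_lit 2])))))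
 (.node (nat_lit 559) (.node (nat_lit 557) (.leaf ((nat_lit 51), [nat_lit 2, nat_lit 1, nat_lit 0, nat_lit 2, nat_lit 1, nat_lit 0])) (.node (nat_lit 558) (.leaf ((nat_lit 54), [nat_lit 1, nat_lit 3, nat_lit 1, nat_lit 2, nat_lit 1, nat_lit 0])) (.leaf ((nat_lit 57), [nat_lit 3, nat_lit 2, nat_lit 1, nat_lit 0])))) (.node (nat_lit 560) (.leaf ((nat_lit 105), [nat_lit 2, nat_lit 1, nat_lit 3, nat_lit 1, nat_lit 0])) (.node (nat_lit 561) (.leaf ((nat_lit 87), [nat_lit 2, nat_lit 1, nat_lit 3, nat_lit 1, nat_lit 0, nat_lit 2])) (.leaf ((nat_lit 97), [nat_lit 2, nat_lit 0, nat_lit 3, nat_lit 1, nat_lit 0, nat_lit 2, nat_lit 1])))))))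
 (.node (nat_lit 573) (.node (nat_lit 567) (.node (nat_lit 564) (.node (nat_lit 563) (.leaf ((nat_lit 93), [nat_lit 0])) (.leaf ((nat_lit 51), [nat_lit 2, nat_lit 0, nat_lit 3, nat_lit 1]))) (.node (nat_lit 565) (.leaf ((nat_lit 103), [nat_lit 2, nat_lit 0, nat_lit 3, nat_lit 1, nat_lit 0, nat_lit 2, nat_lit 1, nat_lit 0])) (.node (nat_lit 566) (.leaf ((nat_lit 103), [nat_lit 2, nat_lit 1, nat_lit 3, nat_lit 1, nat_lit 0, nat_lit 2, nat_lit 1, nat_lit 0])) (.leaf ((nat_lit 94), [nat_lit 2, nat_lit 1, nat_lit 3, nat_lit 1, nat_lit 2, nat_lit 0])))))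
 (.node (nat_lit 570) (.node (nat_lit 568) (.leaf ((nat_lit 113), [nat_lit 3, nat_lit 0, nat_lit 2, nat_lit 1])) (.node (nat_lit 569) (.leaf ((nat_lit 94), [nat_lit 1, nat_lit 2, nat_lit 1])) (.leaf ((nat_lit 52), [nat_lit 1, nat_lit 3, nat_lit 2, nat_lit 1, nat_lit 0, nat_lit 2, nat_lit 1, nat_lit 0])))) (.node (nat_lit 571) (.leaf ((nat_lit 53), [nat_lit 1, nat_lit 0, nat_lit 3])) (.node (nat_lit 572) (.leaf ((nat_lit 81), [nat_lit 1, nat_lit 0, nat_lit 2, nat_lit 1, nat_lit 0])) (.leaf ((nat_lit 73), [nat_lit 2, nat_lit 0, nat_lit 3, nat_lit 1, nat_lit 2, nat_lit 0]))))))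
 (.node (nat_lit 579) (.node (nat_lit 576) (.node (nat_lit 574) (.leaf ((nat_lit 95), [nat_lit 0, nat_lit 2, nat_lit 0])) (.node (nat_lit 575) (.leaf ((nat_lit 57), [nat_lit 1, nat_lit 0, nat_lit 3, nat_lit 1, nat_lit 0, nat_lit 2])) (.leaf ((nat_lit 112), [nat_lit 2, nat_lit 1, nat_lit 3, nat_lit 0, nat_lit 2, nat_lit 1, nat_lit 0])))) (.node (nat_lit 577) (.leaf ((nat_lit 73), [nat_lit 1, nat_lit 0, nat_lit 2])) (.node (nat_lit 578) (.leaf ((nat_lit 80), [nat_lit 0, nat_lit 3, nat_lit 2, nat_lit 1, nat_lit 0])) (.leaf ((nat_lit 53), [nat_lit 2, nat_lit 1, nat_lit 3])))))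
 (.node (nat_lit 582) (.node (nat_lit 580) (.leaf ((nat_lit 96), [nat_lit 1, nat_lit 3, nat_lit 1])) (.node (nat_lit 581) (.leaf ((nat_lit 78), [nat_lit 3, nat_lit 1, nat_lit 0, nat_lit 2, nat_lit 0])) (.leaf ((nat_lit 88), [nat_lit 2, nat_lit 0, nat_lit 3, nat_lit 1])))) (.node (nat_lit 583) (.leaf ((nat_lit 55), [nat_lit 1, nat_lit 0, nat_lit 3])) (.node (nat_lit 584) (.leaf ((nat_lit 118), [nat_lit 1, nat_lit 0, nat_lit 2, nat_lit 1, nat_lit 0])) (.leaf ((nat_lit 114), [nat_lit 1, nat_lit 0, nat_lit 2, nat_lit 1]))))))))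
 (.node (nat_lit 607) (.node (nat_lit 596) (.node (nat_lit 590) (.node (nat_lit 587) (.node (nat_lit 586) (.leaf ((nat_lit 93), [nat_lit 0, nat_lit 3, nat_lit 0, nat_lit 2, nat_lit 1])) (.leaf ((nat_lit 97), [nat_lit 1, nat_lit 3, nat_lit 1, nat_lit 0, nat_lit 2, nat_lit 0]))) (.node (nat_lit 588) (.leaf ((nat_lit 118), [nat_lit 3, nat_lit 2])) (.node (nat_lit 589) (.leaf ((nat_lit 118), [nat_lit 0])) (.leaf ((nat_lit 55), [nat_lit 1, nat_lit 0, nat_lit 3, nat_lit 1, nat_lit 0, nat_lit 2, nat_lit 1])))))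
 (.node (nat_lit 593) (.node (nat_lit 591) (.leaf ((nat_lit 107), [nat_lit 1, nat_lit 0, nat_lit 3, nat_lit 1, nat_lit 2, nat_lit 0])) (.node (nat_lit 592) (.leaf ((nat_lit 92), [nat_lit 1, nat_lit 0, nat_lit 3, nat_lit 1, nat_lit 0, nat_lit 2])) (.leaf ((nat_lit 89), [nat_lit 2, nat_lit 1, nat_lit 0, nat_lit 2, nat_lit 1, nat_lit 0])))) (.node (nat_lit 594) (.leaf ((nat_lit 101), [nat_lit 3, nat_lit 2, nat_lit 1, nat_lit 0, nat_lit 2, nat_lit 1])) (.node (nat_lit 595) (.leaf ((nat_lit 114), [nat_lit 0, nat_lit 3])) (.leaf ((nat_lit 107), [nat_lit 0, nat_lit 3, nat_lit 2, nat_lit 0]))))))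
 (.node (nat_lit 601) (.node (nat_lit 598) (.node (nat_lit 597) (.leaf ((nat_lit 55), [nat_lit 2, nat_lit 1, nat_lit 3, nat_lit 1, nat_lit 2, nat_lit 1, nat_lit 0])) (.leaf ((nat_lit 99), [nat_lit 1, nat_lit 0, nat_lit 3, nat_lit 1, nat_lit 0, nat_lit 2]))) (.node (nat_lit 599) (.leaf ((nat_lit 74), [nat_lit 2])) (.node (nat_lit 600) (.leaf ((nat_lit 59), [nat_lit 2, nat_lit 0, nat_lit 3, nat_lit 1, nat_lit 2, nat_lit 1, nat_lit 0])) (.leaf ((nat_lit 105), [nat_lit 0, nat_lit 3])))))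
 (.node (nat_lit 604) (.node (nat_lit 602) (.leaf ((nat_lit 57), [nat_lit 2, nat_lit 1, nat_lit 3, nat_lit 2, nat_lit 1, nat_lit 0, nat_lit 2, nat_lit 1, nat_lit 0])) (.node (nat_lit 603) (.leaf ((nat_lit 106), [nat_lit 2, nat_lit 1, nat_lit 3, nat_lit 0])) (.leaf ((nat_lit 117), [nat_lit 2, nat_lit 1, nat_lit 0, nat_lit 2, nat_lit 0])))) (.node (nat_lit 605) (.leaf ((nat_lit 115), [nat_lit 2])) (.node (nat_lit 606) (.leaf ((nat_lit 74), [nat_lit 1, nat_lit 3, nat_lit 0, nat_lit 2])) (.leaf ((nat_lit 101), [nat_lit 2, nat_lit 1, nat_lit 0, nat_lit 2, nat_lit 1, nat_lit 0])))))))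
 (.node (nat_lit 618) (.node (nat_lit 612) (.node (nat_lit 609) (.node (nat_lit 608) (.leaf ((nat_lit 101), [nat_lit 1, nat_lit 0, nat_lit 2, nat_lit 1, nat_lit 0])) (.leaf ((nat_lit 82), [nat_lit 1, nat_lit 0, nat_lit 3, nat_lit 0, nat_lit 2, nat_lit 1, nat_lit 0]))) (.node (nat_lit 610) (.leaf ((nat_lit 101), [nat_lit 1, nat_lit 2, nat_lit 1])) (.node (nat_lit 611) (.leaf ((nat_lit 59), [nat_lit 1, nat_lit 3, nat_lit 1, nat_lit 0, nat_lit 2, nat_lit 0])) (.leaf ((nat_lit 98), [nat_lit 0, nat_lit 3, nat_lit 2])))))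
 (.node (nat_lit 615) (.node (nat_lit 613) (.leaf ((nat_lit 91), [nat_lit 3, nat_lit 0])) (.node (nat_lit 614) (.leaf ((nat_lit 91), [nat_lit 3, nat_lit 1, nat_lit 2, nat_lit 1, nat_lit 0])) (.leaf ((nat_lit 102), [nat_lit 2, nat_lit 1, nat_lit 0, nat_lit 2, nat_lit 1, nat_lit 0])))) (.node (nat_lit 616) (.leaf ((nat_lit 67), [nat_lit 2, nat_lit 0, nat_lit 3, nat_lit 2, nat_lit 1])) (.node (nat_lit 617) (.leaf ((nat_lit 112), [nat_lit 2, nat_lit 1, nat_lit 3, nat_lit 1, nat_lit 2, nat_lit 0])) (.leaf ((nat_lit 60), [nat_lit 1, nat_lit 0, nat_lit 3, nat_lit 1, nat_lit 0]))))))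
 (.node (nat_lit 624) (.node (nat_lit 621) (.node (nat_lit 619) (.leaf ((nat_lit 94), [nat_lit 3, nat_lit 0, nat_lit 2, nat_lit 1])) (.node (nat_lit 620) (.leaf ((nat_lit 94), [nat_lit 3, nat_lit 1, nat_lit 2, nat_lit 0])) (.leaf ((nat_lit 103), [nat_lit 0, nat_lit 2, nat_lit 0])))) (.node (nat_lit 622) (.leaf ((nat_lit 103), [nat_lit 3])) (.node (nat_lit 623) (.leaf ((nat_lit 88), [nat_lit 2, nat_lit 1, nat_lit 3, nat_lit 1, nat_lit 2, nat_lit 1, nat_lit 0])) (.leaf ((nat_lit 61), [])))))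
 (.node (nat_lit 627) (.node (nat_lit 625) (.leaf ((nat_lit 115), [nat_lit 1, nat_lit 0, nat_lit 3, nat_lit 2, nat_lit 1, nat_lit 0, nat_lit 2, nat_lit 1, nat_lit 0])) (.node (nat_lit 626) (.leaf ((nat_lit 115), [nat_lit 1, nat_lit 0, nat_lit 3, nat_lit 0, nat_lit 2, nat_lit 1])) (.leaf ((nat_lit 104), [nat_lit 1, nat_lit 2, nat_lit 1])))) (.node (nat_lit 628) (.leaf ((nat_lit 105), [nat_lit 0, nat_lit 3, nat_lit 2, nat_lit 1, nat_lit 0, nat_lit 2])) (.node (nat_lit 629) (.leaf ((nat_lit 81), [nat_lit 1, nat_lit 3, nat_lit 1, nat_lit 0, nat_lit 2, nat_lit 1, nat_lit 0])) (.leaf ((nat_lit 62), [nat_lit 1, nat_lit 3, nat_lit 2, nat_lit 1, nat_lit 0, nat_lit 2, nat_lit 1])))))))))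
 (.node (nat_lit 675) (.node (nat_lit 652) (.node (nat_lit 641) (.node (nat_lit 635) (.node (nat_lit 632) (.node (nat_lit 631) (.leaf ((nat_lit 100), [nat_lit 3, nat_lit 0])) (.leaf ((nat_lit 93), [nat_lit 1, nat_lit 0, nat_lit 3, nat_lit 1, nat_lit 2]))) (.node (nat_lit 633) (.leaf ((nat_lit 67), [nat_lit 0, nat_lit 3, nat_lit 1, nat_lit 0, nat_lit 2])) (.node (nat_lit 634) (.leaf ((nat_lit 104), [nat_lit 1, nat_lit 0, nat_lit 3, nat_lit 2, nat_lit 0])) (.leaf ((nat_lit 63), [nat_lit 0, nat_lit 3, nat_lit 1, nat_lit 0, nat_lit 2, nat_lit 0])))))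
 (.node (nat_lit 638) (.node (nat_lit 636) (.leaf ((nat_lit 70), [nat_lit 1, nat_lit 0, nat_lit 3, nat_lit 1, nat_lit 0])) (.node (nat_lit 637) (.leaf ((nat_lit 67), [nat_lit 1, nat_lit 3, nat_lit 1, nat_lit 0, nat_lit 2, nat_lit 1, nat_lit 0])) (.leaf ((nat_lit 83), [nat_lit 3, nat_lit 1, nat_lit 2])))) (.node (nat_lit 639) (.leaf ((nat_lit 100), [nat_lit 0, nat_lit 3, nat_lit 1, nat_lit 2])) (.node (nat_lit 640) (.leaf ((nat_lit 119), [nat_lit 2, nat_lit 1, nat_lit 3, nat_lit 1, nat_lit 0, nat_lit 2, nat_lit 1])) (.leaf ((nat_lit 106), [nat_lit 1, nat_lit 2, nat_lit 1]))))))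
 (.node (nat_lit 646) (.node (nat_lit 643) (.node (nat_lit 642) (.leaf ((nat_lit 72), [nat_lit 3, nat_lit 2, nat_lit 1, nat_lit 0, nat_lit 2, nat_lit 1, nat_lit 0])) (.leaf ((nat_lit 116), [nat_lit 2, nat_lit 0, nat_lit 3, nat_lit 2, nat_lit 1, nat_lit 0, nat_lit 2, nat_lit 1, nat_lit 0]))) (.node (nat_lit 644) (.leaf ((nat_lit 99), [nat_lit 0, nat_lit 3, nat_lit 2, nat_lit 1, nat_lit 0, nat_lit 2, nat_lit 1])) (.node (nat_lit 645) (.leaf ((nat_lit 98), [nat_lit 2, nat_lit 1, nat_lit 3, nat_lit 1, nat_lit 0, nat_lit 2])) (.leaf ((nat_lit 111), [nat_lit 1, nat_lit 0, nat_lit 3, nat_lit 1, nat_lit 2])))))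
 (.node (nat_lit 649) (.node (nat_lit 647) (.leaf ((nat_lit 72), [nat_lit 1, nat_lit 0, nat_lit 2])) (.node (nat_lit 648) (.leaf ((nat_lit 76), [nat_lit 1, nat_lit 3, nat_lit 0, nat_lit 2, nat_lit 1])) (.leaf ((nat_lit 75), [nat_lit 1, nat_lit 0, nat_lit 3])))) (.node (nat_lit 650) (.leaf ((nat_lit 108), [nat_lit 3])) (.node (nat_lit 651) (.leaf ((nat_lit 75), [nat_lit 2, nat_lit 0, nat_lit 3, nat_lit 0, nat_lit 2, nat_lit 1, nat_lit 0])) (.leaf ((nat_lit 108), [nat_lit 1, nat_lit 2, nat_lit 1])))))))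
 (.node (nat_lit 663) (.node (nat_lit 657) (.node (nat_lit 654) (.node (nat_lit 653) (.leaf ((nat_lit 83), [nat_lit 1, nat_lit 0, nat_lit 3, nat_lit 1, nat_lit 0, nat_lit 2, nat_lit 0])) (.leaf ((nat_lit 81), [nat_lit 3, nat_lit 2]))) (.node (nat_lit 655) (.leaf ((nat_lit 77), [nat_lit 0, nat_lit 3, nat_lit 2, nat_lit 1, nat_lit 0, nat_lit 2, nat_lit 1, nat_lit 0])) (.node (nat_lit 656) (.leaf ((nat_lit 109), [nat_lit 3])) (.leaf ((nat_lit 109), [nat_lit 1, nat_lit 3, nat_lit 1])))))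
 (.node (nat_lit 660) (.node (nat_lit 658) (.leaf ((nat_lit 110), [nat_lit 0, nat_lit 3, nat_lit 1, nat_lit 2, nat_lit 0])) (.node (nat_lit 659) (.leaf ((nat_lit 114), [nat_lit 1, nat_lit 0, nat_lit 3, nat_lit 1, nat_lit 0, nat_lit 2, nat_lit 0])) (.leaf ((nat_lit 119), [nat_lit 3, nat_lit 2])))) (.node (nat_lit 661) (.leaf ((nat_lit 78), [nat_lit 3, nat_lit 2, nat_lit 1, nat_lit 0])) (.node (nat_lit 662) (.leaf ((nat_lit 78), [nat_lit 2, nat_lit 1, nat_lit 3, nat_lit 1, nat_lit 0, nat_lit 2])) (.leaf ((nat_lit 110), [nat_lit 2, nat_lit 1, nat_lit 3, nat_lit 1, nat_lit 2]))))))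
 (.node (nat_lit 669) (.node (nat_lit 666) (.node (nat_lit 664) (.leaf ((nat_lit 109), [nat_lit 2, nat_lit 1, nat_lit 3, nat_lit 1, nat_lit 0, nat_lit 2, nat_lit 1])) (.node (nat_lit 665) (.leaf ((nat_lit 87), [nat_lit 2])) (.leaf ((nat_lit 85), [nat_lit 2, nat_lit 0, nat_lit 3, nat_lit 1])))) (.node (nat_lit 667) (.leaf ((nat_lit 119), [nat_lit 2, nat_lit 0])) (.node (nat_lit 668) (.leaf ((nat_lit 111), [nat_lit 0, nat_lit 3, nat_lit 1, nat_lit 0, nat_lit 2, nat_lit 1])) (.leaf ((nat_lit 111), [nat_lit 2, nat_lit 1, nat_lit 3, nat_lit 1, nat_lit 2])))))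
 (.node (nat_lit 672) (.node (nat_lit 670) (.leaf ((nat_lit 107), [nat_lit 2, nat_lit 1, nat_lit 3, nat_lit 1, nat_lit 0])) (.node (nat_lit 671) (.leaf ((nat_lit 85), [nat_lit 2, nat_lit 1, nat_lit 0, nat_lit 2, nat_lit 1])) (.leaf ((nat_lit 79), [nat_lit 3, nat_lit 1, nat_lit 0, nat_lit 2, nat_lit 1])))) (.node (nat_lit 673) (.leaf ((nat_lit 90), [nat_lit 3, nat_lit 1, nat_lit 0, nat_lit 2, nat_lit 1])) (.node (nat_lit 674) (.leaf ((nat_lit 112), [nat_lit 1, nat_lit 0, nat_lit 2, nat_lit 1, nat_lit 0])) (.leaf ((nat_lit 90), [nat_lit 3, nat_lit 2, nat_lit 1]))))))))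
 (.node (nat_lit 697) (.node (nat_lit 686) (.node (nat_lit 680) (.node (nat_lit 677) (.node (nat_lit 676) (.leaf ((nat_lit 80), [nat_lit 1, nat_lit 0, nat_lit 2, nat_lit 0])) (.leaf ((nat_lit 102), [nat_lit 2, nat_lit 1, nat_lit 3, nat_lit 1, nat_lit 2, nat_lit 0]))) (.node (nat_lit 678) (.leaf ((nat_lit 95), [nat_lit 2, nat_lit 0, nat_lit 3, nat_lit 1, nat_lit 2, nat_lit 1])) (.node (nat_lit 679) (.leaf ((nat_lit 86), [nat_lit 2, nat_lit 0, nat_lit 3, nat_lit 0, nat_lit 2, nat_lit 0])) (.leaf ((nat_lit 113), [nat_lit 1, nat_lit 0, nat_lit 2, nat_lit 1, nat_lit 0])))))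
 (.node (nat_lit 683) (.node (nat_lit 681) (.leaf ((nat_lit 113), [nat_lit 2, nat_lit 1, nat_lit 0, nat_lit 2, nat_lit 1, nat_lit 0])) (.node (nat_lit 682) (.leaf ((nat_lit 94), [nat_lit 2, nat_lit 0, nat_lit 3, nat_lit 1, nat_lit 0, nat_lit 2, nat_lit 1, nat_lit 0])) (.leaf ((nat_lit 113), [nat_lit 1, nat_lit 3, nat_lit 1, nat_lit 0, nat_lit 2, nat_lit 0])))) (.node (nat_lit 684) (.leaf ((nat_lit 114), [nat_lit 2, nat_lit 1, nat_lit 3, nat_lit 1, nat_lit 0, nat_lit 2, nat_lit 1, nat_lit 0])) (.node (nat_lit 685) (.leaf ((nat_lit 99), [nat_lit 3, nat_lit 0])) (.leaf ((nat_lit 116), [nat_lit 2, nat_lit 1, nat_lit 3, nat_lit 1, nat_lit 0]))))))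
 (.node (nat_lit 691) (.node (nat_lit 688) (.node (nat_lit 687) (.leaf ((nat_lit 97), [nat_lit 1, nat_lit 2, nat_lit 1, nat_lit 0])) (.leaf ((nat_lit 87), [nat_lit 3, nat_lit 2, nat_lit 1, nat_lit 0, nat_lit 2, nat_lit 0]))) (.node (nat_lit 689) (.leaf ((nat_lit 109), [nat_lit 1, nat_lit 3, nat_lit 1, nat_lit 0, nat_lit 2])) (.node (nat_lit 690) (.leaf ((nat_lit 113), [nat_lit 3, nat_lit 1, nat_lit 2, nat_lit 0])) (.leaf ((nat_lit 104), [nat_lit 3, nat_lit 2, nat_lit 1, nat_lit 0])))))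
 (.node (nat_lit 694) (.node (nat_lit 692) (.leaf ((nat_lit 104), [nat_lit 2, nat_lit 0, nat_lit 3, nat_lit 1, nat_lit 0, nat_lit 2])) (.node (nat_lit 693) (.leaf ((nat_lit 115), [nat_lit 0, nat_lit 3, nat_lit 1, nat_lit 0, nat_lit 2, nat_lit 1])) (.leaf ((nat_lit 118), [nat_lit 1, nat_lit 3, nat_lit 2, nat_lit 1, nat_lit 0, nat_lit 2])))) (.node (nat_lit 695) (.leaf ((nat_lit 100), [nat_lit 2])) (.node (nat_lit 696) (.leaf ((nat_lit 89), [nat_lit 2, nat_lit 0, nat_lit 3, nat_lit 0, nat_lit 2, nat_lit 0])) (.leaf ((nat_lit 107), [nat_lit 3, nat_lit 0, nat_lit 2, nat_lit 0])))))))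
 (.node (nat_lit 708) (.node (nat_lit 702) (.node (nat_lit 699) (.node (nat_lit 698) (.leaf ((nat_lit 114), [nat_lit 1, nat_lit 0, nat_lit 3, nat_lit 1, nat_lit 2])) (.leaf ((nat_lit 118), [nat_lit 2, nat_lit 0, nat_lit 3, nat_lit 1, nat_lit 2, nat_lit 0]))) (.node (nat_lit 700) (.leaf ((nat_lit 91), [nat_lit 3, nat_lit 2, nat_lit 1, nat_lit 0])) (.node (nat_lit 701) (.leaf ((nat_lit 116), [nat_lit 0, nat_lit 3, nat_lit 1, nat_lit 0, nat_lit 2, nat_lit 1])) (.leaf ((nat_lit 117), [nat_lit 2, nat_lit 1, nat_lit 3, nat_lit 2, nat_lit 1, nat_lit 0, nat_lit 2, nat_lit 0])))))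
 (.node (nat_lit 705) (.node (nat_lit 703) (.leaf ((nat_lit 92), [nat_lit 1, nat_lit 0, nat_lit 3, nat_lit 1])) (.node (nat_lit 704) (.leaf ((nat_lit 117), [nat_lit 1, nat_lit 0, nat_lit 2, nat_lit 1, nat_lit 0])) (.leaf ((nat_lit 117), [nat_lit 2])))) (.node (nat_lit 706) (.leaf ((nat_lit 100), [nat_lit 2, nat_lit 1, nat_lit 0, nat_lit 2, nat_lit 1])) (.node (nat_lit 707) (.leaf ((nat_lit 118), [nat_lit 1, nat_lit 3, nat_lit 1, nat_lit 0, nat_lit 2, nat_lit 0])) (.leaf ((nat_lit 116), [nat_lit 1, nat_lit 3, nat_lit 1, nat_lit 2, nat_lit 1]))))))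
 (.node (nat_lit 714) (.node (nat_lit 711) (.node (nat_lit 709) (.leaf ((nat_lit 98), [nat_lit 0])) (.node (nat_lit 710) (.leaf ((nat_lit 97), [nat_lit 1, nat_lit 0, nat_lit 2, nat_lit 1, nat_lit 0])) (.leaf ((nat_lit 116), [nat_lit 2, nat_lit 1, nat_lit 3, nat_lit 0, nat_lit 2, nat_lit 1])))) (.node (nat_lit 712) (.leaf ((nat_lit 115), [nat_lit 1, nat_lit 0, nat_lit 3, nat_lit 2, nat_lit 1])) (.node (nat_lit 713) (.leaf ((nat_lit 117), [nat_lit 1, nat_lit 3, nat_lit 1, nat_lit 0, nat_lit 2, nat_lit 0])) (.leaf ((nat_lit 97), [nat_lit 3, nat_lit 2, nat_lit 1, nat_lit 0, nat_lit 2, nat_lit 1, nat_lit 0])))))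
 (.node (nat_lit 717) (.node (nat_lit 715) (.leaf ((nat_lit 111), [nat_lit 0, nat_lit 2])) (.node (nat_lit 716) (.leaf ((nat_lit 119), [nat_lit 3])) (.leaf ((nat_lit 119), [nat_lit 1, nat_lit 3, nat_lit 1])))) (.node (nat_lit 718) (.leaf ((nat_lit 106), [nat_lit 0, nat_lit 3, nat_lit 1, nat_lit 2, nat_lit 0])) (.node (nat_lit 719) (.leaf ((nat_lit 119), [nat_lit 0])) (.leaf ((nat_lit 109), [nat_lit 3, nat_lit 2, nat_lit 1, nat_lit 0, nat_lit 2, nat_lit 1, nat_lit 0]))))))))))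
noncomputable def n11Wd : Tr (ℕ × List ℕ) := (.node (nat_lit 360) (.node (nat_lit 180) n11Wd_0 n11Wd_1) (.node (nat_lit 540) n11Wd_2 n11Wd_3))
theorem n11q : allR 0 120 (dblChk (nat_lit 4) (nat_lit 15) (MG.gl42L.map Lev.b) MG.gl42T n11T n11Dd (topN MG.gl42L) 120 7 n11PA n11Wd) = true := by decide +kernel
noncomputable def n11Ws : List (List ℕ) := [[]]
noncomputable def n11CE : Tr (ℕ × List ℕ × List (List ℕ)) := (.node (nat_lit 3) (.node (nat_lit 1) (.leaf ((nat_lit 0), [], [])) (.node (nat_lit 2) (.leaf ((nat_lit 12), [nat_lit 2, nat_lit 1, nat_lit 0, nat_lit 5, nat_lit 2, nat_lit 1, nat_lit 0, nat_lit 4, nat_lit 3, nat_lit 2, nat_lit 3, nat_lit 1, nat_lit 0], [[nat_lit 3, nat_lit 2, nat_lit 1], [nat_lit 99, nat_lit 0, nat_lit 2]])) (.leaf ((nat_lit 14), [nat_lit 0, nat_lit 5, nat_lit 2, nat_lit 4, nat_lit 1, nat_lit 3, nat_lit 2, nat_lit 1, nat_lit 0], [[nat_lit 0, nat_lit 99, nat_lit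 3, nat_lit 1], [nat_lit 2, nat_lit 99, nat_lit 3, nat_lit 1, nat_lit 2]]))))
 (.node (nat_lit 5) (.node (nat_lit 4) (.leaf ((nat_lit 13), [nat_lit 4, nat_lit 5, nat_lit 4, nat_lit 0, nat_lit 4, nat_lit 2, nat_lit 3, nat_lit 2], [[nat_lit 99, nat_lit 2, nat_lit 0], [nat_lit 2, nat_lit 0, nat_lit 3, nat_lit 1]])) (.leaf ((nat_lit 13), [nat_lit 1, nat_lit 0, nat_lit 5, nat_lit 1, nat_lit 3, nat_lit 2], [[nat_lit 99, nat_lit 0, nat_lit 2, nat_lit 1], [nat_lit 2, nat_lit 1, nat_lit 99, nat_lit 2, nat_lit 0]]))) (.node (nat_lit 6) (.leaf ((nat_lit 14), [nat_lit 2, nat_lit 0, nat_lit 5, nat_lit 3, nat_lit 2, nat_lit 1, nat_lit 4, nat_lit 3, nat_lit 2, nat_lit 3, nat_lit 1, nat_lit 0], [[nat_lit 99, nat_lit 3, nat_lit 2, nat_lit 1], [nat_lit 99, nat_lit 3, nat_lit 99, nat_lit 0]])) (.leaf ((nat_lit 14), [nat_lit 3, nat_lit 2, nat_lit 1, nat_lit 5, nat_lit 2, nat_lit 1, nat_lit 0, nat_lit 4, nat_lit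 2, nat_lit 3, nat_lit 2, nat_lit 1, nat_lit 0], [[nat_lit 3, nat_lit 1, nat_lit 2], [nat_lit 99, nat_lit 0, nat_lit 3, nat_lit 0]])))))
theorem n11s : allR 0 7 (stepChk (nat_lit 4) (nat_lit 15) (MG.gl42L.map Lev.b) MG.gl42T n11T n11T n11T n11Dd AW [nat_lit 12, nat_lit 13, nat_lit 14] n11Ws n11CE) = true := by decide +kernel
noncomputable def n11iI : Tr (List ℕ) := (.node (nat_lit 2) (.node (nat_lit 1) (.leaf [nat_lit 2, nat_lit 1, nat_lit 0, nat_lit 2, nat_lit 1, nat_lit 0]) (.leaf [nat_lit 2, nat_lit 1, nat_lit 0, nat_lit 2])) (.node (nat_lit 3) (.leaf [nat_lit 2, nat_lit 1, nat_lit 3, nat_lit 1, nat_lit 2, nat_lit 0]) (.leaf [nat_lit 1, nat_lit 0, nat_lit 3, nat_lit 1, nat_lit 0, nat_lit 2])))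
theorem n11ih : MG.gl32R.all (fun w => eqB (n11L.map Lev.b) (apF (fun y => apL (nat_lit 4) (nat_lit 15) n11T (n11iI.get y)) w) fun a => a) = true := by decide +kernel
noncomputable def n11iD : Tr (List ℕ) := (.node (nat_lit 2) (.node (nat_lit 1) (.leaf [nat_lit 2, nat_lit 1, nat_lit 0, nat_lit 2, nat_lit 1, nat_lit 0]) (.leaf [nat_lit 2, nat_lit 1, nat_lit 0, nat_lit 2])) (.node (nat_lit 3) (.leaf [nat_lit 2, nat_lit 0, nat_lit 3, nat_lit 0, nat_lit 2]) (.leaf [nat_lit 1, nat_lit 3, nat_lit 1])))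
theorem n11is : band (surChk (nat_lit 4) (nat_lit 15) (n11L.map Lev.b) n11T n11iI (topN MG.gl32L) n11iD (topN n11L)) (Nat.ble (chainOrd 7 MG.gl32L) (chainOrd 15 n11L)) = true := by decide +kernel
theorem s11 {G : Type*} [Group G] [Finite G] {X : Type*} [MulAction G X] {pt : ℕ → X} (C : Ch G 15 (nat_lit 4) (nat_lit 15) pt MG.gl42T MG.gl42L) {H : Subgroup G} (h : PJ C.lets.e AW 11 H) :
    ∃ K : Subgroup G, Nonempty (H ≃* K) ∧ (Q K ∨ ∃ j ∈ [nat_lit 12, nat_lit 13, nat_lit 14], PJ C.lets.e AW j K) := by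
  obtain ⟨K, e, hK⟩ := h.conj
  refine ⟨K, e, ?_⟩
  obtain ⟨N, D, S⟩ := (C.gen (lets_words C.lets n11E n11w) n11chain n11sd n11tc)
  have le := C.le_AW D hK n11slp n11a
  have hD := lets_words C.lets n11dE n11dw
  refine (C.step D.lets D.lets D.lets hD le_normalizer le_rfl (C.dbl D.lets hD n11q (by decide +kernel)) (Ws := n11Ws) (fun u hu => ⟨[], List.mem_singleton_self _, u, hu, (one_mul u).symm⟩) (by decide +kernel) n11s le).imp_left fun h => ?_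
  rw [le_antisymm h le]
  exact .inr (.inr (.inr (.inr (((MG.gl32std fm2 (ZMod.card 2)).isoW D n11ih n11is).map MulEquiv.symm))))
noncomputable def n12t0 : ℕ := (nat_lit 0xdebca9875634210)
noncomputable def n12t1 : ℕ := (nat_lit 0x4365a987cbed210)
noncomputable def n12t2 : ℕ := (nat_lit 0xbcdea9873456210)
noncomputable def n12t3 : ℕ := (nat_lit 0x36dc107aeb45892)
noncomputable def n12t4 : ℕ := (nat_lit 0x6cb57128d34e0a9)
noncomputable def n12T : Tr ℕ := (.node (nat_lit 2) (.node (nat_lit 1) (.leaf n12t0) (.leaf n12t1)) (.node (nat_lit 3) (.leaf n12t2) (.node (nat_lit 4) (.leaf n12t3) (.leaf n12t4))))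
noncomputable def n12R : Tr (List ℕ) := (.node (nat_lit 5) (.node (nat_lit 2) (.node (nat_lit 1) (.leaf [nat_lit 3, nat_lit 0, nat_lit 4, nat_lit 2]) (.leaf [nat_lit 3, nat_lit 1, nat_lit 4, nat_lit 0])) (.node (nat_lit 3) (.leaf [nat_lit 0, nat_lit 2, nat_lit 4, nat_lit 1, nat_lit 3]) (.node (nat_lit 4) (.leaf [nat_lit 3, nat_lit 4]) (.leaf [nat_lit 3, nat_lit 3, nat_lit 3, nat_lit 3, nat_lit 3, nat_lit 3, nat_lit 3]))))
 (.node (nat_lit 8) (.node (nat_lit 6) (.leaf [nat_lit 0, nat_lit 0]) (.node (nat_lit 7) (.leaf [nat_lit 0, nat_lit 2, nat_lit 0, nat_lit 2]) (.leaf [nat_lit 0, nat_lit 1, nat_lit 0, nat_lit 1]))) (.node (nat_lit 9) (.leaf [nat_lit 1, nat_lit 1]) (.node (nat_lit 10) (.leaf [nat_lit 1, nat_lit 2, nat_lit 1, nat_lit 2]) (.leaf [nat_lit 2, nat_lit 2])))))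
noncomputable def n12L0 : Lev := ⟨(nat_lit 0), (nat_lit 5), (nat_lit 0x404050500000000050400), (nat_lit 0x301020300000000010200),
 (.node (nat_lit 2) (.node (nat_lit 1) (.leaf (nat_lit 0x60002000300040000000000000000000200040000))
 (.leaf (nat_lit 0x50002000300040000000000000000000200030000)))
 (.node (nat_lit 3) (.leaf (nat_lit 0x70003000300040000000000000000000200050000))
 (.node (nat_lit 4) (.leaf (nat_lit 0x100020000000000000000000100000001))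
 (.leaf (nat_lit 0x30001000000000000000000000000000000010001))))),
 (.node (nat_lit 2) (.node (nat_lit 1) (.leaf (nat_lit 0x1000001000103000103000000000000000000000000000103000001000000))
 (.leaf (nat_lit 0x101000101000203000203000000000000000000000000000203000101000000)))
 (.node (nat_lit 3) (.leaf (nat_lit 0x201000201000003000003000000000000000000000000000003000201000000))
 (.node (nat_lit 4) (.leaf (nat_lit 0x300000403000000000000000000000000000300000000000300))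
 (.leaf (nat_lit 0x301000301000000000000000000000000000000000000000000000301000301)))))⟩
noncomputable def n12L1 : Lev := ⟨(nat_lit 3), (nat_lit 3), (nat_lit 0x20203030000000003030100000000), (nat_lit 0x20102030000000001020100000000),
 (.node (nat_lit 1) (.leaf (nat_lit 0x300020005000400000000000000000002000300000001000000000000))
 (.node (nat_lit 2) (.leaf (nat_lit 0x3000300000000000000000002000200010001000000000000))
 (.leaf (nat_lit 0x100010000000000000000000000000000000000010001000000000000)))),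
 (.node (nat_lit 1) (.leaf (nat_lit 0x500000702000500000702000000000000000000000000000602000501000000000501000000000000000000))
 (.node (nat_lit 2) (.leaf (nat_lit 0x800000800000000000000000000000000000902000902000801000801000000000000000000))
 (.leaf (nat_lit 0xa00000a00000000000000000000000000000000000000000000000000000a01000a01000000000000000000))))⟩
noncomputable def n12L : List Lev := [n12L0, n12L1]
noncomputable def n12E : Tr (List ℕ) := (.node (nat_lit 2) (.node (nat_lit 1) (.leaf [nat_lit 2, nat_lit 0, nat_lit 4, nat_lit 2, nat_lit 0]) (.leaf [nat_lit 4, nat_lit 2, nat_lit 1, nat_lit 4])) (.node (nat_lit 3) (.leaf [nat_lit 2, nat_lit 4, nat_lit 2]) (.node (nat_lit 4) (.leaf [nat_lit 3, nat_lit 1, nat_lit 5, nat_lit 2, nat_lit 1, nat_lit 0, nat_lit 4, nat_lit 2, nat_lit 3]) (.leaf [nat_lit 2, nat_lit 1, nat_lit 5, nat_lit 3, nat_lit 1, nat_lit 4, nat_lit 3, nat_lit 2, nat_lit 1]))))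
theorem n12w_0 : n12T.all2 (fun c w => isProd 15 (nat_lit 4) (nat_lit 15) MG.gl42T c w) n12E = true := by decide +kernel
theorem n12w : n12T.all2 (fun c w => isProd 15 (nat_lit 4) (nat_lit 15) MG.gl42T c w) n12E = true := n12w_0
theorem n12lev0 : levChk 15 (nat_lit 4) (nat_lit 15) n12T n12R n12L0 n12L1.N = true := by decide +kernel
theorem n12lev1 : levChk 15 (nat_lit 4) (nat_lit 15) n12T n12R n12L1 0 = true := by decide +kernel
theorem n12chain : Chain 15 (nat_lit 4) (nat_lit 15) n12T n12R n12L := chain_cons n12lev0 <| chain_one n12lev1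
theorem n12sd : band (selChk n12T n12T (topN n12L)) (n12R.all fun w => eqB (MG.gl42L.map Lev.b) (apL (nat_lit 4) (nat_lit 15) n12T w) fun a => a) = true := by decide +kernel
theorem n12tc : tchainChk 15 (nat_lit 4) (nat_lit 15) n12T n12L = true := by decide +kernel
noncomputable def n12s0 : ℕ := (nat_lit 0x45eb107adc36892)
noncomputable def n12s1 : ℕ := (nat_lit 0xc4d508196e3ba27)
noncomputable def n12s2 : ℕ := (nat_lit 0xc65b71283de40a9)
noncomputable def n12s3 : ℕ := (nat_lit 0x5ce327906bd418a)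
noncomputable def n12s4 : ℕ := (nat_lit 0x3456a987bcde210)
noncomputable def n12s5 : ℕ := (nat_lit 0x4365a987cbed210)
noncomputable def n12s6 : ℕ := (nat_lit 0x5634a987debc210)
noncomputable def n12s7 : ℕ := (nat_lit 0xdebca9875634210)
noncomputable def n12s8 : ℕ := (nat_lit 0xbcdea9873456210)
noncomputable def n12s9 : ℕ := (nat_lit 0x36dc107aeb45892)
noncomputable def n12s10 : ℕ := (nat_lit 0x6cb57128d34e0a9)
noncomputable def n12S : Tr ℕ := (.node (nat_lit 5) (.node (nat_lit 2) (.node (nat_lit 1) (.leaf n12s0) (.leaf n12s1)) (.node (nat_lit 3) (.leaf n12s2) (.node (nat_lit 4) (.leaf n12s3) (.leaf n12s4))))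
 (.node (nat_lit 8) (.node (nat_lit 6) (.leaf n12s5) (.node (nat_lit 7) (.leaf n12s6) (.leaf n12s7))) (.node (nat_lit 9) (.leaf n12s8) (.node (nat_lit 10) (.leaf n12s9) (.leaf n12s10)))))
noncomputable def n12D : Tr (List ℕ) := (.node (nat_lit 5) (.node (nat_lit 2) (.node (nat_lit 1) (.leaf []) (.leaf [])) (.node (nat_lit 3) (.leaf [nat_lit 0, nat_lit 0, nat_lit 0, nat_lit 0, nat_lit 0, nat_lit 0]) (.node (nat_lit 4) (.leaf [nat_lit 1, nat_lit 1, nat_lit 1, nat_lit 1, nat_lit 1, nat_lit 1]) (.leaf [nat_lit 1, nat_lit 0, nat_lit 1, nat_lit 1, nat_lit 2, nat_lit 2, nat_lit 3, nat_lit 2, nat_lit 1]))))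
 (.node (nat_lit 8) (.node (nat_lit 6) (.leaf [nat_lit 0, nat_lit 0, nat_lit 0, nat_lit 3]) (.node (nat_lit 7) (.leaf [nat_lit 3, nat_lit 0, nat_lit 3, nat_lit 3, nat_lit 0]) (.leaf [nat_lit 5, nat_lit 4]))) (.node (nat_lit 9) (.leaf [nat_lit 6, nat_lit 5]) (.node (nat_lit 10) (.leaf [nat_lit 0, nat_lit 5]) (.leaf [nat_lit 9, nat_lit 9, nat_lit 9, nat_lit 9, nat_lit 9, nat_lit 9])))))
theorem n12slp : slpChk 15 (nat_lit 4) (nat_lit 15) n12S n12D 2 9 = true := by decide +kernel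
theorem n12a : band (selChk n12T n12S (2 + 9)) (allB 2 fun j => anyL (AW.get 12) fun w => isProd 15 (nat_lit 4) (nat_lit 15) MG.gl42T (n12S.get j) w) = true := by decide +kernel
noncomputable def n12mt0 : ℕ := (nat_lit 0x4365a987cbed210)
noncomputable def n12mt1 : ℕ := (nat_lit 0xcbeda9874365210)
noncomputable def n12mt2 : ℕ := (nat_lit 0xdebca9875634210)
noncomputable def n12mt3 : ℕ := (nat_lit 0xedcb87a94365210)
noncomputable def n12mt4 : ℕ := (nat_lit 0xcbed789a5634210)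
noncomputable def n12mt5 : ℕ := (nat_lit 0x65bc1287ed349a0)
noncomputable def n12mt6 : ℕ := (nat_lit 0x3b5da2804c6e917)
noncomputable def n12mT : Tr ℕ := (.node (nat_lit 3) (.node (nat_lit 1) (.leaf n12mt0) (.node (nat_lit 2) (.leaf n12mt1) (.leaf n12mt2)))
 (.node (nat_lit 5) (.node (nat_lit 4) (.leaf n12mt3) (.leaf n12mt4)) (.node (nat_lit 6) (.leaf n12mt5) (.leaf n12mt6))))
noncomputable def n12mR : Tr (List ℕ) := (.node (nat_lit 13) (.node (nat_lit 6) (.node (nat_lit 3) (.node (nat_lit 1) (.leaf [nat_lit 0, nat_lit 2, nat_lit 5, nat_lit 1, nat_lit 5]) (.node (nat_lit 2) (.leaf [nat_lit 1, nat_lit 2, nat_lit 6, nat_lit 0, nat_lit 6]) (.leaf [nat_lit 0, nat_lit 1, nat_lit 3, nat_lit 0, nat_lit 3]))) (.node (nat_lit 4) (.leaf [nat_lit 0, nat_lit 1, nat_lit 2, nat_lit 4, nat_lit 0, nat_lit 4]) (.node (nat_lit 5) (.leaf [nat_lit 6, nat_lit 1, nat_lit 6, nat_lit 1]) (.leaf [nat_lit 3, nat_lit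 1, nat_lit 3, nat_lit 1]))))
 (.node (nat_lit 9) (.node (nat_lit 7) (.leaf [nat_lit 1, nat_lit 4, nat_lit 1, nat_lit 4]) (.node (nat_lit 8) (.leaf [nat_lit 5, nat_lit 2, nat_lit 5, nat_lit 2]) (.leaf [nat_lit 3, nat_lit 2, nat_lit 3, nat_lit 2])))
 (.node (nat_lit 11) (.node (nat_lit 10) (.leaf [nat_lit 2, nat_lit 4, nat_lit 2, nat_lit 4]) (.leaf [nat_lit 2, nat_lit 3, nat_lit 5, nat_lit 3, nat_lit 5, nat_lit 3, nat_lit 5])) (.node (nat_lit 12) (.leaf [nat_lit 3, nat_lit 3]) (.leaf [nat_lit 3, nat_lit 4, nat_lit 3, nat_lit 4])))))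
 (.node (nat_lit 20) (.node (nat_lit 16) (.node (nat_lit 14) (.leaf [nat_lit 5, nat_lit 4, nat_lit 5, nat_lit 4, nat_lit 5, nat_lit 4]) (.node (nat_lit 15) (.leaf [nat_lit 6, nat_lit 4, nat_lit 6, nat_lit 4, nat_lit 6, nat_lit 4]) (.leaf [nat_lit 4, nat_lit 4])))
 (.node (nat_lit 18) (.node (nat_lit 17) (.leaf [nat_lit 6, nat_lit 5, nat_lit 6, nat_lit 5]) (.leaf [nat_lit 5, nat_lit 5])) (.node (nat_lit 19) (.leaf [nat_lit 6, nat_lit 6]) (.leaf [nat_lit 6, nat_lit 3, nat_lit 4, nat_lit 6, nat_lit 3, nat_lit 4, nat_lit 6, nat_lit 3, nat_lit 4]))))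
 (.node (nat_lit 23) (.node (nat_lit 21) (.leaf [nat_lit 0, nat_lit 2, nat_lit 3, nat_lit 5, nat_lit 3, nat_lit 6, nat_lit 3, nat_lit 5, nat_lit 6, nat_lit 3, nat_lit 6]) (.node (nat_lit 22) (.leaf [nat_lit 0, nat_lit 0]) (.leaf [nat_lit 0, nat_lit 2, nat_lit 0, nat_lit 2])))
 (.node (nat_lit 25) (.node (nat_lit 24) (.leaf [nat_lit 0, nat_lit 1, nat_lit 0, nat_lit 1]) (.leaf [nat_lit 1, nat_lit 1])) (.node (nat_lit 26) (.leaf [nat_lit 1, nat_lit 2, nat_lit 1, nat_lit 2]) (.leaf [nat_lit 2, nat_lit 2]))))))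
noncomputable def n12mL0 : Lev := ⟨(nat_lit 0), (nat_lit 7), (nat_lit 0x504050700000000060600), (nat_lit 0x202030100000000030300),
 (.node (nat_lit 3) (.node (nat_lit 1) (.leaf (nat_lit 0x80003000900020000000000000000000600060000))
 (.node (nat_lit 2) (.leaf (nat_lit 0x30003000400020000000000000000000500070000))
 (.leaf (nat_lit 0x40004000500030000000000000000000500050000))))
 (.node (nat_lit 5) (.node (nat_lit 4) (.leaf (nat_lit 0x20000000300010000000000000000000600060000))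
 (.leaf (nat_lit 0x1000000010000000000000000000400030000)))
 (.node (nat_lit 6) (.leaf (nat_lit 0x10001000500020000000000000000000000000000))
 (.leaf (nat_lit 0x20002000300000000000000000000000300030001))))),
 (.node (nat_lit 3) (.node (nat_lit 1) (.leaf (nat_lit 0x203000200000103000000000000000000000000000000000000000000))
 (.node (nat_lit 2) (.leaf (nat_lit 0x602000501000503000401000000000000000000000000000003000301000000))
 (.leaf (nat_lit 0x902000801000803000001000000000000000000000000000703000703000000))))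
 (.node (nat_lit 5) (.node (nat_lit 4) (.leaf (nat_lit 0xc02000000000b01000b01000000000000000000000000000a01000a01000000))
 (.leaf (nat_lit 0xf00000000000f01000000000000000000000000000e05000d05000000)))
 (.node (nat_lit 6) (.leaf (nat_lit 0x1100001100000d02001001000000000000000000000000000000000000000000))
 (.leaf (nat_lit 0xe02001408001303000000000000000000000000000000001201001000001201)))))⟩
noncomputable def n12mL1 : Lev := ⟨(nat_lit 1), (nat_lit 6), (nat_lit 0x605040500000000060000), (nat_lit 0x103020200000000040000),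
 (.node (nat_lit 3) (.node (nat_lit 1) (.leaf (nat_lit 0x30005000400040000000000000000000600000000))
 (.node (nat_lit 2) (.leaf (nat_lit 0x20004000300030000000000000000000600000000))
 (.leaf (nat_lit 0x20004000300030000000000000000000500000000))))
 (.node (nat_lit 4) (.leaf (nat_lit 0x10002000000030000000000000000000600000000))
 (.node (nat_lit 5) (.leaf (nat_lit 0x10000000100000000000000000000000300000000))
 (.leaf (nat_lit 0x1000200020000000000000000000000010000))))),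
 (.node (nat_lit 3) (.node (nat_lit 1) (.leaf (nat_lit 0x203000200000300000000000000000000000000000000000000000000))
 (.node (nat_lit 2) (.leaf (nat_lit 0x3000501000503000600000000000000000000000000000003000000000000))
 (.leaf (nat_lit 0x701000801000803000900000000000000000000000000000703000000000000))))
 (.node (nat_lit 4) (.leaf (nat_lit 0xb00000c00000000000b01000000000000000000000000000a01000000000000))
 (.node (nat_lit 5) (.leaf (nat_lit 0xf00000000000f01000000000000000000000000000000000d05000000000000))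
 (.leaf (nat_lit 0x1100000a04000d02000000000000000000000000000000001101000000)))))⟩
noncomputable def n12mL2 : Lev := ⟨(nat_lit 7), (nat_lit 5), (nat_lit 0x504050000000000000000), (nat_lit 0x101020000000000000000),
 (.node (nat_lit 2) (.node (nat_lit 1) (.leaf (nat_lit 0x20002000500000000000000000000000000000000))
 (.leaf (nat_lit 0x20002000400000000000000000000000000000000)))
 (.node (nat_lit 3) (.leaf (nat_lit 0x20002000400000000000000000000000000000000))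
 (.node (nat_lit 4) (.leaf (nat_lit 0x20000000300010000000000000000000000000000))
 (.leaf (nat_lit 0x1000000010000000000000000000000000000))))),
 (.node (nat_lit 2) (.node (nat_lit 1) (.leaf (nat_lit 0x304000203000200000000000000000000000000000000000000000000000000))
 (.leaf (nat_lit 0x602000501000503000000000000000000000000000000000000000000000000)))
 (.node (nat_lit 3) (.leaf (nat_lit 0x902000801000803000000000000000000000000000000000000000000000000))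
 (.node (nat_lit 4) (.leaf (nat_lit 0xc02000000000b01000b01000000000000000000000000000000000000000000))
 (.leaf (nat_lit 0xf00000000000f01000000000000000000000000000000000000000000)))))⟩
noncomputable def n12mL3 : Lev := ⟨(nat_lit 3), (nat_lit 3), (nat_lit 0x30103020000000003020300000000), (nat_lit 0x20103020000000002010100000000),
 (.node (nat_lit 1) (.leaf (nat_lit 0x300000005000300000000000000000004000200020001000000000000))
 (.node (nat_lit 2) (.leaf (nat_lit 0x300010002000000000000000000000003000000020001000000000000))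
 (.leaf (nat_lit 0x10000000100000000000000000000000100000001000000000000)))),
 (.node (nat_lit 1) (.leaf (nat_lit 0x1500000000001500001500000000000000000000000000001702001702001602001501000000000000000000))
 (.node (nat_lit 2) (.leaf (nat_lit 0x1800001800001902000000000000000000000000000000001800000000001902001801000000000000000000))
 (.leaf (nat_lit 0x1a01000000001a01000000000000000000000000000000001a01000000001a01000000000000000000))))⟩
noncomputable def n12mL : List Lev := [n12mL0, n12mL1, n12mL2, n12mL3]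
noncomputable def n12mE : Tr (List ℕ) := (.node (nat_lit 3) (.node (nat_lit 1) (.leaf [nat_lit 4, nat_lit 2, nat_lit 1, nat_lit 4]) (.node (nat_lit 2) (.leaf [nat_lit 4, nat_lit 0, nat_lit 4]) (.leaf [nat_lit 2, nat_lit 0, nat_lit 4, nat_lit 2, nat_lit 0])))
 (.node (nat_lit 5) (.node (nat_lit 4) (.leaf [nat_lit 4, nat_lit 0, nat_lit 4, nat_lit 3, nat_lit 0, nat_lit 3, nat_lit 0]) (.leaf [nat_lit 2, nat_lit 0, nat_lit 4, nat_lit 3, nat_lit 2, nat_lit 0])) (.node (nat_lit 6) (.leaf [nat_lit 2, nat_lit 1, nat_lit 5, nat_lit 1, nat_lit 0, nat_lit 4, nat_lit 1, nat_lit 0, nat_lit 3, nat_lit 2, nat_lit 1]) (.leaf [nat_lit 1, nat_lit 0, nat_lit 4, nat_lit 3, nat_lit 1, nat_lit 0]))))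
theorem n12mw_0 : n12mT.all2 (fun c w => isProd 15 (nat_lit 4) (nat_lit 15) MG.gl42T c w) n12mE = true := by decide +kernel
theorem n12mw : n12mT.all2 (fun c w => isProd 15 (nat_lit 4) (nat_lit 15) MG.gl42T c w) n12mE = true := n12mw_0
theorem n12mlev0 : levChk 15 (nat_lit 4) (nat_lit 15) n12mT n12mR n12mL0 n12mL1.N = true := by decide +kernel
theorem n12mlev1 : levChk 15 (nat_lit 4) (nat_lit 15) n12mT n12mR n12mL1 n12mL2.N = true := by decide +kernel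
theorem n12mlev2 : levChk 15 (nat_lit 4) (nat_lit 15) n12mT n12mR n12mL2 n12mL3.N = true := by decide +kernel
theorem n12mlev3 : levChk 15 (nat_lit 4) (nat_lit 15) n12mT n12mR n12mL3 0 = true := by decide +kernel
theorem n12mchain : Chain 15 (nat_lit 4) (nat_lit 15) n12mT n12mR n12mL := chain_cons n12mlev0 <| chain_cons n12mlev1 <| chain_cons n12mlev2 <| chain_one n12mlev3
theorem n12msd : band (selChk n12mT n12mT (topN n12mL)) (n12mR.all fun w => eqB (MG.gl42L.map Lev.b) (apL (nat_lit 4) (nat_lit 15) n12mT w) fun a => a) = true := by decide +kernel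
theorem n12mtc : tchainChk 15 (nat_lit 4) (nat_lit 15) n12mT n12mL = true := by decide +kernel
noncomputable def n12xE : Tr (List ℕ) := (.node (nat_lit 2) (.node (nat_lit 1) (.leaf [nat_lit 2]) (.leaf [nat_lit 0])) (.node (nat_lit 3) (.leaf [nat_lit 2, nat_lit 1]) (.node (nat_lit 4) (.leaf [nat_lit 5, nat_lit 3, nat_lit 6, nat_lit 4, nat_lit 3, nat_lit 5, nat_lit 4, nat_lit 2, nat_lit 1]) (.leaf [nat_lit 3, nat_lit 6, nat_lit 3, nat_lit 5, nat_lit 4, nat_lit 3, nat_lit 1, nat_lit 0]))))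
theorem n12xw_0 : n12T.all2 (fun c w => isProd 15 (nat_lit 4) (nat_lit 15) n12mT c w) n12xE = true := by decide +kernel
theorem n12xw : n12T.all2 (fun c w => isProd 15 (nat_lit 4) (nat_lit 15) n12mT c w) n12xE = true := n12xw_0
noncomputable def n12pt0 : ℕ := (nat_lit 0xcbeda9874365210)
noncomputable def n12pt1 : ℕ := (nat_lit 0xdebca9875634210)
noncomputable def n12pt2 : ℕ := (nat_lit 0x6543a987edcb210)
noncomputable def n12pT : Tr ℕ := (.node (nat_lit 1) (.leaf n12pt0) (.node (nat_lit 2) (.leaf n12pt1) (.leaf n12pt2)))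
noncomputable def n12pR : Tr (List ℕ) := (.node (nat_lit 3) (.node (nat_lit 1) (.leaf [nat_lit 0, nat_lit 0]) (.node (nat_lit 2) (.leaf [nat_lit 0, nat_lit 1, nat_lit 0, nat_lit 1]) (.leaf [nat_lit 0, nat_lit 2, nat_lit 0, nat_lit 2]))) (.node (nat_lit 4) (.leaf [nat_lit 1, nat_lit 1]) (.node (nat_lit 5) (.leaf [nat_lit 1, nat_lit 2, nat_lit 1, nat_lit 2]) (.leaf [nat_lit 2, nat_lit 2]))))
noncomputable def n12pL0 : Lev := ⟨(nat_lit 3), (nat_lit 3), (nat_lit 0x30303030000000002010200000000), (nat_lit 0x30202010000000002010100000000),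
 (.node (nat_lit 1) (.leaf (nat_lit 0x500030004000200000000000000000003000000020001000000000000))
 (.node (nat_lit 2) (.leaf (nat_lit 0x300020003000200000000000000000000000100000001000000000000))
 (.leaf (nat_lit 0x1000100010001000000000000)))),
 (.node (nat_lit 1) (.leaf (nat_lit 0x102000202000000000000000000000000000000000000000102000001000000000000000000))
 (.node (nat_lit 2) (.leaf (nat_lit 0x300000402000300000402000000000000000000000000000000000301000000000301000000000000000000))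
 (.leaf (nat_lit 0x501000501000501000501000000000000000000))))⟩
noncomputable def n12pL : List Lev := [n12pL0]
noncomputable def n12pE : Tr (List ℕ) := (.node (nat_lit 1) (.leaf [nat_lit 4, nat_lit 0, nat_lit 4]) (.node (nat_lit 2) (.leaf [nat_lit 2, nat_lit 0, nat_lit 4, nat_lit 2, nat_lit 0]) (.leaf [nat_lit 3, nat_lit 2, nat_lit 1, nat_lit 4, nat_lit 2, nat_lit 1, nat_lit 3, nat_lit 2, nat_lit 1, nat_lit 0])))
theorem n12pw_0 : n12pT.all2 (fun c w => isProd 15 (nat_lit 4) (nat_lit 15) MG.gl42T c w) n12pE = true := by decide +kernel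
theorem n12pw : n12pT.all2 (fun c w => isProd 15 (nat_lit 4) (nat_lit 15) MG.gl42T c w) n12pE = true := n12pw_0
theorem n12plev0 : levChk 15 (nat_lit 4) (nat_lit 15) n12pT n12pR n12pL0 0 = true := by decide +kernel
theorem n12pchain : Chain 15 (nat_lit 4) (nat_lit 15) n12pT n12pR n12pL := chain_one n12plev0
theorem n12psd : band (selChk n12pT n12pT (topN n12pL)) (n12pR.all fun w => eqB (MG.gl42L.map Lev.b) (apL (nat_lit 4) (nat_lit 15) n12pT w) fun a => a) = true := by decide +kernel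
theorem n12ptc : tchainChk 15 (nat_lit 4) (nat_lit 15) n12pT n12pL = true := by decide +kernel
noncomputable def n12yE : Tr (List ℕ) := (.node (nat_lit 1) (.leaf [nat_lit 2, nat_lit 0]) (.node (nat_lit 2) (.leaf [nat_lit 0]) (.leaf [nat_lit 2, nat_lit 1, nat_lit 0])))
theorem n12yw_0 : n12pT.all2 (fun c w => isProd 15 (nat_lit 4) (nat_lit 15) n12T c w) n12yE = true := by decide +kernel
theorem n12yw : n12pT.all2 (fun c w => isProd 15 (nat_lit 4) (nat_lit 15) n12T c w) n12yE = true := n12yw_0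
noncomputable def n12rW : Tr (List ℕ) := (.node (nat_lit 10) (.node (nat_lit 5) (.node (nat_lit 2) (.node (nat_lit 1) (.leaf [nat_lit 0]) (.leaf [nat_lit 1])) (.node (nat_lit 3) (.leaf [nat_lit 2]) (.node (nat_lit 4) (.leaf [nat_lit 0]) (.leaf [nat_lit 1]))))
 (.node (nat_lit 7) (.node (nat_lit 6) (.leaf [nat_lit 2]) (.leaf [nat_lit 0])) (.node (nat_lit 8) (.leaf [nat_lit 1]) (.node (nat_lit 9) (.leaf [nat_lit 2]) (.leaf [nat_lit 0])))))
 (.node (nat_lit 15) (.node (nat_lit 12) (.node (nat_lit 11) (.leaf [nat_lit 1]) (.leaf [nat_lit 2, nat_lit 0])) (.node (nat_lit 13) (.leaf [nat_lit 0]) (.node (nat_lit 14) (.leaf [nat_lit 1]) (.leaf [nat_lit 2, nat_lit 1, nat_lit 0]))))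
 (.node (nat_lit 18) (.node (nat_lit 16) (.leaf [nat_lit 2, nat_lit 1, nat_lit 0]) (.node (nat_lit 17) (.leaf [nat_lit 1]) (.leaf [nat_lit 2]))) (.node (nat_lit 19) (.leaf [nat_lit 0]) (.node (nat_lit 20) (.leaf [nat_lit 2]) (.leaf [nat_lit 1]))))))
theorem n12r : nrmChk (nat_lit 4) (nat_lit 15) (MG.gl42L.map Lev.b) n12mT n12pT (topN n12mL) (topN n12pL) n12rW = true := by decide +kernel
noncomputable def n12Dd : Tr ℕ := (.node (nat_lit 6) (.node (nat_lit 3) (.node (nat_lit 1) (.leaf (nat_lit 0xedcba9876543210)) (.node (nat_lit 2) (.leaf (nat_lit 0xcdeb89a74563012)) (.leaf (nat_lit 0x2d0b6947a583e1c)))) (.node (nat_lit 4) (.leaf (nat_lit 0xecdb6453a897201)) (.node (nat_lit 5) (.leaf (nat_lit 0x987adcbe4563012)) (.leaf (nat_lit 0xdceb546398a7102)))))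
 (.node (nat_lit 9) (.node (nat_lit 7) (.leaf (nat_lit 0x4d6b0927c5e381a)) (.node (nat_lit 8) (.leaf (nat_lit 0x5c6bd4e3182790a)) (.leaf (nat_lit 0x6d4b2907e5c3a18)))) (.node (nat_lit 10) (.leaf (nat_lit 0x6c5be4d32817a09)) (.node (nat_lit 11) (.leaf (nat_lit 0xb4d67092e5c3a18)) (.leaf (nat_lit 0x6c4e280ab5d3719))))))
noncomputable def n12dE : Tr (List ℕ) := (.node (nat_lit 6) (.node (nat_lit 3) (.node (nat_lit 1) (.leaf []) (.node (nat_lit 2) (.leaf [nat_lit 0]) (.leaf [nat_lit 1]))) (.node (nat_lit 4) (.leaf [nat_lit 5]) (.node (nat_lit 5) (.leaf [nat_lit 3, nat_lit 0]) (.leaf [nat_lit 5, nat_lit 0]))))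
 (.node (nat_lit 9) (.node (nat_lit 7) (.leaf [nat_lit 2, nat_lit 1]) (.node (nat_lit 8) (.leaf [nat_lit 5, nat_lit 2]) (.leaf [nat_lit 2, nat_lit 1, nat_lit 0]))) (.node (nat_lit 10) (.leaf [nat_lit 5, nat_lit 2, nat_lit 0]) (.node (nat_lit 11) (.leaf [nat_lit 1, nat_lit 3, nat_lit 2, nat_lit 0]) (.leaf [nat_lit 2, nat_lit 0, nat_lit 3, nat_lit 1])))))
theorem n12dw_0 : n12Dd.all2 (fun c w => isProd 15 (nat_lit 4) (nat_lit 15) MG.gl42T c w) n12dE = true := by decide +kernel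
theorem n12dw : n12Dd.all2 (fun c w => isProd 15 (nat_lit 4) (nat_lit 15) MG.gl42T c w) n12dE = true := n12dw_0
noncomputable def n12PA_0 : Tr (ℕ × List ℕ) := (.node (nat_lit 90) (.node (nat_lit 45) (.node (nat_lit 22) (.node (nat_lit 11) (.node (nat_lit 5) (.node (nat_lit 2) (.node (nat_lit 1) (.leaf ((nat_lit 0), [])) (.leaf ((nat_lit 1), []))) (.node (nat_lit 3) (.leaf ((nat_lit 2), [])) (.node (nat_lit 4) (.leaf ((nat_lit 2), [nat_lit 1])) (.leaf ((nat_lit 2), [nat_lit 3, nat_lit 3, nat_lit 0])))))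
 (.node (nat_lit 8) (.node (nat_lit 6) (.leaf ((nat_lit 2), [nat_lit 2, nat_lit 1])) (.node (nat_lit 7) (.leaf ((nat_lit 3), [])) (.leaf ((nat_lit 2), [nat_lit 2, nat_lit 0])))) (.node (nat_lit 9) (.leaf ((nat_lit 2), [nat_lit 2, nat_lit 1, nat_lit 0])) (.node (nat_lit 10) (.leaf ((nat_lit 4), [])) (.leaf ((nat_lit 2), [nat_lit 1, nat_lit 0]))))))
 (.node (nat_lit 16) (.node (nat_lit 13) (.node (nat_lit 12) (.leaf ((nat_lit 5), [])) (.leaf ((nat_lit 6), []))) (.node (nat_lit 14) (.leaf ((nat_lit 5), [nat_lit 4, nat_lit 4, nat_lit 2, nat_lit 0])) (.node (nat_lit 15) (.leaf ((nat_lit 3), [nat_lit 4, nat_lit 2])) (.leaf ((nat_lit 4), [nat_lit 4, nat_lit 4, nat_lit 1, nat_lit 0])))))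
 (.node (nat_lit 19) (.node (nat_lit 17) (.leaf ((nat_lit 7), [])) (.node (nat_lit 18) (.leaf ((nat_lit 4), [nat_lit 2, nat_lit 0])) (.leaf ((nat_lit 7), [nat_lit 3, nat_lit 2])))) (.node (nat_lit 20) (.leaf ((nat_lit 4), [nat_lit 4, nat_lit 4, nat_lit 4, nat_lit 1])) (.node (nat_lit 21) (.leaf ((nat_lit 3), [nat_lit 4, nat_lit 4, nat_lit 2, nat_lit 4])) (.leaf ((nat_lit 3), [nat_lit 1, nat_lit 0])))))))
 (.node (nat_lit 33) (.node (nat_lit 27) (.node (nat_lit 24) (.node (nat_lit 23) (.leaf ((nat_lit 4), [nat_lit 3, nat_lit 1, nat_lit 3, nat_lit 1])) (.leaf ((nat_lit 7), [nat_lit 3, nat_lit 1, nat_lit 0]))) (.node (nat_lit 25) (.leaf ((nat_lit 3), [nat_lit 4, nat_lit 4, nat_lit 4, nat_lit 1])) (.node (nat_lit 26) (.leaf ((nat_lit 5), [nat_lit 2, nat_lit 0])) (.leaf ((nat_lit 4), [nat_lit 1, nat_lit 0])))))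
 (.node (nat_lit 30) (.node (nat_lit 28) (.leaf ((nat_lit 8), [])) (.node (nat_lit 29) (.leaf ((nat_lit 3), [nat_lit 4, nat_lit 4, nat_lit 2, nat_lit 0])) (.leaf ((nat_lit 2), [nat_lit 1, nat_lit 3, nat_lit 1])))) (.node (nat_lit 31) (.leaf ((nat_lit 7), [nat_lit 4, nat_lit 0])) (.node (nat_lit 32) (.leaf ((nat_lit 9), [])) (.leaf ((nat_lit 2), [nat_lit 3, nat_lit 3, nat_lit 2, nat_lit 1]))))))
 (.node (nat_lit 39) (.node (nat_lit 36) (.node (nat_lit 34) (.leaf ((nat_lit 7), [nat_lit 1, nat_lit 3, nat_lit 1])) (.node (nat_lit 35) (.leaf ((nat_lit 4), [nat_lit 4, nat_lit 4, nat_lit 2, nat_lit 4])) (.leaf ((nat_lit 2), [nat_lit 4, nat_lit 2])))) (.node (nat_lit 37) (.leaf ((nat_lit 5), [nat_lit 1, nat_lit 0])) (.node (nat_lit 38) (.leaf ((nat_lit 2), [nat_lit 4, nat_lit 4, nat_lit 4, nat_lit 2, nat_lit 0])) (.leaf ((nat_lit 9), [nat_lit 3, nat_lit 1, nat_lit 0])))))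
 (.node (nat_lit 42) (.node (nat_lit 40) (.leaf ((nat_lit 4), [nat_lit 4, nat_lit 4, nat_lit 4, nat_lit 0])) (.node (nat_lit 41) (.leaf ((nat_lit 7), [nat_lit 3])) (.leaf ((nat_lit 2), [nat_lit 3, nat_lit 3, nat_lit 1])))) (.node (nat_lit 43) (.leaf ((nat_lit 9), [nat_lit 1, nat_lit 3])) (.node (nat_lit 44) (.leaf ((nat_lit 2), [nat_lit 2])) (.leaf ((nat_lit 7), [nat_lit 3, nat_lit 1]))))))))
 (.node (nat_lit 67) (.node (nat_lit 56) (.node (nat_lit 50) (.node (nat_lit 47) (.node (nat_lit 46) (.leaf ((nat_lit 5), [nat_lit 4, nat_lit 4, nat_lit 2])) (.leaf ((nat_lit 1), [nat_lit 4]))) (.node (nat_lit 48) (.leaf ((nat_lit 6), [nat_lit 3, nat_lit 3, nat_lit 3])) (.node (nat_lit 49) (.leaf ((nat_lit 3), [nat_lit 4, nat_lit 0])) (.leaf ((nat_lit 4), [nat_lit 1, nat_lit 3])))))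
 (.node (nat_lit 53) (.node (nat_lit 51) (.leaf ((nat_lit 9), [nat_lit 3, nat_lit 3, nat_lit 2, nat_lit 1])) (.node (nat_lit 52) (.leaf ((nat_lit 5), [nat_lit 1, nat_lit 3, nat_lit 1])) (.leaf ((nat_lit 2), [nat_lit 3])))) (.node (nat_lit 54) (.leaf ((nat_lit 4), [nat_lit 4, nat_lit 4, nat_lit 1])) (.node (nat_lit 55) (.leaf ((nat_lit 6), [nat_lit 4, nat_lit 4, nat_lit 4])) (.leaf ((nat_lit 1), [nat_lit 3, nat_lit 3]))))))
 (.node (nat_lit 61) (.node (nat_lit 58) (.node (nat_lit 57) (.leaf ((nat_lit 7), [nat_lit 1, nat_lit 0])) (.leaf ((nat_lit 5), [nat_lit 3, nat_lit 1, nat_lit 0]))) (.node (nat_lit 59) (.leaf ((nat_lit 7), [nat_lit 3, nat_lit 1, nat_lit 3, nat_lit 1])) (.node (nat_lit 60) (.leaf ((nat_lit 3), [nat_lit 3, nat_lit 2, nat_lit 1])) (.leaf ((nat_lit 9), [nat_lit 3, nat_lit 1, nat_lit 3, nat_lit 3])))))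
 (.node (nat_lit 64) (.node (nat_lit 62) (.leaf ((nat_lit 5), [nat_lit 4, nat_lit 0])) (.node (nat_lit 63) (.leaf ((nat_lit 3), [nat_lit 2, nat_lit 1])) (.leaf ((nat_lit 5), [nat_lit 4, nat_lit 4, nat_lit 4, nat_lit 2, nat_lit 0])))) (.node (nat_lit 65) (.leaf ((nat_lit 6), [nat_lit 4])) (.node (nat_lit 66) (.leaf ((nat_lit 5), [nat_lit 1])) (.leaf ((nat_lit 9), [nat_lit 4, nat_lit 4, nat_lit 0])))))))
 (.node (nat_lit 78) (.node (nat_lit 72) (.node (nat_lit 69) (.node (nat_lit 68) (.leaf ((nat_lit 3), [nat_lit 2, nat_lit 4, nat_lit 4, nat_lit 4])) (.leaf ((nat_lit 9), [nat_lit 3, nat_lit 2]))) (.node (nat_lit 70) (.leaf ((nat_lit 2), [nat_lit 4])) (.node (nat_lit 71) (.leaf ((nat_lit 3), [nat_lit 4, nat_lit 4, nat_lit 4, nat_lit 2, nat_lit 0])) (.leaf ((nat_lit 7), [nat_lit 2, nat_lit 0])))))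
 (.node (nat_lit 75) (.node (nat_lit 73) (.leaf ((nat_lit 2), [nat_lit 2, nat_lit 4])) (.node (nat_lit 74) (.leaf ((nat_lit 4), [nat_lit 3, nat_lit 3, nat_lit 0])) (.leaf ((nat_lit 9), [nat_lit 4, nat_lit 4])))) (.node (nat_lit 76) (.leaf ((nat_lit 8), [nat_lit 4, nat_lit 4])) (.node (nat_lit 77) (.leaf ((nat_lit 2), [nat_lit 4, nat_lit 0])) (.leaf ((nat_lit 2), [nat_lit 4, nat_lit 4, nat_lit 2]))))))
 (.node (nat_lit 84) (.node (nat_lit 81) (.node (nat_lit 79) (.leaf ((nat_lit 2), [nat_lit 4, nat_lit 2, nat_lit 4, nat_lit 4])) (.node (nat_lit 80) (.leaf ((nat_lit 7), [nat_lit 4, nat_lit 4, nat_lit 4, nat_lit 2])) (.leaf ((nat_lit 9), [nat_lit 3, nat_lit 3, nat_lit 3, nat_lit 1])))) (.node (nat_lit 82) (.leaf ((nat_lit 9), [nat_lit 3])) (.node (nat_lit 83) (.leaf ((nat_lit 4), [nat_lit 2, nat_lit 1])) (.leaf ((nat_lit 8), [nat_lit 4, nat_lit 4, nat_lit 4])))))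
 (.node (nat_lit 87) (.node (nat_lit 85) (.leaf ((nat_lit 5), [nat_lit 4, nat_lit 4, nat_lit 2, nat_lit 4])) (.node (nat_lit 86) (.leaf ((nat_lit 9), [nat_lit 4, nat_lit 2, nat_lit 0])) (.leaf ((nat_lit 2), [nat_lit 2, nat_lit 4, nat_lit 4, nat_lit 4])))) (.node (nat_lit 88) (.leaf ((nat_lit 4), [nat_lit 2, nat_lit 1, nat_lit 0])) (.node (nat_lit 89) (.leaf ((nat_lit 1), [nat_lit 4, nat_lit 4, nat_lit 4])) (.leaf ((nat_lit 2), [nat_lit 3, nat_lit 1, nat_lit 3, nat_lit 1])))))))))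
 (.node (nat_lit 135) (.node (nat_lit 112) (.node (nat_lit 101) (.node (nat_lit 95) (.node (nat_lit 92) (.node (nat_lit 91) (.leaf ((nat_lit 3), [nat_lit 4, nat_lit 2, nat_lit 4, nat_lit 4])) (.leaf ((nat_lit 5), [nat_lit 0]))) (.node (nat_lit 93) (.leaf ((nat_lit 1), [nat_lit 3])) (.node (nat_lit 94) (.leaf ((nat_lit 2), [nat_lit 0])) (.leaf ((nat_lit 3), [nat_lit 4, nat_lit 4, nat_lit 2])))))
 (.node (nat_lit 98) (.node (nat_lit 96) (.leaf ((nat_lit 8), [nat_lit 3, nat_lit 3, nat_lit 3])) (.node (nat_lit 97) (.leaf ((nat_lit 7), [nat_lit 3, nat_lit 1, nat_lit 3])) (.leaf ((nat_lit 4), [nat_lit 3, nat_lit 0])))) (.node (nat_lit 99) (.leaf ((nat_lit 2), [nat_lit 3, nat_lit 1, nat_lit 3, nat_lit 3])) (.node (nat_lit 100) (.leaf ((nat_lit 4), [nat_lit 4, nat_lit 1])) (.leaf ((nat_lit 7), [nat_lit 4, nat_lit 1, nat_lit 0]))))))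
 (.node (nat_lit 106) (.node (nat_lit 103) (.node (nat_lit 102) (.leaf ((nat_lit 10), [])) (.leaf ((nat_lit 9), [nat_lit 1, nat_lit 0]))) (.node (nat_lit 104) (.leaf ((nat_lit 3), [nat_lit 3, nat_lit 1, nat_lit 0])) (.node (nat_lit 105) (.leaf ((nat_lit 5), [nat_lit 3, nat_lit 2, nat_lit 1])) (.leaf ((nat_lit 9), [nat_lit 3, nat_lit 1, nat_lit 3, nat_lit 1])))))
 (.node (nat_lit 109) (.node (nat_lit 107) (.leaf ((nat_lit 5), [nat_lit 3, nat_lit 1, nat_lit 3])) (.node (nat_lit 108) (.leaf ((nat_lit 3), [nat_lit 4, nat_lit 2, nat_lit 0])) (.leaf ((nat_lit 5), [nat_lit 4, nat_lit 4, nat_lit 4, nat_lit 0])))) (.node (nat_lit 110) (.leaf ((nat_lit 8), [nat_lit 3, nat_lit 3])) (.node (nat_lit 111) (.leaf ((nat_lit 3), [nat_lit 1])) (.leaf ((nat_lit 7), [nat_lit 4, nat_lit 4, nat_lit 0])))))))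
 (.node (nat_lit 123) (.node (nat_lit 117) (.node (nat_lit 114) (.node (nat_lit 113) (.leaf ((nat_lit 2), [nat_lit 4, nat_lit 1, nat_lit 0])) (.leaf ((nat_lit 9), [nat_lit 3, nat_lit 2, nat_lit 1]))) (.node (nat_lit 115) (.leaf ((nat_lit 3), [nat_lit 4, nat_lit 4, nat_lit 4, nat_lit 0])) (.node (nat_lit 116) (.leaf ((nat_lit 2), [nat_lit 4, nat_lit 1])) (.leaf ((nat_lit 9), [nat_lit 2, nat_lit 0])))))
 (.node (nat_lit 120) (.node (nat_lit 118) (.leaf ((nat_lit 4), [nat_lit 4, nat_lit 4, nat_lit 4, nat_lit 2, nat_lit 0])) (.node (nat_lit 119) (.leaf ((nat_lit 2), [nat_lit 4, nat_lit 4, nat_lit 4, nat_lit 2])) (.leaf ((nat_lit 9), [nat_lit 1, nat_lit 3, nat_lit 1])))) (.node (nat_lit 121) (.leaf ((nat_lit 4), [nat_lit 0])) (.node (nat_lit 122) (.leaf ((nat_lit 7), [nat_lit 4, nat_lit 4, nat_lit 1, nat_lit 0])) (.leaf ((nat_lit 5), [nat_lit 2, nat_lit 4, nat_lit 4, nat_lit 4]))))))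
 (.node (nat_lit 129) (.node (nat_lit 126) (.node (nat_lit 124) (.leaf ((nat_lit 4), [nat_lit 3, nat_lit 3, nat_lit 3, nat_lit 0])) (.node (nat_lit 125) (.leaf ((nat_lit 5), [nat_lit 3, nat_lit 3])) (.leaf ((nat_lit 2), [nat_lit 4, nat_lit 4, nat_lit 0])))) (.node (nat_lit 127) (.leaf ((nat_lit 7), [nat_lit 3, nat_lit 3, nat_lit 3, nat_lit 0])) (.node (nat_lit 128) (.leaf ((nat_lit 5), [nat_lit 4, nat_lit 4, nat_lit 4, nat_lit 1])) (.leaf ((nat_lit 3), [nat_lit 2, nat_lit 0])))))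
 (.node (nat_lit 132) (.node (nat_lit 130) (.leaf ((nat_lit 2), [nat_lit 3, nat_lit 1, nat_lit 3])) (.node (nat_lit 131) (.leaf ((nat_lit 7), [nat_lit 4, nat_lit 2, nat_lit 0])) (.leaf ((nat_lit 2), [nat_lit 1, nat_lit 3, nat_lit 3])))) (.node (nat_lit 133) (.leaf ((nat_lit 4), [nat_lit 3, nat_lit 3])) (.node (nat_lit 134) (.leaf ((nat_lit 2), [nat_lit 3, nat_lit 3])) (.leaf ((nat_lit 6), [nat_lit 3]))))))))
 (.node (nat_lit 157) (.node (nat_lit 146) (.node (nat_lit 140) (.node (nat_lit 137) (.node (nat_lit 136) (.leaf ((nat_lit 4), [nat_lit 4, nat_lit 4, nat_lit 4, nat_lit 2])) (.leaf ((nat_lit 7), [nat_lit 3, nat_lit 0]))) (.node (nat_lit 138) (.leaf ((nat_lit 8), [nat_lit 4])) (.node (nat_lit 139) (.leaf ((nat_lit 5), [nat_lit 2, nat_lit 1, nat_lit 0])) (.leaf ((nat_lit 7), [nat_lit 3, nat_lit 2, nat_lit 1])))))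
 (.node (nat_lit 143) (.node (nat_lit 141) (.leaf ((nat_lit 4), [nat_lit 2, nat_lit 4, nat_lit 4, nat_lit 4])) (.node (nat_lit 142) (.leaf ((nat_lit 7), [nat_lit 4, nat_lit 4, nat_lit 2, nat_lit 0])) (.leaf ((nat_lit 7), [nat_lit 1, nat_lit 3])))) (.node (nat_lit 144) (.leaf ((nat_lit 3), [nat_lit 0])) (.node (nat_lit 145) (.leaf ((nat_lit 4), [nat_lit 1])) (.leaf ((nat_lit 9), [nat_lit 3, nat_lit 0]))))))
 (.node (nat_lit 151) (.node (nat_lit 148) (.node (nat_lit 147) (.leaf ((nat_lit 11), [])) (.leaf ((nat_lit 9), [nat_lit 4]))) (.node (nat_lit 149) (.leaf ((nat_lit 2), [nat_lit 3, nat_lit 1])) (.node (nat_lit 150) (.leaf ((nat_lit 5), [nat_lit 4, nat_lit 4, nat_lit 0])) (.leaf ((nat_lit 5), [nat_lit 4, nat_lit 2, nat_lit 4])))))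
 (.node (nat_lit 154) (.node (nat_lit 152) (.leaf ((nat_lit 5), [nat_lit 4, nat_lit 4, nat_lit 1])) (.node (nat_lit 153) (.leaf ((nat_lit 3), [nat_lit 3, nat_lit 1])) (.leaf ((nat_lit 7), [nat_lit 3, nat_lit 3, nat_lit 3, nat_lit 1])))) (.node (nat_lit 155) (.leaf ((nat_lit 4), [nat_lit 2, nat_lit 4, nat_lit 0])) (.node (nat_lit 156) (.leaf ((nat_lit 2), [nat_lit 3, nat_lit 1, nat_lit 0])) (.leaf ((nat_lit 3), [nat_lit 3, nat_lit 3, nat_lit 1, nat_lit 3])))))))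
 (.node (nat_lit 168) (.node (nat_lit 162) (.node (nat_lit 159) (.node (nat_lit 158) (.leaf ((nat_lit 5), [nat_lit 4, nat_lit 2])) (.leaf ((nat_lit 4), [nat_lit 3]))) (.node (nat_lit 160) (.leaf ((nat_lit 2), [nat_lit 3, nat_lit 2])) (.node (nat_lit 161) (.leaf ((nat_lit 2), [nat_lit 4, nat_lit 4, nat_lit 2, nat_lit 0])) (.leaf ((nat_lit 2), [nat_lit 3, nat_lit 0])))))
 (.node (nat_lit 165) (.node (nat_lit 163) (.leaf ((nat_lit 5), [nat_lit 3, nat_lit 3, nat_lit 3, nat_lit 2])) (.node (nat_lit 164) (.leaf ((nat_lit 7), [nat_lit 3, nat_lit 3, nat_lit 2])) (.leaf ((nat_lit 1), [nat_lit 3, nat_lit 3, nat_lit 3])))) (.node (nat_lit 166) (.leaf ((nat_lit 1), [nat_lit 4, nat_lit 4])) (.node (nat_lit 167) (.leaf ((nat_lit 9), [nat_lit 4, nat_lit 1, nat_lit 0])) (.leaf ((nat_lit 9), [nat_lit 1]))))))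
 (.node (nat_lit 174) (.node (nat_lit 171) (.node (nat_lit 169) (.leaf ((nat_lit 4), [nat_lit 2, nat_lit 4, nat_lit 4])) (.node (nat_lit 170) (.leaf ((nat_lit 4), [nat_lit 4, nat_lit 4])) (.leaf ((nat_lit 2), [nat_lit 3, nat_lit 3, nat_lit 2])))) (.node (nat_lit 172) (.leaf ((nat_lit 4), [nat_lit 4, nat_lit 4, nat_lit 2])) (.node (nat_lit 173) (.leaf ((nat_lit 2), [nat_lit 1, nat_lit 3, nat_lit 3, nat_lit 3, nat_lit 0])) (.leaf ((nat_lit 7), [nat_lit 3, nat_lit 3, nat_lit 3])))))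
 (.node (nat_lit 177) (.node (nat_lit 175) (.leaf ((nat_lit 2), [nat_lit 1, nat_lit 3])) (.node (nat_lit 176) (.leaf ((nat_lit 5), [nat_lit 4, nat_lit 1, nat_lit 0])) (.leaf ((nat_lit 3), [nat_lit 3, nat_lit 3, nat_lit 3, nat_lit 0])))) (.node (nat_lit 178) (.leaf ((nat_lit 4), [nat_lit 2, nat_lit 4])) (.node (nat_lit 179) (.leaf ((nat_lit 5), [nat_lit 3, nat_lit 1])) (.leaf ((nat_lit 5), [nat_lit 2, nat_lit 4]))))))))))
noncomputable def n12PA_1 : Tr (ℕ × List ℕ) := (.node (nat_lit 270) (.node (nat_lit 225) (.node (nat_lit 202) (.node (nat_lit 191) (.node (nat_lit 185) (.node (nat_lit 182) (.node (nat_lit 181) (.leaf ((nat_lit 7), [nat_lit 4, nat_lit 4, nat_lit 4])) (.leaf ((nat_lit 5), [nat_lit 2, nat_lit 4, nat_lit 0]))) (.node (nat_lit 183) (.leaf ((nat_lit 5), [nat_lit 3, nat_lit 3, nat_lit 3, nat_lit 0])) (.node (nat_lit 184) (.leaf ((nat_lit 5), [nat_lit 3, nat_lit 1, nat_lit 3,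 nat_lit 3])) (.leaf ((nat_lit 3), [nat_lit 3, nat_lit 3, nat_lit 0])))))
 (.node (nat_lit 188) (.node (nat_lit 186) (.leaf ((nat_lit 4), [nat_lit 3, nat_lit 3, nat_lit 1, nat_lit 3])) (.node (nat_lit 187) (.leaf ((nat_lit 5), [nat_lit 3, nat_lit 3, nat_lit 2])) (.leaf ((nat_lit 2), [nat_lit 3, nat_lit 3, nat_lit 3, nat_lit 2])))) (.node (nat_lit 189) (.leaf ((nat_lit 7), [nat_lit 3, nat_lit 3, nat_lit 2, nat_lit 1])) (.node (nat_lit 190) (.leaf ((nat_lit 3), [nat_lit 1, nat_lit 3, nat_lit 1])) (.leaf ((nat_lit 3), [nat_lit 4, nat_lit 4, nat_lit 0]))))))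
 (.node (nat_lit 196) (.node (nat_lit 193) (.node (nat_lit 192) (.leaf ((nat_lit 7), [nat_lit 4, nat_lit 4])) (.leaf ((nat_lit 9), [nat_lit 2]))) (.node (nat_lit 194) (.leaf ((nat_lit 9), [nat_lit 4, nat_lit 1])) (.node (nat_lit 195) (.leaf ((nat_lit 4), [nat_lit 4, nat_lit 2, nat_lit 4, nat_lit 4])) (.leaf ((nat_lit 9), [nat_lit 4, nat_lit 4, nat_lit 2, nat_lit 0])))))
 (.node (nat_lit 199) (.node (nat_lit 197) (.leaf ((nat_lit 2), [nat_lit 4, nat_lit 2, nat_lit 0])) (.node (nat_lit 198) (.leaf ((nat_lit 3), [nat_lit 4, nat_lit 4, nat_lit 4])) (.leaf ((nat_lit 9), [nat_lit 4, nat_lit 2, nat_lit 4])))) (.node (nat_lit 200) (.leaf ((nat_lit 3), [nat_lit 3, nat_lit 3, nat_lit 1])) (.node (nat_lit 201) (.leaf ((nat_lit 5), [nat_lit 2, nat_lit 1])) (.leaf ((nat_lit 4), [nat_lit 2])))))))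
 (.node (nat_lit 213) (.node (nat_lit 207) (.node (nat_lit 204) (.node (nat_lit 203) (.leaf ((nat_lit 7), [nat_lit 4, nat_lit 4, nat_lit 1])) (.leaf ((nat_lit 4), [nat_lit 4, nat_lit 4, nat_lit 4]))) (.node (nat_lit 205) (.leaf ((nat_lit 9), [nat_lit 4, nat_lit 4, nat_lit 1, nat_lit 0])) (.node (nat_lit 206) (.leaf ((nat_lit 7), [nat_lit 2, nat_lit 1])) (.leaf ((nat_lit 9), [nat_lit 4, nat_lit 4, nat_lit 1])))))
 (.node (nat_lit 210) (.node (nat_lit 208) (.leaf ((nat_lit 7), [nat_lit 2, nat_lit 1, nat_lit 0])) (.node (nat_lit 209) (.leaf ((nat_lit 5), [nat_lit 3])) (.leaf ((nat_lit 2), [nat_lit 3, nat_lit 2, nat_lit 1])))) (.node (nat_lit 211) (.leaf ((nat_lit 9), [nat_lit 2, nat_lit 1, nat_lit 0])) (.node (nat_lit 212) (.leaf ((nat_lit 3), [nat_lit 2, nat_lit 4])) (.leaf ((nat_lit 9), [nat_lit 2, nat_lit 4, nat_lit 0]))))))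
 (.node (nat_lit 219) (.node (nat_lit 216) (.node (nat_lit 214) (.leaf ((nat_lit 4), [nat_lit 3, nat_lit 3, nat_lit 2])) (.node (nat_lit 215) (.leaf ((nat_lit 2), [nat_lit 2, nat_lit 4, nat_lit 4])) (.leaf ((nat_lit 5), [nat_lit 3, nat_lit 3, nat_lit 3])))) (.node (nat_lit 217) (.leaf ((nat_lit 7), [nat_lit 1, nat_lit 3, nat_lit 3, nat_lit 3])) (.node (nat_lit 218) (.leaf ((nat_lit 7), [nat_lit 3, nat_lit 3, nat_lit 1, nat_lit 3])) (.leaf ((nat_lit 4), [nat_lit 3, nat_lit 3, nat_lit 3, nat_lit 2])))))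
 (.node (nat_lit 222) (.node (nat_lit 220) (.leaf ((nat_lit 3), [nat_lit 4, nat_lit 4, nat_lit 4, nat_lit 2])) (.node (nat_lit 221) (.leaf ((nat_lit 2), [nat_lit 2, nat_lit 4, nat_lit 0])) (.leaf ((nat_lit 4), [nat_lit 4, nat_lit 2])))) (.node (nat_lit 223) (.leaf ((nat_lit 5), [nat_lit 4, nat_lit 4])) (.node (nat_lit 224) (.leaf ((nat_lit 5), [nat_lit 2, nat_lit 4, nat_lit 4])) (.leaf ((nat_lit 9), [nat_lit 2, nat_lit 4, nat_lit 4]))))))))
 (.node (nat_lit 247) (.node (nat_lit 236) (.node (nat_lit 230) (.node (nat_lit 227) (.node (nat_lit 226) (.leaf ((nat_lit 7), [nat_lit 1, nat_lit 3, nat_lit 3, nat_lit 3, nat_lit 0])) (.leaf ((nat_lit 4), [nat_lit 3, nat_lit 3, nat_lit 3]))) (.node (nat_lit 228) (.leaf ((nat_lit 3), [nat_lit 3, nat_lit 3])) (.node (nat_lit 229) (.leaf ((nat_lit 9), [nat_lit 4, nat_lit 2, nat_lit 4, nat_lit 4])) (.leaf ((nat_lit 9), [nat_lit 3, nat_lit 3, nat_lit 3,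 nat_lit 2])))))
 (.node (nat_lit 233) (.node (nat_lit 231) (.leaf ((nat_lit 3), [nat_lit 1, nat_lit 3, nat_lit 3, nat_lit 3])) (.node (nat_lit 232) (.leaf ((nat_lit 9), [nat_lit 4, nat_lit 4, nat_lit 2, nat_lit 4])) (.leaf ((nat_lit 4), [nat_lit 4, nat_lit 1, nat_lit 0])))) (.node (nat_lit 234) (.leaf ((nat_lit 9), [nat_lit 3, nat_lit 3, nat_lit 3])) (.node (nat_lit 235) (.leaf ((nat_lit 7), [nat_lit 2, nat_lit 4, nat_lit 0])) (.leaf ((nat_lit 9), [nat_lit 1, nat_lit 3, nat_lit 3, nat_lit 3]))))))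
 (.node (nat_lit 241) (.node (nat_lit 238) (.node (nat_lit 237) (.leaf ((nat_lit 5), [nat_lit 1, nat_lit 3, nat_lit 3, nat_lit 3, nat_lit 0])) (.leaf ((nat_lit 5), [nat_lit 3, nat_lit 3, nat_lit 3, nat_lit 1]))) (.node (nat_lit 239) (.leaf ((nat_lit 2), [nat_lit 4, nat_lit 4, nat_lit 4, nat_lit 1])) (.node (nat_lit 240) (.leaf ((nat_lit 7), [nat_lit 4, nat_lit 2, nat_lit 4, nat_lit 4])) (.leaf ((nat_lit 3), [nat_lit 4, nat_lit 4, nat_lit 1])))))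
 (.node (nat_lit 244) (.node (nat_lit 242) (.leaf ((nat_lit 3), [nat_lit 4, nat_lit 4])) (.node (nat_lit 243) (.leaf ((nat_lit 3), [nat_lit 4, nat_lit 4, nat_lit 1, nat_lit 0])) (.leaf ((nat_lit 2), [nat_lit 4, nat_lit 4, nat_lit 2, nat_lit 4])))) (.node (nat_lit 245) (.leaf ((nat_lit 4), [nat_lit 1, nat_lit 3, nat_lit 3, nat_lit 3, nat_lit 0])) (.node (nat_lit 246) (.leaf ((nat_lit 5), [nat_lit 1, nat_lit 3, nat_lit 3])) (.leaf ((nat_lit 3), [nat_lit 2])))))))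
 (.node (nat_lit 258) (.node (nat_lit 252) (.node (nat_lit 249) (.node (nat_lit 248) (.leaf ((nat_lit 6), [nat_lit 4, nat_lit 4])) (.leaf ((nat_lit 6), [nat_lit 3, nat_lit 3]))) (.node (nat_lit 250) (.leaf ((nat_lit 7), [nat_lit 4])) (.node (nat_lit 251) (.leaf ((nat_lit 9), [nat_lit 3, nat_lit 1])) (.leaf ((nat_lit 7), [nat_lit 2, nat_lit 4, nat_lit 4])))))
 (.node (nat_lit 255) (.node (nat_lit 253) (.leaf ((nat_lit 3), [nat_lit 2, nat_lit 4, nat_lit 4])) (.node (nat_lit 254) (.leaf ((nat_lit 3), [nat_lit 4, nat_lit 2, nat_lit 4])) (.leaf ((nat_lit 5), [nat_lit 4])))) (.node (nat_lit 256) (.leaf ((nat_lit 4), [nat_lit 4])) (.node (nat_lit 257) (.leaf ((nat_lit 3), [nat_lit 3, nat_lit 3, nat_lit 3])) (.leaf ((nat_lit 9), [nat_lit 0]))))))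
 (.node (nat_lit 264) (.node (nat_lit 261) (.node (nat_lit 259) (.leaf ((nat_lit 2), [nat_lit 3, nat_lit 3, nat_lit 3, nat_lit 0])) (.node (nat_lit 260) (.leaf ((nat_lit 4), [nat_lit 4, nat_lit 2, nat_lit 0])) (.leaf ((nat_lit 8), [nat_lit 3])))) (.node (nat_lit 262) (.leaf ((nat_lit 9), [nat_lit 4, nat_lit 0])) (.node (nat_lit 263) (.leaf ((nat_lit 7), [nat_lit 1])) (.leaf ((nat_lit 7), [nat_lit 2, nat_lit 4])))))
 (.node (nat_lit 267) (.node (nat_lit 265) (.leaf ((nat_lit 4), [nat_lit 3, nat_lit 2])) (.node (nat_lit 266) (.leaf ((nat_lit 7), [nat_lit 3, nat_lit 1, nat_lit 3, nat_lit 3])) (.leaf ((nat_lit 7), [nat_lit 0])))) (.node (nat_lit 268) (.leaf ((nat_lit 3), [nat_lit 2, nat_lit 4, nat_lit 0])) (.node (nat_lit 269) (.leaf ((nat_lit 3), [nat_lit 3, nat_lit 3, nat_lit 3, nat_lit 2])) (.leaf ((nat_lit 9), [nat_lit 3, nat_lit 1, nat_lit 3])))))))))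
 (.node (nat_lit 315) (.node (nat_lit 292) (.node (nat_lit 281) (.node (nat_lit 275) (.node (nat_lit 272) (.node (nat_lit 271) (.leaf ((nat_lit 3), [nat_lit 4, nat_lit 1])) (.leaf ((nat_lit 9), [nat_lit 4, nat_lit 4, nat_lit 4, nat_lit 1]))) (.node (nat_lit 273) (.leaf ((nat_lit 3), [nat_lit 4, nat_lit 1, nat_lit 0])) (.node (nat_lit 274) (.leaf ((nat_lit 5), [nat_lit 3, nat_lit 3, nat_lit 1, nat_lit 3])) (.leaf ((nat_lit 9), [nat_lit 3, nat_lit 3, nat_lit 3, nat_lit 0])))))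
 (.node (nat_lit 278) (.node (nat_lit 276) (.leaf ((nat_lit 3), [nat_lit 1, nat_lit 3, nat_lit 3, nat_lit 3, nat_lit 0])) (.node (nat_lit 277) (.leaf ((nat_lit 7), [nat_lit 2])) (.leaf ((nat_lit 7), [nat_lit 4, nat_lit 2, nat_lit 4])))) (.node (nat_lit 279) (.leaf ((nat_lit 3), [nat_lit 3, nat_lit 1, nat_lit 3, nat_lit 1])) (.node (nat_lit 280) (.leaf ((nat_lit 3), [nat_lit 2, nat_lit 1, nat_lit 0])) (.leaf ((nat_lit 5), [nat_lit 4, nat_lit 4, nat_lit 4, nat_lit 2]))))))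
 (.node (nat_lit 286) (.node (nat_lit 283) (.node (nat_lit 282) (.leaf ((nat_lit 9), [nat_lit 4, nat_lit 4, nat_lit 2])) (.leaf ((nat_lit 9), [nat_lit 2, nat_lit 1]))) (.node (nat_lit 284) (.leaf ((nat_lit 3), [nat_lit 3])) (.node (nat_lit 285) (.leaf ((nat_lit 4), [nat_lit 4, nat_lit 4, nat_lit 2, nat_lit 0])) (.leaf ((nat_lit 2), [nat_lit 4, nat_lit 4, nat_lit 4, nat_lit 0])))))
 (.node (nat_lit 289) (.node (nat_lit 287) (.leaf ((nat_lit 4), [nat_lit 3, nat_lit 1, nat_lit 3, nat_lit 3])) (.node (nat_lit 288) (.leaf ((nat_lit 9), [nat_lit 3, nat_lit 3, nat_lit 1, nat_lit 3])) (.leaf ((nat_lit 9), [nat_lit 4, nat_lit 4, nat_lit 4, nat_lit 2, nat_lit 0])))) (.node (nat_lit 290) (.leaf ((nat_lit 5), [nat_lit 4, nat_lit 2, nat_lit 4, nat_lit 4])) (.node (nat_lit 291) (.leaf ((nat_lit 5), [nat_lit 4, nat_lit 4, nat_lit 4])) (.leaf ((nat_lit 7), [nat_lit 4, nat_lit 4, nat_lit 2])))))))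
 (.node (nat_lit 303) (.node (nat_lit 297) (.node (nat_lit 294) (.node (nat_lit 293) (.leaf ((nat_lit 9), [nat_lit 1, nat_lit 3, nat_lit 3, nat_lit 3, nat_lit 0])) (.leaf ((nat_lit 9), [nat_lit 4, nat_lit 4, nat_lit 4, nat_lit 2]))) (.node (nat_lit 295) (.leaf ((nat_lit 4), [nat_lit 1, nat_lit 3, nat_lit 3])) (.node (nat_lit 296) (.leaf ((nat_lit 3), [nat_lit 3, nat_lit 3, nat_lit 3, nat_lit 1])) (.leaf ((nat_lit 7), [nat_lit 4, nat_lit 4, nat_lit 2, nat_lit 4])))))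
 (.node (nat_lit 300) (.node (nat_lit 298) (.leaf ((nat_lit 9), [nat_lit 4, nat_lit 2])) (.node (nat_lit 299) (.leaf ((nat_lit 7), [nat_lit 3, nat_lit 3, nat_lit 3, nat_lit 2])) (.leaf ((nat_lit 5), [nat_lit 3, nat_lit 3, nat_lit 0])))) (.node (nat_lit 301) (.leaf ((nat_lit 2), [nat_lit 4, nat_lit 2, nat_lit 4])) (.node (nat_lit 302) (.leaf ((nat_lit 4), [nat_lit 3, nat_lit 1, nat_lit 3])) (.leaf ((nat_lit 4), [nat_lit 3, nat_lit 3, nat_lit 2, nat_lit 1]))))))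
 (.node (nat_lit 309) (.node (nat_lit 306) (.node (nat_lit 304) (.leaf ((nat_lit 5), [nat_lit 3, nat_lit 3, nat_lit 1])) (.node (nat_lit 305) (.leaf ((nat_lit 5), [nat_lit 2])) (.leaf ((nat_lit 5), [nat_lit 4, nat_lit 4, nat_lit 1, nat_lit 0])))) (.node (nat_lit 307) (.leaf ((nat_lit 3), [nat_lit 3, nat_lit 3, nat_lit 2])) (.node (nat_lit 308) (.leaf ((nat_lit 5), [nat_lit 4, nat_lit 2, nat_lit 0])) (.leaf ((nat_lit 4), [nat_lit 4, nat_lit 0])))))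
 (.node (nat_lit 312) (.node (nat_lit 310) (.leaf ((nat_lit 7), [nat_lit 4, nat_lit 4, nat_lit 4, nat_lit 1])) (.node (nat_lit 311) (.leaf ((nat_lit 3), [nat_lit 3, nat_lit 1, nat_lit 3])) (.leaf ((nat_lit 4), [nat_lit 4, nat_lit 2, nat_lit 4])))) (.node (nat_lit 313) (.leaf ((nat_lit 7), [nat_lit 1, nat_lit 3, nat_lit 3])) (.node (nat_lit 314) (.leaf ((nat_lit 7), [nat_lit 4, nat_lit 4, nat_lit 4, nat_lit 0])) (.leaf ((nat_lit 3), [nat_lit 3, nat_lit 2]))))))))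
 (.node (nat_lit 337) (.node (nat_lit 326) (.node (nat_lit 320) (.node (nat_lit 317) (.node (nat_lit 316) (.leaf ((nat_lit 9), [nat_lit 4, nat_lit 4, nat_lit 4])) (.leaf ((nat_lit 7), [nat_lit 3, nat_lit 3, nat_lit 1]))) (.node (nat_lit 318) (.leaf ((nat_lit 5), [nat_lit 4, nat_lit 1])) (.node (nat_lit 319) (.leaf ((nat_lit 7), [nat_lit 3, nat_lit 3, nat_lit 0])) (.leaf ((nat_lit 7), [nat_lit 2, nat_lit 4, nat_lit 4, nat_lit 4])))))
 (.node (nat_lit 323) (.node (nat_lit 321) (.leaf ((nat_lit 9), [nat_lit 3, nat_lit 3, nat_lit 0])) (.node (nat_lit 322) (.leaf ((nat_lit 2), [nat_lit 4, nat_lit 4])) (.leaf ((nat_lit 4), [nat_lit 4, nat_lit 4, nat_lit 0])))) (.node (nat_lit 324) (.leaf ((nat_lit 9), [nat_lit 3, nat_lit 3, nat_lit 2])) (.node (nat_lit 325) (.leaf ((nat_lit 4), [nat_lit 3, nat_lit 3, nat_lit 1])) (.leaf ((nat_lit 2), [nat_lit 3, nat_lit 3, nat_lit 3, nat_lit 1]))))))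
 (.node (nat_lit 331) (.node (nat_lit 328) (.node (nat_lit 327) (.leaf ((nat_lit 5), [nat_lit 3, nat_lit 3, nat_lit 2, nat_lit 1])) (.leaf ((nat_lit 4), [nat_lit 1, nat_lit 3, nat_lit 3, nat_lit 3]))) (.node (nat_lit 329) (.leaf ((nat_lit 2), [nat_lit 3, nat_lit 3, nat_lit 3])) (.node (nat_lit 330) (.leaf ((nat_lit 3), [nat_lit 1, nat_lit 3])) (.leaf ((nat_lit 2), [nat_lit 1, nat_lit 3, nat_lit 3, nat_lit 3])))))
 (.node (nat_lit 334) (.node (nat_lit 332) (.leaf ((nat_lit 2), [nat_lit 4, nat_lit 4, nat_lit 1])) (.node (nat_lit 333) (.leaf ((nat_lit 7), [nat_lit 4, nat_lit 4, nat_lit 4, nat_lit 2, nat_lit 0])) (.leaf ((nat_lit 2), [nat_lit 4, nat_lit 4, nat_lit 4])))) (.node (nat_lit 335) (.leaf ((nat_lit 3), [nat_lit 3, nat_lit 1, nat_lit 3, nat_lit 3])) (.node (nat_lit 336) (.leaf ((nat_lit 5), [nat_lit 1, nat_lit 3, nat_lit 3, nat_lit 3])) (.leaf ((nat_lit 3), [nat_lit 4])))))))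
 (.node (nat_lit 348) (.node (nat_lit 342) (.node (nat_lit 339) (.node (nat_lit 338) (.leaf ((nat_lit 9), [nat_lit 4, nat_lit 4, nat_lit 4, nat_lit 0])) (.leaf ((nat_lit 3), [nat_lit 3, nat_lit 0]))) (.node (nat_lit 340) (.leaf ((nat_lit 3), [nat_lit 1, nat_lit 3, nat_lit 3])) (.node (nat_lit 341) (.leaf ((nat_lit 2), [nat_lit 4, nat_lit 4, nat_lit 1, nat_lit 0])) (.leaf ((nat_lit 5), [nat_lit 3, nat_lit 2])))))
 (.node (nat_lit 345) (.node (nat_lit 343) (.leaf ((nat_lit 5), [nat_lit 1, nat_lit 3])) (.node (nat_lit 344) (.leaf ((nat_lit 7), [nat_lit 3, nat_lit 3])) (.leaf ((nat_lit 4), [nat_lit 3, nat_lit 2, nat_lit 1])))) (.node (nat_lit 346) (.leaf ((nat_lit 4), [nat_lit 3, nat_lit 3, nat_lit 3, nat_lit 1])) (.node (nat_lit 347) (.leaf ((nat_lit 3), [nat_lit 3, nat_lit 3, nat_lit 2, nat_lit 1])) (.leaf ((nat_lit 9), [nat_lit 1, nat_lit 3, nat_lit 3]))))))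
 (.node (nat_lit 354) (.node (nat_lit 351) (.node (nat_lit 349) (.leaf ((nat_lit 7), [nat_lit 4, nat_lit 1])) (.node (nat_lit 350) (.leaf ((nat_lit 9), [nat_lit 2, nat_lit 4])) (.leaf ((nat_lit 9), [nat_lit 2, nat_lit 4, nat_lit 4, nat_lit 4])))) (.node (nat_lit 352) (.leaf ((nat_lit 5), [nat_lit 3, nat_lit 1, nat_lit 3, nat_lit 1])) (.node (nat_lit 353) (.leaf ((nat_lit 9), [nat_lit 3, nat_lit 3, nat_lit 1])) (.leaf ((nat_lit 7), [nat_lit 4, nat_lit 2])))))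
 (.node (nat_lit 357) (.node (nat_lit 355) (.leaf ((nat_lit 9), [nat_lit 3, nat_lit 3])) (.node (nat_lit 356) (.leaf ((nat_lit 4), [nat_lit 3, nat_lit 1, nat_lit 0])) (.leaf ((nat_lit 4), [nat_lit 3, nat_lit 1])))) (.node (nat_lit 358) (.leaf ((nat_lit 4), [nat_lit 1, nat_lit 3, nat_lit 1])) (.node (nat_lit 359) (.leaf ((nat_lit 5), [nat_lit 3, nat_lit 0])) (.leaf ((nat_lit 2), [nat_lit 3, nat_lit 3, nat_lit 1, nat_lit 3]))))))))))
noncomputable def n12PA : Tr (ℕ × List ℕ) := (.node (nat_lit 180) n12PA_0 n12PA_1)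
noncomputable def n12Wd_0 : Tr (ℕ × List ℕ) := (.node (nat_lit 67) (.node (nat_lit 33) (.node (nat_lit 16) (.node (nat_lit 8) (.node (nat_lit 4) (.node (nat_lit 2) (.node (nat_lit 1) (.leaf ((nat_lit 1), [])) (.leaf ((nat_lit 2), []))) (.node (nat_lit 3) (.leaf ((nat_lit 3), [nat_lit 1])) (.leaf ((nat_lit 4), [nat_lit 4, nat_lit 4, nat_lit 2, nat_lit 1]))))
 (.node (nat_lit 6) (.node (nat_lit 5) (.leaf ((nat_lit 5), [nat_lit 2, nat_lit 1])) (.leaf ((nat_lit 6), []))) (.node (nat_lit 7) (.leaf ((nat_lit 0), [])) (.leaf ((nat_lit 7), [nat_lit 2, nat_lit 0])))))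
 (.node (nat_lit 12) (.node (nat_lit 10) (.node (nat_lit 9) (.leaf ((nat_lit 8), [nat_lit 2, nat_lit 1, nat_lit 0])) (.leaf ((nat_lit 9), []))) (.node (nat_lit 11) (.leaf ((nat_lit 10), [nat_lit 2, nat_lit 1])) (.leaf ((nat_lit 11), []))))
 (.node (nat_lit 14) (.node (nat_lit 13) (.leaf ((nat_lit 7), [nat_lit 2, nat_lit 0])) (.leaf ((nat_lit 0), []))) (.node (nat_lit 15) (.leaf ((nat_lit 12), [])) (.leaf ((nat_lit 13), [nat_lit 1, nat_lit 0]))))))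
 (.node (nat_lit 24) (.node (nat_lit 20) (.node (nat_lit 18) (.node (nat_lit 17) (.leaf ((nat_lit 2), [nat_lit 2, nat_lit 1])) (.leaf ((nat_lit 14), [nat_lit 3, nat_lit 3, nat_lit 3, nat_lit 2, nat_lit 1, nat_lit 0]))) (.node (nat_lit 19) (.leaf ((nat_lit 8), [nat_lit 2, nat_lit 0])) (.leaf ((nat_lit 12), [nat_lit 1]))))
 (.node (nat_lit 22) (.node (nat_lit 21) (.leaf ((nat_lit 0), [nat_lit 1])) (.leaf ((nat_lit 15), [nat_lit 3, nat_lit 3, nat_lit 3, nat_lit 1, nat_lit 0]))) (.node (nat_lit 23) (.leaf ((nat_lit 3), [nat_lit 2])) (.leaf ((nat_lit 16), [nat_lit 1])))))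
 (.node (nat_lit 28) (.node (nat_lit 26) (.node (nat_lit 25) (.leaf ((nat_lit 17), [nat_lit 3, nat_lit 3, nat_lit 2, nat_lit 1])) (.leaf ((nat_lit 18), [nat_lit 4, nat_lit 4, nat_lit 4, nat_lit 0]))) (.node (nat_lit 27) (.leaf ((nat_lit 19), [nat_lit 4, nat_lit 4, nat_lit 4, nat_lit 2])) (.leaf ((nat_lit 0), [nat_lit 3, nat_lit 3, nat_lit 0]))))
 (.node (nat_lit 30) (.node (nat_lit 29) (.leaf ((nat_lit 20), [nat_lit 4, nat_lit 4, nat_lit 1])) (.leaf ((nat_lit 21), [nat_lit 3, nat_lit 3, nat_lit 0]))) (.node (nat_lit 31) (.leaf ((nat_lit 5), [nat_lit 2, nat_lit 0])) (.node (nat_lit 32) (.leaf ((nat_lit 5), [nat_lit 2, nat_lit 1])) (.leaf ((nat_lit 5), [nat_lit 2]))))))))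
 (.node (nat_lit 50) (.node (nat_lit 41) (.node (nat_lit 37) (.node (nat_lit 35) (.node (nat_lit 34) (.leaf ((nat_lit 20), [nat_lit 3, nat_lit 3, nat_lit 3, nat_lit 2])) (.leaf ((nat_lit 0), [nat_lit 2, nat_lit 1]))) (.node (nat_lit 36) (.leaf ((nat_lit 22), [])) (.leaf ((nat_lit 23), [nat_lit 2, nat_lit 0]))))
 (.node (nat_lit 39) (.node (nat_lit 38) (.leaf ((nat_lit 24), [nat_lit 3, nat_lit 0])) (.leaf ((nat_lit 25), [nat_lit 3, nat_lit 1, nat_lit 0]))) (.node (nat_lit 40) (.leaf ((nat_lit 6), [nat_lit 1, nat_lit 0])) (.leaf ((nat_lit 26), [nat_lit 4, nat_lit 4, nat_lit 2])))))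
 (.node (nat_lit 45) (.node (nat_lit 43) (.node (nat_lit 42) (.leaf ((nat_lit 0), [])) (.leaf ((nat_lit 2), [nat_lit 2, nat_lit 0]))) (.node (nat_lit 44) (.leaf ((nat_lit 1), [nat_lit 2, nat_lit 0])) (.leaf ((nat_lit 27), [nat_lit 2, nat_lit 0]))))
 (.node (nat_lit 47) (.node (nat_lit 46) (.leaf ((nat_lit 28), [nat_lit 1, nat_lit 0])) (.leaf ((nat_lit 7), [nat_lit 1, nat_lit 0]))) (.node (nat_lit 48) (.leaf ((nat_lit 29), [nat_lit 3, nat_lit 2])) (.node (nat_lit 49) (.leaf ((nat_lit 3), [nat_lit 2, nat_lit 0])) (.leaf ((nat_lit 27), [nat_lit 2, nat_lit 1, nat_lit 0])))))))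
 (.node (nat_lit 58) (.node (nat_lit 54) (.node (nat_lit 52) (.node (nat_lit 51) (.leaf ((nat_lit 1), [nat_lit 2, nat_lit 1, nat_lit 0])) (.leaf ((nat_lit 30), [nat_lit 3, nat_lit 3, nat_lit 3, nat_lit 2, nat_lit 1, nat_lit 0]))) (.node (nat_lit 53) (.leaf ((nat_lit 8), [nat_lit 0])) (.leaf ((nat_lit 31), [nat_lit 2, nat_lit 1, nat_lit 0]))))
 (.node (nat_lit 56) (.node (nat_lit 55) (.leaf ((nat_lit 32), [nat_lit 4, nat_lit 4, nat_lit 1, nat_lit 0])) (.leaf ((nat_lit 33), [nat_lit 3, nat_lit 3, nat_lit 2, nat_lit 0]))) (.node (nat_lit 57) (.leaf ((nat_lit 34), [nat_lit 3, nat_lit 3, nat_lit 2])) (.leaf ((nat_lit 1), [])))))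
 (.node (nat_lit 62) (.node (nat_lit 60) (.node (nat_lit 59) (.leaf ((nat_lit 35), [nat_lit 3, nat_lit 2])) (.leaf ((nat_lit 36), []))) (.node (nat_lit 61) (.leaf ((nat_lit 10), [nat_lit 2, nat_lit 0])) (.leaf ((nat_lit 10), [nat_lit 1, nat_lit 0]))))
 (.node (nat_lit 64) (.node (nat_lit 63) (.leaf ((nat_lit 10), [nat_lit 0])) (.leaf ((nat_lit 35), [nat_lit 3, nat_lit 1]))) (.node (nat_lit 65) (.leaf ((nat_lit 1), [nat_lit 2, nat_lit 1])) (.node (nat_lit 66) (.leaf ((nat_lit 37), [nat_lit 4, nat_lit 4, nat_lit 1, nat_lit 0])) (.leaf ((nat_lit 38), [nat_lit 2, nat_lit 0])))))))))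
 (.node (nat_lit 101) (.node (nat_lit 84) (.node (nat_lit 75) (.node (nat_lit 71) (.node (nat_lit 69) (.node (nat_lit 68) (.leaf ((nat_lit 39), [nat_lit 4])) (.leaf ((nat_lit 40), [nat_lit 4, nat_lit 2, nat_lit 1, nat_lit 0]))) (.node (nat_lit 70) (.leaf ((nat_lit 11), [nat_lit 2, nat_lit 1])) (.leaf ((nat_lit 41), [nat_lit 3, nat_lit 3, nat_lit 1]))))
 (.node (nat_lit 73) (.node (nat_lit 72) (.leaf ((nat_lit 1), [])) (.leaf ((nat_lit 27), []))) (.node (nat_lit 74) (.leaf ((nat_lit 3), [nat_lit 1])) (.leaf ((nat_lit 2), [])))))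
 (.node (nat_lit 79) (.node (nat_lit 77) (.node (nat_lit 76) (.leaf ((nat_lit 42), [nat_lit 3, nat_lit 3, nat_lit 3, nat_lit 2, nat_lit 0])) (.leaf ((nat_lit 43), [nat_lit 2, nat_lit 1]))) (.node (nat_lit 78) (.leaf ((nat_lit 44), [nat_lit 3, nat_lit 3, nat_lit 3, nat_lit 2])) (.leaf ((nat_lit 45), [nat_lit 2, nat_lit 0]))))
 (.node (nat_lit 81) (.node (nat_lit 80) (.leaf ((nat_lit 46), [nat_lit 3, nat_lit 1, nat_lit 0])) (.leaf ((nat_lit 47), [nat_lit 3, nat_lit 3, nat_lit 3, nat_lit 2, nat_lit 1]))) (.node (nat_lit 82) (.leaf ((nat_lit 2), [nat_lit 1, nat_lit 0])) (.node (nat_lit 83) (.leaf ((nat_lit 13), [nat_lit 2, nat_lit 1])) (.leaf ((nat_lit 48), [nat_lit 3, nat_lit 3, nat_lit 3, nat_lit 2])))))))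
 (.node (nat_lit 92) (.node (nat_lit 88) (.node (nat_lit 86) (.node (nat_lit 85) (.leaf ((nat_lit 49), [nat_lit 2, nat_lit 1])) (.leaf ((nat_lit 50), [nat_lit 3, nat_lit 3, nat_lit 3, nat_lit 1, nat_lit 0]))) (.node (nat_lit 87) (.leaf ((nat_lit 51), [nat_lit 3, nat_lit 3, nat_lit 3])) (.leaf ((nat_lit 37), [nat_lit 3, nat_lit 3, nat_lit 1, nat_lit 0]))))
 (.node (nat_lit 90) (.node (nat_lit 89) (.leaf ((nat_lit 52), [nat_lit 2, nat_lit 0])) (.leaf ((nat_lit 2), [nat_lit 4, nat_lit 4, nat_lit 4, nat_lit 1]))) (.node (nat_lit 91) (.leaf ((nat_lit 53), [nat_lit 2])) (.leaf ((nat_lit 54), [nat_lit 3, nat_lit 1, nat_lit 0])))))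
 (.node (nat_lit 96) (.node (nat_lit 94) (.node (nat_lit 93) (.leaf ((nat_lit 55), [nat_lit 3, nat_lit 3])) (.leaf ((nat_lit 3), [nat_lit 4, nat_lit 4, nat_lit 4, nat_lit 0]))) (.node (nat_lit 95) (.leaf ((nat_lit 15), [nat_lit 1, nat_lit 0])) (.leaf ((nat_lit 56), [nat_lit 4, nat_lit 4, nat_lit 4, nat_lit 2, nat_lit 1, nat_lit 0]))))
 (.node (nat_lit 98) (.node (nat_lit 97) (.leaf ((nat_lit 57), [nat_lit 2, nat_lit 0])) (.leaf ((nat_lit 58), [nat_lit 4, nat_lit 0]))) (.node (nat_lit 99) (.leaf ((nat_lit 59), [nat_lit 4, nat_lit 2, nat_lit 1, nat_lit 0])) (.node (nat_lit 100) (.leaf ((nat_lit 60), [nat_lit 3, nat_lit 3, nat_lit 3])) (.leaf ((nat_lit 61), [nat_lit 4, nat_lit 4, nat_lit 4, nat_lit 0]))))))))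
 (.node (nat_lit 118) (.node (nat_lit 109) (.node (nat_lit 105) (.node (nat_lit 103) (.node (nat_lit 102) (.leaf ((nat_lit 3), [nat_lit 1])) (.leaf ((nat_lit 4), [nat_lit 4, nat_lit 4, nat_lit 1, nat_lit 0]))) (.node (nat_lit 104) (.leaf ((nat_lit 62), [nat_lit 3, nat_lit 3, nat_lit 1])) (.leaf ((nat_lit 63), [nat_lit 3, nat_lit 3]))))
 (.node (nat_lit 107) (.node (nat_lit 106) (.leaf ((nat_lit 64), [nat_lit 3, nat_lit 2, nat_lit 0])) (.leaf ((nat_lit 24), [nat_lit 3, nat_lit 3, nat_lit 3, nat_lit 2, nat_lit 1, nat_lit 0]))) (.node (nat_lit 108) (.leaf ((nat_lit 65), [nat_lit 2, nat_lit 0])) (.leaf ((nat_lit 62), [nat_lit 2, nat_lit 0])))))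
 (.node (nat_lit 113) (.node (nat_lit 111) (.node (nat_lit 110) (.leaf ((nat_lit 4), [nat_lit 3, nat_lit 3, nat_lit 3, nat_lit 1, nat_lit 0])) (.leaf ((nat_lit 66), [nat_lit 4, nat_lit 4, nat_lit 2]))) (.node (nat_lit 112) (.leaf ((nat_lit 46), [nat_lit 4])) (.leaf ((nat_lit 67), [nat_lit 3, nat_lit 2]))))
 (.node (nat_lit 115) (.node (nat_lit 114) (.leaf ((nat_lit 68), [nat_lit 1])) (.leaf ((nat_lit 63), [nat_lit 2, nat_lit 1, nat_lit 0]))) (.node (nat_lit 116) (.leaf ((nat_lit 66), [nat_lit 4, nat_lit 4, nat_lit 1])) (.node (nat_lit 117) (.leaf ((nat_lit 4), [nat_lit 3, nat_lit 3, nat_lit 3, nat_lit 2, nat_lit 0])) (.leaf ((nat_lit 69), [nat_lit 4, nat_lit 2, nat_lit 1])))))))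
 (.node (nat_lit 126) (.node (nat_lit 122) (.node (nat_lit 120) (.node (nat_lit 119) (.leaf ((nat_lit 70), [nat_lit 3, nat_lit 1])) (.leaf ((nat_lit 71), [nat_lit 4, nat_lit 4, nat_lit 2, nat_lit 1]))) (.node (nat_lit 121) (.leaf ((nat_lit 72), [nat_lit 4, nat_lit 4, nat_lit 0])) (.leaf ((nat_lit 40), [nat_lit 4, nat_lit 2, nat_lit 1]))))
 (.node (nat_lit 124) (.node (nat_lit 123) (.leaf ((nat_lit 39), [nat_lit 4, nat_lit 0])) (.leaf ((nat_lit 5), [nat_lit 4, nat_lit 4, nat_lit 4, nat_lit 1, nat_lit 0]))) (.node (nat_lit 125) (.leaf ((nat_lit 4), [nat_lit 3, nat_lit 3, nat_lit 1, nat_lit 0])) (.leaf ((nat_lit 73), [nat_lit 4, nat_lit 4, nat_lit 4, nat_lit 1, nat_lit 0])))))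
 (.node (nat_lit 130) (.node (nat_lit 128) (.node (nat_lit 127) (.leaf ((nat_lit 33), [nat_lit 2, nat_lit 0])) (.leaf ((nat_lit 32), [nat_lit 3, nat_lit 3, nat_lit 3, nat_lit 2, nat_lit 1]))) (.node (nat_lit 129) (.leaf ((nat_lit 74), [nat_lit 4, nat_lit 4, nat_lit 0])) (.leaf ((nat_lit 75), [nat_lit 3, nat_lit 3, nat_lit 1, nat_lit 0]))))
 (.node (nat_lit 132) (.node (nat_lit 131) (.leaf ((nat_lit 76), [nat_lit 4, nat_lit 1, nat_lit 0])) (.leaf ((nat_lit 4), [nat_lit 4, nat_lit 4, nat_lit 2, nat_lit 1]))) (.node (nat_lit 133) (.leaf ((nat_lit 77), [nat_lit 4, nat_lit 4, nat_lit 1])) (.node (nat_lit 134) (.leaf ((nat_lit 78), [nat_lit 4, nat_lit 2, nat_lit 1])) (.leaf ((nat_lit 79), [nat_lit 3, nat_lit 2, nat_lit 1, nat_lit 0]))))))))))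
noncomputable def n12Wd_1 : Tr (ℕ × List ℕ) := (.node (nat_lit 202) (.node (nat_lit 168) (.node (nat_lit 151) (.node (nat_lit 143) (.node (nat_lit 139) (.node (nat_lit 137) (.node (nat_lit 136) (.leaf ((nat_lit 29), [nat_lit 3, nat_lit 2])) (.leaf ((nat_lit 80), [nat_lit 4, nat_lit 4]))) (.node (nat_lit 138) (.leaf ((nat_lit 5), [])) (.leaf ((nat_lit 6), [nat_lit 2, nat_lit 0]))))
 (.node (nat_lit 141) (.node (nat_lit 140) (.leaf ((nat_lit 35), [nat_lit 4, nat_lit 2, nat_lit 1])) (.leaf ((nat_lit 81), [nat_lit 3, nat_lit 2, nat_lit 0]))) (.node (nat_lit 142) (.leaf ((nat_lit 23), [nat_lit 1])) (.leaf ((nat_lit 82), [nat_lit 4, nat_lit 4, nat_lit 0])))))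
 (.node (nat_lit 147) (.node (nat_lit 145) (.node (nat_lit 144) (.leaf ((nat_lit 83), [nat_lit 3, nat_lit 3, nat_lit 3, nat_lit 2])) (.leaf ((nat_lit 35), [nat_lit 4, nat_lit 4, nat_lit 0]))) (.node (nat_lit 146) (.leaf ((nat_lit 6), [nat_lit 4, nat_lit 2])) (.leaf ((nat_lit 84), [nat_lit 4, nat_lit 1]))))
 (.node (nat_lit 149) (.node (nat_lit 148) (.leaf ((nat_lit 85), [nat_lit 4, nat_lit 1, nat_lit 0])) (.leaf ((nat_lit 17), [nat_lit 4, nat_lit 4, nat_lit 4, nat_lit 1]))) (.node (nat_lit 150) (.leaf ((nat_lit 86), [nat_lit 3, nat_lit 3, nat_lit 1])) (.leaf ((nat_lit 81), [nat_lit 2, nat_lit 0]))))))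
 (.node (nat_lit 159) (.node (nat_lit 155) (.node (nat_lit 153) (.node (nat_lit 152) (.leaf ((nat_lit 84), [nat_lit 4, nat_lit 1, nat_lit 0])) (.leaf ((nat_lit 6), [nat_lit 4, nat_lit 2, nat_lit 0]))) (.node (nat_lit 154) (.leaf ((nat_lit 25), [nat_lit 1])) (.leaf ((nat_lit 87), [nat_lit 4, nat_lit 4, nat_lit 4, nat_lit 1, nat_lit 0]))))
 (.node (nat_lit 157) (.node (nat_lit 156) (.leaf ((nat_lit 88), [nat_lit 3, nat_lit 3, nat_lit 1])) (.leaf ((nat_lit 89), [nat_lit 4, nat_lit 4, nat_lit 1, nat_lit 0]))) (.node (nat_lit 158) (.leaf ((nat_lit 90), [nat_lit 3, nat_lit 3, nat_lit 3, nat_lit 2, nat_lit 1, nat_lit 0])) (.leaf ((nat_lit 91), [nat_lit 3, nat_lit 3, nat_lit 3, nat_lit 2])))))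
 (.node (nat_lit 163) (.node (nat_lit 161) (.node (nat_lit 160) (.leaf ((nat_lit 26), [nat_lit 2, nat_lit 1])) (.leaf ((nat_lit 6), [nat_lit 3, nat_lit 3, nat_lit 1]))) (.node (nat_lit 162) (.leaf ((nat_lit 92), [nat_lit 3, nat_lit 0])) (.leaf ((nat_lit 12), []))))
 (.node (nat_lit 165) (.node (nat_lit 164) (.leaf ((nat_lit 8), [nat_lit 2, nat_lit 1, nat_lit 0])) (.leaf ((nat_lit 7), [nat_lit 2, nat_lit 0]))) (.node (nat_lit 166) (.leaf ((nat_lit 65), [nat_lit 3, nat_lit 3, nat_lit 3, nat_lit 2, nat_lit 1])) (.node (nat_lit 167) (.leaf ((nat_lit 93), [nat_lit 2, nat_lit 1])) (.leaf ((nat_lit 82), [nat_lit 3, nat_lit 3, nat_lit 3]))))))))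
 (.node (nat_lit 185) (.node (nat_lit 176) (.node (nat_lit 172) (.node (nat_lit 170) (.node (nat_lit 169) (.leaf ((nat_lit 94), [nat_lit 2, nat_lit 0])) (.leaf ((nat_lit 95), [nat_lit 3, nat_lit 3, nat_lit 0]))) (.node (nat_lit 171) (.leaf ((nat_lit 92), [nat_lit 4, nat_lit 4, nat_lit 4, nat_lit 2, nat_lit 0])) (.leaf ((nat_lit 7), [nat_lit 1, nat_lit 0]))))
 (.node (nat_lit 174) (.node (nat_lit 173) (.leaf ((nat_lit 28), [nat_lit 1, nat_lit 0])) (.leaf ((nat_lit 52), [nat_lit 3, nat_lit 2, nat_lit 1, nat_lit 0]))) (.node (nat_lit 175) (.leaf ((nat_lit 96), [nat_lit 3, nat_lit 3])) (.leaf ((nat_lit 97), [nat_lit 1, nat_lit 0])))))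
 (.node (nat_lit 180) (.node (nat_lit 178) (.node (nat_lit 177) (.leaf ((nat_lit 98), [nat_lit 4, nat_lit 4, nat_lit 2, nat_lit 0])) (.leaf ((nat_lit 22), [nat_lit 4, nat_lit 2, nat_lit 1]))) (.node (nat_lit 179) (.leaf ((nat_lit 99), [nat_lit 3, nat_lit 3, nat_lit 3, nat_lit 1])) (.leaf ((nat_lit 7), [nat_lit 4, nat_lit 2, nat_lit 1]))))
 (.node (nat_lit 182) (.node (nat_lit 181) (.leaf ((nat_lit 100), [nat_lit 2])) (.leaf ((nat_lit 101), [nat_lit 4, nat_lit 4, nat_lit 4]))) (.node (nat_lit 183) (.leaf ((nat_lit 88), [nat_lit 4, nat_lit 2, nat_lit 1])) (.node (nat_lit 184) (.leaf ((nat_lit 8), [nat_lit 4, nat_lit 4, nat_lit 4, nat_lit 1])) (.leaf ((nat_lit 30), [nat_lit 2, nat_lit 1, nat_lit 0])))))))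
 (.node (nat_lit 193) (.node (nat_lit 189) (.node (nat_lit 187) (.node (nat_lit 186) (.leaf ((nat_lit 102), [nat_lit 4, nat_lit 4, nat_lit 4])) (.leaf ((nat_lit 103), [nat_lit 2, nat_lit 0]))) (.node (nat_lit 188) (.leaf ((nat_lit 104), [nat_lit 3])) (.leaf ((nat_lit 105), [nat_lit 3, nat_lit 1]))))
 (.node (nat_lit 191) (.node (nat_lit 190) (.leaf ((nat_lit 106), [nat_lit 3, nat_lit 3, nat_lit 3, nat_lit 1, nat_lit 0])) (.leaf ((nat_lit 107), [nat_lit 4, nat_lit 4]))) (.node (nat_lit 192) (.leaf ((nat_lit 8), [nat_lit 2, nat_lit 1, nat_lit 0])) (.leaf ((nat_lit 9), [nat_lit 3, nat_lit 3, nat_lit 2, nat_lit 1])))))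
 (.node (nat_lit 197) (.node (nat_lit 195) (.node (nat_lit 194) (.leaf ((nat_lit 21), [nat_lit 4, nat_lit 4, nat_lit 4, nat_lit 2, nat_lit 0])) (.leaf ((nat_lit 108), [nat_lit 4, nat_lit 4, nat_lit 4, nat_lit 2, nat_lit 1]))) (.node (nat_lit 196) (.leaf ((nat_lit 109), [nat_lit 0])) (.leaf ((nat_lit 72), [nat_lit 3, nat_lit 3, nat_lit 3, nat_lit 2]))))
 (.node (nat_lit 199) (.node (nat_lit 198) (.leaf ((nat_lit 110), [nat_lit 3, nat_lit 3, nat_lit 2, nat_lit 1])) (.leaf ((nat_lit 21), [nat_lit 2, nat_lit 0]))) (.node (nat_lit 200) (.leaf ((nat_lit 9), [nat_lit 4, nat_lit 4, nat_lit 0])) (.node (nat_lit 201) (.leaf ((nat_lit 111), [nat_lit 4, nat_lit 4, nat_lit 2, nat_lit 0])) (.leaf ((nat_lit 95), [nat_lit 2])))))))))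
 (.node (nat_lit 236) (.node (nat_lit 219) (.node (nat_lit 210) (.node (nat_lit 206) (.node (nat_lit 204) (.node (nat_lit 203) (.leaf ((nat_lit 112), [nat_lit 4, nat_lit 2, nat_lit 1])) (.leaf ((nat_lit 113), [nat_lit 1, nat_lit 0]))) (.node (nat_lit 205) (.leaf ((nat_lit 108), [nat_lit 2, nat_lit 1, nat_lit 0])) (.leaf ((nat_lit 111), [nat_lit 4, nat_lit 4, nat_lit 1, nat_lit 0]))))
 (.node (nat_lit 208) (.node (nat_lit 207) (.leaf ((nat_lit 9), [nat_lit 4, nat_lit 4, nat_lit 2, nat_lit 1, nat_lit 0])) (.leaf ((nat_lit 114), [nat_lit 3, nat_lit 2, nat_lit 0]))) (.node (nat_lit 209) (.leaf ((nat_lit 115), [nat_lit 4])) (.leaf ((nat_lit 116), [nat_lit 4, nat_lit 4, nat_lit 2, nat_lit 1, nat_lit 0])))))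
 (.node (nat_lit 214) (.node (nat_lit 212) (.node (nat_lit 211) (.leaf ((nat_lit 24), [nat_lit 3, nat_lit 3, nat_lit 2, nat_lit 0])) (.leaf ((nat_lit 23), [nat_lit 3, nat_lit 2]))) (.node (nat_lit 213) (.leaf ((nat_lit 117), [nat_lit 3])) (.leaf ((nat_lit 10), [nat_lit 4, nat_lit 0]))))
 (.node (nat_lit 216) (.node (nat_lit 215) (.leaf ((nat_lit 9), [nat_lit 4, nat_lit 2, nat_lit 1])) (.leaf ((nat_lit 118), [nat_lit 4, nat_lit 4, nat_lit 4, nat_lit 2]))) (.node (nat_lit 217) (.leaf ((nat_lit 119), [nat_lit 2, nat_lit 0])) (.node (nat_lit 218) (.leaf ((nat_lit 120), [nat_lit 4, nat_lit 4, nat_lit 4, nat_lit 1, nat_lit 0])) (.leaf ((nat_lit 121), [nat_lit 4, nat_lit 4, nat_lit 4, nat_lit 2, nat_lit 0])))))))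
 (.node (nat_lit 227) (.node (nat_lit 223) (.node (nat_lit 221) (.node (nat_lit 220) (.leaf ((nat_lit 92), [nat_lit 3, nat_lit 0])) (.leaf ((nat_lit 122), [nat_lit 4, nat_lit 1, nat_lit 0]))) (.node (nat_lit 222) (.leaf ((nat_lit 9), [])) (.leaf ((nat_lit 123), [nat_lit 3, nat_lit 3, nat_lit 2]))))
 (.node (nat_lit 225) (.node (nat_lit 224) (.leaf ((nat_lit 124), [nat_lit 3])) (.leaf ((nat_lit 125), [nat_lit 4, nat_lit 0]))) (.node (nat_lit 226) (.leaf ((nat_lit 14), [nat_lit 4, nat_lit 4, nat_lit 1])) (.leaf ((nat_lit 126), [nat_lit 4, nat_lit 2])))))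
 (.node (nat_lit 231) (.node (nat_lit 229) (.node (nat_lit 228) (.leaf ((nat_lit 10), [nat_lit 3, nat_lit 3, nat_lit 2, nat_lit 1])) (.leaf ((nat_lit 11), [nat_lit 2, nat_lit 0]))) (.node (nat_lit 230) (.leaf ((nat_lit 127), [nat_lit 4, nat_lit 2, nat_lit 1])) (.leaf ((nat_lit 128), [nat_lit 4]))))
 (.node (nat_lit 233) (.node (nat_lit 232) (.leaf ((nat_lit 38), [nat_lit 1])) (.leaf ((nat_lit 129), [nat_lit 3, nat_lit 3, nat_lit 2, nat_lit 1, nat_lit 0]))) (.node (nat_lit 234) (.leaf ((nat_lit 46), [nat_lit 4, nat_lit 1])) (.node (nat_lit 235) (.leaf ((nat_lit 127), [nat_lit 2, nat_lit 1, nat_lit 0])) (.leaf ((nat_lit 11), [nat_lit 3]))))))))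
 (.node (nat_lit 253) (.node (nat_lit 244) (.node (nat_lit 240) (.node (nat_lit 238) (.node (nat_lit 237) (.leaf ((nat_lit 20), [nat_lit 3, nat_lit 1])) (.leaf ((nat_lit 130), [nat_lit 3, nat_lit 2, nat_lit 1, nat_lit 0]))) (.node (nat_lit 239) (.leaf ((nat_lit 131), [nat_lit 3, nat_lit 3, nat_lit 3, nat_lit 2, nat_lit 0])) (.leaf ((nat_lit 132), [nat_lit 4, nat_lit 4, nat_lit 1]))))
 (.node (nat_lit 242) (.node (nat_lit 241) (.leaf ((nat_lit 128), [nat_lit 2, nat_lit 0])) (.leaf ((nat_lit 20), [nat_lit 3, nat_lit 2]))) (.node (nat_lit 243) (.leaf ((nat_lit 11), [nat_lit 3, nat_lit 2, nat_lit 1])) (.leaf ((nat_lit 40), [nat_lit 1, nat_lit 0])))))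
 (.node (nat_lit 248) (.node (nat_lit 246) (.node (nat_lit 245) (.leaf ((nat_lit 133), [nat_lit 3, nat_lit 3, nat_lit 3, nat_lit 1, nat_lit 0])) (.leaf ((nat_lit 134), [nat_lit 4, nat_lit 2]))) (.node (nat_lit 247) (.leaf ((nat_lit 87), [nat_lit 3, nat_lit 3, nat_lit 2, nat_lit 1])) (.leaf ((nat_lit 135), [nat_lit 4, nat_lit 4, nat_lit 4, nat_lit 2]))))
 (.node (nat_lit 250) (.node (nat_lit 249) (.leaf ((nat_lit 136), [nat_lit 4, nat_lit 4, nat_lit 4, nat_lit 0])) (.leaf ((nat_lit 41), [nat_lit 1, nat_lit 0]))) (.node (nat_lit 251) (.leaf ((nat_lit 11), [nat_lit 4, nat_lit 4, nat_lit 2])) (.node (nat_lit 252) (.leaf ((nat_lit 137), [nat_lit 3, nat_lit 1, nat_lit 0])) (.leaf ((nat_lit 138), [nat_lit 2, nat_lit 0])))))))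
 (.node (nat_lit 261) (.node (nat_lit 257) (.node (nat_lit 255) (.node (nat_lit 254) (.leaf ((nat_lit 139), [nat_lit 4, nat_lit 1])) (.leaf ((nat_lit 140), [nat_lit 4, nat_lit 2, nat_lit 0]))) (.node (nat_lit 256) (.leaf ((nat_lit 12), [nat_lit 4, nat_lit 4, nat_lit 4, nat_lit 2])) (.leaf ((nat_lit 141), [nat_lit 4, nat_lit 4, nat_lit 4]))))
 (.node (nat_lit 259) (.node (nat_lit 258) (.leaf ((nat_lit 142), [nat_lit 2, nat_lit 1, nat_lit 0])) (.leaf ((nat_lit 43), [nat_lit 2, nat_lit 0]))) (.node (nat_lit 260) (.leaf ((nat_lit 43), [nat_lit 2])) (.leaf ((nat_lit 43), [nat_lit 2, nat_lit 1])))))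
 (.node (nat_lit 265) (.node (nat_lit 263) (.node (nat_lit 262) (.leaf ((nat_lit 141), [nat_lit 1, nat_lit 0])) (.leaf ((nat_lit 12), [nat_lit 2, nat_lit 1]))) (.node (nat_lit 264) (.leaf ((nat_lit 106), [nat_lit 3, nat_lit 3, nat_lit 3, nat_lit 2])) (.leaf ((nat_lit 143), [nat_lit 2, nat_lit 0]))))
 (.node (nat_lit 267) (.node (nat_lit 266) (.leaf ((nat_lit 141), [nat_lit 4, nat_lit 4, nat_lit 2, nat_lit 0])) (.leaf ((nat_lit 144), [nat_lit 4, nat_lit 4, nat_lit 0]))) (.node (nat_lit 268) (.leaf ((nat_lit 44), [nat_lit 2, nat_lit 1, nat_lit 0])) (.node (nat_lit 269) (.leaf ((nat_lit 145), [nat_lit 3, nat_lit 2, nat_lit 0])) (.leaf ((nat_lit 12), [nat_lit 4, nat_lit 4, nat_lit 4, nat_lit 1, nat_lit 0]))))))))))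
noncomputable def n12Wd_2 : Tr (ℕ × List ℕ) := (.node (nat_lit 337) (.node (nat_lit 303) (.node (nat_lit 286) (.node (nat_lit 278) (.node (nat_lit 274) (.node (nat_lit 272) (.node (nat_lit 271) (.leaf ((nat_lit 13), [nat_lit 2, nat_lit 0])) (.leaf ((nat_lit 75), [nat_lit 4, nat_lit 4, nat_lit 4, nat_lit 1]))) (.node (nat_lit 273) (.leaf ((nat_lit 146), [nat_lit 2, nat_lit 1])) (.leaf ((nat_lit 147), [nat_lit 3, nat_lit 3, nat_lit 1, nat_lit 0]))))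
 (.node (nat_lit 276) (.node (nat_lit 275) (.leaf ((nat_lit 45), [nat_lit 1, nat_lit 0])) (.leaf ((nat_lit 148), [nat_lit 3, nat_lit 2, nat_lit 1, nat_lit 0]))) (.node (nat_lit 277) (.leaf ((nat_lit 75), [nat_lit 3, nat_lit 3, nat_lit 3, nat_lit 2, nat_lit 1])) (.leaf ((nat_lit 13), [nat_lit 4, nat_lit 2, nat_lit 0])))))
 (.node (nat_lit 282) (.node (nat_lit 280) (.node (nat_lit 279) (.leaf ((nat_lit 149), [nat_lit 4, nat_lit 0])) (.leaf ((nat_lit 18), [nat_lit 3]))) (.node (nat_lit 281) (.leaf ((nat_lit 150), [nat_lit 4, nat_lit 1])) (.leaf ((nat_lit 38), [nat_lit 3, nat_lit 2, nat_lit 0]))))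
 (.node (nat_lit 284) (.node (nat_lit 283) (.leaf ((nat_lit 146), [nat_lit 4, nat_lit 4, nat_lit 4, nat_lit 2])) (.leaf ((nat_lit 149), [nat_lit 4, nat_lit 4, nat_lit 4, nat_lit 1]))) (.node (nat_lit 285) (.leaf ((nat_lit 13), [nat_lit 4, nat_lit 4, nat_lit 4, nat_lit 2, nat_lit 0])) (.leaf ((nat_lit 119), [nat_lit 0]))))))
 (.node (nat_lit 294) (.node (nat_lit 290) (.node (nat_lit 288) (.node (nat_lit 287) (.leaf ((nat_lit 151), [nat_lit 4, nat_lit 4, nat_lit 4])) (.leaf ((nat_lit 136), [nat_lit 2, nat_lit 1, nat_lit 0]))) (.node (nat_lit 289) (.leaf ((nat_lit 97), [nat_lit 2, nat_lit 1])) (.leaf ((nat_lit 96), [nat_lit 3, nat_lit 3, nat_lit 2, nat_lit 0]))))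
 (.node (nat_lit 292) (.node (nat_lit 291) (.leaf ((nat_lit 152), [nat_lit 3, nat_lit 3, nat_lit 2, nat_lit 1, nat_lit 0])) (.leaf ((nat_lit 153), [nat_lit 4, nat_lit 2, nat_lit 1]))) (.node (nat_lit 293) (.leaf ((nat_lit 154), [nat_lit 3, nat_lit 3, nat_lit 3, nat_lit 2, nat_lit 1, nat_lit 0])) (.leaf ((nat_lit 13), [nat_lit 4, nat_lit 4, nat_lit 4, nat_lit 1, nat_lit 0])))))
 (.node (nat_lit 298) (.node (nat_lit 296) (.node (nat_lit 295) (.leaf ((nat_lit 14), [nat_lit 2, nat_lit 1])) (.leaf ((nat_lit 99), [nat_lit 3, nat_lit 3, nat_lit 3, nat_lit 0]))) (.node (nat_lit 297) (.leaf ((nat_lit 56), [nat_lit 3, nat_lit 3, nat_lit 3])) (.leaf ((nat_lit 57), [nat_lit 4, nat_lit 4, nat_lit 4, nat_lit 2, nat_lit 1]))))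
 (.node (nat_lit 300) (.node (nat_lit 299) (.leaf ((nat_lit 155), [nat_lit 1, nat_lit 0])) (.leaf ((nat_lit 156), [nat_lit 4, nat_lit 2]))) (.node (nat_lit 301) (.leaf ((nat_lit 99), [nat_lit 1, nat_lit 0])) (.node (nat_lit 302) (.leaf ((nat_lit 14), [nat_lit 4, nat_lit 4, nat_lit 4, nat_lit 0])) (.leaf ((nat_lit 157), [nat_lit 4, nat_lit 4, nat_lit 4, nat_lit 2, nat_lit 0]))))))))
 (.node (nat_lit 320) (.node (nat_lit 311) (.node (nat_lit 307) (.node (nat_lit 305) (.node (nat_lit 304) (.leaf ((nat_lit 158), [nat_lit 3, nat_lit 2, nat_lit 0])) (.leaf ((nat_lit 159), [nat_lit 4, nat_lit 4, nat_lit 4, nat_lit 2, nat_lit 0]))) (.node (nat_lit 306) (.leaf ((nat_lit 160), [nat_lit 3, nat_lit 3, nat_lit 3, nat_lit 0])) (.leaf ((nat_lit 56), [nat_lit 2, nat_lit 0]))))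
 (.node (nat_lit 309) (.node (nat_lit 308) (.leaf ((nat_lit 157), [nat_lit 4, nat_lit 4, nat_lit 4, nat_lit 2])) (.leaf ((nat_lit 14), [nat_lit 4, nat_lit 4, nat_lit 4]))) (.node (nat_lit 310) (.leaf ((nat_lit 98), [])) (.leaf ((nat_lit 161), [nat_lit 4, nat_lit 4, nat_lit 4, nat_lit 2])))))
 (.node (nat_lit 315) (.node (nat_lit 313) (.node (nat_lit 312) (.leaf ((nat_lit 162), [nat_lit 3, nat_lit 3, nat_lit 3])) (.leaf ((nat_lit 163), [nat_lit 3, nat_lit 3]))) (.node (nat_lit 314) (.leaf ((nat_lit 105), [nat_lit 3, nat_lit 3, nat_lit 3, nat_lit 2, nat_lit 1])) (.leaf ((nat_lit 104), [nat_lit 3, nat_lit 3, nat_lit 3, nat_lit 2, nat_lit 0]))))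
 (.node (nat_lit 317) (.node (nat_lit 316) (.leaf ((nat_lit 126), [nat_lit 3, nat_lit 2])) (.leaf ((nat_lit 14), [nat_lit 2, nat_lit 0]))) (.node (nat_lit 318) (.leaf ((nat_lit 28), [nat_lit 4, nat_lit 1, nat_lit 0])) (.node (nat_lit 319) (.leaf ((nat_lit 15), [nat_lit 2])) (.leaf ((nat_lit 164), [nat_lit 3, nat_lit 3, nat_lit 3])))))))
 (.node (nat_lit 328) (.node (nat_lit 324) (.node (nat_lit 322) (.node (nat_lit 321) (.leaf ((nat_lit 165), [nat_lit 1])) (.leaf ((nat_lit 166), [nat_lit 4, nat_lit 0]))) (.node (nat_lit 323) (.leaf ((nat_lit 53), [nat_lit 2, nat_lit 1, nat_lit 0])) (.leaf ((nat_lit 167), [nat_lit 4, nat_lit 4, nat_lit 4, nat_lit 1, nat_lit 0]))))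
 (.node (nat_lit 326) (.node (nat_lit 325) (.leaf ((nat_lit 164), [nat_lit 3, nat_lit 3, nat_lit 1, nat_lit 0])) (.leaf ((nat_lit 15), [nat_lit 4, nat_lit 2, nat_lit 0]))) (.node (nat_lit 327) (.leaf ((nat_lit 168), [nat_lit 4, nat_lit 0])) (.leaf ((nat_lit 139), [nat_lit 4, nat_lit 4, nat_lit 0])))))
 (.node (nat_lit 332) (.node (nat_lit 330) (.node (nat_lit 329) (.leaf ((nat_lit 169), [nat_lit 4])) (.leaf ((nat_lit 81), [nat_lit 4, nat_lit 4, nat_lit 1]))) (.node (nat_lit 331) (.leaf ((nat_lit 165), [nat_lit 4, nat_lit 4, nat_lit 1, nat_lit 0])) (.leaf ((nat_lit 168), [nat_lit 4, nat_lit 4, nat_lit 2, nat_lit 1]))))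
 (.node (nat_lit 334) (.node (nat_lit 333) (.leaf ((nat_lit 15), [nat_lit 4, nat_lit 4])) (.leaf ((nat_lit 170), [nat_lit 0]))) (.node (nat_lit 335) (.leaf ((nat_lit 171), [nat_lit 4, nat_lit 4, nat_lit 1])) (.node (nat_lit 336) (.leaf ((nat_lit 128), [nat_lit 3, nat_lit 3, nat_lit 2, nat_lit 0])) (.leaf ((nat_lit 51), [nat_lit 2, nat_lit 0])))))))))
 (.node (nat_lit 371) (.node (nat_lit 354) (.node (nat_lit 345) (.node (nat_lit 341) (.node (nat_lit 339) (.node (nat_lit 338) (.leaf ((nat_lit 172), [nat_lit 3, nat_lit 3, nat_lit 2, nat_lit 0])) (.leaf ((nat_lit 49), [nat_lit 4, nat_lit 4, nat_lit 4]))) (.node (nat_lit 340) (.leaf ((nat_lit 173), [nat_lit 3, nat_lit 3, nat_lit 2, nat_lit 1, nat_lit 0])) (.leaf ((nat_lit 148), [nat_lit 4, nat_lit 4, nat_lit 4, nat_lit 0]))))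
 (.node (nat_lit 343) (.node (nat_lit 342) (.leaf ((nat_lit 15), [nat_lit 3, nat_lit 3, nat_lit 3, nat_lit 0])) (.leaf ((nat_lit 16), [nat_lit 2, nat_lit 0]))) (.node (nat_lit 344) (.leaf ((nat_lit 174), [nat_lit 4, nat_lit 4, nat_lit 4, nat_lit 2])) (.leaf ((nat_lit 167), [nat_lit 4])))))
 (.node (nat_lit 349) (.node (nat_lit 347) (.node (nat_lit 346) (.leaf ((nat_lit 49), [nat_lit 3, nat_lit 3, nat_lit 3, nat_lit 1])) (.leaf ((nat_lit 175), [nat_lit 4, nat_lit 4, nat_lit 4, nat_lit 2]))) (.node (nat_lit 348) (.leaf ((nat_lit 176), [nat_lit 3, nat_lit 3, nat_lit 2, nat_lit 1, nat_lit 0])) (.leaf ((nat_lit 174), [nat_lit 4, nat_lit 4]))))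
 (.node (nat_lit 351) (.node (nat_lit 350) (.leaf ((nat_lit 16), [nat_lit 3, nat_lit 1])) (.leaf ((nat_lit 177), [nat_lit 3, nat_lit 2]))) (.node (nat_lit 352) (.leaf ((nat_lit 178), [nat_lit 4, nat_lit 4, nat_lit 4, nat_lit 0])) (.node (nat_lit 353) (.leaf ((nat_lit 179), [nat_lit 4, nat_lit 4])) (.leaf ((nat_lit 180), [nat_lit 4, nat_lit 2, nat_lit 0])))))))
 (.node (nat_lit 362) (.node (nat_lit 358) (.node (nat_lit 356) (.node (nat_lit 355) (.leaf ((nat_lit 167), [nat_lit 2, nat_lit 0])) (.leaf ((nat_lit 177), [nat_lit 3]))) (.node (nat_lit 357) (.leaf ((nat_lit 16), [nat_lit 3, nat_lit 2, nat_lit 1])) (.leaf ((nat_lit 105), [nat_lit 3, nat_lit 3]))))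
 (.node (nat_lit 360) (.node (nat_lit 359) (.leaf ((nat_lit 181), [nat_lit 4, nat_lit 4, nat_lit 2])) (.leaf ((nat_lit 182), [nat_lit 3, nat_lit 3, nat_lit 3, nat_lit 2, nat_lit 0]))) (.node (nat_lit 361) (.leaf ((nat_lit 183), [])) (.leaf ((nat_lit 184), [nat_lit 3, nat_lit 3, nat_lit 3, nat_lit 2, nat_lit 1, nat_lit 0])))))
 (.node (nat_lit 366) (.node (nat_lit 364) (.node (nat_lit 363) (.leaf ((nat_lit 185), [nat_lit 3, nat_lit 3, nat_lit 3])) (.leaf ((nat_lit 16), [nat_lit 4, nat_lit 4, nat_lit 4]))) (.node (nat_lit 365) (.leaf ((nat_lit 186), [nat_lit 3, nat_lit 3, nat_lit 0])) (.leaf ((nat_lit 93), [nat_lit 4, nat_lit 4, nat_lit 4, nat_lit 2, nat_lit 1]))))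
 (.node (nat_lit 368) (.node (nat_lit 367) (.leaf ((nat_lit 187), [nat_lit 4, nat_lit 4, nat_lit 2, nat_lit 0])) (.leaf ((nat_lit 188), [nat_lit 3, nat_lit 3]))) (.node (nat_lit 369) (.leaf ((nat_lit 189), [nat_lit 3, nat_lit 3, nat_lit 1])) (.node (nat_lit 370) (.leaf ((nat_lit 186), [nat_lit 3, nat_lit 2, nat_lit 1, nat_lit 0])) (.leaf ((nat_lit 16), [nat_lit 3, nat_lit 3, nat_lit 3, nat_lit 1, nat_lit 0]))))))))
 (.node (nat_lit 388) (.node (nat_lit 379) (.node (nat_lit 375) (.node (nat_lit 373) (.node (nat_lit 372) (.leaf ((nat_lit 190), [nat_lit 4, nat_lit 4, nat_lit 1])) (.leaf ((nat_lit 18), [nat_lit 2, nat_lit 0]))) (.node (nat_lit 374) (.leaf ((nat_lit 17), [nat_lit 4, nat_lit 4, nat_lit 2])) (.leaf ((nat_lit 191), [nat_lit 4, nat_lit 4]))))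
 (.node (nat_lit 377) (.node (nat_lit 376) (.leaf ((nat_lit 137), [nat_lit 4, nat_lit 2, nat_lit 0])) (.leaf ((nat_lit 90), [nat_lit 3, nat_lit 0]))) (.node (nat_lit 378) (.leaf ((nat_lit 170), [nat_lit 4, nat_lit 4, nat_lit 2, nat_lit 1, nat_lit 0])) (.leaf ((nat_lit 19), [nat_lit 2, nat_lit 1, nat_lit 0])))))
 (.node (nat_lit 383) (.node (nat_lit 381) (.node (nat_lit 380) (.leaf ((nat_lit 191), [nat_lit 4, nat_lit 4, nat_lit 2])) (.leaf ((nat_lit 17), [nat_lit 4, nat_lit 4]))) (.node (nat_lit 382) (.leaf ((nat_lit 115), [nat_lit 4])) (.leaf ((nat_lit 114), [nat_lit 3, nat_lit 2, nat_lit 0]))))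
 (.node (nat_lit 385) (.node (nat_lit 384) (.leaf ((nat_lit 192), [nat_lit 4, nat_lit 4, nat_lit 0])) (.leaf ((nat_lit 109), [nat_lit 4, nat_lit 4, nat_lit 4, nat_lit 1]))) (.node (nat_lit 386) (.leaf ((nat_lit 193), [nat_lit 3])) (.node (nat_lit 387) (.leaf ((nat_lit 166), [nat_lit 3, nat_lit 1, nat_lit 0])) (.leaf ((nat_lit 17), [nat_lit 4, nat_lit 1])))))))
 (.node (nat_lit 396) (.node (nat_lit 392) (.node (nat_lit 390) (.node (nat_lit 389) (.leaf ((nat_lit 85), [nat_lit 3, nat_lit 2, nat_lit 1, nat_lit 0])) (.leaf ((nat_lit 91), [nat_lit 4]))) (.node (nat_lit 391) (.leaf ((nat_lit 113), [nat_lit 2, nat_lit 0])) (.leaf ((nat_lit 142), [nat_lit 4, nat_lit 2, nat_lit 1, nat_lit 0]))))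
 (.node (nat_lit 394) (.node (nat_lit 393) (.leaf ((nat_lit 194), [nat_lit 4])) (.leaf ((nat_lit 27), [nat_lit 4, nat_lit 4, nat_lit 4, nat_lit 2, nat_lit 0]))) (.node (nat_lit 395) (.leaf ((nat_lit 195), [nat_lit 4, nat_lit 4, nat_lit 4, nat_lit 0])) (.leaf ((nat_lit 17), [nat_lit 2, nat_lit 0])))))
 (.node (nat_lit 400) (.node (nat_lit 398) (.node (nat_lit 397) (.leaf ((nat_lit 191), [nat_lit 2, nat_lit 0])) (.leaf ((nat_lit 19), [nat_lit 3, nat_lit 3, nat_lit 1, nat_lit 0]))) (.node (nat_lit 399) (.leaf ((nat_lit 18), [nat_lit 3, nat_lit 3, nat_lit 1])) (.leaf ((nat_lit 196), [nat_lit 3, nat_lit 0]))))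
 (.node (nat_lit 402) (.node (nat_lit 401) (.leaf ((nat_lit 197), [nat_lit 3, nat_lit 3, nat_lit 3])) (.leaf ((nat_lit 181), [nat_lit 3, nat_lit 3, nat_lit 1, nat_lit 0]))) (.node (nat_lit 403) (.leaf ((nat_lit 112), [nat_lit 4, nat_lit 4, nat_lit 0])) (.node (nat_lit 404) (.leaf ((nat_lit 133), [nat_lit 3, nat_lit 3, nat_lit 1, nat_lit 0])) (.leaf ((nat_lit 198), [nat_lit 4, nat_lit 4, nat_lit 4]))))))))))
noncomputable def n12Wd_3 : Tr (ℕ × List ℕ) := (.node (nat_lit 472) (.node (nat_lit 438) (.node (nat_lit 421) (.node (nat_lit 413) (.node (nat_lit 409) (.node (nat_lit 407) (.node (nat_lit 406) (.leaf ((nat_lit 150), [nat_lit 4, nat_lit 4, nat_lit 4, nat_lit 1])) (.leaf ((nat_lit 18), [nat_lit 4, nat_lit 2, nat_lit 1]))) (.node (nat_lit 408) (.leaf ((nat_lit 199), [nat_lit 4, nat_lit 2, nat_lit 0])) (.leaf ((nat_lit 200), [nat_lit 2, nat_lit 0]))))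
 (.node (nat_lit 411) (.node (nat_lit 410) (.leaf ((nat_lit 201), [nat_lit 4, nat_lit 4, nat_lit 4, nat_lit 2, nat_lit 1])) (.leaf ((nat_lit 202), [nat_lit 4, nat_lit 4, nat_lit 4]))) (.node (nat_lit 412) (.leaf ((nat_lit 83), [nat_lit 3, nat_lit 3, nat_lit 3, nat_lit 2, nat_lit 1])) (.leaf ((nat_lit 203), [nat_lit 4, nat_lit 2, nat_lit 0])))))
 (.node (nat_lit 417) (.node (nat_lit 415) (.node (nat_lit 414) (.leaf ((nat_lit 18), [nat_lit 1])) (.leaf ((nat_lit 114), [nat_lit 3, nat_lit 3, nat_lit 2, nat_lit 0]))) (.node (nat_lit 416) (.leaf ((nat_lit 204), [nat_lit 4, nat_lit 2, nat_lit 0])) (.leaf ((nat_lit 170), [nat_lit 4, nat_lit 4, nat_lit 4, nat_lit 1, nat_lit 0]))))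
 (.node (nat_lit 419) (.node (nat_lit 418) (.leaf ((nat_lit 19), [nat_lit 3, nat_lit 2])) (.leaf ((nat_lit 108), [nat_lit 3, nat_lit 2, nat_lit 1]))) (.node (nat_lit 420) (.leaf ((nat_lit 205), [nat_lit 4])) (.leaf ((nat_lit 115), [nat_lit 4, nat_lit 4, nat_lit 0]))))))
 (.node (nat_lit 429) (.node (nat_lit 425) (.node (nat_lit 423) (.node (nat_lit 422) (.leaf ((nat_lit 206), [nat_lit 4, nat_lit 4, nat_lit 4])) (.leaf ((nat_lit 131), [nat_lit 3, nat_lit 3, nat_lit 1, nat_lit 0]))) (.node (nat_lit 424) (.leaf ((nat_lit 108), [nat_lit 4, nat_lit 2, nat_lit 0])) (.leaf ((nat_lit 19), [nat_lit 4, nat_lit 0]))))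
 (.node (nat_lit 427) (.node (nat_lit 426) (.leaf ((nat_lit 207), [nat_lit 4, nat_lit 4, nat_lit 4, nat_lit 2, nat_lit 0])) (.leaf ((nat_lit 208), [nat_lit 2, nat_lit 0]))) (.node (nat_lit 428) (.leaf ((nat_lit 209), [nat_lit 4, nat_lit 4, nat_lit 4, nat_lit 0])) (.leaf ((nat_lit 210), [nat_lit 4, nat_lit 2, nat_lit 0])))))
 (.node (nat_lit 433) (.node (nat_lit 431) (.node (nat_lit 430) (.leaf ((nat_lit 211), [nat_lit 3, nat_lit 3, nat_lit 3, nat_lit 2, nat_lit 0])) (.leaf ((nat_lit 187), [nat_lit 3, nat_lit 3, nat_lit 2, nat_lit 0]))) (.node (nat_lit 432) (.leaf ((nat_lit 19), [nat_lit 3, nat_lit 3, nat_lit 0])) (.leaf ((nat_lit 20), [nat_lit 3, nat_lit 3, nat_lit 2, nat_lit 0]))))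
 (.node (nat_lit 435) (.node (nat_lit 434) (.leaf ((nat_lit 128), [nat_lit 3, nat_lit 2, nat_lit 1, nat_lit 0])) (.leaf ((nat_lit 127), [nat_lit 3, nat_lit 2, nat_lit 1]))) (.node (nat_lit 436) (.leaf ((nat_lit 212), [nat_lit 3, nat_lit 0])) (.node (nat_lit 437) (.leaf ((nat_lit 32), [nat_lit 4, nat_lit 4, nat_lit 4, nat_lit 1, nat_lit 0])) (.leaf ((nat_lit 213), [nat_lit 4, nat_lit 0]))))))))
 (.node (nat_lit 455) (.node (nat_lit 446) (.node (nat_lit 442) (.node (nat_lit 440) (.node (nat_lit 439) (.leaf ((nat_lit 214), [nat_lit 4, nat_lit 4, nat_lit 1])) (.leaf ((nat_lit 215), [nat_lit 4, nat_lit 4]))) (.node (nat_lit 441) (.leaf ((nat_lit 216), [nat_lit 4, nat_lit 4])) (.leaf ((nat_lit 217), [nat_lit 3, nat_lit 3, nat_lit 2, nat_lit 0]))))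
 (.node (nat_lit 444) (.node (nat_lit 443) (.leaf ((nat_lit 218), [nat_lit 3])) (.leaf ((nat_lit 20), [nat_lit 3, nat_lit 3, nat_lit 3, nat_lit 2]))) (.node (nat_lit 445) (.leaf ((nat_lit 111), [nat_lit 2, nat_lit 0])) (.leaf ((nat_lit 108), [nat_lit 3, nat_lit 3, nat_lit 2, nat_lit 1, nat_lit 0])))))
 (.node (nat_lit 450) (.node (nat_lit 448) (.node (nat_lit 447) (.leaf ((nat_lit 21), [nat_lit 3, nat_lit 3, nat_lit 2, nat_lit 0])) (.leaf ((nat_lit 219), [nat_lit 3, nat_lit 3, nat_lit 3, nat_lit 2, nat_lit 1, nat_lit 0]))) (.node (nat_lit 449) (.leaf ((nat_lit 220), [nat_lit 3, nat_lit 1, nat_lit 0])) (.leaf ((nat_lit 221), [nat_lit 3, nat_lit 3, nat_lit 2, nat_lit 1, nat_lit 0]))))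
 (.node (nat_lit 452) (.node (nat_lit 451) (.leaf ((nat_lit 46), [nat_lit 4, nat_lit 4, nat_lit 4, nat_lit 2, nat_lit 0])) (.leaf ((nat_lit 45), [nat_lit 3, nat_lit 3, nat_lit 3, nat_lit 2, nat_lit 1, nat_lit 0]))) (.node (nat_lit 453) (.leaf ((nat_lit 222), [nat_lit 3, nat_lit 3, nat_lit 3, nat_lit 2])) (.node (nat_lit 454) (.leaf ((nat_lit 21), [nat_lit 4, nat_lit 4, nat_lit 1])) (.leaf ((nat_lit 223), [nat_lit 3, nat_lit 3, nat_lit 3, nat_lit 1, nat_lit 0])))))))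
 (.node (nat_lit 463) (.node (nat_lit 459) (.node (nat_lit 457) (.node (nat_lit 456) (.leaf ((nat_lit 89), [nat_lit 3, nat_lit 3, nat_lit 3, nat_lit 0])) (.leaf ((nat_lit 90), [nat_lit 3, nat_lit 3, nat_lit 2, nat_lit 0]))) (.node (nat_lit 458) (.leaf ((nat_lit 89), [nat_lit 4, nat_lit 4, nat_lit 4, nat_lit 1, nat_lit 0])) (.leaf ((nat_lit 224), [nat_lit 4, nat_lit 2, nat_lit 0]))))
 (.node (nat_lit 461) (.node (nat_lit 460) (.leaf ((nat_lit 223), [nat_lit 4, nat_lit 2])) (.leaf ((nat_lit 21), [nat_lit 3, nat_lit 2, nat_lit 1, nat_lit 0]))) (.node (nat_lit 462) (.leaf ((nat_lit 225), [nat_lit 3, nat_lit 1, nat_lit 0])) (.leaf ((nat_lit 22), [nat_lit 3, nat_lit 3, nat_lit 1, nat_lit 0])))))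
 (.node (nat_lit 467) (.node (nat_lit 465) (.node (nat_lit 464) (.leaf ((nat_lit 226), [nat_lit 3, nat_lit 3, nat_lit 3, nat_lit 1, nat_lit 0])) (.leaf ((nat_lit 227), [nat_lit 3, nat_lit 3, nat_lit 3, nat_lit 2]))) (.node (nat_lit 466) (.leaf ((nat_lit 228), [nat_lit 4, nat_lit 4, nat_lit 2, nat_lit 1])) (.leaf ((nat_lit 229), [nat_lit 1, nat_lit 0]))))
 (.node (nat_lit 469) (.node (nat_lit 468) (.leaf ((nat_lit 230), [nat_lit 4, nat_lit 4, nat_lit 4, nat_lit 1, nat_lit 0])) (.leaf ((nat_lit 226), [nat_lit 3, nat_lit 3, nat_lit 2]))) (.node (nat_lit 470) (.leaf ((nat_lit 22), [nat_lit 3, nat_lit 2])) (.node (nat_lit 471) (.leaf ((nat_lit 231), [nat_lit 3, nat_lit 0])) (.leaf ((nat_lit 232), [nat_lit 4, nat_lit 4, nat_lit 4, nat_lit 2])))))))))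
 (.node (nat_lit 506) (.node (nat_lit 489) (.node (nat_lit 480) (.node (nat_lit 476) (.node (nat_lit 474) (.node (nat_lit 473) (.leaf ((nat_lit 233), [nat_lit 4, nat_lit 2])) (.leaf ((nat_lit 234), [nat_lit 4, nat_lit 4, nat_lit 1]))) (.node (nat_lit 475) (.leaf ((nat_lit 227), [nat_lit 0])) (.leaf ((nat_lit 231), [nat_lit 4, nat_lit 1]))))
 (.node (nat_lit 478) (.node (nat_lit 477) (.leaf ((nat_lit 22), [nat_lit 4, nat_lit 1, nat_lit 0])) (.leaf ((nat_lit 125), [nat_lit 3, nat_lit 3, nat_lit 3, nat_lit 0]))) (.node (nat_lit 479) (.leaf ((nat_lit 235), [nat_lit 4, nat_lit 4, nat_lit 4, nat_lit 1, nat_lit 0])) (.leaf ((nat_lit 236), [nat_lit 3])))))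
 (.node (nat_lit 484) (.node (nat_lit 482) (.node (nat_lit 481) (.leaf ((nat_lit 237), [])) (.leaf ((nat_lit 238), [nat_lit 3, nat_lit 0]))) (.node (nat_lit 483) (.leaf ((nat_lit 239), [nat_lit 3, nat_lit 3, nat_lit 3, nat_lit 2])) (.leaf ((nat_lit 99), [nat_lit 4, nat_lit 2, nat_lit 0]))))
 (.node (nat_lit 486) (.node (nat_lit 485) (.leaf ((nat_lit 22), [nat_lit 3, nat_lit 3])) (.leaf ((nat_lit 240), [nat_lit 4, nat_lit 4, nat_lit 4, nat_lit 2, nat_lit 1, nat_lit 0]))) (.node (nat_lit 487) (.leaf ((nat_lit 25), [nat_lit 2, nat_lit 0])) (.node (nat_lit 488) (.leaf ((nat_lit 117), [nat_lit 4, nat_lit 2, nat_lit 0])) (.leaf ((nat_lit 23), [nat_lit 4, nat_lit 1])))))))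
 (.node (nat_lit 497) (.node (nat_lit 493) (.node (nat_lit 491) (.node (nat_lit 490) (.leaf ((nat_lit 81), [nat_lit 2, nat_lit 1])) (.leaf ((nat_lit 144), [nat_lit 4, nat_lit 4, nat_lit 4, nat_lit 2, nat_lit 1]))) (.node (nat_lit 492) (.leaf ((nat_lit 54), [nat_lit 3, nat_lit 3, nat_lit 1, nat_lit 0])) (.leaf ((nat_lit 133), [nat_lit 4, nat_lit 4, nat_lit 1, nat_lit 0]))))
 (.node (nat_lit 495) (.node (nat_lit 494) (.leaf ((nat_lit 112), [nat_lit 3, nat_lit 2])) (.leaf ((nat_lit 145), [nat_lit 3, nat_lit 3, nat_lit 3, nat_lit 1]))) (.node (nat_lit 496) (.leaf ((nat_lit 82), [nat_lit 1, nat_lit 0])) (.leaf ((nat_lit 23), [nat_lit 3, nat_lit 3, nat_lit 2, nat_lit 0])))))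
 (.node (nat_lit 501) (.node (nat_lit 499) (.node (nat_lit 498) (.leaf ((nat_lit 27), [nat_lit 4, nat_lit 4, nat_lit 4])) (.leaf ((nat_lit 92), [nat_lit 4, nat_lit 4, nat_lit 2, nat_lit 0]))) (.node (nat_lit 500) (.leaf ((nat_lit 241), [nat_lit 3, nat_lit 2])) (.leaf ((nat_lit 94), [nat_lit 3, nat_lit 2, nat_lit 0]))))
 (.node (nat_lit 503) (.node (nat_lit 502) (.leaf ((nat_lit 68), [nat_lit 4, nat_lit 4, nat_lit 4, nat_lit 2, nat_lit 0])) (.leaf ((nat_lit 242), [nat_lit 3, nat_lit 0]))) (.node (nat_lit 504) (.leaf ((nat_lit 23), [nat_lit 4, nat_lit 4, nat_lit 4, nat_lit 1, nat_lit 0])) (.node (nat_lit 505) (.leaf ((nat_lit 117), [nat_lit 2, nat_lit 1, nat_lit 0])) (.leaf ((nat_lit 25), [nat_lit 3, nat_lit 2, nat_lit 1, nat_lit 0]))))))))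
 (.node (nat_lit 523) (.node (nat_lit 514) (.node (nat_lit 510) (.node (nat_lit 508) (.node (nat_lit 507) (.leaf ((nat_lit 24), [nat_lit 3, nat_lit 2, nat_lit 0])) (.leaf ((nat_lit 234), [nat_lit 3, nat_lit 0]))) (.node (nat_lit 509) (.leaf ((nat_lit 120), [nat_lit 4, nat_lit 4])) (.leaf ((nat_lit 243), [nat_lit 3, nat_lit 3, nat_lit 3, nat_lit 2, nat_lit 1]))))
 (.node (nat_lit 512) (.node (nat_lit 511) (.leaf ((nat_lit 85), [nat_lit 0])) (.leaf ((nat_lit 85), [nat_lit 1, nat_lit 0]))) (.node (nat_lit 513) (.leaf ((nat_lit 85), [nat_lit 2, nat_lit 1])) (.leaf ((nat_lit 24), [nat_lit 3, nat_lit 2, nat_lit 1, nat_lit 0])))))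
 (.node (nat_lit 518) (.node (nat_lit 516) (.node (nat_lit 515) (.leaf ((nat_lit 64), [nat_lit 4, nat_lit 1, nat_lit 0])) (.leaf ((nat_lit 238), [nat_lit 3, nat_lit 3, nat_lit 3, nat_lit 1]))) (.node (nat_lit 517) (.leaf ((nat_lit 244), [nat_lit 3, nat_lit 3, nat_lit 2])) (.leaf ((nat_lit 160), [nat_lit 4, nat_lit 0]))))
 (.node (nat_lit 520) (.node (nat_lit 519) (.leaf ((nat_lit 245), [nat_lit 3])) (.leaf ((nat_lit 199), [nat_lit 4, nat_lit 4, nat_lit 4, nat_lit 2, nat_lit 0]))) (.node (nat_lit 521) (.leaf ((nat_lit 236), [nat_lit 4, nat_lit 2])) (.node (nat_lit 522) (.leaf ((nat_lit 24), [nat_lit 4, nat_lit 4, nat_lit 2])) (.leaf ((nat_lit 41), [nat_lit 4, nat_lit 4, nat_lit 1, nat_lit 0])))))))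
 (.node (nat_lit 531) (.node (nat_lit 527) (.node (nat_lit 525) (.node (nat_lit 524) (.leaf ((nat_lit 122), [nat_lit 3, nat_lit 3])) (.leaf ((nat_lit 246), [nat_lit 3, nat_lit 3, nat_lit 1]))) (.node (nat_lit 526) (.leaf ((nat_lit 87), [nat_lit 2, nat_lit 1, nat_lit 0])) (.leaf ((nat_lit 25), [nat_lit 3, nat_lit 3, nat_lit 3, nat_lit 2]))))
 (.node (nat_lit 529) (.node (nat_lit 528) (.leaf ((nat_lit 247), [nat_lit 3, nat_lit 3, nat_lit 3, nat_lit 2, nat_lit 0])) (.leaf ((nat_lit 248), [nat_lit 3, nat_lit 3, nat_lit 3, nat_lit 1, nat_lit 0]))) (.node (nat_lit 530) (.leaf ((nat_lit 249), [nat_lit 3, nat_lit 2, nat_lit 1, nat_lit 0])) (.leaf ((nat_lit 30), [nat_lit 3, nat_lit 2])))))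
 (.node (nat_lit 535) (.node (nat_lit 533) (.node (nat_lit 532) (.leaf ((nat_lit 120), [nat_lit 4, nat_lit 4, nat_lit 1, nat_lit 0])) (.leaf ((nat_lit 234), [nat_lit 3, nat_lit 1]))) (.node (nat_lit 534) (.leaf ((nat_lit 25), [nat_lit 4, nat_lit 4, nat_lit 2])) (.leaf ((nat_lit 26), [nat_lit 3, nat_lit 3, nat_lit 2, nat_lit 1]))))
 (.node (nat_lit 537) (.node (nat_lit 536) (.leaf ((nat_lit 76), [nat_lit 3, nat_lit 3, nat_lit 3, nat_lit 2])) (.leaf ((nat_lit 250), [nat_lit 4, nat_lit 4, nat_lit 2, nat_lit 0]))) (.node (nat_lit 538) (.leaf ((nat_lit 89), [nat_lit 2, nat_lit 1])) (.node (nat_lit 539) (.leaf ((nat_lit 128), [nat_lit 4, nat_lit 4, nat_lit 4, nat_lit 2, nat_lit 0])) (.leaf ((nat_lit 75), [nat_lit 4, nat_lit 4, nat_lit 4, nat_lit 2, nat_lit 1, nat_lit 0]))))))))))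
noncomputable def n12Wd_4 : Tr (ℕ × List ℕ) := (.node (nat_lit 607) (.node (nat_lit 573) (.node (nat_lit 556) (.node (nat_lit 548) (.node (nat_lit 544) (.node (nat_lit 542) (.node (nat_lit 541) (.leaf ((nat_lit 76), [nat_lit 4, nat_lit 4, nat_lit 0])) (.leaf ((nat_lit 26), [nat_lit 4, nat_lit 4, nat_lit 4, nat_lit 1]))) (.node (nat_lit 543) (.leaf ((nat_lit 251), [nat_lit 4, nat_lit 4, nat_lit 4, nat_lit 2])) (.leaf ((nat_lit 252), [nat_lit 4, nat_lit 4, nat_lit 4, nat_lit 1]))))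
 (.node (nat_lit 546) (.node (nat_lit 545) (.leaf ((nat_lit 62), [nat_lit 4, nat_lit 2])) (.leaf ((nat_lit 217), [nat_lit 4, nat_lit 2, nat_lit 1, nat_lit 0]))) (.node (nat_lit 547) (.leaf ((nat_lit 250), [nat_lit 2, nat_lit 0])) (.leaf ((nat_lit 251), [nat_lit 4, nat_lit 4, nat_lit 4, nat_lit 2, nat_lit 0])))))
 (.node (nat_lit 552) (.node (nat_lit 550) (.node (nat_lit 549) (.leaf ((nat_lit 26), [nat_lit 4, nat_lit 4, nat_lit 4, nat_lit 1, nat_lit 0])) (.leaf ((nat_lit 91), [nat_lit 1, nat_lit 0]))) (.node (nat_lit 551) (.leaf ((nat_lit 246), [nat_lit 4, nat_lit 2, nat_lit 0])) (.leaf ((nat_lit 64), [nat_lit 3]))))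
 (.node (nat_lit 554) (.node (nat_lit 553) (.leaf ((nat_lit 83), [nat_lit 3, nat_lit 3, nat_lit 2, nat_lit 1, nat_lit 0])) (.leaf ((nat_lit 190), [nat_lit 3, nat_lit 3, nat_lit 3, nat_lit 1, nat_lit 0]))) (.node (nat_lit 555) (.leaf ((nat_lit 28), [nat_lit 3, nat_lit 3, nat_lit 3, nat_lit 2, nat_lit 1])) (.leaf ((nat_lit 36), [nat_lit 4, nat_lit 2]))))))
 (.node (nat_lit 564) (.node (nat_lit 560) (.node (nat_lit 558) (.node (nat_lit 557) (.leaf ((nat_lit 240), [nat_lit 3, nat_lit 3, nat_lit 3, nat_lit 1])) (.leaf ((nat_lit 26), [nat_lit 4, nat_lit 2]))) (.node (nat_lit 559) (.leaf ((nat_lit 93), [nat_lit 2, nat_lit 0])) (.leaf ((nat_lit 93), [nat_lit 0]))))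
 (.node (nat_lit 562) (.node (nat_lit 561) (.leaf ((nat_lit 93), [nat_lit 1, nat_lit 0])) (.leaf ((nat_lit 195), [nat_lit 1, nat_lit 0]))) (.node (nat_lit 563) (.leaf ((nat_lit 27), [nat_lit 2, nat_lit 1])) (.leaf ((nat_lit 60), [nat_lit 3, nat_lit 3, nat_lit 3, nat_lit 1])))))
 (.node (nat_lit 568) (.node (nat_lit 566) (.node (nat_lit 565) (.leaf ((nat_lit 28), [nat_lit 2, nat_lit 0])) (.leaf ((nat_lit 137), [nat_lit 3, nat_lit 1, nat_lit 0]))) (.node (nat_lit 567) (.leaf ((nat_lit 83), [nat_lit 4, nat_lit 1])) (.leaf ((nat_lit 193), [nat_lit 3, nat_lit 3, nat_lit 1, nat_lit 0]))))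
 (.node (nat_lit 570) (.node (nat_lit 569) (.leaf ((nat_lit 94), [nat_lit 2, nat_lit 1])) (.leaf ((nat_lit 107), [nat_lit 3, nat_lit 3, nat_lit 3, nat_lit 2]))) (.node (nat_lit 571) (.leaf ((nat_lit 137), [nat_lit 4, nat_lit 2, nat_lit 0])) (.node (nat_lit 572) (.leaf ((nat_lit 28), [nat_lit 4, nat_lit 4, nat_lit 2, nat_lit 1])) (.leaf ((nat_lit 190), [nat_lit 4, nat_lit 4, nat_lit 0]))))))))
 (.node (nat_lit 590) (.node (nat_lit 581) (.node (nat_lit 577) (.node (nat_lit 575) (.node (nat_lit 574) (.leaf ((nat_lit 33), [nat_lit 2])) (.leaf ((nat_lit 253), [nat_lit 4, nat_lit 4, nat_lit 2]))) (.node (nat_lit 576) (.leaf ((nat_lit 145), [nat_lit 2, nat_lit 1, nat_lit 0])) (.leaf ((nat_lit 29), [nat_lit 4, nat_lit 4]))))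
 (.node (nat_lit 579) (.node (nat_lit 578) (.leaf ((nat_lit 48), [nat_lit 4, nat_lit 4, nat_lit 0])) (.leaf ((nat_lit 254), [nat_lit 4, nat_lit 4]))) (.node (nat_lit 580) (.leaf ((nat_lit 103), [nat_lit 4, nat_lit 4, nat_lit 4, nat_lit 2, nat_lit 0])) (.leaf ((nat_lit 255), [nat_lit 3, nat_lit 2])))))
 (.node (nat_lit 585) (.node (nat_lit 583) (.node (nat_lit 582) (.leaf ((nat_lit 256), [nat_lit 4, nat_lit 1, nat_lit 0])) (.leaf ((nat_lit 48), [nat_lit 2, nat_lit 1]))) (.node (nat_lit 584) (.leaf ((nat_lit 29), [nat_lit 1, nat_lit 0])) (.leaf ((nat_lit 257), [nat_lit 3, nat_lit 3, nat_lit 2, nat_lit 1]))))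
 (.node (nat_lit 587) (.node (nat_lit 586) (.leaf ((nat_lit 258), [nat_lit 4, nat_lit 4, nat_lit 4, nat_lit 2, nat_lit 1])) (.leaf ((nat_lit 259), [nat_lit 3, nat_lit 3, nat_lit 3, nat_lit 0]))) (.node (nat_lit 588) (.leaf ((nat_lit 244), [nat_lit 4, nat_lit 4, nat_lit 4, nat_lit 1, nat_lit 0])) (.node (nat_lit 589) (.leaf ((nat_lit 254), [nat_lit 3, nat_lit 3, nat_lit 2, nat_lit 1, nat_lit 0])) (.leaf ((nat_lit 257), [nat_lit 4, nat_lit 4, nat_lit 4])))))))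
 (.node (nat_lit 598) (.node (nat_lit 594) (.node (nat_lit 592) (.node (nat_lit 591) (.leaf ((nat_lit 29), [nat_lit 3, nat_lit 3, nat_lit 2, nat_lit 1, nat_lit 0])) (.leaf ((nat_lit 51), []))) (.node (nat_lit 593) (.leaf ((nat_lit 221), [nat_lit 4, nat_lit 4, nat_lit 2])) (.leaf ((nat_lit 215), [nat_lit 3, nat_lit 3, nat_lit 3]))))
 (.node (nat_lit 596) (.node (nat_lit 595) (.leaf ((nat_lit 50), [nat_lit 1, nat_lit 0])) (.leaf ((nat_lit 49), [nat_lit 4, nat_lit 4, nat_lit 4, nat_lit 2, nat_lit 1, nat_lit 0]))) (.node (nat_lit 597) (.leaf ((nat_lit 172), [nat_lit 3, nat_lit 3, nat_lit 1])) (.leaf ((nat_lit 80), [nat_lit 3, nat_lit 1, nat_lit 0])))))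
 (.node (nat_lit 602) (.node (nat_lit 600) (.node (nat_lit 599) (.leaf ((nat_lit 29), [nat_lit 4, nat_lit 4, nat_lit 4, nat_lit 2, nat_lit 1])) (.leaf ((nat_lit 241), [nat_lit 4, nat_lit 4, nat_lit 2, nat_lit 0]))) (.node (nat_lit 601) (.leaf ((nat_lit 30), [nat_lit 2])) (.leaf ((nat_lit 260), [nat_lit 2, nat_lit 1]))))
 (.node (nat_lit 604) (.node (nat_lit 603) (.leaf ((nat_lit 248), [nat_lit 3, nat_lit 3, nat_lit 2, nat_lit 1, nat_lit 0])) (.leaf ((nat_lit 261), [nat_lit 4, nat_lit 1]))) (.node (nat_lit 605) (.leaf ((nat_lit 100), [nat_lit 1, nat_lit 0])) (.node (nat_lit 606) (.leaf ((nat_lit 262), [nat_lit 4, nat_lit 4, nat_lit 4, nat_lit 2])) (.leaf ((nat_lit 260), [nat_lit 3, nat_lit 3, nat_lit 3, nat_lit 2, nat_lit 1, nat_lit 0])))))))))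
 (.node (nat_lit 641) (.node (nat_lit 624) (.node (nat_lit 615) (.node (nat_lit 611) (.node (nat_lit 609) (.node (nat_lit 608) (.leaf ((nat_lit 30), [nat_lit 3, nat_lit 3, nat_lit 3])) (.leaf ((nat_lit 249), [nat_lit 3, nat_lit 3, nat_lit 3, nat_lit 2, nat_lit 1]))) (.node (nat_lit 610) (.leaf ((nat_lit 142), [nat_lit 3, nat_lit 3, nat_lit 2, nat_lit 1, nat_lit 0])) (.leaf ((nat_lit 263), [nat_lit 3, nat_lit 3, nat_lit 3, nat_lit 0]))))
 (.node (nat_lit 613) (.node (nat_lit 612) (.leaf ((nat_lit 250), [nat_lit 3, nat_lit 3, nat_lit 1, nat_lit 0])) (.leaf ((nat_lit 189), [nat_lit 2, nat_lit 0]))) (.node (nat_lit 614) (.leaf ((nat_lit 264), [nat_lit 4, nat_lit 4, nat_lit 1, nat_lit 0])) (.leaf ((nat_lit 187), [nat_lit 3, nat_lit 3, nat_lit 3])))))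
 (.node (nat_lit 619) (.node (nat_lit 617) (.node (nat_lit 616) (.leaf ((nat_lit 265), [nat_lit 3, nat_lit 3, nat_lit 1])) (.leaf ((nat_lit 266), [nat_lit 3, nat_lit 1, nat_lit 0]))) (.node (nat_lit 618) (.leaf ((nat_lit 30), [nat_lit 3, nat_lit 3, nat_lit 3])) (.leaf ((nat_lit 31), [nat_lit 2, nat_lit 0]))))
 (.node (nat_lit 621) (.node (nat_lit 620) (.leaf ((nat_lit 262), [nat_lit 3, nat_lit 2, nat_lit 1])) (.leaf ((nat_lit 154), [nat_lit 3]))) (.node (nat_lit 622) (.leaf ((nat_lit 96), [nat_lit 3, nat_lit 3, nat_lit 3, nat_lit 2, nat_lit 1])) (.node (nat_lit 623) (.leaf ((nat_lit 267), [nat_lit 4, nat_lit 4, nat_lit 2, nat_lit 0])) (.leaf ((nat_lit 268), [nat_lit 3, nat_lit 3, nat_lit 1])))))))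
 (.node (nat_lit 632) (.node (nat_lit 628) (.node (nat_lit 626) (.node (nat_lit 625) (.leaf ((nat_lit 262), [nat_lit 2, nat_lit 0])) (.leaf ((nat_lit 31), [nat_lit 4]))) (.node (nat_lit 627) (.leaf ((nat_lit 52), [nat_lit 4, nat_lit 4, nat_lit 4, nat_lit 2])) (.leaf ((nat_lit 269), [nat_lit 3, nat_lit 3, nat_lit 2, nat_lit 0]))))
 (.node (nat_lit 630) (.node (nat_lit 629) (.leaf ((nat_lit 270), [nat_lit 4, nat_lit 4, nat_lit 4])) (.leaf ((nat_lit 271), [nat_lit 3, nat_lit 3, nat_lit 3, nat_lit 1, nat_lit 0]))) (.node (nat_lit 631) (.leaf ((nat_lit 154), [nat_lit 1, nat_lit 0])) (.leaf ((nat_lit 52), [nat_lit 4, nat_lit 4, nat_lit 4, nat_lit 2, nat_lit 0])))))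
 (.node (nat_lit 636) (.node (nat_lit 634) (.node (nat_lit 633) (.leaf ((nat_lit 31), [nat_lit 4, nat_lit 0])) (.leaf ((nat_lit 59), [nat_lit 4, nat_lit 4]))) (.node (nat_lit 635) (.leaf ((nat_lit 272), [nat_lit 4, nat_lit 4, nat_lit 4, nat_lit 0])) (.leaf ((nat_lit 273), [nat_lit 3, nat_lit 0]))))
 (.node (nat_lit 638) (.node (nat_lit 637) (.leaf ((nat_lit 228), [nat_lit 2])) (.leaf ((nat_lit 274), [nat_lit 4, nat_lit 4, nat_lit 2, nat_lit 1]))) (.node (nat_lit 639) (.leaf ((nat_lit 275), [nat_lit 4, nat_lit 4, nat_lit 2, nat_lit 1])) (.node (nat_lit 640) (.leaf ((nat_lit 31), [nat_lit 4, nat_lit 4, nat_lit 4, nat_lit 0])) (.leaf ((nat_lit 184), [nat_lit 3, nat_lit 1, nat_lit 0]))))))))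
 (.node (nat_lit 658) (.node (nat_lit 649) (.node (nat_lit 645) (.node (nat_lit 643) (.node (nat_lit 642) (.leaf ((nat_lit 43), [nat_lit 4, nat_lit 4, nat_lit 4, nat_lit 1, nat_lit 0])) (.leaf ((nat_lit 158), [nat_lit 2, nat_lit 1]))) (.node (nat_lit 644) (.leaf ((nat_lit 178), [nat_lit 3, nat_lit 3, nat_lit 3])) (.leaf ((nat_lit 269), [nat_lit 3, nat_lit 3, nat_lit 3, nat_lit 1, nat_lit 0]))))
 (.node (nat_lit 647) (.node (nat_lit 646) (.leaf ((nat_lit 184), [nat_lit 4, nat_lit 2])) (.leaf ((nat_lit 31), [nat_lit 3, nat_lit 3]))) (.node (nat_lit 648) (.leaf ((nat_lit 94), [nat_lit 4, nat_lit 4, nat_lit 4, nat_lit 1, nat_lit 0])) (.leaf ((nat_lit 34), [nat_lit 2, nat_lit 1, nat_lit 0])))))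
 (.node (nat_lit 653) (.node (nat_lit 651) (.node (nat_lit 650) (.leaf ((nat_lit 74), [nat_lit 4, nat_lit 4, nat_lit 2, nat_lit 0])) (.leaf ((nat_lit 32), [nat_lit 3, nat_lit 3, nat_lit 3, nat_lit 1]))) (.node (nat_lit 652) (.leaf ((nat_lit 70), [nat_lit 3, nat_lit 1, nat_lit 0])) (.leaf ((nat_lit 69), [nat_lit 4, nat_lit 2, nat_lit 1, nat_lit 0]))))
 (.node (nat_lit 655) (.node (nat_lit 654) (.leaf ((nat_lit 276), [nat_lit 4, nat_lit 4])) (.leaf ((nat_lit 64), [nat_lit 3, nat_lit 3, nat_lit 3, nat_lit 2, nat_lit 1, nat_lit 0]))) (.node (nat_lit 656) (.leaf ((nat_lit 147), [nat_lit 4, nat_lit 4, nat_lit 4])) (.node (nat_lit 657) (.leaf ((nat_lit 261), [nat_lit 4, nat_lit 4, nat_lit 4, nat_lit 2])) (.leaf ((nat_lit 32), [nat_lit 0])))))))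
 (.node (nat_lit 666) (.node (nat_lit 662) (.node (nat_lit 660) (.node (nat_lit 659) (.leaf ((nat_lit 212), [nat_lit 4, nat_lit 4, nat_lit 4, nat_lit 2, nat_lit 1])) (.leaf ((nat_lit 143), [nat_lit 3, nat_lit 3, nat_lit 2, nat_lit 1, nat_lit 0]))) (.node (nat_lit 661) (.leaf ((nat_lit 139), [nat_lit 2, nat_lit 0])) (.leaf ((nat_lit 138), [nat_lit 3, nat_lit 1, nat_lit 0]))))
 (.node (nat_lit 664) (.node (nat_lit 663) (.leaf ((nat_lit 219), [nat_lit 3, nat_lit 0])) (.leaf ((nat_lit 260), [nat_lit 3, nat_lit 2]))) (.node (nat_lit 665) (.leaf ((nat_lit 251), [nat_lit 4, nat_lit 4])) (.leaf ((nat_lit 32), [nat_lit 4, nat_lit 4, nat_lit 1, nat_lit 0])))))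
 (.node (nat_lit 670) (.node (nat_lit 668) (.node (nat_lit 667) (.leaf ((nat_lit 74), [nat_lit 2, nat_lit 0])) (.leaf ((nat_lit 34), [nat_lit 3, nat_lit 3, nat_lit 2, nat_lit 1]))) (.node (nat_lit 669) (.leaf ((nat_lit 33), [nat_lit 3, nat_lit 3, nat_lit 2, nat_lit 1, nat_lit 0])) (.leaf ((nat_lit 197), [nat_lit 3, nat_lit 3, nat_lit 3, nat_lit 2, nat_lit 1, nat_lit 0]))))
 (.node (nat_lit 672) (.node (nat_lit 671) (.leaf ((nat_lit 196), [nat_lit 3, nat_lit 2, nat_lit 1])) (.leaf ((nat_lit 175), [nat_lit 3, nat_lit 3, nat_lit 1, nat_lit 0]))) (.node (nat_lit 673) (.leaf ((nat_lit 67), [nat_lit 3, nat_lit 3, nat_lit 2, nat_lit 0])) (.node (nat_lit 674) (.leaf ((nat_lit 82), [nat_lit 4, nat_lit 2, nat_lit 1])) (.leaf ((nat_lit 277), [nat_lit 4, nat_lit 2, nat_lit 1, nat_lit 0]))))))))))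
noncomputable def n12Wd_5 : Tr (ℕ × List ℕ) := (.node (nat_lit 742) (.node (nat_lit 708) (.node (nat_lit 691) (.node (nat_lit 683) (.node (nat_lit 679) (.node (nat_lit 677) (.node (nat_lit 676) (.leaf ((nat_lit 253), [nat_lit 4, nat_lit 2])) (.leaf ((nat_lit 33), [nat_lit 3, nat_lit 2]))) (.node (nat_lit 678) (.leaf ((nat_lit 278), [nat_lit 3])) (.leaf ((nat_lit 65), [nat_lit 2, nat_lit 0]))))
 (.node (nat_lit 681) (.node (nat_lit 680) (.leaf ((nat_lit 279), [nat_lit 4])) (.leaf ((nat_lit 280), [nat_lit 4, nat_lit 2, nat_lit 1]))) (.node (nat_lit 682) (.leaf ((nat_lit 134), [nat_lit 4, nat_lit 2, nat_lit 1, nat_lit 0])) (.leaf ((nat_lit 281), [nat_lit 4, nat_lit 4, nat_lit 4, nat_lit 2])))))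
 (.node (nat_lit 687) (.node (nat_lit 685) (.node (nat_lit 684) (.leaf ((nat_lit 33), [nat_lit 1, nat_lit 0])) (.leaf ((nat_lit 69), [nat_lit 4, nat_lit 4, nat_lit 0]))) (.node (nat_lit 686) (.leaf ((nat_lit 121), [nat_lit 4, nat_lit 4, nat_lit 4, nat_lit 2])) (.leaf ((nat_lit 120), [nat_lit 4, nat_lit 4, nat_lit 4, nat_lit 1]))))
 (.node (nat_lit 689) (.node (nat_lit 688) (.leaf ((nat_lit 34), [nat_lit 4, nat_lit 1])) (.leaf ((nat_lit 63), [nat_lit 4, nat_lit 1]))) (.node (nat_lit 690) (.leaf ((nat_lit 282), [nat_lit 4, nat_lit 4, nat_lit 4, nat_lit 0])) (.leaf ((nat_lit 70), [nat_lit 3, nat_lit 3, nat_lit 2, nat_lit 0]))))))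
 (.node (nat_lit 699) (.node (nat_lit 695) (.node (nat_lit 693) (.node (nat_lit 692) (.leaf ((nat_lit 202), [nat_lit 4, nat_lit 2, nat_lit 1, nat_lit 0])) (.leaf ((nat_lit 201), [nat_lit 4, nat_lit 2, nat_lit 1]))) (.node (nat_lit 694) (.leaf ((nat_lit 63), [nat_lit 3])) (.leaf ((nat_lit 34), [nat_lit 3]))))
 (.node (nat_lit 697) (.node (nat_lit 696) (.leaf ((nat_lit 210), [nat_lit 4, nat_lit 1])) (.leaf ((nat_lit 283), [nat_lit 2, nat_lit 0]))) (.node (nat_lit 698) (.leaf ((nat_lit 207), [nat_lit 3, nat_lit 1, nat_lit 0])) (.leaf ((nat_lit 259), [nat_lit 3, nat_lit 2, nat_lit 0])))))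
 (.node (nat_lit 703) (.node (nat_lit 701) (.node (nat_lit 700) (.leaf ((nat_lit 159), [nat_lit 3, nat_lit 1, nat_lit 0])) (.leaf ((nat_lit 158), [nat_lit 4, nat_lit 4, nat_lit 1, nat_lit 0]))) (.node (nat_lit 702) (.leaf ((nat_lit 34), [nat_lit 3, nat_lit 3, nat_lit 2])) (.leaf ((nat_lit 84), [nat_lit 2, nat_lit 1, nat_lit 0]))))
 (.node (nat_lit 705) (.node (nat_lit 704) (.leaf ((nat_lit 81), [nat_lit 3, nat_lit 1, nat_lit 0])) (.leaf ((nat_lit 35), [nat_lit 4]))) (.node (nat_lit 706) (.leaf ((nat_lit 284), [nat_lit 3])) (.node (nat_lit 707) (.leaf ((nat_lit 201), [nat_lit 4, nat_lit 4, nat_lit 2, nat_lit 1, nat_lit 0])) (.leaf ((nat_lit 285), [nat_lit 3, nat_lit 3, nat_lit 3]))))))))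
 (.node (nat_lit 725) (.node (nat_lit 716) (.node (nat_lit 712) (.node (nat_lit 710) (.node (nat_lit 709) (.leaf ((nat_lit 286), [nat_lit 3, nat_lit 3, nat_lit 2])) (.leaf ((nat_lit 156), [nat_lit 4, nat_lit 2]))) (.node (nat_lit 711) (.leaf ((nat_lit 287), [nat_lit 4, nat_lit 2])) (.leaf ((nat_lit 225), [nat_lit 4, nat_lit 4, nat_lit 4, nat_lit 0]))))
 (.node (nat_lit 714) (.node (nat_lit 713) (.leaf ((nat_lit 288), [nat_lit 3, nat_lit 0])) (.leaf ((nat_lit 35), [nat_lit 3, nat_lit 3, nat_lit 3, nat_lit 2, nat_lit 0]))) (.node (nat_lit 715) (.leaf ((nat_lit 36), [nat_lit 2, nat_lit 0])) (.leaf ((nat_lit 170), [nat_lit 3, nat_lit 3, nat_lit 2, nat_lit 1, nat_lit 0])))))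
 (.node (nat_lit 720) (.node (nat_lit 718) (.node (nat_lit 717) (.leaf ((nat_lit 204), [nat_lit 4, nat_lit 4, nat_lit 4, nat_lit 2])) (.leaf ((nat_lit 47), [nat_lit 0]))) (.node (nat_lit 719) (.leaf ((nat_lit 289), [nat_lit 4, nat_lit 2, nat_lit 1])) (.leaf ((nat_lit 139), [nat_lit 2, nat_lit 1]))))
 (.node (nat_lit 722) (.node (nat_lit 721) (.leaf ((nat_lit 170), [nat_lit 4, nat_lit 4, nat_lit 1, nat_lit 0])) (.leaf ((nat_lit 36), [nat_lit 3, nat_lit 3, nat_lit 3, nat_lit 2]))) (.node (nat_lit 723) (.leaf ((nat_lit 114), [nat_lit 3, nat_lit 3, nat_lit 3, nat_lit 2, nat_lit 1, nat_lit 0])) (.node (nat_lit 724) (.leaf ((nat_lit 88), [nat_lit 3, nat_lit 3, nat_lit 2, nat_lit 1])) (.leaf ((nat_lit 84), [nat_lit 3, nat_lit 3])))))))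
 (.node (nat_lit 733) (.node (nat_lit 729) (.node (nat_lit 727) (.node (nat_lit 726) (.leaf ((nat_lit 200), [nat_lit 2])) (.leaf ((nat_lit 204), [nat_lit 2, nat_lit 0]))) (.node (nat_lit 728) (.leaf ((nat_lit 114), [nat_lit 3, nat_lit 3, nat_lit 3, nat_lit 2, nat_lit 0])) (.leaf ((nat_lit 36), [nat_lit 3, nat_lit 3, nat_lit 3, nat_lit 2, nat_lit 1]))))
 (.node (nat_lit 731) (.node (nat_lit 730) (.leaf ((nat_lit 194), [nat_lit 3, nat_lit 3])) (.leaf ((nat_lit 290), [nat_lit 3, nat_lit 3, nat_lit 1]))) (.node (nat_lit 732) (.leaf ((nat_lit 155), [nat_lit 3, nat_lit 2, nat_lit 1, nat_lit 0])) (.leaf ((nat_lit 135), [nat_lit 2, nat_lit 1, nat_lit 0])))))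
 (.node (nat_lit 737) (.node (nat_lit 735) (.node (nat_lit 734) (.leaf ((nat_lit 87), [nat_lit 4, nat_lit 4])) (.leaf ((nat_lit 291), [nat_lit 4, nat_lit 4, nat_lit 2]))) (.node (nat_lit 736) (.leaf ((nat_lit 240), [nat_lit 4, nat_lit 4, nat_lit 2, nat_lit 1])) (.leaf ((nat_lit 36), [nat_lit 3, nat_lit 2, nat_lit 1, nat_lit 0]))))
 (.node (nat_lit 739) (.node (nat_lit 738) (.leaf ((nat_lit 292), [nat_lit 3])) (.leaf ((nat_lit 37), [nat_lit 4, nat_lit 4, nat_lit 2, nat_lit 1, nat_lit 0]))) (.node (nat_lit 740) (.leaf ((nat_lit 293), [nat_lit 4, nat_lit 0])) (.node (nat_lit 741) (.leaf ((nat_lit 294), [nat_lit 4])) (.leaf ((nat_lit 183), [nat_lit 3, nat_lit 3, nat_lit 3, nat_lit 2, nat_lit 1])))))))))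
 (.node (nat_lit 776) (.node (nat_lit 759) (.node (nat_lit 750) (.node (nat_lit 746) (.node (nat_lit 744) (.node (nat_lit 743) (.leaf ((nat_lit 216), [nat_lit 4, nat_lit 4, nat_lit 4])) (.leaf ((nat_lit 295), [nat_lit 3, nat_lit 3, nat_lit 2]))) (.node (nat_lit 745) (.leaf ((nat_lit 293), [nat_lit 2])) (.leaf ((nat_lit 37), [nat_lit 4]))))
 (.node (nat_lit 748) (.node (nat_lit 747) (.leaf ((nat_lit 296), [nat_lit 3, nat_lit 0])) (.leaf ((nat_lit 266), [nat_lit 4, nat_lit 4, nat_lit 4, nat_lit 2, nat_lit 0]))) (.node (nat_lit 749) (.leaf ((nat_lit 265), [nat_lit 4, nat_lit 4, nat_lit 2, nat_lit 1])) (.leaf ((nat_lit 297), [nat_lit 4, nat_lit 1, nat_lit 0])))))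
 (.node (nat_lit 754) (.node (nat_lit 752) (.node (nat_lit 751) (.leaf ((nat_lit 294), [nat_lit 3, nat_lit 3, nat_lit 1, nat_lit 0])) (.leaf ((nat_lit 296), [nat_lit 3, nat_lit 3, nat_lit 3, nat_lit 2, nat_lit 1, nat_lit 0]))) (.node (nat_lit 753) (.leaf ((nat_lit 37), [nat_lit 3, nat_lit 1])) (.leaf ((nat_lit 79), [nat_lit 4, nat_lit 4, nat_lit 4, nat_lit 2, nat_lit 1, nat_lit 0]))))
 (.node (nat_lit 756) (.node (nat_lit 755) (.leaf ((nat_lit 298), [nat_lit 1, nat_lit 0])) (.leaf ((nat_lit 237), [nat_lit 4, nat_lit 4, nat_lit 2, nat_lit 1, nat_lit 0]))) (.node (nat_lit 757) (.leaf ((nat_lit 230), [])) (.node (nat_lit 758) (.leaf ((nat_lit 299), [nat_lit 3, nat_lit 3, nat_lit 0])) (.leaf ((nat_lit 300), [nat_lit 1, nat_lit 0])))))))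
 (.node (nat_lit 767) (.node (nat_lit 763) (.node (nat_lit 761) (.node (nat_lit 760) (.leaf ((nat_lit 52), [nat_lit 4, nat_lit 2, nat_lit 1])) (.leaf ((nat_lit 37), [nat_lit 3, nat_lit 0]))) (.node (nat_lit 762) (.leaf ((nat_lit 252), [nat_lit 4, nat_lit 4, nat_lit 1, nat_lit 0])) (.leaf ((nat_lit 39), [nat_lit 2, nat_lit 1, nat_lit 0]))))
 (.node (nat_lit 765) (.node (nat_lit 764) (.leaf ((nat_lit 38), [nat_lit 3, nat_lit 2])) (.leaf ((nat_lit 72), [nat_lit 4, nat_lit 2, nat_lit 1, nat_lit 0]))) (.node (nat_lit 766) (.leaf ((nat_lit 171), [nat_lit 3, nat_lit 2, nat_lit 1])) (.leaf ((nat_lit 170), [nat_lit 3, nat_lit 3, nat_lit 3, nat_lit 1])))))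
 (.node (nat_lit 771) (.node (nat_lit 769) (.node (nat_lit 768) (.leaf ((nat_lit 301), [nat_lit 4, nat_lit 4, nat_lit 2])) (.leaf ((nat_lit 40), [nat_lit 2, nat_lit 0]))) (.node (nat_lit 770) (.leaf ((nat_lit 72), [nat_lit 4, nat_lit 1, nat_lit 0])) (.leaf ((nat_lit 38), [nat_lit 3]))))
 (.node (nat_lit 773) (.node (nat_lit 772) (.leaf ((nat_lit 128), [nat_lit 1])) (.leaf ((nat_lit 89), [nat_lit 3, nat_lit 3, nat_lit 3, nat_lit 2, nat_lit 1]))) (.node (nat_lit 774) (.leaf ((nat_lit 55), [nat_lit 4, nat_lit 4, nat_lit 0])) (.node (nat_lit 775) (.leaf ((nat_lit 144), [nat_lit 3, nat_lit 3, nat_lit 2, nat_lit 1])) (.leaf ((nat_lit 289), [nat_lit 4, nat_lit 4, nat_lit 4, nat_lit 2, nat_lit 1]))))))))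
 (.node (nat_lit 793) (.node (nat_lit 784) (.node (nat_lit 780) (.node (nat_lit 778) (.node (nat_lit 777) (.leaf ((nat_lit 143), [nat_lit 4, nat_lit 4, nat_lit 4, nat_lit 2, nat_lit 0])) (.leaf ((nat_lit 129), [nat_lit 2]))) (.node (nat_lit 779) (.leaf ((nat_lit 38), [nat_lit 4, nat_lit 4, nat_lit 2, nat_lit 0])) (.leaf ((nat_lit 164), [nat_lit 4, nat_lit 2, nat_lit 1, nat_lit 0]))))
 (.node (nat_lit 782) (.node (nat_lit 781) (.leaf ((nat_lit 130), [nat_lit 2])) (.leaf ((nat_lit 130), [nat_lit 2, nat_lit 1]))) (.node (nat_lit 783) (.leaf ((nat_lit 130), [nat_lit 1, nat_lit 0])) (.leaf ((nat_lit 39), [nat_lit 4, nat_lit 1, nat_lit 0])))))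
 (.node (nat_lit 788) (.node (nat_lit 786) (.node (nat_lit 785) (.leaf ((nat_lit 248), [nat_lit 3, nat_lit 3, nat_lit 2])) (.leaf ((nat_lit 302), [nat_lit 4, nat_lit 4, nat_lit 4, nat_lit 1]))) (.node (nat_lit 787) (.leaf ((nat_lit 201), [nat_lit 3, nat_lit 3, nat_lit 2, nat_lit 1])) (.leaf ((nat_lit 200), [nat_lit 4, nat_lit 4, nat_lit 2]))))
 (.node (nat_lit 790) (.node (nat_lit 789) (.leaf ((nat_lit 70), [nat_lit 4, nat_lit 4, nat_lit 1])) (.leaf ((nat_lit 248), [nat_lit 0]))) (.node (nat_lit 791) (.leaf ((nat_lit 39), [nat_lit 4, nat_lit 4, nat_lit 4, nat_lit 2])) (.node (nat_lit 792) (.leaf ((nat_lit 279), [nat_lit 3, nat_lit 3, nat_lit 1, nat_lit 0])) (.leaf ((nat_lit 160), [nat_lit 4, nat_lit 4, nat_lit 1])))))))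
 (.node (nat_lit 801) (.node (nat_lit 797) (.node (nat_lit 795) (.node (nat_lit 794) (.leaf ((nat_lit 244), [nat_lit 3])) (.leaf ((nat_lit 278), [nat_lit 3, nat_lit 2, nat_lit 0]))) (.node (nat_lit 796) (.leaf ((nat_lit 303), [nat_lit 3, nat_lit 3, nat_lit 3, nat_lit 2])) (.leaf ((nat_lit 237), [nat_lit 4, nat_lit 4]))))
 (.node (nat_lit 799) (.node (nat_lit 798) (.leaf ((nat_lit 39), [nat_lit 3, nat_lit 3, nat_lit 1, nat_lit 0])) (.leaf ((nat_lit 82), [nat_lit 3, nat_lit 3, nat_lit 2, nat_lit 1]))) (.node (nat_lit 800) (.leaf ((nat_lit 67), [nat_lit 4, nat_lit 4, nat_lit 1])) (.leaf ((nat_lit 304), [nat_lit 4, nat_lit 4, nat_lit 2])))))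
 (.node (nat_lit 805) (.node (nat_lit 803) (.node (nat_lit 802) (.leaf ((nat_lit 133), [nat_lit 0])) (.leaf ((nat_lit 40), [nat_lit 4, nat_lit 4, nat_lit 4, nat_lit 0]))) (.node (nat_lit 804) (.leaf ((nat_lit 260), [nat_lit 3, nat_lit 3, nat_lit 3, nat_lit 2])) (.leaf ((nat_lit 247), [nat_lit 4, nat_lit 4, nat_lit 4, nat_lit 2, nat_lit 0]))))
 (.node (nat_lit 807) (.node (nat_lit 806) (.leaf ((nat_lit 166), [nat_lit 1, nat_lit 0])) (.leaf ((nat_lit 193), [nat_lit 2, nat_lit 1]))) (.node (nat_lit 808) (.leaf ((nat_lit 113), [nat_lit 3, nat_lit 2, nat_lit 1])) (.node (nat_lit 809) (.leaf ((nat_lit 297), [nat_lit 2, nat_lit 0])) (.leaf ((nat_lit 40), [nat_lit 3, nat_lit 0]))))))))))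
noncomputable def n12Wd_6 : Tr (ℕ × List ℕ) := (.node (nat_lit 877) (.node (nat_lit 843) (.node (nat_lit 826) (.node (nat_lit 818) (.node (nat_lit 814) (.node (nat_lit 812) (.node (nat_lit 811) (.leaf ((nat_lit 122), [nat_lit 2, nat_lit 1, nat_lit 0])) (.leaf ((nat_lit 41), [nat_lit 3, nat_lit 3, nat_lit 3, nat_lit 2, nat_lit 0]))) (.node (nat_lit 813) (.leaf ((nat_lit 195), [nat_lit 4, nat_lit 4, nat_lit 1])) (.leaf ((nat_lit 305), [nat_lit 4, nat_lit 4]))))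
 (.node (nat_lit 816) (.node (nat_lit 815) (.leaf ((nat_lit 200), [nat_lit 3])) (.leaf ((nat_lit 287), [nat_lit 3, nat_lit 2, nat_lit 1]))) (.node (nat_lit 817) (.leaf ((nat_lit 246), [nat_lit 2, nat_lit 0])) (.leaf ((nat_lit 195), [nat_lit 4, nat_lit 4, nat_lit 2])))))
 (.node (nat_lit 822) (.node (nat_lit 820) (.node (nat_lit 819) (.leaf ((nat_lit 41), [nat_lit 3, nat_lit 3, nat_lit 3, nat_lit 1, nat_lit 0])) (.leaf ((nat_lit 136), [nat_lit 2, nat_lit 1]))) (.node (nat_lit 821) (.leaf ((nat_lit 304), [nat_lit 3, nat_lit 2, nat_lit 1])) (.leaf ((nat_lit 47), [nat_lit 2, nat_lit 1, nat_lit 0]))))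
 (.node (nat_lit 824) (.node (nat_lit 823) (.leaf ((nat_lit 95), [nat_lit 3, nat_lit 1, nat_lit 0])) (.leaf ((nat_lit 94), [nat_lit 4, nat_lit 2, nat_lit 0]))) (.node (nat_lit 825) (.leaf ((nat_lit 241), [nat_lit 4, nat_lit 1, nat_lit 0])) (.leaf ((nat_lit 62), [nat_lit 3, nat_lit 1, nat_lit 0]))))))
 (.node (nat_lit 834) (.node (nat_lit 830) (.node (nat_lit 828) (.node (nat_lit 827) (.leaf ((nat_lit 252), [nat_lit 4, nat_lit 1])) (.leaf ((nat_lit 41), [nat_lit 4, nat_lit 2, nat_lit 0]))) (.node (nat_lit 829) (.leaf ((nat_lit 42), [nat_lit 2, nat_lit 0])) (.leaf ((nat_lit 110), [nat_lit 4, nat_lit 2, nat_lit 0]))))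
 (.node (nat_lit 832) (.node (nat_lit 831) (.leaf ((nat_lit 290), [nat_lit 4, nat_lit 1, nat_lit 0])) (.leaf ((nat_lit 247), [nat_lit 3, nat_lit 3, nat_lit 3, nat_lit 2]))) (.node (nat_lit 833) (.leaf ((nat_lit 291), [nat_lit 4, nat_lit 4, nat_lit 4, nat_lit 2, nat_lit 0])) (.leaf ((nat_lit 201), [nat_lit 0])))))
 (.node (nat_lit 838) (.node (nat_lit 836) (.node (nat_lit 835) (.leaf ((nat_lit 110), [nat_lit 2, nat_lit 0])) (.leaf ((nat_lit 42), [nat_lit 3, nat_lit 2, nat_lit 0]))) (.node (nat_lit 837) (.leaf ((nat_lit 196), [nat_lit 4, nat_lit 2, nat_lit 1])) (.leaf ((nat_lit 54), [nat_lit 3, nat_lit 3, nat_lit 2, nat_lit 0]))))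
 (.node (nat_lit 840) (.node (nat_lit 839) (.leaf ((nat_lit 277), [nat_lit 4, nat_lit 4, nat_lit 2, nat_lit 0])) (.leaf ((nat_lit 119), [nat_lit 2, nat_lit 1]))) (.node (nat_lit 841) (.leaf ((nat_lit 290), [nat_lit 2, nat_lit 1, nat_lit 0])) (.node (nat_lit 842) (.leaf ((nat_lit 196), [nat_lit 4])) (.leaf ((nat_lit 42), [nat_lit 3, nat_lit 1, nat_lit 0]))))))))
 (.node (nat_lit 860) (.node (nat_lit 851) (.node (nat_lit 847) (.node (nat_lit 845) (.node (nat_lit 844) (.leaf ((nat_lit 204), [nat_lit 4, nat_lit 4])) (.leaf ((nat_lit 202), [nat_lit 4, nat_lit 4, nat_lit 1, nat_lit 0]))) (.node (nat_lit 846) (.leaf ((nat_lit 211), [nat_lit 3, nat_lit 2, nat_lit 1, nat_lit 0])) (.leaf ((nat_lit 281), [nat_lit 2, nat_lit 0]))))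
 (.node (nat_lit 849) (.node (nat_lit 848) (.leaf ((nat_lit 44), [nat_lit 3, nat_lit 3, nat_lit 2, nat_lit 1, nat_lit 0])) (.leaf ((nat_lit 203), [nat_lit 3, nat_lit 3, nat_lit 2, nat_lit 1]))) (.node (nat_lit 850) (.leaf ((nat_lit 43), [nat_lit 1, nat_lit 0])) (.leaf ((nat_lit 42), [nat_lit 3, nat_lit 3, nat_lit 3])))))
 (.node (nat_lit 855) (.node (nat_lit 853) (.node (nat_lit 852) (.leaf ((nat_lit 245), [nat_lit 3, nat_lit 3, nat_lit 3, nat_lit 2, nat_lit 1, nat_lit 0])) (.leaf ((nat_lit 279), [nat_lit 2, nat_lit 0]))) (.node (nat_lit 854) (.leaf ((nat_lit 65), [nat_lit 3, nat_lit 2, nat_lit 1])) (.leaf ((nat_lit 197), [nat_lit 3, nat_lit 2]))))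
 (.node (nat_lit 857) (.node (nat_lit 856) (.leaf ((nat_lit 101), [nat_lit 4, nat_lit 4, nat_lit 2, nat_lit 0])) (.leaf ((nat_lit 198), [nat_lit 4, nat_lit 4, nat_lit 2]))) (.node (nat_lit 858) (.leaf ((nat_lit 42), [nat_lit 2, nat_lit 1, nat_lit 0])) (.node (nat_lit 859) (.leaf ((nat_lit 44), [nat_lit 2, nat_lit 0])) (.leaf ((nat_lit 281), [nat_lit 4, nat_lit 4, nat_lit 0])))))))
 (.node (nat_lit 868) (.node (nat_lit 864) (.node (nat_lit 862) (.node (nat_lit 861) (.leaf ((nat_lit 129), [nat_lit 3, nat_lit 3, nat_lit 3, nat_lit 2, nat_lit 1])) (.leaf ((nat_lit 143), [nat_lit 2, nat_lit 1]))) (.node (nat_lit 863) (.leaf ((nat_lit 250), [nat_lit 3])) (.leaf ((nat_lit 109), [nat_lit 4, nat_lit 4, nat_lit 2, nat_lit 0]))))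
 (.node (nat_lit 866) (.node (nat_lit 865) (.leaf ((nat_lit 129), [nat_lit 4, nat_lit 4, nat_lit 1, nat_lit 0])) (.leaf ((nat_lit 203), [nat_lit 3, nat_lit 3, nat_lit 2]))) (.node (nat_lit 867) (.leaf ((nat_lit 44), [nat_lit 3, nat_lit 3, nat_lit 2, nat_lit 0])) (.leaf ((nat_lit 144), [nat_lit 1])))))
 (.node (nat_lit 872) (.node (nat_lit 870) (.node (nat_lit 869) (.leaf ((nat_lit 81), [nat_lit 3, nat_lit 3, nat_lit 3, nat_lit 1])) (.leaf ((nat_lit 146), [nat_lit 4, nat_lit 4, nat_lit 4]))) (.node (nat_lit 871) (.leaf ((nat_lit 304), [nat_lit 2, nat_lit 0])) (.leaf ((nat_lit 277), [nat_lit 4, nat_lit 4, nat_lit 4]))))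
 (.node (nat_lit 874) (.node (nat_lit 873) (.leaf ((nat_lit 82), [nat_lit 4, nat_lit 4, nat_lit 4, nat_lit 2, nat_lit 1])) (.leaf ((nat_lit 145), [nat_lit 1, nat_lit 0]))) (.node (nat_lit 875) (.leaf ((nat_lit 44), [nat_lit 4, nat_lit 1])) (.node (nat_lit 876) (.leaf ((nat_lit 95), [nat_lit 2, nat_lit 1, nat_lit 0])) (.leaf ((nat_lit 47), [nat_lit 3, nat_lit 3, nat_lit 3, nat_lit 2, nat_lit 0])))))))))
 (.node (nat_lit 911) (.node (nat_lit 894) (.node (nat_lit 885) (.node (nat_lit 881) (.node (nat_lit 879) (.node (nat_lit 878) (.leaf ((nat_lit 222), [nat_lit 2, nat_lit 1, nat_lit 0])) (.leaf ((nat_lit 45), [nat_lit 2, nat_lit 1]))) (.node (nat_lit 880) (.leaf ((nat_lit 200), [nat_lit 3, nat_lit 3, nat_lit 3, nat_lit 2, nat_lit 0])) (.leaf ((nat_lit 305), [nat_lit 2, nat_lit 0]))))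
 (.node (nat_lit 883) (.node (nat_lit 882) (.leaf ((nat_lit 144), [nat_lit 3, nat_lit 3, nat_lit 3])) (.leaf ((nat_lit 193), [nat_lit 0]))) (.node (nat_lit 884) (.leaf ((nat_lit 109), [nat_lit 3, nat_lit 3, nat_lit 3])) (.leaf ((nat_lit 247), [nat_lit 4, nat_lit 4, nat_lit 4, nat_lit 1])))))
 (.node (nat_lit 889) (.node (nat_lit 887) (.node (nat_lit 886) (.leaf ((nat_lit 45), [nat_lit 4, nat_lit 4, nat_lit 1])) (.leaf ((nat_lit 147), [nat_lit 1]))) (.node (nat_lit 888) (.leaf ((nat_lit 174), [nat_lit 4, nat_lit 2, nat_lit 1, nat_lit 0])) (.leaf ((nat_lit 188), [nat_lit 3, nat_lit 3]))))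
 (.node (nat_lit 891) (.node (nat_lit 890) (.leaf ((nat_lit 187), [nat_lit 4, nat_lit 4, nat_lit 2, nat_lit 0])) (.leaf ((nat_lit 264), [nat_lit 1, nat_lit 0]))) (.node (nat_lit 892) (.leaf ((nat_lit 306), [nat_lit 3, nat_lit 2, nat_lit 1, nat_lit 0])) (.node (nat_lit 893) (.leaf ((nat_lit 56), [nat_lit 3, nat_lit 3, nat_lit 3, nat_lit 1, nat_lit 0])) (.leaf ((nat_lit 45), [nat_lit 4, nat_lit 1, nat_lit 0])))))))
 (.node (nat_lit 902) (.node (nat_lit 898) (.node (nat_lit 896) (.node (nat_lit 895) (.leaf ((nat_lit 222), [nat_lit 2, nat_lit 0])) (.leaf ((nat_lit 47), [nat_lit 3, nat_lit 3, nat_lit 3, nat_lit 2, nat_lit 1, nat_lit 0]))) (.node (nat_lit 897) (.leaf ((nat_lit 46), [nat_lit 3, nat_lit 1])) (.leaf ((nat_lit 168), [nat_lit 3, nat_lit 3, nat_lit 3]))))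
 (.node (nat_lit 900) (.node (nat_lit 899) (.leaf ((nat_lit 149), [nat_lit 2, nat_lit 1, nat_lit 0])) (.leaf ((nat_lit 307), [nat_lit 3, nat_lit 3, nat_lit 1, nat_lit 0]))) (.node (nat_lit 901) (.leaf ((nat_lit 150), [nat_lit 2, nat_lit 0])) (.leaf ((nat_lit 150), [nat_lit 2, nat_lit 1])))))
 (.node (nat_lit 906) (.node (nat_lit 904) (.node (nat_lit 903) (.leaf ((nat_lit 150), [nat_lit 2, nat_lit 1, nat_lit 0])) (.leaf ((nat_lit 67), [nat_lit 3, nat_lit 3, nat_lit 3, nat_lit 2, nat_lit 1, nat_lit 0]))) (.node (nat_lit 905) (.leaf ((nat_lit 46), [nat_lit 3, nat_lit 2, nat_lit 0])) (.leaf ((nat_lit 306), [nat_lit 3, nat_lit 3, nat_lit 0]))))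
 (.node (nat_lit 908) (.node (nat_lit 907) (.leaf ((nat_lit 151), [nat_lit 2, nat_lit 0])) (.leaf ((nat_lit 151), [nat_lit 2, nat_lit 1, nat_lit 0]))) (.node (nat_lit 909) (.leaf ((nat_lit 151), [nat_lit 2, nat_lit 1])) (.node (nat_lit 910) (.leaf ((nat_lit 289), [nat_lit 3, nat_lit 3, nat_lit 0])) (.leaf ((nat_lit 47), [nat_lit 3, nat_lit 3, nat_lit 3]))))))))
 (.node (nat_lit 928) (.node (nat_lit 919) (.node (nat_lit 915) (.node (nat_lit 913) (.node (nat_lit 912) (.leaf ((nat_lit 299), [nat_lit 3, nat_lit 3, nat_lit 3, nat_lit 2, nat_lit 1, nat_lit 0])) (.leaf ((nat_lit 257), [nat_lit 2, nat_lit 0]))) (.node (nat_lit 914) (.leaf ((nat_lit 254), [nat_lit 4, nat_lit 4, nat_lit 2])) (.leaf ((nat_lit 48), [nat_lit 4, nat_lit 4, nat_lit 2, nat_lit 0]))))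
 (.node (nat_lit 917) (.node (nat_lit 916) (.leaf ((nat_lit 264), [nat_lit 3, nat_lit 3, nat_lit 3, nat_lit 2, nat_lit 1, nat_lit 0])) (.leaf ((nat_lit 308), [nat_lit 3]))) (.node (nat_lit 918) (.leaf ((nat_lit 309), [nat_lit 3, nat_lit 3])) (.leaf ((nat_lit 295), [])))))
 (.node (nat_lit 923) (.node (nat_lit 921) (.node (nat_lit 920) (.leaf ((nat_lit 310), [nat_lit 3, nat_lit 3, nat_lit 3, nat_lit 2, nat_lit 1, nat_lit 0])) (.leaf ((nat_lit 218), [nat_lit 3, nat_lit 3, nat_lit 3]))) (.node (nat_lit 922) (.leaf ((nat_lit 48), [nat_lit 3, nat_lit 2])) (.leaf ((nat_lit 294), [nat_lit 3, nat_lit 3]))))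
 (.node (nat_lit 925) (.node (nat_lit 924) (.leaf ((nat_lit 223), [nat_lit 4, nat_lit 4, nat_lit 1, nat_lit 0])) (.leaf ((nat_lit 105), [nat_lit 1, nat_lit 0]))) (.node (nat_lit 926) (.leaf ((nat_lit 163), [nat_lit 4, nat_lit 2, nat_lit 1])) (.node (nat_lit 927) (.leaf ((nat_lit 103), [nat_lit 4])) (.leaf ((nat_lit 294), [nat_lit 4, nat_lit 4, nat_lit 2, nat_lit 1, nat_lit 0])))))))
 (.node (nat_lit 936) (.node (nat_lit 932) (.node (nat_lit 930) (.node (nat_lit 929) (.leaf ((nat_lit 48), [nat_lit 4, nat_lit 4, nat_lit 4, nat_lit 1])) (.leaf ((nat_lit 311), [nat_lit 3, nat_lit 2, nat_lit 0]))) (.node (nat_lit 931) (.leaf ((nat_lit 312), [nat_lit 3, nat_lit 3])) (.leaf ((nat_lit 259), [nat_lit 3, nat_lit 3, nat_lit 3, nat_lit 1]))))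
 (.node (nat_lit 934) (.node (nat_lit 933) (.leaf ((nat_lit 207), [nat_lit 3, nat_lit 3, nat_lit 3, nat_lit 1, nat_lit 0])) (.leaf ((nat_lit 175), [nat_lit 3, nat_lit 2, nat_lit 1]))) (.node (nat_lit 935) (.leaf ((nat_lit 49), [nat_lit 1, nat_lit 0])) (.leaf ((nat_lit 121), [nat_lit 4, nat_lit 1, nat_lit 0])))))
 (.node (nat_lit 940) (.node (nat_lit 938) (.node (nat_lit 937) (.leaf ((nat_lit 217), [])) (.leaf ((nat_lit 118), [nat_lit 3, nat_lit 0]))) (.node (nat_lit 939) (.leaf ((nat_lit 313), [nat_lit 3, nat_lit 3, nat_lit 3, nat_lit 2])) (.leaf ((nat_lit 314), [nat_lit 4, nat_lit 4, nat_lit 2, nat_lit 0]))))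
 (.node (nat_lit 942) (.node (nat_lit 941) (.leaf ((nat_lit 315), [nat_lit 3, nat_lit 3, nat_lit 1, nat_lit 0])) (.leaf ((nat_lit 49), [nat_lit 3, nat_lit 0]))) (.node (nat_lit 943) (.leaf ((nat_lit 172), [nat_lit 4, nat_lit 4, nat_lit 2, nat_lit 0])) (.node (nat_lit 944) (.leaf ((nat_lit 51), [nat_lit 3, nat_lit 3, nat_lit 3, nat_lit 2, nat_lit 0])) (.leaf ((nat_lit 50), [nat_lit 3, nat_lit 3, nat_lit 3, nat_lit 2, nat_lit 1]))))))))))
noncomputable def n12Wd_7 : Tr (ℕ × List ℕ) := (.node (nat_lit 1012) (.node (nat_lit 978) (.node (nat_lit 961) (.node (nat_lit 953) (.node (nat_lit 949) (.node (nat_lit 947) (.node (nat_lit 946) (.leaf ((nat_lit 302), [nat_lit 4, nat_lit 4])) (.leaf ((nat_lit 174), []))) (.node (nat_lit 948) (.leaf ((nat_lit 249), [nat_lit 3, nat_lit 2, nat_lit 0])) (.leaf ((nat_lit 107), [nat_lit 2, nat_lit 1]))))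
 (.node (nat_lit 951) (.node (nat_lit 950) (.leaf ((nat_lit 266), [nat_lit 3, nat_lit 3, nat_lit 3])) (.leaf ((nat_lit 232), [nat_lit 3, nat_lit 3, nat_lit 3, nat_lit 0]))) (.node (nat_lit 952) (.leaf ((nat_lit 50), [nat_lit 4, nat_lit 1])) (.leaf ((nat_lit 116), [nat_lit 3, nat_lit 3, nat_lit 2, nat_lit 1])))))
 (.node (nat_lit 957) (.node (nat_lit 955) (.node (nat_lit 954) (.leaf ((nat_lit 214), [nat_lit 3, nat_lit 3, nat_lit 2, nat_lit 1])) (.leaf ((nat_lit 316), [nat_lit 3, nat_lit 3]))) (.node (nat_lit 956) (.leaf ((nat_lit 272), [nat_lit 2, nat_lit 0])) (.leaf ((nat_lit 317), []))))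
 (.node (nat_lit 959) (.node (nat_lit 958) (.leaf ((nat_lit 116), [nat_lit 4, nat_lit 2, nat_lit 0])) (.leaf ((nat_lit 50), [nat_lit 3, nat_lit 3, nat_lit 3, nat_lit 2, nat_lit 1]))) (.node (nat_lit 960) (.leaf ((nat_lit 194), [nat_lit 3, nat_lit 1, nat_lit 0])) (.leaf ((nat_lit 132), [nat_lit 3, nat_lit 3, nat_lit 1, nat_lit 0]))))))
 (.node (nat_lit 969) (.node (nat_lit 965) (.node (nat_lit 963) (.node (nat_lit 962) (.leaf ((nat_lit 86), [nat_lit 3, nat_lit 1])) (.leaf ((nat_lit 180), [nat_lit 3, nat_lit 3, nat_lit 3, nat_lit 2, nat_lit 1, nat_lit 0]))) (.node (nat_lit 964) (.leaf ((nat_lit 316), [nat_lit 4, nat_lit 4, nat_lit 0])) (.leaf ((nat_lit 162), [nat_lit 1, nat_lit 0]))))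
 (.node (nat_lit 967) (.node (nat_lit 966) (.leaf ((nat_lit 50), [nat_lit 4, nat_lit 4, nat_lit 4, nat_lit 2, nat_lit 1, nat_lit 0])) (.leaf ((nat_lit 318), [nat_lit 3, nat_lit 3]))) (.node (nat_lit 968) (.leaf ((nat_lit 175), [])) (.leaf ((nat_lit 270), [nat_lit 2, nat_lit 0])))))
 (.node (nat_lit 973) (.node (nat_lit 971) (.node (nat_lit 970) (.leaf ((nat_lit 221), [nat_lit 3])) (.leaf ((nat_lit 51), [nat_lit 3, nat_lit 3, nat_lit 3, nat_lit 2, nat_lit 0]))) (.node (nat_lit 972) (.leaf ((nat_lit 206), [nat_lit 4, nat_lit 1, nat_lit 0])) (.leaf ((nat_lit 229), []))))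
 (.node (nat_lit 975) (.node (nat_lit 974) (.leaf ((nat_lit 243), [nat_lit 3, nat_lit 0])) (.leaf ((nat_lit 319), [nat_lit 3, nat_lit 3, nat_lit 3, nat_lit 2]))) (.node (nat_lit 976) (.leaf ((nat_lit 320), [nat_lit 4])) (.node (nat_lit 977) (.leaf ((nat_lit 160), [nat_lit 1, nat_lit 0])) (.leaf ((nat_lit 51), [nat_lit 4, nat_lit 4, nat_lit 4]))))))))
 (.node (nat_lit 995) (.node (nat_lit 986) (.node (nat_lit 982) (.node (nat_lit 980) (.node (nat_lit 979) (.leaf ((nat_lit 52), [nat_lit 4, nat_lit 4])) (.leaf ((nat_lit 154), [nat_lit 3, nat_lit 2]))) (.node (nat_lit 981) (.leaf ((nat_lit 262), [nat_lit 3, nat_lit 1])) (.leaf ((nat_lit 187), [nat_lit 4, nat_lit 4, nat_lit 4, nat_lit 0]))))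
 (.node (nat_lit 984) (.node (nat_lit 983) (.leaf ((nat_lit 211), [nat_lit 4, nat_lit 4, nat_lit 0])) (.leaf ((nat_lit 321), [nat_lit 3, nat_lit 3, nat_lit 0]))) (.node (nat_lit 985) (.leaf ((nat_lit 54), [nat_lit 4, nat_lit 4, nat_lit 1])) (.leaf ((nat_lit 53), [nat_lit 4, nat_lit 4, nat_lit 4])))))
 (.node (nat_lit 990) (.node (nat_lit 988) (.node (nat_lit 987) (.leaf ((nat_lit 311), [nat_lit 4, nat_lit 4, nat_lit 4, nat_lit 2, nat_lit 1, nat_lit 0])) (.leaf ((nat_lit 279), [nat_lit 3, nat_lit 3, nat_lit 3, nat_lit 0]))) (.node (nat_lit 989) (.leaf ((nat_lit 322), [nat_lit 4, nat_lit 4, nat_lit 4, nat_lit 1])) (.leaf ((nat_lit 129), [nat_lit 3, nat_lit 2, nat_lit 1]))))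
 (.node (nat_lit 992) (.node (nat_lit 991) (.leaf ((nat_lit 55), [nat_lit 3, nat_lit 3, nat_lit 2, nat_lit 1])) (.leaf ((nat_lit 311), [nat_lit 1, nat_lit 0]))) (.node (nat_lit 993) (.leaf ((nat_lit 53), [nat_lit 1])) (.node (nat_lit 994) (.leaf ((nat_lit 201), [nat_lit 4, nat_lit 4, nat_lit 4, nat_lit 2, nat_lit 1])) (.leaf ((nat_lit 284), [nat_lit 2, nat_lit 0])))))))
 (.node (nat_lit 1003) (.node (nat_lit 999) (.node (nat_lit 997) (.node (nat_lit 996) (.leaf ((nat_lit 304), [nat_lit 4, nat_lit 4, nat_lit 4, nat_lit 0])) (.leaf ((nat_lit 261), [nat_lit 0]))) (.node (nat_lit 998) (.leaf ((nat_lit 134), [nat_lit 1, nat_lit 0])) (.leaf ((nat_lit 64), [nat_lit 4, nat_lit 2, nat_lit 0]))))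
 (.node (nat_lit 1001) (.node (nat_lit 1000) (.leaf ((nat_lit 53), [nat_lit 3, nat_lit 1])) (.leaf ((nat_lit 166), [nat_lit 2, nat_lit 1]))) (.node (nat_lit 1002) (.leaf ((nat_lit 257), [nat_lit 4, nat_lit 4, nat_lit 2, nat_lit 0])) (.leaf ((nat_lit 59), [nat_lit 2, nat_lit 0])))))
 (.node (nat_lit 1007) (.node (nat_lit 1005) (.node (nat_lit 1004) (.leaf ((nat_lit 323), [nat_lit 3, nat_lit 1])) (.leaf ((nat_lit 57), [nat_lit 3]))) (.node (nat_lit 1006) (.leaf ((nat_lit 227), [nat_lit 3, nat_lit 3, nat_lit 2, nat_lit 0])) (.leaf ((nat_lit 307), [nat_lit 4, nat_lit 4, nat_lit 0]))))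
 (.node (nat_lit 1009) (.node (nat_lit 1008) (.leaf ((nat_lit 53), [nat_lit 3, nat_lit 3, nat_lit 3, nat_lit 2])) (.leaf ((nat_lit 311), [nat_lit 2]))) (.node (nat_lit 1010) (.leaf ((nat_lit 55), [nat_lit 3, nat_lit 3, nat_lit 0])) (.node (nat_lit 1011) (.leaf ((nat_lit 54), [nat_lit 3, nat_lit 1])) (.leaf ((nat_lit 149), [nat_lit 4, nat_lit 4, nat_lit 4])))))))))
 (.node (nat_lit 1046) (.node (nat_lit 1029) (.node (nat_lit 1020) (.node (nat_lit 1016) (.node (nat_lit 1014) (.node (nat_lit 1013) (.leaf ((nat_lit 168), [nat_lit 1])) (.leaf ((nat_lit 254), [nat_lit 4, nat_lit 0]))) (.node (nat_lit 1015) (.leaf ((nat_lit 169), [nat_lit 2])) (.leaf ((nat_lit 169), [nat_lit 1, nat_lit 0]))))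
 (.node (nat_lit 1018) (.node (nat_lit 1017) (.leaf ((nat_lit 169), [nat_lit 1])) (.leaf ((nat_lit 277), [nat_lit 4, nat_lit 4, nat_lit 4]))) (.node (nat_lit 1019) (.leaf ((nat_lit 54), [nat_lit 3])) (.leaf ((nat_lit 227), [nat_lit 4, nat_lit 2, nat_lit 1, nat_lit 0])))))
 (.node (nat_lit 1024) (.node (nat_lit 1022) (.node (nat_lit 1021) (.leaf ((nat_lit 120), [nat_lit 3, nat_lit 3, nat_lit 2, nat_lit 1])) (.leaf ((nat_lit 119), [nat_lit 4, nat_lit 4, nat_lit 2, nat_lit 0]))) (.node (nat_lit 1023) (.leaf ((nat_lit 69), [nat_lit 3, nat_lit 3, nat_lit 3, nat_lit 2])) (.leaf ((nat_lit 55), [nat_lit 0]))))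
 (.node (nat_lit 1026) (.node (nat_lit 1025) (.leaf ((nat_lit 127), [nat_lit 4, nat_lit 4, nat_lit 4, nat_lit 2, nat_lit 1])) (.leaf ((nat_lit 62), [nat_lit 3, nat_lit 3, nat_lit 2]))) (.node (nat_lit 1027) (.leaf ((nat_lit 171), [nat_lit 2])) (.node (nat_lit 1028) (.leaf ((nat_lit 171), [nat_lit 1])) (.leaf ((nat_lit 171), [nat_lit 1, nat_lit 0])))))))
 (.node (nat_lit 1037) (.node (nat_lit 1033) (.node (nat_lit 1031) (.node (nat_lit 1030) (.leaf ((nat_lit 127), [nat_lit 4, nat_lit 2, nat_lit 1, nat_lit 0])) (.leaf ((nat_lit 55), [nat_lit 3, nat_lit 3, nat_lit 1, nat_lit 0]))) (.node (nat_lit 1032) (.leaf ((nat_lit 294), [nat_lit 4, nat_lit 4, nat_lit 4, nat_lit 0])) (.leaf ((nat_lit 157), [nat_lit 3, nat_lit 3, nat_lit 2, nat_lit 1, nat_lit 0]))))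
 (.node (nat_lit 1035) (.node (nat_lit 1034) (.leaf ((nat_lit 56), [nat_lit 4, nat_lit 4, nat_lit 0])) (.leaf ((nat_lit 99), [nat_lit 4, nat_lit 4, nat_lit 2]))) (.node (nat_lit 1036) (.leaf ((nat_lit 189), [nat_lit 2, nat_lit 0])) (.leaf ((nat_lit 209), [nat_lit 3, nat_lit 3, nat_lit 2, nat_lit 1, nat_lit 0])))))
 (.node (nat_lit 1041) (.node (nat_lit 1039) (.node (nat_lit 1038) (.leaf ((nat_lit 315), [nat_lit 3, nat_lit 3, nat_lit 3, nat_lit 1, nat_lit 0])) (.leaf ((nat_lit 275), []))) (.node (nat_lit 1040) (.leaf ((nat_lit 324), [nat_lit 3, nat_lit 3])) (.leaf ((nat_lit 228), [nat_lit 3, nat_lit 3, nat_lit 1, nat_lit 0]))))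
 (.node (nat_lit 1043) (.node (nat_lit 1042) (.leaf ((nat_lit 56), [nat_lit 4, nat_lit 4, nat_lit 2, nat_lit 0])) (.leaf ((nat_lit 306), [nat_lit 3, nat_lit 3, nat_lit 3, nat_lit 2, nat_lit 1, nat_lit 0]))) (.node (nat_lit 1044) (.leaf ((nat_lit 322), [nat_lit 3, nat_lit 1, nat_lit 0])) (.node (nat_lit 1045) (.leaf ((nat_lit 58), [nat_lit 3, nat_lit 3])) (.leaf ((nat_lit 57), [nat_lit 3, nat_lit 3, nat_lit 3, nat_lit 2, nat_lit 0]))))))))
 (.node (nat_lit 1063) (.node (nat_lit 1054) (.node (nat_lit 1050) (.node (nat_lit 1048) (.node (nat_lit 1047) (.leaf ((nat_lit 323), [nat_lit 3, nat_lit 3, nat_lit 3, nat_lit 2, nat_lit 1])) (.leaf ((nat_lit 238), [nat_lit 4, nat_lit 4, nat_lit 4, nat_lit 1, nat_lit 0]))) (.node (nat_lit 1049) (.leaf ((nat_lit 157), [])) (.leaf ((nat_lit 147), [nat_lit 3, nat_lit 2, nat_lit 1]))))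
 (.node (nat_lit 1052) (.node (nat_lit 1051) (.leaf ((nat_lit 325), [nat_lit 4, nat_lit 4, nat_lit 2, nat_lit 0])) (.leaf ((nat_lit 161), []))) (.node (nat_lit 1053) (.leaf ((nat_lit 282), [nat_lit 3, nat_lit 3, nat_lit 2, nat_lit 0])) (.leaf ((nat_lit 155), [nat_lit 4, nat_lit 2, nat_lit 1, nat_lit 0])))))
 (.node (nat_lit 1058) (.node (nat_lit 1056) (.node (nat_lit 1055) (.leaf ((nat_lit 57), [nat_lit 3, nat_lit 3, nat_lit 3, nat_lit 2, nat_lit 0])) (.leaf ((nat_lit 111), [nat_lit 4, nat_lit 4, nat_lit 1]))) (.node (nat_lit 1057) (.leaf ((nat_lit 216), [])) (.leaf ((nat_lit 326), [nat_lit 3, nat_lit 3, nat_lit 0]))))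
 (.node (nat_lit 1060) (.node (nat_lit 1059) (.leaf ((nat_lit 214), [nat_lit 1, nat_lit 0])) (.leaf ((nat_lit 312), [nat_lit 3, nat_lit 2, nat_lit 1]))) (.node (nat_lit 1061) (.leaf ((nat_lit 327), [nat_lit 3, nat_lit 3, nat_lit 3])) (.node (nat_lit 1062) (.leaf ((nat_lit 57), [nat_lit 4, nat_lit 4, nat_lit 2, nat_lit 0])) (.leaf ((nat_lit 323), [nat_lit 1, nat_lit 0])))))))
 (.node (nat_lit 1071) (.node (nat_lit 1067) (.node (nat_lit 1065) (.node (nat_lit 1064) (.leaf ((nat_lit 59), [nat_lit 4])) (.leaf ((nat_lit 58), [nat_lit 4, nat_lit 2, nat_lit 1]))) (.node (nat_lit 1066) (.leaf ((nat_lit 299), [nat_lit 3])) (.leaf ((nat_lit 254), [nat_lit 4, nat_lit 4, nat_lit 4, nat_lit 2, nat_lit 1]))))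
 (.node (nat_lit 1069) (.node (nat_lit 1068) (.leaf ((nat_lit 222), [nat_lit 4, nat_lit 4, nat_lit 2, nat_lit 0])) (.leaf ((nat_lit 266), [nat_lit 2, nat_lit 0]))) (.node (nat_lit 1070) (.leaf ((nat_lit 107), [nat_lit 4, nat_lit 4, nat_lit 4])) (.leaf ((nat_lit 307), [nat_lit 4, nat_lit 4, nat_lit 4, nat_lit 2])))))
 (.node (nat_lit 1075) (.node (nat_lit 1073) (.node (nat_lit 1072) (.leaf ((nat_lit 58), [nat_lit 3, nat_lit 3, nat_lit 3, nat_lit 1, nat_lit 0])) (.leaf ((nat_lit 282), [nat_lit 4]))) (.node (nat_lit 1074) (.leaf ((nat_lit 313), [nat_lit 3, nat_lit 3, nat_lit 2, nat_lit 0])) (.leaf ((nat_lit 328), [nat_lit 4, nat_lit 4, nat_lit 2, nat_lit 0]))))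
 (.node (nat_lit 1077) (.node (nat_lit 1076) (.leaf ((nat_lit 205), [nat_lit 3, nat_lit 3, nat_lit 3, nat_lit 1, nat_lit 0])) (.leaf ((nat_lit 255), [nat_lit 3, nat_lit 3, nat_lit 3, nat_lit 1]))) (.node (nat_lit 1078) (.leaf ((nat_lit 282), [nat_lit 4, nat_lit 4, nat_lit 2, nat_lit 0])) (.node (nat_lit 1079) (.leaf ((nat_lit 58), [nat_lit 3, nat_lit 3])) (.leaf ((nat_lit 197), [nat_lit 3, nat_lit 2, nat_lit 1, nat_lit 0]))))))))))
noncomputable def n12Wd_8 : Tr (ℕ × List ℕ) := (.node (nat_lit 1147) (.node (nat_lit 1113) (.node (nat_lit 1096) (.node (nat_lit 1088) (.node (nat_lit 1084) (.node (nat_lit 1082) (.node (nat_lit 1081) (.leaf ((nat_lit 278), [nat_lit 0])) (.leaf ((nat_lit 245), [nat_lit 4, nat_lit 2]))) (.node (nat_lit 1083) (.leaf ((nat_lit 160), [nat_lit 4, nat_lit 4, nat_lit 4, nat_lit 1])) (.leaf ((nat_lit 329), [nat_lit 4, nat_lit 4, nat_lit 0]))))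
 (.node (nat_lit 1086) (.node (nat_lit 1085) (.leaf ((nat_lit 182), [nat_lit 4, nat_lit 4, nat_lit 4, nat_lit 1, nat_lit 0])) (.leaf ((nat_lit 58), [nat_lit 3, nat_lit 1, nat_lit 0]))) (.node (nat_lit 1087) (.leaf ((nat_lit 330), [nat_lit 4, nat_lit 4, nat_lit 2, nat_lit 0])) (.leaf ((nat_lit 308), [nat_lit 3, nat_lit 3, nat_lit 3, nat_lit 1])))))
 (.node (nat_lit 1092) (.node (nat_lit 1090) (.node (nat_lit 1089) (.leaf ((nat_lit 276), [nat_lit 3, nat_lit 3, nat_lit 3, nat_lit 1, nat_lit 0])) (.leaf ((nat_lit 272), [nat_lit 3, nat_lit 2, nat_lit 0]))) (.node (nat_lit 1091) (.leaf ((nat_lit 59), [nat_lit 3, nat_lit 3, nat_lit 1])) (.leaf ((nat_lit 66), [nat_lit 4, nat_lit 4, nat_lit 1]))))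
 (.node (nat_lit 1094) (.node (nat_lit 1093) (.leaf ((nat_lit 235), [])) (.leaf ((nat_lit 303), [nat_lit 3, nat_lit 3, nat_lit 0]))) (.node (nat_lit 1095) (.leaf ((nat_lit 331), [nat_lit 1, nat_lit 0])) (.leaf ((nat_lit 330), [nat_lit 4, nat_lit 4, nat_lit 4, nat_lit 2]))))))
 (.node (nat_lit 1104) (.node (nat_lit 1100) (.node (nat_lit 1098) (.node (nat_lit 1097) (.leaf ((nat_lit 180), [nat_lit 3, nat_lit 3, nat_lit 3, nat_lit 2])) (.leaf ((nat_lit 59), [nat_lit 4, nat_lit 4, nat_lit 4, nat_lit 2]))) (.node (nat_lit 1099) (.leaf ((nat_lit 60), [])) (.leaf ((nat_lit 332), [nat_lit 3, nat_lit 3, nat_lit 3, nat_lit 2]))))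
 (.node (nat_lit 1102) (.node (nat_lit 1101) (.leaf ((nat_lit 333), [nat_lit 3, nat_lit 0])) (.leaf ((nat_lit 123), [nat_lit 4, nat_lit 4, nat_lit 4, nat_lit 2, nat_lit 0]))) (.node (nat_lit 1103) (.leaf ((nat_lit 245), [nat_lit 3, nat_lit 3, nat_lit 0])) (.leaf ((nat_lit 275), [nat_lit 4, nat_lit 2, nat_lit 1])))))
 (.node (nat_lit 1108) (.node (nat_lit 1106) (.node (nat_lit 1105) (.leaf ((nat_lit 332), [nat_lit 0])) (.leaf ((nat_lit 60), [nat_lit 4, nat_lit 4, nat_lit 4, nat_lit 1]))) (.node (nat_lit 1107) (.leaf ((nat_lit 334), [nat_lit 4, nat_lit 4, nat_lit 4, nat_lit 1])) (.leaf ((nat_lit 107), [nat_lit 3, nat_lit 0]))))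
 (.node (nat_lit 1110) (.node (nat_lit 1109) (.leaf ((nat_lit 106), [nat_lit 4, nat_lit 2, nat_lit 0])) (.leaf ((nat_lit 253), [nat_lit 4, nat_lit 4, nat_lit 2, nat_lit 1]))) (.node (nat_lit 1111) (.leaf ((nat_lit 333), [nat_lit 4, nat_lit 4, nat_lit 2, nat_lit 1, nat_lit 0])) (.node (nat_lit 1112) (.leaf ((nat_lit 334), [nat_lit 4, nat_lit 4, nat_lit 4])) (.leaf ((nat_lit 60), [nat_lit 4, nat_lit 4, nat_lit 4]))))))))
 (.node (nat_lit 1130) (.node (nat_lit 1121) (.node (nat_lit 1117) (.node (nat_lit 1115) (.node (nat_lit 1114) (.leaf ((nat_lit 275), [nat_lit 3, nat_lit 3, nat_lit 0])) (.leaf ((nat_lit 326), [nat_lit 4, nat_lit 2, nat_lit 1, nat_lit 0]))) (.node (nat_lit 1116) (.leaf ((nat_lit 335), [nat_lit 3, nat_lit 3, nat_lit 3, nat_lit 1, nat_lit 0])) (.leaf ((nat_lit 231), [nat_lit 2]))))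
 (.node (nat_lit 1119) (.node (nat_lit 1118) (.leaf ((nat_lit 227), [nat_lit 3, nat_lit 1, nat_lit 0])) (.leaf ((nat_lit 226), [nat_lit 3, nat_lit 2, nat_lit 1]))) (.node (nat_lit 1120) (.leaf ((nat_lit 61), [nat_lit 4, nat_lit 1, nat_lit 0])) (.leaf ((nat_lit 60), [nat_lit 4, nat_lit 4, nat_lit 2, nat_lit 1])))))
 (.node (nat_lit 1125) (.node (nat_lit 1123) (.node (nat_lit 1122) (.leaf ((nat_lit 242), [nat_lit 4, nat_lit 4, nat_lit 4, nat_lit 1])) (.leaf ((nat_lit 61), [nat_lit 3, nat_lit 3, nat_lit 2, nat_lit 1, nat_lit 0]))) (.node (nat_lit 1124) (.leaf ((nat_lit 148), [nat_lit 3, nat_lit 3, nat_lit 2, nat_lit 1, nat_lit 0])) (.leaf ((nat_lit 102), [nat_lit 4, nat_lit 4, nat_lit 4]))))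
 (.node (nat_lit 1127) (.node (nat_lit 1126) (.leaf ((nat_lit 163), [nat_lit 3, nat_lit 3, nat_lit 3, nat_lit 1, nat_lit 0])) (.leaf ((nat_lit 71), [nat_lit 4, nat_lit 4, nat_lit 0]))) (.node (nat_lit 1128) (.leaf ((nat_lit 331), [nat_lit 4, nat_lit 4])) (.node (nat_lit 1129) (.leaf ((nat_lit 148), [nat_lit 4, nat_lit 4])) (.leaf ((nat_lit 61), [nat_lit 4, nat_lit 4])))))))
 (.node (nat_lit 1138) (.node (nat_lit 1134) (.node (nat_lit 1132) (.node (nat_lit 1131) (.leaf ((nat_lit 336), [nat_lit 4, nat_lit 4, nat_lit 0])) (.leaf ((nat_lit 323), [nat_lit 4, nat_lit 2, nat_lit 0]))) (.node (nat_lit 1133) (.leaf ((nat_lit 205), [nat_lit 3, nat_lit 1])) (.leaf ((nat_lit 286), [nat_lit 4, nat_lit 4, nat_lit 4, nat_lit 2]))))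
 (.node (nat_lit 1136) (.node (nat_lit 1135) (.leaf ((nat_lit 102), [nat_lit 2, nat_lit 0])) (.leaf ((nat_lit 336), [nat_lit 4, nat_lit 4, nat_lit 2, nat_lit 0]))) (.node (nat_lit 1137) (.leaf ((nat_lit 61), [nat_lit 4, nat_lit 4, nat_lit 2])) (.leaf ((nat_lit 172), [nat_lit 2, nat_lit 0])))))
 (.node (nat_lit 1142) (.node (nat_lit 1140) (.node (nat_lit 1139) (.leaf ((nat_lit 276), [nat_lit 3, nat_lit 2, nat_lit 1])) (.leaf ((nat_lit 337), [nat_lit 3, nat_lit 3, nat_lit 3, nat_lit 2, nat_lit 1]))) (.node (nat_lit 1141) (.leaf ((nat_lit 241), [nat_lit 2, nat_lit 0])) (.leaf ((nat_lit 92), [nat_lit 4, nat_lit 4, nat_lit 4, nat_lit 0]))))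
 (.node (nat_lit 1144) (.node (nat_lit 1143) (.leaf ((nat_lit 95), [nat_lit 3, nat_lit 3, nat_lit 2, nat_lit 0])) (.leaf ((nat_lit 249), [nat_lit 3, nat_lit 3, nat_lit 3, nat_lit 2]))) (.node (nat_lit 1145) (.leaf ((nat_lit 190), [nat_lit 2, nat_lit 1, nat_lit 0])) (.node (nat_lit 1146) (.leaf ((nat_lit 61), [nat_lit 3, nat_lit 3, nat_lit 1, nat_lit 0])) (.leaf ((nat_lit 66), [nat_lit 2, nat_lit 0])))))))))
 (.node (nat_lit 1181) (.node (nat_lit 1164) (.node (nat_lit 1155) (.node (nat_lit 1151) (.node (nat_lit 1149) (.node (nat_lit 1148) (.leaf ((nat_lit 63), [nat_lit 3, nat_lit 3, nat_lit 1])) (.leaf ((nat_lit 62), [nat_lit 3, nat_lit 3]))) (.node (nat_lit 1150) (.leaf ((nat_lit 220), [nat_lit 3, nat_lit 0])) (.leaf ((nat_lit 219), [nat_lit 3, nat_lit 3, nat_lit 3, nat_lit 2, nat_lit 0]))))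
 (.node (nat_lit 1153) (.node (nat_lit 1152) (.leaf ((nat_lit 255), [nat_lit 3, nat_lit 3, nat_lit 2, nat_lit 1, nat_lit 0])) (.leaf ((nat_lit 338), [nat_lit 2, nat_lit 0]))) (.node (nat_lit 1154) (.leaf ((nat_lit 317), [nat_lit 4, nat_lit 4, nat_lit 0])) (.leaf ((nat_lit 272), [nat_lit 4, nat_lit 4])))))
 (.node (nat_lit 1159) (.node (nat_lit 1157) (.node (nat_lit 1156) (.leaf ((nat_lit 270), [nat_lit 3, nat_lit 3, nat_lit 3])) (.leaf ((nat_lit 269), [nat_lit 3, nat_lit 1]))) (.node (nat_lit 1158) (.leaf ((nat_lit 63), [nat_lit 3, nat_lit 3, nat_lit 2, nat_lit 0])) (.leaf ((nat_lit 147), [nat_lit 0]))))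
 (.node (nat_lit 1161) (.node (nat_lit 1160) (.leaf ((nat_lit 64), [nat_lit 4])) (.leaf ((nat_lit 134), [nat_lit 2, nat_lit 1]))) (.node (nat_lit 1162) (.leaf ((nat_lit 94), [nat_lit 4, nat_lit 4, nat_lit 1])) (.node (nat_lit 1163) (.leaf ((nat_lit 193), [nat_lit 1, nat_lit 0])) (.leaf ((nat_lit 336), [nat_lit 3, nat_lit 2, nat_lit 0])))))))
 (.node (nat_lit 1172) (.node (nat_lit 1168) (.node (nat_lit 1166) (.node (nat_lit 1165) (.leaf ((nat_lit 280), [nat_lit 2, nat_lit 1, nat_lit 0])) (.leaf ((nat_lit 197), [nat_lit 3, nat_lit 1]))) (.node (nat_lit 1167) (.leaf ((nat_lit 65), [nat_lit 3])) (.leaf ((nat_lit 121), [nat_lit 4, nat_lit 4]))))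
 (.node (nat_lit 1170) (.node (nat_lit 1169) (.leaf ((nat_lit 206), [nat_lit 4, nat_lit 4, nat_lit 1])) (.leaf ((nat_lit 159), [nat_lit 4, nat_lit 2, nat_lit 0]))) (.node (nat_lit 1171) (.leaf ((nat_lit 291), [nat_lit 2, nat_lit 0])) (.leaf ((nat_lit 136), [nat_lit 3, nat_lit 3, nat_lit 1])))))
 (.node (nat_lit 1176) (.node (nat_lit 1174) (.node (nat_lit 1173) (.leaf ((nat_lit 135), [nat_lit 3, nat_lit 3, nat_lit 1, nat_lit 0])) (.leaf ((nat_lit 93), [nat_lit 1, nat_lit 0]))) (.node (nat_lit 1175) (.leaf ((nat_lit 65), [nat_lit 3, nat_lit 3, nat_lit 3, nat_lit 1, nat_lit 0])) (.leaf ((nat_lit 235), [nat_lit 3, nat_lit 3, nat_lit 3, nat_lit 0]))))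
 (.node (nat_lit 1178) (.node (nat_lit 1177) (.leaf ((nat_lit 219), [nat_lit 3, nat_lit 3, nat_lit 2, nat_lit 0])) (.leaf ((nat_lit 140), [nat_lit 3]))) (.node (nat_lit 1179) (.leaf ((nat_lit 139), [nat_lit 3, nat_lit 2])) (.node (nat_lit 1180) (.leaf ((nat_lit 66), [nat_lit 4, nat_lit 2])) (.leaf ((nat_lit 111), [nat_lit 4, nat_lit 2, nat_lit 1, nat_lit 0]))))))))
 (.node (nat_lit 1198) (.node (nat_lit 1189) (.node (nat_lit 1185) (.node (nat_lit 1183) (.node (nat_lit 1182) (.leaf ((nat_lit 317), [nat_lit 3, nat_lit 0])) (.leaf ((nat_lit 220), [nat_lit 4, nat_lit 4, nat_lit 0]))) (.node (nat_lit 1184) (.leaf ((nat_lit 194), [nat_lit 4, nat_lit 0])) (.leaf ((nat_lit 142), [nat_lit 4, nat_lit 2, nat_lit 1]))))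
 (.node (nat_lit 1187) (.node (nat_lit 1186) (.leaf ((nat_lit 111), [nat_lit 4, nat_lit 4, nat_lit 4, nat_lit 1])) (.leaf ((nat_lit 66), [nat_lit 4, nat_lit 4, nat_lit 4]))) (.node (nat_lit 1188) (.leaf ((nat_lit 179), [nat_lit 4, nat_lit 1, nat_lit 0])) (.leaf ((nat_lit 277), [nat_lit 2, nat_lit 0])))))
 (.node (nat_lit 1193) (.node (nat_lit 1191) (.node (nat_lit 1190) (.leaf ((nat_lit 304), [nat_lit 3, nat_lit 3, nat_lit 3, nat_lit 1, nat_lit 0])) (.leaf ((nat_lit 67), [nat_lit 3, nat_lit 3, nat_lit 3]))) (.node (nat_lit 1192) (.leaf ((nat_lit 263), [nat_lit 3, nat_lit 3, nat_lit 3, nat_lit 2])) (.leaf ((nat_lit 142), [nat_lit 3, nat_lit 3, nat_lit 1]))))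
 (.node (nat_lit 1195) (.node (nat_lit 1194) (.leaf ((nat_lit 339), [nat_lit 3, nat_lit 3, nat_lit 0])) (.leaf ((nat_lit 319), [nat_lit 0]))) (.node (nat_lit 1196) (.leaf ((nat_lit 268), [nat_lit 4, nat_lit 4, nat_lit 4, nat_lit 1])) (.node (nat_lit 1197) (.leaf ((nat_lit 229), [nat_lit 4, nat_lit 4, nat_lit 4, nat_lit 1])) (.leaf ((nat_lit 86), [nat_lit 3, nat_lit 3, nat_lit 3, nat_lit 2, nat_lit 1])))))))
 (.node (nat_lit 1206) (.node (nat_lit 1202) (.node (nat_lit 1200) (.node (nat_lit 1199) (.leaf ((nat_lit 340), [nat_lit 4, nat_lit 4, nat_lit 4, nat_lit 1, nat_lit 0])) (.leaf ((nat_lit 67), [nat_lit 3, nat_lit 1, nat_lit 0]))) (.node (nat_lit 1201) (.leaf ((nat_lit 68), [nat_lit 2, nat_lit 0])) (.leaf ((nat_lit 131), [nat_lit 3, nat_lit 3, nat_lit 1]))))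
 (.node (nat_lit 1204) (.node (nat_lit 1203) (.leaf ((nat_lit 206), [nat_lit 4, nat_lit 4, nat_lit 4, nat_lit 0])) (.leaf ((nat_lit 146), [nat_lit 4, nat_lit 4, nat_lit 4, nat_lit 2]))) (.node (nat_lit 1205) (.leaf ((nat_lit 135), [nat_lit 4])) (.leaf ((nat_lit 120), [nat_lit 2])))))
 (.node (nat_lit 1210) (.node (nat_lit 1208) (.node (nat_lit 1207) (.leaf ((nat_lit 131), [nat_lit 4, nat_lit 4, nat_lit 1, nat_lit 0])) (.leaf ((nat_lit 68), [nat_lit 3, nat_lit 3, nat_lit 3, nat_lit 1]))) (.node (nat_lit 1209) (.leaf ((nat_lit 115), [nat_lit 3, nat_lit 2])) (.leaf ((nat_lit 165), [nat_lit 3, nat_lit 3, nat_lit 3, nat_lit 1]))))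
 (.node (nat_lit 1212) (.node (nat_lit 1211) (.leaf ((nat_lit 117), [nat_lit 3, nat_lit 3, nat_lit 2])) (.leaf ((nat_lit 138), [nat_lit 0]))) (.node (nat_lit 1213) (.leaf ((nat_lit 206), [nat_lit 2, nat_lit 0])) (.node (nat_lit 1214) (.leaf ((nat_lit 115), [nat_lit 3, nat_lit 2, nat_lit 1])) (.leaf ((nat_lit 68), [nat_lit 3, nat_lit 3, nat_lit 3]))))))))))
noncomputable def n12Wd_9 : Tr (ℕ × List ℕ) := (.node (nat_lit 1282) (.node (nat_lit 1248) (.node (nat_lit 1231) (.node (nat_lit 1223) (.node (nat_lit 1219) (.node (nat_lit 1217) (.node (nat_lit 1216) (.leaf ((nat_lit 280), [nat_lit 3, nat_lit 3, nat_lit 0])) (.leaf ((nat_lit 140), [nat_lit 3, nat_lit 3, nat_lit 2, nat_lit 1]))) (.node (nat_lit 1218) (.leaf ((nat_lit 267), [nat_lit 3, nat_lit 3, nat_lit 3, nat_lit 2])) (.leaf ((nat_lit 289), [nat_lit 2, nat_lit 1, nat_lit 0]))))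
 (.node (nat_lit 1221) (.node (nat_lit 1220) (.leaf ((nat_lit 144), [nat_lit 4, nat_lit 4, nat_lit 2, nat_lit 1, nat_lit 0])) (.leaf ((nat_lit 141), [nat_lit 4, nat_lit 4, nat_lit 1, nat_lit 0]))) (.node (nat_lit 1222) (.leaf ((nat_lit 242), [nat_lit 4, nat_lit 4])) (.leaf ((nat_lit 68), [nat_lit 3, nat_lit 1, nat_lit 0])))))
 (.node (nat_lit 1227) (.node (nat_lit 1225) (.node (nat_lit 1224) (.leaf ((nat_lit 303), [nat_lit 3, nat_lit 2, nat_lit 0])) (.leaf ((nat_lit 121), [nat_lit 2, nat_lit 0]))) (.node (nat_lit 1226) (.leaf ((nat_lit 69), [nat_lit 3, nat_lit 1, nat_lit 0])) (.leaf ((nat_lit 119), [nat_lit 3, nat_lit 3, nat_lit 3, nat_lit 2, nat_lit 0]))))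
 (.node (nat_lit 1229) (.node (nat_lit 1228) (.leaf ((nat_lit 140), [nat_lit 3, nat_lit 3])) (.leaf ((nat_lit 280), [nat_lit 3, nat_lit 3, nat_lit 2, nat_lit 1, nat_lit 0]))) (.node (nat_lit 1230) (.leaf ((nat_lit 272), [nat_lit 3, nat_lit 3, nat_lit 3, nat_lit 2])) (.leaf ((nat_lit 341), [nat_lit 2, nat_lit 0]))))))
 (.node (nat_lit 1239) (.node (nat_lit 1235) (.node (nat_lit 1233) (.node (nat_lit 1232) (.leaf ((nat_lit 179), [nat_lit 4, nat_lit 4, nat_lit 4, nat_lit 0])) (.leaf ((nat_lit 211), [nat_lit 4, nat_lit 4, nat_lit 4, nat_lit 2, nat_lit 0]))) (.node (nat_lit 1234) (.leaf ((nat_lit 317), [nat_lit 3, nat_lit 3, nat_lit 1])) (.leaf ((nat_lit 188), [nat_lit 4, nat_lit 0]))))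
 (.node (nat_lit 1237) (.node (nat_lit 1236) (.leaf ((nat_lit 69), [nat_lit 3])) (.leaf ((nat_lit 202), [nat_lit 2, nat_lit 0]))) (.node (nat_lit 1238) (.leaf ((nat_lit 70), [nat_lit 3, nat_lit 3, nat_lit 3])) (.leaf ((nat_lit 200), [nat_lit 3, nat_lit 3, nat_lit 3, nat_lit 1, nat_lit 0])))))
 (.node (nat_lit 1243) (.node (nat_lit 1241) (.node (nat_lit 1240) (.leaf ((nat_lit 290), [nat_lit 3, nat_lit 3, nat_lit 0])) (.leaf ((nat_lit 194), [nat_lit 3, nat_lit 3, nat_lit 1, nat_lit 0]))) (.node (nat_lit 1242) (.leaf ((nat_lit 161), [nat_lit 3, nat_lit 2, nat_lit 1, nat_lit 0])) (.leaf ((nat_lit 342), [nat_lit 2, nat_lit 0]))))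
 (.node (nat_lit 1245) (.node (nat_lit 1244) (.leaf ((nat_lit 116), [nat_lit 4, nat_lit 2, nat_lit 0])) (.leaf ((nat_lit 155), [nat_lit 4, nat_lit 4, nat_lit 4, nat_lit 0]))) (.node (nat_lit 1246) (.leaf ((nat_lit 308), [nat_lit 3, nat_lit 3, nat_lit 2, nat_lit 1])) (.node (nat_lit 1247) (.leaf ((nat_lit 264), [nat_lit 4, nat_lit 4, nat_lit 4])) (.leaf ((nat_lit 70), [nat_lit 3, nat_lit 3, nat_lit 3, nat_lit 2, nat_lit 1]))))))))
 (.node (nat_lit 1265) (.node (nat_lit 1256) (.node (nat_lit 1252) (.node (nat_lit 1250) (.node (nat_lit 1249) (.leaf ((nat_lit 71), [nat_lit 2, nat_lit 0])) (.leaf ((nat_lit 343), [nat_lit 4, nat_lit 2]))) (.node (nat_lit 1251) (.leaf ((nat_lit 329), [nat_lit 4, nat_lit 1])) (.leaf ((nat_lit 273), [nat_lit 3, nat_lit 3, nat_lit 3, nat_lit 2, nat_lit 0]))))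
 (.node (nat_lit 1254) (.node (nat_lit 1253) (.leaf ((nat_lit 325), [nat_lit 3, nat_lit 3])) (.leaf ((nat_lit 320), [nat_lit 3, nat_lit 3]))) (.node (nat_lit 1255) (.leaf ((nat_lit 343), [nat_lit 3, nat_lit 3])) (.leaf ((nat_lit 71), [nat_lit 3, nat_lit 3, nat_lit 3, nat_lit 1, nat_lit 0])))))
 (.node (nat_lit 1260) (.node (nat_lit 1258) (.node (nat_lit 1257) (.leaf ((nat_lit 221), [nat_lit 3, nat_lit 3, nat_lit 3, nat_lit 1])) (.leaf ((nat_lit 276), [nat_lit 4, nat_lit 2, nat_lit 1, nat_lit 0]))) (.node (nat_lit 1259) (.leaf ((nat_lit 172), [nat_lit 4, nat_lit 4, nat_lit 2, nat_lit 0])) (.leaf ((nat_lit 290), [nat_lit 3, nat_lit 2, nat_lit 1, nat_lit 0]))))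
 (.node (nat_lit 1262) (.node (nat_lit 1261) (.leaf ((nat_lit 329), [nat_lit 2, nat_lit 0])) (.leaf ((nat_lit 221), [nat_lit 3, nat_lit 2, nat_lit 0]))) (.node (nat_lit 1263) (.leaf ((nat_lit 71), [nat_lit 3, nat_lit 1, nat_lit 0])) (.node (nat_lit 1264) (.leaf ((nat_lit 259), [nat_lit 3, nat_lit 3, nat_lit 1, nat_lit 0])) (.leaf ((nat_lit 258), [nat_lit 3, nat_lit 3, nat_lit 3])))))))
 (.node (nat_lit 1273) (.node (nat_lit 1269) (.node (nat_lit 1267) (.node (nat_lit 1266) (.leaf ((nat_lit 115), [nat_lit 3, nat_lit 2, nat_lit 0])) (.leaf ((nat_lit 344), [nat_lit 2, nat_lit 1]))) (.node (nat_lit 1268) (.leaf ((nat_lit 255), [nat_lit 3, nat_lit 3, nat_lit 3, nat_lit 2, nat_lit 1, nat_lit 0])) (.leaf ((nat_lit 205), [nat_lit 3, nat_lit 3, nat_lit 3, nat_lit 2, nat_lit 1]))))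
 (.node (nat_lit 1271) (.node (nat_lit 1270) (.leaf ((nat_lit 71), [nat_lit 4, nat_lit 4, nat_lit 4, nat_lit 2])) (.leaf ((nat_lit 163), [nat_lit 3, nat_lit 3, nat_lit 2, nat_lit 0]))) (.node (nat_lit 1272) (.leaf ((nat_lit 140), [nat_lit 4, nat_lit 1, nat_lit 0])) (.leaf ((nat_lit 212), [nat_lit 0])))))
 (.node (nat_lit 1277) (.node (nat_lit 1275) (.node (nat_lit 1274) (.leaf ((nat_lit 212), [nat_lit 1])) (.leaf ((nat_lit 212), [nat_lit 2, nat_lit 1, nat_lit 0]))) (.node (nat_lit 1276) (.leaf ((nat_lit 72), [nat_lit 4, nat_lit 2])) (.leaf ((nat_lit 109), [nat_lit 3, nat_lit 3, nat_lit 3, nat_lit 1]))))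
 (.node (nat_lit 1279) (.node (nat_lit 1278) (.leaf ((nat_lit 324), [nat_lit 4, nat_lit 4])) (.leaf ((nat_lit 321), [nat_lit 4, nat_lit 4, nat_lit 1]))) (.node (nat_lit 1280) (.leaf ((nat_lit 309), [nat_lit 3, nat_lit 2, nat_lit 1, nat_lit 0])) (.node (nat_lit 1281) (.leaf ((nat_lit 285), [nat_lit 4, nat_lit 2, nat_lit 1])) (.leaf ((nat_lit 278), [nat_lit 3, nat_lit 3, nat_lit 1])))))))))
 (.node (nat_lit 1316) (.node (nat_lit 1299) (.node (nat_lit 1290) (.node (nat_lit 1286) (.node (nat_lit 1284) (.node (nat_lit 1283) (.leaf ((nat_lit 295), [nat_lit 4, nat_lit 4])) (.leaf ((nat_lit 72), [nat_lit 3, nat_lit 1]))) (.node (nat_lit 1285) (.leaf ((nat_lit 73), [nat_lit 3, nat_lit 3, nat_lit 1, nat_lit 0])) (.leaf ((nat_lit 292), [nat_lit 1, nat_lit 0]))))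
 (.node (nat_lit 1288) (.node (nat_lit 1287) (.leaf ((nat_lit 176), [nat_lit 1, nat_lit 0])) (.leaf ((nat_lit 328), [nat_lit 3, nat_lit 3, nat_lit 2, nat_lit 1, nat_lit 0]))) (.node (nat_lit 1289) (.leaf ((nat_lit 345), [nat_lit 3, nat_lit 3, nat_lit 3, nat_lit 1, nat_lit 0])) (.leaf ((nat_lit 158), [nat_lit 4, nat_lit 4, nat_lit 1, nat_lit 0])))))
 (.node (nat_lit 1294) (.node (nat_lit 1292) (.node (nat_lit 1291) (.leaf ((nat_lit 292), [])) (.leaf ((nat_lit 73), [nat_lit 3, nat_lit 3]))) (.node (nat_lit 1293) (.leaf ((nat_lit 337), [nat_lit 3, nat_lit 3, nat_lit 1, nat_lit 0])) (.leaf ((nat_lit 338), [nat_lit 4, nat_lit 4, nat_lit 4]))))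
 (.node (nat_lit 1296) (.node (nat_lit 1295) (.leaf ((nat_lit 244), [nat_lit 3, nat_lit 3, nat_lit 3])) (.leaf ((nat_lit 98), [nat_lit 4, nat_lit 4, nat_lit 4]))) (.node (nat_lit 1297) (.leaf ((nat_lit 176), [])) (.node (nat_lit 1298) (.leaf ((nat_lit 337), [nat_lit 3, nat_lit 3, nat_lit 1, nat_lit 0])) (.leaf ((nat_lit 73), [nat_lit 3, nat_lit 3])))))))
 (.node (nat_lit 1307) (.node (nat_lit 1303) (.node (nat_lit 1301) (.node (nat_lit 1300) (.leaf ((nat_lit 245), [nat_lit 3, nat_lit 2, nat_lit 1])) (.leaf ((nat_lit 123), [nat_lit 3, nat_lit 3, nat_lit 3]))) (.node (nat_lit 1302) (.leaf ((nat_lit 251), [nat_lit 4, nat_lit 4, nat_lit 1, nat_lit 0])) (.leaf ((nat_lit 156), []))))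
 (.node (nat_lit 1305) (.node (nat_lit 1304) (.leaf ((nat_lit 286), [nat_lit 3, nat_lit 3, nat_lit 3])) (.leaf ((nat_lit 346), [nat_lit 3, nat_lit 3, nat_lit 3, nat_lit 2, nat_lit 1, nat_lit 0]))) (.node (nat_lit 1306) (.leaf ((nat_lit 73), [nat_lit 4, nat_lit 4, nat_lit 0])) (.leaf ((nat_lit 293), [nat_lit 3, nat_lit 3, nat_lit 1, nat_lit 0])))))
 (.node (nat_lit 1311) (.node (nat_lit 1309) (.node (nat_lit 1308) (.leaf ((nat_lit 90), [nat_lit 3, nat_lit 2, nat_lit 1])) (.leaf ((nat_lit 238), [nat_lit 4, nat_lit 4, nat_lit 2, nat_lit 1, nat_lit 0]))) (.node (nat_lit 1310) (.leaf ((nat_lit 237), [nat_lit 4, nat_lit 4, nat_lit 4])) (.leaf ((nat_lit 153), [nat_lit 4, nat_lit 4, nat_lit 4]))))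
 (.node (nat_lit 1313) (.node (nat_lit 1312) (.leaf ((nat_lit 293), [nat_lit 3, nat_lit 3, nat_lit 3, nat_lit 2, nat_lit 0])) (.leaf ((nat_lit 73), [nat_lit 4]))) (.node (nat_lit 1314) (.leaf ((nat_lit 296), [nat_lit 3, nat_lit 3, nat_lit 2, nat_lit 1])) (.node (nat_lit 1315) (.leaf ((nat_lit 196), [nat_lit 4, nat_lit 4, nat_lit 0])) (.leaf ((nat_lit 290), [nat_lit 4, nat_lit 1]))))))))
 (.node (nat_lit 1333) (.node (nat_lit 1324) (.node (nat_lit 1320) (.node (nat_lit 1318) (.node (nat_lit 1317) (.leaf ((nat_lit 110), [nat_lit 4, nat_lit 2])) (.leaf ((nat_lit 74), [nat_lit 4, nat_lit 4, nat_lit 4, nat_lit 1]))) (.node (nat_lit 1319) (.leaf ((nat_lit 191), [nat_lit 4, nat_lit 4, nat_lit 4, nat_lit 2])) (.leaf ((nat_lit 308), [nat_lit 4]))))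
 (.node (nat_lit 1322) (.node (nat_lit 1321) (.leaf ((nat_lit 197), [nat_lit 3, nat_lit 3, nat_lit 2, nat_lit 0])) (.leaf ((nat_lit 280), [nat_lit 3, nat_lit 2, nat_lit 1]))) (.node (nat_lit 1323) (.leaf ((nat_lit 279), [nat_lit 3, nat_lit 2, nat_lit 1, nat_lit 0])) (.leaf ((nat_lit 191), [nat_lit 4, nat_lit 2])))))
 (.node (nat_lit 1328) (.node (nat_lit 1326) (.node (nat_lit 1325) (.leaf ((nat_lit 74), [nat_lit 4, nat_lit 2, nat_lit 0])) (.leaf ((nat_lit 259), [nat_lit 3, nat_lit 2, nat_lit 1, nat_lit 0]))) (.node (nat_lit 1327) (.leaf ((nat_lit 347), [nat_lit 1, nat_lit 0])) (.leaf ((nat_lit 210), [nat_lit 4, nat_lit 1]))))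
 (.node (nat_lit 1330) (.node (nat_lit 1329) (.leaf ((nat_lit 209), [nat_lit 4, nat_lit 4, nat_lit 4, nat_lit 2, nat_lit 1])) (.leaf ((nat_lit 161), [nat_lit 4]))) (.node (nat_lit 1331) (.leaf ((nat_lit 98), [nat_lit 3, nat_lit 3, nat_lit 1])) (.node (nat_lit 1332) (.leaf ((nat_lit 74), [nat_lit 4, nat_lit 4, nat_lit 2, nat_lit 0])) (.leaf ((nat_lit 149), [nat_lit 2, nat_lit 0])))))))
 (.node (nat_lit 1341) (.node (nat_lit 1337) (.node (nat_lit 1335) (.node (nat_lit 1334) (.leaf ((nat_lit 146), [nat_lit 2, nat_lit 1, nat_lit 0])) (.leaf ((nat_lit 75), [nat_lit 4, nat_lit 4, nat_lit 4, nat_lit 1, nat_lit 0]))) (.node (nat_lit 1336) (.leaf ((nat_lit 348), [nat_lit 3, nat_lit 3, nat_lit 3, nat_lit 2])) (.leaf ((nat_lit 222), [nat_lit 1]))))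
 (.node (nat_lit 1339) (.node (nat_lit 1338) (.leaf ((nat_lit 177), [nat_lit 3, nat_lit 3, nat_lit 2, nat_lit 1, nat_lit 0])) (.leaf ((nat_lit 223), [nat_lit 2, nat_lit 0]))) (.node (nat_lit 1340) (.leaf ((nat_lit 223), [nat_lit 1, nat_lit 0])) (.leaf ((nat_lit 223), [nat_lit 1])))))
 (.node (nat_lit 1345) (.node (nat_lit 1343) (.node (nat_lit 1342) (.leaf ((nat_lit 76), [nat_lit 3, nat_lit 0])) (.leaf ((nat_lit 75), [nat_lit 4, nat_lit 4, nat_lit 4, nat_lit 0]))) (.node (nat_lit 1344) (.leaf ((nat_lit 153), [nat_lit 3, nat_lit 3, nat_lit 2, nat_lit 1])) (.leaf ((nat_lit 251), [nat_lit 2, nat_lit 0]))))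
 (.node (nat_lit 1347) (.node (nat_lit 1346) (.leaf ((nat_lit 250), [nat_lit 3, nat_lit 3, nat_lit 3, nat_lit 2, nat_lit 0])) (.leaf ((nat_lit 76), [nat_lit 3, nat_lit 1, nat_lit 0]))) (.node (nat_lit 1348) (.leaf ((nat_lit 322), [nat_lit 3, nat_lit 3, nat_lit 3])) (.node (nat_lit 1349) (.leaf ((nat_lit 279), [nat_lit 3, nat_lit 3, nat_lit 2, nat_lit 0])) (.leaf ((nat_lit 298), [nat_lit 3, nat_lit 3, nat_lit 2, nat_lit 1]))))))))))
noncomputable def n12Wd_10 : Tr (ℕ × List ℕ) := (.node (nat_lit 1417) (.node (nat_lit 1383) (.node (nat_lit 1366) (.node (nat_lit 1358) (.node (nat_lit 1354) (.node (nat_lit 1352) (.node (nat_lit 1351) (.leaf ((nat_lit 256), [])) (.leaf ((nat_lit 331), [nat_lit 1, nat_lit 0]))) (.node (nat_lit 1353) (.leaf ((nat_lit 303), [nat_lit 3, nat_lit 3, nat_lit 0])) (.leaf ((nat_lit 118), [nat_lit 3, nat_lit 3, nat_lit 3, nat_lit 1, nat_lit 0]))))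
 (.node (nat_lit 1356) (.node (nat_lit 1355) (.leaf ((nat_lit 296), [nat_lit 3, nat_lit 3, nat_lit 3, nat_lit 2])) (.leaf ((nat_lit 76), [nat_lit 4, nat_lit 2, nat_lit 0]))) (.node (nat_lit 1357) (.leaf ((nat_lit 78), [nat_lit 4, nat_lit 4, nat_lit 2, nat_lit 1, nat_lit 0])) (.leaf ((nat_lit 77), [nat_lit 4, nat_lit 4, nat_lit 4, nat_lit 0])))))
 (.node (nat_lit 1362) (.node (nat_lit 1360) (.node (nat_lit 1359) (.leaf ((nat_lit 186), [nat_lit 4, nat_lit 2, nat_lit 1, nat_lit 0])) (.leaf ((nat_lit 239), [nat_lit 3, nat_lit 3, nat_lit 1, nat_lit 0]))) (.node (nat_lit 1361) (.leaf ((nat_lit 292), [nat_lit 4, nat_lit 4, nat_lit 4])) (.leaf ((nat_lit 288), [nat_lit 3, nat_lit 3, nat_lit 3]))))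
 (.node (nat_lit 1364) (.node (nat_lit 1363) (.leaf ((nat_lit 79), [nat_lit 0])) (.leaf ((nat_lit 186), [nat_lit 4, nat_lit 2, nat_lit 0]))) (.node (nat_lit 1365) (.leaf ((nat_lit 77), [nat_lit 4, nat_lit 4, nat_lit 4, nat_lit 1, nat_lit 0])) (.leaf ((nat_lit 167), [nat_lit 4, nat_lit 4, nat_lit 0]))))))
 (.node (nat_lit 1374) (.node (nat_lit 1370) (.node (nat_lit 1368) (.node (nat_lit 1367) (.leaf ((nat_lit 274), [nat_lit 4, nat_lit 4, nat_lit 4, nat_lit 1])) (.leaf ((nat_lit 169), [nat_lit 3, nat_lit 2, nat_lit 1]))) (.node (nat_lit 1369) (.leaf ((nat_lit 106), [nat_lit 2])) (.leaf ((nat_lit 335), [nat_lit 4, nat_lit 4, nat_lit 1]))))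
 (.node (nat_lit 1372) (.node (nat_lit 1371) (.leaf ((nat_lit 173), [nat_lit 4, nat_lit 4, nat_lit 1])) (.leaf ((nat_lit 77), [nat_lit 3, nat_lit 3, nat_lit 0]))) (.node (nat_lit 1373) (.leaf ((nat_lit 346), [nat_lit 3, nat_lit 2, nat_lit 1, nat_lit 0])) (.leaf ((nat_lit 334), [nat_lit 4, nat_lit 2, nat_lit 1, nat_lit 0])))))
 (.node (nat_lit 1378) (.node (nat_lit 1376) (.node (nat_lit 1375) (.leaf ((nat_lit 162), [])) (.leaf ((nat_lit 345), [nat_lit 3, nat_lit 3, nat_lit 3]))) (.node (nat_lit 1377) (.leaf ((nat_lit 199), [nat_lit 3, nat_lit 3, nat_lit 3, nat_lit 2, nat_lit 1, nat_lit 0])) (.leaf ((nat_lit 346), [nat_lit 4]))))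
 (.node (nat_lit 1380) (.node (nat_lit 1379) (.leaf ((nat_lit 77), [nat_lit 1, nat_lit 0])) (.leaf ((nat_lit 291), [nat_lit 4, nat_lit 4, nat_lit 4, nat_lit 2, nat_lit 1, nat_lit 0]))) (.node (nat_lit 1381) (.leaf ((nat_lit 126), [])) (.node (nat_lit 1382) (.leaf ((nat_lit 288), [nat_lit 3, nat_lit 3, nat_lit 1, nat_lit 0])) (.leaf ((nat_lit 302), [nat_lit 3, nat_lit 3]))))))))
 (.node (nat_lit 1400) (.node (nat_lit 1391) (.node (nat_lit 1387) (.node (nat_lit 1385) (.node (nat_lit 1384) (.leaf ((nat_lit 231), [nat_lit 3, nat_lit 2, nat_lit 1, nat_lit 0])) (.leaf ((nat_lit 285), [nat_lit 3, nat_lit 0]))) (.node (nat_lit 1386) (.leaf ((nat_lit 77), [nat_lit 3, nat_lit 3, nat_lit 3, nat_lit 2])) (.leaf ((nat_lit 186), [nat_lit 2]))))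
 (.node (nat_lit 1389) (.node (nat_lit 1388) (.leaf ((nat_lit 79), [nat_lit 3, nat_lit 2, nat_lit 0])) (.leaf ((nat_lit 78), [nat_lit 4, nat_lit 2]))) (.node (nat_lit 1390) (.leaf ((nat_lit 230), [nat_lit 4, nat_lit 1, nat_lit 0])) (.leaf ((nat_lit 287), [nat_lit 4, nat_lit 4, nat_lit 1])))))
 (.node (nat_lit 1395) (.node (nat_lit 1393) (.node (nat_lit 1392) (.leaf ((nat_lit 300), [nat_lit 3, nat_lit 3, nat_lit 2, nat_lit 0])) (.leaf ((nat_lit 269), [nat_lit 1, nat_lit 0]))) (.node (nat_lit 1394) (.leaf ((nat_lit 258), [nat_lit 3, nat_lit 3, nat_lit 1])) (.leaf ((nat_lit 158), [nat_lit 4, nat_lit 4, nat_lit 4, nat_lit 2, nat_lit 1, nat_lit 0]))))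
 (.node (nat_lit 1397) (.node (nat_lit 1396) (.leaf ((nat_lit 78), [nat_lit 3, nat_lit 3, nat_lit 3, nat_lit 2, nat_lit 0])) (.leaf ((nat_lit 257), [nat_lit 4, nat_lit 1]))) (.node (nat_lit 1398) (.leaf ((nat_lit 348), [nat_lit 3, nat_lit 1])) (.node (nat_lit 1399) (.leaf ((nat_lit 236), [])) (.leaf ((nat_lit 302), [nat_lit 3, nat_lit 3])))))))
 (.node (nat_lit 1408) (.node (nat_lit 1404) (.node (nat_lit 1402) (.node (nat_lit 1401) (.leaf ((nat_lit 288), [nat_lit 3, nat_lit 3, nat_lit 1, nat_lit 0])) (.leaf ((nat_lit 257), [nat_lit 4, nat_lit 4, nat_lit 4, nat_lit 2]))) (.node (nat_lit 1403) (.leaf ((nat_lit 78), [nat_lit 3, nat_lit 0])) (.leaf ((nat_lit 349), [nat_lit 4, nat_lit 2, nat_lit 1]))))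
 (.node (nat_lit 1406) (.node (nat_lit 1405) (.leaf ((nat_lit 234), [nat_lit 2])) (.leaf ((nat_lit 234), [nat_lit 1]))) (.node (nat_lit 1407) (.leaf ((nat_lit 234), [nat_lit 2, nat_lit 1, nat_lit 0])) (.leaf ((nat_lit 84), [nat_lit 4, nat_lit 2])))))
 (.node (nat_lit 1412) (.node (nat_lit 1410) (.node (nat_lit 1409) (.leaf ((nat_lit 88), [nat_lit 4, nat_lit 0])) (.leaf ((nat_lit 78), [nat_lit 3, nat_lit 3, nat_lit 1, nat_lit 0]))) (.node (nat_lit 1411) (.leaf ((nat_lit 182), [])) (.leaf ((nat_lit 350), [nat_lit 3, nat_lit 3, nat_lit 1, nat_lit 0]))))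
 (.node (nat_lit 1414) (.node (nat_lit 1413) (.leaf ((nat_lit 301), [nat_lit 3, nat_lit 3])) (.leaf ((nat_lit 298), [nat_lit 4, nat_lit 1]))) (.node (nat_lit 1415) (.leaf ((nat_lit 79), [nat_lit 3, nat_lit 3, nat_lit 3, nat_lit 2])) (.node (nat_lit 1416) (.leaf ((nat_lit 195), [nat_lit 4, nat_lit 4, nat_lit 4, nat_lit 2, nat_lit 1, nat_lit 0])) (.leaf ((nat_lit 233), [])))))))))
 (.node (nat_lit 1451) (.node (nat_lit 1434) (.node (nat_lit 1425) (.node (nat_lit 1421) (.node (nat_lit 1419) (.node (nat_lit 1418) (.leaf ((nat_lit 300), [nat_lit 1, nat_lit 0])) (.leaf ((nat_lit 299), [nat_lit 3, nat_lit 3, nat_lit 0]))) (.node (nat_lit 1420) (.leaf ((nat_lit 340), [nat_lit 3, nat_lit 3])) (.leaf ((nat_lit 86), [nat_lit 3, nat_lit 0]))))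
 (.node (nat_lit 1423) (.node (nat_lit 1422) (.leaf ((nat_lit 79), [nat_lit 4])) (.leaf ((nat_lit 80), []))) (.node (nat_lit 1424) (.leaf ((nat_lit 218), [nat_lit 3, nat_lit 3, nat_lit 3])) (.leaf ((nat_lit 310), [nat_lit 3, nat_lit 3, nat_lit 3, nat_lit 2, nat_lit 1, nat_lit 0])))))
 (.node (nat_lit 1429) (.node (nat_lit 1427) (.node (nat_lit 1426) (.leaf ((nat_lit 332), [nat_lit 4, nat_lit 2])) (.leaf ((nat_lit 132), [nat_lit 3, nat_lit 3]))) (.node (nat_lit 1428) (.leaf ((nat_lit 125), [nat_lit 3, nat_lit 3, nat_lit 2])) (.leaf ((nat_lit 218), [nat_lit 3, nat_lit 3, nat_lit 2]))))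
 (.node (nat_lit 1431) (.node (nat_lit 1430) (.leaf ((nat_lit 80), [nat_lit 4, nat_lit 2])) (.leaf ((nat_lit 295), [nat_lit 4, nat_lit 2]))) (.node (nat_lit 1432) (.leaf ((nat_lit 174), [nat_lit 3, nat_lit 3, nat_lit 3, nat_lit 2])) (.node (nat_lit 1433) (.leaf ((nat_lit 302), [nat_lit 3, nat_lit 2])) (.leaf ((nat_lit 85), [nat_lit 4, nat_lit 4, nat_lit 4, nat_lit 2, nat_lit 1])))))))
 (.node (nat_lit 1442) (.node (nat_lit 1438) (.node (nat_lit 1436) (.node (nat_lit 1435) (.leaf ((nat_lit 310), [nat_lit 0])) (.leaf ((nat_lit 295), [nat_lit 4, nat_lit 4, nat_lit 4, nat_lit 1, nat_lit 0]))) (.node (nat_lit 1437) (.leaf ((nat_lit 80), [nat_lit 4, nat_lit 4, nat_lit 4, nat_lit 1, nat_lit 0])) (.leaf ((nat_lit 226), [nat_lit 4, nat_lit 4, nat_lit 1]))))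
 (.node (nat_lit 1440) (.node (nat_lit 1439) (.leaf ((nat_lit 301), [nat_lit 4, nat_lit 1, nat_lit 0])) (.leaf ((nat_lit 293), [nat_lit 3, nat_lit 1]))) (.node (nat_lit 1441) (.leaf ((nat_lit 240), [nat_lit 2, nat_lit 0])) (.leaf ((nat_lit 240), [nat_lit 2, nat_lit 1, nat_lit 0])))))
 (.node (nat_lit 1446) (.node (nat_lit 1444) (.node (nat_lit 1443) (.leaf ((nat_lit 240), [nat_lit 1, nat_lit 0])) (.leaf ((nat_lit 122), [nat_lit 3, nat_lit 3, nat_lit 0]))) (.node (nat_lit 1445) (.leaf ((nat_lit 92), [nat_lit 4, nat_lit 4, nat_lit 4, nat_lit 2, nat_lit 1])) (.leaf ((nat_lit 80), [nat_lit 3, nat_lit 3, nat_lit 3, nat_lit 0]))))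
 (.node (nat_lit 1448) (.node (nat_lit 1447) (.leaf ((nat_lit 190), [nat_lit 2, nat_lit 0])) (.leaf ((nat_lit 83), [nat_lit 4, nat_lit 2, nat_lit 1]))) (.node (nat_lit 1449) (.leaf ((nat_lit 137), [nat_lit 3, nat_lit 2, nat_lit 1, nat_lit 0])) (.node (nat_lit 1450) (.leaf ((nat_lit 311), [nat_lit 3, nat_lit 3, nat_lit 3])) (.leaf ((nat_lit 241), [nat_lit 1]))))))))
 (.node (nat_lit 1468) (.node (nat_lit 1459) (.node (nat_lit 1455) (.node (nat_lit 1453) (.node (nat_lit 1452) (.leaf ((nat_lit 99), [nat_lit 3, nat_lit 3, nat_lit 2, nat_lit 1, nat_lit 0])) (.leaf ((nat_lit 242), [nat_lit 2, nat_lit 0]))) (.node (nat_lit 1454) (.leaf ((nat_lit 242), [nat_lit 1])) (.leaf ((nat_lit 242), [nat_lit 2, nat_lit 1]))))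
 (.node (nat_lit 1457) (.node (nat_lit 1456) (.leaf ((nat_lit 203), [nat_lit 3, nat_lit 3])) (.leaf ((nat_lit 83), [nat_lit 4, nat_lit 2]))) (.node (nat_lit 1458) (.leaf ((nat_lit 186), [nat_lit 3, nat_lit 3, nat_lit 3, nat_lit 2, nat_lit 1, nat_lit 0])) (.leaf ((nat_lit 345), [nat_lit 3, nat_lit 3, nat_lit 2])))))
 (.node (nat_lit 1463) (.node (nat_lit 1461) (.node (nat_lit 1460) (.leaf ((nat_lit 162), [nat_lit 4, nat_lit 2])) (.leaf ((nat_lit 298), [nat_lit 4, nat_lit 2]))) (.node (nat_lit 1462) (.leaf ((nat_lit 351), [nat_lit 4, nat_lit 4, nat_lit 2])) (.leaf ((nat_lit 300), [nat_lit 4, nat_lit 0]))))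
 (.node (nat_lit 1465) (.node (nat_lit 1464) (.leaf ((nat_lit 84), [nat_lit 4, nat_lit 4, nat_lit 4, nat_lit 2, nat_lit 0])) (.leaf ((nat_lit 86), [nat_lit 4, nat_lit 4, nat_lit 2, nat_lit 1, nat_lit 0]))) (.node (nat_lit 1466) (.leaf ((nat_lit 132), [nat_lit 4])) (.node (nat_lit 1467) (.leaf ((nat_lit 271), [nat_lit 4, nat_lit 0])) (.leaf ((nat_lit 352), [nat_lit 3, nat_lit 3, nat_lit 2, nat_lit 1])))))))
 (.node (nat_lit 1476) (.node (nat_lit 1472) (.node (nat_lit 1470) (.node (nat_lit 1469) (.leaf ((nat_lit 215), [nat_lit 4, nat_lit 4, nat_lit 4])) (.leaf ((nat_lit 97), [nat_lit 3, nat_lit 3, nat_lit 3, nat_lit 2]))) (.node (nat_lit 1471) (.leaf ((nat_lit 271), [nat_lit 2])) (.leaf ((nat_lit 180), [nat_lit 3, nat_lit 0]))))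
 (.node (nat_lit 1474) (.node (nat_lit 1473) (.leaf ((nat_lit 86), [nat_lit 4])) (.leaf ((nat_lit 216), [nat_lit 4, nat_lit 2, nat_lit 1, nat_lit 0]))) (.node (nat_lit 1475) (.leaf ((nat_lit 183), [nat_lit 4, nat_lit 4, nat_lit 2, nat_lit 1])) (.leaf ((nat_lit 141), [nat_lit 4, nat_lit 4, nat_lit 4, nat_lit 1])))))
 (.node (nat_lit 1480) (.node (nat_lit 1478) (.node (nat_lit 1477) (.leaf ((nat_lit 136), [nat_lit 2, nat_lit 0])) (.leaf ((nat_lit 291), [nat_lit 4, nat_lit 4]))) (.node (nat_lit 1479) (.leaf ((nat_lit 87), [nat_lit 4, nat_lit 4, nat_lit 2])) (.leaf ((nat_lit 246), [nat_lit 2, nat_lit 1, nat_lit 0]))))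
 (.node (nat_lit 1482) (.node (nat_lit 1481) (.leaf ((nat_lit 91), [nat_lit 3, nat_lit 1, nat_lit 0])) (.leaf ((nat_lit 248), [nat_lit 4, nat_lit 4, nat_lit 2]))) (.node (nat_lit 1483) (.leaf ((nat_lit 134), [nat_lit 3, nat_lit 3, nat_lit 3, nat_lit 2, nat_lit 1])) (.node (nat_lit 1484) (.leaf ((nat_lit 261), [nat_lit 3, nat_lit 3, nat_lit 3, nat_lit 0])) (.leaf ((nat_lit 147), [nat_lit 3, nat_lit 3, nat_lit 3, nat_lit 2, nat_lit 1, nat_lit 0]))))))))))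
noncomputable def n12Wd_11 : Tr (ℕ × List ℕ) := (.node (nat_lit 1552) (.node (nat_lit 1518) (.node (nat_lit 1501) (.node (nat_lit 1493) (.node (nat_lit 1489) (.node (nat_lit 1487) (.node (nat_lit 1486) (.leaf ((nat_lit 138), [nat_lit 4, nat_lit 4, nat_lit 4, nat_lit 1, nat_lit 0])) (.leaf ((nat_lit 349), [nat_lit 3, nat_lit 3, nat_lit 3]))) (.node (nat_lit 1488) (.leaf ((nat_lit 87), [nat_lit 4, nat_lit 4, nat_lit 4, nat_lit 2])) (.leaf ((nat_lit 88), [nat_lit 4, nat_lit 4, nat_lit 4, nat_lit 0]))))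
 (.node (nat_lit 1491) (.node (nat_lit 1490) (.leaf ((nat_lit 348), [nat_lit 4, nat_lit 4, nat_lit 2])) (.leaf ((nat_lit 100), [nat_lit 4, nat_lit 4, nat_lit 2, nat_lit 0]))) (.node (nat_lit 1492) (.leaf ((nat_lit 131), [nat_lit 0])) (.leaf ((nat_lit 130), [nat_lit 4, nat_lit 4, nat_lit 2, nat_lit 1, nat_lit 0])))))
 (.node (nat_lit 1497) (.node (nat_lit 1495) (.node (nat_lit 1494) (.leaf ((nat_lit 246), [nat_lit 3, nat_lit 3, nat_lit 1])) (.leaf ((nat_lit 348), [nat_lit 2]))) (.node (nat_lit 1496) (.leaf ((nat_lit 88), [nat_lit 4, nat_lit 1, nat_lit 0])) (.leaf ((nat_lit 101), [nat_lit 4, nat_lit 4, nat_lit 4, nat_lit 2, nat_lit 0]))))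
 (.node (nat_lit 1499) (.node (nat_lit 1498) (.leaf ((nat_lit 190), [nat_lit 4, nat_lit 4, nat_lit 4, nat_lit 1, nat_lit 0])) (.leaf ((nat_lit 249), [nat_lit 1]))) (.node (nat_lit 1500) (.leaf ((nat_lit 157), [nat_lit 4, nat_lit 1])) (.leaf ((nat_lit 91), [nat_lit 2, nat_lit 0]))))))
 (.node (nat_lit 1509) (.node (nat_lit 1505) (.node (nat_lit 1503) (.node (nat_lit 1502) (.leaf ((nat_lit 224), [nat_lit 4, nat_lit 4, nat_lit 4, nat_lit 2])) (.leaf ((nat_lit 89), [nat_lit 3, nat_lit 3, nat_lit 2, nat_lit 1, nat_lit 0]))) (.node (nat_lit 1504) (.leaf ((nat_lit 250), [nat_lit 2, nat_lit 1, nat_lit 0])) (.leaf ((nat_lit 143), [nat_lit 4]))))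
 (.node (nat_lit 1507) (.node (nat_lit 1506) (.leaf ((nat_lit 101), [nat_lit 4, nat_lit 4, nat_lit 1])) (.leaf ((nat_lit 224), [nat_lit 2, nat_lit 0]))) (.node (nat_lit 1508) (.leaf ((nat_lit 91), [nat_lit 3, nat_lit 3, nat_lit 3, nat_lit 2, nat_lit 1])) (.leaf ((nat_lit 90), [nat_lit 3, nat_lit 3, nat_lit 3, nat_lit 2, nat_lit 0])))))
 (.node (nat_lit 1513) (.node (nat_lit 1511) (.node (nat_lit 1510) (.leaf ((nat_lit 353), [nat_lit 3, nat_lit 3, nat_lit 3, nat_lit 2])) (.leaf ((nat_lit 110), [nat_lit 3, nat_lit 3]))) (.node (nat_lit 1512) (.leaf ((nat_lit 216), [nat_lit 3, nat_lit 3, nat_lit 2, nat_lit 1])) (.leaf ((nat_lit 252), [nat_lit 2, nat_lit 0]))))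
 (.node (nat_lit 1515) (.node (nat_lit 1514) (.leaf ((nat_lit 252), [nat_lit 2, nat_lit 1])) (.leaf ((nat_lit 252), [nat_lit 1]))) (.node (nat_lit 1516) (.leaf ((nat_lit 90), [nat_lit 3, nat_lit 3, nat_lit 3, nat_lit 2, nat_lit 1, nat_lit 0])) (.node (nat_lit 1517) (.leaf ((nat_lit 137), [nat_lit 3, nat_lit 2, nat_lit 0])) (.leaf ((nat_lit 126), [nat_lit 3, nat_lit 3, nat_lit 2, nat_lit 1]))))))))
 (.node (nat_lit 1535) (.node (nat_lit 1526) (.node (nat_lit 1522) (.node (nat_lit 1520) (.node (nat_lit 1519) (.leaf ((nat_lit 253), [nat_lit 2, nat_lit 0])) (.leaf ((nat_lit 253), [nat_lit 1, nat_lit 0]))) (.node (nat_lit 1521) (.leaf ((nat_lit 253), [nat_lit 2, nat_lit 1, nat_lit 0])) (.leaf ((nat_lit 112), [nat_lit 3, nat_lit 0]))))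
 (.node (nat_lit 1524) (.node (nat_lit 1523) (.leaf ((nat_lit 95), [nat_lit 3, nat_lit 3, nat_lit 1])) (.leaf ((nat_lit 184), [nat_lit 3, nat_lit 3, nat_lit 0]))) (.node (nat_lit 1525) (.leaf ((nat_lit 98), [nat_lit 4, nat_lit 4, nat_lit 2, nat_lit 0])) (.leaf ((nat_lit 152), [nat_lit 3, nat_lit 3, nat_lit 1])))))
 (.node (nat_lit 1530) (.node (nat_lit 1528) (.node (nat_lit 1527) (.leaf ((nat_lit 96), [nat_lit 3, nat_lit 3])) (.leaf ((nat_lit 333), [nat_lit 3, nat_lit 3, nat_lit 3, nat_lit 1]))) (.node (nat_lit 1529) (.leaf ((nat_lit 177), [nat_lit 3, nat_lit 3, nat_lit 3, nat_lit 1])) (.leaf ((nat_lit 168), [nat_lit 3, nat_lit 1]))))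
 (.node (nat_lit 1532) (.node (nat_lit 1531) (.leaf ((nat_lit 320), [nat_lit 1, nat_lit 0])) (.leaf ((nat_lit 211), [nat_lit 4, nat_lit 4, nat_lit 4, nat_lit 1]))) (.node (nat_lit 1533) (.leaf ((nat_lit 179), [nat_lit 4, nat_lit 4, nat_lit 4, nat_lit 2, nat_lit 1])) (.node (nat_lit 1534) (.leaf ((nat_lit 267), [nat_lit 3, nat_lit 1])) (.leaf ((nat_lit 96), [nat_lit 4, nat_lit 2, nat_lit 1])))))))
 (.node (nat_lit 1543) (.node (nat_lit 1539) (.node (nat_lit 1537) (.node (nat_lit 1536) (.leaf ((nat_lit 191), [nat_lit 4, nat_lit 4, nat_lit 2, nat_lit 0])) (.leaf ((nat_lit 225), []))) (.node (nat_lit 1538) (.leaf ((nat_lit 301), [nat_lit 3, nat_lit 3])) (.leaf ((nat_lit 350), [nat_lit 3, nat_lit 3, nat_lit 1, nat_lit 0]))))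
 (.node (nat_lit 1541) (.node (nat_lit 1540) (.leaf ((nat_lit 341), [nat_lit 4, nat_lit 4, nat_lit 2])) (.leaf ((nat_lit 309), [nat_lit 3, nat_lit 3, nat_lit 3, nat_lit 2]))) (.node (nat_lit 1542) (.leaf ((nat_lit 96), [nat_lit 3, nat_lit 2, nat_lit 1, nat_lit 0])) (.leaf ((nat_lit 152), [nat_lit 2, nat_lit 0])))))
 (.node (nat_lit 1547) (.node (nat_lit 1545) (.node (nat_lit 1544) (.leaf ((nat_lit 98), [nat_lit 3, nat_lit 3, nat_lit 3])) (.leaf ((nat_lit 97), [nat_lit 4, nat_lit 4, nat_lit 1, nat_lit 0]))) (.node (nat_lit 1546) (.leaf ((nat_lit 233), [nat_lit 3, nat_lit 3, nat_lit 3, nat_lit 2, nat_lit 0])) (.leaf ((nat_lit 232), [nat_lit 3, nat_lit 2, nat_lit 0]))))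
 (.node (nat_lit 1549) (.node (nat_lit 1548) (.leaf ((nat_lit 166), [nat_lit 3, nat_lit 3, nat_lit 2, nat_lit 1, nat_lit 0])) (.leaf ((nat_lit 307), [nat_lit 3, nat_lit 3, nat_lit 2, nat_lit 1, nat_lit 0]))) (.node (nat_lit 1550) (.leaf ((nat_lit 232), [nat_lit 4, nat_lit 4, nat_lit 2])) (.node (nat_lit 1551) (.leaf ((nat_lit 266), [nat_lit 4, nat_lit 4, nat_lit 0])) (.leaf ((nat_lit 97), [nat_lit 3, nat_lit 3, nat_lit 3, nat_lit 1])))))))))
 (.node (nat_lit 1586) (.node (nat_lit 1569) (.node (nat_lit 1560) (.node (nat_lit 1556) (.node (nat_lit 1554) (.node (nat_lit 1553) (.leaf ((nat_lit 210), [nat_lit 4, nat_lit 4, nat_lit 4])) (.leaf ((nat_lit 345), [nat_lit 2, nat_lit 1]))) (.node (nat_lit 1555) (.leaf ((nat_lit 354), [nat_lit 1, nat_lit 0])) (.leaf ((nat_lit 155), [nat_lit 4, nat_lit 4, nat_lit 4, nat_lit 2, nat_lit 1]))))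
 (.node (nat_lit 1558) (.node (nat_lit 1557) (.leaf ((nat_lit 116), [nat_lit 4, nat_lit 1])) (.leaf ((nat_lit 210), [nat_lit 4, nat_lit 4, nat_lit 1]))) (.node (nat_lit 1559) (.leaf ((nat_lit 97), [nat_lit 4, nat_lit 4, nat_lit 4, nat_lit 2, nat_lit 1, nat_lit 0])) (.leaf ((nat_lit 220), [nat_lit 4, nat_lit 1, nat_lit 0])))))
 (.node (nat_lit 1564) (.node (nat_lit 1562) (.node (nat_lit 1561) (.leaf ((nat_lit 101), [nat_lit 4, nat_lit 4, nat_lit 4, nat_lit 1])) (.leaf ((nat_lit 100), [nat_lit 2, nat_lit 1]))) (.node (nat_lit 1563) (.leaf ((nat_lit 348), [nat_lit 1, nat_lit 0])) (.leaf ((nat_lit 110), [nat_lit 4, nat_lit 2, nat_lit 1]))))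
 (.node (nat_lit 1566) (.node (nat_lit 1565) (.leaf ((nat_lit 353), [nat_lit 2, nat_lit 0])) (.leaf ((nat_lit 133), [nat_lit 4, nat_lit 4, nat_lit 4, nat_lit 1, nat_lit 0]))) (.node (nat_lit 1567) (.leaf ((nat_lit 166), [nat_lit 0])) (.node (nat_lit 1568) (.leaf ((nat_lit 247), [nat_lit 4, nat_lit 4, nat_lit 4, nat_lit 2, nat_lit 1, nat_lit 0])) (.leaf ((nat_lit 109), [nat_lit 3, nat_lit 3, nat_lit 3, nat_lit 2, nat_lit 0])))))))
 (.node (nat_lit 1577) (.node (nat_lit 1573) (.node (nat_lit 1571) (.node (nat_lit 1570) (.leaf ((nat_lit 100), [nat_lit 3, nat_lit 2, nat_lit 0])) (.leaf ((nat_lit 261), [nat_lit 2, nat_lit 1, nat_lit 0]))) (.node (nat_lit 1572) (.leaf ((nat_lit 266), [nat_lit 4, nat_lit 4, nat_lit 2])) (.leaf ((nat_lit 104), [nat_lit 2, nat_lit 0]))))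
 (.node (nat_lit 1575) (.node (nat_lit 1574) (.leaf ((nat_lit 103), [nat_lit 4, nat_lit 2, nat_lit 1, nat_lit 0])) (.leaf ((nat_lit 163), [nat_lit 4, nat_lit 0]))) (.node (nat_lit 1576) (.leaf ((nat_lit 310), [nat_lit 3, nat_lit 3])) (.leaf ((nat_lit 336), [nat_lit 4, nat_lit 4, nat_lit 4, nat_lit 2, nat_lit 0])))))
 (.node (nat_lit 1581) (.node (nat_lit 1579) (.node (nat_lit 1578) (.leaf ((nat_lit 100), [nat_lit 3, nat_lit 3, nat_lit 3, nat_lit 2, nat_lit 0])) (.leaf ((nat_lit 263), [nat_lit 2]))) (.node (nat_lit 1580) (.leaf ((nat_lit 263), [nat_lit 2, nat_lit 1, nat_lit 0])) (.leaf ((nat_lit 263), [nat_lit 1]))))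
 (.node (nat_lit 1583) (.node (nat_lit 1582) (.leaf ((nat_lit 198), [nat_lit 4, nat_lit 4, nat_lit 4, nat_lit 1, nat_lit 0])) (.leaf ((nat_lit 101), [nat_lit 4, nat_lit 4, nat_lit 4, nat_lit 2, nat_lit 1, nat_lit 0]))) (.node (nat_lit 1584) (.leaf ((nat_lit 310), [nat_lit 4, nat_lit 2])) (.node (nat_lit 1585) (.leaf ((nat_lit 336), [nat_lit 2, nat_lit 1])) (.leaf ((nat_lit 102), [nat_lit 3, nat_lit 3, nat_lit 2, nat_lit 1]))))))))
 (.node (nat_lit 1603) (.node (nat_lit 1594) (.node (nat_lit 1590) (.node (nat_lit 1588) (.node (nat_lit 1587) (.leaf ((nat_lit 148), [nat_lit 1, nat_lit 0])) (.leaf ((nat_lit 152), [nat_lit 4, nat_lit 4, nat_lit 4, nat_lit 1]))) (.node (nat_lit 1589) (.leaf ((nat_lit 207), [nat_lit 3, nat_lit 3, nat_lit 3])) (.leaf ((nat_lit 319), [nat_lit 4, nat_lit 1]))))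
 (.node (nat_lit 1592) (.node (nat_lit 1591) (.leaf ((nat_lit 334), [])) (.leaf ((nat_lit 333), [nat_lit 3, nat_lit 0]))) (.node (nat_lit 1593) (.leaf ((nat_lit 332), [nat_lit 3, nat_lit 3, nat_lit 3, nat_lit 2])) (.leaf ((nat_lit 102), [nat_lit 4, nat_lit 4, nat_lit 2])))))
 (.node (nat_lit 1598) (.node (nat_lit 1596) (.node (nat_lit 1595) (.leaf ((nat_lit 124), [nat_lit 3, nat_lit 3, nat_lit 0])) (.leaf ((nat_lit 353), [nat_lit 3, nat_lit 2]))) (.node (nat_lit 1597) (.leaf ((nat_lit 178), [nat_lit 2, nat_lit 0])) (.leaf ((nat_lit 158), [nat_lit 4, nat_lit 4, nat_lit 4]))))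
 (.node (nat_lit 1600) (.node (nat_lit 1599) (.leaf ((nat_lit 258), [nat_lit 3, nat_lit 3, nat_lit 2, nat_lit 0])) (.leaf ((nat_lit 124), [nat_lit 3, nat_lit 3, nat_lit 3, nat_lit 2, nat_lit 1]))) (.node (nat_lit 1601) (.leaf ((nat_lit 102), [nat_lit 4, nat_lit 2, nat_lit 0])) (.node (nat_lit 1602) (.leaf ((nat_lit 261), [nat_lit 3, nat_lit 3, nat_lit 1])) (.leaf ((nat_lit 355), [nat_lit 2, nat_lit 1])))))))
 (.node (nat_lit 1611) (.node (nat_lit 1607) (.node (nat_lit 1605) (.node (nat_lit 1604) (.leaf ((nat_lit 276), [nat_lit 3, nat_lit 3, nat_lit 3, nat_lit 2, nat_lit 1])) (.leaf ((nat_lit 308), [nat_lit 3, nat_lit 3, nat_lit 3, nat_lit 2, nat_lit 1, nat_lit 0]))) (.node (nat_lit 1606) (.leaf ((nat_lit 255), [nat_lit 4, nat_lit 0])) (.leaf ((nat_lit 103), [nat_lit 3, nat_lit 3, nat_lit 2, nat_lit 1, nat_lit 0]))))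
 (.node (nat_lit 1609) (.node (nat_lit 1608) (.leaf ((nat_lit 202), [nat_lit 4, nat_lit 4, nat_lit 4, nat_lit 1, nat_lit 0])) (.leaf ((nat_lit 298), []))) (.node (nat_lit 1610) (.leaf ((nat_lit 199), [nat_lit 3, nat_lit 3, nat_lit 3, nat_lit 2, nat_lit 1, nat_lit 0])) (.leaf ((nat_lit 345), [nat_lit 3, nat_lit 3, nat_lit 3])))))
 (.node (nat_lit 1615) (.node (nat_lit 1613) (.node (nat_lit 1612) (.leaf ((nat_lit 356), [nat_lit 3])) (.leaf ((nat_lit 321), [nat_lit 1, nat_lit 0]))) (.node (nat_lit 1614) (.leaf ((nat_lit 103), [nat_lit 4, nat_lit 4, nat_lit 2])) (.leaf ((nat_lit 232), [nat_lit 1, nat_lit 0]))))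
 (.node (nat_lit 1617) (.node (nat_lit 1616) (.leaf ((nat_lit 307), [nat_lit 4, nat_lit 4, nat_lit 4, nat_lit 2, nat_lit 0])) (.leaf ((nat_lit 107), [nat_lit 4, nat_lit 4, nat_lit 4, nat_lit 0]))) (.node (nat_lit 1618) (.leaf ((nat_lit 104), [nat_lit 4, nat_lit 4, nat_lit 0])) (.node (nat_lit 1619) (.leaf ((nat_lit 192), [nat_lit 4, nat_lit 0])) (.leaf ((nat_lit 350), [nat_lit 3, nat_lit 1, nat_lit 0]))))))))))
noncomputable def n12Wd_12 : Tr (ℕ × List ℕ) := (.node (nat_lit 1687) (.node (nat_lit 1653) (.node (nat_lit 1636) (.node (nat_lit 1628) (.node (nat_lit 1624) (.node (nat_lit 1622) (.node (nat_lit 1621) (.leaf ((nat_lit 357), [nat_lit 2, nat_lit 1])) (.leaf ((nat_lit 282), [nat_lit 3, nat_lit 3]))) (.node (nat_lit 1623) (.leaf ((nat_lit 161), [nat_lit 2, nat_lit 0])) (.leaf ((nat_lit 192), [nat_lit 4, nat_lit 4, nat_lit 4]))))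
 (.node (nat_lit 1626) (.node (nat_lit 1625) (.leaf ((nat_lit 104), [nat_lit 3, nat_lit 3, nat_lit 3])) (.leaf ((nat_lit 280), [nat_lit 4, nat_lit 2]))) (.node (nat_lit 1627) (.leaf ((nat_lit 245), [nat_lit 2])) (.leaf ((nat_lit 278), [nat_lit 3, nat_lit 2, nat_lit 1, nat_lit 0])))))
 (.node (nat_lit 1632) (.node (nat_lit 1630) (.node (nat_lit 1629) (.leaf ((nat_lit 244), [nat_lit 3, nat_lit 1])) (.leaf ((nat_lit 325), [nat_lit 4, nat_lit 4, nat_lit 4, nat_lit 2, nat_lit 0]))) (.node (nat_lit 1631) (.leaf ((nat_lit 273), [nat_lit 4, nat_lit 4, nat_lit 1])) (.leaf ((nat_lit 104), [nat_lit 4, nat_lit 4, nat_lit 4, nat_lit 0]))))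
 (.node (nat_lit 1634) (.node (nat_lit 1633) (.leaf ((nat_lit 356), [nat_lit 2, nat_lit 1])) (.leaf ((nat_lit 159), [nat_lit 2, nat_lit 0]))) (.node (nat_lit 1635) (.leaf ((nat_lit 192), [nat_lit 3, nat_lit 3])) (.leaf ((nat_lit 181), [nat_lit 4, nat_lit 1]))))))
 (.node (nat_lit 1644) (.node (nat_lit 1640) (.node (nat_lit 1638) (.node (nat_lit 1637) (.leaf ((nat_lit 105), [nat_lit 3, nat_lit 3, nat_lit 3, nat_lit 1, nat_lit 0])) (.leaf ((nat_lit 204), [nat_lit 4, nat_lit 4, nat_lit 4, nat_lit 1, nat_lit 0]))) (.node (nat_lit 1639) (.leaf ((nat_lit 287), [])) (.leaf ((nat_lit 346), [nat_lit 3, nat_lit 3, nat_lit 3, nat_lit 2, nat_lit 1, nat_lit 0]))))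
 (.node (nat_lit 1642) (.node (nat_lit 1641) (.leaf ((nat_lit 286), [nat_lit 3, nat_lit 3, nat_lit 3])) (.leaf ((nat_lit 208), [nat_lit 4, nat_lit 4, nat_lit 4, nat_lit 2]))) (.node (nat_lit 1643) (.leaf ((nat_lit 271), [nat_lit 3, nat_lit 3, nat_lit 1, nat_lit 0])) (.leaf ((nat_lit 105), [nat_lit 4, nat_lit 2])))))
 (.node (nat_lit 1648) (.node (nat_lit 1646) (.node (nat_lit 1645) (.leaf ((nat_lit 335), [])) (.leaf ((nat_lit 106), [nat_lit 3, nat_lit 3, nat_lit 0]))) (.node (nat_lit 1647) (.leaf ((nat_lit 340), [nat_lit 1, nat_lit 0])) (.leaf ((nat_lit 307), [nat_lit 4, nat_lit 2, nat_lit 1]))))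
 (.node (nat_lit 1650) (.node (nat_lit 1649) (.leaf ((nat_lit 227), [nat_lit 3, nat_lit 3, nat_lit 3, nat_lit 2, nat_lit 1, nat_lit 0])) (.leaf ((nat_lit 305), [nat_lit 4, nat_lit 4, nat_lit 4, nat_lit 2, nat_lit 1, nat_lit 0]))) (.node (nat_lit 1651) (.leaf ((nat_lit 173), [])) (.node (nat_lit 1652) (.leaf ((nat_lit 340), [nat_lit 1, nat_lit 0])) (.leaf ((nat_lit 106), [nat_lit 3, nat_lit 3, nat_lit 0]))))))))
 (.node (nat_lit 1670) (.node (nat_lit 1661) (.node (nat_lit 1657) (.node (nat_lit 1655) (.node (nat_lit 1654) (.leaf ((nat_lit 185), [nat_lit 4, nat_lit 4, nat_lit 2, nat_lit 1])) (.leaf ((nat_lit 339), [nat_lit 3, nat_lit 3, nat_lit 3, nat_lit 2, nat_lit 1, nat_lit 0]))) (.node (nat_lit 1656) (.leaf ((nat_lit 183), [nat_lit 3, nat_lit 2])) (.leaf ((nat_lit 358), [nat_lit 2, nat_lit 0]))))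
 (.node (nat_lit 1659) (.node (nat_lit 1658) (.leaf ((nat_lit 267), [nat_lit 4, nat_lit 4, nat_lit 4, nat_lit 2, nat_lit 0])) (.leaf ((nat_lit 181), [nat_lit 4, nat_lit 4, nat_lit 4, nat_lit 0]))) (.node (nat_lit 1660) (.leaf ((nat_lit 209), [nat_lit 3, nat_lit 2, nat_lit 1])) (.leaf ((nat_lit 189), [nat_lit 4, nat_lit 2, nat_lit 1, nat_lit 0])))))
 (.node (nat_lit 1665) (.node (nat_lit 1663) (.node (nat_lit 1662) (.leaf ((nat_lit 108), [nat_lit 3, nat_lit 3])) (.leaf ((nat_lit 198), [nat_lit 2, nat_lit 0]))) (.node (nat_lit 1664) (.leaf ((nat_lit 145), [nat_lit 3, nat_lit 3, nat_lit 3])) (.leaf ((nat_lit 112), [nat_lit 3, nat_lit 2, nat_lit 1]))))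
 (.node (nat_lit 1667) (.node (nat_lit 1666) (.leaf ((nat_lit 169), [nat_lit 3, nat_lit 3, nat_lit 3])) (.leaf ((nat_lit 139), [nat_lit 3, nat_lit 3, nat_lit 2, nat_lit 1, nat_lit 0]))) (.node (nat_lit 1668) (.leaf ((nat_lit 346), [nat_lit 3, nat_lit 3, nat_lit 0])) (.node (nat_lit 1669) (.leaf ((nat_lit 180), [nat_lit 0])) (.leaf ((nat_lit 271), [nat_lit 4, nat_lit 1, nat_lit 0])))))))
 (.node (nat_lit 1678) (.node (nat_lit 1674) (.node (nat_lit 1672) (.node (nat_lit 1671) (.leaf ((nat_lit 132), [nat_lit 4, nat_lit 1])) (.leaf ((nat_lit 213), [nat_lit 4, nat_lit 4, nat_lit 2]))) (.node (nat_lit 1673) (.leaf ((nat_lit 335), [nat_lit 4, nat_lit 4, nat_lit 4, nat_lit 1])) (.leaf ((nat_lit 112), [nat_lit 4]))))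
 (.node (nat_lit 1676) (.node (nat_lit 1675) (.leaf ((nat_lit 142), [nat_lit 2, nat_lit 0])) (.leaf ((nat_lit 113), [nat_lit 3]))) (.node (nat_lit 1677) (.leaf ((nat_lit 220), [nat_lit 4, nat_lit 1, nat_lit 0])) (.leaf ((nat_lit 164), [nat_lit 4, nat_lit 4, nat_lit 4, nat_lit 2, nat_lit 1, nat_lit 0])))))
 (.node (nat_lit 1682) (.node (nat_lit 1680) (.node (nat_lit 1679) (.leaf ((nat_lit 224), [nat_lit 4, nat_lit 4, nat_lit 0])) (.leaf ((nat_lit 131), [nat_lit 4, nat_lit 4, nat_lit 1]))) (.node (nat_lit 1681) (.leaf ((nat_lit 194), [nat_lit 2, nat_lit 1, nat_lit 0])) (.leaf ((nat_lit 220), [nat_lit 4, nat_lit 2, nat_lit 1, nat_lit 0]))))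
 (.node (nat_lit 1684) (.node (nat_lit 1683) (.leaf ((nat_lit 113), [nat_lit 3, nat_lit 2])) (.leaf ((nat_lit 202), [nat_lit 4, nat_lit 4, nat_lit 2, nat_lit 1]))) (.node (nat_lit 1685) (.leaf ((nat_lit 204), [nat_lit 4, nat_lit 4, nat_lit 2, nat_lit 0])) (.node (nat_lit 1686) (.leaf ((nat_lit 270), [nat_lit 3, nat_lit 0])) (.leaf ((nat_lit 141), [nat_lit 2, nat_lit 0])))))))))
 (.node (nat_lit 1721) (.node (nat_lit 1704) (.node (nat_lit 1695) (.node (nat_lit 1691) (.node (nat_lit 1689) (.node (nat_lit 1688) (.leaf ((nat_lit 143), [nat_lit 3, nat_lit 3, nat_lit 2, nat_lit 0])) (.leaf ((nat_lit 289), [nat_lit 3, nat_lit 3, nat_lit 2, nat_lit 1, nat_lit 0]))) (.node (nat_lit 1690) (.leaf ((nat_lit 297), [nat_lit 3, nat_lit 3, nat_lit 1, nat_lit 0])) (.leaf ((nat_lit 113), [nat_lit 3, nat_lit 3, nat_lit 3, nat_lit 2, nat_lit 0]))))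
 (.node (nat_lit 1693) (.node (nat_lit 1692) (.leaf ((nat_lit 326), [nat_lit 3, nat_lit 3, nat_lit 3, nat_lit 2, nat_lit 1, nat_lit 0])) (.leaf ((nat_lit 314), [nat_lit 2, nat_lit 0]))) (.node (nat_lit 1694) (.leaf ((nat_lit 270), [nat_lit 4, nat_lit 4])) (.leaf ((nat_lit 175), [nat_lit 4, nat_lit 4, nat_lit 0])))))
 (.node (nat_lit 1699) (.node (nat_lit 1697) (.node (nat_lit 1696) (.leaf ((nat_lit 179), [nat_lit 3, nat_lit 3, nat_lit 2, nat_lit 1, nat_lit 0])) (.leaf ((nat_lit 178), [nat_lit 3]))) (.node (nat_lit 1698) (.leaf ((nat_lit 114), [nat_lit 3, nat_lit 3, nat_lit 3, nat_lit 1, nat_lit 0])) (.leaf ((nat_lit 116), [nat_lit 2, nat_lit 0]))))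
 (.node (nat_lit 1701) (.node (nat_lit 1700) (.leaf ((nat_lit 342), [nat_lit 3, nat_lit 2, nat_lit 0])) (.leaf ((nat_lit 354), [nat_lit 3, nat_lit 2, nat_lit 1, nat_lit 0]))) (.node (nat_lit 1702) (.leaf ((nat_lit 350), [nat_lit 3, nat_lit 3, nat_lit 3, nat_lit 1, nat_lit 0])) (.node (nat_lit 1703) (.leaf ((nat_lit 355), [nat_lit 4, nat_lit 4, nat_lit 2, nat_lit 1])) (.leaf ((nat_lit 347), [nat_lit 3, nat_lit 3, nat_lit 2, nat_lit 0])))))))
 (.node (nat_lit 1712) (.node (nat_lit 1708) (.node (nat_lit 1706) (.node (nat_lit 1705) (.leaf ((nat_lit 284), [nat_lit 2])) (.leaf ((nat_lit 284), [nat_lit 2, nat_lit 1]))) (.node (nat_lit 1707) (.leaf ((nat_lit 284), [nat_lit 2, nat_lit 1, nat_lit 0])) (.leaf ((nat_lit 117), [nat_lit 4]))))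
 (.node (nat_lit 1710) (.node (nat_lit 1709) (.leaf ((nat_lit 165), [nat_lit 2, nat_lit 0])) (.leaf ((nat_lit 333), [nat_lit 3, nat_lit 3]))) (.node (nat_lit 1711) (.leaf ((nat_lit 327), [nat_lit 3, nat_lit 3, nat_lit 2])) (.leaf ((nat_lit 315), [nat_lit 3, nat_lit 0])))))
 (.node (nat_lit 1716) (.node (nat_lit 1714) (.node (nat_lit 1713) (.leaf ((nat_lit 213), [nat_lit 3, nat_lit 2])) (.leaf ((nat_lit 287), [nat_lit 4, nat_lit 4, nat_lit 2, nat_lit 0]))) (.node (nat_lit 1715) (.leaf ((nat_lit 230), [nat_lit 4, nat_lit 2])) (.leaf ((nat_lit 117), [nat_lit 4, nat_lit 4, nat_lit 4]))))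
 (.node (nat_lit 1718) (.node (nat_lit 1717) (.leaf ((nat_lit 118), [nat_lit 4, nat_lit 4, nat_lit 2, nat_lit 1, nat_lit 0])) (.leaf ((nat_lit 217), [nat_lit 4, nat_lit 4, nat_lit 4]))) (.node (nat_lit 1719) (.leaf ((nat_lit 273), [nat_lit 4, nat_lit 4, nat_lit 4])) (.node (nat_lit 1720) (.leaf ((nat_lit 359), [nat_lit 1, nat_lit 0])) (.leaf ((nat_lit 337), [nat_lit 4, nat_lit 0]))))))))
 (.node (nat_lit 1738) (.node (nat_lit 1729) (.node (nat_lit 1725) (.node (nat_lit 1723) (.node (nat_lit 1722) (.leaf ((nat_lit 188), [nat_lit 3, nat_lit 3, nat_lit 3, nat_lit 2, nat_lit 0])) (.leaf ((nat_lit 273), []))) (.node (nat_lit 1724) (.leaf ((nat_lit 313), [nat_lit 3, nat_lit 3, nat_lit 3, nat_lit 2])) (.leaf ((nat_lit 118), [nat_lit 3, nat_lit 0]))))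
 (.node (nat_lit 1727) (.node (nat_lit 1726) (.leaf ((nat_lit 285), [nat_lit 3, nat_lit 3, nat_lit 2, nat_lit 1, nat_lit 0])) (.leaf ((nat_lit 231), [nat_lit 3, nat_lit 3, nat_lit 1, nat_lit 0]))) (.node (nat_lit 1728) (.leaf ((nat_lit 135), [nat_lit 4, nat_lit 2, nat_lit 1, nat_lit 0])) (.leaf ((nat_lit 299), [nat_lit 2])))))
 (.node (nat_lit 1733) (.node (nat_lit 1731) (.node (nat_lit 1730) (.leaf ((nat_lit 230), [nat_lit 4, nat_lit 4, nat_lit 1])) (.leaf ((nat_lit 233), [nat_lit 4, nat_lit 4, nat_lit 1]))) (.node (nat_lit 1732) (.leaf ((nat_lit 296), [nat_lit 4, nat_lit 2, nat_lit 0])) (.leaf ((nat_lit 118), [nat_lit 4, nat_lit 2]))))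
 (.node (nat_lit 1735) (.node (nat_lit 1734) (.leaf ((nat_lit 226), [nat_lit 4, nat_lit 4, nat_lit 4])) (.leaf ((nat_lit 203), [nat_lit 2, nat_lit 1, nat_lit 0]))) (.node (nat_lit 1736) (.leaf ((nat_lit 129), [nat_lit 3, nat_lit 3, nat_lit 3, nat_lit 1])) (.node (nat_lit 1737) (.leaf ((nat_lit 281), [nat_lit 4, nat_lit 4, nat_lit 2, nat_lit 0])) (.leaf ((nat_lit 151), [nat_lit 4, nat_lit 4, nat_lit 2, nat_lit 1])))))))
 (.node (nat_lit 1746) (.node (nat_lit 1742) (.node (nat_lit 1740) (.node (nat_lit 1739) (.leaf ((nat_lit 119), [nat_lit 3, nat_lit 2])) (.leaf ((nat_lit 351), [nat_lit 3, nat_lit 1, nat_lit 0]))) (.node (nat_lit 1741) (.leaf ((nat_lit 140), [nat_lit 2, nat_lit 1, nat_lit 0])) (.leaf ((nat_lit 219), [nat_lit 3, nat_lit 2, nat_lit 0]))))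
 (.node (nat_lit 1744) (.node (nat_lit 1743) (.leaf ((nat_lit 138), [nat_lit 3, nat_lit 2, nat_lit 1, nat_lit 0])) (.leaf ((nat_lit 206), [nat_lit 4, nat_lit 4, nat_lit 2, nat_lit 1]))) (.node (nat_lit 1745) (.leaf ((nat_lit 121), [nat_lit 4, nat_lit 4, nat_lit 2])) (.leaf ((nat_lit 209), [nat_lit 4, nat_lit 1, nat_lit 0])))))
 (.node (nat_lit 1750) (.node (nat_lit 1748) (.node (nat_lit 1747) (.leaf ((nat_lit 195), [nat_lit 2, nat_lit 0])) (.leaf ((nat_lit 246), [nat_lit 3, nat_lit 3]))) (.node (nat_lit 1749) (.leaf ((nat_lit 122), [nat_lit 3, nat_lit 3, nat_lit 1])) (.leaf ((nat_lit 349), [nat_lit 3, nat_lit 3, nat_lit 1, nat_lit 0]))))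
 (.node (nat_lit 1752) (.node (nat_lit 1751) (.leaf ((nat_lit 138), [nat_lit 3, nat_lit 3, nat_lit 3, nat_lit 2, nat_lit 1])) (.leaf ((nat_lit 229), [nat_lit 3, nat_lit 3, nat_lit 3, nat_lit 0]))) (.node (nat_lit 1753) (.leaf ((nat_lit 215), [])) (.node (nat_lit 1754) (.leaf ((nat_lit 214), [nat_lit 1, nat_lit 0])) (.leaf ((nat_lit 326), [nat_lit 3, nat_lit 3, nat_lit 0]))))))))))
noncomputable def n12Wd_13 : Tr (ℕ × List ℕ) := (.node (nat_lit 1822) (.node (nat_lit 1788) (.node (nat_lit 1771) (.node (nat_lit 1763) (.node (nat_lit 1759) (.node (nat_lit 1757) (.node (nat_lit 1756) (.leaf ((nat_lit 301), [nat_lit 4, nat_lit 4, nat_lit 4, nat_lit 2, nat_lit 1])) (.leaf ((nat_lit 226), [nat_lit 3, nat_lit 3, nat_lit 3]))) (.node (nat_lit 1758) (.leaf ((nat_lit 122), [nat_lit 4])) (.leaf ((nat_lit 124), [nat_lit 2]))))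
 (.node (nat_lit 1761) (.node (nat_lit 1760) (.leaf ((nat_lit 123), [nat_lit 3, nat_lit 1])) (.leaf ((nat_lit 306), [nat_lit 3, nat_lit 2, nat_lit 1, nat_lit 0]))) (.node (nat_lit 1762) (.leaf ((nat_lit 218), [nat_lit 4, nat_lit 4, nat_lit 4, nat_lit 2])) (.leaf ((nat_lit 217), [nat_lit 4, nat_lit 4, nat_lit 1])))))
 (.node (nat_lit 1767) (.node (nat_lit 1765) (.node (nat_lit 1764) (.leaf ((nat_lit 239), [nat_lit 4, nat_lit 0])) (.leaf ((nat_lit 125), [nat_lit 4, nat_lit 4, nat_lit 1]))) (.node (nat_lit 1766) (.leaf ((nat_lit 306), [nat_lit 3, nat_lit 2, nat_lit 0])) (.leaf ((nat_lit 123), [nat_lit 3]))))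
 (.node (nat_lit 1769) (.node (nat_lit 1768) (.leaf ((nat_lit 154), [nat_lit 3, nat_lit 3, nat_lit 2])) (.leaf ((nat_lit 153), [nat_lit 4, nat_lit 4]))) (.node (nat_lit 1770) (.leaf ((nat_lit 171), [nat_lit 3, nat_lit 3, nat_lit 3, nat_lit 1, nat_lit 0])) (.leaf ((nat_lit 153), []))))))
 (.node (nat_lit 1779) (.node (nat_lit 1775) (.node (nat_lit 1773) (.node (nat_lit 1772) (.leaf ((nat_lit 239), [nat_lit 3, nat_lit 3, nat_lit 3, nat_lit 2])) (.leaf ((nat_lit 238), [nat_lit 3, nat_lit 0]))) (.node (nat_lit 1774) (.leaf ((nat_lit 335), [nat_lit 3, nat_lit 2, nat_lit 0])) (.leaf ((nat_lit 213), [nat_lit 3, nat_lit 3]))))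
 (.node (nat_lit 1777) (.node (nat_lit 1776) (.leaf ((nat_lit 123), [nat_lit 4, nat_lit 4, nat_lit 2, nat_lit 1, nat_lit 0])) (.leaf ((nat_lit 306), [nat_lit 0]))) (.node (nat_lit 1778) (.leaf ((nat_lit 125), [nat_lit 4, nat_lit 4, nat_lit 4, nat_lit 1])) (.leaf ((nat_lit 124), [nat_lit 4, nat_lit 2])))))
 (.node (nat_lit 1783) (.node (nat_lit 1781) (.node (nat_lit 1780) (.leaf ((nat_lit 288), [nat_lit 3, nat_lit 1, nat_lit 0])) (.leaf ((nat_lit 225), [nat_lit 4, nat_lit 4, nat_lit 4, nat_lit 1, nat_lit 0]))) (.node (nat_lit 1782) (.leaf ((nat_lit 218), [nat_lit 4, nat_lit 4, nat_lit 1, nat_lit 0])) (.leaf ((nat_lit 297), [nat_lit 0]))))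
 (.node (nat_lit 1785) (.node (nat_lit 1784) (.leaf ((nat_lit 297), [nat_lit 2, nat_lit 1])) (.leaf ((nat_lit 297), [nat_lit 1, nat_lit 0]))) (.node (nat_lit 1786) (.leaf ((nat_lit 281), [nat_lit 4, nat_lit 4, nat_lit 1])) (.node (nat_lit 1787) (.leaf ((nat_lit 134), [nat_lit 2, nat_lit 0])) (.leaf ((nat_lit 124), [nat_lit 3, nat_lit 2, nat_lit 1, nat_lit 0]))))))))
 (.node (nat_lit 1805) (.node (nat_lit 1796) (.node (nat_lit 1792) (.node (nat_lit 1790) (.node (nat_lit 1789) (.leaf ((nat_lit 268), [])) (.leaf ((nat_lit 319), [nat_lit 3, nat_lit 3, nat_lit 3, nat_lit 2]))) (.node (nat_lit 1791) (.leaf ((nat_lit 243), [nat_lit 3, nat_lit 0])) (.leaf ((nat_lit 235), [nat_lit 3, nat_lit 2, nat_lit 0]))))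
 (.node (nat_lit 1794) (.node (nat_lit 1793) (.leaf ((nat_lit 125), [nat_lit 1, nat_lit 0])) (.leaf ((nat_lit 224), [nat_lit 4, nat_lit 4, nat_lit 1, nat_lit 0]))) (.node (nat_lit 1795) (.leaf ((nat_lit 288), [nat_lit 2])) (.leaf ((nat_lit 126), [nat_lit 4, nat_lit 4, nat_lit 2, nat_lit 1])))))
 (.node (nat_lit 1800) (.node (nat_lit 1798) (.node (nat_lit 1797) (.leaf ((nat_lit 236), [nat_lit 4, nat_lit 4, nat_lit 2, nat_lit 1])) (.leaf ((nat_lit 177), [nat_lit 4]))) (.node (nat_lit 1799) (.leaf ((nat_lit 333), [nat_lit 4])) (.leaf ((nat_lit 151), [nat_lit 4, nat_lit 4, nat_lit 4, nat_lit 1]))))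
 (.node (nat_lit 1802) (.node (nat_lit 1801) (.leaf ((nat_lit 302), [nat_lit 3, nat_lit 3, nat_lit 1, nat_lit 0])) (.leaf ((nat_lit 236), [nat_lit 1, nat_lit 0]))) (.node (nat_lit 1803) (.leaf ((nat_lit 126), [nat_lit 1, nat_lit 0])) (.node (nat_lit 1804) (.leaf ((nat_lit 334), [nat_lit 4, nat_lit 4, nat_lit 4, nat_lit 2])) (.leaf ((nat_lit 243), [nat_lit 3, nat_lit 1])))))))
 (.node (nat_lit 1813) (.node (nat_lit 1809) (.node (nat_lit 1807) (.node (nat_lit 1806) (.leaf ((nat_lit 231), [nat_lit 4, nat_lit 4, nat_lit 0])) (.leaf ((nat_lit 331), [nat_lit 4, nat_lit 4, nat_lit 1]))) (.node (nat_lit 1808) (.leaf ((nat_lit 256), [nat_lit 4, nat_lit 4])) (.leaf ((nat_lit 235), [nat_lit 4, nat_lit 4]))))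
 (.node (nat_lit 1811) (.node (nat_lit 1810) (.leaf ((nat_lit 292), [nat_lit 3, nat_lit 3, nat_lit 3, nat_lit 1])) (.leaf ((nat_lit 239), [nat_lit 3, nat_lit 2, nat_lit 1, nat_lit 0]))) (.node (nat_lit 1812) (.leaf ((nat_lit 127), [nat_lit 3, nat_lit 3, nat_lit 1])) (.leaf ((nat_lit 300), [nat_lit 4, nat_lit 4, nat_lit 1])))))
 (.node (nat_lit 1817) (.node (nat_lit 1815) (.node (nat_lit 1814) (.leaf ((nat_lit 233), [nat_lit 4, nat_lit 4])) (.leaf ((nat_lit 230), [nat_lit 4, nat_lit 4]))) (.node (nat_lit 1816) (.leaf ((nat_lit 157), [nat_lit 3, nat_lit 3])) (.leaf ((nat_lit 238), [nat_lit 4, nat_lit 2, nat_lit 1]))))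
 (.node (nat_lit 1819) (.node (nat_lit 1818) (.leaf ((nat_lit 130), [nat_lit 3, nat_lit 3, nat_lit 3, nat_lit 2, nat_lit 1, nat_lit 0])) (.leaf ((nat_lit 350), [nat_lit 2]))) (.node (nat_lit 1820) (.leaf ((nat_lit 182), [nat_lit 4, nat_lit 4, nat_lit 2, nat_lit 1])) (.node (nat_lit 1821) (.leaf ((nat_lit 225), [nat_lit 4, nat_lit 4, nat_lit 2, nat_lit 1])) (.leaf ((nat_lit 132), [nat_lit 4, nat_lit 4, nat_lit 4, nat_lit 1, nat_lit 0])))))))))
 (.node (nat_lit 1856) (.node (nat_lit 1839) (.node (nat_lit 1830) (.node (nat_lit 1826) (.node (nat_lit 1824) (.node (nat_lit 1823) (.leaf ((nat_lit 332), [nat_lit 3, nat_lit 0])) (.leaf ((nat_lit 203), [nat_lit 4, nat_lit 1]))) (.node (nat_lit 1825) (.leaf ((nat_lit 145), [nat_lit 2, nat_lit 0])) (.leaf ((nat_lit 198), [nat_lit 4, nat_lit 4, nat_lit 4, nat_lit 0]))))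
 (.node (nat_lit 1828) (.node (nat_lit 1827) (.leaf ((nat_lit 133), [nat_lit 3, nat_lit 3, nat_lit 1])) (.leaf ((nat_lit 304), [nat_lit 2, nat_lit 1, nat_lit 0]))) (.node (nat_lit 1829) (.leaf ((nat_lit 136), [nat_lit 4, nat_lit 2, nat_lit 1, nat_lit 0])) (.leaf ((nat_lit 165), [nat_lit 3, nat_lit 3, nat_lit 3, nat_lit 1, nat_lit 0])))))
 (.node (nat_lit 1834) (.node (nat_lit 1832) (.node (nat_lit 1831) (.leaf ((nat_lit 305), [nat_lit 2, nat_lit 0])) (.leaf ((nat_lit 305), [nat_lit 1]))) (.node (nat_lit 1833) (.leaf ((nat_lit 305), [nat_lit 1, nat_lit 0])) (.leaf ((nat_lit 135), [nat_lit 3, nat_lit 3]))))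
 (.node (nat_lit 1836) (.node (nat_lit 1835) (.leaf ((nat_lit 146), [nat_lit 2, nat_lit 0])) (.leaf ((nat_lit 274), [nat_lit 3, nat_lit 3, nat_lit 3, nat_lit 0]))) (.node (nat_lit 1837) (.leaf ((nat_lit 296), [nat_lit 0])) (.node (nat_lit 1838) (.leaf ((nat_lit 294), [nat_lit 4, nat_lit 1])) (.leaf ((nat_lit 293), [nat_lit 4, nat_lit 1, nat_lit 0])))))))
 (.node (nat_lit 1847) (.node (nat_lit 1843) (.node (nat_lit 1841) (.node (nat_lit 1840) (.leaf ((nat_lit 148), [nat_lit 4, nat_lit 1, nat_lit 0])) (.leaf ((nat_lit 173), [nat_lit 4, nat_lit 4, nat_lit 4, nat_lit 1]))) (.node (nat_lit 1842) (.leaf ((nat_lit 150), [nat_lit 4, nat_lit 4, nat_lit 2, nat_lit 1])) (.leaf ((nat_lit 258), [nat_lit 4, nat_lit 4, nat_lit 2, nat_lit 0]))))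
 (.node (nat_lit 1845) (.node (nat_lit 1844) (.leaf ((nat_lit 269), [nat_lit 3, nat_lit 3, nat_lit 3, nat_lit 2, nat_lit 1])) (.leaf ((nat_lit 178), [nat_lit 3, nat_lit 3, nat_lit 3, nat_lit 2, nat_lit 0]))) (.node (nat_lit 1846) (.leaf ((nat_lit 274), [nat_lit 3, nat_lit 2])) (.leaf ((nat_lit 167), [nat_lit 3, nat_lit 3, nat_lit 2, nat_lit 0])))))
 (.node (nat_lit 1851) (.node (nat_lit 1849) (.node (nat_lit 1848) (.leaf ((nat_lit 149), [nat_lit 4, nat_lit 4, nat_lit 1])) (.leaf ((nat_lit 352), [nat_lit 1, nat_lit 0]))) (.node (nat_lit 1850) (.leaf ((nat_lit 181), [nat_lit 4, nat_lit 4, nat_lit 4, nat_lit 2, nat_lit 1])) (.leaf ((nat_lit 267), [nat_lit 4, nat_lit 4, nat_lit 4, nat_lit 1]))))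
 (.node (nat_lit 1853) (.node (nat_lit 1852) (.leaf ((nat_lit 207), [nat_lit 4, nat_lit 4, nat_lit 1, nat_lit 0])) (.leaf ((nat_lit 152), [nat_lit 4]))) (.node (nat_lit 1854) (.leaf ((nat_lit 219), [nat_lit 3])) (.node (nat_lit 1855) (.leaf ((nat_lit 339), [nat_lit 0])) (.leaf ((nat_lit 213), [nat_lit 4, nat_lit 1, nat_lit 0]))))))))
 (.node (nat_lit 1873) (.node (nat_lit 1864) (.node (nat_lit 1860) (.node (nat_lit 1858) (.node (nat_lit 1857) (.leaf ((nat_lit 315), [nat_lit 4, nat_lit 1])) (.leaf ((nat_lit 318), [nat_lit 3, nat_lit 1]))) (.node (nat_lit 1859) (.leaf ((nat_lit 256), [nat_lit 4, nat_lit 4, nat_lit 4, nat_lit 1, nat_lit 0])) (.leaf ((nat_lit 152), [nat_lit 4, nat_lit 4]))))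
 (.node (nat_lit 1862) (.node (nat_lit 1861) (.leaf ((nat_lit 239), [nat_lit 0])) (.leaf ((nat_lit 153), [nat_lit 4, nat_lit 4, nat_lit 4, nat_lit 1]))) (.node (nat_lit 1863) (.leaf ((nat_lit 237), [nat_lit 4, nat_lit 4, nat_lit 4, nat_lit 1])) (.leaf ((nat_lit 262), [nat_lit 4, nat_lit 4])))))
 (.node (nat_lit 1868) (.node (nat_lit 1866) (.node (nat_lit 1865) (.leaf ((nat_lit 324), [nat_lit 4, nat_lit 1])) (.leaf ((nat_lit 263), [nat_lit 3, nat_lit 0]))) (.node (nat_lit 1867) (.leaf ((nat_lit 168), [nat_lit 2])) (.leaf ((nat_lit 165), [nat_lit 1, nat_lit 0]))))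
 (.node (nat_lit 1870) (.node (nat_lit 1869) (.leaf ((nat_lit 164), [nat_lit 3, nat_lit 3, nat_lit 3, nat_lit 0])) (.leaf ((nat_lit 241), [nat_lit 4, nat_lit 4, nat_lit 4]))) (.node (nat_lit 1871) (.leaf ((nat_lit 311), [nat_lit 2, nat_lit 1])) (.node (nat_lit 1872) (.leaf ((nat_lit 154), [nat_lit 4, nat_lit 1])) (.leaf ((nat_lit 155), [nat_lit 4, nat_lit 4])))))))
 (.node (nat_lit 1881) (.node (nat_lit 1877) (.node (nat_lit 1875) (.node (nat_lit 1874) (.leaf ((nat_lit 354), [nat_lit 3, nat_lit 1, nat_lit 0])) (.leaf ((nat_lit 342), [nat_lit 3, nat_lit 0]))) (.node (nat_lit 1876) (.leaf ((nat_lit 176), [nat_lit 4, nat_lit 2, nat_lit 1, nat_lit 0])) (.leaf ((nat_lit 344), [nat_lit 4, nat_lit 4, nat_lit 1]))))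
 (.node (nat_lit 1879) (.node (nat_lit 1878) (.leaf ((nat_lit 341), [nat_lit 4, nat_lit 4, nat_lit 4, nat_lit 2, nat_lit 0])) (.leaf ((nat_lit 346), [nat_lit 0]))) (.node (nat_lit 1880) (.leaf ((nat_lit 287), [nat_lit 4, nat_lit 4, nat_lit 4, nat_lit 1, nat_lit 0])) (.leaf ((nat_lit 156), [nat_lit 4, nat_lit 4, nat_lit 4, nat_lit 1, nat_lit 0])))))
 (.node (nat_lit 1885) (.node (nat_lit 1883) (.node (nat_lit 1882) (.leaf ((nat_lit 355), [nat_lit 3, nat_lit 2])) (.leaf ((nat_lit 350), [nat_lit 4, nat_lit 1]))) (.node (nat_lit 1884) (.leaf ((nat_lit 178), [nat_lit 4, nat_lit 4, nat_lit 0])) (.leaf ((nat_lit 282), [nat_lit 2, nat_lit 0]))))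
 (.node (nat_lit 1887) (.node (nat_lit 1886) (.leaf ((nat_lit 357), [nat_lit 4, nat_lit 4, nat_lit 2, nat_lit 1])) (.leaf ((nat_lit 325), [nat_lit 3, nat_lit 3, nat_lit 3, nat_lit 2, nat_lit 0]))) (.node (nat_lit 1888) (.leaf ((nat_lit 156), [nat_lit 3, nat_lit 3, nat_lit 2, nat_lit 1, nat_lit 0])) (.node (nat_lit 1889) (.leaf ((nat_lit 358), [nat_lit 3, nat_lit 2, nat_lit 0])) (.leaf ((nat_lit 356), [nat_lit 3, nat_lit 3, nat_lit 3, nat_lit 1]))))))))))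
noncomputable def n12Wd_14 : Tr (ℕ × List ℕ) := (.node (nat_lit 1957) (.node (nat_lit 1923) (.node (nat_lit 1906) (.node (nat_lit 1898) (.node (nat_lit 1894) (.node (nat_lit 1892) (.node (nat_lit 1891) (.leaf ((nat_lit 351), [nat_lit 2])) (.leaf ((nat_lit 285), [nat_lit 4, nat_lit 2]))) (.node (nat_lit 1893) (.leaf ((nat_lit 309), [nat_lit 3, nat_lit 2, nat_lit 0])) (.leaf ((nat_lit 358), [nat_lit 4, nat_lit 4, nat_lit 4, nat_lit 2, nat_lit 0]))))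
 (.node (nat_lit 1896) (.node (nat_lit 1895) (.leaf ((nat_lit 156), [nat_lit 4, nat_lit 4, nat_lit 1])) (.leaf ((nat_lit 172), [nat_lit 4, nat_lit 4, nat_lit 4, nat_lit 0]))) (.node (nat_lit 1897) (.leaf ((nat_lit 159), [nat_lit 4, nat_lit 4])) (.leaf ((nat_lit 356), [nat_lit 4, nat_lit 4, nat_lit 1])))))
 (.node (nat_lit 1902) (.node (nat_lit 1900) (.node (nat_lit 1899) (.leaf ((nat_lit 359), [nat_lit 3, nat_lit 3, nat_lit 3, nat_lit 0])) (.leaf ((nat_lit 160), [nat_lit 3, nat_lit 3, nat_lit 2, nat_lit 0]))) (.node (nat_lit 1901) (.leaf ((nat_lit 320), [nat_lit 3, nat_lit 1, nat_lit 0])) (.leaf ((nat_lit 354), [nat_lit 4, nat_lit 0]))))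
 (.node (nat_lit 1904) (.node (nat_lit 1903) (.leaf ((nat_lit 359), [nat_lit 4, nat_lit 4, nat_lit 2, nat_lit 0])) (.leaf ((nat_lit 192), [nat_lit 3, nat_lit 3, nat_lit 2, nat_lit 0]))) (.node (nat_lit 1905) (.leaf ((nat_lit 159), [])) (.leaf ((nat_lit 205), [nat_lit 4, nat_lit 4, nat_lit 2]))))))
 (.node (nat_lit 1914) (.node (nat_lit 1910) (.node (nat_lit 1908) (.node (nat_lit 1907) (.leaf ((nat_lit 323), [nat_lit 3, nat_lit 3, nat_lit 3, nat_lit 2, nat_lit 1])) (.leaf ((nat_lit 196), [nat_lit 4, nat_lit 2]))) (.node (nat_lit 1909) (.leaf ((nat_lit 161), [nat_lit 4, nat_lit 4])) (.leaf ((nat_lit 325), [nat_lit 3, nat_lit 3, nat_lit 3, nat_lit 0]))))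
 (.node (nat_lit 1912) (.node (nat_lit 1911) (.leaf ((nat_lit 357), [nat_lit 4, nat_lit 4, nat_lit 1])) (.leaf ((nat_lit 309), [nat_lit 4, nat_lit 0]))) (.node (nat_lit 1913) (.leaf ((nat_lit 341), [nat_lit 3, nat_lit 0])) (.leaf ((nat_lit 329), [nat_lit 4, nat_lit 4, nat_lit 4, nat_lit 0])))))
 (.node (nat_lit 1918) (.node (nat_lit 1916) (.node (nat_lit 1915) (.leaf ((nat_lit 199), [nat_lit 0])) (.leaf ((nat_lit 298), [nat_lit 4, nat_lit 4, nat_lit 4, nat_lit 1, nat_lit 0]))) (.node (nat_lit 1917) (.leaf ((nat_lit 162), [nat_lit 4, nat_lit 4, nat_lit 4, nat_lit 1, nat_lit 0])) (.leaf ((nat_lit 342), [nat_lit 4, nat_lit 4]))))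
 (.node (nat_lit 1920) (.node (nat_lit 1919) (.leaf ((nat_lit 331), [nat_lit 4, nat_lit 4, nat_lit 4, nat_lit 1])) (.leaf ((nat_lit 264), [nat_lit 3, nat_lit 2, nat_lit 0]))) (.node (nat_lit 1921) (.leaf ((nat_lit 255), [nat_lit 1, nat_lit 0])) (.node (nat_lit 1922) (.leaf ((nat_lit 344), [nat_lit 4, nat_lit 4, nat_lit 4, nat_lit 2])) (.leaf ((nat_lit 328), [nat_lit 3, nat_lit 3, nat_lit 0]))))))))
 (.node (nat_lit 1940) (.node (nat_lit 1931) (.node (nat_lit 1927) (.node (nat_lit 1925) (.node (nat_lit 1924) (.leaf ((nat_lit 162), [nat_lit 3])) (.leaf ((nat_lit 316), [nat_lit 4, nat_lit 2, nat_lit 0]))) (.node (nat_lit 1926) (.leaf ((nat_lit 208), [nat_lit 4, nat_lit 4])) (.leaf ((nat_lit 213), [nat_lit 3, nat_lit 3, nat_lit 1, nat_lit 0]))))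
 (.node (nat_lit 1929) (.node (nat_lit 1928) (.leaf ((nat_lit 339), [nat_lit 3, nat_lit 3, nat_lit 3, nat_lit 2])) (.leaf ((nat_lit 327), [nat_lit 3, nat_lit 3, nat_lit 3, nat_lit 1, nat_lit 0]))) (.node (nat_lit 1930) (.leaf ((nat_lit 354), [nat_lit 4, nat_lit 4, nat_lit 4])) (.leaf ((nat_lit 268), [nat_lit 1, nat_lit 0])))))
 (.node (nat_lit 1935) (.node (nat_lit 1933) (.node (nat_lit 1932) (.leaf ((nat_lit 163), [nat_lit 4, nat_lit 4, nat_lit 2, nat_lit 1])) (.leaf ((nat_lit 322), [nat_lit 2]))) (.node (nat_lit 1934) (.leaf ((nat_lit 322), [nat_lit 2, nat_lit 1, nat_lit 0])) (.leaf ((nat_lit 322), [nat_lit 2, nat_lit 1]))))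
 (.node (nat_lit 1937) (.node (nat_lit 1936) (.leaf ((nat_lit 224), [nat_lit 4, nat_lit 4, nat_lit 4])) (.leaf ((nat_lit 164), [nat_lit 3, nat_lit 3, nat_lit 3, nat_lit 2, nat_lit 1, nat_lit 0]))) (.node (nat_lit 1938) (.leaf ((nat_lit 173), [nat_lit 4, nat_lit 2, nat_lit 0])) (.node (nat_lit 1939) (.leaf ((nat_lit 177), [nat_lit 1, nat_lit 0])) (.leaf ((nat_lit 167), [nat_lit 4, nat_lit 0])))))))
 (.node (nat_lit 1948) (.node (nat_lit 1944) (.node (nat_lit 1942) (.node (nat_lit 1941) (.leaf ((nat_lit 174), [nat_lit 4, nat_lit 4, nat_lit 4, nat_lit 2, nat_lit 0])) (.leaf ((nat_lit 188), [nat_lit 3, nat_lit 1, nat_lit 0]))) (.node (nat_lit 1943) (.leaf ((nat_lit 317), [nat_lit 4, nat_lit 4, nat_lit 4, nat_lit 2, nat_lit 0])) (.leaf ((nat_lit 327), [nat_lit 4, nat_lit 4, nat_lit 1]))))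
 (.node (nat_lit 1946) (.node (nat_lit 1945) (.leaf ((nat_lit 340), [nat_lit 4, nat_lit 4, nat_lit 1])) (.leaf ((nat_lit 173), [nat_lit 4, nat_lit 4]))) (.node (nat_lit 1947) (.leaf ((nat_lit 335), [nat_lit 4, nat_lit 4])) (.leaf ((nat_lit 336), [nat_lit 3, nat_lit 3, nat_lit 3, nat_lit 2, nat_lit 1, nat_lit 0])))))
 (.node (nat_lit 1952) (.node (nat_lit 1950) (.node (nat_lit 1949) (.leaf ((nat_lit 310), [nat_lit 3, nat_lit 2, nat_lit 0])) (.leaf ((nat_lit 212), [nat_lit 3, nat_lit 3]))) (.node (nat_lit 1951) (.leaf ((nat_lit 175), [nat_lit 3, nat_lit 3, nat_lit 2, nat_lit 1, nat_lit 0])) (.leaf ((nat_lit 318), [nat_lit 4, nat_lit 4, nat_lit 4, nat_lit 2, nat_lit 1, nat_lit 0]))))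
 (.node (nat_lit 1954) (.node (nat_lit 1953) (.leaf ((nat_lit 314), [nat_lit 4, nat_lit 4, nat_lit 4, nat_lit 2])) (.leaf ((nat_lit 271), [nat_lit 3, nat_lit 3, nat_lit 3, nat_lit 2, nat_lit 1]))) (.node (nat_lit 1955) (.leaf ((nat_lit 208), [nat_lit 4, nat_lit 4])) (.node (nat_lit 1956) (.leaf ((nat_lit 358), [nat_lit 2, nat_lit 0])) (.leaf ((nat_lit 337), [nat_lit 2])))))))))
 (.node (nat_lit 1991) (.node (nat_lit 1974) (.node (nat_lit 1965) (.node (nat_lit 1961) (.node (nat_lit 1959) (.node (nat_lit 1958) (.leaf ((nat_lit 176), [nat_lit 4, nat_lit 4, nat_lit 2, nat_lit 1])) (.leaf ((nat_lit 292), [nat_lit 4, nat_lit 4, nat_lit 2, nat_lit 1]))) (.node (nat_lit 1960) (.leaf ((nat_lit 339), [nat_lit 4, nat_lit 2, nat_lit 0])) (.leaf ((nat_lit 185), [nat_lit 3, nat_lit 2, nat_lit 1]))))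
 (.node (nat_lit 1963) (.node (nat_lit 1962) (.leaf ((nat_lit 281), [nat_lit 4, nat_lit 4, nat_lit 4, nat_lit 1])) (.leaf ((nat_lit 285), [nat_lit 4, nat_lit 4, nat_lit 2, nat_lit 1, nat_lit 0]))) (.node (nat_lit 1964) (.leaf ((nat_lit 351), [nat_lit 4, nat_lit 2, nat_lit 1, nat_lit 0])) (.leaf ((nat_lit 321), [nat_lit 4, nat_lit 4, nat_lit 4, nat_lit 0])))))
 (.node (nat_lit 1969) (.node (nat_lit 1967) (.node (nat_lit 1966) (.leaf ((nat_lit 344), [nat_lit 3, nat_lit 3, nat_lit 3, nat_lit 0])) (.leaf ((nat_lit 176), [nat_lit 4, nat_lit 4, nat_lit 4]))) (.node (nat_lit 1968) (.leaf ((nat_lit 323), [nat_lit 3, nat_lit 3, nat_lit 1, nat_lit 0])) (.leaf ((nat_lit 179), [nat_lit 3, nat_lit 3, nat_lit 2, nat_lit 1, nat_lit 0]))))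
 (.node (nat_lit 1971) (.node (nat_lit 1970) (.leaf ((nat_lit 341), [nat_lit 4, nat_lit 4])) (.leaf ((nat_lit 320), [nat_lit 4, nat_lit 4, nat_lit 2, nat_lit 1]))) (.node (nat_lit 1972) (.leaf ((nat_lit 214), [nat_lit 4, nat_lit 4, nat_lit 2, nat_lit 0])) (.node (nat_lit 1973) (.leaf ((nat_lit 343), [nat_lit 4, nat_lit 4, nat_lit 4, nat_lit 2, nat_lit 1, nat_lit 0])) (.leaf ((nat_lit 357), [nat_lit 3, nat_lit 3, nat_lit 3, nat_lit 2, nat_lit 1, nat_lit 0])))))))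
 (.node (nat_lit 1982) (.node (nat_lit 1978) (.node (nat_lit 1976) (.node (nat_lit 1975) (.leaf ((nat_lit 210), [nat_lit 2, nat_lit 0])) (.leaf ((nat_lit 347), [nat_lit 3, nat_lit 2, nat_lit 1, nat_lit 0]))) (.node (nat_lit 1977) (.leaf ((nat_lit 208), [nat_lit 3, nat_lit 2, nat_lit 0])) (.leaf ((nat_lit 180), [nat_lit 3, nat_lit 3, nat_lit 2, nat_lit 0]))))
 (.node (nat_lit 1980) (.node (nat_lit 1979) (.leaf ((nat_lit 330), [nat_lit 3, nat_lit 3, nat_lit 3, nat_lit 2, nat_lit 0])) (.leaf ((nat_lit 318), [nat_lit 3, nat_lit 3, nat_lit 3, nat_lit 1, nat_lit 0]))) (.node (nat_lit 1981) (.leaf ((nat_lit 181), [nat_lit 3, nat_lit 3, nat_lit 2, nat_lit 1, nat_lit 0])) (.leaf ((nat_lit 352), [nat_lit 4, nat_lit 4, nat_lit 2, nat_lit 1])))))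
 (.node (nat_lit 1986) (.node (nat_lit 1984) (.node (nat_lit 1983) (.leaf ((nat_lit 358), [nat_lit 4, nat_lit 4])) (.leaf ((nat_lit 182), [nat_lit 3, nat_lit 3, nat_lit 3, nat_lit 2, nat_lit 0]))) (.node (nat_lit 1985) (.leaf ((nat_lit 329), [nat_lit 4, nat_lit 4, nat_lit 4, nat_lit 2])) (.leaf ((nat_lit 338), []))))
 (.node (nat_lit 1988) (.node (nat_lit 1987) (.leaf ((nat_lit 301), [nat_lit 3, nat_lit 3, nat_lit 1, nat_lit 0])) (.leaf ((nat_lit 225), [nat_lit 1, nat_lit 0]))) (.node (nat_lit 1989) (.leaf ((nat_lit 182), [nat_lit 1, nat_lit 0])) (.node (nat_lit 1990) (.leaf ((nat_lit 357), [nat_lit 4, nat_lit 4, nat_lit 2])) (.leaf ((nat_lit 319), [nat_lit 3, nat_lit 3, nat_lit 3, nat_lit 2, nat_lit 1, nat_lit 0]))))))))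
 (.node (nat_lit 2008) (.node (nat_lit 1999) (.node (nat_lit 1995) (.node (nat_lit 1993) (.node (nat_lit 1992) (.leaf ((nat_lit 187), [nat_lit 3, nat_lit 3])) (.leaf ((nat_lit 184), [nat_lit 0]))) (.node (nat_lit 1994) (.leaf ((nat_lit 183), [nat_lit 4, nat_lit 4, nat_lit 4, nat_lit 1, nat_lit 0])) (.leaf ((nat_lit 265), [nat_lit 4, nat_lit 4, nat_lit 4, nat_lit 1, nat_lit 0]))))
 (.node (nat_lit 1997) (.node (nat_lit 1996) (.leaf ((nat_lit 237), [nat_lit 3, nat_lit 0])) (.leaf ((nat_lit 303), [nat_lit 4, nat_lit 2]))) (.node (nat_lit 1998) (.leaf ((nat_lit 340), [nat_lit 3, nat_lit 3, nat_lit 3])) (.leaf ((nat_lit 185), [nat_lit 3, nat_lit 3, nat_lit 2])))))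
 (.node (nat_lit 2003) (.node (nat_lit 2001) (.node (nat_lit 2000) (.leaf ((nat_lit 265), [nat_lit 4, nat_lit 2])) (.leaf ((nat_lit 183), [nat_lit 4, nat_lit 2]))) (.node (nat_lit 2002) (.leaf ((nat_lit 254), [nat_lit 4, nat_lit 4, nat_lit 4, nat_lit 2, nat_lit 1])) (.leaf ((nat_lit 299), [nat_lit 3]))))
 (.node (nat_lit 2005) (.node (nat_lit 2004) (.leaf ((nat_lit 284), [nat_lit 4, nat_lit 4])) (.leaf ((nat_lit 265), []))) (.node (nat_lit 2006) (.leaf ((nat_lit 185), [nat_lit 3, nat_lit 3, nat_lit 3])) (.node (nat_lit 2007) (.leaf ((nat_lit 184), [nat_lit 3, nat_lit 3, nat_lit 3, nat_lit 2, nat_lit 1, nat_lit 0])) (.leaf ((nat_lit 300), [nat_lit 3, nat_lit 3, nat_lit 3, nat_lit 2, nat_lit 0])))))))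
 (.node (nat_lit 2016) (.node (nat_lit 2012) (.node (nat_lit 2010) (.node (nat_lit 2009) (.leaf ((nat_lit 351), [nat_lit 3, nat_lit 3, nat_lit 0])) (.leaf ((nat_lit 228), [nat_lit 3, nat_lit 2, nat_lit 1]))) (.node (nat_lit 2011) (.leaf ((nat_lit 274), [])) (.leaf ((nat_lit 228), [nat_lit 3, nat_lit 3, nat_lit 1, nat_lit 0]))))
 (.node (nat_lit 2014) (.node (nat_lit 2013) (.leaf ((nat_lit 324), [nat_lit 3, nat_lit 3])) (.leaf ((nat_lit 295), [nat_lit 4, nat_lit 1]))) (.node (nat_lit 2015) (.leaf ((nat_lit 278), [nat_lit 3, nat_lit 3, nat_lit 3, nat_lit 2, nat_lit 1, nat_lit 0])) (.leaf ((nat_lit 185), [nat_lit 4, nat_lit 4, nat_lit 4, nat_lit 0])))))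
 (.node (nat_lit 2020) (.node (nat_lit 2018) (.node (nat_lit 2017) (.leaf ((nat_lit 264), [nat_lit 2, nat_lit 1])) (.leaf ((nat_lit 189), [nat_lit 3, nat_lit 3, nat_lit 2, nat_lit 1, nat_lit 0]))) (.node (nat_lit 2019) (.leaf ((nat_lit 188), [nat_lit 3, nat_lit 3, nat_lit 2, nat_lit 0])) (.leaf ((nat_lit 324), [nat_lit 4, nat_lit 4, nat_lit 4, nat_lit 1]))))
 (.node (nat_lit 2022) (.node (nat_lit 2021) (.leaf ((nat_lit 262), [nat_lit 3, nat_lit 3, nat_lit 3, nat_lit 2, nat_lit 1])) (.leaf ((nat_lit 193), [nat_lit 4, nat_lit 1]))) (.node (nat_lit 2023) (.leaf ((nat_lit 326), [nat_lit 2])) (.node (nat_lit 2024) (.leaf ((nat_lit 216), [nat_lit 4, nat_lit 4, nat_lit 1])) (.leaf ((nat_lit 215), [nat_lit 4, nat_lit 4, nat_lit 1]))))))))))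
noncomputable def n12Wd_15 : Tr (ℕ × List ℕ) := (.node (nat_lit 2092) (.node (nat_lit 2058) (.node (nat_lit 2041) (.node (nat_lit 2033) (.node (nat_lit 2029) (.node (nat_lit 2027) (.node (nat_lit 2026) (.leaf ((nat_lit 347), [nat_lit 4, nat_lit 0])) (.leaf ((nat_lit 286), [nat_lit 3, nat_lit 1]))) (.node (nat_lit 2028) (.leaf ((nat_lit 189), [nat_lit 4, nat_lit 4, nat_lit 4, nat_lit 2, nat_lit 0])) (.leaf ((nat_lit 192), [nat_lit 2, nat_lit 0]))))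
 (.node (nat_lit 2031) (.node (nat_lit 2030) (.leaf ((nat_lit 359), [nat_lit 3, nat_lit 3, nat_lit 3, nat_lit 2, nat_lit 0])) (.leaf ((nat_lit 356), [nat_lit 4, nat_lit 4, nat_lit 2, nat_lit 1]))) (.node (nat_lit 2032) (.leaf ((nat_lit 215), [nat_lit 3, nat_lit 3, nat_lit 3])) (.leaf ((nat_lit 352), [nat_lit 3, nat_lit 2, nat_lit 1, nat_lit 0])))))
 (.node (nat_lit 2037) (.node (nat_lit 2035) (.node (nat_lit 2034) (.leaf ((nat_lit 330), [])) (.leaf ((nat_lit 309), [nat_lit 0]))) (.node (nat_lit 2036) (.leaf ((nat_lit 321), [nat_lit 4, nat_lit 4, nat_lit 4, nat_lit 1, nat_lit 0])) (.leaf ((nat_lit 351), [nat_lit 4, nat_lit 2, nat_lit 0]))))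
 (.node (nat_lit 2039) (.node (nat_lit 2038) (.leaf ((nat_lit 326), [nat_lit 3, nat_lit 1, nat_lit 0])) (.leaf ((nat_lit 275), [nat_lit 4, nat_lit 4, nat_lit 4, nat_lit 1]))) (.node (nat_lit 2040) (.leaf ((nat_lit 198), [nat_lit 4, nat_lit 4, nat_lit 2, nat_lit 1])) (.leaf ((nat_lit 324), [nat_lit 3, nat_lit 3, nat_lit 1, nat_lit 0]))))))
 (.node (nat_lit 2049) (.node (nat_lit 2045) (.node (nat_lit 2043) (.node (nat_lit 2042) (.leaf ((nat_lit 275), [nat_lit 1, nat_lit 0])) (.leaf ((nat_lit 274), [nat_lit 1, nat_lit 0]))) (.node (nat_lit 2044) (.leaf ((nat_lit 236), [nat_lit 4, nat_lit 4])) (.leaf ((nat_lit 199), [nat_lit 3, nat_lit 3, nat_lit 3, nat_lit 2]))))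
 (.node (nat_lit 2047) (.node (nat_lit 2046) (.leaf ((nat_lit 332), [nat_lit 4, nat_lit 4, nat_lit 4])) (.leaf ((nat_lit 205), [nat_lit 2, nat_lit 0]))) (.node (nat_lit 2048) (.leaf ((nat_lit 328), [nat_lit 3, nat_lit 3])) (.leaf ((nat_lit 344), [nat_lit 4, nat_lit 4, nat_lit 4, nat_lit 2, nat_lit 0])))))
 (.node (nat_lit 2053) (.node (nat_lit 2051) (.node (nat_lit 2050) (.leaf ((nat_lit 256), [nat_lit 3, nat_lit 3, nat_lit 1])) (.leaf ((nat_lit 318), [nat_lit 4, nat_lit 2]))) (.node (nat_lit 2052) (.leaf ((nat_lit 312), [nat_lit 3, nat_lit 3, nat_lit 3, nat_lit 2, nat_lit 1])) (.leaf ((nat_lit 207), [nat_lit 2, nat_lit 0]))))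
 (.node (nat_lit 2055) (.node (nat_lit 2054) (.leaf ((nat_lit 283), [nat_lit 4, nat_lit 1])) (.leaf ((nat_lit 312), [nat_lit 4, nat_lit 2]))) (.node (nat_lit 2056) (.leaf ((nat_lit 319), [nat_lit 3, nat_lit 3])) (.node (nat_lit 2057) (.leaf ((nat_lit 357), [nat_lit 4, nat_lit 4, nat_lit 4, nat_lit 2, nat_lit 0])) (.leaf ((nat_lit 355), [nat_lit 3, nat_lit 3, nat_lit 3, nat_lit 2, nat_lit 1, nat_lit 0]))))))))
 (.node (nat_lit 2075) (.node (nat_lit 2066) (.node (nat_lit 2062) (.node (nat_lit 2060) (.node (nat_lit 2059) (.leaf ((nat_lit 209), [nat_lit 4, nat_lit 4])) (.leaf ((nat_lit 208), [nat_lit 3, nat_lit 0]))) (.node (nat_lit 2061) (.leaf ((nat_lit 347), [nat_lit 3, nat_lit 1, nat_lit 0])) (.leaf ((nat_lit 345), [nat_lit 4, nat_lit 4, nat_lit 4]))))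
 (.node (nat_lit 2064) (.node (nat_lit 2063) (.leaf ((nat_lit 328), [nat_lit 3, nat_lit 3, nat_lit 3, nat_lit 0])) (.leaf ((nat_lit 359), [nat_lit 4, nat_lit 4, nat_lit 4, nat_lit 2, nat_lit 0]))) (.node (nat_lit 2065) (.leaf ((nat_lit 211), [nat_lit 2, nat_lit 1])) (.leaf ((nat_lit 320), [nat_lit 3, nat_lit 3, nat_lit 3, nat_lit 2, nat_lit 0])))))
 (.node (nat_lit 2070) (.node (nat_lit 2068) (.node (nat_lit 2067) (.leaf ((nat_lit 341), [nat_lit 3, nat_lit 3, nat_lit 3, nat_lit 2, nat_lit 1])) (.leaf ((nat_lit 327), [nat_lit 4, nat_lit 4, nat_lit 4, nat_lit 2, nat_lit 1, nat_lit 0]))) (.node (nat_lit 2069) (.leaf ((nat_lit 312), [nat_lit 3, nat_lit 3, nat_lit 1, nat_lit 0])) (.leaf ((nat_lit 352), [nat_lit 4, nat_lit 2, nat_lit 1]))))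
 (.node (nat_lit 2072) (.node (nat_lit 2071) (.leaf ((nat_lit 243), [nat_lit 4, nat_lit 4, nat_lit 2, nat_lit 1, nat_lit 0])) (.leaf ((nat_lit 229), [nat_lit 4, nat_lit 4, nat_lit 4]))) (.node (nat_lit 2073) (.leaf ((nat_lit 268), [nat_lit 4, nat_lit 4, nat_lit 4])) (.node (nat_lit 2074) (.leaf ((nat_lit 343), [nat_lit 3, nat_lit 3, nat_lit 3])) (.leaf ((nat_lit 214), [nat_lit 4, nat_lit 4, nat_lit 4, nat_lit 0])))))))
 (.node (nat_lit 2083) (.node (nat_lit 2079) (.node (nat_lit 2077) (.node (nat_lit 2076) (.leaf ((nat_lit 258), [nat_lit 2, nat_lit 1])) (.leaf ((nat_lit 313), [nat_lit 0]))) (.node (nat_lit 2078) (.leaf ((nat_lit 273), [nat_lit 4, nat_lit 4, nat_lit 4, nat_lit 1])) (.leaf ((nat_lit 217), [nat_lit 4, nat_lit 4, nat_lit 4, nat_lit 1]))))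
 (.node (nat_lit 2081) (.node (nat_lit 2080) (.leaf ((nat_lit 229), [nat_lit 3])) (.leaf ((nat_lit 228), [nat_lit 4, nat_lit 1, nat_lit 0]))) (.node (nat_lit 2082) (.leaf ((nat_lit 277), [nat_lit 4, nat_lit 4, nat_lit 2, nat_lit 1])) (.leaf ((nat_lit 221), [nat_lit 1, nat_lit 0])))))
 (.node (nat_lit 2087) (.node (nat_lit 2085) (.node (nat_lit 2084) (.leaf ((nat_lit 329), [nat_lit 4, nat_lit 1, nat_lit 0])) (.leaf ((nat_lit 343), [nat_lit 4, nat_lit 2, nat_lit 0]))) (.node (nat_lit 2086) (.leaf ((nat_lit 337), [nat_lit 3, nat_lit 1])) (.leaf ((nat_lit 359), [nat_lit 3, nat_lit 3, nat_lit 0]))))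
 (.node (nat_lit 2089) (.node (nat_lit 2088) (.leaf ((nat_lit 283), [nat_lit 4, nat_lit 4, nat_lit 0])) (.leaf ((nat_lit 249), [nat_lit 2]))) (.node (nat_lit 2090) (.leaf ((nat_lit 248), [nat_lit 3, nat_lit 3, nat_lit 1])) (.node (nat_lit 2091) (.leaf ((nat_lit 260), [nat_lit 1, nat_lit 0])) (.leaf ((nat_lit 222), [nat_lit 4, nat_lit 4, nat_lit 4, nat_lit 1, nat_lit 0])))))))))
 (.node (nat_lit 2126) (.node (nat_lit 2109) (.node (nat_lit 2100) (.node (nat_lit 2096) (.node (nat_lit 2094) (.node (nat_lit 2093) (.leaf ((nat_lit 348), [nat_lit 2, nat_lit 1])) (.leaf ((nat_lit 232), [nat_lit 4, nat_lit 0]))) (.node (nat_lit 2095) (.leaf ((nat_lit 349), [nat_lit 0])) (.leaf ((nat_lit 349), [nat_lit 2, nat_lit 1, nat_lit 0]))))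
 (.node (nat_lit 2098) (.node (nat_lit 2097) (.leaf ((nat_lit 349), [nat_lit 1])) (.leaf ((nat_lit 291), [nat_lit 4, nat_lit 4, nat_lit 1]))) (.node (nat_lit 2099) (.leaf ((nat_lit 247), [nat_lit 4, nat_lit 4, nat_lit 4])) (.leaf ((nat_lit 233), [nat_lit 3, nat_lit 2])))))
 (.node (nat_lit 2104) (.node (nat_lit 2102) (.node (nat_lit 2101) (.leaf ((nat_lit 303), [nat_lit 2])) (.leaf ((nat_lit 235), [nat_lit 4, nat_lit 4, nat_lit 1]))) (.node (nat_lit 2103) (.leaf ((nat_lit 256), [nat_lit 4, nat_lit 4, nat_lit 1])) (.leaf ((nat_lit 283), [nat_lit 4, nat_lit 4, nat_lit 4, nat_lit 0]))))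
 (.node (nat_lit 2106) (.node (nat_lit 2105) (.leaf ((nat_lit 313), [nat_lit 3, nat_lit 2, nat_lit 0])) (.leaf ((nat_lit 269), [nat_lit 4, nat_lit 2, nat_lit 0]))) (.node (nat_lit 2107) (.leaf ((nat_lit 315), [nat_lit 2])) (.node (nat_lit 2108) (.leaf ((nat_lit 327), [nat_lit 3, nat_lit 2, nat_lit 1])) (.leaf ((nat_lit 339), [nat_lit 3, nat_lit 1, nat_lit 0])))))))
 (.node (nat_lit 2117) (.node (nat_lit 2113) (.node (nat_lit 2111) (.node (nat_lit 2110) (.leaf ((nat_lit 243), [nat_lit 3, nat_lit 3, nat_lit 1])) (.leaf ((nat_lit 334), [nat_lit 4, nat_lit 4, nat_lit 2, nat_lit 1]))) (.node (nat_lit 2112) (.leaf ((nat_lit 289), [nat_lit 4, nat_lit 2, nat_lit 0])) (.leaf ((nat_lit 308), [nat_lit 1, nat_lit 0]))))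
 (.node (nat_lit 2115) (.node (nat_lit 2114) (.leaf ((nat_lit 330), [nat_lit 3, nat_lit 3, nat_lit 0])) (.leaf ((nat_lit 355), [nat_lit 4, nat_lit 4, nat_lit 4, nat_lit 2]))) (.node (nat_lit 2116) (.leaf ((nat_lit 244), [nat_lit 4, nat_lit 4, nat_lit 1, nat_lit 0])) (.leaf ((nat_lit 338), [nat_lit 4, nat_lit 1, nat_lit 0])))))
 (.node (nat_lit 2121) (.node (nat_lit 2119) (.node (nat_lit 2118) (.leaf ((nat_lit 344), [nat_lit 3, nat_lit 2])) (.leaf ((nat_lit 353), [nat_lit 2]))) (.node (nat_lit 2120) (.leaf ((nat_lit 353), [nat_lit 1, nat_lit 0])) (.leaf ((nat_lit 353), [nat_lit 2, nat_lit 1]))))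
 (.node (nat_lit 2123) (.node (nat_lit 2122) (.leaf ((nat_lit 251), [nat_lit 4, nat_lit 4, nat_lit 4, nat_lit 1, nat_lit 0])) (.leaf ((nat_lit 260), [nat_lit 2, nat_lit 0]))) (.node (nat_lit 2124) (.leaf ((nat_lit 265), [nat_lit 4, nat_lit 2, nat_lit 1])) (.node (nat_lit 2125) (.leaf ((nat_lit 259), [nat_lit 1, nat_lit 0])) (.leaf ((nat_lit 312), [nat_lit 4, nat_lit 2, nat_lit 0]))))))))
 (.node (nat_lit 2143) (.node (nat_lit 2134) (.node (nat_lit 2130) (.node (nat_lit 2128) (.node (nat_lit 2127) (.leaf ((nat_lit 283), [nat_lit 4, nat_lit 1, nat_lit 0])) (.leaf ((nat_lit 321), [nat_lit 3, nat_lit 3, nat_lit 3]))) (.node (nat_lit 2129) (.leaf ((nat_lit 356), [nat_lit 4, nat_lit 4, nat_lit 4, nat_lit 2])) (.leaf ((nat_lit 316), [nat_lit 3, nat_lit 1]))))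
 (.node (nat_lit 2132) (.node (nat_lit 2131) (.leaf ((nat_lit 267), [nat_lit 2, nat_lit 1])) (.leaf ((nat_lit 358), [nat_lit 3, nat_lit 3, nat_lit 3, nat_lit 2, nat_lit 1]))) (.node (nat_lit 2133) (.leaf ((nat_lit 352), [nat_lit 3, nat_lit 3, nat_lit 3, nat_lit 2, nat_lit 0])) (.leaf ((nat_lit 313), [nat_lit 4, nat_lit 2, nat_lit 1])))))
 (.node (nat_lit 2138) (.node (nat_lit 2136) (.node (nat_lit 2135) (.leaf ((nat_lit 283), [nat_lit 3, nat_lit 3, nat_lit 0])) (.leaf ((nat_lit 342), [nat_lit 4, nat_lit 4, nat_lit 4, nat_lit 1]))) (.node (nat_lit 2137) (.leaf ((nat_lit 272), [nat_lit 2, nat_lit 1])) (.leaf ((nat_lit 316), [nat_lit 3, nat_lit 3, nat_lit 1, nat_lit 0]))))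
 (.node (nat_lit 2140) (.node (nat_lit 2139) (.leaf ((nat_lit 338), [nat_lit 3, nat_lit 3, nat_lit 0])) (.leaf ((nat_lit 268), [nat_lit 4]))) (.node (nat_lit 2141) (.leaf ((nat_lit 354), [nat_lit 3, nat_lit 3, nat_lit 3, nat_lit 2, nat_lit 0])) (.node (nat_lit 2142) (.leaf ((nat_lit 314), [nat_lit 4, nat_lit 4, nat_lit 4, nat_lit 2, nat_lit 1])) (.leaf ((nat_lit 270), [nat_lit 2, nat_lit 1])))))))
 (.node (nat_lit 2151) (.node (nat_lit 2147) (.node (nat_lit 2145) (.node (nat_lit 2144) (.leaf ((nat_lit 314), [nat_lit 3, nat_lit 3, nat_lit 0])) (.leaf ((nat_lit 318), [nat_lit 3, nat_lit 3, nat_lit 1, nat_lit 0]))) (.node (nat_lit 2146) (.leaf ((nat_lit 331), [nat_lit 3, nat_lit 3, nat_lit 1])) (.leaf ((nat_lit 342), [nat_lit 3, nat_lit 3, nat_lit 3, nat_lit 2, nat_lit 1]))))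
 (.node (nat_lit 2149) (.node (nat_lit 2148) (.leaf ((nat_lit 328), [nat_lit 4, nat_lit 4, nat_lit 4, nat_lit 1])) (.leaf ((nat_lit 276), [nat_lit 2, nat_lit 0]))) (.node (nat_lit 2150) (.leaf ((nat_lit 355), [nat_lit 4, nat_lit 4, nat_lit 4, nat_lit 2, nat_lit 0])) (.leaf ((nat_lit 330), [nat_lit 3, nat_lit 3])))))
 (.node (nat_lit 2155) (.node (nat_lit 2153) (.node (nat_lit 2152) (.leaf ((nat_lit 315), [nat_lit 3, nat_lit 3, nat_lit 3, nat_lit 2, nat_lit 1])) (.leaf ((nat_lit 314), [nat_lit 4, nat_lit 1]))) (.node (nat_lit 2154) (.leaf ((nat_lit 325), [nat_lit 2, nat_lit 0])) (.leaf ((nat_lit 317), [nat_lit 3, nat_lit 3, nat_lit 2, nat_lit 1, nat_lit 0]))))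
 (.node (nat_lit 2157) (.node (nat_lit 2156) (.leaf ((nat_lit 338), [nat_lit 4, nat_lit 4, nat_lit 4, nat_lit 2])) (.leaf ((nat_lit 316), [nat_lit 4, nat_lit 4, nat_lit 4, nat_lit 2, nat_lit 1, nat_lit 0]))) (.node (nat_lit 2158) (.leaf ((nat_lit 286), [nat_lit 1, nat_lit 0])) (.node (nat_lit 2159) (.leaf ((nat_lit 347), [nat_lit 4, nat_lit 4, nat_lit 2, nat_lit 1])) (.leaf ((nat_lit 343), [nat_lit 3, nat_lit 3, nat_lit 3, nat_lit 2, nat_lit 1]))))))))))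
noncomputable def n12Wd : Tr (ℕ × List ℕ) := (.node (nat_lit 1080) (.node (nat_lit 540) (.node (nat_lit 270) (.node (nat_lit 135) n12Wd_0 n12Wd_1) (.node (nat_lit 405) n12Wd_2 n12Wd_3)) (.node (nat_lit 810) (.node (nat_lit 675) n12Wd_4 n12Wd_5) (.node (nat_lit 945) n12Wd_6 n12Wd_7))) (.node (nat_lit 1620) (.node (nat_lit 1350) (.node (nat_lit 1215) n12Wd_8 n12Wd_9) (.node (nat_lit 1485) n12Wd_10 n12Wd_11)) (.node (nat_lit 1890) (.node (nat_lit 1755) n12Wd_12 n12Wd_13) (.node (nat_lit 2025) n12Wd_14 n12Wd_15))))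
theorem n12q : allR 0 360 (dblChk (nat_lit 4) (nat_lit 15) (MG.gl42L.map Lev.b) MG.gl42T n12T n12Dd (topN MG.gl42L) 360 12 n12PA n12Wd) = true := by decide +kernel
noncomputable def n12Ws : List (List ℕ) := [[]]
noncomputable def n12CE : Tr (ℕ × List ℕ × List (List ℕ)) := (.node (nat_lit 6) (.node (nat_lit 3) (.node (nat_lit 1) (.leaf ((nat_lit 0), [], [])) (.node (nat_lit 2) (.leaf ((nat_lit 0), [nat_lit 5, nat_lit 3, nat_lit 6, nat_lit 3, nat_lit 5, nat_lit 3, nat_lit 2, nat_lit 0], [])) (.leaf ((nat_lit 14), [nat_lit 5, nat_lit 4, nat_lit 3, nat_lit 2, nat_lit 3, nat_lit 1], [[nat_lit 3, nat_lit 0, nat_lit 99, nat_lit 0], [nat_lit 4, nat_lit 4, nat_lit 99, nat_lit 2]])))) (.node (nat_lit 4) (.leaf ((nat_lit 14), [nat_lit 2, nat_lit 1, nat_lit 5, nat_lit 0, nat_lit 4, nat_lit 0, nat_lit 3], [[nat_lit 99, nat_lit 3, nat_lit 1], [nat_lit 3, nat_lit 1, nat_lit 99, nat_lit 1]])) (.node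 (nat_lit 5) (.leaf ((nat_lit 14), [nat_lit 2, nat_lit 0, nat_lit 5, nat_lit 4, nat_lit 2, nat_lit 1, nat_lit 4, nat_lit 2, nat_lit 0, nat_lit 3, nat_lit 1], [[nat_lit 4, nat_lit 4, nat_lit 99, nat_lit 3], [nat_lit 1, nat_lit 3, nat_lit 99, nat_lit 2]])) (.leaf ((nat_lit 14), [nat_lit 4, nat_lit 0, nat_lit 5, nat_lit 3, nat_lit 2, nat_lit 1, nat_lit 4, nat_lit 3, nat_lit 2], [[nat_lit 99, nat_lit 4], [nat_lit 4, nat_lit 99, nat_lit 4, nat_lit 0]])))))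
 (.node (nat_lit 9) (.node (nat_lit 7) (.leaf ((nat_lit 0), [nat_lit 4, nat_lit 6, nat_lit 4, nat_lit 1], [])) (.node (nat_lit 8) (.leaf ((nat_lit 14), [nat_lit 4, nat_lit 0, nat_lit 5, nat_lit 2, nat_lit 0, nat_lit 4, nat_lit 2, nat_lit 1, nat_lit 3, nat_lit 2, nat_lit 1, nat_lit 0], [[nat_lit 2, nat_lit 99, nat_lit 99, nat_lit 0], [nat_lit 3, nat_lit 99, nat_lit 99]])) (.leaf ((nat_lit 0), [nat_lit 4, nat_lit 3, nat_lit 6, nat_lit 4, nat_lit 3, nat_lit 1], [])))) (.node (nat_lit 10) (.leaf ((nat_lit 14), [nat_lit 2, nat_lit 0, nat_lit 5, nat_lit 2, nat_lit 0, nat_lit 4, nat_lit 2, nat_lit 1, nat_lit 0, nat_lit 3, nat_lit 2], [[nat_lit 99, nat_lit 3, nat_lit 3, nat_lit 0], [nat_lit 1, nat_lit 99, nat_lit 4]])) (.node (nat_lit 11) (.leaf ((nat_lit 0), [nat_lit 4, nat_lit 3, nat_lit 6, nat_lit 3, nat_lit 2, nat_lit 1], [])) (.leaf ((nat_lit 0), [nat_lit 3, nat_lit 6, nat_lit 4, nat_lit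 3, nat_lit 2, nat_lit 0], []))))))
theorem n12s : allR 0 12 (stepChk (nat_lit 4) (nat_lit 15) (MG.gl42L.map Lev.b) MG.gl42T n12T n12mT n12T n12Dd AW [nat_lit 14] n12Ws n12CE) = true := by decide +kernel
theorem s12 {G : Type*} [Group G] [Finite G] {X : Type*} [MulAction G X] {pt : ℕ → X} (C : Ch G 15 (nat_lit 4) (nat_lit 15) pt MG.gl42T MG.gl42L) {H : Subgroup G} (h : PJ C.lets.e AW 12 H) :
    ∃ K : Subgroup G, Nonempty (H ≃* K) ∧ (Q K ∨ ∃ j ∈ [nat_lit 14], PJ C.lets.e AW j K) := by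
  obtain ⟨K, e, hK⟩ := h.conj
  refine ⟨K, e, ?_⟩
  obtain ⟨N, D, S⟩ := (C.gen (lets_words C.lets n12E n12w) n12chain n12sd n12tc)
  have le := C.le_AW D hK n12slp n12a
  obtain ⟨M, E, -⟩ := (C.gen (lets_words C.lets n12mE n12mw) n12mchain n12msd n12mtc)
  have NM := D.le_lets C.base (lets_words E.lets n12xE n12xw)
  obtain ⟨P, F, -⟩ := (C.gen (lets_words C.lets n12pE n12pw) n12pchain n12psd n12ptc)
  have PN := F.le_lets C.base (lets_words D.lets n12yE n12yw)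
  have MP := C.le_nor E F n12r
  have hD := lets_words C.lets n12dE n12dw
  refine (C.step D.lets E.lets D.lets hD le_normalizer NM (C.dbl D.lets hD n12q (by decide +kernel)) (Ws := n12Ws) (fun u hu => ⟨[], List.mem_singleton_self _, u, hu, (one_mul u).symm⟩) (by decide +kernel) n12s le).imp_left fun h => ?_
  exact .inl (QS.of (PN.trans le) (h.trans MP) (p := 2) (j := 2) (by norm_num) (F.card.trans (by decide +kernel)))
noncomputable def n13t0 : ℕ := (nat_lit 0x12cb56879a43de0)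
noncomputable def n13t1 : ℕ := (nat_lit 0x12cba9346578de0)
noncomputable def n13t2 : ℕ := (nat_lit 0x93c2e075b1a486d)
noncomputable def n13t3 : ℕ := (nat_lit 0xa0c64e28173db59)
noncomputable def n13T : Tr ℕ := (.node (nat_lit 2) (.node (nat_lit 1) (.leaf n13t0) (.leaf n13t1)) (.node (nat_lit 3) (.leaf n13t2) (.leaf n13t3)))
noncomputable def n13R : Tr (List ℕ) := (.node (nat_lit 3) (.node (nat_lit 1) (.leaf [nat_lit 0, nat_lit 0]) (.node (nat_lit 2) (.leaf [nat_lit 0, nat_lit 1, nat_lit 3, nat_lit 3, nat_lit 0, nat_lit 2, nat_lit 2]) (.leaf [nat_lit 1, nat_lit 0, nat_lit 1, nat_lit 0])))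
 (.node (nat_lit 5) (.node (nat_lit 4) (.leaf [nat_lit 0, nat_lit 1, nat_lit 2, nat_lit 1, nat_lit 3]) (.leaf [nat_lit 1, nat_lit 1])) (.node (nat_lit 6) (.leaf [nat_lit 2, nat_lit 3]) (.leaf [nat_lit 2, nat_lit 2, nat_lit 2, nat_lit 2, nat_lit 2, nat_lit 2, nat_lit 2]))))
noncomputable def n13L0 : Lev := ⟨(nat_lit 0), (nat_lit 4), (nat_lit 0x30400040303040401030404010300), (nat_lit 0x20100030301030402040302020300),
 (.node (nat_lit 2) (.node (nat_lit 1) (.leaf (nat_lit 0x7000100000006000a0001000500040000000900070002000000080000))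
 (.leaf (nat_lit 0x4000200000005000b0002000300060003000800050004000300030000)))
 (.node (nat_lit 3) (.leaf (nat_lit 0x10000000300000000000100040001000000020001000100000001))
 (.leaf (nat_lit 0x100000000000000030001000000000001000500000000000400010001)))),
 (.node (nat_lit 2) (.node (nat_lit 1) (.leaf (nat_lit 0x100000000000000000300000000000000000201000104000000000300000203000104000000000001000000))
 (.leaf (nat_lit 0x400000301000000000303000202000303000301000400000200000303000301000401000401000303000000)))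
 (.node (nat_lit 3) (.leaf (nat_lit 0x500000000000105000000000000000500000601000500000000000603000500000500000000000500))
 (.leaf (nat_lit 0x501000000000000000000000501000501000000000000000501000501000000000000000501000501000501))))⟩
noncomputable def n13L1 : Lev := ⟨(nat_lit 3), (nat_lit 2), (nat_lit 0x20000000000000000), (nat_lit 0x10000000000000000),
 (.node (nat_lit 1) (.leaf (nat_lit 0x200000000000000000000000000000000))
 (.leaf (nat_lit 0x1000000000000))),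
 (.node (nat_lit 1) (.leaf (nat_lit 0x201000000000000000000000000000000000000000000000000))
 (.leaf (nat_lit 0x401000000000000000000)))⟩
noncomputable def n13L2 : Lev := ⟨(nat_lit 1), (nat_lit 1), (nat_lit 0x10000000000000000000000000000), (nat_lit 0x10000000000000000000000000000),
 (.leaf (nat_lit 0x10000)),
 (.leaf (nat_lit 0x1000000))⟩
noncomputable def n13L : List Lev := [n13L0, n13L1, n13L2]
noncomputable def n13E : Tr (List ℕ) := (.node (nat_lit 2) (.node (nat_lit 1) (.leaf [nat_lit 1, nat_lit 0, nat_lit 5, nat_lit 3, nat_lit 1, nat_lit 0, nat_lit 4, nat_lit 1, nat_lit 0, nat_lit 3, nat_lit 1, nat_lit 0]) (.leaf [nat_lit 1, nat_lit 0, nat_lit 5, nat_lit 2, nat_lit 1, nat_lit 4, nat_lit 0, nat_lit 3, nat_lit 2])) (.node (nat_lit 3) (.leaf [nat_lit 2, nat_lit 5, nat_lit 0, nat_lit 4, nat_lit 3, nat_lit 2, nat_lit 3, nat_lit 1, nat_lit 0]) (.leaf [nat_lit 4, nat_lit 0, nat_lit 5, nat_lit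 4, nat_lit 0, nat_lit 4, nat_lit 3, nat_lit 2, nat_lit 3])))
theorem n13w_0 : n13T.all2 (fun c w => isProd 15 (nat_lit 4) (nat_lit 15) MG.gl42T c w) n13E = true := by decide +kernel
theorem n13w : n13T.all2 (fun c w => isProd 15 (nat_lit 4) (nat_lit 15) MG.gl42T c w) n13E = true := n13w_0
theorem n13lev0 : levChk 15 (nat_lit 4) (nat_lit 15) n13T n13R n13L0 n13L1.N = true := by decide +kernel
theorem n13lev1 : levChk 15 (nat_lit 4) (nat_lit 15) n13T n13R n13L1 n13L2.N = true := by decide +kernel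
theorem n13lev2 : levChk 15 (nat_lit 4) (nat_lit 15) n13T n13R n13L2 0 = true := by decide +kernel
theorem n13chain : Chain 15 (nat_lit 4) (nat_lit 15) n13T n13R n13L := chain_cons n13lev0 <| chain_cons n13lev1 <| chain_one n13lev2
theorem n13sd : band (selChk n13T n13T (topN n13L)) (n13R.all fun w => eqB (MG.gl42L.map Lev.b) (apL (nat_lit 4) (nat_lit 15) n13T w) fun a => a) = true := by decide +kernel
theorem n13tc : tchainChk 15 (nat_lit 4) (nat_lit 15) n13T n13L = true := by decide +kernel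
noncomputable def n13s0 : ℕ := (nat_lit 0x25c7b816309ead4)
noncomputable def n13s1 : ℕ := (nat_lit 0x68c21b750ea439d)
noncomputable def n13s2 : ℕ := (nat_lit 0x31ca249b7d06e85)
noncomputable def n13s3 : ℕ := (nat_lit 0x50c941d8e732ba6)
noncomputable def n13s4 : ℕ := (nat_lit 0x12cba9346578de0)
noncomputable def n13s5 : ℕ := (nat_lit 0x12cb56879a43de0)
noncomputable def n13s6 : ℕ := (nat_lit 0x93c2e075b1a486d)
noncomputable def n13s7 : ℕ := (nat_lit 0xa0c64e28173db59)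
noncomputable def n13S : Tr ℕ := (.node (nat_lit 4) (.node (nat_lit 2) (.node (nat_lit 1) (.leaf n13s0) (.leaf n13s1)) (.node (nat_lit 3) (.leaf n13s2) (.leaf n13s3)))
 (.node (nat_lit 6) (.node (nat_lit 5) (.leaf n13s4) (.leaf n13s5)) (.node (nat_lit 7) (.leaf n13s6) (.leaf n13s7))))
noncomputable def n13D : Tr (List ℕ) := (.node (nat_lit 4) (.node (nat_lit 2) (.node (nat_lit 1) (.leaf []) (.leaf [])) (.node (nat_lit 3) (.leaf [nat_lit 0, nat_lit 0, nat_lit 0, nat_lit 0, nat_lit 0, nat_lit 0]) (.leaf [nat_lit 1, nat_lit 1, nat_lit 1, nat_lit 1, nat_lit 1, nat_lit 1])))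
 (.node (nat_lit 6) (.node (nat_lit 5) (.leaf [nat_lit 2, nat_lit 1, nat_lit 0, nat_lit 3]) (.leaf [nat_lit 0, nat_lit 1, nat_lit 2, nat_lit 3])) (.node (nat_lit 7) (.leaf [nat_lit 1, nat_lit 5]) (.leaf [nat_lit 6, nat_lit 6, nat_lit 6, nat_lit 6, nat_lit 6, nat_lit 6]))))
theorem n13slp : slpChk 15 (nat_lit 4) (nat_lit 15) n13S n13D 2 6 = true := by decide +kernel
theorem n13a : band (selChk n13T n13S (2 + 6)) (allB 2 fun j => anyL (AW.get 13) fun w => isProd 15 (nat_lit 4) (nat_lit 15) MG.gl42T (n13S.get j) w) = true := by decide +kernel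
noncomputable def n13mt0 : ℕ := (nat_lit 0xedcb3456789a210)
noncomputable def n13mt1 : ℕ := (nat_lit 0xedcb6543a987210)
noncomputable def n13mt2 : ℕ := (nat_lit 0xedcb436587a9210)
noncomputable def n13mt3 : ℕ := (nat_lit 0x56cb1287de439a0)
noncomputable def n13mt4 : ℕ := (nat_lit 0x17c6a03db5284e9)
noncomputable def n13mT : Tr ℕ := (.node (nat_lit 2) (.node (nat_lit 1) (.leaf n13mt0) (.leaf n13mt1)) (.node (nat_lit 3) (.leaf n13mt2) (.node (nat_lit 4) (.leaf n13mt3) (.leaf n13mt4))))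
noncomputable def n13mR : Tr (List ℕ) := (.node (nat_lit 8) (.node (nat_lit 4) (.node (nat_lit 2) (.node (nat_lit 1) (.leaf [nat_lit 3, nat_lit 0, nat_lit 3, nat_lit 0, nat_lit 3, nat_lit 0]) (.leaf [nat_lit 0, nat_lit 0])) (.node (nat_lit 3) (.leaf [nat_lit 0, nat_lit 1, nat_lit 0, nat_lit 1]) (.leaf [nat_lit 0, nat_lit 2, nat_lit 0, nat_lit 2])))
 (.node (nat_lit 6) (.node (nat_lit 5) (.leaf [nat_lit 0, nat_lit 3, nat_lit 4, nat_lit 3, nat_lit 4, nat_lit 0, nat_lit 4]) (.leaf [nat_lit 3, nat_lit 1, nat_lit 3, nat_lit 4, nat_lit 3, nat_lit 2, nat_lit 3, nat_lit 4])) (.node (nat_lit 7) (.leaf [nat_lit 1, nat_lit 1]) (.leaf [nat_lit 1, nat_lit 2, nat_lit 1, nat_lit 2]))))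
 (.node (nat_lit 12) (.node (nat_lit 10) (.node (nat_lit 9) (.leaf [nat_lit 3, nat_lit 1, nat_lit 3, nat_lit 1, nat_lit 3, nat_lit 1, nat_lit 3, nat_lit 1]) (.leaf [nat_lit 3, nat_lit 2, nat_lit 3, nat_lit 2, nat_lit 3, nat_lit 2])) (.node (nat_lit 11) (.leaf [nat_lit 2, nat_lit 2]) (.leaf [nat_lit 4, nat_lit 0, nat_lit 3, nat_lit 0, nat_lit 4, nat_lit 0, nat_lit 3, nat_lit 0])))
 (.node (nat_lit 14) (.node (nat_lit 13) (.leaf [nat_lit 3, nat_lit 3]) (.leaf [nat_lit 3, nat_lit 0, nat_lit 1, nat_lit 3, nat_lit 0, nat_lit 1, nat_lit 3, nat_lit 0, nat_lit 1])) (.node (nat_lit 15) (.leaf [nat_lit 4, nat_lit 4]) (.leaf [nat_lit 3, nat_lit 1, nat_lit 2, nat_lit 3, nat_lit 1, nat_lit 2, nat_lit 3, nat_lit 1, nat_lit 2])))))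
noncomputable def n13mL0 : Lev := ⟨(nat_lit 0), (nat_lit 5), (nat_lit 0x40500050305020303020103040400), (nat_lit 0x30400050301030304020202020400),
 (.node (nat_lit 2) (.node (nat_lit 1) (.leaf (nat_lit 0x5000e0000000e00020001000200040005000300000003000300040000))
 (.leaf (nat_lit 0x3000e0000001000020001000000020003000000010003000200070000)))
 (.node (nat_lit 3) (.leaf (nat_lit 0xa000e0000001000000001000100000000000100010000000200030000))
 (.node (nat_lit 4) (.leaf (nat_lit 0xc0000000f000100010004000b000d000100020003000000000000))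
 (.leaf (nat_lit 0x500000000000000060000000700010001000900020008000300040001))))),
 (.node (nat_lit 2) (.node (nat_lit 1) (.leaf (nat_lit 0x1000001000000000405000300000100000202000202000101000101000000000101000005000005000000))
 (.leaf (nat_lit 0x803000803000000000501000702000600000000000700000601000000000601000601000501000501000000)))
 (.node (nat_lit 3) (.leaf (nat_lit 0x505000901000000000505000000000a00000a00000000000000000a01000a01000000000505000905000000))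
 (.node (nat_lit 4) (.leaf (nat_lit 0x502000000000401000c00000c00000d03000904000c01000c01000b02000902000000000000000000))
 (.leaf (nat_lit 0xe00000000000000000000000402000000000406000e01000e01000404000404000e01000e01000503000e01)))))⟩
noncomputable def n13mL1 : Lev := ⟨(nat_lit 1), (nat_lit 4), (nat_lit 0x40400000403030202030301040000), (nat_lit 0x50300000103030302040202040000),
 (.node (nat_lit 2) (.node (nat_lit 1) (.leaf (nat_lit 0x600050000000000010002000400020003000500030000000400000000))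
 (.leaf (nat_lit 0x700020000000000010002000200000000000300030001000600000000)))
 (.node (nat_lit 3) (.leaf (nat_lit 0x500050000000000010000000000010001000000000001000300000000))
 (.leaf (nat_lit 0x1000400040001000100020002000000010000)))),
 (.node (nat_lit 2) (.node (nat_lit 1) (.leaf (nat_lit 0x1000001000000000000000100000302000202000202000101000101000101000000000005000000000000))
 (.leaf (nat_lit 0x803000803000000000000000600000702000700000000000000000601000601000601000d08000000000000)))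
 (.node (nat_lit 3) (.leaf (nat_lit 0x901000901000000000000000a00000000000000000a00000a01000000000000000a01000905000000000000))
 (.leaf (nat_lit 0xc00000f03000d03000c01000c01000902000002000000000c01000000))))⟩
noncomputable def n13mL2 : Lev := ⟨(nat_lit 3), (nat_lit 3), (nat_lit 0x103030202030300000000), (nat_lit 0x101030102020200000000),
 (.node (nat_lit 1) (.leaf (nat_lit 0x2000400020003000500030001000000000000))
 (.node (nat_lit 2) (.leaf (nat_lit 0x10002000200000000000300030001000000000000))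
 (.leaf (nat_lit 0x10000000000010001000000000001000000000000)))),
 (.node (nat_lit 1) (.leaf (nat_lit 0x302000202000202000101000101000101000101000000000000000000))
 (.node (nat_lit 2) (.leaf (nat_lit 0x600000702000700000000000000000601000601000601000000000000000000))
 (.leaf (nat_lit 0xa00000000000000000a00000a01000000000000000a01000000000000000000))))⟩
noncomputable def n13mL : List Lev := [n13mL0, n13mL1, n13mL2]
noncomputable def n13mE : Tr (List ℕ) := (.node (nat_lit 2) (.node (nat_lit 1) (.leaf [nat_lit 2, nat_lit 1, nat_lit 4, nat_lit 0, nat_lit 3, nat_lit 2, nat_lit 1, nat_lit 0]) (.leaf [nat_lit 3, nat_lit 1, nat_lit 0, nat_lit 4, nat_lit 1, nat_lit 0, nat_lit 3])) (.node (nat_lit 3) (.leaf [nat_lit 3, nat_lit 1, nat_lit 4, nat_lit 1, nat_lit 3]) (.node (nat_lit 4) (.leaf [nat_lit 2, nat_lit 1, nat_lit 5, nat_lit 3, nat_lit 1, nat_lit 0, nat_lit 4, nat_lit 1, nat_lit 0, nat_lit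 3, nat_lit 2, nat_lit 1]) (.leaf [nat_lit 1, nat_lit 0, nat_lit 5, nat_lit 2, nat_lit 1, nat_lit 4, nat_lit 2, nat_lit 1, nat_lit 0, nat_lit 3, nat_lit 2]))))
theorem n13mw_0 : n13mT.all2 (fun c w => isProd 15 (nat_lit 4) (nat_lit 15) MG.gl42T c w) n13mE = true := by decide +kernel
theorem n13mw : n13mT.all2 (fun c w => isProd 15 (nat_lit 4) (nat_lit 15) MG.gl42T c w) n13mE = true := n13mw_0
theorem n13mlev0 : levChk 15 (nat_lit 4) (nat_lit 15) n13mT n13mR n13mL0 n13mL1.N = true := by decide +kernel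
theorem n13mlev1 : levChk 15 (nat_lit 4) (nat_lit 15) n13mT n13mR n13mL1 n13mL2.N = true := by decide +kernel
theorem n13mlev2 : levChk 15 (nat_lit 4) (nat_lit 15) n13mT n13mR n13mL2 0 = true := by decide +kernel
theorem n13mchain : Chain 15 (nat_lit 4) (nat_lit 15) n13mT n13mR n13mL := chain_cons n13mlev0 <| chain_cons n13mlev1 <| chain_one n13mlev2
theorem n13msd : band (selChk n13mT n13mT (topN n13mL)) (n13mR.all fun w => eqB (MG.gl42L.map Lev.b) (apL (nat_lit 4) (nat_lit 15) n13mT w) fun a => a) = true := by decide +kernel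
theorem n13mtc : tchainChk 15 (nat_lit 4) (nat_lit 15) n13mT n13mL = true := by decide +kernel
noncomputable def n13xE : Tr (List ℕ) := (.node (nat_lit 2) (.node (nat_lit 1) (.leaf [nat_lit 3, nat_lit 2, nat_lit 1, nat_lit 0, nat_lit 3, nat_lit 2, nat_lit 1, nat_lit 0]) (.leaf [nat_lit 3, nat_lit 2, nat_lit 1, nat_lit 0, nat_lit 3])) (.node (nat_lit 3) (.leaf [nat_lit 4, nat_lit 2, nat_lit 1, nat_lit 4, nat_lit 1, nat_lit 3, nat_lit 2, nat_lit 1, nat_lit 0]) (.leaf [nat_lit 4, nat_lit 2, nat_lit 1, nat_lit 0, nat_lit 3, nat_lit 2, nat_lit 0])))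
theorem n13xw_0 : n13T.all2 (fun c w => isProd 15 (nat_lit 4) (nat_lit 15) n13mT c w) n13xE = true := by decide +kernel
theorem n13xw : n13T.all2 (fun c w => isProd 15 (nat_lit 4) (nat_lit 15) n13mT c w) n13xE = true := n13xw_0
noncomputable def n13pt0 : ℕ := (nat_lit 0x12cb56879a43de0)
noncomputable def n13pt1 : ℕ := (nat_lit 0xedcb56349a78210)
noncomputable def n13pt2 : ℕ := (nat_lit 0xe2c0a6849573d1b)
noncomputable def n13pT : Tr ℕ := (.node (nat_lit 1) (.leaf n13pt0) (.node (nat_lit 2) (.leaf n13pt1) (.leaf n13pt2)))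
noncomputable def n13pR : Tr (List ℕ) := (.node (nat_lit 3) (.node (nat_lit 1) (.leaf [nat_lit 2, nat_lit 0, nat_lit 2, nat_lit 0]) (.node (nat_lit 2) (.leaf [nat_lit 2, nat_lit 1, nat_lit 2, nat_lit 1]) (.leaf [nat_lit 2, nat_lit 2]))) (.node (nat_lit 4) (.leaf [nat_lit 1, nat_lit 0, nat_lit 1, nat_lit 0]) (.node (nat_lit 5) (.leaf [nat_lit 1, nat_lit 1]) (.leaf [nat_lit 0, nat_lit 0]))))
noncomputable def n13pL0 : Lev := ⟨(nat_lit 0), (nat_lit 3), (nat_lit 0x30000000000000000000000), (nat_lit 0x10000000000000000000000),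
 (.node (nat_lit 1) (.leaf (nat_lit 0x200000000000000000000000000000000000000000000))
 (.node (nat_lit 2) (.leaf (nat_lit 0x200000000000000000000000000000000000000000000))
 (.leaf (nat_lit 0x1)))),
 (.node (nat_lit 1) (.leaf (nat_lit 0x1000000000000000000000000000000000000000000000000000000000000000000))
 (.node (nat_lit 2) (.leaf (nat_lit 0x101000000000000000000000000000000000000000000000000000000000000000000))
 (.leaf (nat_lit 0x201))))⟩
noncomputable def n13pL1 : Lev := ⟨(nat_lit 3), (nat_lit 2), (nat_lit 0x20000000000000000), (nat_lit 0x10000000000000000),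
 (.node (nat_lit 1) (.leaf (nat_lit 0x200000000000000000000000000000000))
 (.leaf (nat_lit 0x1000000000000))),
 (.node (nat_lit 1) (.leaf (nat_lit 0x301000000000000000000000000000000000000000000000000))
 (.leaf (nat_lit 0x401000000000000000000)))⟩
noncomputable def n13pL2 : Lev := ⟨(nat_lit 1), (nat_lit 1), (nat_lit 0x10000000000000000000000000000), (nat_lit 0x10000000000000000000000000000),
 (.leaf (nat_lit 0x10000)),
 (.leaf (nat_lit 0x501000000))⟩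
noncomputable def n13pL : List Lev := [n13pL0, n13pL1, n13pL2]
noncomputable def n13pE : Tr (List ℕ) := (.node (nat_lit 1) (.leaf [nat_lit 1, nat_lit 0, nat_lit 5, nat_lit 3, nat_lit 1, nat_lit 0, nat_lit 4, nat_lit 1, nat_lit 0, nat_lit 3, nat_lit 1, nat_lit 0]) (.node (nat_lit 2) (.leaf [nat_lit 2, nat_lit 1, nat_lit 0, nat_lit 4, nat_lit 0, nat_lit 3, nat_lit 2, nat_lit 1]) (.leaf [nat_lit 2, nat_lit 1, nat_lit 3, nat_lit 2, nat_lit 1])))
theorem n13pw_0 : n13pT.all2 (fun c w => isProd 15 (nat_lit 4) (nat_lit 15) MG.gl42T c w) n13pE = true := by decide +kernel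
theorem n13pw : n13pT.all2 (fun c w => isProd 15 (nat_lit 4) (nat_lit 15) MG.gl42T c w) n13pE = true := n13pw_0
theorem n13plev0 : levChk 15 (nat_lit 4) (nat_lit 15) n13pT n13pR n13pL0 n13pL1.N = true := by decide +kernel
theorem n13plev1 : levChk 15 (nat_lit 4) (nat_lit 15) n13pT n13pR n13pL1 n13pL2.N = true := by decide +kernel
theorem n13plev2 : levChk 15 (nat_lit 4) (nat_lit 15) n13pT n13pR n13pL2 0 = true := by decide +kernel
theorem n13pchain : Chain 15 (nat_lit 4) (nat_lit 15) n13pT n13pR n13pL := chain_cons n13plev0 <| chain_cons n13plev1 <| chain_one n13plev2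
theorem n13psd : band (selChk n13pT n13pT (topN n13pL)) (n13pR.all fun w => eqB (MG.gl42L.map Lev.b) (apL (nat_lit 4) (nat_lit 15) n13pT w) fun a => a) = true := by decide +kernel
theorem n13ptc : tchainChk 15 (nat_lit 4) (nat_lit 15) n13pT n13pL = true := by decide +kernel
noncomputable def n13yE : Tr (List ℕ) := (.node (nat_lit 1) (.leaf [nat_lit 0]) (.node (nat_lit 2) (.leaf [nat_lit 1, nat_lit 0]) (.leaf [nat_lit 2, nat_lit 0, nat_lit 3, nat_lit 1])))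
theorem n13yw_0 : n13pT.all2 (fun c w => isProd 15 (nat_lit 4) (nat_lit 15) n13T c w) n13yE = true := by decide +kernel
theorem n13yw : n13pT.all2 (fun c w => isProd 15 (nat_lit 4) (nat_lit 15) n13T c w) n13yE = true := n13yw_0
noncomputable def n13rW : Tr (List ℕ) := (.node (nat_lit 7) (.node (nat_lit 3) (.node (nat_lit 1) (.leaf [nat_lit 1, nat_lit 0]) (.node (nat_lit 2) (.leaf [nat_lit 1]) (.leaf [nat_lit 2])))
 (.node (nat_lit 5) (.node (nat_lit 4) (.leaf [nat_lit 0]) (.leaf [nat_lit 1])) (.node (nat_lit 6) (.leaf [nat_lit 2, nat_lit 1]) (.leaf [nat_lit 1, nat_lit 0]))))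
 (.node (nat_lit 11) (.node (nat_lit 9) (.node (nat_lit 8) (.leaf [nat_lit 1]) (.leaf [nat_lit 2, nat_lit 1])) (.node (nat_lit 10) (.leaf [nat_lit 0]) (.leaf [nat_lit 1, nat_lit 0])))
 (.node (nat_lit 13) (.node (nat_lit 12) (.leaf [nat_lit 2]) (.leaf [nat_lit 2, nat_lit 0])) (.node (nat_lit 14) (.leaf [nat_lit 2, nat_lit 1]) (.leaf [nat_lit 2])))))
theorem n13r : nrmChk (nat_lit 4) (nat_lit 15) (MG.gl42L.map Lev.b) n13mT n13pT (topN n13mL) (topN n13pL) n13rW = true := by decide +kernel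
noncomputable def n13Dd : Tr ℕ := (.node (nat_lit 6) (.node (nat_lit 3) (.node (nat_lit 1) (.leaf (nat_lit 0xedcba9876543210)) (.node (nat_lit 2) (.leaf (nat_lit 0xcdeb89a74563012)) (.leaf (nat_lit 0xeac8d9b76240513)))) (.node (nat_lit 4) (.leaf (nat_lit 0xecdb6453a897201)) (.node (nat_lit 5) (.leaf (nat_lit 0x987adcbe4563012)) (.leaf (nat_lit 0x280a6c4eb5d3719)))))
 (.node (nat_lit 9) (.node (nat_lit 7) (.leaf (nat_lit 0xbad8c9e73250416)) (.node (nat_lit 8) (.leaf (nat_lit 0x3546bdcea897201)) (.leaf (nat_lit 0xe8cab9d76042315)))) (.node (nat_lit 10) (.leaf (nat_lit 0xe4c6a082b5d3719)) (.node (nat_lit 11) (.leaf (nat_lit 0xe4c6d3b582a0719)) (.leaf (nat_lit 0xeac84062b7d9513))))))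
noncomputable def n13dE : Tr (List ℕ) := (.node (nat_lit 6) (.node (nat_lit 3) (.node (nat_lit 1) (.leaf []) (.node (nat_lit 2) (.leaf [nat_lit 0]) (.leaf [nat_lit 4]))) (.node (nat_lit 4) (.leaf [nat_lit 5]) (.node (nat_lit 5) (.leaf [nat_lit 3, nat_lit 0]) (.leaf [nat_lit 3, nat_lit 1]))))
 (.node (nat_lit 9) (.node (nat_lit 7) (.leaf [nat_lit 4, nat_lit 2]) (.node (nat_lit 8) (.leaf [nat_lit 5, nat_lit 3]) (.leaf [nat_lit 0, nat_lit 4, nat_lit 0]))) (.node (nat_lit 10) (.leaf [nat_lit 1, nat_lit 3, nat_lit 1]) (.node (nat_lit 11) (.leaf [nat_lit 4, nat_lit 1, nat_lit 3, nat_lit 1]) (.leaf [nat_lit 3, nat_lit 1, nat_lit 4, nat_lit 3])))))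
theorem n13dw_0 : n13Dd.all2 (fun c w => isProd 15 (nat_lit 4) (nat_lit 15) MG.gl42T c w) n13dE = true := by decide +kernel
theorem n13dw : n13Dd.all2 (fun c w => isProd 15 (nat_lit 4) (nat_lit 15) MG.gl42T c w) n13dE = true := n13dw_0
noncomputable def n13PA_0 : Tr (ℕ × List ℕ) := (.node (nat_lit 90) (.node (nat_lit 45) (.node (nat_lit 22) (.node (nat_lit 11) (.node (nat_lit 5) (.node (nat_lit 2) (.node (nat_lit 1) (.leaf ((nat_lit 0), [])) (.leaf ((nat_lit 1), []))) (.node (nat_lit 3) (.leaf ((nat_lit 1), [nat_lit 2, nat_lit 1, nat_lit 2])) (.node (nat_lit 4) (.leaf ((nat_lit 1), [nat_lit 0, nat_lit 3, nat_lit 1])) (.leaf ((nat_lit 1), [nat_lit 2])))))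
 (.node (nat_lit 8) (.node (nat_lit 6) (.leaf ((nat_lit 2), [])) (.node (nat_lit 7) (.leaf ((nat_lit 3), [])) (.leaf ((nat_lit 1), [nat_lit 2, nat_lit 2, nat_lit 2, nat_lit 1])))) (.node (nat_lit 9) (.leaf ((nat_lit 1), [nat_lit 3, nat_lit 3, nat_lit 3, nat_lit 0])) (.node (nat_lit 10) (.leaf ((nat_lit 4), [])) (.leaf ((nat_lit 4), [nat_lit 1, nat_lit 2, nat_lit 2]))))))
 (.node (nat_lit 16) (.node (nat_lit 13) (.node (nat_lit 12) (.leaf ((nat_lit 4), [nat_lit 0, nat_lit 2, nat_lit 2])) (.leaf ((nat_lit 1), [nat_lit 1, nat_lit 2, nat_lit 0]))) (.node (nat_lit 14) (.leaf ((nat_lit 5), [])) (.node (nat_lit 15) (.leaf ((nat_lit 3), [nat_lit 0, nat_lit 2])) (.leaf ((nat_lit 4), [nat_lit 2, nat_lit 2])))))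
 (.node (nat_lit 19) (.node (nat_lit 17) (.leaf ((nat_lit 5), [nat_lit 3, nat_lit 0, nat_lit 2, nat_lit 0])) (.node (nat_lit 18) (.leaf ((nat_lit 6), [])) (.leaf ((nat_lit 5), [nat_lit 1, nat_lit 0, nat_lit 3])))) (.node (nat_lit 20) (.leaf ((nat_lit 4), [nat_lit 2, nat_lit 2, nat_lit 0, nat_lit 2])) (.node (nat_lit 21) (.leaf ((nat_lit 5), [nat_lit 3, nat_lit 1])) (.leaf ((nat_lit 3), [nat_lit 3, nat_lit 1, nat_lit 3])))))))
 (.node (nat_lit 33) (.node (nat_lit 27) (.node (nat_lit 24) (.node (nat_lit 23) (.leaf ((nat_lit 7), [])) (.leaf ((nat_lit 4), [nat_lit 2, nat_lit 2, nat_lit 1]))) (.node (nat_lit 25) (.leaf ((nat_lit 3), [nat_lit 3])) (.node (nat_lit 26) (.leaf ((nat_lit 7), [nat_lit 2, nat_lit 0])) (.leaf ((nat_lit 5), [nat_lit 2, nat_lit 1])))))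
 (.node (nat_lit 30) (.node (nat_lit 28) (.leaf ((nat_lit 4), [nat_lit 1, nat_lit 3, nat_lit 3])) (.node (nat_lit 29) (.leaf ((nat_lit 5), [nat_lit 2, nat_lit 1, nat_lit 0])) (.leaf ((nat_lit 6), [nat_lit 1, nat_lit 2])))) (.node (nat_lit 31) (.leaf ((nat_lit 5), [nat_lit 3, nat_lit 3, nat_lit 1, nat_lit 3])) (.node (nat_lit 32) (.leaf ((nat_lit 1), [nat_lit 3, nat_lit 1, nat_lit 3])) (.leaf ((nat_lit 3), [nat_lit 3, nat_lit 1, nat_lit 2]))))))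
 (.node (nat_lit 39) (.node (nat_lit 36) (.node (nat_lit 34) (.leaf ((nat_lit 7), [nat_lit 0, nat_lit 2])) (.node (nat_lit 35) (.leaf ((nat_lit 3), [nat_lit 0])) (.leaf ((nat_lit 3), [nat_lit 1, nat_lit 0])))) (.node (nat_lit 37) (.leaf ((nat_lit 3), [nat_lit 3, nat_lit 1])) (.node (nat_lit 38) (.leaf ((nat_lit 6), [nat_lit 2, nat_lit 2, nat_lit 2, nat_lit 1])) (.leaf ((nat_lit 1), [nat_lit 3, nat_lit 3, nat_lit 0])))))
 (.node (nat_lit 42) (.node (nat_lit 40) (.leaf ((nat_lit 6), [nat_lit 1, nat_lit 2, nat_lit 2])) (.node (nat_lit 41) (.leaf ((nat_lit 7), [nat_lit 1, nat_lit 0])) (.leaf ((nat_lit 4), [nat_lit 3, nat_lit 1, nat_lit 2])))) (.node (nat_lit 43) (.leaf ((nat_lit 4), [nat_lit 3, nat_lit 1])) (.node (nat_lit 44) (.leaf ((nat_lit 8), [])) (.leaf ((nat_lit 7), [nat_lit 1, nat_lit 3, nat_lit 3]))))))))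
 (.node (nat_lit 67) (.node (nat_lit 56) (.node (nat_lit 50) (.node (nat_lit 47) (.node (nat_lit 46) (.leaf ((nat_lit 5), [nat_lit 3, nat_lit 3])) (.leaf ((nat_lit 8), [nat_lit 2]))) (.node (nat_lit 48) (.leaf ((nat_lit 4), [nat_lit 3, nat_lit 3, nat_lit 0])) (.node (nat_lit 49) (.leaf ((nat_lit 7), [nat_lit 3, nat_lit 1])) (.leaf ((nat_lit 1), [nat_lit 3, nat_lit 3, nat_lit 1])))))
 (.node (nat_lit 53) (.node (nat_lit 51) (.leaf ((nat_lit 1), [nat_lit 3, nat_lit 0, nat_lit 2, nat_lit 0])) (.node (nat_lit 52) (.leaf ((nat_lit 3), [nat_lit 3, nat_lit 3, nat_lit 1])) (.leaf ((nat_lit 6), [nat_lit 2, nat_lit 2, nat_lit 2])))) (.node (nat_lit 54) (.leaf ((nat_lit 7), [nat_lit 3, nat_lit 1, nat_lit 3])) (.node (nat_lit 55) (.leaf ((nat_lit 9), [])) (.leaf ((nat_lit 6), [nat_lit 1, nat_lit 2, nat_lit 0]))))))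
 (.node (nat_lit 61) (.node (nat_lit 58) (.node (nat_lit 57) (.leaf ((nat_lit 5), [nat_lit 3, nat_lit 0, nat_lit 3, nat_lit 0])) (.leaf ((nat_lit 6), [nat_lit 2, nat_lit 1, nat_lit 0]))) (.node (nat_lit 59) (.leaf ((nat_lit 1), [nat_lit 3, nat_lit 0, nat_lit 3, nat_lit 3])) (.node (nat_lit 60) (.leaf ((nat_lit 1), [nat_lit 3, nat_lit 0, nat_lit 3])) (.leaf ((nat_lit 5), [nat_lit 1, nat_lit 3, nat_lit 3])))))
 (.node (nat_lit 64) (.node (nat_lit 62) (.leaf ((nat_lit 1), [nat_lit 2, nat_lit 0, nat_lit 3])) (.node (nat_lit 63) (.leaf ((nat_lit 5), [nat_lit 0, nat_lit 3, nat_lit 3])) (.leaf ((nat_lit 1), [nat_lit 3, nat_lit 0, nat_lit 2])))) (.node (nat_lit 65) (.leaf ((nat_lit 6), [nat_lit 0, nat_lit 3, nat_lit 1])) (.node (nat_lit 66) (.leaf ((nat_lit 1), [nat_lit 2, nat_lit 1, nat_lit 2, nat_lit 0])) (.leaf ((nat_lit 6), [nat_lit 0, nat_lit 2, nat_lit 0])))))))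
 (.node (nat_lit 78) (.node (nat_lit 72) (.node (nat_lit 69) (.node (nat_lit 68) (.leaf ((nat_lit 4), [nat_lit 3, nat_lit 3, nat_lit 3])) (.leaf ((nat_lit 7), [nat_lit 3, nat_lit 0, nat_lit 3]))) (.node (nat_lit 70) (.leaf ((nat_lit 1), [nat_lit 2, nat_lit 0, nat_lit 2, nat_lit 2])) (.node (nat_lit 71) (.leaf ((nat_lit 9), [nat_lit 3])) (.leaf ((nat_lit 6), [nat_lit 2, nat_lit 0, nat_lit 2])))))
 (.node (nat_lit 75) (.node (nat_lit 73) (.leaf ((nat_lit 1), [nat_lit 1, nat_lit 3])) (.node (nat_lit 74) (.leaf ((nat_lit 6), [nat_lit 0, nat_lit 3, nat_lit 3])) (.leaf ((nat_lit 3), [nat_lit 1, nat_lit 3, nat_lit 3])))) (.node (nat_lit 76) (.leaf ((nat_lit 8), [nat_lit 3])) (.node (nat_lit 77) (.leaf ((nat_lit 7), [nat_lit 2, nat_lit 2, nat_lit 2, nat_lit 0])) (.leaf ((nat_lit 4), [nat_lit 3, nat_lit 0, nat_lit 2, nat_lit 0]))))))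
 (.node (nat_lit 84) (.node (nat_lit 81) (.node (nat_lit 79) (.leaf ((nat_lit 6), [nat_lit 1, nat_lit 3, nat_lit 3])) (.node (nat_lit 80) (.leaf ((nat_lit 4), [nat_lit 3, nat_lit 0, nat_lit 2])) (.leaf ((nat_lit 4), [nat_lit 2, nat_lit 1, nat_lit 2, nat_lit 2])))) (.node (nat_lit 82) (.leaf ((nat_lit 7), [nat_lit 1, nat_lit 2, nat_lit 2, nat_lit 2])) (.node (nat_lit 83) (.leaf ((nat_lit 5), [nat_lit 2, nat_lit 2, nat_lit 2, nat_lit 0])) (.leaf ((nat_lit 1), [nat_lit 2, nat_lit 0])))))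
 (.node (nat_lit 87) (.node (nat_lit 85) (.leaf ((nat_lit 5), [nat_lit 2, nat_lit 1, nat_lit 2])) (.node (nat_lit 86) (.leaf ((nat_lit 5), [nat_lit 1, nat_lit 2])) (.leaf ((nat_lit 4), [nat_lit 1])))) (.node (nat_lit 88) (.leaf ((nat_lit 6), [nat_lit 3, nat_lit 1, nat_lit 2])) (.node (nat_lit 89) (.leaf ((nat_lit 3), [nat_lit 2, nat_lit 0])) (.leaf ((nat_lit 6), [nat_lit 2, nat_lit 1, nat_lit 2])))))))))
 (.node (nat_lit 135) (.node (nat_lit 112) (.node (nat_lit 101) (.node (nat_lit 95) (.node (nat_lit 92) (.node (nat_lit 91) (.leaf ((nat_lit 1), [nat_lit 3, nat_lit 1, nat_lit 2])) (.leaf ((nat_lit 3), [nat_lit 3, nat_lit 1, nat_lit 3, nat_lit 3]))) (.node (nat_lit 93) (.leaf ((nat_lit 3), [nat_lit 3, nat_lit 3, nat_lit 0])) (.node (nat_lit 94) (.leaf ((nat_lit 7), [nat_lit 3, nat_lit 3, nat_lit 3])) (.leaf ((nat_lit 3), [nat_lit 3, nat_lit 3, nat_lit 3, nat_lit 1])))))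
 (.node (nat_lit 98) (.node (nat_lit 96) (.leaf ((nat_lit 7), [nat_lit 3, nat_lit 3, nat_lit 1, nat_lit 3])) (.node (nat_lit 97) (.leaf ((nat_lit 4), [nat_lit 2, nat_lit 2, nat_lit 2])) (.leaf ((nat_lit 6), [nat_lit 2, nat_lit 1])))) (.node (nat_lit 99) (.leaf ((nat_lit 4), [nat_lit 2, nat_lit 1])) (.node (nat_lit 100) (.leaf ((nat_lit 7), [nat_lit 3, nat_lit 0, nat_lit 3, nat_lit 0])) (.leaf ((nat_lit 4), [nat_lit 3]))))))
 (.node (nat_lit 106) (.node (nat_lit 103) (.node (nat_lit 102) (.leaf ((nat_lit 3), [nat_lit 1, nat_lit 2, nat_lit 2, nat_lit 2])) (.leaf ((nat_lit 2), [nat_lit 3, nat_lit 3, nat_lit 3]))) (.node (nat_lit 104) (.leaf ((nat_lit 4), [nat_lit 0, nat_lit 3, nat_lit 0])) (.node (nat_lit 105) (.leaf ((nat_lit 4), [nat_lit 2, nat_lit 1, nat_lit 0])) (.leaf ((nat_lit 9), [nat_lit 3, nat_lit 3])))))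
 (.node (nat_lit 109) (.node (nat_lit 107) (.leaf ((nat_lit 5), [nat_lit 2, nat_lit 0, nat_lit 3])) (.node (nat_lit 108) (.leaf ((nat_lit 1), [nat_lit 0, nat_lit 3])) (.leaf ((nat_lit 9), [nat_lit 2, nat_lit 2])))) (.node (nat_lit 110) (.leaf ((nat_lit 1), [nat_lit 0, nat_lit 2])) (.node (nat_lit 111) (.leaf ((nat_lit 5), [nat_lit 1, nat_lit 3])) (.leaf ((nat_lit 6), [nat_lit 1, nat_lit 3])))))))
 (.node (nat_lit 123) (.node (nat_lit 117) (.node (nat_lit 114) (.node (nat_lit 113) (.leaf ((nat_lit 3), [nat_lit 3, nat_lit 3, nat_lit 1, nat_lit 3])) (.leaf ((nat_lit 7), [nat_lit 3, nat_lit 1, nat_lit 2]))) (.node (nat_lit 115) (.leaf ((nat_lit 5), [nat_lit 3, nat_lit 3, nat_lit 0, nat_lit 3])) (.node (nat_lit 116) (.leaf ((nat_lit 1), [nat_lit 2, nat_lit 2, nat_lit 0, nat_lit 2])) (.leaf ((nat_lit 4), [nat_lit 1, nat_lit 2, nat_lit 0])))))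
 (.node (nat_lit 120) (.node (nat_lit 118) (.leaf ((nat_lit 6), [nat_lit 2, nat_lit 2, nat_lit 2, nat_lit 0])) (.node (nat_lit 119) (.leaf ((nat_lit 1), [nat_lit 2, nat_lit 2])) (.leaf ((nat_lit 5), [nat_lit 3, nat_lit 3, nat_lit 0])))) (.node (nat_lit 121) (.leaf ((nat_lit 5), [nat_lit 2, nat_lit 2, nat_lit 2, nat_lit 1])) (.node (nat_lit 122) (.leaf ((nat_lit 5), [nat_lit 3, nat_lit 0, nat_lit 3, nat_lit 3])) (.leaf ((nat_lit 7), [nat_lit 3, nat_lit 3, nat_lit 0]))))))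
 (.node (nat_lit 129) (.node (nat_lit 126) (.node (nat_lit 124) (.leaf ((nat_lit 6), [nat_lit 3, nat_lit 0, nat_lit 2])) (.node (nat_lit 125) (.leaf ((nat_lit 5), [nat_lit 3, nat_lit 3, nat_lit 3])) (.leaf ((nat_lit 8), [nat_lit 2, nat_lit 2])))) (.node (nat_lit 127) (.leaf ((nat_lit 4), [nat_lit 3, nat_lit 3, nat_lit 0, nat_lit 3])) (.node (nat_lit 128) (.leaf ((nat_lit 7), [nat_lit 3, nat_lit 3, nat_lit 3, nat_lit 1])) (.leaf ((nat_lit 5), [nat_lit 3, nat_lit 1, nat_lit 3, nat_lit 3])))))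
 (.node (nat_lit 132) (.node (nat_lit 130) (.leaf ((nat_lit 1), [nat_lit 1, nat_lit 0, nat_lit 3])) (.node (nat_lit 131) (.leaf ((nat_lit 3), [nat_lit 2, nat_lit 1, nat_lit 2, nat_lit 2])) (.leaf ((nat_lit 7), [nat_lit 3, nat_lit 3, nat_lit 1])))) (.node (nat_lit 133) (.leaf ((nat_lit 1), [nat_lit 0, nat_lit 3, nat_lit 3, nat_lit 3])) (.node (nat_lit 134) (.leaf ((nat_lit 6), [nat_lit 2, nat_lit 2, nat_lit 1])) (.leaf ((nat_lit 1), [nat_lit 3, nat_lit 3, nat_lit 3]))))))))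
 (.node (nat_lit 157) (.node (nat_lit 146) (.node (nat_lit 140) (.node (nat_lit 137) (.node (nat_lit 136) (.leaf ((nat_lit 3), [nat_lit 3, nat_lit 3, nat_lit 3])) (.leaf ((nat_lit 7), [nat_lit 3, nat_lit 0, nat_lit 2, nat_lit 0]))) (.node (nat_lit 138) (.leaf ((nat_lit 4), [nat_lit 0, nat_lit 3, nat_lit 1])) (.node (nat_lit 139) (.leaf ((nat_lit 5), [nat_lit 2, nat_lit 1, nat_lit 2, nat_lit 2])) (.leaf ((nat_lit 1), [nat_lit 1, nat_lit 3, nat_lit 3])))))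
 (.node (nat_lit 143) (.node (nat_lit 141) (.leaf ((nat_lit 3), [nat_lit 2, nat_lit 2, nat_lit 0])) (.node (nat_lit 142) (.leaf ((nat_lit 1), [nat_lit 3, nat_lit 3, nat_lit 1, nat_lit 3])) (.leaf ((nat_lit 7), [nat_lit 3])))) (.node (nat_lit 144) (.leaf ((nat_lit 5), [nat_lit 2, nat_lit 2, nat_lit 1])) (.node (nat_lit 145) (.leaf ((nat_lit 5), [nat_lit 2, nat_lit 2, nat_lit 0])) (.leaf ((nat_lit 7), [nat_lit 0, nat_lit 3, nat_lit 3, nat_lit 3]))))))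
 (.node (nat_lit 151) (.node (nat_lit 148) (.node (nat_lit 147) (.leaf ((nat_lit 4), [nat_lit 3, nat_lit 3, nat_lit 1, nat_lit 3])) (.leaf ((nat_lit 1), [nat_lit 0, nat_lit 2, nat_lit 0]))) (.node (nat_lit 149) (.leaf ((nat_lit 9), [nat_lit 2])) (.node (nat_lit 150) (.leaf ((nat_lit 4), [nat_lit 0, nat_lit 3, nat_lit 3])) (.leaf ((nat_lit 3), [nat_lit 3, nat_lit 0, nat_lit 2, nat_lit 0])))))
 (.node (nat_lit 154) (.node (nat_lit 152) (.leaf ((nat_lit 4), [nat_lit 3, nat_lit 3])) (.node (nat_lit 153) (.leaf ((nat_lit 1), [nat_lit 1, nat_lit 2, nat_lit 2, nat_lit 2])) (.leaf ((nat_lit 4), [nat_lit 0, nat_lit 3])))) (.node (nat_lit 155) (.leaf ((nat_lit 7), [nat_lit 2, nat_lit 2])) (.node (nat_lit 156) (.leaf ((nat_lit 1), [nat_lit 0, nat_lit 2, nat_lit 2])) (.leaf ((nat_lit 5), [nat_lit 3, nat_lit 3, nat_lit 3, nat_lit 1])))))))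
 (.node (nat_lit 168) (.node (nat_lit 162) (.node (nat_lit 159) (.node (nat_lit 158) (.leaf ((nat_lit 2), [nat_lit 2, nat_lit 2])) (.leaf ((nat_lit 7), [nat_lit 3, nat_lit 3]))) (.node (nat_lit 160) (.leaf ((nat_lit 6), [nat_lit 2, nat_lit 1, nat_lit 2, nat_lit 0])) (.node (nat_lit 161) (.leaf ((nat_lit 7), [nat_lit 0, nat_lit 3, nat_lit 3])) (.leaf ((nat_lit 4), [nat_lit 3, nat_lit 3, nat_lit 3, nat_lit 0])))))
 (.node (nat_lit 165) (.node (nat_lit 163) (.leaf ((nat_lit 5), [nat_lit 0, nat_lit 3, nat_lit 3, nat_lit 3])) (.node (nat_lit 164) (.leaf ((nat_lit 5), [nat_lit 1, nat_lit 2, nat_lit 2, nat_lit 2])) (.leaf ((nat_lit 7), [nat_lit 3, nat_lit 0, nat_lit 2])))) (.node (nat_lit 166) (.leaf ((nat_lit 7), [nat_lit 0, nat_lit 3])) (.node (nat_lit 167) (.leaf ((nat_lit 6), [nat_lit 0])) (.leaf ((nat_lit 5), [nat_lit 1, nat_lit 2, nat_lit 2]))))))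
 (.node (nat_lit 174) (.node (nat_lit 171) (.node (nat_lit 169) (.leaf ((nat_lit 3), [nat_lit 3, nat_lit 3, nat_lit 0, nat_lit 3])) (.node (nat_lit 170) (.leaf ((nat_lit 5), [nat_lit 2, nat_lit 2, nat_lit 2])) (.leaf ((nat_lit 5), [nat_lit 0])))) (.node (nat_lit 172) (.leaf ((nat_lit 7), [nat_lit 0, nat_lit 3, nat_lit 1])) (.node (nat_lit 173) (.leaf ((nat_lit 7), [nat_lit 3, nat_lit 1, nat_lit 3, nat_lit 3])) (.leaf ((nat_lit 6), [nat_lit 2, nat_lit 2, nat_lit 1, nat_lit 2])))))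
 (.node (nat_lit 177) (.node (nat_lit 175) (.leaf ((nat_lit 4), [nat_lit 3, nat_lit 0, nat_lit 3, nat_lit 0])) (.node (nat_lit 176) (.leaf ((nat_lit 10), [])) (.leaf ((nat_lit 4), [nat_lit 3, nat_lit 1, nat_lit 3])))) (.node (nat_lit 178) (.leaf ((nat_lit 5), [nat_lit 0, nat_lit 2, nat_lit 2])) (.node (nat_lit 179) (.leaf ((nat_lit 5), [nat_lit 2, nat_lit 2, nat_lit 0, nat_lit 2])) (.leaf ((nat_lit 7), [nat_lit 2, nat_lit 2, nat_lit 1]))))))))))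
noncomputable def n13PA_1 : Tr (ℕ × List ℕ) := (.node (nat_lit 270) (.node (nat_lit 225) (.node (nat_lit 202) (.node (nat_lit 191) (.node (nat_lit 185) (.node (nat_lit 182) (.node (nat_lit 181) (.leaf ((nat_lit 1), [nat_lit 0])) (.leaf ((nat_lit 1), [nat_lit 1]))) (.node (nat_lit 183) (.leaf ((nat_lit 7), [nat_lit 2, nat_lit 0, nat_lit 2])) (.node (nat_lit 184) (.leaf ((nat_lit 4), [nat_lit 1, nat_lit 3])) (.leaf ((nat_lit 3), [nat_lit 2, nat_lit 2, nat_lit 1])))))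
 (.node (nat_lit 188) (.node (nat_lit 186) (.leaf ((nat_lit 7), [nat_lit 1])) (.node (nat_lit 187) (.leaf ((nat_lit 3), [nat_lit 1, nat_lit 2, nat_lit 2])) (.leaf ((nat_lit 3), [nat_lit 0, nat_lit 3, nat_lit 3, nat_lit 3])))) (.node (nat_lit 189) (.leaf ((nat_lit 6), [nat_lit 3, nat_lit 3, nat_lit 3, nat_lit 1])) (.node (nat_lit 190) (.leaf ((nat_lit 1), [nat_lit 1, nat_lit 2, nat_lit 2])) (.leaf ((nat_lit 6), [nat_lit 3, nat_lit 3, nat_lit 3, nat_lit 0]))))))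
 (.node (nat_lit 196) (.node (nat_lit 193) (.node (nat_lit 192) (.leaf ((nat_lit 4), [nat_lit 2, nat_lit 2, nat_lit 0])) (.leaf ((nat_lit 5), [nat_lit 1, nat_lit 0]))) (.node (nat_lit 194) (.leaf ((nat_lit 6), [nat_lit 0, nat_lit 3, nat_lit 3, nat_lit 3])) (.node (nat_lit 195) (.leaf ((nat_lit 4), [nat_lit 2, nat_lit 1, nat_lit 2, nat_lit 0])) (.leaf ((nat_lit 7), [nat_lit 0, nat_lit 2, nat_lit 2])))))
 (.node (nat_lit 199) (.node (nat_lit 197) (.leaf ((nat_lit 6), [nat_lit 3, nat_lit 0, nat_lit 3, nat_lit 3])) (.node (nat_lit 198) (.leaf ((nat_lit 7), [nat_lit 3, nat_lit 3, nat_lit 0, nat_lit 3])) (.leaf ((nat_lit 7), [nat_lit 3, nat_lit 0, nat_lit 3, nat_lit 3])))) (.node (nat_lit 200) (.leaf ((nat_lit 4), [nat_lit 0, nat_lit 2])) (.node (nat_lit 201) (.leaf ((nat_lit 5), [nat_lit 2, nat_lit 1, nat_lit 2, nat_lit 0])) (.leaf ((nat_lit 4), [nat_lit 0, nat_lit 3, nat_lit 3, nat_lit 3])))))))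
 (.node (nat_lit 213) (.node (nat_lit 207) (.node (nat_lit 204) (.node (nat_lit 203) (.leaf ((nat_lit 3), [nat_lit 1, nat_lit 2])) (.leaf ((nat_lit 6), [nat_lit 3, nat_lit 0]))) (.node (nat_lit 205) (.leaf ((nat_lit 3), [nat_lit 2, nat_lit 0, nat_lit 2, nat_lit 2])) (.node (nat_lit 206) (.leaf ((nat_lit 1), [nat_lit 0, nat_lit 3, nat_lit 3])) (.leaf ((nat_lit 5), [nat_lit 3, nat_lit 3, nat_lit 1])))))
 (.node (nat_lit 210) (.node (nat_lit 208) (.leaf ((nat_lit 3), [nat_lit 2, nat_lit 2, nat_lit 2, nat_lit 1])) (.node (nat_lit 209) (.leaf ((nat_lit 6), [nat_lit 3, nat_lit 1])) (.leaf ((nat_lit 5), [nat_lit 3, nat_lit 1, nat_lit 2])))) (.node (nat_lit 211) (.leaf ((nat_lit 4), [nat_lit 0, nat_lit 2, nat_lit 0])) (.node (nat_lit 212) (.leaf ((nat_lit 7), [nat_lit 1, nat_lit 3])) (.leaf ((nat_lit 2), [nat_lit 2, nat_lit 2, nat_lit 2]))))))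
 (.node (nat_lit 219) (.node (nat_lit 216) (.node (nat_lit 214) (.leaf ((nat_lit 4), [nat_lit 3, nat_lit 0])) (.node (nat_lit 215) (.leaf ((nat_lit 2), [nat_lit 2])) (.leaf ((nat_lit 7), [nat_lit 3, nat_lit 3, nat_lit 3, nat_lit 0])))) (.node (nat_lit 217) (.leaf ((nat_lit 8), [nat_lit 3, nat_lit 3, nat_lit 3])) (.node (nat_lit 218) (.leaf ((nat_lit 5), [nat_lit 2, nat_lit 0, nat_lit 2])) (.leaf ((nat_lit 3), [nat_lit 3, nat_lit 3])))))
 (.node (nat_lit 222) (.node (nat_lit 220) (.leaf ((nat_lit 6), [nat_lit 1, nat_lit 0])) (.node (nat_lit 221) (.leaf ((nat_lit 3), [nat_lit 0, nat_lit 3, nat_lit 3])) (.leaf ((nat_lit 3), [nat_lit 2, nat_lit 2, nat_lit 2])))) (.node (nat_lit 223) (.leaf ((nat_lit 3), [nat_lit 1, nat_lit 3])) (.node (nat_lit 224) (.leaf ((nat_lit 6), [nat_lit 2, nat_lit 2, nat_lit 0, nat_lit 2])) (.leaf ((nat_lit 2), [nat_lit 3]))))))))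
 (.node (nat_lit 247) (.node (nat_lit 236) (.node (nat_lit 230) (.node (nat_lit 227) (.node (nat_lit 226) (.leaf ((nat_lit 1), [nat_lit 1, nat_lit 2])) (.leaf ((nat_lit 7), [nat_lit 0]))) (.node (nat_lit 228) (.leaf ((nat_lit 8), [nat_lit 3, nat_lit 3])) (.node (nat_lit 229) (.leaf ((nat_lit 5), [nat_lit 2, nat_lit 0])) (.leaf ((nat_lit 4), [nat_lit 2, nat_lit 2, nat_lit 2, nat_lit 1])))))
 (.node (nat_lit 233) (.node (nat_lit 231) (.leaf ((nat_lit 3), [nat_lit 2, nat_lit 2])) (.node (nat_lit 232) (.leaf ((nat_lit 3), [nat_lit 3, nat_lit 0, nat_lit 3])) (.leaf ((nat_lit 4), [nat_lit 2, nat_lit 0, nat_lit 2, nat_lit 2])))) (.node (nat_lit 234) (.leaf ((nat_lit 1), [nat_lit 3, nat_lit 0, nat_lit 3, nat_lit 0])) (.node (nat_lit 235) (.leaf ((nat_lit 1), [nat_lit 2, nat_lit 2, nat_lit 2, nat_lit 0])) (.leaf ((nat_lit 3), [nat_lit 0, nat_lit 2, nat_lit 2]))))))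
 (.node (nat_lit 241) (.node (nat_lit 238) (.node (nat_lit 237) (.leaf ((nat_lit 5), [nat_lit 3, nat_lit 0])) (.leaf ((nat_lit 7), [nat_lit 2, nat_lit 2, nat_lit 2]))) (.node (nat_lit 239) (.leaf ((nat_lit 6), [nat_lit 0, nat_lit 2, nat_lit 2])) (.node (nat_lit 240) (.leaf ((nat_lit 11), [])) (.leaf ((nat_lit 6), [nat_lit 2, nat_lit 2])))))
 (.node (nat_lit 244) (.node (nat_lit 242) (.leaf ((nat_lit 1), [nat_lit 2, nat_lit 1])) (.node (nat_lit 243) (.leaf ((nat_lit 4), [nat_lit 1, nat_lit 0])) (.leaf ((nat_lit 3), [nat_lit 1, nat_lit 0, nat_lit 3])))) (.node (nat_lit 245) (.leaf ((nat_lit 6), [nat_lit 3, nat_lit 3, nat_lit 1, nat_lit 3])) (.node (nat_lit 246) (.leaf ((nat_lit 3), [nat_lit 3, nat_lit 0, nat_lit 2])) (.leaf ((nat_lit 3), [nat_lit 2, nat_lit 2, nat_lit 2, nat_lit 0])))))))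
 (.node (nat_lit 258) (.node (nat_lit 252) (.node (nat_lit 249) (.node (nat_lit 248) (.leaf ((nat_lit 4), [nat_lit 1, nat_lit 2])) (.leaf ((nat_lit 5), [nat_lit 0, nat_lit 3, nat_lit 0]))) (.node (nat_lit 250) (.leaf ((nat_lit 1), [nat_lit 3, nat_lit 1, nat_lit 3, nat_lit 3])) (.node (nat_lit 251) (.leaf ((nat_lit 6), [nat_lit 3, nat_lit 1, nat_lit 3])) (.leaf ((nat_lit 1), [nat_lit 3, nat_lit 3])))))
 (.node (nat_lit 255) (.node (nat_lit 253) (.leaf ((nat_lit 1), [nat_lit 2, nat_lit 2, nat_lit 2])) (.node (nat_lit 254) (.leaf ((nat_lit 1), [nat_lit 2, nat_lit 2, nat_lit 0])) (.leaf ((nat_lit 7), [nat_lit 2, nat_lit 1])))) (.node (nat_lit 256) (.leaf ((nat_lit 6), [nat_lit 2, nat_lit 2, nat_lit 0])) (.node (nat_lit 257) (.leaf ((nat_lit 5), [nat_lit 1, nat_lit 2, nat_lit 0])) (.leaf ((nat_lit 7), [nat_lit 2, nat_lit 2, nat_lit 0]))))))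
 (.node (nat_lit 264) (.node (nat_lit 261) (.node (nat_lit 259) (.leaf ((nat_lit 2), [nat_lit 3, nat_lit 3])) (.node (nat_lit 260) (.leaf ((nat_lit 6), [nat_lit 3, nat_lit 1, nat_lit 3, nat_lit 3])) (.leaf ((nat_lit 7), [nat_lit 1, nat_lit 2])))) (.node (nat_lit 262) (.leaf ((nat_lit 7), [nat_lit 2, nat_lit 0, nat_lit 2, nat_lit 2])) (.node (nat_lit 263) (.leaf ((nat_lit 5), [nat_lit 3, nat_lit 0, nat_lit 3])) (.leaf ((nat_lit 3), [nat_lit 0, nat_lit 3, nat_lit 0])))))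
 (.node (nat_lit 267) (.node (nat_lit 265) (.leaf ((nat_lit 1), [nat_lit 2, nat_lit 0, nat_lit 2])) (.node (nat_lit 266) (.leaf ((nat_lit 7), [nat_lit 2, nat_lit 2, nat_lit 0, nat_lit 2])) (.leaf ((nat_lit 6), [nat_lit 1, nat_lit 2, nat_lit 2, nat_lit 2])))) (.node (nat_lit 268) (.leaf ((nat_lit 3), [nat_lit 3, nat_lit 0, nat_lit 3, nat_lit 0])) (.node (nat_lit 269) (.leaf ((nat_lit 6), [nat_lit 2, nat_lit 0])) (.leaf ((nat_lit 1), [nat_lit 3])))))))))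
 (.node (nat_lit 315) (.node (nat_lit 292) (.node (nat_lit 281) (.node (nat_lit 275) (.node (nat_lit 272) (.node (nat_lit 271) (.leaf ((nat_lit 4), [nat_lit 2, nat_lit 0, nat_lit 2])) (.leaf ((nat_lit 3), [nat_lit 2, nat_lit 2, nat_lit 1, nat_lit 2]))) (.node (nat_lit 273) (.leaf ((nat_lit 6), [nat_lit 3, nat_lit 3, nat_lit 0, nat_lit 3])) (.node (nat_lit 274) (.leaf ((nat_lit 1), [nat_lit 3, nat_lit 3, nat_lit 3, nat_lit 1])) (.leaf ((nat_lit 5), [nat_lit 3, nat_lit 1, nat_lit 3])))))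
 (.node (nat_lit 278) (.node (nat_lit 276) (.leaf ((nat_lit 5), [nat_lit 1])) (.node (nat_lit 277) (.leaf ((nat_lit 7), [nat_lit 2, nat_lit 2, nat_lit 1, nat_lit 2])) (.leaf ((nat_lit 6), [nat_lit 2, nat_lit 0, nat_lit 3])))) (.node (nat_lit 279) (.leaf ((nat_lit 6), [nat_lit 3, nat_lit 3])) (.node (nat_lit 280) (.leaf ((nat_lit 6), [nat_lit 2, nat_lit 1, nat_lit 2, nat_lit 2])) (.leaf ((nat_lit 6), [nat_lit 0, nat_lit 3]))))))
 (.node (nat_lit 286) (.node (nat_lit 283) (.node (nat_lit 282) (.leaf ((nat_lit 7), [nat_lit 2, nat_lit 1, nat_lit 2])) (.leaf ((nat_lit 5), [nat_lit 2, nat_lit 0, nat_lit 2, nat_lit 2]))) (.node (nat_lit 284) (.leaf ((nat_lit 7), [nat_lit 0, nat_lit 2, nat_lit 0])) (.node (nat_lit 285) (.leaf ((nat_lit 3), [nat_lit 2, nat_lit 1])) (.leaf ((nat_lit 9), [nat_lit 2, nat_lit 2, nat_lit 2])))))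
 (.node (nat_lit 289) (.node (nat_lit 287) (.leaf ((nat_lit 6), [nat_lit 3, nat_lit 3, nat_lit 0])) (.node (nat_lit 288) (.leaf ((nat_lit 4), [nat_lit 3, nat_lit 1, nat_lit 3, nat_lit 3])) (.leaf ((nat_lit 3), [nat_lit 2, nat_lit 1, nat_lit 0])))) (.node (nat_lit 290) (.leaf ((nat_lit 3), [nat_lit 2, nat_lit 1, nat_lit 2])) (.node (nat_lit 291) (.leaf ((nat_lit 3), [nat_lit 2, nat_lit 1, nat_lit 2, nat_lit 0])) (.leaf ((nat_lit 4), [nat_lit 2])))))))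
 (.node (nat_lit 303) (.node (nat_lit 297) (.node (nat_lit 294) (.node (nat_lit 293) (.leaf ((nat_lit 3), [nat_lit 0, nat_lit 2, nat_lit 0])) (.leaf ((nat_lit 1), [nat_lit 2, nat_lit 2, nat_lit 1, nat_lit 2]))) (.node (nat_lit 295) (.leaf ((nat_lit 6), [nat_lit 2, nat_lit 0, nat_lit 2, nat_lit 2])) (.node (nat_lit 296) (.leaf ((nat_lit 8), [nat_lit 2, nat_lit 2, nat_lit 2])) (.leaf ((nat_lit 1), [nat_lit 0, nat_lit 3, nat_lit 0])))))
 (.node (nat_lit 300) (.node (nat_lit 298) (.leaf ((nat_lit 1), [nat_lit 3, nat_lit 3, nat_lit 0, nat_lit 3])) (.node (nat_lit 299) (.leaf ((nat_lit 7), [nat_lit 2, nat_lit 2, nat_lit 2, nat_lit 1])) (.leaf ((nat_lit 4), [nat_lit 2, nat_lit 2, nat_lit 2, nat_lit 0])))) (.node (nat_lit 301) (.leaf ((nat_lit 4), [nat_lit 3, nat_lit 3, nat_lit 3, nat_lit 1])) (.node (nat_lit 302) (.leaf ((nat_lit 7), [nat_lit 1, nat_lit 2, nat_lit 0])) (.leaf ((nat_lit 7), [nat_lit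 2, nat_lit 1, nat_lit 0]))))))
 (.node (nat_lit 309) (.node (nat_lit 306) (.node (nat_lit 304) (.leaf ((nat_lit 6), [nat_lit 1])) (.node (nat_lit 305) (.leaf ((nat_lit 4), [nat_lit 2, nat_lit 0])) (.leaf ((nat_lit 1), [nat_lit 3, nat_lit 1])))) (.node (nat_lit 307) (.leaf ((nat_lit 7), [nat_lit 2, nat_lit 1, nat_lit 2, nat_lit 0])) (.node (nat_lit 308) (.leaf ((nat_lit 4), [nat_lit 3, nat_lit 0, nat_lit 3])) (.leaf ((nat_lit 3), [nat_lit 2])))))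
 (.node (nat_lit 312) (.node (nat_lit 310) (.leaf ((nat_lit 6), [nat_lit 0, nat_lit 2])) (.node (nat_lit 311) (.leaf ((nat_lit 6), [nat_lit 2])) (.leaf ((nat_lit 7), [nat_lit 3, nat_lit 0])))) (.node (nat_lit 313) (.leaf ((nat_lit 6), [nat_lit 3, nat_lit 3, nat_lit 3])) (.node (nat_lit 314) (.leaf ((nat_lit 4), [nat_lit 2, nat_lit 0, nat_lit 3])) (.leaf ((nat_lit 5), [nat_lit 2, nat_lit 2, nat_lit 1, nat_lit 2]))))))))
 (.node (nat_lit 337) (.node (nat_lit 326) (.node (nat_lit 320) (.node (nat_lit 317) (.node (nat_lit 316) (.leaf ((nat_lit 7), [nat_lit 0, nat_lit 3, nat_lit 0])) (.leaf ((nat_lit 4), [nat_lit 1, nat_lit 0, nat_lit 3]))) (.node (nat_lit 318) (.leaf ((nat_lit 3), [nat_lit 0, nat_lit 3])) (.node (nat_lit 319) (.leaf ((nat_lit 3), [nat_lit 1, nat_lit 2, nat_lit 0])) (.leaf ((nat_lit 4), [nat_lit 3, nat_lit 0, nat_lit 3, nat_lit 3])))))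
 (.node (nat_lit 323) (.node (nat_lit 321) (.leaf ((nat_lit 6), [nat_lit 1, nat_lit 0, nat_lit 3])) (.node (nat_lit 322) (.leaf ((nat_lit 3), [nat_lit 3, nat_lit 3, nat_lit 3, nat_lit 0])) (.leaf ((nat_lit 1), [nat_lit 2, nat_lit 1, nat_lit 2, nat_lit 2])))) (.node (nat_lit 324) (.leaf ((nat_lit 5), [nat_lit 2])) (.node (nat_lit 325) (.leaf ((nat_lit 7), [nat_lit 2, nat_lit 0, nat_lit 3])) (.leaf ((nat_lit 3), [nat_lit 1]))))))
 (.node (nat_lit 331) (.node (nat_lit 328) (.node (nat_lit 327) (.leaf ((nat_lit 6), [nat_lit 3, nat_lit 3, nat_lit 1])) (.leaf ((nat_lit 1), [nat_lit 1, nat_lit 0]))) (.node (nat_lit 329) (.leaf ((nat_lit 3), [nat_lit 2, nat_lit 2, nat_lit 0, nat_lit 2])) (.node (nat_lit 330) (.leaf ((nat_lit 6), [nat_lit 3, nat_lit 0, nat_lit 3])) (.leaf ((nat_lit 3), [nat_lit 2, nat_lit 0, nat_lit 2])))))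
 (.node (nat_lit 334) (.node (nat_lit 332) (.leaf ((nat_lit 6), [nat_lit 0, nat_lit 3, nat_lit 0])) (.node (nat_lit 333) (.leaf ((nat_lit 3), [nat_lit 0, nat_lit 3, nat_lit 1])) (.leaf ((nat_lit 5), [nat_lit 2, nat_lit 2])))) (.node (nat_lit 335) (.leaf ((nat_lit 5), [nat_lit 0, nat_lit 2, nat_lit 0])) (.node (nat_lit 336) (.leaf ((nat_lit 4), [nat_lit 0])) (.leaf ((nat_lit 1), [nat_lit 2, nat_lit 1, nat_lit 0])))))))
 (.node (nat_lit 348) (.node (nat_lit 342) (.node (nat_lit 339) (.node (nat_lit 338) (.leaf ((nat_lit 5), [nat_lit 3, nat_lit 0, nat_lit 2])) (.leaf ((nat_lit 5), [nat_lit 0, nat_lit 2]))) (.node (nat_lit 340) (.leaf ((nat_lit 6), [nat_lit 3])) (.node (nat_lit 341) (.leaf ((nat_lit 7), [nat_lit 1, nat_lit 0, nat_lit 3])) (.leaf ((nat_lit 4), [nat_lit 2, nat_lit 1, nat_lit 2])))))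
 (.node (nat_lit 345) (.node (nat_lit 343) (.leaf ((nat_lit 7), [nat_lit 1, nat_lit 2, nat_lit 2])) (.node (nat_lit 344) (.leaf ((nat_lit 3), [nat_lit 3, nat_lit 0, nat_lit 3, nat_lit 3])) (.leaf ((nat_lit 4), [nat_lit 2, nat_lit 2, nat_lit 1, nat_lit 2])))) (.node (nat_lit 346) (.leaf ((nat_lit 5), [nat_lit 3, nat_lit 3, nat_lit 3, nat_lit 0])) (.node (nat_lit 347) (.leaf ((nat_lit 1), [nat_lit 2, nat_lit 2, nat_lit 1])) (.leaf ((nat_lit 5), [nat_lit 0, nat_lit 3, nat_lit 1]))))))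
 (.node (nat_lit 354) (.node (nat_lit 351) (.node (nat_lit 349) (.leaf ((nat_lit 3), [nat_lit 3, nat_lit 0])) (.node (nat_lit 350) (.leaf ((nat_lit 5), [nat_lit 3])) (.leaf ((nat_lit 4), [nat_lit 3, nat_lit 3, nat_lit 1])))) (.node (nat_lit 352) (.leaf ((nat_lit 9), [nat_lit 3, nat_lit 3, nat_lit 3])) (.node (nat_lit 353) (.leaf ((nat_lit 6), [nat_lit 3, nat_lit 0, nat_lit 3, nat_lit 0])) (.leaf ((nat_lit 6), [nat_lit 3, nat_lit 0, nat_lit 2, nat_lit 0])))))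
 (.node (nat_lit 357) (.node (nat_lit 355) (.leaf ((nat_lit 7), [nat_lit 2, nat_lit 1, nat_lit 2, nat_lit 2])) (.node (nat_lit 356) (.leaf ((nat_lit 1), [nat_lit 3, nat_lit 0])) (.leaf ((nat_lit 7), [nat_lit 2])))) (.node (nat_lit 358) (.leaf ((nat_lit 4), [nat_lit 1, nat_lit 2, nat_lit 2, nat_lit 2])) (.node (nat_lit 359) (.leaf ((nat_lit 5), [nat_lit 0, nat_lit 3])) (.leaf ((nat_lit 3), [nat_lit 2, nat_lit 0, nat_lit 3]))))))))))
noncomputable def n13PA : Tr (ℕ × List ℕ) := (.node (nat_lit 180) n13PA_0 n13PA_1)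
noncomputable def n13Wd_0 : Tr (ℕ × List ℕ) := (.node (nat_lit 67) (.node (nat_lit 33) (.node (nat_lit 16) (.node (nat_lit 8) (.node (nat_lit 4) (.node (nat_lit 2) (.node (nat_lit 1) (.leaf ((nat_lit 1), [])) (.leaf ((nat_lit 2), [nat_lit 3, nat_lit 3, nat_lit 1, nat_lit 0]))) (.node (nat_lit 3) (.leaf ((nat_lit 3), [nat_lit 0, nat_lit 2, nat_lit 1, nat_lit 0])) (.leaf ((nat_lit 4), [nat_lit 3]))))
 (.node (nat_lit 6) (.node (nat_lit 5) (.leaf ((nat_lit 5), [])) (.leaf ((nat_lit 6), []))) (.node (nat_lit 7) (.leaf ((nat_lit 0), [])) (.leaf ((nat_lit 7), [nat_lit 3, nat_lit 3, nat_lit 3, nat_lit 0])))))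
 (.node (nat_lit 12) (.node (nat_lit 10) (.node (nat_lit 9) (.leaf ((nat_lit 8), [nat_lit 2, nat_lit 2, nat_lit 2, nat_lit 1])) (.leaf ((nat_lit 9), []))) (.node (nat_lit 11) (.leaf ((nat_lit 10), [nat_lit 2, nat_lit 1, nat_lit 0])) (.leaf ((nat_lit 11), [nat_lit 3, nat_lit 3]))))
 (.node (nat_lit 14) (.node (nat_lit 13) (.leaf ((nat_lit 7), [nat_lit 0, nat_lit 3, nat_lit 1])) (.leaf ((nat_lit 0), [nat_lit 2, nat_lit 0, nat_lit 2, nat_lit 1]))) (.node (nat_lit 15) (.leaf ((nat_lit 12), [nat_lit 0, nat_lit 2, nat_lit 1, nat_lit 0])) (.leaf ((nat_lit 13), [nat_lit 2, nat_lit 0, nat_lit 2, nat_lit 1]))))))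
 (.node (nat_lit 24) (.node (nat_lit 20) (.node (nat_lit 18) (.node (nat_lit 17) (.leaf ((nat_lit 14), [nat_lit 2, nat_lit 2, nat_lit 0, nat_lit 2, nat_lit 1])) (.leaf ((nat_lit 15), [nat_lit 2, nat_lit 0, nat_lit 3, nat_lit 0]))) (.node (nat_lit 19) (.leaf ((nat_lit 8), [nat_lit 2, nat_lit 0, nat_lit 2, nat_lit 1])) (.leaf ((nat_lit 12), [nat_lit 3, nat_lit 3, nat_lit 1, nat_lit 0]))))
 (.node (nat_lit 22) (.node (nat_lit 21) (.leaf ((nat_lit 0), [nat_lit 0, nat_lit 3, nat_lit 1])) (.leaf ((nat_lit 16), [nat_lit 0, nat_lit 3, nat_lit 1]))) (.node (nat_lit 23) (.leaf ((nat_lit 17), [nat_lit 0, nat_lit 3, nat_lit 1])) (.leaf ((nat_lit 18), [nat_lit 3, nat_lit 3, nat_lit 3])))))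
 (.node (nat_lit 28) (.node (nat_lit 26) (.node (nat_lit 25) (.leaf ((nat_lit 19), [nat_lit 3, nat_lit 3, nat_lit 3, nat_lit 1, nat_lit 0])) (.leaf ((nat_lit 20), [nat_lit 2, nat_lit 0, nat_lit 3, nat_lit 0]))) (.node (nat_lit 27) (.leaf ((nat_lit 20), [nat_lit 0])) (.leaf ((nat_lit 0), [nat_lit 2]))))
 (.node (nat_lit 30) (.node (nat_lit 29) (.leaf ((nat_lit 21), [nat_lit 2, nat_lit 2, nat_lit 0, nat_lit 2, nat_lit 0])) (.leaf ((nat_lit 22), [nat_lit 2]))) (.node (nat_lit 31) (.leaf ((nat_lit 23), [nat_lit 0, nat_lit 2, nat_lit 0])) (.node (nat_lit 32) (.leaf ((nat_lit 24), [nat_lit 3, nat_lit 0])) (.leaf ((nat_lit 25), [nat_lit 0, nat_lit 2, nat_lit 1]))))))))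
 (.node (nat_lit 50) (.node (nat_lit 41) (.node (nat_lit 37) (.node (nat_lit 35) (.node (nat_lit 34) (.leaf ((nat_lit 21), [nat_lit 2, nat_lit 0, nat_lit 2, nat_lit 1])) (.leaf ((nat_lit 0), []))) (.node (nat_lit 36) (.leaf ((nat_lit 26), [nat_lit 2, nat_lit 2, nat_lit 1])) (.leaf ((nat_lit 27), [nat_lit 0, nat_lit 2, nat_lit 1]))))
 (.node (nat_lit 39) (.node (nat_lit 38) (.leaf ((nat_lit 27), [nat_lit 0, nat_lit 2, nat_lit 1, nat_lit 0])) (.leaf ((nat_lit 28), [nat_lit 2, nat_lit 0, nat_lit 3, nat_lit 1]))) (.node (nat_lit 40) (.leaf ((nat_lit 29), [nat_lit 2, nat_lit 0])) (.leaf ((nat_lit 30), [nat_lit 3, nat_lit 3])))))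
 (.node (nat_lit 45) (.node (nat_lit 43) (.node (nat_lit 42) (.leaf ((nat_lit 0), [])) (.leaf ((nat_lit 2), [nat_lit 0, nat_lit 2, nat_lit 1, nat_lit 0]))) (.node (nat_lit 44) (.leaf ((nat_lit 1), [nat_lit 2, nat_lit 2, nat_lit 2, nat_lit 1])) (.leaf ((nat_lit 31), [nat_lit 3, nat_lit 3, nat_lit 1, nat_lit 0]))))
 (.node (nat_lit 47) (.node (nat_lit 46) (.leaf ((nat_lit 32), [nat_lit 3, nat_lit 0, nat_lit 3, nat_lit 1])) (.leaf ((nat_lit 33), [nat_lit 3, nat_lit 3, nat_lit 3, nat_lit 1]))) (.node (nat_lit 48) (.leaf ((nat_lit 34), [nat_lit 2, nat_lit 2, nat_lit 2, nat_lit 1])) (.node (nat_lit 49) (.leaf ((nat_lit 3), [nat_lit 3, nat_lit 3, nat_lit 1, nat_lit 0])) (.leaf ((nat_lit 31), [nat_lit 0, nat_lit 3, nat_lit 1])))))))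
 (.node (nat_lit 58) (.node (nat_lit 54) (.node (nat_lit 52) (.node (nat_lit 51) (.leaf ((nat_lit 1), [nat_lit 3, nat_lit 3, nat_lit 3, nat_lit 0])) (.leaf ((nat_lit 35), [nat_lit 3]))) (.node (nat_lit 53) (.leaf ((nat_lit 36), [nat_lit 2, nat_lit 2, nat_lit 2, nat_lit 1, nat_lit 0])) (.leaf ((nat_lit 37), [nat_lit 2, nat_lit 0, nat_lit 3, nat_lit 1, nat_lit 0]))))
 (.node (nat_lit 56) (.node (nat_lit 55) (.leaf ((nat_lit 38), [nat_lit 2, nat_lit 2, nat_lit 1, nat_lit 0])) (.leaf ((nat_lit 39), [nat_lit 2, nat_lit 2, nat_lit 0, nat_lit 2, nat_lit 0]))) (.node (nat_lit 57) (.leaf ((nat_lit 40), [nat_lit 2, nat_lit 2, nat_lit 1])) (.leaf ((nat_lit 1), [])))))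
 (.node (nat_lit 62) (.node (nat_lit 60) (.node (nat_lit 59) (.leaf ((nat_lit 41), [nat_lit 2, nat_lit 0, nat_lit 3, nat_lit 0])) (.leaf ((nat_lit 42), [nat_lit 2, nat_lit 2, nat_lit 1]))) (.node (nat_lit 61) (.leaf ((nat_lit 43), [nat_lit 0, nat_lit 3, nat_lit 1, nat_lit 0])) (.leaf ((nat_lit 44), [nat_lit 0, nat_lit 3, nat_lit 0]))))
 (.node (nat_lit 64) (.node (nat_lit 63) (.leaf ((nat_lit 29), [nat_lit 2, nat_lit 2, nat_lit 0])) (.leaf ((nat_lit 41), [nat_lit 0, nat_lit 3, nat_lit 0]))) (.node (nat_lit 65) (.leaf ((nat_lit 1), [nat_lit 0, nat_lit 3, nat_lit 1, nat_lit 0])) (.node (nat_lit 66) (.leaf ((nat_lit 45), [nat_lit 2, nat_lit 2, nat_lit 2, nat_lit 0])) (.leaf ((nat_lit 46), [nat_lit 2, nat_lit 1, nat_lit 0])))))))))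
 (.node (nat_lit 101) (.node (nat_lit 84) (.node (nat_lit 75) (.node (nat_lit 71) (.node (nat_lit 69) (.node (nat_lit 68) (.leaf ((nat_lit 47), [nat_lit 2, nat_lit 2, nat_lit 0, nat_lit 2])) (.leaf ((nat_lit 48), [nat_lit 2, nat_lit 1]))) (.node (nat_lit 70) (.leaf ((nat_lit 49), [nat_lit 0, nat_lit 2])) (.leaf ((nat_lit 50), [nat_lit 0, nat_lit 3, nat_lit 1, nat_lit 0]))))
 (.node (nat_lit 73) (.node (nat_lit 72) (.leaf ((nat_lit 1), [nat_lit 2, nat_lit 2])) (.leaf ((nat_lit 31), [nat_lit 2, nat_lit 2, nat_lit 2, nat_lit 1]))) (.node (nat_lit 74) (.leaf ((nat_lit 3), [nat_lit 2, nat_lit 0, nat_lit 2, nat_lit 1])) (.leaf ((nat_lit 2), [nat_lit 0, nat_lit 3, nat_lit 1])))))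
 (.node (nat_lit 79) (.node (nat_lit 77) (.node (nat_lit 76) (.leaf ((nat_lit 12), [nat_lit 2, nat_lit 0, nat_lit 3])) (.leaf ((nat_lit 51), [nat_lit 2, nat_lit 2, nat_lit 0, nat_lit 2, nat_lit 0]))) (.node (nat_lit 78) (.leaf ((nat_lit 52), [nat_lit 3, nat_lit 3, nat_lit 0, nat_lit 3, nat_lit 1, nat_lit 0])) (.leaf ((nat_lit 53), [nat_lit 3, nat_lit 0]))))
 (.node (nat_lit 81) (.node (nat_lit 80) (.leaf ((nat_lit 54), [])) (.leaf ((nat_lit 18), [nat_lit 0, nat_lit 3]))) (.node (nat_lit 82) (.leaf ((nat_lit 2), [nat_lit 3, nat_lit 3, nat_lit 1, nat_lit 0])) (.node (nat_lit 83) (.leaf ((nat_lit 55), [nat_lit 3, nat_lit 0, nat_lit 3, nat_lit 1, nat_lit 0])) (.leaf ((nat_lit 56), [nat_lit 2, nat_lit 2, nat_lit 0, nat_lit 2, nat_lit 1, nat_lit 0])))))))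
 (.node (nat_lit 92) (.node (nat_lit 88) (.node (nat_lit 86) (.node (nat_lit 85) (.leaf ((nat_lit 57), [nat_lit 2, nat_lit 0, nat_lit 2, nat_lit 1, nat_lit 0])) (.leaf ((nat_lit 58), [nat_lit 2, nat_lit 2, nat_lit 0]))) (.node (nat_lit 87) (.leaf ((nat_lit 57), [nat_lit 2, nat_lit 0, nat_lit 2, nat_lit 0])) (.leaf ((nat_lit 55), [nat_lit 3, nat_lit 3, nat_lit 3, nat_lit 0]))))
 (.node (nat_lit 90) (.node (nat_lit 89) (.leaf ((nat_lit 2), [nat_lit 3, nat_lit 3, nat_lit 0, nat_lit 3, nat_lit 1, nat_lit 0])) (.leaf ((nat_lit 59), [nat_lit 3, nat_lit 0, nat_lit 3, nat_lit 1]))) (.node (nat_lit 91) (.leaf ((nat_lit 15), [nat_lit 1, nat_lit 0])) (.leaf ((nat_lit 60), [nat_lit 2, nat_lit 2, nat_lit 0, nat_lit 2])))))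
 (.node (nat_lit 96) (.node (nat_lit 94) (.node (nat_lit 93) (.leaf ((nat_lit 61), [nat_lit 2, nat_lit 2, nat_lit 0, nat_lit 2, nat_lit 0])) (.leaf ((nat_lit 62), [nat_lit 0, nat_lit 3, nat_lit 1, nat_lit 0]))) (.node (nat_lit 95) (.leaf ((nat_lit 63), [nat_lit 0, nat_lit 3, nat_lit 1, nat_lit 0])) (.leaf ((nat_lit 2), [nat_lit 2, nat_lit 0, nat_lit 3, nat_lit 0]))))
 (.node (nat_lit 98) (.node (nat_lit 97) (.leaf ((nat_lit 64), [nat_lit 2, nat_lit 1])) (.leaf ((nat_lit 16), [nat_lit 2, nat_lit 0, nat_lit 3, nat_lit 1]))) (.node (nat_lit 99) (.leaf ((nat_lit 65), [nat_lit 3, nat_lit 0, nat_lit 3, nat_lit 0])) (.node (nat_lit 100) (.leaf ((nat_lit 3), [nat_lit 0, nat_lit 2, nat_lit 1, nat_lit 0])) (.leaf ((nat_lit 66), [nat_lit 3, nat_lit 0, nat_lit 3, nat_lit 1, nat_lit 0]))))))))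
 (.node (nat_lit 118) (.node (nat_lit 109) (.node (nat_lit 105) (.node (nat_lit 103) (.node (nat_lit 102) (.leaf ((nat_lit 67), [nat_lit 0, nat_lit 2, nat_lit 0])) (.leaf ((nat_lit 68), []))) (.node (nat_lit 104) (.leaf ((nat_lit 68), [nat_lit 2, nat_lit 0, nat_lit 3, nat_lit 0])) (.leaf ((nat_lit 69), [nat_lit 3, nat_lit 3, nat_lit 0, nat_lit 3]))))
 (.node (nat_lit 107) (.node (nat_lit 106) (.leaf ((nat_lit 66), [nat_lit 3, nat_lit 0, nat_lit 3, nat_lit 1, nat_lit 0])) (.leaf ((nat_lit 3), [nat_lit 0, nat_lit 2, nat_lit 1, nat_lit 0]))) (.node (nat_lit 108) (.leaf ((nat_lit 70), [nat_lit 3, nat_lit 3, nat_lit 1])) (.leaf ((nat_lit 71), [nat_lit 3, nat_lit 3, nat_lit 3, nat_lit 0])))))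
 (.node (nat_lit 113) (.node (nat_lit 111) (.node (nat_lit 110) (.leaf ((nat_lit 72), [nat_lit 2, nat_lit 2])) (.leaf ((nat_lit 13), [nat_lit 2, nat_lit 0]))) (.node (nat_lit 112) (.leaf ((nat_lit 18), [nat_lit 2, nat_lit 0, nat_lit 3])) (.leaf ((nat_lit 73), [nat_lit 3, nat_lit 3]))))
 (.node (nat_lit 115) (.node (nat_lit 114) (.leaf ((nat_lit 3), [nat_lit 2, nat_lit 2, nat_lit 2])) (.leaf ((nat_lit 4), [nat_lit 2, nat_lit 2, nat_lit 0, nat_lit 2, nat_lit 0]))) (.node (nat_lit 116) (.leaf ((nat_lit 74), [nat_lit 3, nat_lit 3, nat_lit 3, nat_lit 0])) (.node (nat_lit 117) (.leaf ((nat_lit 74), [nat_lit 3, nat_lit 3, nat_lit 3, nat_lit 1])) (.leaf ((nat_lit 75), [nat_lit 3, nat_lit 0, nat_lit 3, nat_lit 1])))))))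
 (.node (nat_lit 126) (.node (nat_lit 122) (.node (nat_lit 120) (.node (nat_lit 119) (.leaf ((nat_lit 76), [nat_lit 2, nat_lit 2, nat_lit 0, nat_lit 2, nat_lit 0])) (.leaf ((nat_lit 77), [nat_lit 2, nat_lit 1]))) (.node (nat_lit 121) (.leaf ((nat_lit 74), [nat_lit 2, nat_lit 1, nat_lit 0])) (.leaf ((nat_lit 4), [nat_lit 2, nat_lit 0, nat_lit 3, nat_lit 0]))))
 (.node (nat_lit 124) (.node (nat_lit 123) (.leaf ((nat_lit 4), [nat_lit 0])) (.leaf ((nat_lit 54), [nat_lit 0, nat_lit 2, nat_lit 1]))) (.node (nat_lit 125) (.leaf ((nat_lit 78), [nat_lit 3, nat_lit 3])) (.leaf ((nat_lit 79), [nat_lit 3, nat_lit 0, nat_lit 3, nat_lit 1, nat_lit 0])))))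
 (.node (nat_lit 130) (.node (nat_lit 128) (.node (nat_lit 127) (.leaf ((nat_lit 80), [nat_lit 0, nat_lit 2, nat_lit 1, nat_lit 0])) (.leaf ((nat_lit 81), [nat_lit 3, nat_lit 0, nat_lit 3, nat_lit 1]))) (.node (nat_lit 129) (.leaf ((nat_lit 81), [nat_lit 3, nat_lit 0, nat_lit 3, nat_lit 1, nat_lit 0])) (.leaf ((nat_lit 5), [nat_lit 3, nat_lit 3, nat_lit 1, nat_lit 0]))))
 (.node (nat_lit 132) (.node (nat_lit 131) (.leaf ((nat_lit 4), [nat_lit 3, nat_lit 3, nat_lit 3, nat_lit 1, nat_lit 0])) (.leaf ((nat_lit 82), [nat_lit 3, nat_lit 3, nat_lit 3, nat_lit 0]))) (.node (nat_lit 133) (.leaf ((nat_lit 83), [nat_lit 2, nat_lit 0, nat_lit 2, nat_lit 0])) (.node (nat_lit 134) (.leaf ((nat_lit 84), [nat_lit 0, nat_lit 2])) (.leaf ((nat_lit 85), [nat_lit 2, nat_lit 0, nat_lit 3, nat_lit 1]))))))))))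
noncomputable def n13Wd_1 : Tr (ℕ × List ℕ) := (.node (nat_lit 202) (.node (nat_lit 168) (.node (nat_lit 151) (.node (nat_lit 143) (.node (nat_lit 139) (.node (nat_lit 137) (.node (nat_lit 136) (.leaf ((nat_lit 86), [nat_lit 2, nat_lit 2, nat_lit 0, nat_lit 2, nat_lit 1])) (.leaf ((nat_lit 22), [nat_lit 0]))) (.node (nat_lit 138) (.leaf ((nat_lit 4), [nat_lit 3])) (.leaf ((nat_lit 5), [nat_lit 0, nat_lit 3, nat_lit 0]))))
 (.node (nat_lit 141) (.node (nat_lit 140) (.leaf ((nat_lit 87), [nat_lit 0, nat_lit 3, nat_lit 1, nat_lit 0])) (.leaf ((nat_lit 88), [nat_lit 2, nat_lit 0, nat_lit 3, nat_lit 1, nat_lit 0]))) (.node (nat_lit 142) (.leaf ((nat_lit 89), [nat_lit 3, nat_lit 3, nat_lit 0, nat_lit 3, nat_lit 0])) (.leaf ((nat_lit 90), [nat_lit 0, nat_lit 3, nat_lit 1, nat_lit 0])))))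
 (.node (nat_lit 147) (.node (nat_lit 145) (.node (nat_lit 144) (.leaf ((nat_lit 91), [nat_lit 2, nat_lit 2, nat_lit 0, nat_lit 2, nat_lit 0])) (.leaf ((nat_lit 87), [nat_lit 2, nat_lit 0]))) (.node (nat_lit 146) (.leaf ((nat_lit 5), [nat_lit 0, nat_lit 2])) (.leaf ((nat_lit 92), [nat_lit 2, nat_lit 2, nat_lit 2, nat_lit 1, nat_lit 0]))))
 (.node (nat_lit 149) (.node (nat_lit 148) (.leaf ((nat_lit 93), [nat_lit 3, nat_lit 3, nat_lit 3, nat_lit 1, nat_lit 0])) (.leaf ((nat_lit 58), [nat_lit 3, nat_lit 3, nat_lit 0, nat_lit 3]))) (.node (nat_lit 150) (.leaf ((nat_lit 94), [nat_lit 3, nat_lit 3, nat_lit 1])) (.leaf ((nat_lit 88), []))))))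
 (.node (nat_lit 159) (.node (nat_lit 155) (.node (nat_lit 153) (.node (nat_lit 152) (.leaf ((nat_lit 92), [nat_lit 0, nat_lit 2])) (.leaf ((nat_lit 5), [nat_lit 3, nat_lit 1]))) (.node (nat_lit 154) (.leaf ((nat_lit 95), [nat_lit 2, nat_lit 0, nat_lit 2])) (.leaf ((nat_lit 69), [nat_lit 2, nat_lit 2, nat_lit 0, nat_lit 2, nat_lit 1, nat_lit 0]))))
 (.node (nat_lit 157) (.node (nat_lit 156) (.leaf ((nat_lit 96), [nat_lit 0, nat_lit 2])) (.leaf ((nat_lit 69), [nat_lit 3, nat_lit 0, nat_lit 3, nat_lit 0]))) (.node (nat_lit 158) (.leaf ((nat_lit 69), [nat_lit 3, nat_lit 3, nat_lit 1, nat_lit 0])) (.leaf ((nat_lit 68), [nat_lit 0, nat_lit 2, nat_lit 1, nat_lit 0])))))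
 (.node (nat_lit 163) (.node (nat_lit 161) (.node (nat_lit 160) (.leaf ((nat_lit 97), [nat_lit 3, nat_lit 0])) (.leaf ((nat_lit 98), []))) (.node (nat_lit 162) (.leaf ((nat_lit 5), [nat_lit 3, nat_lit 0, nat_lit 3, nat_lit 1, nat_lit 0])) (.leaf ((nat_lit 6), [nat_lit 3, nat_lit 1]))))
 (.node (nat_lit 165) (.node (nat_lit 164) (.leaf ((nat_lit 6), [nat_lit 0, nat_lit 3, nat_lit 1])) (.leaf ((nat_lit 99), [nat_lit 3, nat_lit 3, nat_lit 0, nat_lit 3, nat_lit 1, nat_lit 0]))) (.node (nat_lit 166) (.leaf ((nat_lit 100), [nat_lit 2, nat_lit 0, nat_lit 2, nat_lit 0])) (.node (nat_lit 167) (.leaf ((nat_lit 101), [nat_lit 2, nat_lit 2])) (.leaf ((nat_lit 102), [nat_lit 2, nat_lit 2, nat_lit 1]))))))))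
 (.node (nat_lit 185) (.node (nat_lit 176) (.node (nat_lit 172) (.node (nat_lit 170) (.node (nat_lit 169) (.leaf ((nat_lit 99), [nat_lit 3, nat_lit 3])) (.leaf ((nat_lit 99), [nat_lit 3, nat_lit 3, nat_lit 0]))) (.node (nat_lit 171) (.leaf ((nat_lit 6), [nat_lit 2, nat_lit 0, nat_lit 3, nat_lit 1])) (.leaf ((nat_lit 103), [nat_lit 2, nat_lit 2, nat_lit 0, nat_lit 2, nat_lit 0]))))
 (.node (nat_lit 174) (.node (nat_lit 173) (.leaf ((nat_lit 104), [])) (.leaf ((nat_lit 105), [nat_lit 2, nat_lit 0, nat_lit 2]))) (.node (nat_lit 175) (.leaf ((nat_lit 98), [nat_lit 2, nat_lit 2, nat_lit 2, nat_lit 0])) (.leaf ((nat_lit 82), [nat_lit 2, nat_lit 0, nat_lit 3, nat_lit 1, nat_lit 0])))))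
 (.node (nat_lit 180) (.node (nat_lit 178) (.node (nat_lit 177) (.leaf ((nat_lit 10), [nat_lit 3, nat_lit 0, nat_lit 3, nat_lit 1])) (.leaf ((nat_lit 6), [nat_lit 0, nat_lit 3]))) (.node (nat_lit 179) (.leaf ((nat_lit 106), [nat_lit 2, nat_lit 2, nat_lit 1])) (.leaf ((nat_lit 107), []))))
 (.node (nat_lit 182) (.node (nat_lit 181) (.leaf ((nat_lit 84), [nat_lit 2, nat_lit 2, nat_lit 2, nat_lit 0])) (.leaf ((nat_lit 83), [nat_lit 3, nat_lit 3, nat_lit 3, nat_lit 1]))) (.node (nat_lit 183) (.leaf ((nat_lit 108), [nat_lit 2, nat_lit 2, nat_lit 0, nat_lit 2])) (.node (nat_lit 184) (.leaf ((nat_lit 106), [nat_lit 3, nat_lit 0, nat_lit 3, nat_lit 1, nat_lit 0])) (.leaf ((nat_lit 6), [nat_lit 2, nat_lit 2])))))))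
 (.node (nat_lit 193) (.node (nat_lit 189) (.node (nat_lit 187) (.node (nat_lit 186) (.leaf ((nat_lit 109), [nat_lit 2, nat_lit 1, nat_lit 0])) (.leaf ((nat_lit 12), [nat_lit 3, nat_lit 3, nat_lit 3, nat_lit 0]))) (.node (nat_lit 188) (.leaf ((nat_lit 8), [nat_lit 0, nat_lit 2, nat_lit 1, nat_lit 0])) (.leaf ((nat_lit 7), [nat_lit 2, nat_lit 0, nat_lit 2, nat_lit 1]))))
 (.node (nat_lit 191) (.node (nat_lit 190) (.leaf ((nat_lit 77), [nat_lit 3, nat_lit 3, nat_lit 1, nat_lit 0])) (.leaf ((nat_lit 31), [nat_lit 1, nat_lit 0]))) (.node (nat_lit 192) (.leaf ((nat_lit 110), [nat_lit 2, nat_lit 2, nat_lit 0, nat_lit 2, nat_lit 0])) (.leaf ((nat_lit 111), [nat_lit 3])))))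
 (.node (nat_lit 197) (.node (nat_lit 195) (.node (nat_lit 194) (.leaf ((nat_lit 112), [nat_lit 0, nat_lit 2])) (.leaf ((nat_lit 113), []))) (.node (nat_lit 196) (.leaf ((nat_lit 7), [nat_lit 2, nat_lit 2, nat_lit 0])) (.leaf ((nat_lit 114), [nat_lit 3, nat_lit 3]))))
 (.node (nat_lit 199) (.node (nat_lit 198) (.leaf ((nat_lit 115), [nat_lit 3, nat_lit 3, nat_lit 0, nat_lit 3, nat_lit 1])) (.leaf ((nat_lit 116), [nat_lit 3, nat_lit 0, nat_lit 3, nat_lit 1, nat_lit 0]))) (.node (nat_lit 200) (.leaf ((nat_lit 117), [nat_lit 0, nat_lit 2, nat_lit 1])) (.node (nat_lit 201) (.leaf ((nat_lit 33), [nat_lit 1])) (.leaf ((nat_lit 114), [nat_lit 3, nat_lit 1, nat_lit 0])))))))))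
 (.node (nat_lit 236) (.node (nat_lit 219) (.node (nat_lit 210) (.node (nat_lit 206) (.node (nat_lit 204) (.node (nat_lit 203) (.leaf ((nat_lit 7), [nat_lit 2, nat_lit 2, nat_lit 0, nat_lit 2, nat_lit 1, nat_lit 0])) (.leaf ((nat_lit 97), [nat_lit 2, nat_lit 0, nat_lit 3]))) (.node (nat_lit 205) (.leaf ((nat_lit 118), [nat_lit 3, nat_lit 3, nat_lit 0])) (.leaf ((nat_lit 119), [nat_lit 0, nat_lit 2, nat_lit 1, nat_lit 0]))))
 (.node (nat_lit 208) (.node (nat_lit 207) (.leaf ((nat_lit 120), [nat_lit 3, nat_lit 3, nat_lit 3, nat_lit 1, nat_lit 0])) (.leaf ((nat_lit 85), [nat_lit 2, nat_lit 2, nat_lit 1]))) (.node (nat_lit 209) (.leaf ((nat_lit 121), [nat_lit 3, nat_lit 3])) (.leaf ((nat_lit 7), [nat_lit 3, nat_lit 3, nat_lit 3, nat_lit 0])))))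
 (.node (nat_lit 214) (.node (nat_lit 212) (.node (nat_lit 211) (.leaf ((nat_lit 122), [nat_lit 3, nat_lit 3, nat_lit 3, nat_lit 0])) (.leaf ((nat_lit 122), [nat_lit 3, nat_lit 3, nat_lit 3, nat_lit 1, nat_lit 0]))) (.node (nat_lit 213) (.leaf ((nat_lit 123), [nat_lit 2, nat_lit 0, nat_lit 2, nat_lit 1, nat_lit 0])) (.leaf ((nat_lit 8), [nat_lit 2]))))
 (.node (nat_lit 216) (.node (nat_lit 215) (.leaf ((nat_lit 124), [nat_lit 3, nat_lit 3])) (.leaf ((nat_lit 125), [nat_lit 3, nat_lit 3, nat_lit 1, nat_lit 0]))) (.node (nat_lit 217) (.leaf ((nat_lit 126), [nat_lit 2, nat_lit 2, nat_lit 0, nat_lit 2, nat_lit 1, nat_lit 0])) (.node (nat_lit 218) (.leaf ((nat_lit 36), [nat_lit 2, nat_lit 0, nat_lit 3, nat_lit 1])) (.leaf ((nat_lit 106), [nat_lit 3, nat_lit 0])))))))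
 (.node (nat_lit 227) (.node (nat_lit 223) (.node (nat_lit 221) (.node (nat_lit 220) (.leaf ((nat_lit 124), [nat_lit 0, nat_lit 2, nat_lit 1, nat_lit 0])) (.leaf ((nat_lit 8), [nat_lit 3, nat_lit 3, nat_lit 0, nat_lit 3]))) (.node (nat_lit 222) (.leaf ((nat_lit 127), [nat_lit 3, nat_lit 3, nat_lit 1])) (.leaf ((nat_lit 128), [nat_lit 0, nat_lit 3, nat_lit 1]))))
 (.node (nat_lit 225) (.node (nat_lit 224) (.leaf ((nat_lit 129), [nat_lit 3, nat_lit 3, nat_lit 0, nat_lit 3])) (.leaf ((nat_lit 37), [nat_lit 2, nat_lit 0, nat_lit 3, nat_lit 0]))) (.node (nat_lit 226) (.leaf ((nat_lit 130), [nat_lit 3, nat_lit 3, nat_lit 1])) (.leaf ((nat_lit 131), [nat_lit 3, nat_lit 3, nat_lit 0])))))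
 (.node (nat_lit 231) (.node (nat_lit 229) (.node (nat_lit 228) (.leaf ((nat_lit 8), [nat_lit 2, nat_lit 0, nat_lit 3, nat_lit 1, nat_lit 0])) (.leaf ((nat_lit 9), [nat_lit 3, nat_lit 3, nat_lit 0]))) (.node (nat_lit 230) (.leaf ((nat_lit 40), [nat_lit 2, nat_lit 0, nat_lit 3])) (.leaf ((nat_lit 39), [nat_lit 2, nat_lit 0]))))
 (.node (nat_lit 233) (.node (nat_lit 232) (.leaf ((nat_lit 50), [nat_lit 3, nat_lit 3, nat_lit 1, nat_lit 0])) (.leaf ((nat_lit 49), [nat_lit 1, nat_lit 0]))) (.node (nat_lit 234) (.leaf ((nat_lit 132), [nat_lit 3, nat_lit 0])) (.node (nat_lit 235) (.leaf ((nat_lit 40), [nat_lit 3, nat_lit 0])) (.leaf ((nat_lit 9), [nat_lit 3, nat_lit 3, nat_lit 3, nat_lit 1, nat_lit 0]))))))))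
 (.node (nat_lit 253) (.node (nat_lit 244) (.node (nat_lit 240) (.node (nat_lit 238) (.node (nat_lit 237) (.leaf ((nat_lit 38), [nat_lit 0, nat_lit 3])) (.leaf ((nat_lit 112), [nat_lit 1, nat_lit 0]))) (.node (nat_lit 239) (.leaf ((nat_lit 133), [nat_lit 2, nat_lit 0, nat_lit 3])) (.leaf ((nat_lit 134), [nat_lit 3, nat_lit 3, nat_lit 1, nat_lit 0]))))
 (.node (nat_lit 242) (.node (nat_lit 241) (.leaf ((nat_lit 39), [nat_lit 0, nat_lit 2])) (.leaf ((nat_lit 38), [nat_lit 2, nat_lit 0, nat_lit 3]))) (.node (nat_lit 243) (.leaf ((nat_lit 9), [nat_lit 3, nat_lit 0, nat_lit 3, nat_lit 1, nat_lit 0])) (.leaf ((nat_lit 135), [nat_lit 0, nat_lit 2])))))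
 (.node (nat_lit 248) (.node (nat_lit 246) (.node (nat_lit 245) (.leaf ((nat_lit 136), [nat_lit 0])) (.leaf ((nat_lit 137), [nat_lit 1]))) (.node (nat_lit 247) (.leaf ((nat_lit 138), [nat_lit 2, nat_lit 2, nat_lit 0, nat_lit 2])) (.leaf ((nat_lit 139), [nat_lit 2, nat_lit 2, nat_lit 0, nat_lit 2, nat_lit 1]))))
 (.node (nat_lit 250) (.node (nat_lit 249) (.leaf ((nat_lit 140), [nat_lit 3, nat_lit 3, nat_lit 3, nat_lit 0])) (.leaf ((nat_lit 10), [nat_lit 0, nat_lit 2, nat_lit 0]))) (.node (nat_lit 251) (.leaf ((nat_lit 9), [nat_lit 2, nat_lit 0, nat_lit 3, nat_lit 0])) (.node (nat_lit 252) (.leaf ((nat_lit 141), [nat_lit 3, nat_lit 3, nat_lit 1, nat_lit 0])) (.leaf ((nat_lit 142), [nat_lit 3, nat_lit 3, nat_lit 0, nat_lit 3, nat_lit 1, nat_lit 0])))))))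
 (.node (nat_lit 261) (.node (nat_lit 257) (.node (nat_lit 255) (.node (nat_lit 254) (.leaf ((nat_lit 143), [nat_lit 3, nat_lit 1, nat_lit 0])) (.leaf ((nat_lit 142), [nat_lit 3, nat_lit 3, nat_lit 3, nat_lit 1, nat_lit 0]))) (.node (nat_lit 256) (.leaf ((nat_lit 144), [nat_lit 3, nat_lit 0, nat_lit 3, nat_lit 1])) (.leaf ((nat_lit 145), [nat_lit 2, nat_lit 2, nat_lit 0, nat_lit 2, nat_lit 1, nat_lit 0]))))
 (.node (nat_lit 259) (.node (nat_lit 258) (.leaf ((nat_lit 9), [nat_lit 3, nat_lit 0, nat_lit 3, nat_lit 1, nat_lit 0])) (.leaf ((nat_lit 10), [nat_lit 2, nat_lit 1, nat_lit 0]))) (.node (nat_lit 260) (.leaf ((nat_lit 146), [nat_lit 2, nat_lit 0, nat_lit 2])) (.leaf ((nat_lit 98), [nat_lit 0, nat_lit 3, nat_lit 1])))))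
 (.node (nat_lit 265) (.node (nat_lit 263) (.node (nat_lit 262) (.leaf ((nat_lit 147), [nat_lit 0, nat_lit 3, nat_lit 0])) (.leaf ((nat_lit 148), [nat_lit 0, nat_lit 3, nat_lit 0]))) (.node (nat_lit 264) (.leaf ((nat_lit 149), [nat_lit 3, nat_lit 3, nat_lit 0, nat_lit 3])) (.leaf ((nat_lit 146), [nat_lit 2, nat_lit 2, nat_lit 1]))))
 (.node (nat_lit 267) (.node (nat_lit 266) (.leaf ((nat_lit 10), [nat_lit 0, nat_lit 2, nat_lit 0])) (.leaf ((nat_lit 82), [nat_lit 2, nat_lit 2, nat_lit 0, nat_lit 2, nat_lit 1, nat_lit 0]))) (.node (nat_lit 268) (.leaf ((nat_lit 150), [nat_lit 2, nat_lit 2, nat_lit 1])) (.node (nat_lit 269) (.leaf ((nat_lit 117), [nat_lit 2, nat_lit 2, nat_lit 1, nat_lit 0])) (.leaf ((nat_lit 151), [nat_lit 3, nat_lit 3, nat_lit 3, nat_lit 0]))))))))))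
noncomputable def n13Wd_2 : Tr (ℕ × List ℕ) := (.node (nat_lit 337) (.node (nat_lit 303) (.node (nat_lit 286) (.node (nat_lit 278) (.node (nat_lit 274) (.node (nat_lit 272) (.node (nat_lit 271) (.leaf ((nat_lit 125), [nat_lit 3, nat_lit 3, nat_lit 3, nat_lit 1])) (.leaf ((nat_lit 152), [nat_lit 2, nat_lit 2, nat_lit 0, nat_lit 2, nat_lit 0]))) (.node (nat_lit 273) (.leaf ((nat_lit 153), [nat_lit 3, nat_lit 1, nat_lit 0])) (.leaf ((nat_lit 59), [nat_lit 2, nat_lit 2]))))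
 (.node (nat_lit 276) (.node (nat_lit 275) (.leaf ((nat_lit 154), [nat_lit 2, nat_lit 2, nat_lit 2, nat_lit 1, nat_lit 0])) (.leaf ((nat_lit 10), [nat_lit 3, nat_lit 3, nat_lit 0, nat_lit 3, nat_lit 0]))) (.node (nat_lit 277) (.leaf ((nat_lit 11), [nat_lit 0, nat_lit 3, nat_lit 1, nat_lit 0])) (.leaf ((nat_lit 155), [nat_lit 0, nat_lit 3, nat_lit 1, nat_lit 0])))))
 (.node (nat_lit 282) (.node (nat_lit 280) (.node (nat_lit 279) (.leaf ((nat_lit 156), [nat_lit 2, nat_lit 2, nat_lit 2])) (.leaf ((nat_lit 80), [nat_lit 2, nat_lit 1, nat_lit 0]))) (.node (nat_lit 281) (.leaf ((nat_lit 157), [nat_lit 2, nat_lit 2, nat_lit 0, nat_lit 2, nat_lit 1])) (.leaf ((nat_lit 158), [nat_lit 3, nat_lit 3, nat_lit 1]))))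
 (.node (nat_lit 284) (.node (nat_lit 283) (.leaf ((nat_lit 155), [nat_lit 3, nat_lit 3, nat_lit 0, nat_lit 3, nat_lit 1])) (.leaf ((nat_lit 11), [nat_lit 3, nat_lit 3, nat_lit 0, nat_lit 3, nat_lit 1]))) (.node (nat_lit 285) (.leaf ((nat_lit 159), [nat_lit 2, nat_lit 0])) (.leaf ((nat_lit 131), [nat_lit 2, nat_lit 0, nat_lit 2, nat_lit 1, nat_lit 0]))))))
 (.node (nat_lit 294) (.node (nat_lit 290) (.node (nat_lit 288) (.node (nat_lit 287) (.leaf ((nat_lit 130), [nat_lit 2, nat_lit 2])) (.leaf ((nat_lit 160), [nat_lit 2, nat_lit 2, nat_lit 0, nat_lit 2, nat_lit 1]))) (.node (nat_lit 289) (.leaf ((nat_lit 156), [nat_lit 2, nat_lit 2, nat_lit 0, nat_lit 2, nat_lit 1, nat_lit 0])) (.leaf ((nat_lit 159), [nat_lit 2, nat_lit 2, nat_lit 2, nat_lit 0]))))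
 (.node (nat_lit 292) (.node (nat_lit 291) (.leaf ((nat_lit 11), [nat_lit 3, nat_lit 1, nat_lit 0])) (.leaf ((nat_lit 158), [nat_lit 3, nat_lit 3, nat_lit 0, nat_lit 3, nat_lit 0]))) (.node (nat_lit 293) (.leaf ((nat_lit 161), [nat_lit 3, nat_lit 3, nat_lit 0, nat_lit 3])) (.leaf ((nat_lit 162), [nat_lit 2, nat_lit 2, nat_lit 0])))))
 (.node (nat_lit 298) (.node (nat_lit 296) (.node (nat_lit 295) (.leaf ((nat_lit 89), [nat_lit 2, nat_lit 2, nat_lit 2, nat_lit 1])) (.leaf ((nat_lit 163), [nat_lit 2, nat_lit 0, nat_lit 2, nat_lit 1, nat_lit 0]))) (.node (nat_lit 297) (.leaf ((nat_lit 164), [nat_lit 2, nat_lit 2, nat_lit 2, nat_lit 1, nat_lit 0])) (.leaf ((nat_lit 11), [nat_lit 3, nat_lit 0]))))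
 (.node (nat_lit 300) (.node (nat_lit 299) (.leaf ((nat_lit 38), [nat_lit 1, nat_lit 0])) (.leaf ((nat_lit 165), [nat_lit 0, nat_lit 3]))) (.node (nat_lit 301) (.leaf ((nat_lit 75), [nat_lit 0, nat_lit 2, nat_lit 0])) (.node (nat_lit 302) (.leaf ((nat_lit 166), [nat_lit 3, nat_lit 3, nat_lit 0, nat_lit 3, nat_lit 0])) (.leaf ((nat_lit 167), [nat_lit 3, nat_lit 3, nat_lit 3, nat_lit 1, nat_lit 0]))))))))
 (.node (nat_lit 320) (.node (nat_lit 311) (.node (nat_lit 307) (.node (nat_lit 305) (.node (nat_lit 304) (.leaf ((nat_lit 38), [nat_lit 2, nat_lit 0, nat_lit 2, nat_lit 1])) (.leaf ((nat_lit 11), [nat_lit 2, nat_lit 1, nat_lit 0]))) (.node (nat_lit 306) (.leaf ((nat_lit 168), [nat_lit 2, nat_lit 0])) (.leaf ((nat_lit 169), [nat_lit 0, nat_lit 2, nat_lit 1, nat_lit 0]))))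
 (.node (nat_lit 309) (.node (nat_lit 308) (.leaf ((nat_lit 52), [nat_lit 1, nat_lit 0])) (.leaf ((nat_lit 170), [nat_lit 2, nat_lit 2, nat_lit 2, nat_lit 0]))) (.node (nat_lit 310) (.leaf ((nat_lit 51), [nat_lit 1])) (.leaf ((nat_lit 12), [nat_lit 3, nat_lit 3, nat_lit 3, nat_lit 1, nat_lit 0])))))
 (.node (nat_lit 315) (.node (nat_lit 313) (.node (nat_lit 312) (.leaf ((nat_lit 101), [nat_lit 3])) (.leaf ((nat_lit 171), [nat_lit 2, nat_lit 2, nat_lit 0, nat_lit 2, nat_lit 1]))) (.node (nat_lit 314) (.leaf ((nat_lit 51), [nat_lit 1, nat_lit 0])) (.leaf ((nat_lit 148), [nat_lit 3, nat_lit 3, nat_lit 3, nat_lit 1]))))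
 (.node (nat_lit 317) (.node (nat_lit 316) (.leaf ((nat_lit 172), [nat_lit 2])) (.leaf ((nat_lit 68), [nat_lit 3, nat_lit 3, nat_lit 0]))) (.node (nat_lit 318) (.leaf ((nat_lit 12), [nat_lit 2, nat_lit 2, nat_lit 0, nat_lit 2, nat_lit 1])) (.node (nat_lit 319) (.leaf ((nat_lit 13), [nat_lit 0, nat_lit 2])) (.leaf ((nat_lit 135), [nat_lit 3, nat_lit 3, nat_lit 3, nat_lit 1, nat_lit 0])))))))
 (.node (nat_lit 328) (.node (nat_lit 324) (.node (nat_lit 322) (.node (nat_lit 321) (.leaf ((nat_lit 71), [nat_lit 3, nat_lit 3, nat_lit 0, nat_lit 3, nat_lit 1, nat_lit 0])) (.leaf ((nat_lit 166), [nat_lit 3, nat_lit 0, nat_lit 3, nat_lit 0]))) (.node (nat_lit 323) (.leaf ((nat_lit 173), [nat_lit 2, nat_lit 2, nat_lit 1, nat_lit 0])) (.leaf ((nat_lit 174), [nat_lit 3, nat_lit 3, nat_lit 0, nat_lit 3, nat_lit 1]))))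
 (.node (nat_lit 326) (.node (nat_lit 325) (.leaf ((nat_lit 135), [nat_lit 2, nat_lit 2, nat_lit 0, nat_lit 2, nat_lit 0])) (.leaf ((nat_lit 13), []))) (.node (nat_lit 327) (.leaf ((nat_lit 72), [nat_lit 0, nat_lit 2, nat_lit 1, nat_lit 0])) (.leaf ((nat_lit 20), [nat_lit 3, nat_lit 1])))))
 (.node (nat_lit 332) (.node (nat_lit 330) (.node (nat_lit 329) (.leaf ((nat_lit 175), [])) (.leaf ((nat_lit 176), [nat_lit 2, nat_lit 2, nat_lit 0, nat_lit 2, nat_lit 1, nat_lit 0]))) (.node (nat_lit 331) (.leaf ((nat_lit 134), [nat_lit 3, nat_lit 3, nat_lit 0, nat_lit 3])) (.leaf ((nat_lit 177), [nat_lit 3, nat_lit 1, nat_lit 0]))))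
 (.node (nat_lit 334) (.node (nat_lit 333) (.leaf ((nat_lit 134), [nat_lit 3, nat_lit 3, nat_lit 3, nat_lit 0])) (.leaf ((nat_lit 14), [nat_lit 2, nat_lit 2, nat_lit 2, nat_lit 1]))) (.node (nat_lit 335) (.leaf ((nat_lit 13), [nat_lit 2, nat_lit 2, nat_lit 1])) (.node (nat_lit 336) (.leaf ((nat_lit 178), [nat_lit 2, nat_lit 1, nat_lit 0])) (.leaf ((nat_lit 56), [nat_lit 2, nat_lit 0, nat_lit 3, nat_lit 1])))))))))
 (.node (nat_lit 371) (.node (nat_lit 354) (.node (nat_lit 345) (.node (nat_lit 341) (.node (nat_lit 339) (.node (nat_lit 338) (.leaf ((nat_lit 179), [nat_lit 2, nat_lit 1])) (.leaf ((nat_lit 180), [nat_lit 3, nat_lit 3, nat_lit 1, nat_lit 0]))) (.node (nat_lit 340) (.leaf ((nat_lit 181), [nat_lit 2, nat_lit 0, nat_lit 3, nat_lit 0])) (.leaf ((nat_lit 182), [nat_lit 2, nat_lit 2, nat_lit 2, nat_lit 1, nat_lit 0]))))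
 (.node (nat_lit 343) (.node (nat_lit 342) (.leaf ((nat_lit 13), [nat_lit 3, nat_lit 3, nat_lit 3, nat_lit 1])) (.leaf ((nat_lit 14), [nat_lit 3, nat_lit 0, nat_lit 3, nat_lit 0]))) (.node (nat_lit 344) (.leaf ((nat_lit 165), [nat_lit 2, nat_lit 0, nat_lit 2, nat_lit 1, nat_lit 0])) (.leaf ((nat_lit 14), [nat_lit 3, nat_lit 3, nat_lit 1])))))
 (.node (nat_lit 349) (.node (nat_lit 347) (.node (nat_lit 346) (.leaf ((nat_lit 183), [nat_lit 3, nat_lit 3, nat_lit 3, nat_lit 1, nat_lit 0])) (.leaf ((nat_lit 170), [nat_lit 2, nat_lit 2, nat_lit 1]))) (.node (nat_lit 348) (.leaf ((nat_lit 184), [nat_lit 3])) (.leaf ((nat_lit 165), [nat_lit 2, nat_lit 0, nat_lit 2]))))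
 (.node (nat_lit 351) (.node (nat_lit 350) (.leaf ((nat_lit 14), [nat_lit 3, nat_lit 0, nat_lit 3, nat_lit 1])) (.leaf ((nat_lit 165), [nat_lit 2, nat_lit 2]))) (.node (nat_lit 352) (.leaf ((nat_lit 137), [nat_lit 3, nat_lit 3, nat_lit 0, nat_lit 3, nat_lit 1, nat_lit 0])) (.node (nat_lit 353) (.leaf ((nat_lit 24), [nat_lit 2, nat_lit 2, nat_lit 2, nat_lit 1, nat_lit 0])) (.leaf ((nat_lit 140), [nat_lit 3, nat_lit 1, nat_lit 0])))))))
 (.node (nat_lit 362) (.node (nat_lit 358) (.node (nat_lit 356) (.node (nat_lit 355) (.leaf ((nat_lit 185), [nat_lit 2, nat_lit 2])) (.leaf ((nat_lit 133), [nat_lit 2, nat_lit 0, nat_lit 3]))) (.node (nat_lit 357) (.leaf ((nat_lit 186), [nat_lit 3, nat_lit 3, nat_lit 0])) (.leaf ((nat_lit 45), [nat_lit 3, nat_lit 3]))))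
 (.node (nat_lit 360) (.node (nat_lit 359) (.leaf ((nat_lit 139), [nat_lit 1, nat_lit 0])) (.leaf ((nat_lit 14), [nat_lit 2, nat_lit 2, nat_lit 0]))) (.node (nat_lit 361) (.leaf ((nat_lit 60), [nat_lit 2, nat_lit 0, nat_lit 3])) (.leaf ((nat_lit 15), [nat_lit 3, nat_lit 3, nat_lit 0, nat_lit 3, nat_lit 1])))))
 (.node (nat_lit 366) (.node (nat_lit 364) (.node (nat_lit 363) (.leaf ((nat_lit 187), [nat_lit 2, nat_lit 1, nat_lit 0])) (.leaf ((nat_lit 188), [nat_lit 0, nat_lit 2, nat_lit 1, nat_lit 0]))) (.node (nat_lit 365) (.leaf ((nat_lit 179), [nat_lit 2, nat_lit 2, nat_lit 2, nat_lit 1, nat_lit 0])) (.leaf ((nat_lit 189), [nat_lit 3, nat_lit 3, nat_lit 0, nat_lit 3, nat_lit 0]))))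
 (.node (nat_lit 368) (.node (nat_lit 367) (.leaf ((nat_lit 61), [nat_lit 2, nat_lit 0, nat_lit 3])) (.leaf ((nat_lit 187), [nat_lit 0, nat_lit 2, nat_lit 0]))) (.node (nat_lit 369) (.leaf ((nat_lit 15), [nat_lit 3, nat_lit 3, nat_lit 3, nat_lit 1, nat_lit 0])) (.node (nat_lit 370) (.leaf ((nat_lit 190), [nat_lit 2, nat_lit 0])) (.leaf ((nat_lit 191), [nat_lit 2, nat_lit 1, nat_lit 0]))))))))
 (.node (nat_lit 388) (.node (nat_lit 379) (.node (nat_lit 375) (.node (nat_lit 373) (.node (nat_lit 372) (.leaf ((nat_lit 192), [nat_lit 3, nat_lit 3, nat_lit 1, nat_lit 0])) (.leaf ((nat_lit 62), [nat_lit 1, nat_lit 0]))) (.node (nat_lit 374) (.leaf ((nat_lit 193), [nat_lit 2, nat_lit 2, nat_lit 0])) (.leaf ((nat_lit 194), [nat_lit 2, nat_lit 2, nat_lit 1]))))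
 (.node (nat_lit 377) (.node (nat_lit 376) (.leaf ((nat_lit 15), [nat_lit 2, nat_lit 1, nat_lit 0])) (.leaf ((nat_lit 195), [nat_lit 2, nat_lit 2, nat_lit 2, nat_lit 1, nat_lit 0]))) (.node (nat_lit 378) (.leaf ((nat_lit 146), [nat_lit 3, nat_lit 0, nat_lit 3, nat_lit 1])) (.leaf ((nat_lit 63), [nat_lit 2, nat_lit 0, nat_lit 3, nat_lit 1, nat_lit 0])))))
 (.node (nat_lit 383) (.node (nat_lit 381) (.node (nat_lit 380) (.leaf ((nat_lit 182), [nat_lit 2, nat_lit 2])) (.leaf ((nat_lit 196), [nat_lit 1, nat_lit 0]))) (.node (nat_lit 382) (.leaf ((nat_lit 195), [nat_lit 2, nat_lit 2, nat_lit 2, nat_lit 1, nat_lit 0])) (.leaf ((nat_lit 15), [nat_lit 2, nat_lit 1, nat_lit 0]))))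
 (.node (nat_lit 385) (.node (nat_lit 384) (.leaf ((nat_lit 197), [nat_lit 2, nat_lit 0])) (.leaf ((nat_lit 16), [nat_lit 3, nat_lit 1, nat_lit 0]))) (.node (nat_lit 386) (.leaf ((nat_lit 64), [nat_lit 2, nat_lit 0, nat_lit 3, nat_lit 0])) (.node (nat_lit 387) (.leaf ((nat_lit 198), [])) (.leaf ((nat_lit 199), [nat_lit 2, nat_lit 1, nat_lit 0])))))))
 (.node (nat_lit 396) (.node (nat_lit 392) (.node (nat_lit 390) (.node (nat_lit 389) (.leaf ((nat_lit 200), [nat_lit 2, nat_lit 0, nat_lit 2, nat_lit 1, nat_lit 0])) (.leaf ((nat_lit 201), [nat_lit 1, nat_lit 0]))) (.node (nat_lit 391) (.leaf ((nat_lit 198), [nat_lit 2, nat_lit 2, nat_lit 2, nat_lit 1])) (.leaf ((nat_lit 65), [nat_lit 0]))))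
 (.node (nat_lit 394) (.node (nat_lit 393) (.leaf ((nat_lit 16), [nat_lit 2, nat_lit 0, nat_lit 2, nat_lit 1, nat_lit 0])) (.leaf ((nat_lit 72), [nat_lit 2, nat_lit 2, nat_lit 2, nat_lit 1]))) (.node (nat_lit 395) (.leaf ((nat_lit 202), [nat_lit 2, nat_lit 2, nat_lit 0, nat_lit 2, nat_lit 1])) (.leaf ((nat_lit 203), [nat_lit 0, nat_lit 2, nat_lit 1, nat_lit 0])))))
 (.node (nat_lit 400) (.node (nat_lit 398) (.node (nat_lit 397) (.leaf ((nat_lit 204), [nat_lit 1, nat_lit 0])) (.leaf ((nat_lit 205), [nat_lit 3, nat_lit 3, nat_lit 1]))) (.node (nat_lit 399) (.leaf ((nat_lit 206), [nat_lit 2, nat_lit 2, nat_lit 2, nat_lit 1])) (.leaf ((nat_lit 17), [nat_lit 2, nat_lit 2, nat_lit 1]))))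
 (.node (nat_lit 402) (.node (nat_lit 401) (.leaf ((nat_lit 16), [nat_lit 2, nat_lit 2, nat_lit 1])) (.leaf ((nat_lit 207), [nat_lit 2, nat_lit 2, nat_lit 0, nat_lit 2, nat_lit 0]))) (.node (nat_lit 403) (.leaf ((nat_lit 208), [])) (.node (nat_lit 404) (.leaf ((nat_lit 67), [nat_lit 0])) (.leaf ((nat_lit 209), [nat_lit 3, nat_lit 0, nat_lit 3, nat_lit 1]))))))))))
noncomputable def n13Wd_3 : Tr (ℕ × List ℕ) := (.node (nat_lit 472) (.node (nat_lit 438) (.node (nat_lit 421) (.node (nat_lit 413) (.node (nat_lit 409) (.node (nat_lit 407) (.node (nat_lit 406) (.leaf ((nat_lit 210), [nat_lit 3, nat_lit 3, nat_lit 0, nat_lit 3, nat_lit 1])) (.leaf ((nat_lit 211), [nat_lit 2, nat_lit 2, nat_lit 2, nat_lit 1, nat_lit 0]))) (.node (nat_lit 408) (.leaf ((nat_lit 16), [nat_lit 0, nat_lit 3, nat_lit 0])) (.leaf ((nat_lit 17), []))))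
 (.node (nat_lit 411) (.node (nat_lit 410) (.leaf ((nat_lit 17), [nat_lit 2, nat_lit 0, nat_lit 3, nat_lit 0])) (.leaf ((nat_lit 26), [nat_lit 0, nat_lit 3, nat_lit 1]))) (.node (nat_lit 412) (.leaf ((nat_lit 153), [nat_lit 2, nat_lit 0, nat_lit 3, nat_lit 1, nat_lit 0])) (.leaf ((nat_lit 52), [nat_lit 2, nat_lit 2, nat_lit 1, nat_lit 0])))))
 (.node (nat_lit 417) (.node (nat_lit 415) (.node (nat_lit 414) (.leaf ((nat_lit 212), [nat_lit 2, nat_lit 2, nat_lit 2, nat_lit 1])) (.leaf ((nat_lit 26), [nat_lit 2, nat_lit 0, nat_lit 2, nat_lit 1, nat_lit 0]))) (.node (nat_lit 416) (.leaf ((nat_lit 26), [nat_lit 2, nat_lit 0, nat_lit 2, nat_lit 1])) (.leaf ((nat_lit 17), [nat_lit 2, nat_lit 2, nat_lit 2, nat_lit 1, nat_lit 0]))))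
 (.node (nat_lit 419) (.node (nat_lit 418) (.leaf ((nat_lit 213), [nat_lit 2, nat_lit 2, nat_lit 0, nat_lit 2])) (.leaf ((nat_lit 25), [nat_lit 3, nat_lit 3, nat_lit 3, nat_lit 1]))) (.node (nat_lit 420) (.leaf ((nat_lit 214), [nat_lit 3, nat_lit 3, nat_lit 0, nat_lit 3, nat_lit 1])) (.leaf ((nat_lit 206), [nat_lit 3, nat_lit 1]))))))
 (.node (nat_lit 429) (.node (nat_lit 425) (.node (nat_lit 423) (.node (nat_lit 422) (.leaf ((nat_lit 215), [nat_lit 0, nat_lit 3, nat_lit 1, nat_lit 0])) (.leaf ((nat_lit 204), [nat_lit 2, nat_lit 2, nat_lit 2]))) (.node (nat_lit 424) (.leaf ((nat_lit 110), [nat_lit 2, nat_lit 0, nat_lit 3, nat_lit 0])) (.leaf ((nat_lit 216), [nat_lit 2, nat_lit 0, nat_lit 2, nat_lit 1, nat_lit 0]))))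
 (.node (nat_lit 427) (.node (nat_lit 426) (.leaf ((nat_lit 17), [nat_lit 2, nat_lit 0, nat_lit 2, nat_lit 0])) (.leaf ((nat_lit 18), [nat_lit 2, nat_lit 2, nat_lit 2, nat_lit 1]))) (.node (nat_lit 428) (.leaf ((nat_lit 217), [nat_lit 0, nat_lit 2])) (.leaf ((nat_lit 53), [nat_lit 2, nat_lit 2, nat_lit 0, nat_lit 2, nat_lit 1])))))
 (.node (nat_lit 433) (.node (nat_lit 431) (.node (nat_lit 430) (.leaf ((nat_lit 113), [nat_lit 3, nat_lit 1])) (.leaf ((nat_lit 71), [nat_lit 2, nat_lit 0, nat_lit 3]))) (.node (nat_lit 432) (.leaf ((nat_lit 218), [nat_lit 2, nat_lit 2])) (.leaf ((nat_lit 217), [nat_lit 2, nat_lit 2, nat_lit 0, nat_lit 2, nat_lit 1, nat_lit 0]))))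
 (.node (nat_lit 435) (.node (nat_lit 434) (.leaf ((nat_lit 18), [nat_lit 3, nat_lit 3])) (.leaf ((nat_lit 54), [nat_lit 0, nat_lit 3, nat_lit 1]))) (.node (nat_lit 436) (.leaf ((nat_lit 65), [nat_lit 3, nat_lit 3, nat_lit 3, nat_lit 0])) (.node (nat_lit 437) (.leaf ((nat_lit 219), [nat_lit 0, nat_lit 3, nat_lit 1])) (.leaf ((nat_lit 220), [nat_lit 3, nat_lit 3, nat_lit 0, nat_lit 3, nat_lit 1]))))))))
 (.node (nat_lit 455) (.node (nat_lit 446) (.node (nat_lit 442) (.node (nat_lit 440) (.node (nat_lit 439) (.leaf ((nat_lit 79), [nat_lit 2, nat_lit 1, nat_lit 0])) (.leaf ((nat_lit 221), [nat_lit 2, nat_lit 2, nat_lit 1, nat_lit 0]))) (.node (nat_lit 441) (.leaf ((nat_lit 222), [nat_lit 2])) (.leaf ((nat_lit 73), [nat_lit 2, nat_lit 0, nat_lit 3, nat_lit 1, nat_lit 0]))))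
 (.node (nat_lit 444) (.node (nat_lit 443) (.leaf ((nat_lit 18), [nat_lit 2, nat_lit 2])) (.leaf ((nat_lit 223), [nat_lit 0, nat_lit 2]))) (.node (nat_lit 445) (.leaf ((nat_lit 20), [nat_lit 0, nat_lit 3, nat_lit 1, nat_lit 0])) (.leaf ((nat_lit 19), [nat_lit 2, nat_lit 2, nat_lit 2, nat_lit 1])))))
 (.node (nat_lit 450) (.node (nat_lit 448) (.node (nat_lit 447) (.leaf ((nat_lit 19), [nat_lit 2, nat_lit 2, nat_lit 0, nat_lit 2, nat_lit 1, nat_lit 0])) (.leaf ((nat_lit 224), [nat_lit 2, nat_lit 1, nat_lit 0]))) (.node (nat_lit 449) (.leaf ((nat_lit 225), [nat_lit 3, nat_lit 3, nat_lit 3, nat_lit 1, nat_lit 0])) (.leaf ((nat_lit 226), [nat_lit 2, nat_lit 0, nat_lit 3, nat_lit 0]))))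
 (.node (nat_lit 452) (.node (nat_lit 451) (.leaf ((nat_lit 50), [nat_lit 0, nat_lit 3, nat_lit 0])) (.leaf ((nat_lit 145), [nat_lit 2, nat_lit 0, nat_lit 3, nat_lit 1]))) (.node (nat_lit 453) (.leaf ((nat_lit 199), [nat_lit 2])) (.node (nat_lit 454) (.leaf ((nat_lit 19), [nat_lit 2, nat_lit 2, nat_lit 0])) (.leaf ((nat_lit 227), [nat_lit 3, nat_lit 0, nat_lit 3, nat_lit 1])))))))
 (.node (nat_lit 463) (.node (nat_lit 459) (.node (nat_lit 457) (.node (nat_lit 456) (.leaf ((nat_lit 228), [nat_lit 3, nat_lit 3, nat_lit 0])) (.leaf ((nat_lit 147), [nat_lit 2, nat_lit 0, nat_lit 3, nat_lit 1]))) (.node (nat_lit 458) (.leaf ((nat_lit 229), [nat_lit 3, nat_lit 0, nat_lit 3, nat_lit 1, nat_lit 0])) (.leaf ((nat_lit 229), [nat_lit 3, nat_lit 0, nat_lit 3, nat_lit 0]))))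
 (.node (nat_lit 461) (.node (nat_lit 460) (.leaf ((nat_lit 227), [nat_lit 0])) (.leaf ((nat_lit 19), [nat_lit 3, nat_lit 3, nat_lit 3, nat_lit 1, nat_lit 0]))) (.node (nat_lit 462) (.leaf ((nat_lit 230), [nat_lit 2, nat_lit 1, nat_lit 0])) (.leaf ((nat_lit 96), [nat_lit 2, nat_lit 2, nat_lit 0, nat_lit 2])))))
 (.node (nat_lit 467) (.node (nat_lit 465) (.node (nat_lit 464) (.leaf ((nat_lit 167), [nat_lit 3, nat_lit 3, nat_lit 3, nat_lit 1, nat_lit 0])) (.leaf ((nat_lit 166), [nat_lit 3, nat_lit 3, nat_lit 0, nat_lit 3, nat_lit 0]))) (.node (nat_lit 466) (.leaf ((nat_lit 31), [nat_lit 2, nat_lit 0, nat_lit 2, nat_lit 1])) (.leaf ((nat_lit 77), [nat_lit 2, nat_lit 0, nat_lit 3, nat_lit 0]))))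
 (.node (nat_lit 469) (.node (nat_lit 468) (.leaf ((nat_lit 19), [nat_lit 3, nat_lit 1, nat_lit 0])) (.leaf ((nat_lit 231), [nat_lit 2, nat_lit 2, nat_lit 2, nat_lit 1, nat_lit 0]))) (.node (nat_lit 470) (.leaf ((nat_lit 232), [nat_lit 0])) (.node (nat_lit 471) (.leaf ((nat_lit 232), [])) (.leaf ((nat_lit 175), [nat_lit 2, nat_lit 2, nat_lit 0, nat_lit 2, nat_lit 1, nat_lit 0])))))))))
 (.node (nat_lit 506) (.node (nat_lit 489) (.node (nat_lit 480) (.node (nat_lit 476) (.node (nat_lit 474) (.node (nat_lit 473) (.leaf ((nat_lit 20), [nat_lit 2, nat_lit 2])) (.leaf ((nat_lit 233), [nat_lit 2, nat_lit 0, nat_lit 2]))) (.node (nat_lit 475) (.leaf ((nat_lit 73), [nat_lit 0, nat_lit 3, nat_lit 1, nat_lit 0])) (.leaf ((nat_lit 211), [nat_lit 2, nat_lit 0, nat_lit 3, nat_lit 1, nat_lit 0]))))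
 (.node (nat_lit 478) (.node (nat_lit 477) (.leaf ((nat_lit 234), [nat_lit 0, nat_lit 2])) (.leaf ((nat_lit 235), [nat_lit 2, nat_lit 2, nat_lit 2, nat_lit 1, nat_lit 0]))) (.node (nat_lit 479) (.leaf ((nat_lit 79), [nat_lit 2, nat_lit 0, nat_lit 3, nat_lit 0])) (.leaf ((nat_lit 20), [nat_lit 2, nat_lit 2, nat_lit 1])))))
 (.node (nat_lit 484) (.node (nat_lit 482) (.node (nat_lit 481) (.leaf ((nat_lit 21), [nat_lit 0, nat_lit 3, nat_lit 1])) (.leaf ((nat_lit 236), [nat_lit 0, nat_lit 3, nat_lit 1, nat_lit 0]))) (.node (nat_lit 483) (.leaf ((nat_lit 236), [nat_lit 3, nat_lit 1, nat_lit 0])) (.leaf ((nat_lit 46), [nat_lit 0, nat_lit 3, nat_lit 1, nat_lit 0]))))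
 (.node (nat_lit 486) (.node (nat_lit 485) (.leaf ((nat_lit 237), [nat_lit 2, nat_lit 2, nat_lit 0, nat_lit 2, nat_lit 0])) (.leaf ((nat_lit 238), [nat_lit 2, nat_lit 1]))) (.node (nat_lit 487) (.leaf ((nat_lit 236), [nat_lit 2, nat_lit 2, nat_lit 1, nat_lit 0])) (.node (nat_lit 488) (.leaf ((nat_lit 21), [nat_lit 2, nat_lit 2, nat_lit 0])) (.leaf ((nat_lit 21), [nat_lit 2, nat_lit 2, nat_lit 1])))))))
 (.node (nat_lit 497) (.node (nat_lit 493) (.node (nat_lit 491) (.node (nat_lit 490) (.leaf ((nat_lit 239), [nat_lit 2, nat_lit 0, nat_lit 3])) (.leaf ((nat_lit 232), [nat_lit 3, nat_lit 3, nat_lit 3, nat_lit 1, nat_lit 0]))) (.node (nat_lit 492) (.leaf ((nat_lit 240), [nat_lit 3, nat_lit 3, nat_lit 3, nat_lit 1])) (.leaf ((nat_lit 241), [nat_lit 2, nat_lit 2, nat_lit 0, nat_lit 2, nat_lit 0]))))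
 (.node (nat_lit 495) (.node (nat_lit 494) (.leaf ((nat_lit 29), [nat_lit 2, nat_lit 0, nat_lit 3, nat_lit 1, nat_lit 0])) (.leaf ((nat_lit 44), [nat_lit 3, nat_lit 3, nat_lit 3, nat_lit 1]))) (.node (nat_lit 496) (.leaf ((nat_lit 242), [nat_lit 3, nat_lit 3, nat_lit 3, nat_lit 1])) (.leaf ((nat_lit 82), [nat_lit 2, nat_lit 0, nat_lit 3, nat_lit 1, nat_lit 0])))))
 (.node (nat_lit 501) (.node (nat_lit 499) (.node (nat_lit 498) (.leaf ((nat_lit 21), [nat_lit 2, nat_lit 2, nat_lit 2, nat_lit 1])) (.leaf ((nat_lit 22), [nat_lit 3, nat_lit 3, nat_lit 1]))) (.node (nat_lit 500) (.leaf ((nat_lit 30), [nat_lit 2, nat_lit 2, nat_lit 0, nat_lit 2, nat_lit 1, nat_lit 0])) (.leaf ((nat_lit 243), [nat_lit 2, nat_lit 2, nat_lit 1, nat_lit 0]))))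
 (.node (nat_lit 503) (.node (nat_lit 502) (.leaf ((nat_lit 83), [nat_lit 0])) (.leaf ((nat_lit 220), [nat_lit 2, nat_lit 2, nat_lit 0, nat_lit 2, nat_lit 0]))) (.node (nat_lit 504) (.leaf ((nat_lit 204), [nat_lit 2, nat_lit 0, nat_lit 3, nat_lit 1])) (.node (nat_lit 505) (.leaf ((nat_lit 30), [nat_lit 3, nat_lit 3, nat_lit 0, nat_lit 3, nat_lit 0])) (.leaf ((nat_lit 22), [nat_lit 3, nat_lit 0]))))))))
 (.node (nat_lit 523) (.node (nat_lit 514) (.node (nat_lit 510) (.node (nat_lit 508) (.node (nat_lit 507) (.leaf ((nat_lit 244), [nat_lit 2, nat_lit 2, nat_lit 2])) (.leaf ((nat_lit 245), [nat_lit 3, nat_lit 3, nat_lit 0, nat_lit 3, nat_lit 0]))) (.node (nat_lit 509) (.leaf ((nat_lit 203), [nat_lit 3, nat_lit 0, nat_lit 3, nat_lit 0])) (.leaf ((nat_lit 246), [nat_lit 2]))))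
 (.node (nat_lit 512) (.node (nat_lit 511) (.leaf ((nat_lit 243), [nat_lit 3, nat_lit 3, nat_lit 0, nat_lit 3, nat_lit 0])) (.leaf ((nat_lit 244), [nat_lit 3, nat_lit 3, nat_lit 3, nat_lit 0]))) (.node (nat_lit 513) (.leaf ((nat_lit 22), [nat_lit 2, nat_lit 0, nat_lit 3, nat_lit 1])) (.leaf ((nat_lit 34), [nat_lit 3, nat_lit 0, nat_lit 3, nat_lit 1, nat_lit 0])))))
 (.node (nat_lit 518) (.node (nat_lit 516) (.node (nat_lit 515) (.leaf ((nat_lit 247), [])) (.leaf ((nat_lit 87), [nat_lit 3, nat_lit 0, nat_lit 3]))) (.node (nat_lit 517) (.leaf ((nat_lit 248), [nat_lit 2, nat_lit 1])) (.leaf ((nat_lit 249), [nat_lit 3, nat_lit 3, nat_lit 0, nat_lit 3, nat_lit 1]))))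
 (.node (nat_lit 520) (.node (nat_lit 519) (.leaf ((nat_lit 151), [nat_lit 0, nat_lit 3, nat_lit 0])) (.leaf ((nat_lit 22), [nat_lit 3, nat_lit 3, nat_lit 0, nat_lit 3, nat_lit 1, nat_lit 0]))) (.node (nat_lit 521) (.leaf ((nat_lit 86), [nat_lit 2, nat_lit 0, nat_lit 3, nat_lit 0])) (.node (nat_lit 522) (.leaf ((nat_lit 250), [nat_lit 3, nat_lit 3, nat_lit 3, nat_lit 0])) (.leaf ((nat_lit 24), [nat_lit 0, nat_lit 3])))))))
 (.node (nat_lit 531) (.node (nat_lit 527) (.node (nat_lit 525) (.node (nat_lit 524) (.leaf ((nat_lit 23), [nat_lit 2, nat_lit 1, nat_lit 0])) (.leaf ((nat_lit 251), [nat_lit 2, nat_lit 2]))) (.node (nat_lit 526) (.leaf ((nat_lit 115), [nat_lit 0, nat_lit 3, nat_lit 1, nat_lit 0])) (.leaf ((nat_lit 107), [nat_lit 0, nat_lit 2, nat_lit 1, nat_lit 0]))))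
 (.node (nat_lit 529) (.node (nat_lit 528) (.leaf ((nat_lit 85), [nat_lit 2, nat_lit 0, nat_lit 2])) (.leaf ((nat_lit 25), []))) (.node (nat_lit 530) (.leaf ((nat_lit 251), [nat_lit 2])) (.leaf ((nat_lit 23), [nat_lit 2, nat_lit 0, nat_lit 3, nat_lit 1, nat_lit 0])))))
 (.node (nat_lit 535) (.node (nat_lit 533) (.node (nat_lit 532) (.leaf ((nat_lit 252), [nat_lit 3, nat_lit 3, nat_lit 0])) (.leaf ((nat_lit 253), [nat_lit 3, nat_lit 3, nat_lit 0, nat_lit 3, nat_lit 1, nat_lit 0]))) (.node (nat_lit 534) (.leaf ((nat_lit 254), [nat_lit 3, nat_lit 3, nat_lit 0, nat_lit 3, nat_lit 1])) (.leaf ((nat_lit 49), [nat_lit 3, nat_lit 3, nat_lit 3, nat_lit 0]))))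
 (.node (nat_lit 537) (.node (nat_lit 536) (.leaf ((nat_lit 164), [])) (.leaf ((nat_lit 163), [nat_lit 0, nat_lit 3, nat_lit 1]))) (.node (nat_lit 538) (.leaf ((nat_lit 23), [nat_lit 2, nat_lit 2, nat_lit 2, nat_lit 0])) (.node (nat_lit 539) (.leaf ((nat_lit 255), [nat_lit 2, nat_lit 0, nat_lit 3])) (.leaf ((nat_lit 177), []))))))))))
noncomputable def n13Wd_4 : Tr (ℕ × List ℕ) := (.node (nat_lit 607) (.node (nat_lit 573) (.node (nat_lit 556) (.node (nat_lit 548) (.node (nat_lit 544) (.node (nat_lit 542) (.node (nat_lit 541) (.leaf ((nat_lit 148), [nat_lit 3])) (.leaf ((nat_lit 256), [nat_lit 0, nat_lit 3, nat_lit 1]))) (.node (nat_lit 543) (.leaf ((nat_lit 171), [nat_lit 3, nat_lit 3, nat_lit 1])) (.leaf ((nat_lit 255), [nat_lit 3, nat_lit 3]))))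
 (.node (nat_lit 546) (.node (nat_lit 545) (.leaf ((nat_lit 23), [nat_lit 2, nat_lit 1, nat_lit 0])) (.leaf ((nat_lit 257), [nat_lit 2, nat_lit 0, nat_lit 2, nat_lit 1, nat_lit 0]))) (.node (nat_lit 547) (.leaf ((nat_lit 258), [nat_lit 2, nat_lit 1, nat_lit 0])) (.leaf ((nat_lit 234), [nat_lit 2, nat_lit 2, nat_lit 2, nat_lit 0])))))
 (.node (nat_lit 552) (.node (nat_lit 550) (.node (nat_lit 549) (.leaf ((nat_lit 211), [nat_lit 2, nat_lit 2, nat_lit 0])) (.leaf ((nat_lit 184), [nat_lit 3, nat_lit 0, nat_lit 3, nat_lit 1]))) (.node (nat_lit 551) (.leaf ((nat_lit 259), [nat_lit 2, nat_lit 2, nat_lit 0, nat_lit 2, nat_lit 1, nat_lit 0])) (.leaf ((nat_lit 23), [nat_lit 3, nat_lit 3, nat_lit 3, nat_lit 1, nat_lit 0]))))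
 (.node (nat_lit 554) (.node (nat_lit 553) (.leaf ((nat_lit 251), [nat_lit 0])) (.leaf ((nat_lit 25), [nat_lit 3, nat_lit 0]))) (.node (nat_lit 555) (.leaf ((nat_lit 24), [nat_lit 3, nat_lit 3, nat_lit 0, nat_lit 3])) (.leaf ((nat_lit 92), [nat_lit 0]))))))
 (.node (nat_lit 564) (.node (nat_lit 560) (.node (nat_lit 558) (.node (nat_lit 557) (.leaf ((nat_lit 241), [nat_lit 3, nat_lit 3, nat_lit 3, nat_lit 1, nat_lit 0])) (.leaf ((nat_lit 260), [nat_lit 2, nat_lit 2, nat_lit 0, nat_lit 2, nat_lit 1, nat_lit 0]))) (.node (nat_lit 559) (.leaf ((nat_lit 131), [nat_lit 2, nat_lit 2, nat_lit 2, nat_lit 0])) (.leaf ((nat_lit 239), [nat_lit 3, nat_lit 3, nat_lit 3, nat_lit 1, nat_lit 0]))))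
 (.node (nat_lit 562) (.node (nat_lit 561) (.leaf ((nat_lit 261), [nat_lit 3, nat_lit 3, nat_lit 0, nat_lit 3, nat_lit 0])) (.leaf ((nat_lit 24), [nat_lit 2, nat_lit 2, nat_lit 0, nat_lit 2, nat_lit 0]))) (.node (nat_lit 563) (.leaf ((nat_lit 137), [nat_lit 3, nat_lit 3, nat_lit 3, nat_lit 1])) (.leaf ((nat_lit 262), [nat_lit 0])))))
 (.node (nat_lit 568) (.node (nat_lit 566) (.node (nat_lit 565) (.leaf ((nat_lit 94), [nat_lit 1])) (.leaf ((nat_lit 196), [nat_lit 2, nat_lit 0, nat_lit 2, nat_lit 0]))) (.node (nat_lit 567) (.leaf ((nat_lit 182), [nat_lit 3, nat_lit 3, nat_lit 3, nat_lit 1, nat_lit 0])) (.leaf ((nat_lit 179), [nat_lit 3, nat_lit 0, nat_lit 3, nat_lit 1]))))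
 (.node (nat_lit 570) (.node (nat_lit 569) (.leaf ((nat_lit 188), [nat_lit 2, nat_lit 2, nat_lit 0, nat_lit 2, nat_lit 1, nat_lit 0])) (.leaf ((nat_lit 24), [nat_lit 2, nat_lit 0, nat_lit 2, nat_lit 0]))) (.node (nat_lit 571) (.leaf ((nat_lit 203), [nat_lit 3, nat_lit 0, nat_lit 3, nat_lit 0])) (.node (nat_lit 572) (.leaf ((nat_lit 95), [nat_lit 2, nat_lit 0, nat_lit 3])) (.leaf ((nat_lit 263), [nat_lit 2, nat_lit 2, nat_lit 2, nat_lit 1]))))))))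
 (.node (nat_lit 590) (.node (nat_lit 581) (.node (nat_lit 577) (.node (nat_lit 575) (.node (nat_lit 574) (.leaf ((nat_lit 25), [nat_lit 3, nat_lit 0, nat_lit 3])) (.leaf ((nat_lit 213), [nat_lit 3, nat_lit 3, nat_lit 3, nat_lit 1]))) (.node (nat_lit 576) (.leaf ((nat_lit 264), [nat_lit 3, nat_lit 3, nat_lit 3, nat_lit 1, nat_lit 0])) (.leaf ((nat_lit 77), [nat_lit 3, nat_lit 3, nat_lit 0, nat_lit 3, nat_lit 1]))))
 (.node (nat_lit 579) (.node (nat_lit 578) (.leaf ((nat_lit 199), [nat_lit 0, nat_lit 3, nat_lit 0])) (.leaf ((nat_lit 145), [nat_lit 3, nat_lit 0, nat_lit 3, nat_lit 1, nat_lit 0]))) (.node (nat_lit 580) (.leaf ((nat_lit 96), [nat_lit 1, nat_lit 0])) (.leaf ((nat_lit 265), [nat_lit 2, nat_lit 2, nat_lit 0, nat_lit 2, nat_lit 0])))))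
 (.node (nat_lit 585) (.node (nat_lit 583) (.node (nat_lit 582) (.leaf ((nat_lit 25), [nat_lit 3, nat_lit 0])) (.leaf ((nat_lit 266), [nat_lit 2, nat_lit 2, nat_lit 2, nat_lit 1, nat_lit 0]))) (.node (nat_lit 584) (.leaf ((nat_lit 238), [nat_lit 3, nat_lit 0, nat_lit 3, nat_lit 1, nat_lit 0])) (.leaf ((nat_lit 259), [nat_lit 0, nat_lit 2, nat_lit 0]))))
 (.node (nat_lit 587) (.node (nat_lit 586) (.leaf ((nat_lit 26), [nat_lit 0, nat_lit 2])) (.leaf ((nat_lit 209), [nat_lit 2, nat_lit 2, nat_lit 1]))) (.node (nat_lit 588) (.leaf ((nat_lit 33), [nat_lit 2, nat_lit 0, nat_lit 3])) (.node (nat_lit 589) (.leaf ((nat_lit 29), [nat_lit 3, nat_lit 3, nat_lit 0, nat_lit 3, nat_lit 0])) (.leaf ((nat_lit 241), [])))))))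
 (.node (nat_lit 598) (.node (nat_lit 594) (.node (nat_lit 592) (.node (nat_lit 591) (.leaf ((nat_lit 43), [nat_lit 0, nat_lit 2, nat_lit 1, nat_lit 0])) (.leaf ((nat_lit 209), [nat_lit 2, nat_lit 1]))) (.node (nat_lit 593) (.leaf ((nat_lit 26), [])) (.leaf ((nat_lit 267), [nat_lit 1]))))
 (.node (nat_lit 596) (.node (nat_lit 595) (.leaf ((nat_lit 28), [nat_lit 2, nat_lit 2])) (.leaf ((nat_lit 28), [nat_lit 2, nat_lit 2, nat_lit 1, nat_lit 0]))) (.node (nat_lit 597) (.leaf ((nat_lit 27), [nat_lit 2, nat_lit 2, nat_lit 0, nat_lit 2, nat_lit 1])) (.leaf ((nat_lit 268), [nat_lit 2, nat_lit 2, nat_lit 2, nat_lit 0])))))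
 (.node (nat_lit 602) (.node (nat_lit 600) (.node (nat_lit 599) (.leaf ((nat_lit 223), [nat_lit 2, nat_lit 2, nat_lit 1, nat_lit 0])) (.leaf ((nat_lit 216), [nat_lit 3, nat_lit 3, nat_lit 0]))) (.node (nat_lit 601) (.leaf ((nat_lit 269), [])) (.leaf ((nat_lit 242), [nat_lit 2, nat_lit 0, nat_lit 2, nat_lit 0]))))
 (.node (nat_lit 604) (.node (nat_lit 603) (.leaf ((nat_lit 270), [nat_lit 2, nat_lit 2, nat_lit 0, nat_lit 2])) (.leaf ((nat_lit 27), [nat_lit 3, nat_lit 3, nat_lit 1]))) (.node (nat_lit 605) (.leaf ((nat_lit 127), [nat_lit 2, nat_lit 2, nat_lit 0, nat_lit 2, nat_lit 1, nat_lit 0])) (.node (nat_lit 606) (.leaf ((nat_lit 271), [nat_lit 0, nat_lit 3, nat_lit 1, nat_lit 0])) (.leaf ((nat_lit 213), [nat_lit 2, nat_lit 2, nat_lit 1, nat_lit 0])))))))))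
 (.node (nat_lit 641) (.node (nat_lit 624) (.node (nat_lit 615) (.node (nat_lit 611) (.node (nat_lit 609) (.node (nat_lit 608) (.leaf ((nat_lit 220), [nat_lit 2, nat_lit 2, nat_lit 0])) (.leaf ((nat_lit 102), [nat_lit 2]))) (.node (nat_lit 610) (.leaf ((nat_lit 127), [nat_lit 2, nat_lit 2, nat_lit 0, nat_lit 2, nat_lit 0])) (.leaf ((nat_lit 27), [nat_lit 3, nat_lit 3]))))
 (.node (nat_lit 613) (.node (nat_lit 612) (.leaf ((nat_lit 51), [nat_lit 2])) (.leaf ((nat_lit 272), [nat_lit 2, nat_lit 0, nat_lit 3]))) (.node (nat_lit 614) (.leaf ((nat_lit 189), [nat_lit 2, nat_lit 0, nat_lit 2, nat_lit 1, nat_lit 0])) (.leaf ((nat_lit 101), [nat_lit 3])))))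
 (.node (nat_lit 619) (.node (nat_lit 617) (.node (nat_lit 616) (.leaf ((nat_lit 231), [nat_lit 2, nat_lit 1])) (.leaf ((nat_lit 212), [nat_lit 2, nat_lit 2, nat_lit 2]))) (.node (nat_lit 618) (.leaf ((nat_lit 27), [nat_lit 3, nat_lit 0, nat_lit 3, nat_lit 1, nat_lit 0])) (.leaf ((nat_lit 210), [nat_lit 0, nat_lit 2, nat_lit 0]))))
 (.node (nat_lit 621) (.node (nat_lit 620) (.leaf ((nat_lit 233), [nat_lit 3, nat_lit 3, nat_lit 1])) (.leaf ((nat_lit 257), [nat_lit 0, nat_lit 3, nat_lit 0]))) (.node (nat_lit 622) (.leaf ((nat_lit 28), [nat_lit 3, nat_lit 3, nat_lit 3, nat_lit 1, nat_lit 0])) (.node (nat_lit 623) (.leaf ((nat_lit 198), [nat_lit 2, nat_lit 2, nat_lit 0, nat_lit 2, nat_lit 1, nat_lit 0])) (.leaf ((nat_lit 128), [nat_lit 3, nat_lit 3, nat_lit 1, nat_lit 0])))))))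
 (.node (nat_lit 632) (.node (nat_lit 628) (.node (nat_lit 626) (.node (nat_lit 625) (.leaf ((nat_lit 273), [nat_lit 0, nat_lit 2])) (.leaf ((nat_lit 267), [nat_lit 3, nat_lit 3, nat_lit 0]))) (.node (nat_lit 627) (.leaf ((nat_lit 224), [nat_lit 3, nat_lit 1])) (.leaf ((nat_lit 198), [nat_lit 0, nat_lit 3, nat_lit 0]))))
 (.node (nat_lit 630) (.node (nat_lit 629) (.leaf ((nat_lit 28), [])) (.leaf ((nat_lit 265), [nat_lit 0, nat_lit 2]))) (.node (nat_lit 631) (.leaf ((nat_lit 274), [nat_lit 2, nat_lit 0, nat_lit 3, nat_lit 0])) (.leaf ((nat_lit 275), [nat_lit 3, nat_lit 3, nat_lit 3])))))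
 (.node (nat_lit 636) (.node (nat_lit 634) (.node (nat_lit 633) (.leaf ((nat_lit 124), [nat_lit 3, nat_lit 0])) (.leaf ((nat_lit 276), [nat_lit 0, nat_lit 3, nat_lit 1]))) (.node (nat_lit 635) (.leaf ((nat_lit 214), [nat_lit 2, nat_lit 2])) (.leaf ((nat_lit 28), [nat_lit 3, nat_lit 0, nat_lit 3]))))
 (.node (nat_lit 638) (.node (nat_lit 637) (.leaf ((nat_lit 253), [nat_lit 0])) (.leaf ((nat_lit 106), [nat_lit 2, nat_lit 0, nat_lit 3]))) (.node (nat_lit 639) (.leaf ((nat_lit 36), [nat_lit 0, nat_lit 2])) (.node (nat_lit 640) (.leaf ((nat_lit 30), [nat_lit 2, nat_lit 2, nat_lit 1])) (.leaf ((nat_lit 29), [nat_lit 3, nat_lit 0, nat_lit 3, nat_lit 1, nat_lit 0]))))))))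
 (.node (nat_lit 658) (.node (nat_lit 649) (.node (nat_lit 645) (.node (nat_lit 643) (.node (nat_lit 642) (.leaf ((nat_lit 263), [nat_lit 3, nat_lit 3, nat_lit 0])) (.leaf ((nat_lit 117), [nat_lit 2, nat_lit 0]))) (.node (nat_lit 644) (.leaf ((nat_lit 116), [nat_lit 3, nat_lit 3, nat_lit 1, nat_lit 0])) (.leaf ((nat_lit 107), [nat_lit 1]))))
 (.node (nat_lit 647) (.node (nat_lit 646) (.leaf ((nat_lit 254), [nat_lit 2, nat_lit 2])) (.leaf ((nat_lit 87), [nat_lit 0, nat_lit 3, nat_lit 1]))) (.node (nat_lit 648) (.leaf ((nat_lit 29), [])) (.leaf ((nat_lit 244), [nat_lit 2, nat_lit 2, nat_lit 2, nat_lit 1, nat_lit 0])))))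
 (.node (nat_lit 653) (.node (nat_lit 651) (.node (nat_lit 650) (.leaf ((nat_lit 243), [nat_lit 2, nat_lit 2, nat_lit 0, nat_lit 2, nat_lit 1])) (.leaf ((nat_lit 30), [nat_lit 3, nat_lit 3, nat_lit 0, nat_lit 3, nat_lit 1]))) (.node (nat_lit 652) (.leaf ((nat_lit 225), [nat_lit 2])) (.leaf ((nat_lit 224), [nat_lit 3, nat_lit 3]))))
 (.node (nat_lit 655) (.node (nat_lit 654) (.leaf ((nat_lit 277), [nat_lit 3, nat_lit 3, nat_lit 3, nat_lit 0])) (.leaf ((nat_lit 235), [nat_lit 3, nat_lit 3, nat_lit 0, nat_lit 3, nat_lit 0]))) (.node (nat_lit 656) (.leaf ((nat_lit 223), [nat_lit 3, nat_lit 3])) (.node (nat_lit 657) (.leaf ((nat_lit 197), [nat_lit 3])) (.leaf ((nat_lit 109), [nat_lit 2, nat_lit 0, nat_lit 3, nat_lit 1, nat_lit 0])))))))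
 (.node (nat_lit 666) (.node (nat_lit 662) (.node (nat_lit 660) (.node (nat_lit 659) (.leaf ((nat_lit 267), [nat_lit 2, nat_lit 2, nat_lit 0, nat_lit 2, nat_lit 0])) (.leaf ((nat_lit 30), [nat_lit 0, nat_lit 3, nat_lit 1, nat_lit 0]))) (.node (nat_lit 661) (.leaf ((nat_lit 232), [nat_lit 2, nat_lit 2, nat_lit 1])) (.leaf ((nat_lit 231), [nat_lit 3, nat_lit 0, nat_lit 3]))))
 (.node (nat_lit 664) (.node (nat_lit 663) (.leaf ((nat_lit 231), [nat_lit 3, nat_lit 0, nat_lit 3, nat_lit 1, nat_lit 0])) (.leaf ((nat_lit 70), [nat_lit 2, nat_lit 0, nat_lit 3, nat_lit 0]))) (.node (nat_lit 665) (.leaf ((nat_lit 278), [nat_lit 3, nat_lit 3])) (.leaf ((nat_lit 31), [nat_lit 3, nat_lit 3, nat_lit 3, nat_lit 1, nat_lit 0])))))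
 (.node (nat_lit 670) (.node (nat_lit 668) (.node (nat_lit 667) (.leaf ((nat_lit 32), [nat_lit 2])) (.leaf ((nat_lit 224), [nat_lit 2, nat_lit 0, nat_lit 3, nat_lit 1]))) (.node (nat_lit 669) (.leaf ((nat_lit 267), [nat_lit 0, nat_lit 3])) (.leaf ((nat_lit 145), [nat_lit 2, nat_lit 0, nat_lit 3, nat_lit 0]))))
 (.node (nat_lit 672) (.node (nat_lit 671) (.leaf ((nat_lit 144), [nat_lit 2, nat_lit 0, nat_lit 2, nat_lit 1, nat_lit 0])) (.leaf ((nat_lit 188), [nat_lit 3, nat_lit 3, nat_lit 0, nat_lit 3, nat_lit 1]))) (.node (nat_lit 673) (.leaf ((nat_lit 224), [nat_lit 3, nat_lit 3, nat_lit 1, nat_lit 0])) (.node (nat_lit 674) (.leaf ((nat_lit 32), [nat_lit 3, nat_lit 0])) (.leaf ((nat_lit 273), [nat_lit 0]))))))))))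
noncomputable def n13Wd_5 : Tr (ℕ × List ℕ) := (.node (nat_lit 742) (.node (nat_lit 708) (.node (nat_lit 691) (.node (nat_lit 683) (.node (nat_lit 679) (.node (nat_lit 677) (.node (nat_lit 676) (.leaf ((nat_lit 39), [nat_lit 1, nat_lit 0])) (.leaf ((nat_lit 272), [nat_lit 2, nat_lit 2, nat_lit 0, nat_lit 2, nat_lit 1, nat_lit 0]))) (.node (nat_lit 678) (.leaf ((nat_lit 259), [nat_lit 2, nat_lit 2, nat_lit 1, nat_lit 0])) (.leaf ((nat_lit 267), [nat_lit 3, nat_lit 0, nat_lit 3, nat_lit 1]))))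
 (.node (nat_lit 681) (.node (nat_lit 680) (.leaf ((nat_lit 273), [nat_lit 2])) (.leaf ((nat_lit 32), []))) (.node (nat_lit 682) (.leaf ((nat_lit 71), [nat_lit 0, nat_lit 2, nat_lit 1])) (.leaf ((nat_lit 113), [nat_lit 0])))))
 (.node (nat_lit 687) (.node (nat_lit 685) (.node (nat_lit 684) (.leaf ((nat_lit 276), [nat_lit 2])) (.leaf ((nat_lit 271), [nat_lit 3, nat_lit 0, nat_lit 3]))) (.node (nat_lit 686) (.leaf ((nat_lit 279), [nat_lit 2, nat_lit 2, nat_lit 1])) (.leaf ((nat_lit 114), [nat_lit 1, nat_lit 0]))))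
 (.node (nat_lit 689) (.node (nat_lit 688) (.leaf ((nat_lit 33), [nat_lit 2, nat_lit 1])) (.leaf ((nat_lit 32), [nat_lit 2, nat_lit 2]))) (.node (nat_lit 690) (.leaf ((nat_lit 249), [nat_lit 3, nat_lit 0, nat_lit 3])) (.leaf ((nat_lit 280), [nat_lit 2, nat_lit 0, nat_lit 2, nat_lit 0]))))))
 (.node (nat_lit 699) (.node (nat_lit 695) (.node (nat_lit 693) (.node (nat_lit 692) (.leaf ((nat_lit 281), [nat_lit 3, nat_lit 3, nat_lit 1])) (.leaf ((nat_lit 282), [nat_lit 3, nat_lit 3]))) (.node (nat_lit 694) (.leaf ((nat_lit 87), [nat_lit 2, nat_lit 1, nat_lit 0])) (.leaf ((nat_lit 254), [nat_lit 3, nat_lit 3, nat_lit 3, nat_lit 1]))))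
 (.node (nat_lit 697) (.node (nat_lit 696) (.leaf ((nat_lit 32), [nat_lit 2, nat_lit 2, nat_lit 0, nat_lit 2])) (.leaf ((nat_lit 33), [nat_lit 2, nat_lit 2, nat_lit 1]))) (.node (nat_lit 698) (.leaf ((nat_lit 107), [nat_lit 2, nat_lit 0, nat_lit 2, nat_lit 1])) (.leaf ((nat_lit 116), [nat_lit 2, nat_lit 0, nat_lit 3, nat_lit 1])))))
 (.node (nat_lit 703) (.node (nat_lit 701) (.node (nat_lit 700) (.leaf ((nat_lit 283), [nat_lit 3, nat_lit 3, nat_lit 3, nat_lit 1, nat_lit 0])) (.leaf ((nat_lit 256), []))) (.node (nat_lit 702) (.leaf ((nat_lit 284), [nat_lit 3, nat_lit 1, nat_lit 0])) (.leaf ((nat_lit 107), [nat_lit 0, nat_lit 3]))))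
 (.node (nat_lit 705) (.node (nat_lit 704) (.leaf ((nat_lit 33), [nat_lit 3, nat_lit 1])) (.leaf ((nat_lit 117), [nat_lit 1, nat_lit 0]))) (.node (nat_lit 706) (.leaf ((nat_lit 128), [nat_lit 3, nat_lit 0, nat_lit 3, nat_lit 1])) (.node (nat_lit 707) (.leaf ((nat_lit 44), [nat_lit 3, nat_lit 3, nat_lit 0])) (.leaf ((nat_lit 202), [nat_lit 2, nat_lit 2, nat_lit 0, nat_lit 2]))))))))
 (.node (nat_lit 725) (.node (nat_lit 716) (.node (nat_lit 712) (.node (nat_lit 710) (.node (nat_lit 709) (.leaf ((nat_lit 34), [nat_lit 2, nat_lit 2, nat_lit 1, nat_lit 0])) (.leaf ((nat_lit 285), [nat_lit 0, nat_lit 3, nat_lit 0]))) (.node (nat_lit 711) (.leaf ((nat_lit 286), [nat_lit 2, nat_lit 0, nat_lit 2, nat_lit 0])) (.leaf ((nat_lit 287), [nat_lit 3, nat_lit 3, nat_lit 3, nat_lit 1, nat_lit 0]))))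
 (.node (nat_lit 714) (.node (nat_lit 713) (.leaf ((nat_lit 288), [nat_lit 2, nat_lit 2, nat_lit 0, nat_lit 2, nat_lit 1])) (.leaf ((nat_lit 190), [nat_lit 3, nat_lit 0, nat_lit 3, nat_lit 0]))) (.node (nat_lit 715) (.leaf ((nat_lit 285), [nat_lit 2, nat_lit 2, nat_lit 0, nat_lit 2, nat_lit 1])) (.leaf ((nat_lit 34), [nat_lit 0, nat_lit 3, nat_lit 1])))))
 (.node (nat_lit 720) (.node (nat_lit 718) (.node (nat_lit 717) (.leaf ((nat_lit 200), [nat_lit 2, nat_lit 2, nat_lit 1])) (.leaf ((nat_lit 289), [nat_lit 2, nat_lit 2, nat_lit 0, nat_lit 2, nat_lit 0]))) (.node (nat_lit 719) (.leaf ((nat_lit 257), [nat_lit 2, nat_lit 2, nat_lit 2, nat_lit 1, nat_lit 0])) (.leaf ((nat_lit 272), [nat_lit 2, nat_lit 0, nat_lit 2, nat_lit 1]))))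
 (.node (nat_lit 722) (.node (nat_lit 721) (.leaf ((nat_lit 286), [nat_lit 2, nat_lit 2, nat_lit 2])) (.leaf ((nat_lit 200), [nat_lit 0, nat_lit 3]))) (.node (nat_lit 723) (.leaf ((nat_lit 34), [nat_lit 2, nat_lit 2, nat_lit 0, nat_lit 2, nat_lit 0])) (.node (nat_lit 724) (.leaf ((nat_lit 290), [nat_lit 2, nat_lit 0, nat_lit 3, nat_lit 1])) (.leaf ((nat_lit 120), [nat_lit 2, nat_lit 0, nat_lit 3, nat_lit 1, nat_lit 0])))))))
 (.node (nat_lit 733) (.node (nat_lit 729) (.node (nat_lit 727) (.node (nat_lit 726) (.leaf ((nat_lit 237), [nat_lit 3, nat_lit 3, nat_lit 3, nat_lit 1, nat_lit 0])) (.leaf ((nat_lit 291), [nat_lit 2, nat_lit 1, nat_lit 0]))) (.node (nat_lit 728) (.leaf ((nat_lit 207), [nat_lit 2, nat_lit 0, nat_lit 3, nat_lit 1])) (.leaf ((nat_lit 121), [nat_lit 0]))))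
 (.node (nat_lit 731) (.node (nat_lit 730) (.leaf ((nat_lit 247), [nat_lit 3, nat_lit 3, nat_lit 0, nat_lit 3, nat_lit 1])) (.leaf ((nat_lit 34), [nat_lit 2, nat_lit 2]))) (.node (nat_lit 732) (.leaf ((nat_lit 292), [nat_lit 0, nat_lit 2, nat_lit 1, nat_lit 0])) (.leaf ((nat_lit 35), [nat_lit 2, nat_lit 2, nat_lit 2, nat_lit 1])))))
 (.node (nat_lit 737) (.node (nat_lit 735) (.node (nat_lit 734) (.leaf ((nat_lit 35), [nat_lit 2, nat_lit 2, nat_lit 0, nat_lit 2, nat_lit 0])) (.leaf ((nat_lit 293), [nat_lit 3, nat_lit 0, nat_lit 3]))) (.node (nat_lit 736) (.leaf ((nat_lit 167), [nat_lit 3, nat_lit 3, nat_lit 0])) (.leaf ((nat_lit 294), [nat_lit 2, nat_lit 2, nat_lit 1, nat_lit 0]))))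
 (.node (nat_lit 739) (.node (nat_lit 738) (.leaf ((nat_lit 295), [nat_lit 2, nat_lit 2, nat_lit 2, nat_lit 1, nat_lit 0])) (.leaf ((nat_lit 293), [nat_lit 2, nat_lit 0, nat_lit 3]))) (.node (nat_lit 740) (.leaf ((nat_lit 293), [nat_lit 1, nat_lit 0])) (.node (nat_lit 741) (.leaf ((nat_lit 35), [nat_lit 3, nat_lit 0, nat_lit 3, nat_lit 0])) (.leaf ((nat_lit 217), [nat_lit 2, nat_lit 0, nat_lit 3, nat_lit 1, nat_lit 0])))))))))
 (.node (nat_lit 776) (.node (nat_lit 759) (.node (nat_lit 750) (.node (nat_lit 746) (.node (nat_lit 744) (.node (nat_lit 743) (.leaf ((nat_lit 296), [nat_lit 0, nat_lit 2, nat_lit 1, nat_lit 0])) (.leaf ((nat_lit 227), [nat_lit 3]))) (.node (nat_lit 745) (.leaf ((nat_lit 297), [nat_lit 2, nat_lit 2])) (.leaf ((nat_lit 298), [nat_lit 2, nat_lit 0, nat_lit 3, nat_lit 1]))))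
 (.node (nat_lit 748) (.node (nat_lit 747) (.leaf ((nat_lit 105), [nat_lit 0, nat_lit 2])) (.leaf ((nat_lit 36), [nat_lit 0, nat_lit 3, nat_lit 1]))) (.node (nat_lit 749) (.leaf ((nat_lit 35), [nat_lit 2, nat_lit 2])) (.leaf ((nat_lit 299), [nat_lit 0, nat_lit 3])))))
 (.node (nat_lit 754) (.node (nat_lit 752) (.node (nat_lit 751) (.leaf ((nat_lit 45), [nat_lit 2, nat_lit 2, nat_lit 0, nat_lit 2, nat_lit 1, nat_lit 0])) (.leaf ((nat_lit 300), [nat_lit 0, nat_lit 2, nat_lit 0]))) (.node (nat_lit 753) (.leaf ((nat_lit 294), [nat_lit 2, nat_lit 2, nat_lit 2, nat_lit 0])) (.leaf ((nat_lit 232), [nat_lit 0, nat_lit 3, nat_lit 1, nat_lit 0]))))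
 (.node (nat_lit 756) (.node (nat_lit 755) (.leaf ((nat_lit 239), [nat_lit 2, nat_lit 0, nat_lit 2, nat_lit 1])) (.leaf ((nat_lit 35), [nat_lit 2, nat_lit 0, nat_lit 2, nat_lit 1]))) (.node (nat_lit 757) (.leaf ((nat_lit 36), [nat_lit 3, nat_lit 3, nat_lit 3, nat_lit 1])) (.node (nat_lit 758) (.leaf ((nat_lit 126), [nat_lit 1, nat_lit 0])) (.leaf ((nat_lit 253), [nat_lit 2, nat_lit 2, nat_lit 0, nat_lit 2, nat_lit 1])))))))
 (.node (nat_lit 767) (.node (nat_lit 763) (.node (nat_lit 761) (.node (nat_lit 760) (.leaf ((nat_lit 301), [nat_lit 2, nat_lit 1])) (.leaf ((nat_lit 171), [nat_lit 2, nat_lit 2, nat_lit 2, nat_lit 1, nat_lit 0]))) (.node (nat_lit 762) (.leaf ((nat_lit 172), [nat_lit 2, nat_lit 2])) (.leaf ((nat_lit 161), [nat_lit 3, nat_lit 0, nat_lit 3, nat_lit 0]))))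
 (.node (nat_lit 765) (.node (nat_lit 764) (.leaf ((nat_lit 127), [nat_lit 1])) (.leaf ((nat_lit 264), [nat_lit 2, nat_lit 0, nat_lit 3]))) (.node (nat_lit 766) (.leaf ((nat_lit 101), [nat_lit 3, nat_lit 3, nat_lit 3, nat_lit 1, nat_lit 0])) (.leaf ((nat_lit 100), [nat_lit 3, nat_lit 3, nat_lit 3, nat_lit 1])))))
 (.node (nat_lit 771) (.node (nat_lit 769) (.node (nat_lit 768) (.leaf ((nat_lit 36), [nat_lit 2, nat_lit 0, nat_lit 2, nat_lit 0])) (.leaf ((nat_lit 37), [nat_lit 0, nat_lit 2, nat_lit 1, nat_lit 0]))) (.node (nat_lit 770) (.leaf ((nat_lit 302), [nat_lit 0, nat_lit 2, nat_lit 1, nat_lit 0])) (.leaf ((nat_lit 128), [nat_lit 2, nat_lit 0, nat_lit 3, nat_lit 1]))))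
 (.node (nat_lit 773) (.node (nat_lit 772) (.leaf ((nat_lit 117), [nat_lit 2, nat_lit 2, nat_lit 0])) (.leaf ((nat_lit 150), [nat_lit 2, nat_lit 2]))) (.node (nat_lit 774) (.leaf ((nat_lit 103), [nat_lit 2, nat_lit 0, nat_lit 2, nat_lit 1])) (.node (nat_lit 775) (.leaf ((nat_lit 302), [nat_lit 2, nat_lit 2, nat_lit 2, nat_lit 1, nat_lit 0])) (.leaf ((nat_lit 37), [nat_lit 2, nat_lit 2, nat_lit 2, nat_lit 1, nat_lit 0]))))))))
 (.node (nat_lit 793) (.node (nat_lit 784) (.node (nat_lit 780) (.node (nat_lit 778) (.node (nat_lit 777) (.leaf ((nat_lit 129), [nat_lit 0])) (.leaf ((nat_lit 246), [nat_lit 0, nat_lit 2, nat_lit 0]))) (.node (nat_lit 779) (.leaf ((nat_lit 303), [nat_lit 0, nat_lit 3, nat_lit 1])) (.leaf ((nat_lit 213), [nat_lit 3, nat_lit 3, nat_lit 3]))))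
 (.node (nat_lit 782) (.node (nat_lit 781) (.leaf ((nat_lit 304), [nat_lit 2, nat_lit 2, nat_lit 2, nat_lit 1])) (.leaf ((nat_lit 305), [nat_lit 3, nat_lit 1, nat_lit 0]))) (.node (nat_lit 783) (.leaf ((nat_lit 130), [nat_lit 2, nat_lit 0, nat_lit 3, nat_lit 1])) (.leaf ((nat_lit 37), [nat_lit 2, nat_lit 0, nat_lit 2, nat_lit 0])))))
 (.node (nat_lit 788) (.node (nat_lit 786) (.node (nat_lit 785) (.leaf ((nat_lit 47), [nat_lit 3, nat_lit 3])) (.leaf ((nat_lit 171), [nat_lit 3, nat_lit 3, nat_lit 0, nat_lit 3]))) (.node (nat_lit 787) (.leaf ((nat_lit 93), [nat_lit 3, nat_lit 3, nat_lit 0, nat_lit 3, nat_lit 0])) (.leaf ((nat_lit 306), [nat_lit 3, nat_lit 0, nat_lit 3]))))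
 (.node (nat_lit 790) (.node (nat_lit 789) (.leaf ((nat_lit 226), [nat_lit 3, nat_lit 1, nat_lit 0])) (.leaf ((nat_lit 47), [nat_lit 3, nat_lit 0, nat_lit 3, nat_lit 0]))) (.node (nat_lit 791) (.leaf ((nat_lit 37), [nat_lit 2, nat_lit 2, nat_lit 1, nat_lit 0])) (.node (nat_lit 792) (.leaf ((nat_lit 307), [nat_lit 3, nat_lit 3, nat_lit 3])) (.leaf ((nat_lit 308), [nat_lit 2, nat_lit 1])))))))
 (.node (nat_lit 801) (.node (nat_lit 797) (.node (nat_lit 795) (.node (nat_lit 794) (.leaf ((nat_lit 144), [nat_lit 0])) (.leaf ((nat_lit 308), [nat_lit 0, nat_lit 2, nat_lit 0]))) (.node (nat_lit 796) (.leaf ((nat_lit 309), [nat_lit 2, nat_lit 0, nat_lit 3])) (.leaf ((nat_lit 243), [nat_lit 2, nat_lit 2, nat_lit 2, nat_lit 1, nat_lit 0]))))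
 (.node (nat_lit 799) (.node (nat_lit 798) (.leaf ((nat_lit 38), [nat_lit 0, nat_lit 2])) (.leaf ((nat_lit 186), [nat_lit 3, nat_lit 3, nat_lit 1]))) (.node (nat_lit 800) (.leaf ((nat_lit 59), [nat_lit 2, nat_lit 0, nat_lit 3])) (.leaf ((nat_lit 185), [nat_lit 2, nat_lit 2, nat_lit 1, nat_lit 0])))))
 (.node (nat_lit 805) (.node (nat_lit 803) (.node (nat_lit 802) (.leaf ((nat_lit 272), [nat_lit 2, nat_lit 2, nat_lit 2, nat_lit 1, nat_lit 0])) (.leaf ((nat_lit 39), [nat_lit 2, nat_lit 0, nat_lit 3]))) (.node (nat_lit 804) (.leaf ((nat_lit 310), [nat_lit 3, nat_lit 3, nat_lit 1])) (.leaf ((nat_lit 55), [nat_lit 2, nat_lit 2, nat_lit 2, nat_lit 1, nat_lit 0]))))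
 (.node (nat_lit 807) (.node (nat_lit 806) (.leaf ((nat_lit 311), [nat_lit 2, nat_lit 2, nat_lit 2, nat_lit 1])) (.leaf ((nat_lit 55), [nat_lit 2, nat_lit 2, nat_lit 2, nat_lit 1]))) (.node (nat_lit 808) (.leaf ((nat_lit 142), [nat_lit 2, nat_lit 0, nat_lit 3])) (.node (nat_lit 809) (.leaf ((nat_lit 222), [nat_lit 2, nat_lit 2, nat_lit 2, nat_lit 1, nat_lit 0])) (.leaf ((nat_lit 39), [nat_lit 2, nat_lit 0, nat_lit 2, nat_lit 1]))))))))))
noncomputable def n13Wd_6 : Tr (ℕ × List ℕ) := (.node (nat_lit 877) (.node (nat_lit 843) (.node (nat_lit 826) (.node (nat_lit 818) (.node (nat_lit 814) (.node (nat_lit 812) (.node (nat_lit 811) (.leaf ((nat_lit 54), [nat_lit 3, nat_lit 3, nat_lit 3, nat_lit 1, nat_lit 0])) (.leaf ((nat_lit 53), [nat_lit 2, nat_lit 2, nat_lit 0, nat_lit 2, nat_lit 0]))) (.node (nat_lit 813) (.leaf ((nat_lit 217), [nat_lit 0, nat_lit 2, nat_lit 1, nat_lit 0])) (.leaf ((nat_lit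 40), [nat_lit 3, nat_lit 0]))))
 (.node (nat_lit 816) (.node (nat_lit 815) (.leaf ((nat_lit 312), [nat_lit 2, nat_lit 2, nat_lit 0, nat_lit 2, nat_lit 1, nat_lit 0])) (.leaf ((nat_lit 274), [nat_lit 0]))) (.node (nat_lit 817) (.leaf ((nat_lit 313), [nat_lit 2, nat_lit 2, nat_lit 0, nat_lit 2, nat_lit 0])) (.leaf ((nat_lit 314), [nat_lit 2, nat_lit 2])))))
 (.node (nat_lit 822) (.node (nat_lit 820) (.node (nat_lit 819) (.leaf ((nat_lit 289), [nat_lit 2, nat_lit 2, nat_lit 0])) (.leaf ((nat_lit 312), [nat_lit 3, nat_lit 3, nat_lit 0, nat_lit 3, nat_lit 1, nat_lit 0]))) (.node (nat_lit 821) (.leaf ((nat_lit 40), [nat_lit 0])) (.leaf ((nat_lit 143), [nat_lit 3, nat_lit 0, nat_lit 3, nat_lit 0]))))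
 (.node (nat_lit 824) (.node (nat_lit 823) (.leaf ((nat_lit 141), [nat_lit 2, nat_lit 0, nat_lit 2, nat_lit 1])) (.leaf ((nat_lit 315), [nat_lit 2, nat_lit 0, nat_lit 2, nat_lit 1, nat_lit 0]))) (.node (nat_lit 825) (.leaf ((nat_lit 141), [nat_lit 2, nat_lit 2, nat_lit 1, nat_lit 0])) (.leaf ((nat_lit 58), [nat_lit 2, nat_lit 2, nat_lit 0, nat_lit 2, nat_lit 1]))))))
 (.node (nat_lit 834) (.node (nat_lit 830) (.node (nat_lit 828) (.node (nat_lit 827) (.leaf ((nat_lit 93), [nat_lit 2, nat_lit 2, nat_lit 0, nat_lit 2, nat_lit 1, nat_lit 0])) (.leaf ((nat_lit 40), [nat_lit 1]))) (.node (nat_lit 829) (.leaf ((nat_lit 41), [nat_lit 3, nat_lit 3, nat_lit 0, nat_lit 3, nat_lit 1])) (.leaf ((nat_lit 140), [nat_lit 0, nat_lit 2]))))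
 (.node (nat_lit 832) (.node (nat_lit 831) (.leaf ((nat_lit 139), [nat_lit 2, nat_lit 0, nat_lit 3, nat_lit 0])) (.leaf ((nat_lit 270), [nat_lit 3, nat_lit 3, nat_lit 0]))) (.node (nat_lit 833) (.leaf ((nat_lit 178), [nat_lit 2, nat_lit 0, nat_lit 3, nat_lit 1, nat_lit 0])) (.leaf ((nat_lit 316), [nat_lit 2, nat_lit 2, nat_lit 0, nat_lit 2])))))
 (.node (nat_lit 838) (.node (nat_lit 836) (.node (nat_lit 835) (.leaf ((nat_lit 140), [nat_lit 0, nat_lit 2, nat_lit 0])) (.leaf ((nat_lit 41), [nat_lit 3, nat_lit 3, nat_lit 0, nat_lit 3, nat_lit 1, nat_lit 0]))) (.node (nat_lit 837) (.leaf ((nat_lit 138), [nat_lit 2, nat_lit 0, nat_lit 3, nat_lit 0])) (.leaf ((nat_lit 154), [nat_lit 2, nat_lit 1]))))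
 (.node (nat_lit 840) (.node (nat_lit 839) (.leaf ((nat_lit 59), [nat_lit 1, nat_lit 0])) (.leaf ((nat_lit 183), [nat_lit 2, nat_lit 2, nat_lit 0, nat_lit 2, nat_lit 0]))) (.node (nat_lit 841) (.leaf ((nat_lit 139), [nat_lit 0, nat_lit 3, nat_lit 0])) (.node (nat_lit 842) (.leaf ((nat_lit 138), [nat_lit 3, nat_lit 0])) (.leaf ((nat_lit 41), [nat_lit 2, nat_lit 2, nat_lit 2, nat_lit 1]))))))))
 (.node (nat_lit 860) (.node (nat_lit 851) (.node (nat_lit 847) (.node (nat_lit 845) (.node (nat_lit 844) (.leaf ((nat_lit 257), [])) (.leaf ((nat_lit 289), [nat_lit 2, nat_lit 0, nat_lit 3, nat_lit 1, nat_lit 0]))) (.node (nat_lit 846) (.leaf ((nat_lit 58), [nat_lit 2, nat_lit 1])) (.leaf ((nat_lit 137), [nat_lit 3, nat_lit 3, nat_lit 1, nat_lit 0]))))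
 (.node (nat_lit 849) (.node (nat_lit 848) (.leaf ((nat_lit 309), [nat_lit 2, nat_lit 1, nat_lit 0])) (.leaf ((nat_lit 137), [nat_lit 3, nat_lit 3, nat_lit 0]))) (.node (nat_lit 850) (.leaf ((nat_lit 143), [nat_lit 2, nat_lit 0, nat_lit 2, nat_lit 1, nat_lit 0])) (.leaf ((nat_lit 317), [nat_lit 2, nat_lit 2, nat_lit 2, nat_lit 1, nat_lit 0])))))
 (.node (nat_lit 855) (.node (nat_lit 853) (.node (nat_lit 852) (.leaf ((nat_lit 41), [nat_lit 2, nat_lit 0, nat_lit 2, nat_lit 1])) (.leaf ((nat_lit 42), [nat_lit 2, nat_lit 2, nat_lit 0, nat_lit 2, nat_lit 1]))) (.node (nat_lit 854) (.leaf ((nat_lit 318), [nat_lit 2, nat_lit 2, nat_lit 1])) (.leaf ((nat_lit 42), [nat_lit 2, nat_lit 2, nat_lit 0, nat_lit 2, nat_lit 0]))))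
 (.node (nat_lit 857) (.node (nat_lit 856) (.leaf ((nat_lit 134), [nat_lit 2, nat_lit 0, nat_lit 3])) (.leaf ((nat_lit 319), [nat_lit 3, nat_lit 3, nat_lit 0, nat_lit 3]))) (.node (nat_lit 858) (.leaf ((nat_lit 164), [nat_lit 3, nat_lit 3, nat_lit 0, nat_lit 3])) (.node (nat_lit 859) (.leaf ((nat_lit 318), [nat_lit 2, nat_lit 0, nat_lit 3, nat_lit 1])) (.leaf ((nat_lit 42), [nat_lit 2, nat_lit 1])))))))
 (.node (nat_lit 868) (.node (nat_lit 864) (.node (nat_lit 862) (.node (nat_lit 861) (.leaf ((nat_lit 318), [nat_lit 2, nat_lit 0, nat_lit 3, nat_lit 1, nat_lit 0])) (.leaf ((nat_lit 141), [nat_lit 3, nat_lit 0, nat_lit 3, nat_lit 0]))) (.node (nat_lit 863) (.leaf ((nat_lit 320), [nat_lit 3, nat_lit 0, nat_lit 3, nat_lit 0])) (.leaf ((nat_lit 136), [nat_lit 2, nat_lit 0, nat_lit 2, nat_lit 1, nat_lit 0]))))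
 (.node (nat_lit 866) (.node (nat_lit 865) (.leaf ((nat_lit 183), [nat_lit 3, nat_lit 3, nat_lit 3, nat_lit 1])) (.leaf ((nat_lit 132), [nat_lit 0]))) (.node (nat_lit 867) (.leaf ((nat_lit 183), [nat_lit 3, nat_lit 3, nat_lit 0, nat_lit 3, nat_lit 1])) (.leaf ((nat_lit 42), [nat_lit 2, nat_lit 2, nat_lit 0])))))
 (.node (nat_lit 872) (.node (nat_lit 870) (.node (nat_lit 869) (.leaf ((nat_lit 111), [nat_lit 3, nat_lit 0, nat_lit 3, nat_lit 0])) (.leaf ((nat_lit 289), [nat_lit 3, nat_lit 3, nat_lit 3, nat_lit 1]))) (.node (nat_lit 871) (.leaf ((nat_lit 166), [nat_lit 2, nat_lit 2, nat_lit 2, nat_lit 0])) (.leaf ((nat_lit 75), [nat_lit 2, nat_lit 0, nat_lit 3, nat_lit 1]))))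
 (.node (nat_lit 874) (.node (nat_lit 873) (.leaf ((nat_lit 96), [nat_lit 2, nat_lit 2, nat_lit 1])) (.leaf ((nat_lit 111), [nat_lit 2, nat_lit 0, nat_lit 3, nat_lit 0]))) (.node (nat_lit 875) (.leaf ((nat_lit 42), [nat_lit 3, nat_lit 3, nat_lit 3, nat_lit 1])) (.node (nat_lit 876) (.leaf ((nat_lit 321), [nat_lit 2, nat_lit 0, nat_lit 3, nat_lit 1, nat_lit 0])) (.leaf ((nat_lit 44), [nat_lit 3, nat_lit 0, nat_lit 3, nat_lit 1, nat_lit 0])))))))))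
 (.node (nat_lit 911) (.node (nat_lit 894) (.node (nat_lit 885) (.node (nat_lit 881) (.node (nat_lit 879) (.node (nat_lit 878) (.leaf ((nat_lit 43), [nat_lit 3, nat_lit 0, nat_lit 3])) (.leaf ((nat_lit 241), [nat_lit 3, nat_lit 3, nat_lit 0, nat_lit 3, nat_lit 1]))) (.node (nat_lit 880) (.leaf ((nat_lit 192), [nat_lit 3, nat_lit 0, nat_lit 3, nat_lit 1, nat_lit 0])) (.leaf ((nat_lit 165), [nat_lit 2, nat_lit 2, nat_lit 2, nat_lit 1, nat_lit 0]))))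
 (.node (nat_lit 883) (.node (nat_lit 882) (.leaf ((nat_lit 62), [nat_lit 2, nat_lit 2, nat_lit 0])) (.leaf ((nat_lit 76), [nat_lit 2, nat_lit 0, nat_lit 3, nat_lit 1]))) (.node (nat_lit 884) (.leaf ((nat_lit 278), [nat_lit 2, nat_lit 0])) (.leaf ((nat_lit 278), [nat_lit 2, nat_lit 1, nat_lit 0])))))
 (.node (nat_lit 889) (.node (nat_lit 887) (.node (nat_lit 886) (.leaf ((nat_lit 43), [nat_lit 0, nat_lit 2, nat_lit 0])) (.leaf ((nat_lit 218), [nat_lit 2, nat_lit 2, nat_lit 0, nat_lit 2, nat_lit 0]))) (.node (nat_lit 888) (.leaf ((nat_lit 205), [nat_lit 3, nat_lit 0, nat_lit 3, nat_lit 1, nat_lit 0])) (.leaf ((nat_lit 90), [nat_lit 2]))))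
 (.node (nat_lit 891) (.node (nat_lit 890) (.leaf ((nat_lit 170), [nat_lit 3])) (.leaf ((nat_lit 52), [nat_lit 2, nat_lit 2, nat_lit 0, nat_lit 2, nat_lit 1, nat_lit 0]))) (.node (nat_lit 892) (.leaf ((nat_lit 218), [nat_lit 2, nat_lit 2, nat_lit 0, nat_lit 2, nat_lit 0])) (.node (nat_lit 893) (.leaf ((nat_lit 43), [nat_lit 0, nat_lit 2, nat_lit 0])) (.leaf ((nat_lit 219), [nat_lit 3, nat_lit 0, nat_lit 3, nat_lit 1, nat_lit 0])))))))
 (.node (nat_lit 902) (.node (nat_lit 898) (.node (nat_lit 896) (.node (nat_lit 895) (.leaf ((nat_lit 322), [nat_lit 2, nat_lit 2, nat_lit 0, nat_lit 2, nat_lit 1])) (.leaf ((nat_lit 322), [nat_lit 2, nat_lit 2, nat_lit 0, nat_lit 2, nat_lit 0]))) (.node (nat_lit 897) (.leaf ((nat_lit 323), [nat_lit 2, nat_lit 2, nat_lit 0, nat_lit 2, nat_lit 1, nat_lit 0])) (.leaf ((nat_lit 284), [nat_lit 2]))))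
 (.node (nat_lit 900) (.node (nat_lit 899) (.leaf ((nat_lit 204), [nat_lit 2, nat_lit 2])) (.leaf ((nat_lit 43), [nat_lit 2, nat_lit 2, nat_lit 2, nat_lit 1, nat_lit 0]))) (.node (nat_lit 901) (.leaf ((nat_lit 317), [nat_lit 2, nat_lit 2, nat_lit 2, nat_lit 1, nat_lit 0])) (.leaf ((nat_lit 154), [nat_lit 2, nat_lit 2, nat_lit 0])))))
 (.node (nat_lit 906) (.node (nat_lit 904) (.node (nat_lit 903) (.leaf ((nat_lit 230), [nat_lit 2, nat_lit 2, nat_lit 0])) (.leaf ((nat_lit 44), [nat_lit 3, nat_lit 0, nat_lit 3, nat_lit 1, nat_lit 0]))) (.node (nat_lit 905) (.leaf ((nat_lit 128), [nat_lit 3, nat_lit 3])) (.leaf ((nat_lit 234), [nat_lit 3, nat_lit 3, nat_lit 0, nat_lit 3, nat_lit 0]))))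
 (.node (nat_lit 908) (.node (nat_lit 907) (.leaf ((nat_lit 287), [nat_lit 3, nat_lit 3, nat_lit 1])) (.leaf ((nat_lit 312), [nat_lit 2, nat_lit 2, nat_lit 0]))) (.node (nat_lit 909) (.leaf ((nat_lit 86), [nat_lit 0, nat_lit 2, nat_lit 0])) (.node (nat_lit 910) (.leaf ((nat_lit 303), [])) (.leaf ((nat_lit 246), [nat_lit 2, nat_lit 2]))))))))
 (.node (nat_lit 928) (.node (nat_lit 919) (.node (nat_lit 915) (.node (nat_lit 913) (.node (nat_lit 912) (.leaf ((nat_lit 44), [nat_lit 2, nat_lit 2, nat_lit 2, nat_lit 1])) (.leaf ((nat_lit 300), [nat_lit 2, nat_lit 0, nat_lit 2, nat_lit 0]))) (.node (nat_lit 914) (.leaf ((nat_lit 45), [nat_lit 3, nat_lit 3, nat_lit 3, nat_lit 1, nat_lit 0])) (.leaf ((nat_lit 324), [nat_lit 2, nat_lit 1]))))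
 (.node (nat_lit 917) (.node (nat_lit 916) (.leaf ((nat_lit 160), [nat_lit 2, nat_lit 2, nat_lit 2, nat_lit 1])) (.leaf ((nat_lit 302), [nat_lit 3, nat_lit 3, nat_lit 3, nat_lit 1]))) (.node (nat_lit 918) (.leaf ((nat_lit 325), [nat_lit 2, nat_lit 2, nat_lit 0, nat_lit 2, nat_lit 1, nat_lit 0])) (.leaf ((nat_lit 294), [nat_lit 2, nat_lit 0])))))
 (.node (nat_lit 923) (.node (nat_lit 921) (.node (nat_lit 920) (.leaf ((nat_lit 324), [nat_lit 3, nat_lit 0, nat_lit 3, nat_lit 1, nat_lit 0])) (.leaf ((nat_lit 45), [nat_lit 2, nat_lit 1]))) (.node (nat_lit 922) (.leaf ((nat_lit 68), [nat_lit 2, nat_lit 0, nat_lit 3, nat_lit 1, nat_lit 0])) (.leaf ((nat_lit 172), [nat_lit 2, nat_lit 2, nat_lit 0, nat_lit 2, nat_lit 1, nat_lit 0]))))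
 (.node (nat_lit 925) (.node (nat_lit 924) (.leaf ((nat_lit 279), [nat_lit 2, nat_lit 2, nat_lit 2, nat_lit 1, nat_lit 0])) (.leaf ((nat_lit 214), [nat_lit 0, nat_lit 3]))) (.node (nat_lit 926) (.leaf ((nat_lit 150), [nat_lit 3, nat_lit 0, nat_lit 3, nat_lit 1])) (.node (nat_lit 927) (.leaf ((nat_lit 268), [nat_lit 3])) (.leaf ((nat_lit 139), [nat_lit 3, nat_lit 1, nat_lit 0])))))))
 (.node (nat_lit 936) (.node (nat_lit 932) (.node (nat_lit 930) (.node (nat_lit 929) (.leaf ((nat_lit 45), [nat_lit 3, nat_lit 3, nat_lit 0, nat_lit 3])) (.leaf ((nat_lit 244), [nat_lit 0, nat_lit 2, nat_lit 1, nat_lit 0]))) (.node (nat_lit 931) (.leaf ((nat_lit 47), [nat_lit 2, nat_lit 2, nat_lit 0, nat_lit 2])) (.leaf ((nat_lit 46), [nat_lit 2, nat_lit 1, nat_lit 0]))))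
 (.node (nat_lit 934) (.node (nat_lit 933) (.leaf ((nat_lit 299), [nat_lit 2, nat_lit 0, nat_lit 2, nat_lit 0])) (.leaf ((nat_lit 280), [nat_lit 1, nat_lit 0]))) (.node (nat_lit 935) (.leaf ((nat_lit 318), [nat_lit 2, nat_lit 2, nat_lit 0, nat_lit 2, nat_lit 1])) (.leaf ((nat_lit 180), [nat_lit 2, nat_lit 2])))))
 (.node (nat_lit 940) (.node (nat_lit 938) (.node (nat_lit 937) (.leaf ((nat_lit 48), [nat_lit 3, nat_lit 3, nat_lit 3, nat_lit 1])) (.leaf ((nat_lit 299), [nat_lit 3, nat_lit 3, nat_lit 0]))) (.node (nat_lit 939) (.leaf ((nat_lit 46), [nat_lit 3, nat_lit 3, nat_lit 3])) (.leaf ((nat_lit 203), [nat_lit 2, nat_lit 2, nat_lit 2]))))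
 (.node (nat_lit 942) (.node (nat_lit 941) (.leaf ((nat_lit 245), [nat_lit 2, nat_lit 2])) (.leaf ((nat_lit 326), [nat_lit 3, nat_lit 3, nat_lit 0, nat_lit 3, nat_lit 1]))) (.node (nat_lit 943) (.leaf ((nat_lit 327), [nat_lit 2, nat_lit 2])) (.node (nat_lit 944) (.leaf ((nat_lit 319), [nat_lit 2, nat_lit 1, nat_lit 0])) (.leaf ((nat_lit 328), [nat_lit 2]))))))))))
noncomputable def n13Wd_7 : Tr (ℕ × List ℕ) := (.node (nat_lit 1012) (.node (nat_lit 978) (.node (nat_lit 961) (.node (nat_lit 953) (.node (nat_lit 949) (.node (nat_lit 947) (.node (nat_lit 946) (.leaf ((nat_lit 237), [nat_lit 2, nat_lit 0])) (.leaf ((nat_lit 46), [nat_lit 3, nat_lit 3, nat_lit 0, nat_lit 3, nat_lit 1, nat_lit 0]))) (.node (nat_lit 948) (.leaf ((nat_lit 322), [nat_lit 0, nat_lit 3, nat_lit 0])) (.leaf ((nat_lit 252), [nat_lit 2, nat_lit 0, nat_lit 3]))))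
 (.node (nat_lit 951) (.node (nat_lit 950) (.leaf ((nat_lit 252), [nat_lit 2, nat_lit 0, nat_lit 3, nat_lit 1])) (.leaf ((nat_lit 219), [nat_lit 0, nat_lit 2, nat_lit 1]))) (.node (nat_lit 952) (.leaf ((nat_lit 48), [nat_lit 2, nat_lit 2, nat_lit 2, nat_lit 0])) (.leaf ((nat_lit 266), [nat_lit 2, nat_lit 2, nat_lit 1, nat_lit 0])))))
 (.node (nat_lit 957) (.node (nat_lit 955) (.node (nat_lit 954) (.leaf ((nat_lit 46), [nat_lit 2, nat_lit 0, nat_lit 2, nat_lit 0])) (.leaf ((nat_lit 299), [nat_lit 3, nat_lit 0, nat_lit 3, nat_lit 1]))) (.node (nat_lit 956) (.leaf ((nat_lit 48), [nat_lit 3, nat_lit 3, nat_lit 0, nat_lit 3, nat_lit 0])) (.leaf ((nat_lit 47), [nat_lit 0, nat_lit 3]))))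
 (.node (nat_lit 959) (.node (nat_lit 958) (.leaf ((nat_lit 251), [nat_lit 3, nat_lit 3, nat_lit 0, nat_lit 3])) (.leaf ((nat_lit 159), [nat_lit 2, nat_lit 0, nat_lit 3]))) (.node (nat_lit 960) (.leaf ((nat_lit 329), [nat_lit 3, nat_lit 3, nat_lit 3, nat_lit 0])) (.leaf ((nat_lit 189), [nat_lit 2]))))))
 (.node (nat_lit 969) (.node (nat_lit 965) (.node (nat_lit 963) (.node (nat_lit 962) (.leaf ((nat_lit 272), [nat_lit 3])) (.leaf ((nat_lit 330), [nat_lit 0, nat_lit 2]))) (.node (nat_lit 964) (.leaf ((nat_lit 152), [nat_lit 3, nat_lit 3, nat_lit 3, nat_lit 0])) (.leaf ((nat_lit 279), [nat_lit 2, nat_lit 2, nat_lit 1, nat_lit 0]))))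
 (.node (nat_lit 967) (.node (nat_lit 966) (.leaf ((nat_lit 47), [nat_lit 3, nat_lit 3, nat_lit 0, nat_lit 3, nat_lit 1, nat_lit 0])) (.leaf ((nat_lit 127), [nat_lit 2, nat_lit 0, nat_lit 2, nat_lit 1, nat_lit 0]))) (.node (nat_lit 968) (.leaf ((nat_lit 161), [nat_lit 2, nat_lit 0, nat_lit 3, nat_lit 1])) (.leaf ((nat_lit 331), [nat_lit 2, nat_lit 2, nat_lit 0, nat_lit 2, nat_lit 0])))))
 (.node (nat_lit 973) (.node (nat_lit 971) (.node (nat_lit 970) (.leaf ((nat_lit 266), [nat_lit 2, nat_lit 2, nat_lit 0])) (.leaf ((nat_lit 48), [nat_lit 2, nat_lit 2, nat_lit 2, nat_lit 1, nat_lit 0]))) (.node (nat_lit 972) (.leaf ((nat_lit 332), [nat_lit 3, nat_lit 3, nat_lit 3, nat_lit 1, nat_lit 0])) (.leaf ((nat_lit 305), [nat_lit 2, nat_lit 0, nat_lit 3, nat_lit 0]))))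
 (.node (nat_lit 975) (.node (nat_lit 974) (.leaf ((nat_lit 304), [nat_lit 3, nat_lit 3, nat_lit 3, nat_lit 1])) (.leaf ((nat_lit 162), [nat_lit 2, nat_lit 0, nat_lit 3]))) (.node (nat_lit 976) (.leaf ((nat_lit 271), [nat_lit 2, nat_lit 0, nat_lit 3, nat_lit 1, nat_lit 0])) (.node (nat_lit 977) (.leaf ((nat_lit 325), [nat_lit 2, nat_lit 2])) (.leaf ((nat_lit 48), [nat_lit 3, nat_lit 0, nat_lit 3, nat_lit 1]))))))))
 (.node (nat_lit 995) (.node (nat_lit 986) (.node (nat_lit 982) (.node (nat_lit 980) (.node (nat_lit 979) (.leaf ((nat_lit 164), [nat_lit 2, nat_lit 1])) (.leaf ((nat_lit 49), [nat_lit 3, nat_lit 0, nat_lit 3, nat_lit 0]))) (.node (nat_lit 981) (.leaf ((nat_lit 89), [nat_lit 0, nat_lit 2, nat_lit 1, nat_lit 0])) (.leaf ((nat_lit 306), [nat_lit 2, nat_lit 0, nat_lit 3, nat_lit 1]))))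
 (.node (nat_lit 984) (.node (nat_lit 983) (.leaf ((nat_lit 314), [nat_lit 2, nat_lit 0, nat_lit 3, nat_lit 1, nat_lit 0])) (.leaf ((nat_lit 333), [nat_lit 2, nat_lit 1]))) (.node (nat_lit 985) (.leaf ((nat_lit 163), [nat_lit 3, nat_lit 1, nat_lit 0])) (.leaf ((nat_lit 89), [])))))
 (.node (nat_lit 990) (.node (nat_lit 988) (.node (nat_lit 987) (.leaf ((nat_lit 49), [nat_lit 3, nat_lit 3, nat_lit 0, nat_lit 3])) (.leaf ((nat_lit 281), [nat_lit 3, nat_lit 1, nat_lit 0]))) (.node (nat_lit 989) (.leaf ((nat_lit 185), [nat_lit 0])) (.leaf ((nat_lit 142), [nat_lit 2, nat_lit 2, nat_lit 2, nat_lit 1, nat_lit 0]))))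
 (.node (nat_lit 992) (.node (nat_lit 991) (.leaf ((nat_lit 58), [nat_lit 3, nat_lit 0, nat_lit 3])) (.leaf ((nat_lit 57), [nat_lit 3, nat_lit 0, nat_lit 3, nat_lit 0]))) (.node (nat_lit 993) (.leaf ((nat_lit 58), [nat_lit 3, nat_lit 3])) (.node (nat_lit 994) (.leaf ((nat_lit 310), [])) (.leaf ((nat_lit 146), [nat_lit 3, nat_lit 3, nat_lit 0, nat_lit 3])))))))
 (.node (nat_lit 1003) (.node (nat_lit 999) (.node (nat_lit 997) (.node (nat_lit 996) (.leaf ((nat_lit 49), [nat_lit 2, nat_lit 0])) (.leaf ((nat_lit 145), [nat_lit 3, nat_lit 3, nat_lit 0, nat_lit 3, nat_lit 0]))) (.node (nat_lit 998) (.leaf ((nat_lit 50), [nat_lit 2, nat_lit 2, nat_lit 2, nat_lit 0])) (.leaf ((nat_lit 77), [nat_lit 2, nat_lit 2, nat_lit 2, nat_lit 0]))))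
 (.node (nat_lit 1001) (.node (nat_lit 1000) (.leaf ((nat_lit 53), [nat_lit 2, nat_lit 0, nat_lit 2, nat_lit 1, nat_lit 0])) (.leaf ((nat_lit 305), [nat_lit 0, nat_lit 2, nat_lit 1, nat_lit 0]))) (.node (nat_lit 1002) (.leaf ((nat_lit 334), [nat_lit 2, nat_lit 2, nat_lit 1, nat_lit 0])) (.leaf ((nat_lit 199), [nat_lit 3, nat_lit 3, nat_lit 0])))))
 (.node (nat_lit 1007) (.node (nat_lit 1005) (.node (nat_lit 1004) (.leaf ((nat_lit 77), [nat_lit 2, nat_lit 2, nat_lit 0, nat_lit 2, nat_lit 0])) (.leaf ((nat_lit 50), [nat_lit 2, nat_lit 2, nat_lit 0, nat_lit 2, nat_lit 0]))) (.node (nat_lit 1006) (.leaf ((nat_lit 122), [nat_lit 2, nat_lit 2, nat_lit 1, nat_lit 0])) (.leaf ((nat_lit 331), [nat_lit 3, nat_lit 0, nat_lit 3, nat_lit 0]))))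
 (.node (nat_lit 1009) (.node (nat_lit 1008) (.leaf ((nat_lit 283), [nat_lit 3, nat_lit 0, nat_lit 3, nat_lit 1, nat_lit 0])) (.leaf ((nat_lit 212), [nat_lit 3, nat_lit 1, nat_lit 0]))) (.node (nat_lit 1010) (.leaf ((nat_lit 307), [nat_lit 2, nat_lit 0, nat_lit 3, nat_lit 1, nat_lit 0])) (.node (nat_lit 1011) (.leaf ((nat_lit 292), [nat_lit 0, nat_lit 2])) (.leaf ((nat_lit 335), [nat_lit 2, nat_lit 2, nat_lit 1, nat_lit 0])))))))))
 (.node (nat_lit 1046) (.node (nat_lit 1029) (.node (nat_lit 1020) (.node (nat_lit 1016) (.node (nat_lit 1014) (.node (nat_lit 1013) (.leaf ((nat_lit 244), [nat_lit 2, nat_lit 2, nat_lit 0, nat_lit 2, nat_lit 1, nat_lit 0])) (.leaf ((nat_lit 50), [nat_lit 0, nat_lit 3]))) (.node (nat_lit 1015) (.leaf ((nat_lit 51), [nat_lit 0, nat_lit 3, nat_lit 1])) (.leaf ((nat_lit 171), [nat_lit 2, nat_lit 2, nat_lit 1, nat_lit 0]))))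
 (.node (nat_lit 1018) (.node (nat_lit 1017) (.leaf ((nat_lit 256), [nat_lit 2, nat_lit 2, nat_lit 2, nat_lit 0])) (.leaf ((nat_lit 240), [nat_lit 2, nat_lit 2, nat_lit 1]))) (.node (nat_lit 1019) (.leaf ((nat_lit 169), [nat_lit 2, nat_lit 0, nat_lit 3, nat_lit 1, nat_lit 0])) (.leaf ((nat_lit 336), [nat_lit 2, nat_lit 2, nat_lit 1, nat_lit 0])))))
 (.node (nat_lit 1024) (.node (nat_lit 1022) (.node (nat_lit 1021) (.leaf ((nat_lit 256), [nat_lit 2, nat_lit 0])) (.leaf ((nat_lit 148), [nat_lit 2]))) (.node (nat_lit 1023) (.leaf ((nat_lit 51), [nat_lit 3, nat_lit 3, nat_lit 0, nat_lit 3, nat_lit 0])) (.leaf ((nat_lit 197), [nat_lit 3, nat_lit 3, nat_lit 0]))))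
 (.node (nat_lit 1026) (.node (nat_lit 1025) (.leaf ((nat_lit 57), [nat_lit 3, nat_lit 0, nat_lit 3, nat_lit 1, nat_lit 0])) (.leaf ((nat_lit 179), [nat_lit 3, nat_lit 3, nat_lit 0, nat_lit 3, nat_lit 1, nat_lit 0]))) (.node (nat_lit 1027) (.leaf ((nat_lit 52), [nat_lit 3, nat_lit 3, nat_lit 0, nat_lit 3, nat_lit 1, nat_lit 0])) (.node (nat_lit 1028) (.leaf ((nat_lit 169), [nat_lit 3, nat_lit 3, nat_lit 0])) (.leaf ((nat_lit 90), [nat_lit 2, nat_lit 0, nat_lit 2, nat_lit 0])))))))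
 (.node (nat_lit 1037) (.node (nat_lit 1033) (.node (nat_lit 1031) (.node (nat_lit 1030) (.leaf ((nat_lit 322), [nat_lit 2])) (.leaf ((nat_lit 126), [nat_lit 3, nat_lit 3, nat_lit 0, nat_lit 3]))) (.node (nat_lit 1032) (.leaf ((nat_lit 130), [nat_lit 2, nat_lit 2, nat_lit 2, nat_lit 1, nat_lit 0])) (.leaf ((nat_lit 332), [nat_lit 2, nat_lit 2, nat_lit 1]))))
 (.node (nat_lit 1035) (.node (nat_lit 1034) (.leaf ((nat_lit 172), [nat_lit 1, nat_lit 0])) (.leaf ((nat_lit 337), [nat_lit 2, nat_lit 2]))) (.node (nat_lit 1036) (.leaf ((nat_lit 52), [nat_lit 3])) (.leaf ((nat_lit 153), [nat_lit 3, nat_lit 3, nat_lit 3, nat_lit 1])))))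
 (.node (nat_lit 1041) (.node (nat_lit 1039) (.node (nat_lit 1038) (.leaf ((nat_lit 126), [nat_lit 3, nat_lit 3])) (.leaf ((nat_lit 283), [nat_lit 2, nat_lit 2, nat_lit 1, nat_lit 0]))) (.node (nat_lit 1040) (.leaf ((nat_lit 246), [nat_lit 3, nat_lit 0, nat_lit 3, nat_lit 0])) (.leaf ((nat_lit 173), [nat_lit 2, nat_lit 0, nat_lit 3, nat_lit 1, nat_lit 0]))))
 (.node (nat_lit 1043) (.node (nat_lit 1042) (.leaf ((nat_lit 305), [nat_lit 3, nat_lit 3, nat_lit 3, nat_lit 0])) (.leaf ((nat_lit 53), [nat_lit 3, nat_lit 3, nat_lit 0]))) (.node (nat_lit 1044) (.leaf ((nat_lit 211), [nat_lit 0])) (.node (nat_lit 1045) (.leaf ((nat_lit 192), [nat_lit 3, nat_lit 3, nat_lit 3, nat_lit 1, nat_lit 0])) (.leaf ((nat_lit 257), [nat_lit 2, nat_lit 1]))))))))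
 (.node (nat_lit 1063) (.node (nat_lit 1054) (.node (nat_lit 1050) (.node (nat_lit 1048) (.node (nat_lit 1047) (.leaf ((nat_lit 233), [])) (.leaf ((nat_lit 338), [nat_lit 3, nat_lit 1, nat_lit 0]))) (.node (nat_lit 1049) (.leaf ((nat_lit 207), [nat_lit 2, nat_lit 2])) (.leaf ((nat_lit 53), [nat_lit 2, nat_lit 2, nat_lit 0, nat_lit 2]))))
 (.node (nat_lit 1052) (.node (nat_lit 1051) (.leaf ((nat_lit 259), [nat_lit 0, nat_lit 3, nat_lit 1])) (.leaf ((nat_lit 339), [nat_lit 2, nat_lit 2, nat_lit 0]))) (.node (nat_lit 1053) (.leaf ((nat_lit 266), [nat_lit 0, nat_lit 2, nat_lit 1])) (.leaf ((nat_lit 78), [nat_lit 3, nat_lit 3, nat_lit 3, nat_lit 1])))))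
 (.node (nat_lit 1058) (.node (nat_lit 1056) (.node (nat_lit 1055) (.leaf ((nat_lit 54), [])) (.leaf ((nat_lit 323), [nat_lit 2, nat_lit 2, nat_lit 1]))) (.node (nat_lit 1057) (.leaf ((nat_lit 219), [nat_lit 2, nat_lit 2, nat_lit 0, nat_lit 2, nat_lit 0])) (.leaf ((nat_lit 219), [nat_lit 2, nat_lit 2, nat_lit 2]))))
 (.node (nat_lit 1060) (.node (nat_lit 1059) (.leaf ((nat_lit 252), [nat_lit 2, nat_lit 0, nat_lit 2, nat_lit 1])) (.leaf ((nat_lit 340), [nat_lit 3, nat_lit 0, nat_lit 3, nat_lit 1, nat_lit 0]))) (.node (nat_lit 1061) (.leaf ((nat_lit 221), [nat_lit 2, nat_lit 2])) (.node (nat_lit 1062) (.leaf ((nat_lit 54), [nat_lit 3, nat_lit 3, nat_lit 3, nat_lit 1])) (.leaf ((nat_lit 311), [nat_lit 0, nat_lit 2, nat_lit 1, nat_lit 0])))))))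
 (.node (nat_lit 1071) (.node (nat_lit 1067) (.node (nat_lit 1065) (.node (nat_lit 1064) (.leaf ((nat_lit 55), [nat_lit 2, nat_lit 1])) (.leaf ((nat_lit 311), [nat_lit 2, nat_lit 1]))) (.node (nat_lit 1066) (.leaf ((nat_lit 315), [nat_lit 3, nat_lit 3])) (.leaf ((nat_lit 339), [nat_lit 3, nat_lit 0, nat_lit 3, nat_lit 0]))))
 (.node (nat_lit 1069) (.node (nat_lit 1068) (.leaf ((nat_lit 89), [])) (.leaf ((nat_lit 255), [nat_lit 2, nat_lit 2, nat_lit 0]))) (.node (nat_lit 1070) (.leaf ((nat_lit 335), [nat_lit 2, nat_lit 2, nat_lit 0])) (.leaf ((nat_lit 184), [nat_lit 3, nat_lit 0, nat_lit 3])))))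
 (.node (nat_lit 1075) (.node (nat_lit 1073) (.node (nat_lit 1072) (.leaf ((nat_lit 327), [nat_lit 3, nat_lit 3, nat_lit 3, nat_lit 1])) (.leaf ((nat_lit 138), [nat_lit 2, nat_lit 0, nat_lit 3, nat_lit 1, nat_lit 0]))) (.node (nat_lit 1074) (.leaf ((nat_lit 55), [nat_lit 0, nat_lit 3, nat_lit 1, nat_lit 0])) (.leaf ((nat_lit 179), [nat_lit 2, nat_lit 0, nat_lit 3, nat_lit 0]))))
 (.node (nat_lit 1077) (.node (nat_lit 1076) (.leaf ((nat_lit 56), [nat_lit 3, nat_lit 1, nat_lit 0])) (.leaf ((nat_lit 190), [nat_lit 2, nat_lit 0, nat_lit 3, nat_lit 0]))) (.node (nat_lit 1078) (.leaf ((nat_lit 94), [nat_lit 2, nat_lit 2, nat_lit 0])) (.node (nat_lit 1079) (.leaf ((nat_lit 60), [nat_lit 3, nat_lit 3, nat_lit 0, nat_lit 3])) (.leaf ((nat_lit 170), [nat_lit 2, nat_lit 2, nat_lit 0, nat_lit 2, nat_lit 1]))))))))))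
noncomputable def n13Wd_8 : Tr (ℕ × List ℕ) := (.node (nat_lit 1147) (.node (nat_lit 1113) (.node (nat_lit 1096) (.node (nat_lit 1088) (.node (nat_lit 1084) (.node (nat_lit 1082) (.node (nat_lit 1081) (.leaf ((nat_lit 180), [nat_lit 0])) (.leaf ((nat_lit 190), [nat_lit 2, nat_lit 2, nat_lit 2, nat_lit 1]))) (.node (nat_lit 1083) (.leaf ((nat_lit 56), [nat_lit 2, nat_lit 0, nat_lit 2, nat_lit 1])) (.leaf ((nat_lit 321), [nat_lit 3, nat_lit 3, nat_lit 0]))))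
 (.node (nat_lit 1086) (.node (nat_lit 1085) (.leaf ((nat_lit 341), [nat_lit 2, nat_lit 1, nat_lit 0])) (.leaf ((nat_lit 155), [nat_lit 3, nat_lit 3]))) (.node (nat_lit 1087) (.leaf ((nat_lit 181), [nat_lit 1])) (.leaf ((nat_lit 341), [nat_lit 3, nat_lit 3, nat_lit 0])))))
 (.node (nat_lit 1092) (.node (nat_lit 1090) (.node (nat_lit 1089) (.leaf ((nat_lit 342), [nat_lit 2, nat_lit 0, nat_lit 3, nat_lit 1])) (.leaf ((nat_lit 56), [nat_lit 2, nat_lit 0, nat_lit 3, nat_lit 0]))) (.node (nat_lit 1091) (.leaf ((nat_lit 194), [nat_lit 2, nat_lit 1, nat_lit 0])) (.leaf ((nat_lit 287), [nat_lit 3, nat_lit 1]))))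
 (.node (nat_lit 1094) (.node (nat_lit 1093) (.leaf ((nat_lit 182), [nat_lit 2, nat_lit 0, nat_lit 3])) (.leaf ((nat_lit 63), [nat_lit 3, nat_lit 3]))) (.node (nat_lit 1095) (.leaf ((nat_lit 94), [nat_lit 2, nat_lit 2, nat_lit 0, nat_lit 2, nat_lit 0])) (.leaf ((nat_lit 194), [nat_lit 3, nat_lit 0, nat_lit 3, nat_lit 1, nat_lit 0]))))))
 (.node (nat_lit 1104) (.node (nat_lit 1100) (.node (nat_lit 1098) (.node (nat_lit 1097) (.leaf ((nat_lit 56), [nat_lit 3, nat_lit 3, nat_lit 0, nat_lit 3])) (.leaf ((nat_lit 215), [nat_lit 3, nat_lit 1]))) (.node (nat_lit 1099) (.leaf ((nat_lit 144), [nat_lit 2, nat_lit 2, nat_lit 0, nat_lit 2, nat_lit 1, nat_lit 0])) (.leaf ((nat_lit 308), [nat_lit 3, nat_lit 3, nat_lit 3, nat_lit 1]))))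
 (.node (nat_lit 1102) (.node (nat_lit 1101) (.leaf ((nat_lit 144), [nat_lit 2, nat_lit 2, nat_lit 0, nat_lit 2])) (.leaf ((nat_lit 57), [nat_lit 2, nat_lit 2, nat_lit 0, nat_lit 2, nat_lit 0]))) (.node (nat_lit 1103) (.leaf ((nat_lit 197), [nat_lit 2, nat_lit 2, nat_lit 0, nat_lit 2, nat_lit 1, nat_lit 0])) (.leaf ((nat_lit 139), [nat_lit 3, nat_lit 3, nat_lit 3, nat_lit 1, nat_lit 0])))))
 (.node (nat_lit 1108) (.node (nat_lit 1106) (.node (nat_lit 1105) (.leaf ((nat_lit 335), [nat_lit 3, nat_lit 3, nat_lit 3, nat_lit 0])) (.leaf ((nat_lit 255), [nat_lit 3, nat_lit 3, nat_lit 3, nat_lit 0]))) (.node (nat_lit 1107) (.leaf ((nat_lit 178), [nat_lit 2, nat_lit 0, nat_lit 2])) (.leaf ((nat_lit 91), [nat_lit 2, nat_lit 2, nat_lit 0]))))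
 (.node (nat_lit 1110) (.node (nat_lit 1109) (.leaf ((nat_lit 186), [nat_lit 2, nat_lit 0, nat_lit 3, nat_lit 1, nat_lit 0])) (.leaf ((nat_lit 57), [nat_lit 2]))) (.node (nat_lit 1111) (.leaf ((nat_lit 59), [nat_lit 3, nat_lit 3])) (.node (nat_lit 1112) (.leaf ((nat_lit 186), [nat_lit 2, nat_lit 2, nat_lit 2, nat_lit 1])) (.leaf ((nat_lit 133), [nat_lit 3, nat_lit 3, nat_lit 0]))))))))
 (.node (nat_lit 1130) (.node (nat_lit 1121) (.node (nat_lit 1117) (.node (nat_lit 1115) (.node (nat_lit 1114) (.leaf ((nat_lit 206), [nat_lit 2, nat_lit 2, nat_lit 0, nat_lit 2, nat_lit 1, nat_lit 0])) (.leaf ((nat_lit 164), [nat_lit 0]))) (.node (nat_lit 1116) (.leaf ((nat_lit 309), [nat_lit 2, nat_lit 2, nat_lit 2, nat_lit 1])) (.leaf ((nat_lit 133), [nat_lit 2, nat_lit 0, nat_lit 2, nat_lit 0]))))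
 (.node (nat_lit 1119) (.node (nat_lit 1118) (.leaf ((nat_lit 185), [nat_lit 3, nat_lit 3, nat_lit 3, nat_lit 0])) (.leaf ((nat_lit 59), [nat_lit 2, nat_lit 2, nat_lit 1, nat_lit 0]))) (.node (nat_lit 1120) (.leaf ((nat_lit 259), [nat_lit 3, nat_lit 3, nat_lit 0])) (.leaf ((nat_lit 184), [nat_lit 2, nat_lit 0, nat_lit 3, nat_lit 1, nat_lit 0])))))
 (.node (nat_lit 1125) (.node (nat_lit 1123) (.node (nat_lit 1122) (.leaf ((nat_lit 308), [nat_lit 3, nat_lit 3, nat_lit 3, nat_lit 1])) (.leaf ((nat_lit 187), [nat_lit 2, nat_lit 0, nat_lit 3, nat_lit 1]))) (.node (nat_lit 1124) (.leaf ((nat_lit 61), [nat_lit 0, nat_lit 3, nat_lit 0])) (.leaf ((nat_lit 60), [nat_lit 0, nat_lit 3, nat_lit 1, nat_lit 0]))))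
 (.node (nat_lit 1127) (.node (nat_lit 1126) (.leaf ((nat_lit 262), [nat_lit 2, nat_lit 0, nat_lit 2])) (.leaf ((nat_lit 193), [nat_lit 2, nat_lit 2, nat_lit 0, nat_lit 2, nat_lit 1, nat_lit 0]))) (.node (nat_lit 1128) (.leaf ((nat_lit 275), [nat_lit 3, nat_lit 3, nat_lit 0, nat_lit 3])) (.node (nat_lit 1129) (.leaf ((nat_lit 188), [nat_lit 1, nat_lit 0])) (.leaf ((nat_lit 342), [nat_lit 3, nat_lit 0])))))))
 (.node (nat_lit 1138) (.node (nat_lit 1134) (.node (nat_lit 1132) (.node (nat_lit 1131) (.leaf ((nat_lit 341), [nat_lit 3, nat_lit 3, nat_lit 3])) (.leaf ((nat_lit 60), [nat_lit 0, nat_lit 3, nat_lit 1]))) (.node (nat_lit 1133) (.leaf ((nat_lit 94), [nat_lit 3, nat_lit 3, nat_lit 3, nat_lit 1])) (.leaf ((nat_lit 111), [nat_lit 2, nat_lit 2, nat_lit 0, nat_lit 2]))))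
 (.node (nat_lit 1136) (.node (nat_lit 1135) (.leaf ((nat_lit 160), [nat_lit 3])) (.leaf ((nat_lit 102), [nat_lit 3, nat_lit 0, nat_lit 3, nat_lit 0]))) (.node (nat_lit 1137) (.leaf ((nat_lit 220), [nat_lit 3])) (.leaf ((nat_lit 215), [nat_lit 2, nat_lit 0, nat_lit 3, nat_lit 1])))))
 (.node (nat_lit 1142) (.node (nat_lit 1140) (.node (nat_lit 1139) (.leaf ((nat_lit 308), [nat_lit 2, nat_lit 2, nat_lit 0, nat_lit 2, nat_lit 1])) (.leaf ((nat_lit 60), [nat_lit 2, nat_lit 2, nat_lit 2, nat_lit 0]))) (.node (nat_lit 1141) (.leaf ((nat_lit 190), [nat_lit 2, nat_lit 0, nat_lit 3, nat_lit 0])) (.leaf ((nat_lit 180), [nat_lit 3, nat_lit 3, nat_lit 3, nat_lit 0]))))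
 (.node (nat_lit 1144) (.node (nat_lit 1143) (.leaf ((nat_lit 179), [nat_lit 2, nat_lit 0, nat_lit 3, nat_lit 0])) (.leaf ((nat_lit 61), [nat_lit 0, nat_lit 3]))) (.node (nat_lit 1145) (.leaf ((nat_lit 343), [nat_lit 3, nat_lit 3, nat_lit 3, nat_lit 1])) (.node (nat_lit 1146) (.leaf ((nat_lit 118), [nat_lit 2, nat_lit 0, nat_lit 2, nat_lit 1, nat_lit 0])) (.leaf ((nat_lit 191), [nat_lit 2, nat_lit 0, nat_lit 3])))))))))
 (.node (nat_lit 1181) (.node (nat_lit 1164) (.node (nat_lit 1155) (.node (nat_lit 1151) (.node (nat_lit 1149) (.node (nat_lit 1148) (.leaf ((nat_lit 195), [nat_lit 3, nat_lit 3, nat_lit 3, nat_lit 1, nat_lit 0])) (.leaf ((nat_lit 321), [nat_lit 0, nat_lit 3, nat_lit 1]))) (.node (nat_lit 1150) (.leaf ((nat_lit 343), [nat_lit 3, nat_lit 3, nat_lit 3, nat_lit 0])) (.leaf ((nat_lit 61), [nat_lit 0, nat_lit 3, nat_lit 1, nat_lit 0]))))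
 (.node (nat_lit 1153) (.node (nat_lit 1152) (.leaf ((nat_lit 222), [nat_lit 3, nat_lit 0, nat_lit 3])) (.leaf ((nat_lit 174), [nat_lit 2, nat_lit 2, nat_lit 0, nat_lit 2, nat_lit 0]))) (.node (nat_lit 1154) (.leaf ((nat_lit 216), [nat_lit 3, nat_lit 3, nat_lit 0, nat_lit 3, nat_lit 1, nat_lit 0])) (.leaf ((nat_lit 326), [nat_lit 2, nat_lit 0, nat_lit 3, nat_lit 1, nat_lit 0])))))
 (.node (nat_lit 1159) (.node (nat_lit 1157) (.node (nat_lit 1156) (.leaf ((nat_lit 146), [nat_lit 2, nat_lit 2, nat_lit 1])) (.leaf ((nat_lit 310), [nat_lit 3, nat_lit 0, nat_lit 3, nat_lit 1, nat_lit 0]))) (.node (nat_lit 1158) (.leaf ((nat_lit 61), [nat_lit 2, nat_lit 0, nat_lit 2, nat_lit 1])) (.leaf ((nat_lit 193), [nat_lit 0]))))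
 (.node (nat_lit 1161) (.node (nat_lit 1160) (.leaf ((nat_lit 62), [nat_lit 3, nat_lit 0, nat_lit 3, nat_lit 1])) (.leaf ((nat_lit 343), [nat_lit 2, nat_lit 2, nat_lit 2, nat_lit 1, nat_lit 0]))) (.node (nat_lit 1162) (.leaf ((nat_lit 342), [nat_lit 2, nat_lit 2, nat_lit 1, nat_lit 0])) (.node (nat_lit 1163) (.leaf ((nat_lit 187), [nat_lit 3, nat_lit 3, nat_lit 3, nat_lit 1])) (.leaf ((nat_lit 319), [nat_lit 2, nat_lit 2, nat_lit 0, nat_lit 2, nat_lit 1])))))))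
 (.node (nat_lit 1172) (.node (nat_lit 1168) (.node (nat_lit 1166) (.node (nat_lit 1165) (.leaf ((nat_lit 194), [nat_lit 0])) (.leaf ((nat_lit 343), [nat_lit 2, nat_lit 2, nat_lit 2, nat_lit 1]))) (.node (nat_lit 1167) (.leaf ((nat_lit 62), [nat_lit 3, nat_lit 0, nat_lit 3, nat_lit 1, nat_lit 0])) (.leaf ((nat_lit 182), [nat_lit 2, nat_lit 2, nat_lit 1]))))
 (.node (nat_lit 1170) (.node (nat_lit 1169) (.leaf ((nat_lit 181), [nat_lit 0, nat_lit 3, nat_lit 1, nat_lit 0])) (.leaf ((nat_lit 280), [nat_lit 0, nat_lit 2, nat_lit 1, nat_lit 0]))) (.node (nat_lit 1171) (.leaf ((nat_lit 195), [nat_lit 1, nat_lit 0])) (.leaf ((nat_lit 191), [nat_lit 2, nat_lit 2, nat_lit 0, nat_lit 2, nat_lit 0])))))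
 (.node (nat_lit 1176) (.node (nat_lit 1174) (.node (nat_lit 1173) (.leaf ((nat_lit 262), [nat_lit 2, nat_lit 2, nat_lit 1, nat_lit 0])) (.leaf ((nat_lit 63), [nat_lit 3, nat_lit 3, nat_lit 0, nat_lit 3]))) (.node (nat_lit 1175) (.leaf ((nat_lit 62), [nat_lit 3, nat_lit 3, nat_lit 0, nat_lit 3])) (.leaf ((nat_lit 243), [nat_lit 0, nat_lit 2, nat_lit 0]))))
 (.node (nat_lit 1178) (.node (nat_lit 1177) (.leaf ((nat_lit 196), [nat_lit 2, nat_lit 0, nat_lit 3, nat_lit 1, nat_lit 0])) (.leaf ((nat_lit 94), [nat_lit 3, nat_lit 3, nat_lit 1]))) (.node (nat_lit 1179) (.leaf ((nat_lit 63), [nat_lit 1, nat_lit 0])) (.node (nat_lit 1180) (.leaf ((nat_lit 341), [nat_lit 0])) (.leaf ((nat_lit 321), [nat_lit 3, nat_lit 3, nat_lit 3, nat_lit 1]))))))))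
 (.node (nat_lit 1198) (.node (nat_lit 1189) (.node (nat_lit 1185) (.node (nat_lit 1183) (.node (nat_lit 1182) (.leaf ((nat_lit 317), [nat_lit 2, nat_lit 0, nat_lit 3, nat_lit 1, nat_lit 0])) (.leaf ((nat_lit 307), [nat_lit 2, nat_lit 0, nat_lit 3, nat_lit 1, nat_lit 0]))) (.node (nat_lit 1184) (.leaf ((nat_lit 212), [nat_lit 3, nat_lit 1, nat_lit 0])) (.leaf ((nat_lit 109), [nat_lit 2]))))
 (.node (nat_lit 1187) (.node (nat_lit 1186) (.leaf ((nat_lit 170), [nat_lit 2, nat_lit 2, nat_lit 1, nat_lit 0])) (.leaf ((nat_lit 183), [nat_lit 3, nat_lit 3, nat_lit 3, nat_lit 1]))) (.node (nat_lit 1188) (.leaf ((nat_lit 63), [nat_lit 0, nat_lit 3])) (.leaf ((nat_lit 65), [nat_lit 3, nat_lit 3, nat_lit 3, nat_lit 0])))))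
 (.node (nat_lit 1193) (.node (nat_lit 1191) (.node (nat_lit 1190) (.leaf ((nat_lit 198), [nat_lit 2, nat_lit 0, nat_lit 3, nat_lit 0])) (.leaf ((nat_lit 64), []))) (.node (nat_lit 1192) (.leaf ((nat_lit 104), [nat_lit 0, nat_lit 2, nat_lit 0])) (.leaf ((nat_lit 103), [nat_lit 3, nat_lit 3, nat_lit 3, nat_lit 1]))))
 (.node (nat_lit 1195) (.node (nat_lit 1194) (.leaf ((nat_lit 331), [nat_lit 3, nat_lit 0, nat_lit 3, nat_lit 1])) (.leaf ((nat_lit 167), [nat_lit 2, nat_lit 2, nat_lit 1, nat_lit 0]))) (.node (nat_lit 1196) (.leaf ((nat_lit 96), [nat_lit 0, nat_lit 2, nat_lit 0])) (.node (nat_lit 1197) (.leaf ((nat_lit 75), [nat_lit 3])) (.leaf ((nat_lit 64), [nat_lit 0, nat_lit 3, nat_lit 1, nat_lit 0])))))))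
 (.node (nat_lit 1206) (.node (nat_lit 1202) (.node (nat_lit 1200) (.node (nat_lit 1199) (.leaf ((nat_lit 228), [])) (.leaf ((nat_lit 344), [nat_lit 3, nat_lit 3, nat_lit 3, nat_lit 1, nat_lit 0]))) (.node (nat_lit 1201) (.leaf ((nat_lit 301), [nat_lit 2, nat_lit 0, nat_lit 3, nat_lit 1])) (.leaf ((nat_lit 120), [nat_lit 2, nat_lit 0]))))
 (.node (nat_lit 1204) (.node (nat_lit 1203) (.leaf ((nat_lit 119), [nat_lit 3, nat_lit 0, nat_lit 3, nat_lit 1, nat_lit 0])) (.leaf ((nat_lit 228), [nat_lit 0, nat_lit 3]))) (.node (nat_lit 1205) (.leaf ((nat_lit 64), [nat_lit 3, nat_lit 0, nat_lit 3, nat_lit 0])) (.leaf ((nat_lit 304), [nat_lit 2, nat_lit 0, nat_lit 2, nat_lit 0])))))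
 (.node (nat_lit 1210) (.node (nat_lit 1208) (.node (nat_lit 1207) (.leaf ((nat_lit 337), [nat_lit 3, nat_lit 1, nat_lit 0])) (.leaf ((nat_lit 201), [nat_lit 2, nat_lit 0, nat_lit 3]))) (.node (nat_lit 1209) (.leaf ((nat_lit 332), [nat_lit 3, nat_lit 1])) (.leaf ((nat_lit 221), [nat_lit 2, nat_lit 0, nat_lit 3, nat_lit 1, nat_lit 0]))))
 (.node (nat_lit 1212) (.node (nat_lit 1211) (.leaf ((nat_lit 340), [nat_lit 2, nat_lit 2, nat_lit 2, nat_lit 1, nat_lit 0])) (.leaf ((nat_lit 64), [nat_lit 1, nat_lit 0]))) (.node (nat_lit 1213) (.leaf ((nat_lit 345), [nat_lit 3, nat_lit 3, nat_lit 3, nat_lit 1, nat_lit 0])) (.node (nat_lit 1214) (.leaf ((nat_lit 282), [nat_lit 2, nat_lit 2, nat_lit 2, nat_lit 0])) (.leaf ((nat_lit 281), [nat_lit 2, nat_lit 2, nat_lit 0, nat_lit 2, nat_lit 0]))))))))))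
noncomputable def n13Wd_9 : Tr (ℕ × List ℕ) := (.node (nat_lit 1282) (.node (nat_lit 1248) (.node (nat_lit 1231) (.node (nat_lit 1223) (.node (nat_lit 1219) (.node (nat_lit 1217) (.node (nat_lit 1216) (.leaf ((nat_lit 219), [nat_lit 3])) (.leaf ((nat_lit 65), [nat_lit 3, nat_lit 3, nat_lit 0, nat_lit 3, nat_lit 1, nat_lit 0]))) (.node (nat_lit 1218) (.leaf ((nat_lit 117), [nat_lit 3, nat_lit 3, nat_lit 0, nat_lit 3, nat_lit 1])) (.leaf ((nat_lit 95), [nat_lit 2, nat_lit 0, nat_lit 2, nat_lit 1, nat_lit 0]))))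
 (.node (nat_lit 1221) (.node (nat_lit 1220) (.leaf ((nat_lit 203), [nat_lit 2, nat_lit 0, nat_lit 3, nat_lit 1, nat_lit 0])) (.leaf ((nat_lit 346), [nat_lit 2, nat_lit 0, nat_lit 3]))) (.node (nat_lit 1222) (.leaf ((nat_lit 156), [nat_lit 3, nat_lit 3, nat_lit 3])) (.leaf ((nat_lit 84), [nat_lit 2, nat_lit 0, nat_lit 2, nat_lit 1, nat_lit 0])))))
 (.node (nat_lit 1227) (.node (nat_lit 1225) (.node (nat_lit 1224) (.leaf ((nat_lit 65), [nat_lit 0, nat_lit 3, nat_lit 1])) (.leaf ((nat_lit 66), [nat_lit 1, nat_lit 0]))) (.node (nat_lit 1226) (.leaf ((nat_lit 347), [nat_lit 3, nat_lit 3, nat_lit 3, nat_lit 1, nat_lit 0])) (.leaf ((nat_lit 70), [nat_lit 3, nat_lit 3, nat_lit 3]))))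
 (.node (nat_lit 1229) (.node (nat_lit 1228) (.leaf ((nat_lit 264), [nat_lit 2, nat_lit 2, nat_lit 2, nat_lit 0])) (.leaf ((nat_lit 149), [nat_lit 3, nat_lit 3]))) (.node (nat_lit 1230) (.leaf ((nat_lit 83), [nat_lit 2, nat_lit 0, nat_lit 3, nat_lit 1])) (.leaf ((nat_lit 347), [nat_lit 0, nat_lit 3, nat_lit 1]))))))
 (.node (nat_lit 1239) (.node (nat_lit 1235) (.node (nat_lit 1233) (.node (nat_lit 1232) (.leaf ((nat_lit 66), [nat_lit 2, nat_lit 0, nat_lit 2, nat_lit 0])) (.leaf ((nat_lit 334), [nat_lit 2, nat_lit 2, nat_lit 0, nat_lit 2, nat_lit 1, nat_lit 0]))) (.node (nat_lit 1234) (.leaf ((nat_lit 324), [nat_lit 2, nat_lit 0, nat_lit 2])) (.leaf ((nat_lit 205), [nat_lit 1, nat_lit 0]))))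
 (.node (nat_lit 1237) (.node (nat_lit 1236) (.leaf ((nat_lit 147), [nat_lit 2, nat_lit 2, nat_lit 1])) (.leaf ((nat_lit 70), [nat_lit 0, nat_lit 2, nat_lit 1]))) (.node (nat_lit 1238) (.leaf ((nat_lit 334), [nat_lit 3, nat_lit 0, nat_lit 3, nat_lit 1, nat_lit 0])) (.leaf ((nat_lit 66), [nat_lit 3, nat_lit 3, nat_lit 3, nat_lit 0])))))
 (.node (nat_lit 1243) (.node (nat_lit 1241) (.node (nat_lit 1240) (.leaf ((nat_lit 185), [nat_lit 3, nat_lit 3, nat_lit 3, nat_lit 1])) (.leaf ((nat_lit 281), [nat_lit 2, nat_lit 2, nat_lit 2, nat_lit 1, nat_lit 0]))) (.node (nat_lit 1242) (.leaf ((nat_lit 306), [nat_lit 2, nat_lit 1, nat_lit 0])) (.leaf ((nat_lit 254), [nat_lit 3, nat_lit 0, nat_lit 3, nat_lit 1]))))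
 (.node (nat_lit 1245) (.node (nat_lit 1244) (.leaf ((nat_lit 121), [nat_lit 2, nat_lit 0, nat_lit 3, nat_lit 1])) (.leaf ((nat_lit 207), [nat_lit 0]))) (.node (nat_lit 1246) (.leaf ((nat_lit 304), [nat_lit 3, nat_lit 3, nat_lit 3, nat_lit 0])) (.node (nat_lit 1247) (.leaf ((nat_lit 174), [nat_lit 3, nat_lit 3])) (.leaf ((nat_lit 66), [nat_lit 3, nat_lit 3, nat_lit 3, nat_lit 1, nat_lit 0]))))))))
 (.node (nat_lit 1265) (.node (nat_lit 1256) (.node (nat_lit 1252) (.node (nat_lit 1250) (.node (nat_lit 1249) (.leaf ((nat_lit 67), [])) (.leaf ((nat_lit 208), [nat_lit 0]))) (.node (nat_lit 1251) (.leaf ((nat_lit 348), [nat_lit 2, nat_lit 2, nat_lit 2, nat_lit 1])) (.leaf ((nat_lit 296), [nat_lit 2, nat_lit 2, nat_lit 2, nat_lit 0]))))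
 (.node (nat_lit 1254) (.node (nat_lit 1253) (.leaf ((nat_lit 217), [nat_lit 2, nat_lit 0, nat_lit 2, nat_lit 1, nat_lit 0])) (.leaf ((nat_lit 337), [nat_lit 0, nat_lit 3]))) (.node (nat_lit 1255) (.leaf ((nat_lit 348), [nat_lit 3, nat_lit 0, nat_lit 3, nat_lit 1, nat_lit 0])) (.leaf ((nat_lit 209), [nat_lit 1, nat_lit 0])))))
 (.node (nat_lit 1260) (.node (nat_lit 1258) (.node (nat_lit 1257) (.leaf ((nat_lit 67), [nat_lit 2, nat_lit 2, nat_lit 0])) (.leaf ((nat_lit 98), [nat_lit 3, nat_lit 1, nat_lit 0]))) (.node (nat_lit 1259) (.leaf ((nat_lit 97), [nat_lit 3, nat_lit 0, nat_lit 3, nat_lit 1, nat_lit 0])) (.leaf ((nat_lit 346), []))))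
 (.node (nat_lit 1262) (.node (nat_lit 1261) (.leaf ((nat_lit 103), [nat_lit 0, nat_lit 3, nat_lit 0])) (.leaf ((nat_lit 326), [nat_lit 2, nat_lit 0]))) (.node (nat_lit 1263) (.leaf ((nat_lit 216), [nat_lit 3, nat_lit 3, nat_lit 0])) (.node (nat_lit 1264) (.leaf ((nat_lit 67), [nat_lit 2, nat_lit 2, nat_lit 0, nat_lit 2])) (.leaf ((nat_lit 323), [])))))))
 (.node (nat_lit 1273) (.node (nat_lit 1269) (.node (nat_lit 1267) (.node (nat_lit 1266) (.leaf ((nat_lit 286), [nat_lit 2, nat_lit 0, nat_lit 2, nat_lit 1, nat_lit 0])) (.leaf ((nat_lit 221), [nat_lit 0, nat_lit 2]))) (.node (nat_lit 1268) (.leaf ((nat_lit 79), [nat_lit 2, nat_lit 0, nat_lit 3, nat_lit 1, nat_lit 0])) (.leaf ((nat_lit 91), [nat_lit 3, nat_lit 0, nat_lit 3, nat_lit 1]))))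
 (.node (nat_lit 1271) (.node (nat_lit 1270) (.leaf ((nat_lit 323), [nat_lit 0, nat_lit 2])) (.leaf ((nat_lit 67), [nat_lit 3, nat_lit 3, nat_lit 0, nat_lit 3]))) (.node (nat_lit 1272) (.leaf ((nat_lit 173), [nat_lit 0])) (.leaf ((nat_lit 168), [nat_lit 2, nat_lit 1])))))
 (.node (nat_lit 1277) (.node (nat_lit 1275) (.node (nat_lit 1274) (.leaf ((nat_lit 197), [nat_lit 2, nat_lit 1])) (.leaf ((nat_lit 223), [nat_lit 1]))) (.node (nat_lit 1276) (.leaf ((nat_lit 336), [nat_lit 2, nat_lit 2])) (.leaf ((nat_lit 102), [nat_lit 3, nat_lit 3, nat_lit 3]))))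
 (.node (nat_lit 1279) (.node (nat_lit 1278) (.leaf ((nat_lit 68), [nat_lit 3, nat_lit 3, nat_lit 3, nat_lit 0])) (.leaf ((nat_lit 101), [nat_lit 3, nat_lit 3, nat_lit 0]))) (.node (nat_lit 1280) (.leaf ((nat_lit 330), [nat_lit 2])) (.node (nat_lit 1281) (.leaf ((nat_lit 272), [nat_lit 0, nat_lit 3, nat_lit 1, nat_lit 0])) (.leaf ((nat_lit 69), [nat_lit 3, nat_lit 3, nat_lit 0, nat_lit 3, nat_lit 1])))))))))
 (.node (nat_lit 1316) (.node (nat_lit 1299) (.node (nat_lit 1290) (.node (nat_lit 1286) (.node (nat_lit 1284) (.node (nat_lit 1283) (.leaf ((nat_lit 95), [nat_lit 2, nat_lit 2, nat_lit 0, nat_lit 2, nat_lit 1, nat_lit 0])) (.leaf ((nat_lit 129), [nat_lit 2, nat_lit 2, nat_lit 2]))) (.node (nat_lit 1285) (.leaf ((nat_lit 154), [nat_lit 2, nat_lit 0])) (.leaf ((nat_lit 317), [nat_lit 2, nat_lit 2, nat_lit 1]))))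
 (.node (nat_lit 1288) (.node (nat_lit 1287) (.leaf ((nat_lit 296), [nat_lit 2, nat_lit 2, nat_lit 0])) (.leaf ((nat_lit 229), [nat_lit 0, nat_lit 2, nat_lit 0]))) (.node (nat_lit 1289) (.leaf ((nat_lit 105), [nat_lit 3, nat_lit 3])) (.leaf ((nat_lit 69), [nat_lit 2, nat_lit 2, nat_lit 0, nat_lit 2])))))
 (.node (nat_lit 1294) (.node (nat_lit 1292) (.node (nat_lit 1291) (.leaf ((nat_lit 334), [nat_lit 3, nat_lit 3, nat_lit 0])) (.leaf ((nat_lit 70), [nat_lit 2, nat_lit 1, nat_lit 0]))) (.node (nat_lit 1293) (.leaf ((nat_lit 347), [nat_lit 0, nat_lit 2])) (.leaf ((nat_lit 189), [nat_lit 2, nat_lit 0, nat_lit 3, nat_lit 1]))))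
 (.node (nat_lit 1296) (.node (nat_lit 1295) (.leaf ((nat_lit 316), [nat_lit 3, nat_lit 3, nat_lit 3, nat_lit 1])) (.leaf ((nat_lit 182), [nat_lit 0, nat_lit 2, nat_lit 1]))) (.node (nat_lit 1297) (.leaf ((nat_lit 257), [nat_lit 0])) (.node (nat_lit 1298) (.leaf ((nat_lit 192), [nat_lit 2, nat_lit 2, nat_lit 0, nat_lit 2, nat_lit 1])) (.leaf ((nat_lit 210), [nat_lit 2, nat_lit 2, nat_lit 1, nat_lit 0])))))))
 (.node (nat_lit 1307) (.node (nat_lit 1303) (.node (nat_lit 1301) (.node (nat_lit 1300) (.leaf ((nat_lit 278), [nat_lit 2, nat_lit 2, nat_lit 0, nat_lit 2, nat_lit 0])) (.leaf ((nat_lit 70), [nat_lit 3, nat_lit 0, nat_lit 3, nat_lit 0]))) (.node (nat_lit 1302) (.leaf ((nat_lit 99), [nat_lit 2, nat_lit 2, nat_lit 1, nat_lit 0])) (.leaf ((nat_lit 72), [nat_lit 3, nat_lit 3, nat_lit 3, nat_lit 1]))))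
 (.node (nat_lit 1305) (.node (nat_lit 1304) (.leaf ((nat_lit 71), [nat_lit 3, nat_lit 0])) (.leaf ((nat_lit 135), [nat_lit 0, nat_lit 3, nat_lit 1]))) (.node (nat_lit 1306) (.leaf ((nat_lit 123), [nat_lit 2, nat_lit 0, nat_lit 3, nat_lit 1, nat_lit 0])) (.leaf ((nat_lit 208), [nat_lit 3, nat_lit 0, nat_lit 3, nat_lit 0])))))
 (.node (nat_lit 1311) (.node (nat_lit 1309) (.node (nat_lit 1308) (.leaf ((nat_lit 305), [nat_lit 3, nat_lit 3, nat_lit 1])) (.leaf ((nat_lit 237), [nat_lit 3, nat_lit 3, nat_lit 3, nat_lit 1, nat_lit 0]))) (.node (nat_lit 1310) (.leaf ((nat_lit 336), [nat_lit 2, nat_lit 2, nat_lit 1, nat_lit 0])) (.leaf ((nat_lit 336), [nat_lit 2, nat_lit 2, nat_lit 0]))))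
 (.node (nat_lit 1313) (.node (nat_lit 1312) (.leaf ((nat_lit 148), [nat_lit 3, nat_lit 3, nat_lit 3, nat_lit 1, nat_lit 0])) (.leaf ((nat_lit 147), [nat_lit 3, nat_lit 3, nat_lit 3, nat_lit 1, nat_lit 0]))) (.node (nat_lit 1314) (.leaf ((nat_lit 71), [nat_lit 3, nat_lit 3])) (.node (nat_lit 1315) (.leaf ((nat_lit 176), [nat_lit 3, nat_lit 3, nat_lit 3, nat_lit 1, nat_lit 0])) (.leaf ((nat_lit 176), [nat_lit 3, nat_lit 3, nat_lit 3]))))))))
 (.node (nat_lit 1333) (.node (nat_lit 1324) (.node (nat_lit 1320) (.node (nat_lit 1318) (.node (nat_lit 1317) (.leaf ((nat_lit 158), [nat_lit 3, nat_lit 1])) (.leaf ((nat_lit 202), [nat_lit 2]))) (.node (nat_lit 1319) (.leaf ((nat_lit 72), [nat_lit 0, nat_lit 2, nat_lit 1, nat_lit 0])) (.leaf ((nat_lit 148), [nat_lit 2, nat_lit 2, nat_lit 1]))))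
 (.node (nat_lit 1322) (.node (nat_lit 1321) (.leaf ((nat_lit 330), [nat_lit 0, nat_lit 2])) (.leaf ((nat_lit 101), [nat_lit 3, nat_lit 0, nat_lit 3, nat_lit 1]))) (.node (nat_lit 1323) (.leaf ((nat_lit 189), [nat_lit 2])) (.leaf ((nat_lit 220), [nat_lit 2, nat_lit 0, nat_lit 3, nat_lit 0])))))
 (.node (nat_lit 1328) (.node (nat_lit 1326) (.node (nat_lit 1325) (.leaf ((nat_lit 83), [nat_lit 3, nat_lit 3, nat_lit 3, nat_lit 1, nat_lit 0])) (.leaf ((nat_lit 72), [nat_lit 2, nat_lit 2, nat_lit 0, nat_lit 2]))) (.node (nat_lit 1327) (.leaf ((nat_lit 211), [nat_lit 3, nat_lit 0])) (.leaf ((nat_lit 73), [nat_lit 3, nat_lit 3, nat_lit 0]))))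
 (.node (nat_lit 1330) (.node (nat_lit 1329) (.leaf ((nat_lit 258), [nat_lit 3, nat_lit 3])) (.leaf ((nat_lit 201), [nat_lit 2, nat_lit 0, nat_lit 3, nat_lit 1, nat_lit 0]))) (.node (nat_lit 1331) (.leaf ((nat_lit 176), [nat_lit 3, nat_lit 3])) (.node (nat_lit 1332) (.leaf ((nat_lit 347), [nat_lit 2, nat_lit 1, nat_lit 0])) (.leaf ((nat_lit 234), [nat_lit 2])))))))
 (.node (nat_lit 1341) (.node (nat_lit 1337) (.node (nat_lit 1335) (.node (nat_lit 1334) (.leaf ((nat_lit 258), [nat_lit 0, nat_lit 3, nat_lit 1, nat_lit 0])) (.leaf ((nat_lit 73), [nat_lit 3]))) (.node (nat_lit 1336) (.leaf ((nat_lit 319), [nat_lit 0, nat_lit 2, nat_lit 1, nat_lit 0])) (.leaf ((nat_lit 134), [nat_lit 3, nat_lit 3, nat_lit 0, nat_lit 3]))))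
 (.node (nat_lit 1339) (.node (nat_lit 1338) (.leaf ((nat_lit 191), [nat_lit 2, nat_lit 0, nat_lit 2])) (.leaf ((nat_lit 292), [nat_lit 2, nat_lit 2, nat_lit 1, nat_lit 0]))) (.node (nat_lit 1340) (.leaf ((nat_lit 109), [nat_lit 2, nat_lit 2])) (.leaf ((nat_lit 212), [nat_lit 1])))))
 (.node (nat_lit 1345) (.node (nat_lit 1343) (.node (nat_lit 1342) (.leaf ((nat_lit 337), [nat_lit 2, nat_lit 2, nat_lit 2, nat_lit 1])) (.leaf ((nat_lit 99), [nat_lit 3, nat_lit 3, nat_lit 0]))) (.node (nat_lit 1344) (.leaf ((nat_lit 73), [nat_lit 3, nat_lit 0])) (.leaf ((nat_lit 112), [nat_lit 2, nat_lit 0, nat_lit 2, nat_lit 1]))))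
 (.node (nat_lit 1347) (.node (nat_lit 1346) (.leaf ((nat_lit 111), [nat_lit 2, nat_lit 0, nat_lit 3, nat_lit 1])) (.leaf ((nat_lit 104), [nat_lit 0, nat_lit 2, nat_lit 1]))) (.node (nat_lit 1348) (.leaf ((nat_lit 74), [nat_lit 0, nat_lit 3, nat_lit 1, nat_lit 0])) (.node (nat_lit 1349) (.leaf ((nat_lit 108), [nat_lit 2, nat_lit 2])) (.leaf ((nat_lit 293), [nat_lit 3, nat_lit 3, nat_lit 1]))))))))))
noncomputable def n13Wd_10 : Tr (ℕ × List ℕ) := (.node (nat_lit 1417) (.node (nat_lit 1383) (.node (nat_lit 1366) (.node (nat_lit 1358) (.node (nat_lit 1354) (.node (nat_lit 1352) (.node (nat_lit 1351) (.leaf ((nat_lit 349), [nat_lit 2, nat_lit 0, nat_lit 2, nat_lit 1])) (.leaf ((nat_lit 276), [nat_lit 2, nat_lit 2, nat_lit 2, nat_lit 1, nat_lit 0]))) (.node (nat_lit 1353) (.leaf ((nat_lit 276), [nat_lit 2, nat_lit 2, nat_lit 2, nat_lit 1])) (.leaf ((nat_lit 108), [nat_lit 3]))))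
 (.node (nat_lit 1356) (.node (nat_lit 1355) (.leaf ((nat_lit 74), [nat_lit 2, nat_lit 2, nat_lit 0, nat_lit 2, nat_lit 0])) (.leaf ((nat_lit 242), [nat_lit 0, nat_lit 3, nat_lit 1]))) (.node (nat_lit 1357) (.leaf ((nat_lit 261), [nat_lit 2, nat_lit 0, nat_lit 2])) (.leaf ((nat_lit 340), [nat_lit 3, nat_lit 3, nat_lit 0, nat_lit 3, nat_lit 0])))))
 (.node (nat_lit 1362) (.node (nat_lit 1360) (.node (nat_lit 1359) (.leaf ((nat_lit 131), [nat_lit 2, nat_lit 1])) (.leaf ((nat_lit 282), [nat_lit 0, nat_lit 3, nat_lit 1]))) (.node (nat_lit 1361) (.leaf ((nat_lit 226), [nat_lit 0])) (.leaf ((nat_lit 74), [nat_lit 2, nat_lit 0, nat_lit 3, nat_lit 0]))))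
 (.node (nat_lit 1364) (.node (nat_lit 1363) (.leaf ((nat_lit 270), [nat_lit 2, nat_lit 2, nat_lit 0])) (.leaf ((nat_lit 320), [nat_lit 2, nat_lit 2, nat_lit 2, nat_lit 1]))) (.node (nat_lit 1365) (.leaf ((nat_lit 269), [nat_lit 3])) (.leaf ((nat_lit 76), [nat_lit 0]))))))
 (.node (nat_lit 1374) (.node (nat_lit 1370) (.node (nat_lit 1368) (.node (nat_lit 1367) (.leaf ((nat_lit 75), [nat_lit 2, nat_lit 2, nat_lit 0])) (.leaf ((nat_lit 123), [nat_lit 2]))) (.node (nat_lit 1369) (.leaf ((nat_lit 350), [nat_lit 2, nat_lit 2, nat_lit 0])) (.leaf ((nat_lit 350), [nat_lit 2, nat_lit 2, nat_lit 1]))))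
 (.node (nat_lit 1372) (.node (nat_lit 1371) (.leaf ((nat_lit 277), [nat_lit 2, nat_lit 2, nat_lit 1])) (.leaf ((nat_lit 200), [nat_lit 2, nat_lit 0]))) (.node (nat_lit 1373) (.leaf ((nat_lit 199), [])) (.leaf ((nat_lit 75), [nat_lit 2, nat_lit 2, nat_lit 1, nat_lit 0])))))
 (.node (nat_lit 1378) (.node (nat_lit 1376) (.node (nat_lit 1375) (.leaf ((nat_lit 278), [nat_lit 2, nat_lit 2, nat_lit 2])) (.leaf ((nat_lit 76), [nat_lit 2, nat_lit 2, nat_lit 1]))) (.node (nat_lit 1377) (.leaf ((nat_lit 76), [nat_lit 2, nat_lit 0, nat_lit 2, nat_lit 1, nat_lit 0])) (.leaf ((nat_lit 214), [nat_lit 0, nat_lit 3, nat_lit 0]))))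
 (.node (nat_lit 1380) (.node (nat_lit 1379) (.leaf ((nat_lit 276), [nat_lit 2, nat_lit 2, nat_lit 0, nat_lit 2, nat_lit 0])) (.leaf ((nat_lit 251), [nat_lit 0]))) (.node (nat_lit 1381) (.leaf ((nat_lit 344), [nat_lit 2, nat_lit 0, nat_lit 3, nat_lit 1, nat_lit 0])) (.node (nat_lit 1382) (.leaf ((nat_lit 268), [nat_lit 3])) (.leaf ((nat_lit 150), [nat_lit 3, nat_lit 0, nat_lit 3, nat_lit 1]))))))))
 (.node (nat_lit 1400) (.node (nat_lit 1391) (.node (nat_lit 1387) (.node (nat_lit 1385) (.node (nat_lit 1384) (.leaf ((nat_lit 233), [nat_lit 3, nat_lit 1, nat_lit 0])) (.leaf ((nat_lit 230), [nat_lit 2, nat_lit 0, nat_lit 3, nat_lit 1, nat_lit 0]))) (.node (nat_lit 1386) (.leaf ((nat_lit 76), [nat_lit 0, nat_lit 3, nat_lit 1, nat_lit 0])) (.leaf ((nat_lit 78), [nat_lit 3, nat_lit 3, nat_lit 0, nat_lit 3]))))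
 (.node (nat_lit 1389) (.node (nat_lit 1388) (.leaf ((nat_lit 110), [nat_lit 2, nat_lit 0, nat_lit 2])) (.leaf ((nat_lit 110), [nat_lit 2, nat_lit 2, nat_lit 1]))) (.node (nat_lit 1390) (.leaf ((nat_lit 102), [nat_lit 3, nat_lit 1, nat_lit 0])) (.leaf ((nat_lit 336), [nat_lit 3, nat_lit 3, nat_lit 3, nat_lit 1, nat_lit 0])))))
 (.node (nat_lit 1395) (.node (nat_lit 1393) (.node (nat_lit 1392) (.leaf ((nat_lit 330), [nat_lit 2, nat_lit 0, nat_lit 2])) (.leaf ((nat_lit 110), [nat_lit 3, nat_lit 0, nat_lit 3, nat_lit 1, nat_lit 0]))) (.node (nat_lit 1394) (.leaf ((nat_lit 78), [nat_lit 0])) (.leaf ((nat_lit 78), []))))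
 (.node (nat_lit 1397) (.node (nat_lit 1396) (.leaf ((nat_lit 125), [nat_lit 2, nat_lit 1, nat_lit 0])) (.leaf ((nat_lit 81), [nat_lit 2, nat_lit 2, nat_lit 0, nat_lit 2, nat_lit 0]))) (.node (nat_lit 1398) (.leaf ((nat_lit 290), [nat_lit 3, nat_lit 0, nat_lit 3, nat_lit 1, nat_lit 0])) (.node (nat_lit 1399) (.leaf ((nat_lit 326), [nat_lit 3, nat_lit 3, nat_lit 0, nat_lit 3, nat_lit 0])) (.leaf ((nat_lit 103), [nat_lit 2, nat_lit 0, nat_lit 2, nat_lit 0])))))))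
 (.node (nat_lit 1408) (.node (nat_lit 1404) (.node (nat_lit 1402) (.node (nat_lit 1401) (.leaf ((nat_lit 174), [])) (.leaf ((nat_lit 230), [nat_lit 2, nat_lit 1]))) (.node (nat_lit 1403) (.leaf ((nat_lit 233), [nat_lit 1, nat_lit 0])) (.leaf ((nat_lit 78), [nat_lit 3, nat_lit 0, nat_lit 3]))))
 (.node (nat_lit 1406) (.node (nat_lit 1405) (.leaf ((nat_lit 222), [nat_lit 3])) (.leaf ((nat_lit 91), [nat_lit 3, nat_lit 3, nat_lit 0, nat_lit 3, nat_lit 0]))) (.node (nat_lit 1407) (.leaf ((nat_lit 79), [nat_lit 3, nat_lit 0])) (.leaf ((nat_lit 256), [nat_lit 0])))))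
 (.node (nat_lit 1412) (.node (nat_lit 1410) (.node (nat_lit 1409) (.leaf ((nat_lit 283), [nat_lit 3, nat_lit 3, nat_lit 3, nat_lit 1])) (.leaf ((nat_lit 150), [nat_lit 2, nat_lit 2, nat_lit 2, nat_lit 0]))) (.node (nat_lit 1411) (.leaf ((nat_lit 109), [nat_lit 2, nat_lit 2, nat_lit 2, nat_lit 0])) (.leaf ((nat_lit 292), [nat_lit 2, nat_lit 2, nat_lit 2, nat_lit 1, nat_lit 0]))))
 (.node (nat_lit 1414) (.node (nat_lit 1413) (.leaf ((nat_lit 307), [nat_lit 2, nat_lit 2, nat_lit 1, nat_lit 0])) (.leaf ((nat_lit 79), [nat_lit 3, nat_lit 3, nat_lit 0, nat_lit 3]))) (.node (nat_lit 1415) (.leaf ((nat_lit 235), [nat_lit 2, nat_lit 0, nat_lit 3, nat_lit 1, nat_lit 0])) (.node (nat_lit 1416) (.leaf ((nat_lit 278), [nat_lit 2, nat_lit 0, nat_lit 3, nat_lit 1])) (.leaf ((nat_lit 81), [nat_lit 3, nat_lit 3, nat_lit 0])))))))))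
 (.node (nat_lit 1451) (.node (nat_lit 1434) (.node (nat_lit 1425) (.node (nat_lit 1421) (.node (nat_lit 1419) (.node (nat_lit 1418) (.leaf ((nat_lit 80), [nat_lit 2, nat_lit 1, nat_lit 0])) (.leaf ((nat_lit 80), [nat_lit 2, nat_lit 1]))) (.node (nat_lit 1420) (.leaf ((nat_lit 351), [nat_lit 2, nat_lit 2, nat_lit 0, nat_lit 2, nat_lit 1])) (.leaf ((nat_lit 250), [nat_lit 3, nat_lit 3]))))
 (.node (nat_lit 1423) (.node (nat_lit 1422) (.leaf ((nat_lit 282), [nat_lit 3, nat_lit 3, nat_lit 0, nat_lit 3, nat_lit 1])) (.leaf ((nat_lit 218), [nat_lit 2, nat_lit 2, nat_lit 0, nat_lit 2, nat_lit 0]))) (.node (nat_lit 1424) (.leaf ((nat_lit 329), [nat_lit 3, nat_lit 3, nat_lit 0])) (.leaf ((nat_lit 329), [nat_lit 3, nat_lit 0, nat_lit 3, nat_lit 0])))))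
 (.node (nat_lit 1429) (.node (nat_lit 1427) (.node (nat_lit 1426) (.leaf ((nat_lit 157), [nat_lit 0, nat_lit 3])) (.leaf ((nat_lit 80), [nat_lit 3, nat_lit 3, nat_lit 3, nat_lit 1, nat_lit 0]))) (.node (nat_lit 1428) (.leaf ((nat_lit 120), [nat_lit 2, nat_lit 2, nat_lit 0, nat_lit 2, nat_lit 0])) (.leaf ((nat_lit 352), [nat_lit 0, nat_lit 2, nat_lit 0]))))
 (.node (nat_lit 1431) (.node (nat_lit 1430) (.leaf ((nat_lit 97), [nat_lit 2, nat_lit 2, nat_lit 1])) (.leaf ((nat_lit 353), [nat_lit 3, nat_lit 3, nat_lit 0, nat_lit 3]))) (.node (nat_lit 1432) (.leaf ((nat_lit 330), [nat_lit 3, nat_lit 0, nat_lit 3, nat_lit 0])) (.node (nat_lit 1433) (.leaf ((nat_lit 238), [nat_lit 2, nat_lit 0, nat_lit 3])) (.leaf ((nat_lit 80), [nat_lit 3, nat_lit 1, nat_lit 0])))))))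
 (.node (nat_lit 1442) (.node (nat_lit 1438) (.node (nat_lit 1436) (.node (nat_lit 1435) (.leaf ((nat_lit 306), [nat_lit 3, nat_lit 3, nat_lit 3, nat_lit 1])) (.leaf ((nat_lit 93), [nat_lit 2, nat_lit 2, nat_lit 0, nat_lit 2, nat_lit 0]))) (.node (nat_lit 1437) (.leaf ((nat_lit 260), [nat_lit 0, nat_lit 2, nat_lit 1])) (.leaf ((nat_lit 81), [nat_lit 2, nat_lit 0, nat_lit 3]))))
 (.node (nat_lit 1440) (.node (nat_lit 1439) (.leaf ((nat_lit 125), [nat_lit 3, nat_lit 3, nat_lit 1, nat_lit 0])) (.leaf ((nat_lit 350), [nat_lit 2, nat_lit 2, nat_lit 0, nat_lit 2, nat_lit 1, nat_lit 0]))) (.node (nat_lit 1441) (.leaf ((nat_lit 265), [nat_lit 2])) (.leaf ((nat_lit 284), [nat_lit 0, nat_lit 3])))))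
 (.node (nat_lit 1446) (.node (nat_lit 1444) (.node (nat_lit 1443) (.leaf ((nat_lit 325), [nat_lit 2, nat_lit 2, nat_lit 1, nat_lit 0])) (.leaf ((nat_lit 169), [nat_lit 3, nat_lit 0, nat_lit 3, nat_lit 1, nat_lit 0]))) (.node (nat_lit 1445) (.leaf ((nat_lit 240), [nat_lit 2, nat_lit 0, nat_lit 3])) (.leaf ((nat_lit 81), [nat_lit 2, nat_lit 2, nat_lit 0, nat_lit 2, nat_lit 1, nat_lit 0]))))
 (.node (nat_lit 1448) (.node (nat_lit 1447) (.leaf ((nat_lit 82), [nat_lit 3, nat_lit 3, nat_lit 3, nat_lit 1, nat_lit 0])) (.leaf ((nat_lit 98), []))) (.node (nat_lit 1449) (.leaf ((nat_lit 146), [nat_lit 2, nat_lit 2, nat_lit 0, nat_lit 2])) (.node (nat_lit 1450) (.leaf ((nat_lit 241), [nat_lit 1])) (.leaf ((nat_lit 92), [nat_lit 2, nat_lit 2, nat_lit 0, nat_lit 2, nat_lit 0]))))))))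
 (.node (nat_lit 1468) (.node (nat_lit 1459) (.node (nat_lit 1455) (.node (nat_lit 1453) (.node (nat_lit 1452) (.leaf ((nat_lit 269), [nat_lit 3, nat_lit 3, nat_lit 0, nat_lit 3, nat_lit 0])) (.leaf ((nat_lit 354), [nat_lit 0, nat_lit 3, nat_lit 0]))) (.node (nat_lit 1454) (.leaf ((nat_lit 100), [nat_lit 3, nat_lit 3, nat_lit 1])) (.leaf ((nat_lit 338), [nat_lit 2, nat_lit 2, nat_lit 1, nat_lit 0]))))
 (.node (nat_lit 1457) (.node (nat_lit 1456) (.leaf ((nat_lit 82), [nat_lit 2, nat_lit 2, nat_lit 0, nat_lit 2, nat_lit 1, nat_lit 0])) (.leaf ((nat_lit 242), [nat_lit 2, nat_lit 0, nat_lit 3, nat_lit 0]))) (.node (nat_lit 1458) (.leaf ((nat_lit 225), [nat_lit 0, nat_lit 2, nat_lit 1, nat_lit 0])) (.leaf ((nat_lit 85), [nat_lit 2, nat_lit 2, nat_lit 2, nat_lit 0])))))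
 (.node (nat_lit 1463) (.node (nat_lit 1461) (.node (nat_lit 1460) (.leaf ((nat_lit 108), [nat_lit 3, nat_lit 3, nat_lit 0, nat_lit 3, nat_lit 1, nat_lit 0])) (.leaf ((nat_lit 83), [nat_lit 3, nat_lit 3, nat_lit 0]))) (.node (nat_lit 1462) (.leaf ((nat_lit 275), [nat_lit 0, nat_lit 3, nat_lit 1, nat_lit 0])) (.leaf ((nat_lit 132), [nat_lit 3, nat_lit 3, nat_lit 0, nat_lit 3]))))
 (.node (nat_lit 1465) (.node (nat_lit 1464) (.leaf ((nat_lit 195), [nat_lit 0, nat_lit 3, nat_lit 0])) (.leaf ((nat_lit 108), [nat_lit 3, nat_lit 3, nat_lit 0, nat_lit 3]))) (.node (nat_lit 1466) (.leaf ((nat_lit 85), [nat_lit 2, nat_lit 2, nat_lit 2, nat_lit 1])) (.node (nat_lit 1467) (.leaf ((nat_lit 84), [nat_lit 3, nat_lit 3, nat_lit 3])) (.leaf ((nat_lit 313), [nat_lit 0, nat_lit 3])))))))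
 (.node (nat_lit 1476) (.node (nat_lit 1472) (.node (nat_lit 1470) (.node (nat_lit 1469) (.leaf ((nat_lit 168), [nat_lit 3, nat_lit 3, nat_lit 3, nat_lit 1])) (.leaf ((nat_lit 154), [nat_lit 0, nat_lit 3, nat_lit 1]))) (.node (nat_lit 1471) (.leaf ((nat_lit 277), [nat_lit 3, nat_lit 3, nat_lit 3, nat_lit 0])) (.leaf ((nat_lit 277), [nat_lit 3, nat_lit 3, nat_lit 0, nat_lit 3]))))
 (.node (nat_lit 1474) (.node (nat_lit 1473) (.leaf ((nat_lit 350), [nat_lit 3, nat_lit 3, nat_lit 0, nat_lit 3])) (.leaf ((nat_lit 84), [nat_lit 2, nat_lit 2, nat_lit 2, nat_lit 0]))) (.node (nat_lit 1475) (.leaf ((nat_lit 156), [nat_lit 3, nat_lit 3])) (.leaf ((nat_lit 258), [nat_lit 2, nat_lit 2])))))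
 (.node (nat_lit 1480) (.node (nat_lit 1478) (.node (nat_lit 1477) (.leaf ((nat_lit 355), [nat_lit 2, nat_lit 2, nat_lit 1, nat_lit 0])) (.leaf ((nat_lit 173), [nat_lit 2, nat_lit 0, nat_lit 2, nat_lit 1, nat_lit 0]))) (.node (nat_lit 1479) (.leaf ((nat_lit 246), [nat_lit 1])) (.leaf ((nat_lit 129), [nat_lit 0, nat_lit 3, nat_lit 0]))))
 (.node (nat_lit 1482) (.node (nat_lit 1481) (.leaf ((nat_lit 151), [nat_lit 3, nat_lit 3])) (.leaf ((nat_lit 84), [nat_lit 3]))) (.node (nat_lit 1483) (.leaf ((nat_lit 279), [nat_lit 0])) (.node (nat_lit 1484) (.leaf ((nat_lit 271), [nat_lit 2, nat_lit 2, nat_lit 2, nat_lit 1, nat_lit 0])) (.leaf ((nat_lit 247), [nat_lit 0]))))))))))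
noncomputable def n13Wd_11 : Tr (ℕ × List ℕ) := (.node (nat_lit 1552) (.node (nat_lit 1518) (.node (nat_lit 1501) (.node (nat_lit 1493) (.node (nat_lit 1489) (.node (nat_lit 1487) (.node (nat_lit 1486) (.leaf ((nat_lit 121), [nat_lit 2, nat_lit 2, nat_lit 0, nat_lit 2])) (.leaf ((nat_lit 85), []))) (.node (nat_lit 1488) (.leaf ((nat_lit 273), [nat_lit 2, nat_lit 2, nat_lit 2, nat_lit 1, nat_lit 0])) (.leaf ((nat_lit 86), [nat_lit 3, nat_lit 1, nat_lit 0]))))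
 (.node (nat_lit 1491) (.node (nat_lit 1490) (.leaf ((nat_lit 356), [nat_lit 3, nat_lit 3, nat_lit 3, nat_lit 1])) (.leaf ((nat_lit 287), [nat_lit 2, nat_lit 2, nat_lit 0, nat_lit 2, nat_lit 0]))) (.node (nat_lit 1492) (.leaf ((nat_lit 248), [nat_lit 2, nat_lit 0, nat_lit 3, nat_lit 1])) (.leaf ((nat_lit 352), [nat_lit 3, nat_lit 3])))))
 (.node (nat_lit 1497) (.node (nat_lit 1495) (.node (nat_lit 1494) (.leaf ((nat_lit 345), [nat_lit 3, nat_lit 3, nat_lit 1, nat_lit 0])) (.leaf ((nat_lit 356), [nat_lit 2, nat_lit 1]))) (.node (nat_lit 1496) (.leaf ((nat_lit 86), [nat_lit 2, nat_lit 2, nat_lit 0, nat_lit 2])) (.leaf ((nat_lit 312), [nat_lit 3, nat_lit 3, nat_lit 0, nat_lit 3, nat_lit 0]))))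
 (.node (nat_lit 1499) (.node (nat_lit 1498) (.leaf ((nat_lit 277), [nat_lit 2, nat_lit 0, nat_lit 2, nat_lit 0])) (.leaf ((nat_lit 348), [nat_lit 2, nat_lit 2, nat_lit 2, nat_lit 1, nat_lit 0]))) (.node (nat_lit 1500) (.leaf ((nat_lit 114), [nat_lit 2, nat_lit 0, nat_lit 2])) (.leaf ((nat_lit 276), [nat_lit 2, nat_lit 0, nat_lit 3, nat_lit 0]))))))
 (.node (nat_lit 1509) (.node (nat_lit 1505) (.node (nat_lit 1503) (.node (nat_lit 1502) (.leaf ((nat_lit 349), [nat_lit 0, nat_lit 3, nat_lit 1])) (.leaf ((nat_lit 349), [nat_lit 3, nat_lit 1, nat_lit 0]))) (.node (nat_lit 1504) (.leaf ((nat_lit 285), [nat_lit 3, nat_lit 3, nat_lit 0, nat_lit 3])) (.leaf ((nat_lit 236), [nat_lit 2, nat_lit 2]))))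
 (.node (nat_lit 1507) (.node (nat_lit 1506) (.leaf ((nat_lit 86), [nat_lit 2, nat_lit 2, nat_lit 2, nat_lit 1])) (.leaf ((nat_lit 92), [nat_lit 0]))) (.node (nat_lit 1508) (.leaf ((nat_lit 88), [nat_lit 3])) (.leaf ((nat_lit 87), [nat_lit 3, nat_lit 3])))))
 (.node (nat_lit 1513) (.node (nat_lit 1511) (.node (nat_lit 1510) (.leaf ((nat_lit 159), [nat_lit 2, nat_lit 2, nat_lit 2, nat_lit 1, nat_lit 0])) (.leaf ((nat_lit 251), [nat_lit 1, nat_lit 0]))) (.node (nat_lit 1512) (.leaf ((nat_lit 229), [nat_lit 0])) (.leaf ((nat_lit 158), [nat_lit 2, nat_lit 0, nat_lit 3]))))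
 (.node (nat_lit 1515) (.node (nat_lit 1514) (.leaf ((nat_lit 158), [nat_lit 2, nat_lit 0, nat_lit 3, nat_lit 1])) (.leaf ((nat_lit 176), [nat_lit 3, nat_lit 3, nat_lit 1, nat_lit 0]))) (.node (nat_lit 1516) (.leaf ((nat_lit 88), [nat_lit 2, nat_lit 2, nat_lit 1, nat_lit 0])) (.node (nat_lit 1517) (.leaf ((nat_lit 356), [nat_lit 3, nat_lit 3, nat_lit 3, nat_lit 1])) (.leaf ((nat_lit 285), [nat_lit 2, nat_lit 0, nat_lit 3, nat_lit 1]))))))))
 (.node (nat_lit 1535) (.node (nat_lit 1526) (.node (nat_lit 1522) (.node (nat_lit 1520) (.node (nat_lit 1519) (.leaf ((nat_lit 106), [nat_lit 0])) (.leaf ((nat_lit 253), [nat_lit 2, nat_lit 0, nat_lit 3]))) (.node (nat_lit 1521) (.leaf ((nat_lit 126), [nat_lit 3, nat_lit 3, nat_lit 0, nat_lit 3, nat_lit 1, nat_lit 0])) (.leaf ((nat_lit 356), [nat_lit 3, nat_lit 3, nat_lit 1]))))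
 (.node (nat_lit 1524) (.node (nat_lit 1523) (.leaf ((nat_lit 88), [nat_lit 2, nat_lit 2, nat_lit 0, nat_lit 2, nat_lit 1])) (.leaf ((nat_lit 348), [nat_lit 3, nat_lit 0, nat_lit 3]))) (.node (nat_lit 1525) (.leaf ((nat_lit 207), [nat_lit 2, nat_lit 2, nat_lit 0])) (.leaf ((nat_lit 291), [nat_lit 2, nat_lit 2, nat_lit 0, nat_lit 2, nat_lit 1])))))
 (.node (nat_lit 1530) (.node (nat_lit 1528) (.node (nat_lit 1527) (.leaf ((nat_lit 254), [nat_lit 1, nat_lit 0])) (.leaf ((nat_lit 107), [nat_lit 3, nat_lit 3]))) (.node (nat_lit 1529) (.leaf ((nat_lit 115), [nat_lit 2, nat_lit 2, nat_lit 0, nat_lit 2, nat_lit 1, nat_lit 0])) (.leaf ((nat_lit 88), [nat_lit 2, nat_lit 2, nat_lit 0, nat_lit 2]))))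
 (.node (nat_lit 1532) (.node (nat_lit 1531) (.leaf ((nat_lit 178), [nat_lit 3, nat_lit 0, nat_lit 3, nat_lit 1])) (.leaf ((nat_lit 184), [nat_lit 2, nat_lit 2, nat_lit 2, nat_lit 1]))) (.node (nat_lit 1533) (.leaf ((nat_lit 335), [nat_lit 0])) (.node (nat_lit 1534) (.leaf ((nat_lit 90), [nat_lit 2, nat_lit 2])) (.leaf ((nat_lit 89), [nat_lit 2, nat_lit 0, nat_lit 3])))))))
 (.node (nat_lit 1543) (.node (nat_lit 1539) (.node (nat_lit 1537) (.node (nat_lit 1536) (.leaf ((nat_lit 288), [nat_lit 2, nat_lit 1, nat_lit 0])) (.leaf ((nat_lit 170), [nat_lit 0, nat_lit 3]))) (.node (nat_lit 1538) (.leaf ((nat_lit 90), [nat_lit 0, nat_lit 2, nat_lit 1, nat_lit 0])) (.leaf ((nat_lit 169), [nat_lit 3, nat_lit 3, nat_lit 0, nat_lit 3, nat_lit 0]))))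
 (.node (nat_lit 1541) (.node (nat_lit 1540) (.leaf ((nat_lit 234), [nat_lit 0])) (.leaf ((nat_lit 116), []))) (.node (nat_lit 1542) (.leaf ((nat_lit 303), [nat_lit 3, nat_lit 3, nat_lit 1, nat_lit 0])) (.leaf ((nat_lit 216), [nat_lit 0])))))
 (.node (nat_lit 1547) (.node (nat_lit 1545) (.node (nat_lit 1544) (.leaf ((nat_lit 174), [nat_lit 3, nat_lit 1, nat_lit 0])) (.leaf ((nat_lit 103), [nat_lit 0, nat_lit 2, nat_lit 0]))) (.node (nat_lit 1546) (.leaf ((nat_lit 140), [])) (.leaf ((nat_lit 119), [nat_lit 3, nat_lit 3, nat_lit 0, nat_lit 3]))))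
 (.node (nat_lit 1549) (.node (nat_lit 1548) (.leaf ((nat_lit 90), [nat_lit 3, nat_lit 0, nat_lit 3, nat_lit 0])) (.leaf ((nat_lit 91), [nat_lit 0, nat_lit 3, nat_lit 1, nat_lit 0]))) (.node (nat_lit 1550) (.leaf ((nat_lit 222), [nat_lit 2, nat_lit 1, nat_lit 0])) (.node (nat_lit 1551) (.leaf ((nat_lit 221), [nat_lit 2, nat_lit 2])) (.leaf ((nat_lit 329), [nat_lit 2, nat_lit 0, nat_lit 3])))))))))
 (.node (nat_lit 1586) (.node (nat_lit 1569) (.node (nat_lit 1560) (.node (nat_lit 1556) (.node (nat_lit 1554) (.node (nat_lit 1553) (.leaf ((nat_lit 295), [nat_lit 3, nat_lit 1])) (.leaf ((nat_lit 245), [nat_lit 3, nat_lit 3]))) (.node (nat_lit 1555) (.leaf ((nat_lit 175), [nat_lit 0, nat_lit 2, nat_lit 1, nat_lit 0])) (.leaf ((nat_lit 353), [nat_lit 0, nat_lit 2, nat_lit 0]))))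
 (.node (nat_lit 1558) (.node (nat_lit 1557) (.leaf ((nat_lit 97), [nat_lit 0, nat_lit 3, nat_lit 0])) (.leaf ((nat_lit 186), [nat_lit 2, nat_lit 2, nat_lit 1, nat_lit 0]))) (.node (nat_lit 1559) (.leaf ((nat_lit 91), [nat_lit 3, nat_lit 3, nat_lit 3, nat_lit 1])) (.leaf ((nat_lit 112), [nat_lit 3, nat_lit 3, nat_lit 0])))))
 (.node (nat_lit 1564) (.node (nat_lit 1562) (.node (nat_lit 1561) (.leaf ((nat_lit 340), [nat_lit 2, nat_lit 1])) (.leaf ((nat_lit 261), [nat_lit 3, nat_lit 1, nat_lit 0]))) (.node (nat_lit 1563) (.leaf ((nat_lit 239), [nat_lit 3, nat_lit 1])) (.leaf ((nat_lit 263), [nat_lit 3, nat_lit 0, nat_lit 3, nat_lit 1]))))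
 (.node (nat_lit 1566) (.node (nat_lit 1565) (.leaf ((nat_lit 293), [nat_lit 2, nat_lit 2, nat_lit 0, nat_lit 2, nat_lit 1, nat_lit 0])) (.leaf ((nat_lit 92), [nat_lit 3, nat_lit 3, nat_lit 3, nat_lit 1]))) (.node (nat_lit 1567) (.leaf ((nat_lit 226), [nat_lit 3, nat_lit 0, nat_lit 3])) (.node (nat_lit 1568) (.leaf ((nat_lit 260), [nat_lit 2, nat_lit 1])) (.leaf ((nat_lit 93), [nat_lit 2, nat_lit 2, nat_lit 2, nat_lit 0])))))))
 (.node (nat_lit 1577) (.node (nat_lit 1573) (.node (nat_lit 1571) (.node (nat_lit 1570) (.leaf ((nat_lit 261), [nat_lit 1, nat_lit 0])) (.leaf ((nat_lit 344), [nat_lit 3, nat_lit 3, nat_lit 3, nat_lit 1, nat_lit 0]))) (.node (nat_lit 1572) (.leaf ((nat_lit 296), [nat_lit 2, nat_lit 2, nat_lit 1, nat_lit 0])) (.leaf ((nat_lit 262), [nat_lit 0]))))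
 (.node (nat_lit 1575) (.node (nat_lit 1574) (.leaf ((nat_lit 321), [nat_lit 2, nat_lit 0, nat_lit 3, nat_lit 1, nat_lit 0])) (.leaf ((nat_lit 195), [nat_lit 3, nat_lit 3, nat_lit 0]))) (.node (nat_lit 1576) (.leaf ((nat_lit 187), [nat_lit 3, nat_lit 0, nat_lit 3])) (.leaf ((nat_lit 342), [nat_lit 2, nat_lit 2, nat_lit 2, nat_lit 1, nat_lit 0])))))
 (.node (nat_lit 1581) (.node (nat_lit 1579) (.node (nat_lit 1578) (.leaf ((nat_lit 93), [nat_lit 0])) (.leaf ((nat_lit 346), [nat_lit 2, nat_lit 2, nat_lit 0]))) (.node (nat_lit 1580) (.leaf ((nat_lit 263), [nat_lit 1])) (.leaf ((nat_lit 95), [nat_lit 3, nat_lit 3, nat_lit 3, nat_lit 0]))))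
 (.node (nat_lit 1583) (.node (nat_lit 1582) (.leaf ((nat_lit 260), [nat_lit 2, nat_lit 2, nat_lit 0])) (.leaf ((nat_lit 273), [nat_lit 3, nat_lit 3, nat_lit 0, nat_lit 3]))) (.node (nat_lit 1584) (.leaf ((nat_lit 106), [nat_lit 2, nat_lit 2, nat_lit 1, nat_lit 0])) (.node (nat_lit 1585) (.leaf ((nat_lit 331), [nat_lit 2, nat_lit 1, nat_lit 0])) (.leaf ((nat_lit 264), [nat_lit 1]))))))))
 (.node (nat_lit 1603) (.node (nat_lit 1594) (.node (nat_lit 1590) (.node (nat_lit 1588) (.node (nat_lit 1587) (.leaf ((nat_lit 127), [nat_lit 2, nat_lit 0, nat_lit 3])) (.leaf ((nat_lit 204), [nat_lit 3, nat_lit 3, nat_lit 0, nat_lit 3, nat_lit 0]))) (.node (nat_lit 1589) (.leaf ((nat_lit 284), [nat_lit 2, nat_lit 2, nat_lit 0, nat_lit 2, nat_lit 1])) (.leaf ((nat_lit 95), [nat_lit 2, nat_lit 2, nat_lit 0, nat_lit 2, nat_lit 0]))))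
 (.node (nat_lit 1592) (.node (nat_lit 1591) (.leaf ((nat_lit 240), [nat_lit 3])) (.leaf ((nat_lit 328), []))) (.node (nat_lit 1593) (.leaf ((nat_lit 319), [nat_lit 2, nat_lit 0, nat_lit 3, nat_lit 1, nat_lit 0])) (.leaf ((nat_lit 265), [nat_lit 2, nat_lit 0, nat_lit 3])))))
 (.node (nat_lit 1598) (.node (nat_lit 1596) (.node (nat_lit 1595) (.leaf ((nat_lit 96), [nat_lit 3, nat_lit 3, nat_lit 3, nat_lit 1, nat_lit 0])) (.leaf ((nat_lit 104), [nat_lit 3, nat_lit 0]))) (.node (nat_lit 1597) (.leaf ((nat_lit 97), [nat_lit 3, nat_lit 3, nat_lit 0, nat_lit 3])) (.leaf ((nat_lit 352), [nat_lit 2, nat_lit 2, nat_lit 2, nat_lit 1, nat_lit 0]))))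
 (.node (nat_lit 1600) (.node (nat_lit 1599) (.leaf ((nat_lit 175), [nat_lit 3, nat_lit 1])) (.leaf ((nat_lit 161), [nat_lit 3, nat_lit 0, nat_lit 3, nat_lit 1]))) (.node (nat_lit 1601) (.leaf ((nat_lit 158), [nat_lit 3, nat_lit 3, nat_lit 0])) (.node (nat_lit 1602) (.leaf ((nat_lit 357), [nat_lit 0, nat_lit 2])) (.leaf ((nat_lit 113), [nat_lit 2, nat_lit 2, nat_lit 0])))))))
 (.node (nat_lit 1611) (.node (nat_lit 1607) (.node (nat_lit 1605) (.node (nat_lit 1604) (.leaf ((nat_lit 104), [nat_lit 2, nat_lit 2, nat_lit 1, nat_lit 0])) (.leaf ((nat_lit 111), [nat_lit 2, nat_lit 0]))) (.node (nat_lit 1606) (.leaf ((nat_lit 267), [nat_lit 2, nat_lit 0, nat_lit 3, nat_lit 1])) (.leaf ((nat_lit 109), [nat_lit 3, nat_lit 3, nat_lit 3, nat_lit 1, nat_lit 0]))))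
 (.node (nat_lit 1609) (.node (nat_lit 1608) (.leaf ((nat_lit 98), [nat_lit 1])) (.leaf ((nat_lit 296), [nat_lit 2, nat_lit 2]))) (.node (nat_lit 1610) (.leaf ((nat_lit 230), [nat_lit 2])) (.leaf ((nat_lit 154), [nat_lit 2])))))
 (.node (nat_lit 1615) (.node (nat_lit 1613) (.node (nat_lit 1612) (.leaf ((nat_lit 99), [nat_lit 3, nat_lit 3, nat_lit 0, nat_lit 3, nat_lit 0])) (.leaf ((nat_lit 337), [nat_lit 2, nat_lit 2, nat_lit 1]))) (.node (nat_lit 1614) (.leaf ((nat_lit 291), [nat_lit 3, nat_lit 3, nat_lit 0, nat_lit 3, nat_lit 1, nat_lit 0])) (.leaf ((nat_lit 100), []))))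
 (.node (nat_lit 1617) (.node (nat_lit 1616) (.leaf ((nat_lit 354), [nat_lit 2, nat_lit 1])) (.leaf ((nat_lit 227), [nat_lit 2]))) (.node (nat_lit 1618) (.leaf ((nat_lit 348), [nat_lit 0])) (.node (nat_lit 1619) (.leaf ((nat_lit 277), [nat_lit 0, nat_lit 3, nat_lit 1])) (.leaf ((nat_lit 241), [nat_lit 2, nat_lit 2, nat_lit 2, nat_lit 0]))))))))))
noncomputable def n13Wd_12 : Tr (ℕ × List ℕ) := (.node (nat_lit 1687) (.node (nat_lit 1653) (.node (nat_lit 1636) (.node (nat_lit 1628) (.node (nat_lit 1624) (.node (nat_lit 1622) (.node (nat_lit 1621) (.leaf ((nat_lit 227), [nat_lit 3, nat_lit 0, nat_lit 3, nat_lit 1])) (.leaf ((nat_lit 338), [nat_lit 2, nat_lit 1]))) (.node (nat_lit 1623) (.leaf ((nat_lit 100), [nat_lit 3, nat_lit 3, nat_lit 0, nat_lit 3, nat_lit 1])) (.leaf ((nat_lit 138), [nat_lit 2, nat_lit 2, nat_lit 1, nat_lit 0]))))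
 (.node (nat_lit 1626) (.node (nat_lit 1625) (.leaf ((nat_lit 327), [nat_lit 0, nat_lit 3, nat_lit 1, nat_lit 0])) (.leaf ((nat_lit 281), [nat_lit 3, nat_lit 3, nat_lit 3, nat_lit 1]))) (.node (nat_lit 1627) (.leaf ((nat_lit 114), [nat_lit 2, nat_lit 0, nat_lit 2])) (.leaf ((nat_lit 247), [nat_lit 3, nat_lit 3, nat_lit 0, nat_lit 3])))))
 (.node (nat_lit 1632) (.node (nat_lit 1630) (.node (nat_lit 1629) (.leaf ((nat_lit 271), [nat_lit 2, nat_lit 0, nat_lit 3, nat_lit 0])) (.leaf ((nat_lit 162), [nat_lit 2, nat_lit 0, nat_lit 3, nat_lit 1, nat_lit 0]))) (.node (nat_lit 1631) (.leaf ((nat_lit 307), [nat_lit 3, nat_lit 3])) (.leaf ((nat_lit 100), [nat_lit 2, nat_lit 1, nat_lit 0]))))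
 (.node (nat_lit 1634) (.node (nat_lit 1633) (.leaf ((nat_lit 102), [nat_lit 2, nat_lit 0, nat_lit 3])) (.leaf ((nat_lit 160), [nat_lit 2]))) (.node (nat_lit 1635) (.leaf ((nat_lit 213), [nat_lit 2, nat_lit 1, nat_lit 0])) (.leaf ((nat_lit 133), [nat_lit 3, nat_lit 3, nat_lit 0, nat_lit 3]))))))
 (.node (nat_lit 1644) (.node (nat_lit 1640) (.node (nat_lit 1638) (.node (nat_lit 1637) (.leaf ((nat_lit 112), [nat_lit 3, nat_lit 3, nat_lit 3, nat_lit 1])) (.leaf ((nat_lit 119), [nat_lit 3, nat_lit 3, nat_lit 1, nat_lit 0]))) (.node (nat_lit 1639) (.leaf ((nat_lit 104), [nat_lit 3, nat_lit 0])) (.leaf ((nat_lit 113), [nat_lit 3]))))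
 (.node (nat_lit 1642) (.node (nat_lit 1641) (.leaf ((nat_lit 112), [nat_lit 0])) (.leaf ((nat_lit 293), [nat_lit 0, nat_lit 2, nat_lit 1, nat_lit 0]))) (.node (nat_lit 1643) (.leaf ((nat_lit 263), [nat_lit 2, nat_lit 2, nat_lit 2, nat_lit 1, nat_lit 0])) (.leaf ((nat_lit 247), [nat_lit 3, nat_lit 3, nat_lit 0, nat_lit 3])))))
 (.node (nat_lit 1648) (.node (nat_lit 1646) (.node (nat_lit 1645) (.leaf ((nat_lit 105), [nat_lit 2, nat_lit 0, nat_lit 3, nat_lit 0])) (.leaf ((nat_lit 303), [nat_lit 2, nat_lit 2, nat_lit 2]))) (.node (nat_lit 1647) (.leaf ((nat_lit 297), [nat_lit 0, nat_lit 2, nat_lit 1, nat_lit 0])) (.leaf ((nat_lit 314), [nat_lit 2, nat_lit 2, nat_lit 2, nat_lit 0]))))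
 (.node (nat_lit 1650) (.node (nat_lit 1649) (.leaf ((nat_lit 306), [nat_lit 2, nat_lit 2, nat_lit 2, nat_lit 1, nat_lit 0])) (.leaf ((nat_lit 135), [nat_lit 0]))) (.node (nat_lit 1651) (.leaf ((nat_lit 303), [nat_lit 3, nat_lit 0])) (.node (nat_lit 1652) (.leaf ((nat_lit 105), [nat_lit 2, nat_lit 2, nat_lit 2])) (.leaf ((nat_lit 298), [nat_lit 2, nat_lit 2, nat_lit 1, nat_lit 0]))))))))
 (.node (nat_lit 1670) (.node (nat_lit 1661) (.node (nat_lit 1657) (.node (nat_lit 1655) (.node (nat_lit 1654) (.leaf ((nat_lit 243), [nat_lit 2, nat_lit 1, nat_lit 0])) (.leaf ((nat_lit 309), [nat_lit 3, nat_lit 0, nat_lit 3, nat_lit 1, nat_lit 0]))) (.node (nat_lit 1656) (.leaf ((nat_lit 187), [nat_lit 2, nat_lit 2, nat_lit 2, nat_lit 1, nat_lit 0])) (.leaf ((nat_lit 250), [nat_lit 2, nat_lit 0, nat_lit 3, nat_lit 0]))))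
 (.node (nat_lit 1659) (.node (nat_lit 1658) (.leaf ((nat_lit 225), [nat_lit 3, nat_lit 3, nat_lit 0, nat_lit 3])) (.leaf ((nat_lit 225), [nat_lit 3, nat_lit 3, nat_lit 3, nat_lit 0]))) (.node (nat_lit 1660) (.leaf ((nat_lit 105), [nat_lit 0, nat_lit 2, nat_lit 1, nat_lit 0])) (.leaf ((nat_lit 229), [nat_lit 3, nat_lit 3, nat_lit 3, nat_lit 1, nat_lit 0])))))
 (.node (nat_lit 1665) (.node (nat_lit 1663) (.node (nat_lit 1662) (.leaf ((nat_lit 113), [nat_lit 3])) (.leaf ((nat_lit 245), [nat_lit 2, nat_lit 2, nat_lit 2, nat_lit 1]))) (.node (nat_lit 1664) (.leaf ((nat_lit 245), [nat_lit 2, nat_lit 2, nat_lit 2, nat_lit 1, nat_lit 0])) (.leaf ((nat_lit 228), [nat_lit 3, nat_lit 0, nat_lit 3, nat_lit 1, nat_lit 0]))))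
 (.node (nat_lit 1667) (.node (nat_lit 1666) (.leaf ((nat_lit 249), [nat_lit 3, nat_lit 3, nat_lit 1])) (.leaf ((nat_lit 269), [nat_lit 0, nat_lit 2, nat_lit 1, nat_lit 0]))) (.node (nat_lit 1668) (.leaf ((nat_lit 108), [nat_lit 2, nat_lit 2, nat_lit 2, nat_lit 1])) (.node (nat_lit 1669) (.leaf ((nat_lit 229), [nat_lit 3, nat_lit 3, nat_lit 3])) (.leaf ((nat_lit 147), [nat_lit 0, nat_lit 3])))))))
 (.node (nat_lit 1678) (.node (nat_lit 1674) (.node (nat_lit 1672) (.node (nat_lit 1671) (.leaf ((nat_lit 147), [nat_lit 0, nat_lit 3, nat_lit 1, nat_lit 0])) (.leaf ((nat_lit 216), [nat_lit 3, nat_lit 3, nat_lit 3, nat_lit 1, nat_lit 0]))) (.node (nat_lit 1673) (.leaf ((nat_lit 110), [nat_lit 2, nat_lit 2])) (.leaf ((nat_lit 235), [nat_lit 2, nat_lit 0, nat_lit 3, nat_lit 1]))))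
 (.node (nat_lit 1676) (.node (nat_lit 1675) (.leaf ((nat_lit 247), [nat_lit 0])) (.leaf ((nat_lit 114), [nat_lit 3, nat_lit 0, nat_lit 3, nat_lit 1, nat_lit 0]))) (.node (nat_lit 1677) (.leaf ((nat_lit 279), [nat_lit 0])) (.leaf ((nat_lit 302), [nat_lit 3, nat_lit 0])))))
 (.node (nat_lit 1682) (.node (nat_lit 1680) (.node (nat_lit 1679) (.leaf ((nat_lit 160), [nat_lit 3, nat_lit 3, nat_lit 0])) (.leaf ((nat_lit 153), [nat_lit 3, nat_lit 3, nat_lit 0, nat_lit 3]))) (.node (nat_lit 1681) (.leaf ((nat_lit 115), [nat_lit 3, nat_lit 3, nat_lit 1])) (.leaf ((nat_lit 351), [nat_lit 3, nat_lit 3, nat_lit 0, nat_lit 3, nat_lit 1]))))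
 (.node (nat_lit 1684) (.node (nat_lit 1683) (.leaf ((nat_lit 358), [nat_lit 0, nat_lit 2])) (.leaf ((nat_lit 155), [nat_lit 1, nat_lit 0]))) (.node (nat_lit 1685) (.leaf ((nat_lit 333), [nat_lit 2, nat_lit 0, nat_lit 2, nat_lit 1, nat_lit 0])) (.node (nat_lit 1686) (.leaf ((nat_lit 194), [nat_lit 0, nat_lit 3, nat_lit 1])) (.leaf ((nat_lit 351), [nat_lit 0, nat_lit 2, nat_lit 1, nat_lit 0])))))))))
 (.node (nat_lit 1721) (.node (nat_lit 1704) (.node (nat_lit 1695) (.node (nat_lit 1691) (.node (nat_lit 1689) (.node (nat_lit 1688) (.leaf ((nat_lit 115), [nat_lit 2, nat_lit 0, nat_lit 2, nat_lit 0])) (.leaf ((nat_lit 202), [nat_lit 3, nat_lit 3, nat_lit 3, nat_lit 1, nat_lit 0]))) (.node (nat_lit 1690) (.leaf ((nat_lit 164), [nat_lit 2, nat_lit 1])) (.leaf ((nat_lit 206), [nat_lit 3, nat_lit 3, nat_lit 0, nat_lit 3]))))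
 (.node (nat_lit 1693) (.node (nat_lit 1692) (.leaf ((nat_lit 270), [nat_lit 2, nat_lit 2, nat_lit 0, nat_lit 2, nat_lit 1, nat_lit 0])) (.leaf ((nat_lit 358), [nat_lit 3, nat_lit 0, nat_lit 3, nat_lit 1, nat_lit 0]))) (.node (nat_lit 1694) (.leaf ((nat_lit 202), [nat_lit 3, nat_lit 3, nat_lit 0, nat_lit 3, nat_lit 0])) (.leaf ((nat_lit 115), [nat_lit 2, nat_lit 2])))))
 (.node (nat_lit 1699) (.node (nat_lit 1697) (.node (nat_lit 1696) (.leaf ((nat_lit 226), [nat_lit 0, nat_lit 2, nat_lit 1, nat_lit 0])) (.leaf ((nat_lit 282), [nat_lit 2, nat_lit 0, nat_lit 3, nat_lit 1, nat_lit 0]))) (.node (nat_lit 1698) (.leaf ((nat_lit 236), [nat_lit 2, nat_lit 2, nat_lit 0, nat_lit 2])) (.leaf ((nat_lit 173), [nat_lit 3, nat_lit 3, nat_lit 0]))))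
 (.node (nat_lit 1701) (.node (nat_lit 1700) (.leaf ((nat_lit 355), [nat_lit 3, nat_lit 0, nat_lit 3])) (.leaf ((nat_lit 283), [nat_lit 2, nat_lit 0, nat_lit 3]))) (.node (nat_lit 1702) (.leaf ((nat_lit 116), [nat_lit 2, nat_lit 2, nat_lit 0, nat_lit 2, nat_lit 0])) (.node (nat_lit 1703) (.leaf ((nat_lit 234), [nat_lit 2, nat_lit 2, nat_lit 0, nat_lit 2, nat_lit 1, nat_lit 0])) (.leaf ((nat_lit 167), [nat_lit 2, nat_lit 2, nat_lit 1])))))))
 (.node (nat_lit 1712) (.node (nat_lit 1708) (.node (nat_lit 1706) (.node (nat_lit 1705) (.leaf ((nat_lit 328), [nat_lit 2, nat_lit 2, nat_lit 0])) (.leaf ((nat_lit 240), [nat_lit 2, nat_lit 0]))) (.node (nat_lit 1707) (.leaf ((nat_lit 327), [nat_lit 2, nat_lit 2, nat_lit 2, nat_lit 0])) (.leaf ((nat_lit 149), [nat_lit 3]))))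
 (.node (nat_lit 1710) (.node (nat_lit 1709) (.leaf ((nat_lit 264), [nat_lit 3, nat_lit 3, nat_lit 0, nat_lit 3, nat_lit 1, nat_lit 0])) (.leaf ((nat_lit 116), [nat_lit 2, nat_lit 1]))) (.node (nat_lit 1711) (.leaf ((nat_lit 119), [nat_lit 3, nat_lit 3, nat_lit 0, nat_lit 3, nat_lit 1, nat_lit 0])) (.leaf ((nat_lit 118), [nat_lit 0, nat_lit 2, nat_lit 0])))))
 (.node (nat_lit 1716) (.node (nat_lit 1714) (.node (nat_lit 1713) (.leaf ((nat_lit 301), [nat_lit 3, nat_lit 1, nat_lit 0])) (.leaf ((nat_lit 250), [nat_lit 2, nat_lit 2, nat_lit 2, nat_lit 1, nat_lit 0]))) (.node (nat_lit 1715) (.leaf ((nat_lit 351), [nat_lit 2])) (.leaf ((nat_lit 252), [nat_lit 2, nat_lit 0, nat_lit 3, nat_lit 1]))))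
 (.node (nat_lit 1718) (.node (nat_lit 1717) (.leaf ((nat_lit 120), [nat_lit 3, nat_lit 3, nat_lit 3])) (.leaf ((nat_lit 301), [nat_lit 2, nat_lit 2, nat_lit 0, nat_lit 2, nat_lit 1]))) (.node (nat_lit 1719) (.leaf ((nat_lit 118), [nat_lit 3, nat_lit 3, nat_lit 1])) (.node (nat_lit 1720) (.leaf ((nat_lit 286), [nat_lit 2, nat_lit 0, nat_lit 3, nat_lit 0])) (.leaf ((nat_lit 347), [nat_lit 2, nat_lit 2]))))))))
 (.node (nat_lit 1738) (.node (nat_lit 1729) (.node (nat_lit 1725) (.node (nat_lit 1723) (.node (nat_lit 1722) (.leaf ((nat_lit 210), [nat_lit 3, nat_lit 0, nat_lit 3, nat_lit 0])) (.leaf ((nat_lit 151), [nat_lit 2, nat_lit 0, nat_lit 2, nat_lit 0]))) (.node (nat_lit 1724) (.leaf ((nat_lit 295), [nat_lit 2, nat_lit 0])) (.leaf ((nat_lit 248), [nat_lit 3, nat_lit 3, nat_lit 3, nat_lit 1, nat_lit 0]))))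
 (.node (nat_lit 1727) (.node (nat_lit 1726) (.leaf ((nat_lit 118), [nat_lit 2, nat_lit 2, nat_lit 0, nat_lit 2, nat_lit 0])) (.leaf ((nat_lit 311), [nat_lit 2, nat_lit 2, nat_lit 2, nat_lit 1, nat_lit 0]))) (.node (nat_lit 1728) (.leaf ((nat_lit 181), [nat_lit 0, nat_lit 2, nat_lit 1])) (.leaf ((nat_lit 316), [nat_lit 3, nat_lit 3, nat_lit 0, nat_lit 3])))))
 (.node (nat_lit 1733) (.node (nat_lit 1731) (.node (nat_lit 1730) (.leaf ((nat_lit 333), [nat_lit 2, nat_lit 2, nat_lit 1])) (.leaf ((nat_lit 316), [nat_lit 3, nat_lit 3, nat_lit 3, nat_lit 0]))) (.node (nat_lit 1732) (.leaf ((nat_lit 311), [nat_lit 3, nat_lit 3, nat_lit 3, nat_lit 0])) (.leaf ((nat_lit 118), [nat_lit 3, nat_lit 3, nat_lit 0, nat_lit 3, nat_lit 1, nat_lit 0]))))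
 (.node (nat_lit 1735) (.node (nat_lit 1734) (.leaf ((nat_lit 255), [nat_lit 0, nat_lit 3, nat_lit 1, nat_lit 0])) (.leaf ((nat_lit 314), [nat_lit 2, nat_lit 0, nat_lit 3, nat_lit 1, nat_lit 0]))) (.node (nat_lit 1736) (.leaf ((nat_lit 313), [nat_lit 0, nat_lit 2, nat_lit 1])) (.node (nat_lit 1737) (.leaf ((nat_lit 136), [nat_lit 3, nat_lit 0, nat_lit 3, nat_lit 1])) (.leaf ((nat_lit 119), [nat_lit 3, nat_lit 3, nat_lit 3, nat_lit 1, nat_lit 0])))))))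
 (.node (nat_lit 1746) (.node (nat_lit 1742) (.node (nat_lit 1740) (.node (nat_lit 1739) (.leaf ((nat_lit 140), [nat_lit 2, nat_lit 0, nat_lit 3, nat_lit 1, nat_lit 0])) (.leaf ((nat_lit 144), [nat_lit 2, nat_lit 2, nat_lit 0, nat_lit 2, nat_lit 1, nat_lit 0]))) (.node (nat_lit 1741) (.leaf ((nat_lit 298), [nat_lit 2, nat_lit 2, nat_lit 0, nat_lit 2, nat_lit 0])) (.leaf ((nat_lit 297), [nat_lit 3, nat_lit 3, nat_lit 0]))))
 (.node (nat_lit 1744) (.node (nat_lit 1743) (.leaf ((nat_lit 303), [nat_lit 1, nat_lit 0])) (.leaf ((nat_lit 120), [nat_lit 2, nat_lit 0, nat_lit 3, nat_lit 1]))) (.node (nat_lit 1745) (.leaf ((nat_lit 290), [nat_lit 2, nat_lit 0, nat_lit 3, nat_lit 1, nat_lit 0])) (.leaf ((nat_lit 232), [nat_lit 2, nat_lit 2, nat_lit 1])))))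
 (.node (nat_lit 1750) (.node (nat_lit 1748) (.node (nat_lit 1747) (.leaf ((nat_lit 121), [nat_lit 0, nat_lit 3, nat_lit 1, nat_lit 0])) (.leaf ((nat_lit 254), [nat_lit 3, nat_lit 3, nat_lit 0, nat_lit 3, nat_lit 1, nat_lit 0]))) (.node (nat_lit 1749) (.leaf ((nat_lit 291), [nat_lit 2, nat_lit 0, nat_lit 3])) (.leaf ((nat_lit 355), [nat_lit 2, nat_lit 2, nat_lit 1, nat_lit 0]))))
 (.node (nat_lit 1752) (.node (nat_lit 1751) (.leaf ((nat_lit 334), [])) (.leaf ((nat_lit 268), [nat_lit 2, nat_lit 2, nat_lit 0, nat_lit 2, nat_lit 1]))) (.node (nat_lit 1753) (.leaf ((nat_lit 223), [nat_lit 3, nat_lit 3, nat_lit 0])) (.node (nat_lit 1754) (.leaf ((nat_lit 235), [nat_lit 3, nat_lit 3, nat_lit 0, nat_lit 3])) (.leaf ((nat_lit 168), [nat_lit 3, nat_lit 0]))))))))))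
noncomputable def n13Wd_13 : Tr (ℕ × List ℕ) := (.node (nat_lit 1822) (.node (nat_lit 1788) (.node (nat_lit 1771) (.node (nat_lit 1763) (.node (nat_lit 1759) (.node (nat_lit 1757) (.node (nat_lit 1756) (.leaf ((nat_lit 359), [nat_lit 2, nat_lit 2, nat_lit 2, nat_lit 1, nat_lit 0])) (.leaf ((nat_lit 346), [nat_lit 3, nat_lit 3, nat_lit 0, nat_lit 3, nat_lit 1, nat_lit 0]))) (.node (nat_lit 1758) (.leaf ((nat_lit 121), [nat_lit 0, nat_lit 3, nat_lit 1])) (.leaf ((nat_lit 123), [nat_lit 2, nat_lit 0, nat_lit 3]))))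
 (.node (nat_lit 1761) (.node (nat_lit 1760) (.leaf ((nat_lit 123), [nat_lit 1, nat_lit 0])) (.leaf ((nat_lit 122), [nat_lit 2, nat_lit 0, nat_lit 2]))) (.node (nat_lit 1762) (.leaf ((nat_lit 273), [nat_lit 0, nat_lit 3, nat_lit 1])) (.leaf ((nat_lit 260), [nat_lit 3, nat_lit 3, nat_lit 3, nat_lit 1])))))
 (.node (nat_lit 1767) (.node (nat_lit 1765) (.node (nat_lit 1764) (.leaf ((nat_lit 224), [nat_lit 2, nat_lit 0, nat_lit 2, nat_lit 0])) (.leaf ((nat_lit 153), [nat_lit 0, nat_lit 3]))) (.node (nat_lit 1766) (.leaf ((nat_lit 357), [nat_lit 2, nat_lit 2, nat_lit 2, nat_lit 0])) (.leaf ((nat_lit 125), [nat_lit 3, nat_lit 3, nat_lit 0, nat_lit 3, nat_lit 0]))))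
 (.node (nat_lit 1769) (.node (nat_lit 1768) (.leaf ((nat_lit 331), [nat_lit 0, nat_lit 2, nat_lit 0])) (.leaf ((nat_lit 122), [nat_lit 3, nat_lit 3, nat_lit 0]))) (.node (nat_lit 1770) (.leaf ((nat_lit 358), [nat_lit 3, nat_lit 3, nat_lit 0, nat_lit 3])) (.leaf ((nat_lit 312), [nat_lit 2, nat_lit 2, nat_lit 0, nat_lit 2, nat_lit 0]))))))
 (.node (nat_lit 1779) (.node (nat_lit 1775) (.node (nat_lit 1773) (.node (nat_lit 1772) (.leaf ((nat_lit 287), [nat_lit 0, nat_lit 3])) (.leaf ((nat_lit 356), [nat_lit 2, nat_lit 0, nat_lit 3, nat_lit 1, nat_lit 0]))) (.node (nat_lit 1774) (.leaf ((nat_lit 349), [nat_lit 2, nat_lit 2, nat_lit 0, nat_lit 2, nat_lit 1, nat_lit 0])) (.leaf ((nat_lit 258), [nat_lit 0, nat_lit 2, nat_lit 1]))))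
 (.node (nat_lit 1777) (.node (nat_lit 1776) (.leaf ((nat_lit 122), [nat_lit 3, nat_lit 3, nat_lit 0, nat_lit 3])) (.leaf ((nat_lit 268), [nat_lit 3, nat_lit 3]))) (.node (nat_lit 1778) (.leaf ((nat_lit 344), [nat_lit 3, nat_lit 0])) (.leaf ((nat_lit 214), [nat_lit 3, nat_lit 0, nat_lit 3, nat_lit 1])))))
 (.node (nat_lit 1783) (.node (nat_lit 1781) (.node (nat_lit 1780) (.leaf ((nat_lit 208), [nat_lit 3, nat_lit 3, nat_lit 0, nat_lit 3, nat_lit 0])) (.leaf ((nat_lit 123), [nat_lit 0, nat_lit 3, nat_lit 1]))) (.node (nat_lit 1782) (.leaf ((nat_lit 261), [nat_lit 3, nat_lit 3, nat_lit 0])) (.leaf ((nat_lit 124), [nat_lit 3, nat_lit 3]))))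
 (.node (nat_lit 1785) (.node (nat_lit 1784) (.leaf ((nat_lit 290), [nat_lit 2, nat_lit 2, nat_lit 1, nat_lit 0])) (.leaf ((nat_lit 274), [nat_lit 0, nat_lit 3, nat_lit 1]))) (.node (nat_lit 1786) (.leaf ((nat_lit 350), [nat_lit 2, nat_lit 0, nat_lit 2, nat_lit 0])) (.node (nat_lit 1787) (.leaf ((nat_lit 332), [nat_lit 2, nat_lit 2, nat_lit 2, nat_lit 1, nat_lit 0])) (.leaf ((nat_lit 302), [nat_lit 2, nat_lit 0, nat_lit 3, nat_lit 1, nat_lit 0]))))))))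
 (.node (nat_lit 1805) (.node (nat_lit 1796) (.node (nat_lit 1792) (.node (nat_lit 1790) (.node (nat_lit 1789) (.leaf ((nat_lit 290), [nat_lit 3, nat_lit 3, nat_lit 3, nat_lit 1, nat_lit 0])) (.leaf ((nat_lit 124), [nat_lit 2, nat_lit 0, nat_lit 3, nat_lit 1]))) (.node (nat_lit 1791) (.leaf ((nat_lit 275), [nat_lit 3, nat_lit 3, nat_lit 0])) (.leaf ((nat_lit 298), [nat_lit 2, nat_lit 0, nat_lit 3, nat_lit 0]))))
 (.node (nat_lit 1794) (.node (nat_lit 1793) (.leaf ((nat_lit 357), [nat_lit 3, nat_lit 3, nat_lit 3, nat_lit 1, nat_lit 0])) (.leaf ((nat_lit 301), [nat_lit 2, nat_lit 0, nat_lit 2, nat_lit 1, nat_lit 0]))) (.node (nat_lit 1795) (.leaf ((nat_lit 159), [nat_lit 2, nat_lit 2, nat_lit 0])) (.leaf ((nat_lit 156), [nat_lit 2, nat_lit 2, nat_lit 1, nat_lit 0])))))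
 (.node (nat_lit 1800) (.node (nat_lit 1798) (.node (nat_lit 1797) (.leaf ((nat_lit 155), [nat_lit 3, nat_lit 3, nat_lit 1])) (.leaf ((nat_lit 299), [nat_lit 2, nat_lit 0, nat_lit 3]))) (.node (nat_lit 1799) (.leaf ((nat_lit 354), [nat_lit 2, nat_lit 2, nat_lit 0, nat_lit 2, nat_lit 0])) (.leaf ((nat_lit 124), [nat_lit 2, nat_lit 0]))))
 (.node (nat_lit 1802) (.node (nat_lit 1801) (.leaf ((nat_lit 152), [nat_lit 3, nat_lit 3, nat_lit 1])) (.leaf ((nat_lit 125), [nat_lit 0, nat_lit 3, nat_lit 0]))) (.node (nat_lit 1803) (.leaf ((nat_lit 357), [nat_lit 3, nat_lit 3, nat_lit 1])) (.node (nat_lit 1804) (.leaf ((nat_lit 339), [nat_lit 2, nat_lit 2, nat_lit 2])) (.leaf ((nat_lit 315), [nat_lit 2, nat_lit 2, nat_lit 2, nat_lit 1, nat_lit 0])))))))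
 (.node (nat_lit 1813) (.node (nat_lit 1809) (.node (nat_lit 1807) (.node (nat_lit 1806) (.leaf ((nat_lit 341), [nat_lit 0, nat_lit 3, nat_lit 1, nat_lit 0])) (.leaf ((nat_lit 200), [nat_lit 2, nat_lit 0, nat_lit 3, nat_lit 1]))) (.node (nat_lit 1808) (.leaf ((nat_lit 286), [nat_lit 3, nat_lit 3, nat_lit 0, nat_lit 3, nat_lit 1, nat_lit 0])) (.leaf ((nat_lit 285), [nat_lit 2, nat_lit 1]))))
 (.node (nat_lit 1811) (.node (nat_lit 1810) (.leaf ((nat_lit 126), [nat_lit 3, nat_lit 1, nat_lit 0])) (.leaf ((nat_lit 322), [nat_lit 2, nat_lit 2, nat_lit 0, nat_lit 2, nat_lit 1, nat_lit 0]))) (.node (nat_lit 1812) (.leaf ((nat_lit 298), [nat_lit 3, nat_lit 0, nat_lit 3, nat_lit 0])) (.leaf ((nat_lit 129), [nat_lit 3, nat_lit 3, nat_lit 0, nat_lit 3])))))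
 (.node (nat_lit 1817) (.node (nat_lit 1815) (.node (nat_lit 1814) (.leaf ((nat_lit 128), [nat_lit 0, nat_lit 3, nat_lit 1])) (.leaf ((nat_lit 302), [nat_lit 2, nat_lit 0, nat_lit 3, nat_lit 0]))) (.node (nat_lit 1816) (.leaf ((nat_lit 279), [nat_lit 0, nat_lit 2])) (.leaf ((nat_lit 152), [nat_lit 2, nat_lit 2, nat_lit 0, nat_lit 2, nat_lit 1, nat_lit 0]))))
 (.node (nat_lit 1819) (.node (nat_lit 1818) (.leaf ((nat_lit 297), [nat_lit 2, nat_lit 0, nat_lit 3, nat_lit 1, nat_lit 0])) (.leaf ((nat_lit 275), [nat_lit 0, nat_lit 2]))) (.node (nat_lit 1820) (.leaf ((nat_lit 274), [nat_lit 3, nat_lit 3, nat_lit 3])) (.node (nat_lit 1821) (.leaf ((nat_lit 290), [nat_lit 1, nat_lit 0])) (.leaf ((nat_lit 151), [])))))))))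
 (.node (nat_lit 1856) (.node (nat_lit 1839) (.node (nat_lit 1830) (.node (nat_lit 1826) (.node (nat_lit 1824) (.node (nat_lit 1823) (.leaf ((nat_lit 129), [nat_lit 0, nat_lit 2, nat_lit 1, nat_lit 0])) (.leaf ((nat_lit 256), [nat_lit 2, nat_lit 0, nat_lit 2, nat_lit 1]))) (.node (nat_lit 1825) (.leaf ((nat_lit 130), [nat_lit 3, nat_lit 3, nat_lit 3, nat_lit 0])) (.leaf ((nat_lit 162), [nat_lit 2, nat_lit 2, nat_lit 0, nat_lit 2, nat_lit 1, nat_lit 0]))))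
 (.node (nat_lit 1828) (.node (nat_lit 1827) (.leaf ((nat_lit 304), [nat_lit 1, nat_lit 0])) (.leaf ((nat_lit 207), [nat_lit 2, nat_lit 2, nat_lit 2, nat_lit 1]))) (.node (nat_lit 1829) (.leaf ((nat_lit 338), [])) (.leaf ((nat_lit 200), [nat_lit 3, nat_lit 3, nat_lit 1])))))
 (.node (nat_lit 1834) (.node (nat_lit 1832) (.node (nat_lit 1831) (.leaf ((nat_lit 162), [nat_lit 2, nat_lit 0, nat_lit 3, nat_lit 0])) (.leaf ((nat_lit 130), [nat_lit 2, nat_lit 1]))) (.node (nat_lit 1833) (.leaf ((nat_lit 305), [nat_lit 2, nat_lit 0, nat_lit 3])) (.leaf ((nat_lit 173), [nat_lit 2, nat_lit 2, nat_lit 2, nat_lit 1]))))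
 (.node (nat_lit 1836) (.node (nat_lit 1835) (.leaf ((nat_lit 166), [nat_lit 0, nat_lit 3, nat_lit 1])) (.leaf ((nat_lit 217), [nat_lit 2, nat_lit 0, nat_lit 2, nat_lit 0]))) (.node (nat_lit 1837) (.leaf ((nat_lit 239), [nat_lit 2, nat_lit 2, nat_lit 0, nat_lit 2, nat_lit 1, nat_lit 0])) (.node (nat_lit 1838) (.leaf ((nat_lit 131), [nat_lit 2, nat_lit 0, nat_lit 2])) (.leaf ((nat_lit 340), [nat_lit 3, nat_lit 0, nat_lit 3])))))))
 (.node (nat_lit 1847) (.node (nat_lit 1843) (.node (nat_lit 1841) (.node (nat_lit 1840) (.leaf ((nat_lit 163), [nat_lit 2, nat_lit 0, nat_lit 3, nat_lit 1])) (.leaf ((nat_lit 274), [nat_lit 3, nat_lit 3, nat_lit 0, nat_lit 3]))) (.node (nat_lit 1842) (.leaf ((nat_lit 206), [nat_lit 0, nat_lit 3, nat_lit 1, nat_lit 0])) (.leaf ((nat_lit 197), [nat_lit 2, nat_lit 0, nat_lit 3, nat_lit 1, nat_lit 0]))))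
 (.node (nat_lit 1845) (.node (nat_lit 1844) (.leaf ((nat_lit 168), [nat_lit 2, nat_lit 0, nat_lit 3, nat_lit 1, nat_lit 0])) (.leaf ((nat_lit 235), [nat_lit 3, nat_lit 3, nat_lit 0]))) (.node (nat_lit 1846) (.leaf ((nat_lit 325), [nat_lit 3, nat_lit 3, nat_lit 3, nat_lit 1])) (.leaf ((nat_lit 271), [nat_lit 2, nat_lit 2])))))
 (.node (nat_lit 1851) (.node (nat_lit 1849) (.node (nat_lit 1848) (.leaf ((nat_lit 131), [nat_lit 2, nat_lit 2, nat_lit 2])) (.leaf ((nat_lit 132), [nat_lit 3, nat_lit 1, nat_lit 0]))) (.node (nat_lit 1850) (.leaf ((nat_lit 183), [nat_lit 2, nat_lit 2, nat_lit 0, nat_lit 2, nat_lit 1, nat_lit 0])) (.leaf ((nat_lit 132), [nat_lit 0, nat_lit 3, nat_lit 0]))))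
 (.node (nat_lit 1853) (.node (nat_lit 1852) (.leaf ((nat_lit 316), [nat_lit 0, nat_lit 2, nat_lit 1])) (.leaf ((nat_lit 189), [nat_lit 3, nat_lit 3, nat_lit 0, nat_lit 3, nat_lit 1, nat_lit 0]))) (.node (nat_lit 1854) (.leaf ((nat_lit 186), [nat_lit 2, nat_lit 2, nat_lit 0, nat_lit 2, nat_lit 1, nat_lit 0])) (.node (nat_lit 1855) (.leaf ((nat_lit 315), [nat_lit 3, nat_lit 1])) (.leaf ((nat_lit 141), [nat_lit 0, nat_lit 3, nat_lit 1, nat_lit 0]))))))))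
 (.node (nat_lit 1873) (.node (nat_lit 1864) (.node (nat_lit 1860) (.node (nat_lit 1858) (.node (nat_lit 1857) (.leaf ((nat_lit 315), [nat_lit 3, nat_lit 0])) (.leaf ((nat_lit 132), [nat_lit 2, nat_lit 0, nat_lit 3]))) (.node (nat_lit 1859) (.leaf ((nat_lit 275), [nat_lit 2, nat_lit 2, nat_lit 1])) (.leaf ((nat_lit 185), [nat_lit 3, nat_lit 3, nat_lit 3, nat_lit 0]))))
 (.node (nat_lit 1862) (.node (nat_lit 1861) (.leaf ((nat_lit 333), [nat_lit 3, nat_lit 0, nat_lit 3, nat_lit 1, nat_lit 0])) (.leaf ((nat_lit 316), []))) (.node (nat_lit 1863) (.leaf ((nat_lit 333), [nat_lit 3, nat_lit 0, nat_lit 3, nat_lit 1])) (.leaf ((nat_lit 165), [])))))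
 (.node (nat_lit 1868) (.node (nat_lit 1866) (.node (nat_lit 1865) (.leaf ((nat_lit 192), [nat_lit 2, nat_lit 2, nat_lit 1])) (.leaf ((nat_lit 133), [nat_lit 2, nat_lit 0, nat_lit 2, nat_lit 0]))) (.node (nat_lit 1867) (.leaf ((nat_lit 177), [nat_lit 0, nat_lit 3, nat_lit 1])) (.leaf ((nat_lit 134), [nat_lit 3, nat_lit 3, nat_lit 3, nat_lit 0]))))
 (.node (nat_lit 1870) (.node (nat_lit 1869) (.leaf ((nat_lit 177), [nat_lit 3, nat_lit 1, nat_lit 0])) (.leaf ((nat_lit 288), [nat_lit 2, nat_lit 2, nat_lit 2, nat_lit 1]))) (.node (nat_lit 1871) (.leaf ((nat_lit 287), [nat_lit 3, nat_lit 3, nat_lit 0, nat_lit 3])) (.node (nat_lit 1872) (.leaf ((nat_lit 314), [nat_lit 0, nat_lit 2, nat_lit 0])) (.leaf ((nat_lit 295), [nat_lit 3, nat_lit 3, nat_lit 3, nat_lit 1, nat_lit 0])))))))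
 (.node (nat_lit 1881) (.node (nat_lit 1877) (.node (nat_lit 1875) (.node (nat_lit 1874) (.leaf ((nat_lit 151), [nat_lit 3, nat_lit 0, nat_lit 3, nat_lit 1])) (.leaf ((nat_lit 249), [nat_lit 2, nat_lit 2, nat_lit 2, nat_lit 0]))) (.node (nat_lit 1876) (.leaf ((nat_lit 136), [nat_lit 2, nat_lit 2, nat_lit 0, nat_lit 2, nat_lit 1])) (.leaf ((nat_lit 135), [nat_lit 3, nat_lit 3, nat_lit 3, nat_lit 1]))))
 (.node (nat_lit 1879) (.node (nat_lit 1878) (.leaf ((nat_lit 327), [nat_lit 3, nat_lit 3, nat_lit 3])) (.leaf ((nat_lit 136), [nat_lit 3, nat_lit 3, nat_lit 3, nat_lit 1, nat_lit 0]))) (.node (nat_lit 1880) (.leaf ((nat_lit 289), [nat_lit 3, nat_lit 1])) (.leaf ((nat_lit 314), [nat_lit 0, nat_lit 3, nat_lit 1, nat_lit 0])))))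
 (.node (nat_lit 1885) (.node (nat_lit 1883) (.node (nat_lit 1882) (.leaf ((nat_lit 244), [nat_lit 2, nat_lit 0])) (.leaf ((nat_lit 335), [nat_lit 2, nat_lit 0, nat_lit 3, nat_lit 0]))) (.node (nat_lit 1884) (.leaf ((nat_lit 315), [nat_lit 3, nat_lit 3, nat_lit 0])) (.leaf ((nat_lit 289), [nat_lit 2, nat_lit 0, nat_lit 3, nat_lit 1, nat_lit 0]))))
 (.node (nat_lit 1887) (.node (nat_lit 1886) (.leaf ((nat_lit 136), [nat_lit 3, nat_lit 3])) (.leaf ((nat_lit 313), [nat_lit 2, nat_lit 1, nat_lit 0]))) (.node (nat_lit 1888) (.leaf ((nat_lit 274), [nat_lit 3, nat_lit 3, nat_lit 0, nat_lit 3, nat_lit 0])) (.node (nat_lit 1889) (.leaf ((nat_lit 163), [nat_lit 2, nat_lit 0, nat_lit 3, nat_lit 1, nat_lit 0])) (.leaf ((nat_lit 311), [nat_lit 0, nat_lit 3, nat_lit 0]))))))))))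
noncomputable def n13Wd_14 : Tr (ℕ × List ℕ) := (.node (nat_lit 1957) (.node (nat_lit 1923) (.node (nat_lit 1906) (.node (nat_lit 1898) (.node (nat_lit 1894) (.node (nat_lit 1892) (.node (nat_lit 1891) (.leaf ((nat_lit 309), [nat_lit 0, nat_lit 2, nat_lit 1])) (.leaf ((nat_lit 137), [nat_lit 3, nat_lit 0, nat_lit 3, nat_lit 0]))) (.node (nat_lit 1893) (.leaf ((nat_lit 309), [nat_lit 0, nat_lit 2])) (.leaf ((nat_lit 177), [nat_lit 2, nat_lit 2]))))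
 (.node (nat_lit 1896) (.node (nat_lit 1895) (.leaf ((nat_lit 300), [nat_lit 3, nat_lit 3, nat_lit 0, nat_lit 3])) (.leaf ((nat_lit 313), [nat_lit 2, nat_lit 2, nat_lit 1, nat_lit 0]))) (.node (nat_lit 1897) (.leaf ((nat_lit 288), [nat_lit 2, nat_lit 2, nat_lit 2, nat_lit 1, nat_lit 0])) (.leaf ((nat_lit 310), [])))))
 (.node (nat_lit 1902) (.node (nat_lit 1900) (.node (nat_lit 1899) (.leaf ((nat_lit 288), [nat_lit 2, nat_lit 2, nat_lit 2, nat_lit 1])) (.leaf ((nat_lit 308), [nat_lit 3, nat_lit 1]))) (.node (nat_lit 1901) (.leaf ((nat_lit 215), [nat_lit 2, nat_lit 2, nat_lit 0, nat_lit 2, nat_lit 1, nat_lit 0])) (.leaf ((nat_lit 138), [nat_lit 3, nat_lit 3, nat_lit 0, nat_lit 3, nat_lit 1]))))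
 (.node (nat_lit 1904) (.node (nat_lit 1903) (.leaf ((nat_lit 150), [nat_lit 3, nat_lit 3, nat_lit 0, nat_lit 3])) (.leaf ((nat_lit 214), [nat_lit 3, nat_lit 0, nat_lit 3, nat_lit 1, nat_lit 0]))) (.node (nat_lit 1905) (.leaf ((nat_lit 344), [nat_lit 3])) (.leaf ((nat_lit 320), [nat_lit 3, nat_lit 3, nat_lit 0, nat_lit 3]))))))
 (.node (nat_lit 1914) (.node (nat_lit 1910) (.node (nat_lit 1908) (.node (nat_lit 1907) (.leaf ((nat_lit 141), [nat_lit 3, nat_lit 3, nat_lit 0, nat_lit 3])) (.leaf ((nat_lit 196), [nat_lit 2, nat_lit 0, nat_lit 3, nat_lit 1, nat_lit 0]))) (.node (nat_lit 1909) (.leaf ((nat_lit 143), [nat_lit 2, nat_lit 0, nat_lit 3, nat_lit 1])) (.leaf ((nat_lit 142), [nat_lit 3, nat_lit 0, nat_lit 3, nat_lit 1, nat_lit 0]))))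
 (.node (nat_lit 1912) (.node (nat_lit 1911) (.leaf ((nat_lit 143), [nat_lit 2, nat_lit 0, nat_lit 3, nat_lit 1, nat_lit 0])) (.leaf ((nat_lit 333), [nat_lit 3, nat_lit 0]))) (.node (nat_lit 1913) (.leaf ((nat_lit 155), [nat_lit 3, nat_lit 3, nat_lit 0, nat_lit 3, nat_lit 1, nat_lit 0])) (.leaf ((nat_lit 335), [nat_lit 0, nat_lit 3, nat_lit 1, nat_lit 0])))))
 (.node (nat_lit 1918) (.node (nat_lit 1916) (.node (nat_lit 1915) (.leaf ((nat_lit 325), [nat_lit 2])) (.leaf ((nat_lit 157), [nat_lit 0, nat_lit 3, nat_lit 1, nat_lit 0]))) (.node (nat_lit 1917) (.leaf ((nat_lit 265), [nat_lit 2, nat_lit 0, nat_lit 3, nat_lit 1, nat_lit 0])) (.leaf ((nat_lit 222), [nat_lit 0, nat_lit 3, nat_lit 1]))))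
 (.node (nat_lit 1920) (.node (nat_lit 1919) (.leaf ((nat_lit 142), [nat_lit 2, nat_lit 2, nat_lit 2, nat_lit 1, nat_lit 0])) (.leaf ((nat_lit 193), [nat_lit 3, nat_lit 3, nat_lit 0, nat_lit 3, nat_lit 1, nat_lit 0]))) (.node (nat_lit 1921) (.leaf ((nat_lit 338), [nat_lit 2, nat_lit 0, nat_lit 3, nat_lit 1, nat_lit 0])) (.node (nat_lit 1922) (.leaf ((nat_lit 227), [nat_lit 3, nat_lit 3, nat_lit 3, nat_lit 0])) (.leaf ((nat_lit 354), [nat_lit 3, nat_lit 3, nat_lit 0, nat_lit 3, nat_lit 0]))))))))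
 (.node (nat_lit 1940) (.node (nat_lit 1931) (.node (nat_lit 1927) (.node (nat_lit 1925) (.node (nat_lit 1924) (.leaf ((nat_lit 317), [nat_lit 2, nat_lit 2, nat_lit 2, nat_lit 1, nat_lit 0])) (.leaf ((nat_lit 143), [nat_lit 2, nat_lit 0, nat_lit 2, nat_lit 1, nat_lit 0]))) (.node (nat_lit 1926) (.leaf ((nat_lit 342), [nat_lit 2, nat_lit 2, nat_lit 0, nat_lit 2])) (.leaf ((nat_lit 321), [nat_lit 0]))))
 (.node (nat_lit 1929) (.node (nat_lit 1928) (.leaf ((nat_lit 262), [nat_lit 2, nat_lit 0, nat_lit 3, nat_lit 1, nat_lit 0])) (.leaf ((nat_lit 191), [nat_lit 0, nat_lit 2, nat_lit 1, nat_lit 0]))) (.node (nat_lit 1930) (.leaf ((nat_lit 180), [nat_lit 2, nat_lit 2, nat_lit 1, nat_lit 0])) (.leaf ((nat_lit 196), [nat_lit 2, nat_lit 2, nat_lit 0, nat_lit 2, nat_lit 1, nat_lit 0])))))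
 (.node (nat_lit 1935) (.node (nat_lit 1933) (.node (nat_lit 1932) (.leaf ((nat_lit 145), [nat_lit 2, nat_lit 0, nat_lit 3, nat_lit 1, nat_lit 0])) (.leaf ((nat_lit 149), [nat_lit 3, nat_lit 3, nat_lit 0, nat_lit 3, nat_lit 1, nat_lit 0]))) (.node (nat_lit 1934) (.leaf ((nat_lit 149), [nat_lit 3, nat_lit 3, nat_lit 3, nat_lit 1, nat_lit 0])) (.leaf ((nat_lit 359), [nat_lit 2, nat_lit 1]))))
 (.node (nat_lit 1937) (.node (nat_lit 1936) (.leaf ((nat_lit 171), [nat_lit 3])) (.leaf ((nat_lit 301), [nat_lit 3, nat_lit 3, nat_lit 3, nat_lit 1]))) (.node (nat_lit 1938) (.leaf ((nat_lit 157), [nat_lit 0, nat_lit 2, nat_lit 0])) (.node (nat_lit 1939) (.leaf ((nat_lit 359), [nat_lit 0, nat_lit 2])) (.leaf ((nat_lit 359), [nat_lit 2, nat_lit 1, nat_lit 0])))))))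
 (.node (nat_lit 1948) (.node (nat_lit 1944) (.node (nat_lit 1942) (.node (nat_lit 1941) (.leaf ((nat_lit 149), [nat_lit 3, nat_lit 3, nat_lit 3, nat_lit 1])) (.leaf ((nat_lit 211), [nat_lit 3, nat_lit 0]))) (.node (nat_lit 1943) (.leaf ((nat_lit 210), [])) (.leaf ((nat_lit 175), [nat_lit 3, nat_lit 0, nat_lit 3, nat_lit 1, nat_lit 0]))))
 (.node (nat_lit 1946) (.node (nat_lit 1945) (.leaf ((nat_lit 357), [nat_lit 3, nat_lit 1, nat_lit 0])) (.leaf ((nat_lit 153), [nat_lit 2, nat_lit 2, nat_lit 1]))) (.node (nat_lit 1947) (.leaf ((nat_lit 152), [nat_lit 3, nat_lit 1, nat_lit 0])) (.leaf ((nat_lit 205), [nat_lit 3, nat_lit 0, nat_lit 3])))))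
 (.node (nat_lit 1952) (.node (nat_lit 1950) (.node (nat_lit 1949) (.leaf ((nat_lit 324), [nat_lit 0])) (.leaf ((nat_lit 349), [nat_lit 1]))) (.node (nat_lit 1951) (.leaf ((nat_lit 319), [nat_lit 3])) (.leaf ((nat_lit 327), [nat_lit 0]))))
 (.node (nat_lit 1954) (.node (nat_lit 1953) (.leaf ((nat_lit 240), [nat_lit 3, nat_lit 3, nat_lit 0])) (.leaf ((nat_lit 307), [nat_lit 2, nat_lit 2, nat_lit 0, nat_lit 2, nat_lit 1, nat_lit 0]))) (.node (nat_lit 1955) (.leaf ((nat_lit 162), [nat_lit 3, nat_lit 3])) (.node (nat_lit 1956) (.leaf ((nat_lit 152), [nat_lit 3, nat_lit 3, nat_lit 3, nat_lit 1])) (.leaf ((nat_lit 233), [nat_lit 2, nat_lit 2, nat_lit 2, nat_lit 0])))))))))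
 (.node (nat_lit 1991) (.node (nat_lit 1974) (.node (nat_lit 1965) (.node (nat_lit 1961) (.node (nat_lit 1959) (.node (nat_lit 1958) (.leaf ((nat_lit 210), [nat_lit 0, nat_lit 3])) (.leaf ((nat_lit 192), [nat_lit 2, nat_lit 0, nat_lit 3, nat_lit 1, nat_lit 0]))) (.node (nat_lit 1960) (.leaf ((nat_lit 326), [nat_lit 1, nat_lit 0])) (.leaf ((nat_lit 358), [nat_lit 2, nat_lit 2]))))
 (.node (nat_lit 1963) (.node (nat_lit 1962) (.leaf ((nat_lit 156), [nat_lit 2, nat_lit 2, nat_lit 0, nat_lit 2])) (.leaf ((nat_lit 157), [nat_lit 3, nat_lit 3]))) (.node (nat_lit 1964) (.leaf ((nat_lit 325), [nat_lit 0])) (.leaf ((nat_lit 284), [nat_lit 3, nat_lit 3, nat_lit 0, nat_lit 3, nat_lit 0])))))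
 (.node (nat_lit 1969) (.node (nat_lit 1967) (.node (nat_lit 1966) (.leaf ((nat_lit 178), [nat_lit 2, nat_lit 2, nat_lit 0, nat_lit 2, nat_lit 1, nat_lit 0])) (.leaf ((nat_lit 270), [nat_lit 2, nat_lit 1, nat_lit 0]))) (.node (nat_lit 1968) (.leaf ((nat_lit 312), [nat_lit 2, nat_lit 2, nat_lit 2])) (.leaf ((nat_lit 284), [nat_lit 3, nat_lit 0, nat_lit 3, nat_lit 1]))))
 (.node (nat_lit 1971) (.node (nat_lit 1970) (.leaf ((nat_lit 265), [])) (.leaf ((nat_lit 157), [nat_lit 3]))) (.node (nat_lit 1972) (.leaf ((nat_lit 332), [nat_lit 3, nat_lit 0])) (.node (nat_lit 1973) (.leaf ((nat_lit 350), [nat_lit 3, nat_lit 3])) (.leaf ((nat_lit 354), [nat_lit 2, nat_lit 0, nat_lit 2, nat_lit 0])))))))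
 (.node (nat_lit 1982) (.node (nat_lit 1978) (.node (nat_lit 1976) (.node (nat_lit 1975) (.leaf ((nat_lit 336), [nat_lit 1, nat_lit 0])) (.leaf ((nat_lit 237), [nat_lit 2, nat_lit 2, nat_lit 1, nat_lit 0]))) (.node (nat_lit 1977) (.leaf ((nat_lit 237), [nat_lit 2, nat_lit 0, nat_lit 2, nat_lit 1, nat_lit 0])) (.leaf ((nat_lit 258), [nat_lit 2, nat_lit 0, nat_lit 3]))))
 (.node (nat_lit 1980) (.node (nat_lit 1979) (.leaf ((nat_lit 349), [nat_lit 2, nat_lit 2])) (.leaf ((nat_lit 159), [nat_lit 2, nat_lit 2, nat_lit 2, nat_lit 1]))) (.node (nat_lit 1981) (.leaf ((nat_lit 220), [nat_lit 3, nat_lit 0])) (.leaf ((nat_lit 213), [nat_lit 3])))))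
 (.node (nat_lit 1986) (.node (nat_lit 1984) (.node (nat_lit 1983) (.leaf ((nat_lit 160), [nat_lit 3, nat_lit 0])) (.leaf ((nat_lit 238), [nat_lit 2, nat_lit 0, nat_lit 2, nat_lit 1, nat_lit 0]))) (.node (nat_lit 1985) (.leaf ((nat_lit 330), [nat_lit 2, nat_lit 0, nat_lit 3, nat_lit 1, nat_lit 0])) (.leaf ((nat_lit 231), [nat_lit 3, nat_lit 0, nat_lit 3]))))
 (.node (nat_lit 1988) (.node (nat_lit 1987) (.leaf ((nat_lit 264), [nat_lit 0, nat_lit 3, nat_lit 1, nat_lit 0])) (.leaf ((nat_lit 331), [nat_lit 1, nat_lit 0]))) (.node (nat_lit 1989) (.leaf ((nat_lit 161), [nat_lit 3, nat_lit 3, nat_lit 3, nat_lit 1, nat_lit 0])) (.node (nat_lit 1990) (.leaf ((nat_lit 294), [nat_lit 0, nat_lit 3, nat_lit 0])) (.leaf ((nat_lit 167), [nat_lit 2, nat_lit 0, nat_lit 2, nat_lit 1, nat_lit 0]))))))))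
 (.node (nat_lit 2008) (.node (nat_lit 1999) (.node (nat_lit 1995) (.node (nat_lit 1993) (.node (nat_lit 1992) (.leaf ((nat_lit 198), [nat_lit 2, nat_lit 2, nat_lit 0])) (.leaf ((nat_lit 172), [nat_lit 3, nat_lit 0, nat_lit 3, nat_lit 1, nat_lit 0]))) (.node (nat_lit 1994) (.leaf ((nat_lit 332), [nat_lit 0])) (.leaf ((nat_lit 201), [nat_lit 0, nat_lit 2, nat_lit 1]))))
 (.node (nat_lit 1997) (.node (nat_lit 1996) (.leaf ((nat_lit 328), [nat_lit 0, nat_lit 2])) (.leaf ((nat_lit 297), [nat_lit 3, nat_lit 3, nat_lit 0, nat_lit 3]))) (.node (nat_lit 1998) (.leaf ((nat_lit 161), [nat_lit 2, nat_lit 2, nat_lit 0, nat_lit 2, nat_lit 0])) (.leaf ((nat_lit 310), [nat_lit 2, nat_lit 2, nat_lit 1])))))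
 (.node (nat_lit 2003) (.node (nat_lit 2001) (.node (nat_lit 2000) (.leaf ((nat_lit 288), [nat_lit 3, nat_lit 0, nat_lit 3, nat_lit 1, nat_lit 0])) (.leaf ((nat_lit 310), [nat_lit 2, nat_lit 2, nat_lit 0]))) (.node (nat_lit 2002) (.leaf ((nat_lit 318), [nat_lit 0, nat_lit 2])) (.leaf ((nat_lit 280), [nat_lit 3, nat_lit 0, nat_lit 3, nat_lit 0]))))
 (.node (nat_lit 2005) (.node (nat_lit 2004) (.leaf ((nat_lit 163), [nat_lit 3, nat_lit 1, nat_lit 0])) (.leaf ((nat_lit 215), [nat_lit 2, nat_lit 2, nat_lit 1, nat_lit 0]))) (.node (nat_lit 2006) (.leaf ((nat_lit 206), [nat_lit 2, nat_lit 2, nat_lit 1])) (.node (nat_lit 2007) (.leaf ((nat_lit 205), [nat_lit 3, nat_lit 3, nat_lit 3, nat_lit 1])) (.leaf ((nat_lit 353), [nat_lit 2, nat_lit 1])))))))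
 (.node (nat_lit 2016) (.node (nat_lit 2012) (.node (nat_lit 2010) (.node (nat_lit 2009) (.leaf ((nat_lit 291), [])) (.leaf ((nat_lit 166), [nat_lit 3, nat_lit 3, nat_lit 0]))) (.node (nat_lit 2011) (.leaf ((nat_lit 184), [nat_lit 2, nat_lit 2, nat_lit 2, nat_lit 1])) (.leaf ((nat_lit 178), [nat_lit 3, nat_lit 0, nat_lit 3, nat_lit 1]))))
 (.node (nat_lit 2014) (.node (nat_lit 2013) (.leaf ((nat_lit 255), [nat_lit 0])) (.leaf ((nat_lit 168), [nat_lit 3, nat_lit 3, nat_lit 0]))) (.node (nat_lit 2015) (.leaf ((nat_lit 313), [nat_lit 2, nat_lit 0, nat_lit 3, nat_lit 0])) (.leaf ((nat_lit 318), [nat_lit 2, nat_lit 1, nat_lit 0])))))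
 (.node (nat_lit 2020) (.node (nat_lit 2018) (.node (nat_lit 2017) (.leaf ((nat_lit 329), [nat_lit 1, nat_lit 0])) (.leaf ((nat_lit 218), [nat_lit 3, nat_lit 3, nat_lit 0]))) (.node (nat_lit 2019) (.leaf ((nat_lit 218), [nat_lit 3, nat_lit 0, nat_lit 3, nat_lit 1])) (.leaf ((nat_lit 212), [nat_lit 3, nat_lit 3]))))
 (.node (nat_lit 2022) (.node (nat_lit 2021) (.leaf ((nat_lit 231), [nat_lit 2, nat_lit 2, nat_lit 0, nat_lit 2, nat_lit 0])) (.leaf ((nat_lit 169), [nat_lit 3, nat_lit 3, nat_lit 0]))) (.node (nat_lit 2023) (.leaf ((nat_lit 201), [nat_lit 2, nat_lit 1])) (.node (nat_lit 2024) (.leaf ((nat_lit 337), [nat_lit 0])) (.leaf ((nat_lit 172), [nat_lit 3, nat_lit 3]))))))))))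
noncomputable def n13Wd_15 : Tr (ℕ × List ℕ) := (.node (nat_lit 2092) (.node (nat_lit 2058) (.node (nat_lit 2041) (.node (nat_lit 2033) (.node (nat_lit 2029) (.node (nat_lit 2027) (.node (nat_lit 2026) (.leaf ((nat_lit 223), [nat_lit 3, nat_lit 3, nat_lit 3, nat_lit 0])) (.leaf ((nat_lit 268), [nat_lit 3, nat_lit 0, nat_lit 3, nat_lit 1, nat_lit 0]))) (.node (nat_lit 2028) (.leaf ((nat_lit 208), [nat_lit 2, nat_lit 0])) (.leaf ((nat_lit 320), [nat_lit 2, nat_lit 0, nat_lit 3, nat_lit 1, nat_lit 0]))))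
 (.node (nat_lit 2031) (.node (nat_lit 2030) (.leaf ((nat_lit 270), [nat_lit 3, nat_lit 1, nat_lit 0])) (.leaf ((nat_lit 242), [nat_lit 3, nat_lit 3, nat_lit 0]))) (.node (nat_lit 2032) (.leaf ((nat_lit 174), [nat_lit 2, nat_lit 1])) (.leaf ((nat_lit 304), [])))))
 (.node (nat_lit 2037) (.node (nat_lit 2035) (.node (nat_lit 2034) (.leaf ((nat_lit 353), [nat_lit 3, nat_lit 0, nat_lit 3, nat_lit 1])) (.leaf ((nat_lit 353), [nat_lit 3, nat_lit 0, nat_lit 3, nat_lit 1, nat_lit 0]))) (.node (nat_lit 2036) (.leaf ((nat_lit 175), [nat_lit 3, nat_lit 0, nat_lit 3, nat_lit 1])) (.leaf ((nat_lit 352), [nat_lit 2, nat_lit 2, nat_lit 1]))))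
 (.node (nat_lit 2039) (.node (nat_lit 2038) (.leaf ((nat_lit 300), [nat_lit 3, nat_lit 3, nat_lit 3])) (.leaf ((nat_lit 177), [nat_lit 2, nat_lit 0, nat_lit 2, nat_lit 1, nat_lit 0]))) (.node (nat_lit 2040) (.leaf ((nat_lit 343), [nat_lit 2, nat_lit 2, nat_lit 0])) (.leaf ((nat_lit 260), [nat_lit 3, nat_lit 1, nat_lit 0]))))))
 (.node (nat_lit 2049) (.node (nat_lit 2045) (.node (nat_lit 2043) (.node (nat_lit 2042) (.leaf ((nat_lit 226), [nat_lit 2, nat_lit 2, nat_lit 2, nat_lit 0])) (.leaf ((nat_lit 306), [nat_lit 2, nat_lit 0, nat_lit 2]))) (.node (nat_lit 2044) (.leaf ((nat_lit 176), [nat_lit 2, nat_lit 2, nat_lit 1])) (.leaf ((nat_lit 201), [nat_lit 3, nat_lit 3, nat_lit 0, nat_lit 3]))))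
 (.node (nat_lit 2047) (.node (nat_lit 2046) (.leaf ((nat_lit 355), [nat_lit 2, nat_lit 0, nat_lit 3, nat_lit 0])) (.leaf ((nat_lit 341), [nat_lit 2, nat_lit 0, nat_lit 3, nat_lit 1]))) (.node (nat_lit 2048) (.leaf ((nat_lit 181), [nat_lit 2, nat_lit 2, nat_lit 1, nat_lit 0])) (.leaf ((nat_lit 188), [nat_lit 2, nat_lit 2, nat_lit 2])))))
 (.node (nat_lit 2053) (.node (nat_lit 2051) (.node (nat_lit 2050) (.leaf ((nat_lit 196), [nat_lit 0])) (.leaf ((nat_lit 180), [nat_lit 0, nat_lit 3, nat_lit 1, nat_lit 0]))) (.node (nat_lit 2052) (.leaf ((nat_lit 300), [nat_lit 2, nat_lit 1, nat_lit 0])) (.leaf ((nat_lit 342), [nat_lit 1]))))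
 (.node (nat_lit 2055) (.node (nat_lit 2054) (.leaf ((nat_lit 188), [nat_lit 0, nat_lit 2])) (.leaf ((nat_lit 181), [nat_lit 2, nat_lit 0, nat_lit 3, nat_lit 1]))) (.node (nat_lit 2056) (.leaf ((nat_lit 193), [nat_lit 3, nat_lit 3, nat_lit 0])) (.node (nat_lit 2057) (.leaf ((nat_lit 262), [nat_lit 3, nat_lit 3, nat_lit 0, nat_lit 3])) (.leaf ((nat_lit 320), [nat_lit 3, nat_lit 3, nat_lit 0, nat_lit 3, nat_lit 1]))))))))
 (.node (nat_lit 2075) (.node (nat_lit 2066) (.node (nat_lit 2062) (.node (nat_lit 2060) (.node (nat_lit 2059) (.leaf ((nat_lit 343), [nat_lit 2, nat_lit 0, nat_lit 3, nat_lit 0])) (.leaf ((nat_lit 194), [nat_lit 3, nat_lit 3, nat_lit 3, nat_lit 0]))) (.node (nat_lit 2061) (.leaf ((nat_lit 193), [nat_lit 3, nat_lit 3, nat_lit 0, nat_lit 3])) (.leaf ((nat_lit 191), [nat_lit 2, nat_lit 2, nat_lit 2, nat_lit 1]))))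
 (.node (nat_lit 2064) (.node (nat_lit 2063) (.leaf ((nat_lit 190), [nat_lit 2, nat_lit 2, nat_lit 0, nat_lit 2, nat_lit 1, nat_lit 0])) (.leaf ((nat_lit 339), [nat_lit 3, nat_lit 0, nat_lit 3, nat_lit 1]))) (.node (nat_lit 2065) (.leaf ((nat_lit 230), [nat_lit 2, nat_lit 0, nat_lit 3, nat_lit 1, nat_lit 0])) (.leaf ((nat_lit 296), [nat_lit 0, nat_lit 2])))))
 (.node (nat_lit 2070) (.node (nat_lit 2068) (.node (nat_lit 2067) (.leaf ((nat_lit 317), [nat_lit 2])) (.leaf ((nat_lit 344), [nat_lit 2, nat_lit 0, nat_lit 3, nat_lit 1]))) (.node (nat_lit 2069) (.leaf ((nat_lit 261), [nat_lit 2, nat_lit 2, nat_lit 0, nat_lit 2, nat_lit 0])) (.leaf ((nat_lit 199), [nat_lit 2, nat_lit 2, nat_lit 0, nat_lit 2, nat_lit 0]))))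
 (.node (nat_lit 2072) (.node (nat_lit 2071) (.leaf ((nat_lit 202), [nat_lit 2, nat_lit 2, nat_lit 0, nat_lit 2, nat_lit 0])) (.leaf ((nat_lit 358), [nat_lit 3, nat_lit 3, nat_lit 0, nat_lit 3, nat_lit 0]))) (.node (nat_lit 2073) (.leaf ((nat_lit 351), [nat_lit 2, nat_lit 0, nat_lit 3, nat_lit 1, nat_lit 0])) (.node (nat_lit 2074) (.leaf ((nat_lit 346), [nat_lit 2, nat_lit 2, nat_lit 0, nat_lit 2, nat_lit 0])) (.leaf ((nat_lit 359), [nat_lit 2, nat_lit 2])))))))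
 (.node (nat_lit 2083) (.node (nat_lit 2079) (.node (nat_lit 2077) (.node (nat_lit 2076) (.leaf ((nat_lit 248), [nat_lit 2, nat_lit 0, nat_lit 2, nat_lit 1])) (.leaf ((nat_lit 263), [nat_lit 3, nat_lit 0, nat_lit 3, nat_lit 1]))) (.node (nat_lit 2078) (.leaf ((nat_lit 346), [nat_lit 2, nat_lit 0, nat_lit 3, nat_lit 1, nat_lit 0])) (.leaf ((nat_lit 203), [nat_lit 2, nat_lit 0, nat_lit 3]))))
 (.node (nat_lit 2081) (.node (nat_lit 2080) (.leaf ((nat_lit 345), [nat_lit 3, nat_lit 3, nat_lit 3, nat_lit 1, nat_lit 0])) (.leaf ((nat_lit 292), [nat_lit 2, nat_lit 2, nat_lit 0, nat_lit 2, nat_lit 1]))) (.node (nat_lit 2082) (.leaf ((nat_lit 209), [])) (.leaf ((nat_lit 205), [nat_lit 0, nat_lit 2, nat_lit 1, nat_lit 0])))))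
 (.node (nat_lit 2087) (.node (nat_lit 2085) (.node (nat_lit 2084) (.leaf ((nat_lit 204), [nat_lit 2, nat_lit 2, nat_lit 0, nat_lit 2, nat_lit 0])) (.leaf ((nat_lit 215), [nat_lit 3, nat_lit 0]))) (.node (nat_lit 2086) (.leaf ((nat_lit 347), [nat_lit 1, nat_lit 0])) (.leaf ((nat_lit 286), [nat_lit 3, nat_lit 3]))))
 (.node (nat_lit 2089) (.node (nat_lit 2088) (.leaf ((nat_lit 221), [nat_lit 0, nat_lit 3, nat_lit 1, nat_lit 0])) (.leaf ((nat_lit 209), [nat_lit 2, nat_lit 2, nat_lit 1]))) (.node (nat_lit 2090) (.leaf ((nat_lit 348), [nat_lit 2, nat_lit 0, nat_lit 3, nat_lit 0])) (.node (nat_lit 2091) (.leaf ((nat_lit 208), [nat_lit 3, nat_lit 3, nat_lit 3, nat_lit 0])) (.leaf ((nat_lit 269), [nat_lit 0])))))))))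
 (.node (nat_lit 2126) (.node (nat_lit 2109) (.node (nat_lit 2100) (.node (nat_lit 2096) (.node (nat_lit 2094) (.node (nat_lit 2093) (.leaf ((nat_lit 249), [nat_lit 3, nat_lit 3, nat_lit 0, nat_lit 3])) (.leaf ((nat_lit 253), [nat_lit 2, nat_lit 0, nat_lit 2]))) (.node (nat_lit 2095) (.leaf ((nat_lit 225), [nat_lit 3, nat_lit 3, nat_lit 1, nat_lit 0])) (.leaf ((nat_lit 250), [nat_lit 0, nat_lit 2, nat_lit 1, nat_lit 0]))))
 (.node (nat_lit 2098) (.node (nat_lit 2097) (.leaf ((nat_lit 250), [nat_lit 2, nat_lit 1])) (.leaf ((nat_lit 295), [nat_lit 3, nat_lit 3, nat_lit 3, nat_lit 1]))) (.node (nat_lit 2099) (.leaf ((nat_lit 329), [nat_lit 3, nat_lit 3])) (.leaf ((nat_lit 324), [nat_lit 1])))))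
 (.node (nat_lit 2104) (.node (nat_lit 2102) (.node (nat_lit 2101) (.leaf ((nat_lit 228), [nat_lit 3, nat_lit 0, nat_lit 3, nat_lit 1])) (.leaf ((nat_lit 228), [nat_lit 3, nat_lit 0, nat_lit 3, nat_lit 1, nat_lit 0]))) (.node (nat_lit 2103) (.leaf ((nat_lit 245), [nat_lit 2, nat_lit 2, nat_lit 2, nat_lit 1, nat_lit 0])) (.leaf ((nat_lit 297), [nat_lit 3, nat_lit 3, nat_lit 1]))))
 (.node (nat_lit 2106) (.node (nat_lit 2105) (.leaf ((nat_lit 328), [nat_lit 2, nat_lit 2])) (.leaf ((nat_lit 239), [nat_lit 3, nat_lit 3, nat_lit 3, nat_lit 1]))) (.node (nat_lit 2107) (.leaf ((nat_lit 281), [nat_lit 0, nat_lit 3, nat_lit 1])) (.node (nat_lit 2108) (.leaf ((nat_lit 280), [nat_lit 2, nat_lit 2, nat_lit 0, nat_lit 2])) (.leaf ((nat_lit 345), [nat_lit 2, nat_lit 0, nat_lit 3, nat_lit 1, nat_lit 0])))))))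
 (.node (nat_lit 2117) (.node (nat_lit 2113) (.node (nat_lit 2111) (.node (nat_lit 2110) (.leaf ((nat_lit 236), [nat_lit 3, nat_lit 3, nat_lit 0, nat_lit 3, nat_lit 1, nat_lit 0])) (.leaf ((nat_lit 285), [nat_lit 3]))) (.node (nat_lit 2112) (.leaf ((nat_lit 359), [nat_lit 3, nat_lit 3, nat_lit 3])) (.leaf ((nat_lit 238), [nat_lit 0, nat_lit 3, nat_lit 0]))))
 (.node (nat_lit 2115) (.node (nat_lit 2114) (.leaf ((nat_lit 266), [nat_lit 3, nat_lit 3, nat_lit 0, nat_lit 3])) (.leaf ((nat_lit 339), [nat_lit 3, nat_lit 0, nat_lit 3, nat_lit 1, nat_lit 0]))) (.node (nat_lit 2116) (.leaf ((nat_lit 352), [nat_lit 0])) (.leaf ((nat_lit 248), [nat_lit 2, nat_lit 2])))))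
 (.node (nat_lit 2121) (.node (nat_lit 2119) (.node (nat_lit 2118) (.leaf ((nat_lit 356), [nat_lit 0, nat_lit 2])) (.leaf ((nat_lit 339), [nat_lit 2, nat_lit 2, nat_lit 1]))) (.node (nat_lit 2120) (.leaf ((nat_lit 259), [nat_lit 0, nat_lit 3, nat_lit 0])) (.leaf ((nat_lit 238), [nat_lit 2, nat_lit 2, nat_lit 2, nat_lit 1, nat_lit 0]))))
 (.node (nat_lit 2123) (.node (nat_lit 2122) (.leaf ((nat_lit 334), [nat_lit 3, nat_lit 1, nat_lit 0])) (.leaf ((nat_lit 355), [nat_lit 0, nat_lit 2, nat_lit 1, nat_lit 0]))) (.node (nat_lit 2124) (.leaf ((nat_lit 338), [nat_lit 2, nat_lit 2, nat_lit 0])) (.node (nat_lit 2125) (.leaf ((nat_lit 242), [nat_lit 0, nat_lit 2, nat_lit 0])) (.leaf ((nat_lit 269), [nat_lit 3, nat_lit 1, nat_lit 0]))))))))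
 (.node (nat_lit 2143) (.node (nat_lit 2134) (.node (nat_lit 2130) (.node (nat_lit 2128) (.node (nat_lit 2127) (.leaf ((nat_lit 320), [nat_lit 2, nat_lit 2, nat_lit 2, nat_lit 0])) (.leaf ((nat_lit 354), [nat_lit 1]))) (.node (nat_lit 2129) (.leaf ((nat_lit 299), [nat_lit 3, nat_lit 3, nat_lit 3, nat_lit 1, nat_lit 0])) (.leaf ((nat_lit 328), [nat_lit 3, nat_lit 3, nat_lit 1]))))
 (.node (nat_lit 2132) (.node (nat_lit 2131) (.leaf ((nat_lit 246), [nat_lit 3, nat_lit 3, nat_lit 0])) (.leaf ((nat_lit 283), [nat_lit 2, nat_lit 0, nat_lit 2]))) (.node (nat_lit 2133) (.leaf ((nat_lit 355), [nat_lit 2, nat_lit 0, nat_lit 3, nat_lit 1, nat_lit 0])) (.leaf ((nat_lit 291), [nat_lit 3, nat_lit 3, nat_lit 0])))))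
 (.node (nat_lit 2138) (.node (nat_lit 2136) (.node (nat_lit 2135) (.leaf ((nat_lit 353), [nat_lit 0, nat_lit 3, nat_lit 1])) (.leaf ((nat_lit 340), [nat_lit 2, nat_lit 0, nat_lit 3, nat_lit 0]))) (.node (nat_lit 2137) (.leaf ((nat_lit 249), [nat_lit 3, nat_lit 1, nat_lit 0])) (.leaf ((nat_lit 248), [nat_lit 2, nat_lit 2, nat_lit 0, nat_lit 2, nat_lit 1, nat_lit 0]))))
 (.node (nat_lit 2140) (.node (nat_lit 2139) (.leaf ((nat_lit 295), [nat_lit 2, nat_lit 0, nat_lit 3, nat_lit 1, nat_lit 0])) (.leaf ((nat_lit 253), [nat_lit 2, nat_lit 0, nat_lit 2, nat_lit 0]))) (.node (nat_lit 2141) (.leaf ((nat_lit 252), [nat_lit 2, nat_lit 2, nat_lit 0, nat_lit 2, nat_lit 1, nat_lit 0])) (.node (nat_lit 2142) (.leaf ((nat_lit 352), [nat_lit 3, nat_lit 0])) (.leaf ((nat_lit 324), [nat_lit 2, nat_lit 1])))))))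
 (.node (nat_lit 2151) (.node (nat_lit 2147) (.node (nat_lit 2145) (.node (nat_lit 2144) (.leaf ((nat_lit 294), [nat_lit 3, nat_lit 3, nat_lit 0, nat_lit 3, nat_lit 0])) (.leaf ((nat_lit 300), [nat_lit 2, nat_lit 0, nat_lit 2, nat_lit 0]))) (.node (nat_lit 2146) (.leaf ((nat_lit 357), [nat_lit 0])) (.leaf ((nat_lit 298), [nat_lit 2, nat_lit 2, nat_lit 0, nat_lit 2, nat_lit 0]))))
 (.node (nat_lit 2149) (.node (nat_lit 2148) (.leaf ((nat_lit 266), [nat_lit 3, nat_lit 0])) (.leaf ((nat_lit 282), [nat_lit 2, nat_lit 2, nat_lit 1]))) (.node (nat_lit 2150) (.leaf ((nat_lit 345), [nat_lit 2, nat_lit 2, nat_lit 2, nat_lit 0])) (.leaf ((nat_lit 280), [nat_lit 3, nat_lit 0])))))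
 (.node (nat_lit 2155) (.node (nat_lit 2153) (.node (nat_lit 2152) (.leaf ((nat_lit 358), [nat_lit 0])) (.leaf ((nat_lit 326), [nat_lit 3, nat_lit 3]))) (.node (nat_lit 2154) (.leaf ((nat_lit 294), [nat_lit 2, nat_lit 2, nat_lit 2, nat_lit 1, nat_lit 0])) (.leaf ((nat_lit 323), [nat_lit 3, nat_lit 0]))))
 (.node (nat_lit 2157) (.node (nat_lit 2156) (.leaf ((nat_lit 323), [nat_lit 0, nat_lit 3, nat_lit 1, nat_lit 0])) (.leaf ((nat_lit 322), [nat_lit 3, nat_lit 1, nat_lit 0]))) (.node (nat_lit 2158) (.leaf ((nat_lit 292), [nat_lit 3, nat_lit 3, nat_lit 0, nat_lit 3])) (.node (nat_lit 2159) (.leaf ((nat_lit 345), [nat_lit 3, nat_lit 3])) (.leaf ((nat_lit 351), [nat_lit 2, nat_lit 2, nat_lit 2]))))))))))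
noncomputable def n13Wd : Tr (ℕ × List ℕ) := (.node (nat_lit 1080) (.node (nat_lit 540) (.node (nat_lit 270) (.node (nat_lit 135) n13Wd_0 n13Wd_1) (.node (nat_lit 405) n13Wd_2 n13Wd_3)) (.node (nat_lit 810) (.node (nat_lit 675) n13Wd_4 n13Wd_5) (.node (nat_lit 945) n13Wd_6 n13Wd_7))) (.node (nat_lit 1620) (.node (nat_lit 1350) (.node (nat_lit 1215) n13Wd_8 n13Wd_9) (.node (nat_lit 1485) n13Wd_10 n13Wd_11)) (.node (nat_lit 1890) (.node (nat_lit 1755) n13Wd_12 n13Wd_13) (.node (nat_lit 2025) n13Wd_14 n13Wd_15))))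
theorem n13q : allR 0 360 (dblChk (nat_lit 4) (nat_lit 15) (MG.gl42L.map Lev.b) MG.gl42T n13T n13Dd (topN MG.gl42L) 360 12 n13PA n13Wd) = true := by decide +kernel
noncomputable def n13Ws : List (List ℕ) := [[]]
noncomputable def n13CE : Tr (ℕ × List ℕ × List (List ℕ)) := (.node (nat_lit 6) (.node (nat_lit 3) (.node (nat_lit 1) (.leaf ((nat_lit 0), [], [])) (.node (nat_lit 2) (.leaf ((nat_lit 14), [nat_lit 4, nat_lit 0, nat_lit 5, nat_lit 2, nat_lit 1, nat_lit 0, nat_lit 4, nat_lit 1, nat_lit 3, nat_lit 0], [[nat_lit 3, nat_lit 3], [nat_lit 2, nat_lit 99, nat_lit 0]])) (.leaf ((nat_lit 0), [nat_lit 2, nat_lit 4, nat_lit 3, nat_lit 2, nat_lit 1, nat_lit 0, nat_lit 3, nat_lit 2], [])))) (.node (nat_lit 4) (.leaf ((nat_lit 14), [nat_lit 1, nat_lit 0, nat_lit 5, nat_lit 2, nat_lit 0, nat_lit 4, nat_lit 1, nat_lit 0, nat_lit 3, nat_lit 0], [[nat_lit 3, nat_lit 99, nat_lit 3, nat_lit 1], [nat_lit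 99, nat_lit 1, nat_lit 3]])) (.node (nat_lit 5) (.leaf ((nat_lit 14), [nat_lit 3, nat_lit 2, nat_lit 1, nat_lit 5, nat_lit 2, nat_lit 1, nat_lit 0, nat_lit 4], [[nat_lit 0, nat_lit 3, nat_lit 99, nat_lit 0], [nat_lit 1, nat_lit 99, nat_lit 3, nat_lit 0]])) (.leaf ((nat_lit 14), [nat_lit 5, nat_lit 1, nat_lit 5, nat_lit 2, nat_lit 0, nat_lit 4, nat_lit 1, nat_lit 3, nat_lit 2, nat_lit 1, nat_lit 0], [[nat_lit 0, nat_lit 99, nat_lit 1], [nat_lit 99, nat_lit 2]])))))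
 (.node (nat_lit 9) (.node (nat_lit 7) (.leaf ((nat_lit 14), [nat_lit 1, nat_lit 0, nat_lit 5, nat_lit 2, nat_lit 0, nat_lit 4, nat_lit 1, nat_lit 0, nat_lit 3], [[nat_lit 99, nat_lit 1, nat_lit 0], [nat_lit 3, nat_lit 99, nat_lit 1, nat_lit 0]])) (.node (nat_lit 8) (.leaf ((nat_lit 14), [nat_lit 4, nat_lit 0, nat_lit 5, nat_lit 2, nat_lit 1, nat_lit 0, nat_lit 4, nat_lit 0], [[nat_lit 99, nat_lit 2, nat_lit 2, nat_lit 1], [nat_lit 99, nat_lit 99, nat_lit 0]])) (.leaf ((nat_lit 0), [nat_lit 1, nat_lit 4, nat_lit 3, nat_lit 2, nat_lit 1, nat_lit 0, nat_lit 3, nat_lit 1], [])))) (.node (nat_lit 10) (.leaf ((nat_lit 0), [nat_lit 4, nat_lit 3, nat_lit 2, nat_lit 1, nat_lit 0, nat_lit 3], [])) (.node (nat_lit 11) (.leaf ((nat_lit 0), [nat_lit 4, nat_lit 3, nat_lit 2, nat_lit 1, nat_lit 0, nat_lit 3, nat_lit 2], [])) (.leaf ((nat_lit 0), [nat_lit 2, nat_lit 4, nat_lit 3, nat_lit 2, nat_lit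 1, nat_lit 0, nat_lit 3], []))))))
theorem n13s : allR 0 12 (stepChk (nat_lit 4) (nat_lit 15) (MG.gl42L.map Lev.b) MG.gl42T n13T n13mT n13T n13Dd AW [nat_lit 14] n13Ws n13CE) = true := by decide +kernel
theorem s13 {G : Type*} [Group G] [Finite G] {X : Type*} [MulAction G X] {pt : ℕ → X} (C : Ch G 15 (nat_lit 4) (nat_lit 15) pt MG.gl42T MG.gl42L) {H : Subgroup G} (h : PJ C.lets.e AW 13 H) :
    ∃ K : Subgroup G, Nonempty (H ≃* K) ∧ (Q K ∨ ∃ j ∈ [nat_lit 14], PJ C.lets.e AW j K) := by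
  obtain ⟨K, e, hK⟩ := h.conj
  refine ⟨K, e, ?_⟩
  obtain ⟨N, D, S⟩ := (C.gen (lets_words C.lets n13E n13w) n13chain n13sd n13tc)
  have le := C.le_AW D hK n13slp n13a
  obtain ⟨M, E, -⟩ := (C.gen (lets_words C.lets n13mE n13mw) n13mchain n13msd n13mtc)
  have NM := D.le_lets C.base (lets_words E.lets n13xE n13xw)
  obtain ⟨P, F, -⟩ := (C.gen (lets_words C.lets n13pE n13pw) n13pchain n13psd n13ptc)
  have PN := F.le_lets C.base (lets_words D.lets n13yE n13yw)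
  have MP := C.le_nor E F n13r
  have hD := lets_words C.lets n13dE n13dw
  refine (C.step D.lets E.lets D.lets hD le_normalizer NM (C.dbl D.lets hD n13q (by decide +kernel)) (Ws := n13Ws) (fun u hu => ⟨[], List.mem_singleton_self _, u, hu, (one_mul u).symm⟩) (by decide +kernel) n13s le).imp_left fun h => ?_
  exact .inl (QS.of (PN.trans le) (h.trans MP) (p := 2) (j := 2) (by norm_num) (F.card.trans (by decide +kernel)))
noncomputable def n14t0 : ℕ := (nat_lit 0xa9875634debc210)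
noncomputable def n14t1 : ℕ := (nat_lit 0x5634edcb9a78210)
noncomputable def n14t2 : ℕ := (nat_lit 0xcbed789a5634210)
noncomputable def n14t3 : ℕ := (nat_lit 0x56bc2187de34a90)
noncomputable def n14t4 : ℕ := (nat_lit 0x82c6a0e4b571d39)
noncomputable def n14T : Tr ℕ := (.node (nat_lit 2) (.node (nat_lit 1) (.leaf n14t0) (.leaf n14t1)) (.node (nat_lit 3) (.leaf n14t2) (.node (nat_lit 4) (.leaf n14t3) (.leaf n14t4))))
noncomputable def n14R : Tr (List ℕ) := (.node (nat_lit 5) (.node (nat_lit 2) (.node (nat_lit 1) (.leaf [nat_lit 3, nat_lit 0, nat_lit 3, nat_lit 0, nat_lit 3, nat_lit 0]) (.leaf [nat_lit 2, nat_lit 3, nat_lit 1, nat_lit 2, nat_lit 4, nat_lit 0, nat_lit 4, nat_lit 0, nat_lit 4, nat_lit 1, nat_lit 4])) (.node (nat_lit 3) (.leaf [nat_lit 0, nat_lit 0, nat_lit 0]) (.node (nat_lit 4) (.leaf [nat_lit 0, nat_lit 1]) (.leaf [nat_lit 1, nat_lit 2, nat_lit 0, nat_lit 3, nat_lit 4, nat_lit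 1, nat_lit 4, nat_lit 2, nat_lit 1, nat_lit 4]))))
 (.node (nat_lit 8) (.node (nat_lit 6) (.leaf [nat_lit 3, nat_lit 2, nat_lit 3, nat_lit 2, nat_lit 3, nat_lit 2]) (.node (nat_lit 7) (.leaf [nat_lit 0, nat_lit 2, nat_lit 0, nat_lit 3, nat_lit 0, nat_lit 2, nat_lit 3, nat_lit 1, nat_lit 2, nat_lit 3]) (.leaf [nat_lit 0, nat_lit 2, nat_lit 0, nat_lit 2, nat_lit 0, nat_lit 2]))) (.node (nat_lit 9) (.leaf [nat_lit 2, nat_lit 2]) (.node (nat_lit 10) (.leaf [nat_lit 3, nat_lit 3]) (.leaf [nat_lit 4, nat_lit 4])))))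
noncomputable def n14L0 : Lev := ⟨(nat_lit 0), (nat_lit 5), (nat_lit 0x50101030405030202030102050400), (nat_lit 0x30203030401020402030403030200),
 (.node (nat_lit 2) (.node (nat_lit 1) (.leaf (nat_lit 0xa00000000000100020001000100020002000900000002000200050000))
 (.leaf (nat_lit 0x8000300030001000b0001000100000000000300030000000300060000)))
 (.node (nat_lit 3) (.leaf (nat_lit 0xc0001000b0000000400010000000300010000000300020006000c0000))
 (.node (nat_lit 4) (.leaf (nat_lit 0xc00050008000900000001000b00070004000b0009000a000100000000))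
 (.leaf (nat_lit 0x1000f0002000d0000000100070003000c0006000e0000000d0001))))),
 (.node (nat_lit 2) (.node (nat_lit 1) (.leaf (nat_lit 0x201000000000000000300000402000300000300000200000202000300000000000202000107000005000000))
 (.leaf (nat_lit 0x408000301000301000301000301000301000301000000000000000301000301000000000301000301000000)))
 (.node (nat_lit 3) (.leaf (nat_lit 0x800000800000703000000000800000800000000000701000800000000000800000705000605000505000000))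
 (.node (nat_lit 4) (.leaf (nat_lit 0x900000900000609000901000000000900000002000502000101000002000000000901000901000000000000))
 (.leaf (nat_lit 0xa00000406000406000404000000000a01000a00000a01000409000409000a00000000000409000a01)))))⟩
noncomputable def n14L1 : Lev := ⟨(nat_lit 1), (nat_lit 4), (nat_lit 0x20101030104030202030102040000), (nat_lit 0x40203030401020402030403050000),
 (.node (nat_lit 2) (.node (nat_lit 1) (.leaf (nat_lit 0x200000000000100000001000100020002000100000002000800000000))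
 (.leaf (nat_lit 0x30003000100030001000100000000000100030000000900000000)))
 (.node (nat_lit 3) (.leaf (nat_lit 0x600010005000000040001000000030001000000030002000700000000))
 (.leaf (nat_lit 0x600030002000300010000000200060002000700050004000000010000)))),
 (.node (nat_lit 2) (.node (nat_lit 1) (.leaf (nat_lit 0x201000000000000000300000000000300000300000200000202000300000000000202000005000000000000))
 (.leaf (nat_lit 0x301000301000301000301000301000301000000000000000301000301000000000301000000000000)))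
 (.node (nat_lit 3) (.leaf (nat_lit 0x800000800000703000000000800000800000000000701000800000000000800000705000505000000000000))
 (.leaf (nat_lit 0x500000900000606000901000900000000000502000002000002000901000900000000000000000901000000))))⟩
noncomputable def n14L2 : Lev := ⟨(nat_lit 3), (nat_lit 3), (nat_lit 0x30102020203010102010300000000), (nat_lit 0x20301020302010203030100000000),
 (.node (nat_lit 1) (.leaf (nat_lit 0x100000002000200020001000000000002000000010001000000000000))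
 (.node (nat_lit 2) (.leaf (nat_lit 0x100030000000000000001000300030000000300010001000000000000))
 (.leaf (nat_lit 0x30001000200020000000100030005000400000001000000000000)))),
 (.node (nat_lit 1) (.leaf (nat_lit 0x300000000000201000201000200000300000000000000000202000000000300000300000000000000000000))
 (.node (nat_lit 2) (.leaf (nat_lit 0x301000301000000000000000000000301000301000301000000000301000301000301000000000000000000))
 (.leaf (nat_lit 0x800000801000703000701000000000801000801000800000705000000000801000000000000000000))))⟩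
noncomputable def n14L : List Lev := [n14L0, n14L1, n14L2]
noncomputable def n14E : Tr (List ℕ) := (.node (nat_lit 2) (.node (nat_lit 1) (.leaf [nat_lit 1, nat_lit 4, nat_lit 3, nat_lit 2, nat_lit 0, nat_lit 3, nat_lit 1]) (.leaf [nat_lit 2, nat_lit 1, nat_lit 0, nat_lit 4, nat_lit 2, nat_lit 3, nat_lit 2, nat_lit 1])) (.node (nat_lit 3) (.leaf [nat_lit 2, nat_lit 0, nat_lit 4, nat_lit 3, nat_lit 2, nat_lit 0]) (.node (nat_lit 4) (.leaf [nat_lit 3, nat_lit 1, nat_lit 5, nat_lit 4, nat_lit 0, nat_lit 4, nat_lit 1, nat_lit 3, nat_lit 2, nat_lit 1]) (.leaf [nat_lit 4, nat_lit 5, nat_lit 4, nat_lit 3, nat_lit 0, nat_lit 3, nat_lit 2]))))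
theorem n14w_0 : n14T.all2 (fun c w => isProd 15 (nat_lit 4) (nat_lit 15) MG.gl42T c w) n14E = true := by decide +kernel
theorem n14w : n14T.all2 (fun c w => isProd 15 (nat_lit 4) (nat_lit 15) MG.gl42T c w) n14E = true := n14w_0
theorem n14lev0 : levChk 15 (nat_lit 4) (nat_lit 15) n14T n14R n14L0 n14L1.N = true := by decide +kernel
theorem n14lev1 : levChk 15 (nat_lit 4) (nat_lit 15) n14T n14R n14L1 n14L2.N = true := by decide +kernel
theorem n14lev2 : levChk 15 (nat_lit 4) (nat_lit 15) n14T n14R n14L2 0 = true := by decide +kernel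
theorem n14chain : Chain 15 (nat_lit 4) (nat_lit 15) n14T n14R n14L := chain_cons n14lev0 <| chain_cons n14lev1 <| chain_one n14lev2
theorem n14sd : band (selChk n14T n14T (topN n14L)) (n14R.all fun w => eqB (MG.gl42L.map Lev.b) (apL (nat_lit 4) (nat_lit 15) n14T w) fun a => a) = true := by decide +kernel
theorem n14tc : tchainChk 15 (nat_lit 4) (nat_lit 15) n14T n14L = true := by decide +kernel
noncomputable def n14s0 : ℕ := (nat_lit 0x1a4bc392075ed68)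
noncomputable def n14s1 : ℕ := (nat_lit 0xc86251b740ead93)
noncomputable def n14s2 : ℕ := (nat_lit 0x32abd80514c97e6)
noncomputable def n14s3 : ℕ := (nat_lit 0x42e831d7ca60b95)
noncomputable def n14s4 : ℕ := (nat_lit 0xde34bc568721a90)
noncomputable def n14s5 : ℕ := (nat_lit 0x9a2143bc65de780)
noncomputable def n14s6 : ℕ := (nat_lit 0x3478de1265a9cb0)
noncomputable def n14s7 : ℕ := (nat_lit 0x5678a94312bced0)
noncomputable def n14s8 : ℕ := (nat_lit 0x2134a9bcde87560)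
noncomputable def n14s9 : ℕ := (nat_lit 0xbcde9a784365210)
noncomputable def n14s10 : ℕ := (nat_lit 0x789a6543bcde210)
noncomputable def n14s11 : ℕ := (nat_lit 0x3456bcdea987210)
noncomputable def n14s12 : ℕ := (nat_lit 0xa9875634debc210)
noncomputable def n14s13 : ℕ := (nat_lit 0x5634edcb9a78210)
noncomputable def n14s14 : ℕ := (nat_lit 0xcbed789a5634210)
noncomputable def n14s15 : ℕ := (nat_lit 0x56bc2187de34a90)
noncomputable def n14s16 : ℕ := (nat_lit 0x82c6a0e4b571d39)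
noncomputable def n14S : Tr ℕ := (.node (nat_lit 8) (.node (nat_lit 4) (.node (nat_lit 2) (.node (nat_lit 1) (.leaf n14s0) (.leaf n14s1)) (.node (nat_lit 3) (.leaf n14s2) (.leaf n14s3)))
 (.node (nat_lit 6) (.node (nat_lit 5) (.leaf n14s4) (.leaf n14s5)) (.node (nat_lit 7) (.leaf n14s6) (.leaf n14s7))))
 (.node (nat_lit 12) (.node (nat_lit 10) (.node (nat_lit 9) (.leaf n14s8) (.leaf n14s9)) (.node (nat_lit 11) (.leaf n14s10) (.leaf n14s11)))
 (.node (nat_lit 14) (.node (nat_lit 13) (.leaf n14s12) (.leaf n14s13)) (.node (nat_lit 15) (.leaf n14s14) (.node (nat_lit 16) (.leaf n14s15) (.leaf n14s16))))))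
noncomputable def n14D : Tr (List ℕ) := (.node (nat_lit 8) (.node (nat_lit 4) (.node (nat_lit 2) (.node (nat_lit 1) (.leaf []) (.leaf [])) (.node (nat_lit 3) (.leaf [nat_lit 0, nat_lit 0, nat_lit 0, nat_lit 0, nat_lit 0, nat_lit 0]) (.leaf [nat_lit 1, nat_lit 1, nat_lit 1])))
 (.node (nat_lit 6) (.node (nat_lit 5) (.leaf [nat_lit 0, nat_lit 0, nat_lit 0, nat_lit 1, nat_lit 1, nat_lit 2]) (.leaf [nat_lit 3, nat_lit 2, nat_lit 1, nat_lit 2, nat_lit 3])) (.node (nat_lit 7) (.leaf [nat_lit 1, nat_lit 0, nat_lit 3, nat_lit 0, nat_lit 1]) (.leaf [nat_lit 3, nat_lit 2, nat_lit 2, nat_lit 2, nat_lit 2]))))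
 (.node (nat_lit 12) (.node (nat_lit 10) (.node (nat_lit 9) (.leaf [nat_lit 0, nat_lit 0, nat_lit 0, nat_lit 0, nat_lit 1]) (.leaf [nat_lit 4, nat_lit 5, nat_lit 4])) (.node (nat_lit 11) (.leaf [nat_lit 6, nat_lit 7, nat_lit 6]) (.leaf [nat_lit 5, nat_lit 8, nat_lit 5])))
 (.node (nat_lit 14) (.node (nat_lit 13) (.leaf [nat_lit 10, nat_lit 9]) (.leaf [nat_lit 12, nat_lit 12])) (.node (nat_lit 15) (.leaf [nat_lit 10, nat_lit 9, nat_lit 11]) (.node (nat_lit 16) (.leaf [nat_lit 4, nat_lit 9, nat_lit 10]) (.leaf [nat_lit 0, nat_lit 0, nat_lit 5, nat_lit 11, nat_lit 9]))))))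
theorem n14slp : slpChk 15 (nat_lit 4) (nat_lit 15) n14S n14D 2 15 = true := by decide +kernel
theorem n14a : band (selChk n14T n14S (2 + 15)) (allB 2 fun j => anyL (AW.get 14) fun w => isProd 15 (nat_lit 4) (nat_lit 15) MG.gl42T (n14S.get j) w) = true := by decide +kernel
noncomputable def n14Dd : Tr ℕ := (.node (nat_lit 1) (.leaf (nat_lit 0xedcba9876543210)) (.leaf (nat_lit 0xcdeb89a74563012)))
noncomputable def n14dE : Tr (List ℕ) := (.node (nat_lit 1) (.leaf []) (.leaf [nat_lit 0]))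
theorem n14dw_0 : n14Dd.all2 (fun c w => isProd 15 (nat_lit 4) (nat_lit 15) MG.gl42T c w) n14dE = true := by decide +kernel
theorem n14dw : n14Dd.all2 (fun c w => isProd 15 (nat_lit 4) (nat_lit 15) MG.gl42T c w) n14dE = true := n14dw_0
noncomputable def n14PA : Tr (ℕ × List ℕ) := (.node (nat_lit 4) (.node (nat_lit 2) (.node (nat_lit 1) (.leaf ((nat_lit 0), [])) (.leaf ((nat_lit 1), []))) (.node (nat_lit 3) (.leaf ((nat_lit 1), [nat_lit 4, nat_lit 1])) (.leaf ((nat_lit 1), [nat_lit 4]))))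
 (.node (nat_lit 6) (.node (nat_lit 5) (.leaf ((nat_lit 1), [nat_lit 1])) (.leaf ((nat_lit 1), [nat_lit 3, nat_lit 1]))) (.node (nat_lit 7) (.leaf ((nat_lit 1), [nat_lit 3, nat_lit 0])) (.leaf ((nat_lit 1), [nat_lit 0])))))
noncomputable def n14Wd : Tr (ℕ × List ℕ) := (.node (nat_lit 24) (.node (nat_lit 12) (.node (nat_lit 6) (.node (nat_lit 3) (.node (nat_lit 1) (.leaf ((nat_lit 1), [])) (.node (nat_lit 2) (.leaf ((nat_lit 2), [nat_lit 3, nat_lit 4, nat_lit 1, nat_lit 4, nat_lit 2, nat_lit 3, nat_lit 1])) (.leaf ((nat_lit 3), [nat_lit 2, nat_lit 1, nat_lit 4, nat_lit 0, nat_lit 3, nat_lit 1])))) (.node (nat_lit 4) (.leaf ((nat_lit 4), [nat_lit 4, nat_lit 1, nat_lit 4, nat_lit 1, nat_lit 2, nat_lit 3, nat_lit 2, nat_lit 1])) (.node (nat_lit 5) (.leaf ((nat_lit 4), [nat_lit 4, nat_lit 2, nat_lit 4, nat_lit 0, nat_lit 2, nat_lit 1, nat_lit 3, nat_lit 2])) (.leaf ((nat_lit 0), [nat_lit 3,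 nat_lit 4, nat_lit 3])))))
 (.node (nat_lit 9) (.node (nat_lit 7) (.leaf ((nat_lit 0), [])) (.node (nat_lit 8) (.leaf ((nat_lit 4), [nat_lit 2, nat_lit 4, nat_lit 0, nat_lit 2, nat_lit 3])) (.leaf ((nat_lit 5), [nat_lit 4, nat_lit 2, nat_lit 4, nat_lit 1, nat_lit 2, nat_lit 0, nat_lit 3, nat_lit 2])))) (.node (nat_lit 10) (.leaf ((nat_lit 6), [nat_lit 1, nat_lit 2, nat_lit 4, nat_lit 0, nat_lit 2, nat_lit 0, nat_lit 3, nat_lit 2, nat_lit 1])) (.node (nat_lit 11) (.leaf ((nat_lit 3), [nat_lit 2, nat_lit 0, nat_lit 4, nat_lit 1, nat_lit 2, nat_lit 1, nat_lit 3, nat_lit 1, nat_lit 2, nat_lit 1])) (.leaf ((nat_lit 3), [nat_lit 1, nat_lit 4, nat_lit 2, nat_lit 1, nat_lit 3, nat_lit 0, nat_lit 2, nat_lit 0]))))))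
 (.node (nat_lit 18) (.node (nat_lit 15) (.node (nat_lit 13) (.leaf ((nat_lit 4), [nat_lit 4, nat_lit 2, nat_lit 3, nat_lit 1, nat_lit 2])) (.node (nat_lit 14) (.leaf ((nat_lit 0), [nat_lit 1, nat_lit 4, nat_lit 1, nat_lit 2, nat_lit 3, nat_lit 1])) (.leaf ((nat_lit 6), [nat_lit 4, nat_lit 1, nat_lit 2, nat_lit 1, nat_lit 3, nat_lit 0])))) (.node (nat_lit 16) (.leaf ((nat_lit 3), [nat_lit 1, nat_lit 2, nat_lit 4, nat_lit 0, nat_lit 2, nat_lit 3, nat_lit 1])) (.node (nat_lit 17) (.leaf ((nat_lit 6), [nat_lit 3, nat_lit 1, nat_lit 2, nat_lit 0, nat_lit 3, nat_lit 1, nat_lit 2])) (.leaf ((nat_lit 5), [nat_lit 0, nat_lit 2, nat_lit 1, nat_lit 4, nat_lit 0, nat_lit 2, nat_lit 1])))))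
 (.node (nat_lit 21) (.node (nat_lit 19) (.leaf ((nat_lit 5), [nat_lit 1, nat_lit 4, nat_lit 1, nat_lit 2, nat_lit 1, nat_lit 3, nat_lit 1, nat_lit 2])) (.node (nat_lit 20) (.leaf ((nat_lit 6), [nat_lit 4, nat_lit 1, nat_lit 2, nat_lit 1, nat_lit 3, nat_lit 0, nat_lit 2, nat_lit 0])) (.leaf ((nat_lit 0), [nat_lit 1, nat_lit 4, nat_lit 1, nat_lit 2, nat_lit 3, nat_lit 1, nat_lit 2, nat_lit 0])))) (.node (nat_lit 22) (.leaf ((nat_lit 2), [nat_lit 2, nat_lit 4, nat_lit 0, nat_lit 2, nat_lit 3])) (.node (nat_lit 23) (.leaf ((nat_lit 1), [nat_lit 2, nat_lit 4, nat_lit 1, nat_lit 3, nat_lit 0, nat_lit 2])) (.leaf ((nat_lit 1), [nat_lit 4, nat_lit 2, nat_lit 4, nat_lit 0, nat_lit 2, nat_lit 1])))))))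
 (.node (nat_lit 36) (.node (nat_lit 30) (.node (nat_lit 27) (.node (nat_lit 25) (.leaf ((nat_lit 2), [nat_lit 1, nat_lit 2, nat_lit 1, nat_lit 4, nat_lit 0, nat_lit 2, nat_lit 1, nat_lit 3, nat_lit 0, nat_lit 2, nat_lit 1])) (.node (nat_lit 26) (.leaf ((nat_lit 1), [nat_lit 1, nat_lit 2, nat_lit 4, nat_lit 0, nat_lit 2, nat_lit 3, nat_lit 1])) (.leaf ((nat_lit 7), [nat_lit 0, nat_lit 2, nat_lit 1, nat_lit 4, nat_lit 0, nat_lit 2, nat_lit 3, nat_lit 0, nat_lit 2, nat_lit 1])))) (.node (nat_lit 28) (.leaf ((nat_lit 0), [nat_lit 4, nat_lit 1, nat_lit 4, nat_lit 1, nat_lit 2, nat_lit 3, nat_lit 1])) (.node (nat_lit 29) (.leaf ((nat_lit 0), [nat_lit 2, nat_lit 0, nat_lit 4, nat_lit 0, nat_lit 2, nat_lit 3, nat_lit 2])) (.leaf ((nat_lit 4), [nat_lit 3, nat_lit 1, nat_lit 2, nat_lit 0, nat_lit 3, nat_lit 1, nat_lit 2, nat_lit 0])))))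
 (.node (nat_lit 33) (.node (nat_lit 31) (.leaf ((nat_lit 3), [nat_lit 1, nat_lit 2, nat_lit 4, nat_lit 1, nat_lit 3])) (.node (nat_lit 32) (.leaf ((nat_lit 7), [nat_lit 4, nat_lit 3, nat_lit 1, nat_lit 2, nat_lit 0, nat_lit 3, nat_lit 2, nat_lit 0])) (.leaf ((nat_lit 1), [nat_lit 4, nat_lit 2, nat_lit 4, nat_lit 3, nat_lit 1])))) (.node (nat_lit 34) (.leaf ((nat_lit 7), [nat_lit 0, nat_lit 4, nat_lit 0, nat_lit 2, nat_lit 0, nat_lit 3, nat_lit 1, nat_lit 2, nat_lit 0])) (.node (nat_lit 35) (.leaf ((nat_lit 7), [nat_lit 1, nat_lit 2, nat_lit 1, nat_lit 4, nat_lit 2])) (.leaf ((nat_lit 2), [nat_lit 0, nat_lit 2, nat_lit 1, nat_lit 4, nat_lit 0, nat_lit 2, nat_lit 1]))))))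
 (.node (nat_lit 42) (.node (nat_lit 39) (.node (nat_lit 37) (.leaf ((nat_lit 7), [nat_lit 4, nat_lit 2, nat_lit 4, nat_lit 1, nat_lit 3, nat_lit 0, nat_lit 2, nat_lit 0])) (.node (nat_lit 38) (.leaf ((nat_lit 3), [nat_lit 2, nat_lit 1, nat_lit 4, nat_lit 1, nat_lit 3, nat_lit 1])) (.leaf ((nat_lit 2), [nat_lit 3, nat_lit 4, nat_lit 1, nat_lit 4, nat_lit 2, nat_lit 0, nat_lit 3, nat_lit 1])))) (.node (nat_lit 40) (.leaf ((nat_lit 1), [nat_lit 2, nat_lit 1, nat_lit 4, nat_lit 0, nat_lit 2, nat_lit 0, nat_lit 3, nat_lit 1])) (.node (nat_lit 41) (.leaf ((nat_lit 2), [nat_lit 3, nat_lit 1, nat_lit 2, nat_lit 0, nat_lit 3, nat_lit 1, nat_lit 2])) (.leaf ((nat_lit 6), [nat_lit 1, nat_lit 2, nat_lit 1, nat_lit 4, nat_lit 3, nat_lit 1, nat_lit 2, nat_lit 0, nat_lit 3, nat_lit 0, nat_lit 2, nat_lit 0])))))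
 (.node (nat_lit 45) (.node (nat_lit 43) (.leaf ((nat_lit 6), [nat_lit 4, nat_lit 1, nat_lit 4, nat_lit 1, nat_lit 3, nat_lit 2, nat_lit 0])) (.node (nat_lit 44) (.leaf ((nat_lit 5), [nat_lit 1, nat_lit 2, nat_lit 4, nat_lit 3, nat_lit 1, nat_lit 2, nat_lit 0, nat_lit 3])) (.leaf ((nat_lit 4), [nat_lit 2, nat_lit 1, nat_lit 4, nat_lit 0, nat_lit 2, nat_lit 3, nat_lit 0, nat_lit 2, nat_lit 0])))) (.node (nat_lit 46) (.leaf ((nat_lit 5), [nat_lit 2, nat_lit 0, nat_lit 4, nat_lit 0, nat_lit 2, nat_lit 0, nat_lit 3, nat_lit 0, nat_lit 2, nat_lit 1])) (.node (nat_lit 47) (.leaf ((nat_lit 5), [nat_lit 2, nat_lit 4, nat_lit 0, nat_lit 2, nat_lit 0])) (.leaf ((nat_lit 7), [nat_lit 3, nat_lit 1, nat_lit 2, nat_lit 0, nat_lit 3, nat_lit 2, nat_lit 0]))))))))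
theorem n14q : allR 0 8 (dblChk (nat_lit 4) (nat_lit 15) (MG.gl42L.map Lev.b) MG.gl42T n14T n14Dd (topN MG.gl42L) 8 2 n14PA n14Wd) = true := by decide +kernel
noncomputable def n14Ws : List (List ℕ) := [[]]
noncomputable def n14CE : Tr (ℕ × List ℕ × List (List ℕ)) := (.node (nat_lit 1) (.leaf ((nat_lit 0), [], [])) (.leaf ((nat_lit 15), [nat_lit 1, nat_lit 0, nat_lit 5, nat_lit 2, nat_lit 1, nat_lit 4, nat_lit 3, nat_lit 2, nat_lit 3, nat_lit 2, nat_lit 1, nat_lit 0], [[nat_lit 99, nat_lit 0, nat_lit 2, nat_lit 0], [nat_lit 2, nat_lit 4, nat_lit 2, nat_lit 0]])))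
theorem n14s : allR 0 2 (stepChk (nat_lit 4) (nat_lit 15) (MG.gl42L.map Lev.b) MG.gl42T n14T n14T n14T n14Dd AW [nat_lit 15] n14Ws n14CE) = true := by decide +kernel
noncomputable def n14iI : Tr (List ℕ) := (.node (nat_lit 5) (.node (nat_lit 2) (.node (nat_lit 1) (.leaf [nat_lit 0, nat_lit 2, nat_lit 4, nat_lit 0, nat_lit 2, nat_lit 0]) (.leaf [nat_lit 1, nat_lit 2, nat_lit 1, nat_lit 4, nat_lit 2, nat_lit 1])) (.node (nat_lit 3) (.leaf [nat_lit 3, nat_lit 4, nat_lit 1, nat_lit 4, nat_lit 1, nat_lit 2, nat_lit 1, nat_lit 3, nat_lit 0, nat_lit 2, nat_lit 0]) (.node (nat_lit 4) (.leaf [nat_lit 4, nat_lit 0, nat_lit 3, nat_lit 2, nat_lit 0]) (.leaf [nat_lit 4, nat_lit 2, nat_lit 0, nat_lit 3, nat_lit 1, nat_lit 2]))))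
 (.node (nat_lit 7) (.node (nat_lit 6) (.leaf [nat_lit 3, nat_lit 4, nat_lit 1, nat_lit 4, nat_lit 0, nat_lit 2, nat_lit 1, nat_lit 3, nat_lit 2, nat_lit 1]) (.leaf [nat_lit 1, nat_lit 2, nat_lit 1, nat_lit 4, nat_lit 2, nat_lit 1, nat_lit 3, nat_lit 2])) (.node (nat_lit 8) (.leaf [nat_lit 0, nat_lit 2, nat_lit 4, nat_lit 2, nat_lit 1, nat_lit 3]) (.node (nat_lit 9) (.leaf [nat_lit 0, nat_lit 2, nat_lit 4, nat_lit 2, nat_lit 0, nat_lit 3, nat_lit 0]) (.leaf [nat_lit 1, nat_lit 2, nat_lit 1, nat_lit 4, nat_lit 2, nat_lit 0, nat_lit 3, nat_lit 0, nat_lit 2])))))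
theorem n14ih : Alt.a7R.all (fun w => eqB (n14L.map Lev.b) (apF (fun y => apL (nat_lit 4) (nat_lit 15) n14T (n14iI.get y)) w) fun a => a) = true := by decide +kernel
noncomputable def n14iD : Tr (List ℕ) := (.node (nat_lit 2) (.node (nat_lit 1) (.leaf [nat_lit 0, nat_lit 5, nat_lit 9, nat_lit 7, nat_lit 0, nat_lit 5, nat_lit 0]) (.leaf [nat_lit 4, nat_lit 9, nat_lit 0, nat_lit 3, nat_lit 7, nat_lit 4, nat_lit 3])) (.node (nat_lit 3) (.leaf [nat_lit 6, nat_lit 4, nat_lit 2, nat_lit 1]) (.node (nat_lit 4) (.leaf [nat_lit 7, nat_lit 4, nat_lit 2, nat_lit 0]) (.leaf [nat_lit 8, nat_lit 6, nat_lit 5]))))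
theorem n14is : band (surChk (nat_lit 4) (nat_lit 15) (n14L.map Lev.b) n14T n14iI (topN Alt.a7L) n14iD (topN n14L)) (Nat.ble (chainOrd 7 Alt.a7L) (chainOrd 15 n14L)) = true := by decide +kernel
theorem s14 {G : Type*} [Group G] [Finite G] {X : Type*} [MulAction G X] {pt : ℕ → X} (C : Ch G 15 (nat_lit 4) (nat_lit 15) pt MG.gl42T MG.gl42L) {H : Subgroup G} (h : PJ C.lets.e AW 14 H) :
    ∃ K : Subgroup G, Nonempty (H ≃* K) ∧ (Q K ∨ ∃ j ∈ [nat_lit 15], PJ C.lets.e AW j K) := by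
  obtain ⟨K, e, hK⟩ := h.conj
  refine ⟨K, e, ?_⟩
  obtain ⟨N, D, S⟩ := (C.gen (lets_words C.lets n14E n14w) n14chain n14sd n14tc)
  have le := C.le_AW D hK n14slp n14a
  have hD := lets_words C.lets n14dE n14dw
  refine (C.step D.lets D.lets D.lets hD le_normalizer le_rfl (C.dbl D.lets hD n14q (by decide +kernel)) (Ws := n14Ws) (fun u hu => ⟨[], List.mem_singleton_self _, u, hu, (one_mul u).symm⟩) (by decide +kernel) n14s le).imp_left fun h => ?_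
  rw [le_antisymm h le]
  exact .inr (.inl ⟨7, by norm_num, by norm_num, ((Alt.a7std.isoW D n14ih n14is).map MulEquiv.symm)⟩)
noncomputable def n15t0 : ℕ := (nat_lit 0xa987edcb6543210)
noncomputable def n15t1 : ℕ := (nat_lit 0x9a78debc6543210)
noncomputable def n15t2 : ℕ := (nat_lit 0x87a9cbed6543210)
noncomputable def n15t3 : ℕ := (nat_lit 0x6543a987edcb210)
noncomputable def n15t4 : ℕ := (nat_lit 0x12cba9346578de0)
noncomputable def n15t5 : ℕ := (nat_lit 0x4cd519803be62a7)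
noncomputable def n15T : Tr ℕ := (.node (nat_lit 3) (.node (nat_lit 1) (.leaf n15t0) (.node (nat_lit 2) (.leaf n15t1) (.leaf n15t2))) (.node (nat_lit 4) (.leaf n15t3) (.node (nat_lit 5) (.leaf n15t4) (.leaf n15t5))))
noncomputable def n15R : Tr (List ℕ) := (.node (nat_lit 15) (.node (nat_lit 7) (.node (nat_lit 3) (.node (nat_lit 1) (.leaf [nat_lit 0, nat_lit 2, nat_lit 5, nat_lit 0, nat_lit 5, nat_lit 1, nat_lit 5, nat_lit 0, nat_lit 5]) (.node (nat_lit 2) (.leaf [nat_lit 4, nat_lit 0, nat_lit 4, nat_lit 0, nat_lit 4, nat_lit 0]) (.leaf [nat_lit 3, nat_lit 0, nat_lit 3, nat_lit 0, nat_lit 3, nat_lit 0])))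
 (.node (nat_lit 5) (.node (nat_lit 4) (.leaf [nat_lit 5, nat_lit 0, nat_lit 5, nat_lit 0, nat_lit 5, nat_lit 0, nat_lit 5, nat_lit 0]) (.leaf [nat_lit 0, nat_lit 5, nat_lit 0, nat_lit 3, nat_lit 5, nat_lit 1, nat_lit 5, nat_lit 3, nat_lit 0, nat_lit 5])) (.node (nat_lit 6) (.leaf [nat_lit 0, nat_lit 0]) (.leaf [nat_lit 0, nat_lit 1, nat_lit 0, nat_lit 1]))))
 (.node (nat_lit 11) (.node (nat_lit 9) (.node (nat_lit 8) (.leaf [nat_lit 0, nat_lit 2, nat_lit 0, nat_lit 2]) (.leaf [nat_lit 2, nat_lit 3, nat_lit 1, nat_lit 2, nat_lit 5, nat_lit 0, nat_lit 5, nat_lit 3, nat_lit 2, nat_lit 5])) (.node (nat_lit 10) (.leaf [nat_lit 1, nat_lit 5, nat_lit 1, nat_lit 2, nat_lit 5, nat_lit 2, nat_lit 5, nat_lit 2, nat_lit 1, nat_lit 5]) (.leaf [nat_lit 4, nat_lit 1, nat_lit 4, nat_lit 1, nat_lit 4, nat_lit 1])))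
 (.node (nat_lit 13) (.node (nat_lit 12) (.leaf [nat_lit 1, nat_lit 1]) (.leaf [nat_lit 1, nat_lit 2, nat_lit 1, nat_lit 2])) (.node (nat_lit 14) (.leaf [nat_lit 4, nat_lit 0, nat_lit 2, nat_lit 4, nat_lit 0, nat_lit 2, nat_lit 4, nat_lit 0, nat_lit 2]) (.leaf [nat_lit 3, nat_lit 2, nat_lit 3, nat_lit 2, nat_lit 3, nat_lit 2])))))
 (.node (nat_lit 22) (.node (nat_lit 18) (.node (nat_lit 16) (.leaf [nat_lit 4, nat_lit 2, nat_lit 4, nat_lit 2, nat_lit 4, nat_lit 2, nat_lit 4, nat_lit 2]) (.node (nat_lit 17) (.leaf [nat_lit 2, nat_lit 2]) (.leaf [nat_lit 3, nat_lit 5, nat_lit 1, nat_lit 2, nat_lit 5, nat_lit 3, nat_lit 5, nat_lit 2, nat_lit 1, nat_lit 5])))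
 (.node (nat_lit 20) (.node (nat_lit 19) (.leaf [nat_lit 4, nat_lit 0, nat_lit 4, nat_lit 3, nat_lit 4, nat_lit 0, nat_lit 4, nat_lit 3]) (.leaf [nat_lit 3, nat_lit 1, nat_lit 2, nat_lit 4, nat_lit 1, nat_lit 2, nat_lit 3, nat_lit 4, nat_lit 2, nat_lit 4])) (.node (nat_lit 21) (.leaf [nat_lit 3, nat_lit 3]) (.leaf [nat_lit 3, nat_lit 1, nat_lit 3, nat_lit 1, nat_lit 3, nat_lit 1]))))
 (.node (nat_lit 26) (.node (nat_lit 24) (.node (nat_lit 23) (.leaf [nat_lit 4, nat_lit 4]) (.leaf [nat_lit 4, nat_lit 3, nat_lit 4, nat_lit 3, nat_lit 4, nat_lit 3])) (.node (nat_lit 25) (.leaf [nat_lit 4, nat_lit 1, nat_lit 3, nat_lit 1, nat_lit 4, nat_lit 1, nat_lit 3, nat_lit 1]) (.leaf [nat_lit 1, nat_lit 3, nat_lit 4, nat_lit 3, nat_lit 5, nat_lit 0, nat_lit 2, nat_lit 4, nat_lit 2, nat_lit 0, nat_lit 5])))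
 (.node (nat_lit 28) (.node (nat_lit 27) (.leaf [nat_lit 0, nat_lit 1, nat_lit 3, nat_lit 1, nat_lit 4, nat_lit 0, nat_lit 5, nat_lit 0, nat_lit 4, nat_lit 0, nat_lit 5]) (.leaf [nat_lit 4, nat_lit 1, nat_lit 2, nat_lit 4, nat_lit 1, nat_lit 2, nat_lit 4, nat_lit 1, nat_lit 2])) (.node (nat_lit 29) (.leaf [nat_lit 5, nat_lit 5]) (.leaf [nat_lit 3, nat_lit 0, nat_lit 1, nat_lit 2, nat_lit 3, nat_lit 0, nat_lit 1, nat_lit 2, nat_lit 3, nat_lit 0, nat_lit 1, nat_lit 2]))))))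
noncomputable def n15L0 : Lev := ⟨(nat_lit 0), (nat_lit 6), (nat_lit 0x60302010303020606060504050600), (nat_lit 0x30202020303030104030203030400),
 (.node (nat_lit 3) (.node (nat_lit 1) (.leaf (nat_lit 0xb000200020000000c0003000300010006000200030005000400080000))
 (.node (nat_lit 2) (.leaf (nat_lit 0xd0002000000010003000c0000000100020002000a0007000800040000))
 (.leaf (nat_lit 0xf00000001000100000000000e00010007000300060005000500020000))))
 (.node (nat_lit 4) (.leaf (nat_lit 0x110002000a000100040004000800040010000300090000000500020000))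
 (.node (nat_lit 5) (.leaf (nat_lit 0x1100010009000200070002000a0001001200060000000b000000120000))
 (.leaf (nat_lit 0x60005000100010006000700000000000000010001000900000001))))),
 (.node (nat_lit 3) (.node (nat_lit 1) (.leaf (nat_lit 0x805000702000602000000000501000501000501000501000400000303000105000205000105000003000000))
 (.node (nat_lit 2) (.leaf (nat_lit 0xb00000c02000000000b00000b01000603000000000b01000405000005000a05000005000a05000900000000))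
 (.leaf (nat_lit 0x1000000000001000001000000000000000000c03001001000001000001000f03000e05000d08000905000000))))
 (.node (nat_lit 4) (.leaf (nat_lit 0x1400000807001400001400001502000202001502000e02000807001401001306000000001207001105000000))
 (.node (nat_lit 5) (.leaf (nat_lit 0x1902001600001b03001a08001804001907001200001600001800001702000000001601000000001601000000))
 (.leaf (nat_lit 0x1c00000809001c00001c00000002000300000000000000000000001c01001c01001a0a000000001c01)))))⟩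
noncomputable def n15L1 : Lev := ⟨(nat_lit 1), (nat_lit 5), (nat_lit 0x50203030102030304040405050000), (nat_lit 0x10303030202020402040403040000),
 (.node (nat_lit 2) (.node (nat_lit 1) (.leaf (nat_lit 0x100020004000300000003000500040004000400070007000400000000))
 (.leaf (nat_lit 0x100000002000200010000000300030003000400090005000300000000)))
 (.node (nat_lit 3) (.leaf (nat_lit 0x100010000000000010001000000000007000900040002000500000000))
 (.node (nat_lit 4) (.leaf (nat_lit 0x100010001000300030002000600080000000000000002000400000000))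
 (.leaf (nat_lit 0x10006000400020002000100070002000500080000000000010000))))),
 (.node (nat_lit 2) (.node (nat_lit 1) (.leaf (nat_lit 0x500000600000602000700000000000501000501000501000205000205000205000105000105000000000000))
 (.leaf (nat_lit 0xb00000000000c00000c00000b01000000000b01000b01001505001505001505000a05000a05000000000000)))
 (.node (nat_lit 3) (.leaf (nat_lit 0x1000001000000000000000001001001001000000000000000e05000e05000e05000f03000d08000000000000))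
 (.node (nat_lit 4) (.leaf (nat_lit 0x1400001400001400001400001203001802001502000202000000000000000000001306001207000000000000))
 (.leaf (nat_lit 0x1600000d03001b03000102000a02001600001204001702001702001601000000000000001601000000)))))⟩
noncomputable def n15L2 : Lev := ⟨(nat_lit 3), (nat_lit 4), (nat_lit 0x30302040303020104040400000000), (nat_lit 0x30303010402020204040400000000),
 (.node (nat_lit 2) (.node (nat_lit 1) (.leaf (nat_lit 0x400020002000100050003000300000006000400040000000000000000))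
 (.leaf (nat_lit 0x200020000000100030003000000010004000600030000000000000000)))
 (.node (nat_lit 3) (.leaf (nat_lit 0x1000100000000000100010003000300060000000000000000))
 (.leaf (nat_lit 0x100010001000000050002000200020000000000000001000000000000)))),
 (.node (nat_lit 2) (.node (nat_lit 1) (.leaf (nat_lit 0x602000702000602000500000501000501000501000000000205000205000205000000000000000000000000))
 (.leaf (nat_lit 0xc02000c02000000000b00000b01000b01000000000b01001505001505001505000000000000000000000000)))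
 (.node (nat_lit 3) (.leaf (nat_lit 0x1000001000000000000000001001001001000e05000e05000e05000000000000000000000000))
 (.leaf (nat_lit 0x1400001400001400000000001d04000e02001502000202000000000000000000001401000000000000000000))))⟩
noncomputable def n15L3 : Lev := ⟨(nat_lit 7), (nat_lit 3), (nat_lit 0x30302010303020000000000000000), (nat_lit 0x30101010202020000000000000000),
 (.node (nat_lit 1) (.leaf (nat_lit 0x400020002000000050003000300010000000000000000000000000000))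
 (.node (nat_lit 2) (.leaf (nat_lit 0x200020000000100030003000000010000000000000000000000000000))
 (.leaf (nat_lit 0x1000100000000000100010000000000000000000000000000)))),
 (.node (nat_lit 1) (.leaf (nat_lit 0x602000702000602000000000501000501000501000501000000000000000000000000000000000000000000))
 (.node (nat_lit 2) (.leaf (nat_lit 0xc02000c02000000000b00000b01000b01000000000b01000000000000000000000000000000000000000000))
 (.leaf (nat_lit 0x1000001000000000000000001001001001000000000000000000000000000000000000000000))))⟩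
noncomputable def n15L : List Lev := [n15L0, n15L1, n15L2, n15L3]
noncomputable def n15E : Tr (List ℕ) := (.node (nat_lit 3) (.node (nat_lit 1) (.leaf [nat_lit 3, nat_lit 2, nat_lit 0, nat_lit 3, nat_lit 2, nat_lit 0]) (.node (nat_lit 2) (.leaf [nat_lit 0, nat_lit 3, nat_lit 0]) (.leaf [nat_lit 3, nat_lit 2, nat_lit 3, nat_lit 2]))) (.node (nat_lit 4) (.leaf [nat_lit 3, nat_lit 2, nat_lit 1, nat_lit 4, nat_lit 2, nat_lit 1, nat_lit 3, nat_lit 2, nat_lit 1, nat_lit 0]) (.node (nat_lit 5) (.leaf [nat_lit 1, nat_lit 0, nat_lit 5, nat_lit 2, nat_lit 1, nat_lit 4, nat_lit 0, nat_lit 3, nat_lit 2]) (.leaf [nat_lit 2, nat_lit 1, nat_lit 5, nat_lit 4, nat_lit 2, nat_lit 1, nat_lit 4, nat_lit 0, nat_lit 3, nat_lit 2, nat_lit 1, nat_lit 0]))))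
theorem n15w_0 : n15T.all2 (fun c w => isProd 15 (nat_lit 4) (nat_lit 15) MG.gl42T c w) n15E = true := by decide +kernel
theorem n15w : n15T.all2 (fun c w => isProd 15 (nat_lit 4) (nat_lit 15) MG.gl42T c w) n15E = true := n15w_0
theorem n15lev0 : levChk 15 (nat_lit 4) (nat_lit 15) n15T n15R n15L0 n15L1.N = true := by decide +kernel
theorem n15lev1 : levChk 15 (nat_lit 4) (nat_lit 15) n15T n15R n15L1 n15L2.N = true := by decide +kernel
theorem n15lev2 : levChk 15 (nat_lit 4) (nat_lit 15) n15T n15R n15L2 n15L3.N = true := by decide +kernel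
theorem n15lev3 : levChk 15 (nat_lit 4) (nat_lit 15) n15T n15R n15L3 0 = true := by decide +kernel
theorem n15chain : Chain 15 (nat_lit 4) (nat_lit 15) n15T n15R n15L := chain_cons n15lev0 <| chain_cons n15lev1 <| chain_cons n15lev2 <| chain_one n15lev3
theorem n15sd : band (selChk n15T n15T (topN n15L)) (n15R.all fun w => eqB (MG.gl42L.map Lev.b) (apL (nat_lit 4) (nat_lit 15) n15T w) fun a => a) = true := by decide +kernel
theorem n15tc : tchainChk 15 (nat_lit 4) (nat_lit 15) n15T n15L = true := by decide +kernel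
noncomputable def n15s0 : ℕ := (nat_lit 0x13e824d79b60ac5)
noncomputable def n15s1 : ℕ := (nat_lit 0x76583a94c12b0de)
noncomputable def n15s2 : ℕ := (nat_lit 0xc81526b7409dae3)
noncomputable def n15s3 : ℕ := (nat_lit 0x16398bedc7a452)
noncomputable def n15s4 : ℕ := (nat_lit 0xcb21a9438765ed0)
noncomputable def n15s5 : ℕ := (nat_lit 0x21eda9654387cb0)
noncomputable def n15s6 : ℕ := (nat_lit 0x34bcde5621a9870)
noncomputable def n15s7 : ℕ := (nat_lit 0x9abc432178de650)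
noncomputable def n15s8 : ℕ := (nat_lit 0x563487a9bcde210)
noncomputable def n15s9 : ℕ := (nat_lit 0x345687a9debc210)
noncomputable def n15s10 : ℕ := (nat_lit 0x6543cbed87a9210)
noncomputable def n15s11 : ℕ := (nat_lit 0x87a94365edcb210)
noncomputable def n15s12 : ℕ := (nat_lit 0xcbed87a96543210)
noncomputable def n15s13 : ℕ := (nat_lit 0xbcde789a6543210)
noncomputable def n15s14 : ℕ := (nat_lit 0x789abcde6543210)
noncomputable def n15s15 : ℕ := (nat_lit 0xa987edcb6543210)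
noncomputable def n15s16 : ℕ := (nat_lit 0x9a78debc6543210)
noncomputable def n15s17 : ℕ := (nat_lit 0x87a9cbed6543210)
noncomputable def n15s18 : ℕ := (nat_lit 0x6543a987edcb210)
noncomputable def n15s19 : ℕ := (nat_lit 0x12cba9346578de0)
noncomputable def n15s20 : ℕ := (nat_lit 0x4cd519803be62a7)
noncomputable def n15S : Tr ℕ := (.node (nat_lit 10) (.node (nat_lit 5) (.node (nat_lit 2) (.node (nat_lit 1) (.leaf n15s0) (.leaf n15s1)) (.node (nat_lit 3) (.leaf n15s2) (.node (nat_lit 4) (.leaf n15s3) (.leaf n15s4))))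
 (.node (nat_lit 7) (.node (nat_lit 6) (.leaf n15s5) (.leaf n15s6)) (.node (nat_lit 8) (.leaf n15s7) (.node (nat_lit 9) (.leaf n15s8) (.leaf n15s9)))))
 (.node (nat_lit 15) (.node (nat_lit 12) (.node (nat_lit 11) (.leaf n15s10) (.leaf n15s11)) (.node (nat_lit 13) (.leaf n15s12) (.node (nat_lit 14) (.leaf n15s13) (.leaf n15s14))))
 (.node (nat_lit 18) (.node (nat_lit 16) (.leaf n15s15) (.node (nat_lit 17) (.leaf n15s16) (.leaf n15s17))) (.node (nat_lit 19) (.leaf n15s18) (.node (nat_lit 20) (.leaf n15s19) (.leaf n15s20))))))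
noncomputable def n15D : Tr (List ℕ) := (.node (nat_lit 10) (.node (nat_lit 5) (.node (nat_lit 2) (.node (nat_lit 1) (.leaf []) (.leaf [])) (.node (nat_lit 3) (.leaf [nat_lit 0, nat_lit 0, nat_lit 0, nat_lit 0, nat_lit 0]) (.node (nat_lit 4) (.leaf [nat_lit 1, nat_lit 1, nat_lit 1, nat_lit 1]) (.leaf [nat_lit 0, nat_lit 1, nat_lit 0, nat_lit 3]))))
 (.node (nat_lit 7) (.node (nat_lit 6) (.leaf [nat_lit 1, nat_lit 2, nat_lit 3, nat_lit 2]) (.leaf [nat_lit 0, nat_lit 0, nat_lit 0, nat_lit 0, nat_lit 1, nat_lit 2])) (.node (nat_lit 8) (.leaf [nat_lit 0, nat_lit 3, nat_lit 2, nat_lit 2, nat_lit 2, nat_lit 2]) (.node (nat_lit 9) (.leaf [nat_lit 7, nat_lit 7, nat_lit 5, nat_lit 7, nat_lit 7]) (.leaf [nat_lit 6, nat_lit 6, nat_lit 4, nat_lit 6, nat_lit 6])))))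
 (.node (nat_lit 15) (.node (nat_lit 12) (.node (nat_lit 11) (.leaf [nat_lit 5, nat_lit 6, nat_lit 4, nat_lit 6, nat_lit 6, nat_lit 4]) (.leaf [nat_lit 5, nat_lit 7, nat_lit 7, nat_lit 5, nat_lit 7, nat_lit 4])) (.node (nat_lit 13) (.leaf [nat_lit 11, nat_lit 9, nat_lit 9, nat_lit 10]) (.node (nat_lit 14) (.leaf [nat_lit 9, nat_lit 11, nat_lit 11, nat_lit 11, nat_lit 11, nat_lit 9, nat_lit 11]) (.leaf [nat_lit 8, nat_lit 11, nat_lit 11, nat_lit 8, nat_lit 10, nat_lit 9, nat_lit 11]))))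
 (.node (nat_lit 18) (.node (nat_lit 16) (.leaf [nat_lit 14, nat_lit 13]) (.node (nat_lit 17) (.leaf [nat_lit 14, nat_lit 12]) (.leaf [nat_lit 14, nat_lit 13, nat_lit 12]))) (.node (nat_lit 19) (.leaf [nat_lit 11, nat_lit 14, nat_lit 13, nat_lit 12]) (.node (nat_lit 20) (.leaf [nat_lit 13, nat_lit 5, nat_lit 10, nat_lit 14]) (.leaf [nat_lit 5, nat_lit 2, nat_lit 5, nat_lit 13, nat_lit 5, nat_lit 9, nat_lit 13, nat_lit 12]))))))
theorem n15slp : slpChk 15 (nat_lit 4) (nat_lit 15) n15S n15D 2 19 = true := by decide +kernel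
theorem n15a : band (selChk n15T n15S (2 + 19)) (allB 2 fun j => anyL (AW.get 15) fun w => isProd 15 (nat_lit 4) (nat_lit 15) MG.gl42T (n15S.get j) w) = true := by decide +kernel
noncomputable def n15Dd : Tr ℕ := (.leaf (nat_lit 0xedcba9876543210))
noncomputable def n15dE : Tr (List ℕ) := (.leaf [])
theorem n15dw_0 : n15Dd.all2 (fun c w => isProd 15 (nat_lit 4) (nat_lit 15) MG.gl42T c w) n15dE = true := by decide +kernel
theorem n15dw : n15Dd.all2 (fun c w => isProd 15 (nat_lit 4) (nat_lit 15) MG.gl42T c w) n15dE = true := n15dw_0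
noncomputable def n15PA : Tr (ℕ × List ℕ) := (.leaf ((nat_lit 0), []))
noncomputable def n15Wd : Tr (ℕ × List ℕ) := (.node (nat_lit 3) (.node (nat_lit 1) (.leaf ((nat_lit 0), [nat_lit 4, nat_lit 2, nat_lit 5, nat_lit 2, nat_lit 4, nat_lit 0, nat_lit 3, nat_lit 0])) (.node (nat_lit 2) (.leaf ((nat_lit 0), [nat_lit 1, nat_lit 5, nat_lit 0, nat_lit 4, nat_lit 3, nat_lit 2, nat_lit 1, nat_lit 3, nat_lit 1, nat_lit 0])) (.leaf ((nat_lit 0), [nat_lit 5, nat_lit 3, nat_lit 0, nat_lit 5, nat_lit 3, nat_lit 2, nat_lit 0, nat_lit 4, nat_lit 2, nat_lit 1, nat_lit 3, nat_lit 1, nat_lit 0])))) (.node (nat_lit 4) (.leaf ((nat_lit 0), [nat_lit 2, nat_lit 1, nat_lit 0])) (.node (nat_lit 5) (.leaf ((nat_lit 0), [nat_lit 3, nat_lit 0, nat_lit 5, nat_lit 0, nat_lit 4, nat_lit 3, nat_lit 2])) (.leaf ((nat_lit 0), [nat_lit 5, nat_lit 2, nat_lit 1, nat_lit 5, nat_lit 0, nat_lit 3, nat_lit 0])))))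
theorem n15q : allR 0 1 (dblChk (nat_lit 4) (nat_lit 15) (MG.gl42L.map Lev.b) MG.gl42T n15T n15Dd (topN MG.gl42L) 1 1 n15PA n15Wd) = true := by decide +kernel
noncomputable def n15Ws : List (List ℕ) := [[]]
noncomputable def n15CE : Tr (ℕ × List ℕ × List (List ℕ)) := (.leaf ((nat_lit 0), [], []))
theorem n15s : allR 0 1 (stepChk (nat_lit 4) (nat_lit 15) (MG.gl42L.map Lev.b) MG.gl42T n15T n15T n15T n15Dd AW [] n15Ws n15CE) = true := by decide +kernel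
noncomputable def n15iI : Tr (List ℕ) := (.node (nat_lit 6) (.node (nat_lit 3) (.node (nat_lit 1) (.leaf [nat_lit 1, nat_lit 5, nat_lit 2, nat_lit 0, nat_lit 4, nat_lit 2, nat_lit 1, nat_lit 3, nat_lit 1]) (.node (nat_lit 2) (.leaf [nat_lit 0, nat_lit 5, nat_lit 1, nat_lit 0, nat_lit 4, nat_lit 3, nat_lit 1, nat_lit 0]) (.leaf [nat_lit 1, nat_lit 0, nat_lit 5, nat_lit 1, nat_lit 0, nat_lit 4, nat_lit 3, nat_lit 0]))) (.node (nat_lit 4) (.leaf [nat_lit 5, nat_lit 2, nat_lit 0, nat_lit 4, nat_lit 2, nat_lit 1, nat_lit 3]) (.node (nat_lit 5) (.leaf [nat_lit 5, nat_lit 4, nat_lit 5, nat_lit 4, nat_lit 2, nat_lit 4, nat_lit 3, nat_lit 2, nat_lit 0, nat_lit 3, nat_lit 1, nat_lit 0]) (.leaf [nat_lit 2, nat_lit 5, nat_lit 2, nat_lit 1, nat_lit 4, nat_lit 3, nat_lit 1, nat_lit 0, nat_lit 3, nat_lit 1]))))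
 (.node (nat_lit 9) (.node (nat_lit 7) (.leaf [nat_lit 0, nat_lit 5, nat_lit 2, nat_lit 1, nat_lit 4, nat_lit 3, nat_lit 1, nat_lit 0, nat_lit 3, nat_lit 2, nat_lit 1, nat_lit 0]) (.node (nat_lit 8) (.leaf [nat_lit 1, nat_lit 5, nat_lit 3, nat_lit 4, nat_lit 1, nat_lit 3, nat_lit 1, nat_lit 0]) (.leaf [nat_lit 2, nat_lit 0, nat_lit 5, nat_lit 2, nat_lit 0, nat_lit 4, nat_lit 2, nat_lit 1, nat_lit 3, nat_lit 2, nat_lit 0]))) (.node (nat_lit 10) (.leaf [nat_lit 2, nat_lit 1, nat_lit 5, nat_lit 1, nat_lit 0, nat_lit 4, nat_lit 3, nat_lit 2]) (.node (nat_lit 11) (.leaf [nat_lit 2, nat_lit 5, nat_lit 1, nat_lit 0, nat_lit 4, nat_lit 3, nat_lit 2, nat_lit 1]) (.leaf [nat_lit 5, nat_lit 4, nat_lit 5, nat_lit 3, nat_lit 4, nat_lit 1, nat_lit 3, nat_lit 1, nat_lit 0])))))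
theorem n15ih : Alt.a8R.all (fun w => eqB (n15L.map Lev.b) (apF (fun y => apL (nat_lit 4) (nat_lit 15) n15T (n15iI.get y)) w) fun a => a) = true := by decide +kernel
noncomputable def n15iD : Tr (List ℕ) := (.node (nat_lit 3) (.node (nat_lit 1) (.leaf [nat_lit 3, nat_lit 7, nat_lit 11, nat_lit 1, nat_lit 5, nat_lit 9, nat_lit 3, nat_lit 7, nat_lit 1, nat_lit 5, nat_lit 3, nat_lit 1]) (.node (nat_lit 2) (.leaf [nat_lit 6, nat_lit 11, nat_lit 4, nat_lit 9, nat_lit 6, nat_lit 4, nat_lit 0, nat_lit 3, nat_lit 0]) (.leaf [nat_lit 10, nat_lit 8, nat_lit 2, nat_lit 0]))) (.node (nat_lit 4) (.leaf [nat_lit 6, nat_lit 11, nat_lit 1, nat_lit 5, nat_lit 9, nat_lit 0, nat_lit 3, nat_lit 7, nat_lit 3, nat_lit 0]) (.node (nat_lit 5) (.leaf [nat_lit 11, nat_lit 1, nat_lit 5, nat_lit 9, nat_lit 5, nat_lit 2, nat_lit 1]) (.leaf [nat_lit 7, nat_lit 1, nat_lit 5, nat_lit 0]))))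
theorem n15is : band (surChk (nat_lit 4) (nat_lit 15) (n15L.map Lev.b) n15T n15iI (topN Alt.a8L) n15iD (topN n15L)) (Nat.ble (chainOrd 8 Alt.a8L) (chainOrd 15 n15L)) = true := by decide +kernel
theorem s15 {G : Type*} [Group G] [Finite G] {X : Type*} [MulAction G X] {pt : ℕ → X} (C : Ch G 15 (nat_lit 4) (nat_lit 15) pt MG.gl42T MG.gl42L) {H : Subgroup G} (h : PJ C.lets.e AW 15 H) :
    ∃ K : Subgroup G, Nonempty (H ≃* K) ∧ (Q K ∨ ∃ j ∈ [], PJ C.lets.e AW j K) := by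
  obtain ⟨K, e, hK⟩ := h.conj
  refine ⟨K, e, ?_⟩
  obtain ⟨N, D, S⟩ := (C.gen (lets_words C.lets n15E n15w) n15chain n15sd n15tc)
  have le := C.le_AW D hK n15slp n15a
  have hD := lets_words C.lets n15dE n15dw
  refine (C.step D.lets D.lets D.lets hD le_normalizer le_rfl (C.dbl D.lets hD n15q (by decide +kernel)) (Ws := n15Ws) (fun u hu => ⟨[], List.mem_singleton_self _, u, hu, (one_mul u).symm⟩) (by decide +kernel) n15s le).imp_left fun h => ?_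
  rw [le_antisymm h le]
  exact .inr (.inl ⟨8, by norm_num, by norm_num, ((Alt.a8std.isoW D n15ih n15is).map MulEquiv.symm)⟩)

end H8.LA
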