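import Cfsg.Agent.H8.Leech
import Cfsg.Agent.H8.Core

/-! H8.LeCnt: counting Leech vectors by generating functions. `H8.Le.count`: the number of lattice vectors of norm `N` with
entries in an alphabet `Q` and a condition `P` on the coordinates at `∞`, `0` and the coordinate sum is `cntL Q N P`;
`count'` (all entries allowed). -/

set_option autoImplicit false
set_option linter.all false

noncomputable section
namespace H8.Le
open Cfsg MulAction Finset
open H7 hiding band bor

theorem dig_sum {α : Type*} (S : Finset α) (e : α → ℕ) (B n : ℕ) (hS : S.card < B) :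
    (∑ x ∈ S, B ^ e x) / B ^ n % B = (S.filter fun x => e x = n).card := by
  have hB : 0 < B := by omega
  have h1 : ∑ x ∈ S.filter (fun x => e x < n), B ^ e x < B ^ n := by
    rcases n with _ | n
    · simp
    calc _ ≤ (S.filter fun x => e x < n + 1).card • B ^ n := sum_le_card_nsmul _ _ _ fun x hx =>
          Nat.pow_le_pow_right hB (Nat.lt_succ_iff.1 (Finset.mem_filter.1 hx).2)
      _ < B * B ^ n := Nat.mul_lt_mul_of_pos_right ((card_filter_le _ _).trans_lt hS) (pow_pos hB n)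
      _ = _ := by ring
  have h2 : ∑ x ∈ S, B ^ e x = ∑ x ∈ S.filter (fun x => e x < n), B ^ e x + B ^ n *
      ((S.filter fun x => e x = n).card + B * ∑ x ∈ S.filter (fun x => n < e x), B ^ (e x - n - 1)) := by
    rw [card_filter, mul_sum, sum_filter, sum_filter, ← sum_add_distrib, mul_sum, ← sum_add_distrib]
    refine sum_congr rfl fun x _ => ?_
    rcases lt_trichotomy (e x) n with h | h | h
    · simp [h, h.ne, h.not_gt]
    · simp [h]
    · simp only [h, h.ne', h.not_gt, if_true, if_false, zero_add]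
      rw [← pow_succ', ← pow_add]; congr 1; omega
  rw [h2, Nat.add_mul_div_left _ _ (pow_pos hB n), Nat.div_eq_of_lt h1, zero_add, Nat.add_mul_mod_self_left,
    Nat.mod_eq_of_lt ((card_filter_le _ _).trans_lt hS)]

def sumN (n : ℕ) (f : ℕ → ℕ) : ℕ := Nat.rec 0 (fun i r => Nat.add (f i) r) n

theorem sumN_eq (n : ℕ) (f : ℕ → ℕ) : sumN n f = ∑ i ∈ range n, f i := by
  induction n with
  | zero => rfl
  | succ n ih => rw [sum_range_succ_comm, ← ih]; rfl

theorem ite'_eq {α : Type} (b : Bool) (x y : α) : ite' b x y = if b = true then x else y := by cases b <;> rfl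

def ed (d : ℕ) : ℕ := 512 * ((d - 8) * (d - 8) + (8 - d) * (8 - d)) + d

theorem ed_eq (d : ℕ) : (ed d : ℤ) = 512 * ((d : ℤ) - 8) ^ 2 + d := by
  unfold ed
  rcases le_total d 8 with h | h
  · rw [Nat.sub_eq_zero_of_le h]; push_cast [h]; ring
  · rw [Nat.sub_eq_zero_of_le h]; push_cast [h]; ring

def okD (Q : ℕ → Bool) (r d : ℕ) : Bool := band (Nat.beq (d % 4) r) (Q d)
def AQ (Q : ℕ → Bool) (r : ℕ) : Finset ℕ := (range 17).filter fun d => okD Q r d = true
def gf (Q : ℕ → Bool) (r : ℕ) : ℕ := sumN 17 fun d => ite' (okD Q r d) (Nat.shiftLeft 1 (56 * ed d)) 0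
def powM (f M r k : ℕ) : ℕ := Nat.rec r (fun _ s => frc s fun s => Nat.mod (Nat.mul s f) M) k

theorem gf_eq (Q : ℕ → Bool) (r : ℕ) : gf Q r = ∑ d ∈ AQ Q r, (2 ^ 56) ^ ed d := by
  rw [gf, sumN_eq, AQ, sum_filter]
  refine sum_congr rfl fun d _ => ?_
  rw [ite'_eq, ← pow_mul, ← Nat.one_shiftLeft]; rfl

theorem powM_eq (f M r k : ℕ) : powM f M r k ≡ r * f ^ k [MOD M] := by
  induction k with
  | zero => simp [powM]; rfl
  | succ k ih =>
    have : powM f M r (k + 1) = frc (powM f M r k) fun s => s * f % M := rfl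
    rw [this, frc_eq, pow_succ, ← mul_assoc]
    exact (Nat.mod_modEq _ _).trans (ih.mul_right _)

theorem card_AQ (Q : ℕ → Bool) (r : ℕ) : (AQ Q r).card ≤ 5 := by
  have : ∀ r < 4, ((range 17).filter fun d => d % 4 = r).card ≤ 5 := by decide
  refine le_trans (card_le_card fun d hd => ?_) (this (r % 4) (Nat.mod_lt _ (by norm_num)))
  simp only [AQ, okD, Finset.mem_filter, band_eq_true, Nat.beq_eq] at *
  exact ⟨hd.1, by omega⟩

def FT (Q : ℕ → Bool) (N : ℕ) (P : ℤ → ℤ → ℤ → Bool) (m t : ℕ) : ℕ :=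
  frc (Nat.shiftLeft 1 (56 * (512 * (N + 1)))) fun M => frc (gf Q m) fun f0 => frc (gf Q (m + 2)) fun f2 =>
  frc (powM f0 M (powM f2 M 1 (t / 4)) (22 - t / 4)) fun G =>
  sumN 17 fun a => ite' (okD Q (m + 2 * (t / 2 % 2)) a) (sumN 17 fun b => ite' (okD Q (m + 2 * (t % 2)) b)
    (frc (Nat.shiftRight (Nat.shiftLeft G (56 * (ed a + ed b))) (56 * (512 * N)) % Nat.shiftLeft 1 (56 * 512))
      fun H => sumN 512 fun s => ite' (band (Nat.beq (s % 8) (4 * m)) (P (a - 8) (b - 8) (s - 192)))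
      (Nat.shiftRight H (56 * s) % 72057594037927936) 0) 0) 0

def ty (j : ℕ) : ℕ := 4 * pc24 (enc j &&& 8388606) + 2 * ((enc j).testBit 23).toNat + ((enc j).testBit 0).toNat

def NT : ℕ := sumN 4096 fun j => Nat.pow 8192 (ty j)

def cntL (Q : ℕ → Bool) (N : ℕ) (P : ℤ → ℤ → ℤ → Bool) : ℕ :=
  frc NT fun nt => sumN 2 fun m => sumN 92 fun t => frc (nt / 8192 ^ t % 8192) fun n =>
    ite' (Nat.beq n 0) 0 (n * FT Q N P m t)

theorem dig_mod (X Y B T n s : ℕ) (hB : 0 < B) (h : X ≡ Y [MOD B ^ (n + T)]) (hs : s < T) :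
    X / B ^ n % B ^ T / B ^ s % B = Y / B ^ (n + s) % B := by
  obtain ⟨k, rfl⟩ : ∃ k, T = s + (k + 1) := ⟨T - s - 1, by omega⟩
  rw [← Nat.mod_mul_right_div_self X, ← pow_add, h, pow_add, Nat.mod_mul_right_div_self, pow_add,
    Nat.mod_mul_right_div_self, Nat.mod_mod_of_dvd _ (dvd_pow_self B (by omega)), Nat.div_div_eq_div_mul, pow_add]

theorem shl_eq (G w k : ℕ) : Nat.shiftLeft G (w * k) = G * (2 ^ w) ^ k := by
  rw [← pow_mul, ← Nat.shiftLeft_eq]; rfl
theorem shr_eq (G w k : ℕ) : Nat.shiftRight G (w * k) = G / (2 ^ w) ^ k := by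
  rw [← pow_mul, ← Nat.shiftRight_eq_div_pow]; rfl

theorem ty_facts : ∀ j < 4096, ty j < 92 ∧ ty j / 4 = pc24 (enc j &&& 8388606) ∧
    ty j / 2 % 2 = ((enc j).testBit 23).toNat ∧ ty j % 2 = ((enc j).testBit 0).toNat := fun j _ => by
  have h1 : pc24 (enc j &&& 8388606) ≤ 22 := by
    rw [← card_fs, show 22 = (fs 8388606).card by decide +kernel, fs, gC.fs_and]
    exact card_le_card inter_subset_right
  have h2 := Bool.toNat_le ((enc j).testBit 23)
  have h3 := Bool.toNat_le ((enc j).testBit 0)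
  unfold ty
  omega

def AF (Q : ℕ → Bool) (m j : ℕ) (i : GolayPt) : Finset ℕ := AQ Q (m + if i ∈ fs (enc j) then 2 else 0)

def FS (Q : ℕ → Bool) (N : ℕ) (P : ℤ → ℤ → ℤ → Bool) (m j : ℕ) : Finset (GolayPt → ℕ) :=
  (Fintype.piFinset (AF Q m j)).filter fun y => ∑ i, ((y i : ℤ) - 8) ^ 2 = (N : ℤ) ∧ (∑ i, y i) % 8 = 4 * m ∧
    P (y none - 8) (y (some 0) - 8) ((∑ i, y i : ℕ) - 192) = true

theorem AQ_lt {Q : ℕ → Bool} {r d : ℕ} (h : d ∈ AQ Q r) : d ≤ 16 :=
  Nat.lt_succ_iff.1 (mem_range.1 (Finset.mem_filter.1 h).1)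

theorem sum_le_384 {y : GolayPt → ℕ} (h : ∀ i, y i ≤ 16) : ∑ i, y i ≤ 384 := by
  have := sum_le_card_nsmul univ y 16 fun i _ => h i
  rwa [card_pt'] at this

theorem card_FS (Q : ℕ → Bool) (N : ℕ) (P : ℤ → ℤ → ℤ → Bool) (m j : ℕ) (hj : j < 4096) :
    (FS Q N P m j).card = FT Q N P m (ty j) := by
  obtain ⟨-, t1, t2, t3⟩ := ty_facts j hj
  have r1 : AF Q m j none = AQ Q (m + 2 * (ty j / 2 % 2)) := by
    rw [AF, t2]; congr 2
    simp only [gC.mem_fs, show gC.code none = 23 from rfl]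
    cases (enc j).testBit 23 <;> rfl
  have r2 : AF Q m j (some 0) = AQ Q (m + 2 * (ty j % 2)) := by
    rw [AF, t3]; congr 2
    simp only [gC.mem_fs, show gC.code (some 0) = 0 from rfl]
    cases (enc j).testBit 0 <;> rfl
  rw [card_eq_sum_card_fiberwise (f := fun y => (y none, y (some 0), ∑ i, y i))
    (t := AF Q m j none ×ˢ AF Q m j (some 0) ×ˢ range 512) fun y hy => by
      have := Fintype.mem_piFinset.1 (Finset.mem_filter.1 (mem_coe.1 hy)).1
      have h := sum_le_384 fun i => AQ_lt (this i)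
      simp only [coe_product, Set.mem_prod, mem_coe, mem_range]
      exact ⟨this _, this _, by omega⟩]
  simp only [FT, frc_eq, sumN_eq, ite'_eq, sum_product, ← sum_filter]
  rw [r1, r2]
  refine sum_congr rfl fun a ha => sum_congr rfl fun b hb => ?_
  rw [sum_filter]
  refine sum_congr rfl fun s hs => ?_
  let A' : GolayPt → Finset ℕ := fun i => if i = none then {a} else if i = some 0 then {b} else AF Q m j i
  have hp : ∑ y ∈ Fintype.piFinset A', (2 ^ 56) ^ (∑ i, ed (y i)) =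
      gf Q (m + 2) ^ (ty j / 4) * gf Q m ^ (22 - ty j / 4) * (2 ^ 56) ^ (ed a + ed b) := by
    simp only [← prod_pow_eq_pow_sum]
    rw [← prod_univ_sum A' fun _ d => (2 ^ 56) ^ ed d, show (univ : Finset GolayPt) = insert none (insert (some 0) (fs 8388606)) by decide +kernel,
      prod_insert (by decide +kernel), prod_insert (by decide +kernel),
      prod_congr rfl (g := fun i => if i ∈ fs (enc j) then gf Q (m + 2) else gf Q m) fun i hi => ?_]
    · have c1 : ((fs 8388606).filter fun i => i ∈ fs (enc j)).card = ty j / 4 := by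
        rw [t1, ← card_fs, filter_mem_eq_inter, inter_comm, ← gC.fs_and]
      have c2 := card_filter_add_card_filter_not (s := fs 8388606) fun i => i ∈ fs (enc j)
      rw [c1, show (fs 8388606).card = 22 by decide +kernel] at c2
      rw [prod_ite, prod_const, prod_const, c1, show 22 - ty j / 4 = _ from (Nat.eq_sub_of_add_eq' c2).symm]
      simp [A', pow_add]; ring
    · have : i ≠ none ∧ i ≠ some 0 := by revert i; decide +kernel
      simp only [A', this.1, this.2, if_false, AF]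
      split_ifs <;> simp [gf_eq]
  have hc : (Fintype.piFinset A').card < 2 ^ 56 := by
    rw [Fintype.card_piFinset]
    refine (prod_le_pow_card _ _ 5 fun i _ => ?_).trans_lt (by rw [card_pt']; norm_num)
    simp only [A']
    split_ifs
    exacts [by simp, by simp, card_AQ _ _]
  have hd := dig_sum _ (fun y => ∑ i, ed (y i)) _ (512 * N + s) hc
  rw [hp] at hd
  have he : ∀ G k, Nat.shiftRight (Nat.shiftLeft G (56 * k)) (56 * (512 * N)) % Nat.shiftLeft 1 (56 * 512) =
      G * (2 ^ 56) ^ k / (2 ^ 56) ^ (512 * N) % (2 ^ 56) ^ 512 := fun G k => by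
    rw [shl_eq, shl_eq, shr_eq, one_mul]
  have he2 : ∀ H, Nat.shiftRight H (56 * s) % 72057594037927936 = H / (2 ^ 56) ^ s % 2 ^ 56 := fun H => by
    rw [shr_eq]; rfl
  have he3 : Nat.shiftLeft 1 (56 * (512 * (N + 1))) = (2 ^ 56) ^ (512 * N + 512) := by
    rw [shl_eq, one_mul, mul_add_one]
  rw [he, he2, he3, dig_mod _ _ _ _ _ _ (by norm_num) (((powM_eq _ _ _ _).trans
    ((powM_eq _ _ _ _).mul_right _)).mul_right _) (mem_range.1 hs), one_mul, hd]
  have key : ∀ y : GolayPt → ℕ, (y ∈ FS Q N P m j ∧ (y none, y (some 0), ∑ i, y i) = (a, b, s)) ↔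
      (band (Nat.beq (s % 8) (4 * m)) (P (a - 8) (b - 8) (s - 192)) = true ∧
        y ∈ Fintype.piFinset A' ∧ ∑ i, ed (y i) = 512 * N + s) := fun y => by
    have e : ((∑ i, ed (y i) : ℕ) : ℤ) = 512 * ∑ i, ((y i : ℤ) - 8) ^ 2 + (∑ i, y i : ℕ) := by
      simp only [Nat.cast_sum, ed_eq, sum_add_distrib, mul_sum]
    simp only [FS, Finset.mem_filter, Fintype.mem_piFinset, Prod.mk.injEq, band_eq_true, Nat.beq_eq]
    constructor
    · rintro ⟨⟨h1, h2, h3, h4⟩, rfl, rfl, rfl⟩
      refine ⟨⟨h3, h4⟩, fun i => ?_, by omega⟩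
      simp only [A']
      split_ifs with c1 c2
      exacts [by simp [c1], by simp [c2], h1 i]
    · rintro ⟨⟨h1, h2⟩, h3, h4⟩
      have a1 : y none = a := by simpa [A'] using h3 none
      have a2 : y (some 0) = b := by simpa [A'] using h3 (some 0)
      have a3 : ∀ i, y i ∈ AF Q m j i := fun i => by
        have := h3 i
        simp only [A'] at this
        split_ifs at this with c1 c2
        exacts [by rw [c1, a1, r1]; exact ha, by rw [c2, a2, r2]; exact hb, this]
      have a4 := sum_le_384 fun i => AQ_lt (a3 i)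
      have a5 := mem_range.1 hs
      have a6 : ∑ i, y i = s := by omega
      rw [a1, a2, a6]
      exact ⟨⟨a3, by omega, h1, h2⟩, rfl, rfl, rfl⟩
  split_ifs with hcond
  · refine congrArg card (Finset.ext fun y => ?_)
    rw [Finset.mem_filter, Finset.mem_filter, key]
    exact and_iff_right hcond
  · rw [card_eq_zero, filter_eq_empty_iff]
    exact fun y hy h => hcond ((key y).1 ⟨hy, h⟩).1

theorem count (Q : ℕ → Bool) (N : ℕ) (P : ℤ → ℤ → ℤ → Bool) :
    {x : V | x ∈ Λ ∧ sqNorm x = N ∧ (∀ i, ∃ d < 17, Q d = true ∧ x i = (d : ℤ) - 8) ∧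
      P (x none) (x (some 0)) (∑ i, x i) = true}.ncard = cntL Q N P := by
  have hs : ∀ y : GolayPt → ℕ, ∑ i, ((y i : ℤ) - 8) = (∑ i, y i : ℕ) - 192 := fun y => by
    simp only [sum_sub_distrib, sum_const, card_pt', Nat.cast_sum]; rfl
  have hA : ∀ m j i d, d ∈ AF Q m j i ↔ d < 17 ∧ d % 4 = m + (if i ∈ fs (enc j) then 2 else 0) ∧ Q d = true :=
    fun m j i d => by simp only [AF, AQ, okD, Finset.mem_filter, mem_range, band_eq_true, Nat.beq_eq]
  have e : {x : V | x ∈ Λ ∧ sqNorm x = N ∧ (∀ i, ∃ d < 17, Q d = true ∧ x i = (d : ℤ) - 8) ∧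
      P (x none) (x (some 0)) (∑ i, x i) = true} = (fun z : (Σ _ : ℕ × ℕ, GolayPt → ℕ) => fun i => (z.2 i : ℤ) - 8) ''
      ((range 2 ×ˢ range 4096).sigma fun p => FS Q N P p.1 p.2 : Finset _) := by
    ext x
    simp only [Set.mem_setOf_eq, Set.mem_image, mem_coe, mem_sigma, mem_product, mem_range, FS, Finset.mem_filter,
      Fintype.mem_piFinset, hA]
    constructor
    · rintro ⟨h1, h2, h3, h4⟩
      choose y y1 y2 y3 using h3
      obtain rfl : x = fun i => (y i : ℤ) - 8 := funext y3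
      obtain ⟨m, hm, c, hc, a1, a2⟩ := mem_iff'.1 h1
      obtain ⟨j, hj, rfl⟩ := mem_supp_iff.1 hc
      lift m to ℕ using by omega
      rw [hs] at a2 h4
      refine ⟨⟨(m, j), y⟩, ⟨⟨by simp only; omega, hj⟩, fun i => ⟨y1 i, ?_, y2 i⟩, h2, by simp only; omega, h4⟩, rfl⟩
      have := a1 i
      simp only at this ⊢
      split_ifs at * <;> omega
    · rintro ⟨⟨⟨m, j⟩, y⟩, ⟨⟨hm, hj⟩, h1, h2, h3, h4⟩, rfl⟩
      simp only at *
      refine ⟨mem_iff'.2 ⟨m, by omega, _, mem_supp_iff.2 ⟨j, hj, rfl⟩, fun i => ?_, by rw [hs]; omega⟩, h2,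
        fun i => ⟨_, (h1 i).1, (h1 i).2.2, rfl⟩, by rw [hs]; exact h4⟩
      have := (h1 i).2.1
      split_ifs at * <;> omega
  rw [e, Set.ncard_image_of_injOn, Set.ncard_coe_finset, card_sigma, sum_product, cntL, frc_eq, sumN_eq]
  · refine sum_congr rfl fun m _ => ?_
    rw [sum_congr rfl fun j hj => card_FS Q N P m j (mem_range.1 hj), sumN_eq,
      ← sum_fiberwise_of_maps_to (g := ty) (t := range 92) fun j hj => mem_range.2 (ty_facts j (mem_range.1 hj)).1]
    refine sum_congr rfl fun t _ => ?_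
    rw [sum_congr rfl (g := fun _ => FT Q N P m t) fun j hj => by rw [(Finset.mem_filter.1 hj).2], sum_const,
      frc_eq, NT, sumN_eq, ← dig_sum _ ty 8192 t (by rw [card_range]; norm_num), ite'_eq, smul_eq_mul]
    simp only [Nat.pow_eq, Nat.beq_eq]
    generalize (∑ x ∈ range 4096, 8192 ^ ty x) / 8192 ^ t % 8192 = n
    split_ifs with h
    · rw [h, zero_mul]
    · rfl
  · rintro ⟨⟨m, j⟩, y⟩ h ⟨⟨m', j'⟩, y'⟩ h' e
    obtain rfl : y = y' := funext fun i => by have := congrFun e i; simp only at this; omega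
    simp only [mem_coe, mem_sigma, mem_product, mem_range, FS, Finset.mem_filter, Fintype.mem_piFinset, hA] at h h'
    have a : ∀ i, m = m' ∧ (i ∈ fs (enc j) ↔ i ∈ fs (enc j')) := fun i => by
      have a1 := (h.2.1 i).2.1
      have a2 := (h'.2.1 i).2.1
      have := h.1.1
      have := h'.1.1
      split_ifs at a1 a2 <;> simp only [*, iff_self, and_true, iff_true, iff_false, true_iff, false_iff] <;> omega
    obtain rfl := (a none).1
    obtain rfl : j = j' := enc_inj j h.1.2 j' h'.1.2 (Finset.ext fun i => (a i).2)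
    rfl

theorem count' (k N : ℕ) (hk : N < (k + 1) ^ 2) (hk8 : k ≤ 8) (P : ℤ → ℤ → ℤ → Bool) :
    {x : V | x ∈ Λ ∧ sqNorm x = N ∧ P (x none) (x (some 0)) (∑ i, x i) = true}.ncard =
      cntL (fun d => band (Nat.ble (8 - k) d) (Nat.ble d (8 + k))) N P := by
  rw [← count]
  congr 1
  ext x
  refine ⟨fun h => ⟨h.1, h.2.1, fun i => ?_, h.2.2⟩, fun h => ⟨h.1, h.2.1, h.2.2.2⟩⟩
  have a := sq_le_norm x i
  rw [h.2.1] at a
  have b : x i ^ 2 < ((k : ℤ) + 1) ^ 2 := a.trans_lt (by exact_mod_cast hk)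
  have c := abs_lt.1 (abs_lt_of_sq_lt_sq b (by positivity))
  refine ⟨(x i + 8).toNat, by omega, ?_, by omega⟩
  simp only [band_eq_true, Nat.ble_eq]; omega

theorem n4 : {x : V | x ∈ Λ ∧ sqNorm x = 32}.ncard = 196560 := by
  simpa using (count' 5 32 (by norm_num) (by norm_num) fun _ _ _ => true).trans
    (show _ = 196560 by decide +kernel)
theorem n6 : {x : V | x ∈ Λ ∧ sqNorm x = 48}.ncard = 16773120 := by
  simpa using (count' 6 48 (by norm_num) (by norm_num) fun _ _ _ => true).trans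
    (show _ = 16773120 by decide +kernel)
theorem n8 : {x : V | x ∈ Λ ∧ sqNorm x = 64}.ncard = 398034000 := by
  simpa using (count' 8 64 (by norm_num) (by norm_num) fun _ _ _ => true).trans
    (show _ = 398034000 by decide +kernel)

end H8.Le
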