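import Cfsg.Agent.H8.LeMat
import Cfsg.Agent.H8.HoltD
import Cfsg.Agent.H7.M24Fam

/-! H8.LeGrp: subgroups of `Co0`. `Fix c F` (pointwise stabiliser of packed vectors), `model_iso` (identification with a
permutation model on pairs `{x, s - x}`), `orbit_ge` (lower bound for orbits by a tree), `cnt32` (counting minimal vectors),
`card_le_mono` (bounds for monomial subgroups), `ub_E`, `ub_uu`, `ub_vE`, `ub_vuu`, `orbit_eq`, `stab_conj`. -/

set_option autoImplicit false
set_option linter.all false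

noncomputable section
namespace H8.Le
open Cfsg MulAction Finset
open H7 hiding band bor allL allL_iff
open scoped Pointwise

open Classical in
def vL (H j : ℕ) : Λ := if h : vec H j ∈ Λ then ⟨_, h⟩ else 0

theorem vL_coe {H j : ℕ} (h : vec H j ∈ Λ) : (vL H j : V) = vec H j := by rw [vL, dif_pos h]

/-- the first `c` vectors of `H` are short lattice vectors -/
def Good (c H : ℕ) : Prop := ∀ j < c, vec H j ∈ Λ ∧ sqNorm (vec H j) ≤ 64

theorem good_of {c H N : ℕ} {P : ℤ → ℤ → ℤ → Bool} (hN : N ≤ 64) (h : allR 0 c (vchk H N P) = true) : Good c H :=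
  fun j hj => by
    have := vchk_spec hN (allR_iff.1 h j (Nat.zero_le _) (by omega))
    exact ⟨this.1, by rw [this.2.1]; exact_mod_cast hN⟩

def gdChk (c H : ℕ) : Bool := allB c fun j => bor (vchk H 32 pT j) (bor (vchk H 48 pT j) (vchk H 64 pT j))

theorem good_of' {c H : ℕ} (h : gdChk c H = true) : Good c H := fun j hj => by
  have := allB_iff.1 h j hj
  simp only [bor_eq_true] at this
  rcases this with h | h | h <;> have := vchk_spec (by norm_num) h <;> exact ⟨this.1, by rw [this.2.1]; norm_num⟩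

theorem Good.mul {c H G : ℕ} (h : Good c H) {g : Co0} (hG : Cd G g) :
    ∀ j < c, ((g • vL H j : Λ) : V) = vec (mul c G H) j :=
  mul_vec hG _ (fun j hj => vL_coe (h j hj).1) fun j hj => by rw [vL_coe (h j hj).1]; exact (h j hj).2

def Fix (c F : ℕ) : Subgroup Co0 := ⨅ j < c, stabilizer Co0 (vL F j)

theorem mem_Fix {c F : ℕ} {g : Co0} : g ∈ Fix c F ↔ ∀ j < c, g • vL F j = vL F j := by
  simp only [Fix, Subgroup.mem_iInf, mem_stabilizer_iff]

def fxChk (c F G : ℕ) : Bool := band (coChk G) (Nat.beq (mul c G F) F)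

theorem fxChk_spec {c F G : ℕ} (hF : Good c F) (h : fxChk c F G = true) : ∃ g ∈ Fix c F, Cd G g := by
  rw [fxChk, band_eq_true, Nat.beq_eq] at h
  obtain ⟨g, hg⟩ := exists_cd h.1
  exact ⟨g, mem_Fix.2 fun j hj => Subtype.ext (by rw [hF.mul hg j hj, h.2, vL_coe (hF j hj).1]), hg⟩

def lnR (n k m H F G c lo len : ℕ) : Bool := frc (mul n G H) fun Y => frc (col F 0 + 8 * OB) fun S =>
  allR lo len fun a => frc (ap k m c a) fun b => band (Nat.ble (Nat.succ b) n)
    (frc (col Y a) fun y => frc (col H b) fun z => bor (Nat.beq y z) (Nat.beq (Nat.add y z) S))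

theorem lnR_add {n k m H F G c lo l l' : ℕ} (h : lnR n k m H F G c lo l = true)
    (h' : lnR n k m H F G c (lo + l) l' = true) : lnR n k m H F G c lo (l + l') = true := by
  simp only [lnR, frc_eq] at *; exact allR_add h h'

def srtR (n H lo len : ℕ) : Bool := allR lo len fun a =>
  bor (Nat.beq (Nat.succ a) n) (Nat.ble (Nat.succ (col H a)) (col H (Nat.succ a)))

theorem srt_inj {n H : ℕ} (h : srtR n H 0 n = true) {a b : ℕ} (ha : a < n) (hb : b < n)
    (e : vec H a = vec H b) : a = b := by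
  have key : ∀ a d, a + d + 1 < n → col H a < col H (a + d + 1) := fun a d => by
    have st : ∀ a, a + 1 < n → col H a < col H (a + 1) := fun a ha => by
      have := allR_iff.1 h a (Nat.zero_le _) (by omega)
      simp only [bor_eq_true, Nat.beq_eq, Nat.ble_eq] at this
      exact this.resolve_left (by omega)
    induction d with
    | zero => exact st a
    | succ d ih => exact fun hd => (ih (by omega)).trans (st _ hd)
  have := col_of_vec e
  rcases lt_trichotomy a b with h | h | h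
  · have := key a (b - a - 1) (by omega)
    rw [show a + (b - a - 1) + 1 = b by omega] at this; omega
  · exact h
  · have := key b (a - b - 1) (by omega)
    rw [show b + (a - b - 1) + 1 = a by omega] at this; omega

def hlfR (H F lo len : ℕ) : Bool := frc (col F 0 + 8 * OB) fun S => allR lo len fun a =>
  Nat.ble (Nat.succ (Nat.mul 2 (col H a))) S

/-- the pairs `{x, s - x}` -/
def lpt (H F a : ℕ) : Set Λ := {vL H a, vL F 0 - vL H a}

theorem lpt_inj {n H c F : ℕ} (hH : Good n H) (hF : Good c F) (hc : 0 < c) (h1 : srtR n H 0 n = true)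
    (h2 : hlfR H F 0 n = true) : ∀ a < n, ∀ b < n, lpt H F a = lpt H F b → a = b := fun a ha b hb e => by
  have : vL H a ∈ lpt H F b := e ▸ Or.inl rfl
  rcases this with h | h
  · exact srt_inj h1 ha hb (by rw [← vL_coe (hH a ha).1, h, vL_coe (hH b hb).1])
  · have e := col_of_add (H := H) (j := a) (K := H) (l := b) (S := F) (s := 0) (by
      rw [← vL_coe (hH a ha).1, ← vL_coe (hH b hb).1, ← vL_coe (hF 0 hc).1, Set.mem_singleton_iff.1 h]; simp)
    simp only [hlfR, frc_eq, allR_iff, Nat.ble_eq, Nat.mul_eq] at h2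
    have := h2 a (Nat.zero_le _) (by omega)
    have := h2 b (Nat.zero_le _) (by omega)
    omega

theorem rep_lpt {n k m H c F G t : ℕ} (hH : Good n H) (hF : Good c F) (hc : 0 < c) {g : Co0} (hg : g ∈ Fix c F)
    (hG : Cd G g) (h : lnR n k m H F G t 0 n = true) : Rep n k m (lpt H F) t g := fun a ha => by
  simp only [lnR, frc_eq, allR_iff, band_eq_true, bor_eq_true, Nat.ble_eq, Nat.beq_eq, Nat.add_eq] at h
  obtain ⟨h1, h2⟩ := h a (Nat.zero_le _) (by omega)
  refine ⟨h1, ?_⟩
  have e := hH.mul hG a ha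
  rw [lpt, lpt, Set.smul_set_insert, Set.smul_set_singleton, smul_sub', mem_Fix.1 hg 0 hc]
  rcases h2 with h2 | h2
  · rw [show g • vL H a = vL H (ap k m t a) from Subtype.ext (by rw [e, vec_of_col h2, vL_coe (hH _ h1).1])]
  · rw [show g • vL H a = vL F 0 - vL H (ap k m t a) from Subtype.ext (by
      rw [e, AddSubgroup.coe_sub, vL_coe (hH _ h1).1, vL_coe (hF 0 hc).1, ← add_of_col h2]; simp),
      sub_sub_cancel, Set.pair_comm]

theorem model_iso {n k m H c F N0 : ℕ} [NeZero n] {G0 MS : Tr ℕ} (h0 : genChk n k m G0 N0 = true)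
    (hH : Good n H) (hF : Good c F) (hc : 0 < c) (h1 : srtR n H 0 n = true) (h2 : hlfR H F 0 n = true)
    (h3 : ∀ j < N0, fxChk c F (MS.get j) = true ∧ lnR n k m H F (MS.get j) (G0.get j) 0 n = true)
    (K : Subgroup Co0) (hK : Fix c F ≤ K) (hc' : Nat.card K ≤ Nat.card (PG n k m G0 N0)) :
    Nonempty (K ≃* PG n k m G0 N0) :=
  iso_of_card' (pt := lpt H F) h0 (lpt_inj hH hF hc h1 h2) (fun j hj => by
    obtain ⟨g, hg, hG⟩ := fxChk_spec hF (h3 j hj).1
    exact ⟨⟨g, hK hg⟩, rep_lpt (g := g) hH hF hc hg hG (h3 j hj).2⟩) hc'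

/-! ### orbits -/

def trR (n H : ℕ) (MS : List ℕ) (r lab par dep lo len : ℕ) : Bool :=
  frcL (List.rec [] (fun G _ t => mul n G H :: t) MS) fun Y => allR lo len fun a => bor (Nat.beq a r)
    (frc (ap 8 255 lab a) fun y => frc (ap 16 65535 par a) fun p => band (band (Nat.ble (Nat.succ y) (len' MS))
      (Nat.ble (Nat.succ p) n)) (band (Nat.ble (Nat.succ (ap 8 255 dep p)) (ap 8 255 dep a))
      (Nat.beq (col (nth Y y) p) (col H a))))
where len' (l : List ℕ) : ℕ := H8.len l

theorem trR_add {n H : ℕ} {MS : List ℕ} {r lab par dep lo l l' : ℕ} (h : trR n H MS r lab par dep lo l = true)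
    (h' : trR n H MS r lab par dep (lo + l) l' = true) : trR n H MS r lab par dep lo (l + l') = true := by
  simp only [trR, frcL_eq] at *; exact allR_add h h'

theorem orbit_ge {n H c F : ℕ} {MS : List ℕ} {r lab par dep : ℕ} (hF : Good c F) (hr : vec H r ∈ Λ)
    (h1 : allL MS (fun G => band (fxChk c F G) (frc (mul n G H) (mulChk n G H))) = true)
    (h2 : srtR n H 0 n = true) (h3 : trR n H MS r lab par dep 0 n = true) (K : Subgroup Co0) (hK : Fix c F ≤ K) :
    (∀ a < n, vec H a ∈ Λ ∧ vL H a ∈ orbit K (vL H r)) ∧ n ≤ (orbit K (vL H r)).ncard := by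
  have key : ∀ a < n, ∃ g ∈ K, ((g • vL H r : Λ) : V) = vec H a := by
    intro a ha
    induction hd : ap 8 255 dep a using Nat.strong_induction_on generalizing a with
    | _ d ih =>
      simp only [trR, frcL_eq, allR_iff, bor_eq_true, frc_eq, band_eq_true, Nat.beq_eq, Nat.ble_eq, trR.len',
        len_eq] at h3
      rcases h3 a (Nat.zero_le _) (by omega) with rfl | ⟨⟨a1, a2⟩, a3, a4⟩
      · exact ⟨1, K.one_mem, by rw [one_smul, vL_coe hr]⟩
      obtain ⟨g, hg, e⟩ := ih _ (hd ▸ a3) _ a2 rfl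
      have : ∀ (MS : List ℕ) y, y < MS.length → ∃ G ∈ MS,
          nth (List.rec [] (fun G _ t => mul n G H :: t) MS) y = mul n G H := by
        intro MS
        induction MS with
        | nil => simp
        | cons G t ih =>
          rintro (_ | y) hy
          · exact ⟨G, by simp, rfl⟩
          · obtain ⟨G', h1, h2⟩ := ih y (by simpa using hy)
            exact ⟨G', by simp [h1], h2⟩
      obtain ⟨G, b1, b2⟩ := this MS _ a1
      have b3 := allL_iff.1 h1 G b1
      rw [band_eq_true, frc_eq] at b3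
      obtain ⟨g', hg', hG⟩ := fxChk_spec hF b3.1
      refine ⟨g' * g, K.mul_mem (hK hg') hg, funext fun p => ?_⟩
      have b4 := mulChk_spec b3.2 a2 p
      have b5 := lin g' (g • vL H r) p
      simp only [hG _, e] at b5
      rw [b2] at a4
      rw [mul_smul, ← vec_of_col a4]; omega
  have k2 : ∀ a < n, vec H a ∈ Λ ∧ vL H a ∈ orbit K (vL H r) := fun a ha => by
    obtain ⟨g, hg, e⟩ := key a ha
    have : vec H a ∈ Λ := e ▸ (g • vL H r).2
    exact ⟨this, ⟨g, hg⟩, Subtype.ext (e.trans (vL_coe this).symm)⟩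
  refine ⟨k2, ?_⟩
  have : ((range n).image (vL H)).card = n := by
    rw [card_image_of_injOn fun a ha b hb e => srt_inj h2 (mem_range.1 ha) (mem_range.1 hb) (by
      rw [← vL_coe (k2 a (mem_range.1 ha)).1, e, vL_coe (k2 b (mem_range.1 hb)).1]), card_range]
  rw [← this, ← Set.ncard_coe_finset]
  refine Set.ncard_le_ncard (fun x hx => ?_) (Set.finite_range _)
  obtain ⟨a, ha, rfl⟩ := mem_image.1 (mem_coe.1 hx)
  exact (k2 a (mem_range.1 ha)).2

theorem orbit_eq {G Ω : Type*} [Group G] [Finite G] [MulAction G Ω] (H : Subgroup G) (ω : Ω) {T : Set Ω}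
    (hT : T.Finite) (h1 : ∀ h ∈ H, h • ω ∈ T) {b : ℕ} (h2 : Nat.card ↥(H ⊓ stabilizer G ω) ≤ b)
    (h3 : T.ncard * b ≤ Nat.card H) : orbit H ω = T ∧ T.ncard * Nat.card ↥(H ⊓ stabilizer G ω) = Nat.card H := by
  have hs : orbit H ω ⊆ T := by rintro _ ⟨h, rfl⟩; exact h1 h h.2
  have e := card_eq_orbit_mul H ω
  have hb : 0 < b := Nat.card_pos.trans_le h2
  have : T.ncard ≤ (orbit H ω).ncard :=
    Nat.le_of_mul_le_mul_right (h3.trans (e.le.trans (Nat.mul_le_mul_left _ h2))) hb
  have e2 := Set.eq_of_subset_of_ncard_le hs this hT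
  exact ⟨e2, by rw [e, e2]⟩

theorem trans_of_orbit {G Ω : Type*} [Group G] [MulAction G Ω] {H : Subgroup G} {ω : Ω} {T : Set Ω}
    (h : orbit H ω = T) {x y : Ω} (hx : x ∈ T) (hy : y ∈ T) : ∃ g ∈ H, g • x = y := by
  rw [← h] at hx hy
  obtain ⟨a, rfl⟩ := hx
  obtain ⟨b, rfl⟩ := hy
  exact ⟨(b * a⁻¹ : H), (b * a⁻¹).2, by simp [mul_smul, Subgroup.smul_def]⟩

/-! ### counting -/

def Q5 : ℕ → Bool := fun d => band (Nat.ble (8 - 5) d) (Nat.ble d (8 + 5))

def NT' : ℕ := nat_lit 0x800000000000000000000000000000000000000000000000000000000000000000000000000000000000004d00002c01600000a50000000000000000000000000000000002680000a8054000013400000000000000000000000000000000014a00002c01600000268000000000000000000000000000000000000000000000000000000000000000000000000000000000000001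
theorem NT_eq : NT = NT' := by decide +kernel

def cnt5 (P : ℤ → ℤ → ℤ → Bool) : ℕ := sumN 2 fun m => sumN 92 fun t => frc (NT' / 8192 ^ t % 8192) fun n =>
    ite' (Nat.beq n 0) 0 (n * FT Q5 32 P m t)

theorem cnt32 (P : ℤ → ℤ → ℤ → Bool) (S : Set Λ) (h : ∀ x : Λ, x ∈ S ↔ sqNorm (x : V) = 32 ∧
    P ((x : V) none) ((x : V) (some 0)) (∑ i, (x : V) i) = true) : S.ncard = cnt5 P := by
  have := count' 5 32 (by norm_num) (by norm_num) P
  rw [cntL, frc_eq, NT_eq] at this
  rw [← Set.ncard_image_of_injective _ Subtype.val_injective]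
  refine Eq.trans ?_ this
  congr 1
  ext x
  constructor
  · rintro ⟨y, hy, rfl⟩; exact ⟨y.2, (h y).1 hy⟩
  · exact fun hx => ⟨⟨x, hx.1⟩, (h _).2 hx.2, rfl⟩

theorem fin32 {S : Set Λ} (h : ∀ x ∈ S, sqNorm (x : V) = 32) : S.Finite := (finite_normΛ 32).subset h

abbrev u : Λ := Spor.leechU
abbrev v : Λ := Spor.leechV
abbrev u' : Λ := Spor.leechU'

theorem dot_u (x : V) : dotInt (u : V) x = 4 * (x none + x (some 0)) := by
  rw [show (u : V) = Pi.single none 4 + Pi.single (some 0) 4 by decide +kernel, dot_comm, dot_add, dot_single,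
    dot_single]; ring
theorem dot_u' (x : V) : dotInt (u' : V) x = 4 * (x none - x (some 0)) := by
  rw [show (u' : V) = Pi.single none 4 + Pi.single (some 0) (-4) by decide +kernel, dot_comm, dot_add, dot_single,
    dot_single]; ring
theorem dot_v (x : V) : dotInt (v : V) x = -4 * x none - ∑ i, x i := by
  rw [show (v : V) = Pi.single none (-4) + fun _ => -1 by decide +kernel, dot_comm, dot_add, dot_single]
  simp only [dotInt, mul_neg, mul_one, sum_neg_distrib]; ring

/-! ### monomial subgroups -/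

theorem card_le_mono (K : Subgroup Co0) (S : Subgroup M24) (T : Set (Finset GolayPt))
    (hK : ∀ g ∈ K, ((g • E none : Λ) : V) ∈ stdCross)
    (h : ∀ g ∈ K, ∀ σ : M24, ∀ c ∈ CC, (∀ x : Λ, ((g • x : Λ) : V) = signedPerm σ c x) → σ ∈ S ∧ c ∈ T) :
    Nat.card K ≤ Nat.card S * T.ncard := by
  choose σ h1 c h2 h3 using fun g : K => mono_of_cross (hK g g.2)
  rw [← Nat.card_coe_set_eq, ← Nat.card_prod]
  exact Nat.card_le_card_of_injective (fun g => (⟨⟨σ g, h1 g⟩, (h g g.2 ⟨_, h1 g⟩ _ (h2 g) (h3 g)).1⟩,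
    ⟨c g, (h g g.2 ⟨_, h1 g⟩ _ (h2 g) (h3 g)).2⟩)) fun g g' e => by
      simp only [Prod.mk.injEq, Subtype.mk.injEq] at e
      exact Subtype.ext (ext_E fun l => Subtype.ext (by rw [h3, h3, e.1, e.2]))

theorem fix_E {g : Co0} {σ : M24} {c : Finset GolayPt} (h : ∀ x : Λ, ((g • x : Λ) : V) = signedPerm σ c x)
    {i : GolayPt} (e : g • E i = E i) : σ ∈ stabilizer M24 i ∧ i ∉ c := by
  have := congrFun (h (E i)) i
  rw [e] at this
  simp only [signedPerm, E_apply, if_true] at this
  split_ifs at this with h1 h2 h2 <;> try omega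
  exact ⟨(Equiv.symm_apply_eq _).1 h2 |>.symm, h1⟩

theorem fix_v {g : Co0} {σ : M24} {c : Finset GolayPt} (h : ∀ x : Λ, ((g • x : Λ) : V) = signedPerm σ c x)
    (e : g • v = v) : c ∈ ({∅} : Set _) := eq_empty_of_forall_notMem fun i hi => by
  have := congrFun (h v) i
  rw [e] at this
  simp only [signedPerm, if_pos hi, v, Spor.leechV, Spor.vecV] at this
  split_ifs at this <;> omega

theorem E_std (i : GolayPt) : (E i : V) ∈ stdCross := mem_std.2 ⟨i, Or.inl rfl⟩
theorem u_add : u + u' = E none := Subtype.ext (by decide +kernel)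
theorem u_sub : u - u' = E (some 0) := Subtype.ext (by decide +kernel)

theorem ub_E : Nat.card (stabilizer Co0 (E none)) ≤ 10200960 * 2048 := by
  have := card_le_mono (stabilizer Co0 (E none)) (stabilizer M24 none) {c | c ∈ CC ∧ none ∉ c}
    (fun g hg => by rw [hg]; exact E_std _) fun g hg σ c hc h => ⟨(fix_E h hg).1, hc, (fix_E h hg).2⟩
  rwa [card_stab1, ncard_supp (fun m => !m.testBit 23) (fun _ h => h.1) (fun m _ h => by
    simp [h, show gC.code none = 23 from rfl]), show cntB _ 12 = 2048 by decide +kernel] at this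

theorem ub_uu : Nat.card ↥(stabilizer Co0 u ⊓ stabilizer Co0 u') ≤ 443520 * 1024 := by
  have k : ∀ g ∈ stabilizer Co0 u ⊓ stabilizer Co0 u', g • E none = E none ∧ g • E (some 0) = E (some 0) :=
    fun g hg => by rw [← u_add, ← u_sub, smul_add', smul_sub', hg.1, hg.2]; exact ⟨rfl, rfl⟩
  have := card_le_mono _ (stabilizer M24 none ⊓ stabilizer M24 (some 0)) {c | c ∈ CC ∧ none ∉ c ∧ some 0 ∉ c}
    (fun g hg => by rw [(k g hg).1]; exact E_std _) fun g hg σ c hc h =>
      ⟨⟨(fix_E h (k g hg).1).1, (fix_E h (k g hg).2).1⟩, hc, (fix_E h (k g hg).1).2, (fix_E h (k g hg).2).2⟩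
  rwa [card_stab2 (by decide), ncard_supp (fun m => !m.testBit 23 && !m.testBit 0) (fun _ h => h.1) (fun m _ h => by
    simp [h, show gC.code none = 23 from rfl, show gC.code (some 0) = 0 from rfl]),
    show cntB _ 12 = 1024 by decide +kernel] at this

theorem ub_vE : Nat.card ↥(stabilizer Co0 v ⊓ stabilizer Co0 (E none + v)) ≤ 10200960 := by
  have k : ∀ g ∈ stabilizer Co0 v ⊓ stabilizer Co0 (E none + v), g • E none = E none := fun g hg => by
    have : g • (E none + v) = _ := hg.2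
    rwa [smul_add', hg.1, add_left_inj] at this
  have := card_le_mono _ (stabilizer M24 none) {∅}
    (fun g hg => by rw [k g hg]; exact E_std _) fun g hg σ c hc h => ⟨(fix_E h (k g hg)).1, fix_v h hg.1⟩
  rwa [card_stab1, Set.ncard_singleton, mul_one] at this

theorem ub_vuu (K : Subgroup Co0) (hK : ∀ g ∈ K, g • v = v ∧ g • u = u ∧ g • u' = u') : Nat.card K ≤ 443520 := by
  have k : ∀ g ∈ K, g • E none = E none ∧ g • E (some 0) = E (some 0) :=
    fun g hg => by rw [← u_add, ← u_sub, smul_add', smul_sub', (hK g hg).2.1, (hK g hg).2.2]; exact ⟨rfl, rfl⟩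
  have := card_le_mono _ (stabilizer M24 none ⊓ stabilizer M24 (some 0)) {∅}
    (fun g hg => by rw [(k g hg).1]; exact E_std _) fun g hg σ c hc h =>
      ⟨⟨(fix_E h (k g hg).1).1, (fix_E h (k g hg).2).1⟩, fix_v h (hK g hg).1⟩
  rwa [card_stab2 (by decide), Set.ncard_singleton, mul_one] at this

/-! ### conjugation -/

theorem conj_iso {G : Type*} [Group G] (g : G) (H K : Subgroup G) (h : ∀ x, x ∈ K ↔ g⁻¹ * x * g ∈ H) :
    Nonempty (K ≃* H) := by
  refine ⟨((MulAut.conj g⁻¹).subgroupMap K).trans (MulEquiv.subgroupCongr ?_)⟩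
  ext y
  constructor
  · rintro ⟨x, hx, rfl⟩; simpa using (h x).1 hx
  · exact fun hy => ⟨g * y * g⁻¹, (h _).2 (by simpa [mul_assoc] using hy), by simp [mul_assoc]⟩

theorem stab_conj {G Ω : Type*} [Group G] [MulAction G Ω] (g x : G) (ω : Ω) :
    x ∈ stabilizer G (g • ω) ↔ g⁻¹ * x * g ∈ stabilizer G ω := by
  simp only [mem_stabilizer_iff, mul_smul, inv_smul_eq_iff]

theorem sub_iso (K : Subgroup Co0) (L : Subgroup (Equiv.Perm Λ)) (h : L ≤ Co0) (e : ∀ g : Co0, g ∈ K ↔ g.1 ∈ L) :
    Nonempty (L ≃* K) :=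
  ⟨(Subgroup.subgroupOfEquivOfLe h).symm.trans (MulEquiv.subgroupCongr (Subgroup.ext fun g => (e g).symm))⟩

theorem ncard_conj (g : Co0) {S T : Set Λ} (h : ∀ x, g • x ∈ T ↔ x ∈ S) : T.ncard = S.ncard := by
  rw [← Set.ncard_smul_set g S]
  congr 1
  ext y
  rw [Set.mem_smul_set_iff_inv_smul_mem, ← h, smul_inv_smul]

def dotc (x y : ℕ) : ℤ := (sumN 24 fun i => Nat.mul (dg x i) (dg y i) : ℕ) -
  (8 * (sumN 24 (dg x) + sumN 24 (dg y)) : ℕ) + 1536

theorem dotc_eq (H j K l : ℕ) : dotc (col H j) (col K l) = dotInt (vec H j) (vec K l) := by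
  rw [← vec_col H, ← vec_col K, dotInt, sum_pt, sum_congr rfl (g := fun i => (dg (col H j) i * dg (col K l) i : ℤ) -
    8 * (dg (col H j) i + dg (col K l) i) + 64) fun i hi => by
      simp only [vec, code_pt (mem_range.1 hi), mul_zero, zero_add]; ring]
  simp only [dotc, sumN_eq, sum_add_distrib, sum_sub_distrib, ← mul_sum, Nat.mul_eq]
  push_cast; simp

end H8.Le
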