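import Cfsg.Agent.H8.LeCnt
import Cfsg.Agent.H8.PM

/-! H8.LeMat: packed lists of Leech vectors and matrices of elements of `Co0`. `vec H j` (vector number `j` of `H`, digits
`x + 8` in base `2^16`), `mul c G H` (apply the matrix `G` to `c` vectors at once), `Cd G g` (`G` is the matrix of `8 g`),
`coChk` / `exists_cd` (certify a matrix), `vchk` (certify a vector), `col`, `Cd.mul`, `mul_vec`. -/

set_option autoImplicit false
set_option linter.all false

noncomputable section
namespace H8.Le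
open Cfsg MulAction Finset
open H7 hiding band bor

def dg (X t : ℕ) : ℕ := ap 16 31 X t
def vec (X j : ℕ) : V := fun p => (dg X (24 * j + gC.code p) : ℤ) - 8
def ones' (w c : ℕ) : ℕ := (Nat.shiftLeft 1 (w * c) - 1) / (Nat.shiftLeft 1 w - 1)

theorem ap_eq (w X t : ℕ) : ap w 31 X t = X / (2 ^ w) ^ t % 32 := by
  rw [ap, Nat.mul_eq, shr_eq]; exact Nat.and_two_pow_sub_one_eq_mod _ 5

theorem dg_le (X t : ℕ) : dg X t ≤ 31 := by rw [dg, ap_eq]; omega

theorem ones'_eq {w : ℕ} (hw : 1 ≤ w) (c : ℕ) : ones' w c = ∑ j ∈ range c, (2 ^ w) ^ j := by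
  have : Nat.shiftLeft 1 w = 2 ^ w := Nat.one_shiftLeft w
  rw [ones', shl_eq, one_mul, this, Nat.geomSum_eq (Nat.le_self_pow (by omega) 2)]

theorem and_mask {w : ℕ} (hw : 5 ≤ w) (c Y : ℕ) :
    Nat.land Y (31 * ones' w c) = ∑ j ∈ range c, ap w 31 Y j * (2 ^ w) ^ j := by
  rw [ones'_eq (by omega)]
  have h32 : 32 ∣ 2 ^ w := pow_dvd_pow 2 hw
  have hp : 31 < 2 ^ w := Nat.lt_of_lt_of_le (by norm_num) (Nat.le_of_dvd (by positivity) h32)
  induction c generalizing Y with
  | zero => simp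
  | succ c ih =>
    have e : 31 * ∑ j ∈ range (c + 1), (2 ^ w) ^ j = 31 + 2 ^ w * (31 * ∑ j ∈ range c, (2 ^ w) ^ j) := by
      simp only [sum_range_succ', pow_succ, ← sum_mul]; ring
    rw [← Nat.div_add_mod (Nat.land _ _) (2 ^ w), Nat.land_eq, Nat.and_div_two_pow, Nat.and_mod_two_pow, e,
      Nat.add_mul_div_left _ _ (by positivity), Nat.add_mul_mod_self_left, Nat.div_eq_of_lt hp, Nat.mod_eq_of_lt hp,
      zero_add, ← Nat.land_eq, ih, sum_range_succ', show (31 : ℕ) = 2 ^ 5 - 1 from rfl, Nat.and_two_pow_sub_one_eq_mod,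
      Nat.mod_mod_of_dvd _ h32, mul_sum]
    simp only [show (2 ^ 5 - 1 : ℕ) = 31 from rfl, ap_eq, Nat.div_div_eq_div_mul, pow_zero, Nat.div_one, mul_one]
    congr 1
    exact sum_congr rfl fun j _ => by rw [pow_succ']; ring

theorem dg_sum (n : ℕ) (e : ℕ → ℕ) (he : ∀ t < n, e t ≤ 31) :
    ∀ t < n, dg (∑ t ∈ range n, e t * (2 ^ 16) ^ t) t = e t := by
  induction n generalizing e with
  | zero => simp
  | succ n ih =>
    intro t ht
    have e1 : ∑ t ∈ range (n + 1), e t * (2 ^ 16) ^ t =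
        e 0 + 2 ^ 16 * ∑ t ∈ range n, e (t + 1) * (2 ^ 16) ^ t := by
      rw [sum_range_succ', mul_sum, add_comm, pow_zero, mul_one]
      congr 1
      exact sum_congr rfl fun j _ => by rw [pow_succ']; ring
    have h0 := he 0 (by omega)
    rw [e1, dg, ap_eq]
    rcases t with _ | t
    · rw [pow_zero, Nat.div_one]; omega
    · rw [pow_succ' (2 ^ 16), ← Nat.div_div_eq_div_mul, Nat.add_mul_div_left _ _ (by positivity),
        Nat.div_eq_of_lt (show e 0 < 2 ^ 16 by omega), zero_add, ← ap_eq]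
      exact ih _ (fun t ht => he _ (by omega)) t (by omega)

theorem uniq (n : ℕ) (d : ℕ → ℤ) (hd : ∀ t < n, |d t| < 2 ^ 16) (h : ∑ t ∈ range n, d t * (2 ^ 16) ^ t = 0) :
    ∀ t < n, d t = 0 := by
  induction n generalizing d with
  | zero => simp
  | succ n ih =>
    have e1 : ∑ t ∈ range (n + 1), d t * (2 ^ 16) ^ t =
        d 0 + 2 ^ 16 * ∑ t ∈ range n, d (t + 1) * (2 ^ 16) ^ t := by
      rw [sum_range_succ', mul_sum, add_comm, pow_zero, mul_one]
      congr 1
      exact sum_congr rfl fun j _ => by rw [pow_succ']; ring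
    have h0 := abs_lt.1 (hd 0 (by omega))
    rw [e1] at h
    intro t ht
    rcases t with _ | t
    · omega
    · exact ih (fun t => d (t + 1)) (fun t ht => hd _ (by omega)) (by omega) t (by omega)

theorem sum_flat {M : Type*} [AddCommMonoid M] (c : ℕ) (g : ℕ → M) :
    ∑ t ∈ range (24 * c), g t = ∑ j ∈ range c, ∑ i ∈ range 24, g (24 * j + i) := by
  induction c with
  | zero => simp
  | succ c ih => rw [mul_add_one, sum_range_add, ih, sum_range_succ (n := c)]

def OB : ℕ := nat_lit 601236075324551449031495233083750878234222007636613209246178277321213424452540026114507763101928979031153246209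
def MB : ℕ := nat_lit 18638318335061094919976352225596277225260882236735009486631526596957616158028740809549740656159798349965750632479
theorem OB_eq : OB = ones' 16 24 := by decide +kernel
theorem MB_eq : MB = 31 * ones' 16 24 := by decide +kernel

def col (G l : ℕ) : ℕ := Nat.land (Nat.shiftRight G (Nat.mul 384 l)) MB
def row (MW H l : ℕ) : ℕ := Nat.land (Nat.shiftRight H (Nat.mul 16 l)) MW

theorem col_eq (G l : ℕ) : col G l = ∑ i ∈ range 24, dg G (24 * l + i) * (2 ^ 16) ^ i := by
  rw [col, MB_eq, and_mask (by norm_num), Nat.mul_eq, shr_eq]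
  refine sum_congr rfl fun i _ => ?_
  rw [dg, ap_eq, ap_eq, Nat.div_div_eq_div_mul, pow_add, pow_mul, ← pow_mul 2 16 24]

theorem row_eq (c H l : ℕ) : row (31 * ones' 384 c) H l = ∑ j ∈ range c, dg H (24 * j + l) * (2 ^ 384) ^ j := by
  rw [row, and_mask (by norm_num), Nat.mul_eq, shr_eq]
  refine sum_congr rfl fun i _ => ?_
  rw [dg, ap_eq, ap_eq, Nat.div_div_eq_div_mul, pow_add, pow_mul, ← pow_mul 2 16 24, mul_comm ((2 ^ 16) ^ l)]

def preP (OW G H : ℕ) : ℕ := frc (31 * OW) fun MW =>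
  sumN 24 (fun l => Nat.mul (row MW H l) (col G l)) + 1600 * (OW * OB)
def preS (OW G H : ℕ) : ℕ := frc (31 * OW) fun MW =>
  sumN 24 (col G) * OW + sumN 24 (row MW H) * OB
def mulW (OW G H : ℕ) : ℕ := frc G fun G => frc H fun H => Nat.shiftRight (preP OW G H) 3 - preS OW G H
def mul (c G H : ℕ) : ℕ := frc (ones' 384 c) fun OW => mulW OW G H
def mulChk (c G H Y : ℕ) : Bool := frc (ones' 384 c) fun OW =>
  Nat.beq (preP OW G H) (8 * (Nat.land Y (31 * ones' 16 (24 * c)) + preS OW G H))

def ent (G H t : ℕ) : ℤ :=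
  ∑ l ∈ range 24, ((dg H (24 * (t / 24) + l) : ℤ) - 8) * ((dg G (24 * l + t % 24) : ℤ) - 8)

theorem pre_eq (c G H : ℕ) : (preP (ones' 384 c) G H : ℤ) - 8 * preS (ones' 384 c) G H =
    ∑ t ∈ range (24 * c), (ent G H t + 64) * (2 ^ 16) ^ t := by
  have e : ∑ t ∈ range (24 * c), (ent G H t + 64) * (2 ^ 16) ^ t =
      ∑ l ∈ range 24, ((row (31 * ones' 384 c) H l : ℤ) - 8 * ones' 384 c) * ((col G l : ℤ) - 8 * OB) +
        64 * (ones' 384 c * OB) := by
    simp only [row_eq, col_eq, OB_eq]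
    rw [ones'_eq (by norm_num), ones'_eq (by norm_num), sum_flat, show 384 = 16 * 24 from rfl, pow_mul,
      show (2 : ℤ) ^ 16 = ((2 ^ 16 : ℕ) : ℤ) by norm_num]
    generalize 2 ^ 16 = B
    push_cast
    simp only [mul_sum (a := (8 : ℤ)), ← sum_sub_distrib, sum_mul_sum]
    rw [sum_comm (s := range 24), mul_sum, ← sum_add_distrib]
    refine sum_congr rfl fun j _ => ?_
    rw [sum_comm (s := range 24), mul_sum, ← sum_add_distrib]
    refine sum_congr rfl fun i hi => ?_
    have h1 : (24 * j + i) / 24 = j := by have := mem_range.1 hi; omega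
    have h2 : (24 * j + i) % 24 = i := by have := mem_range.1 hi; omega
    rw [ent, h1, h2, add_mul, sum_mul, pow_add, pow_mul]
    congr 1
    exact sum_congr rfl fun l _ => by ring
  rw [e]
  simp only [preP, preS, frc_eq, sumN_eq, Nat.mul_eq]
  push_cast
  simp only [sub_mul, mul_sub, sum_sub_distrib, ← sum_mul, ← mul_sum, sum_const, card_range]
  ring

theorem ent_eq (G H j : ℕ) (p : GolayPt) :
    ent G H (24 * j + gC.code p) = ∑ l, vec H j l * vec G (gC.code l) p := by
  have := code_lt p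
  rw [sum_pt, ent, show (24 * j + gC.code p) / 24 = j by omega, show (24 * j + gC.code p) % 24 = gC.code p by omega]
  exact sum_congr rfl fun l hl => by simp only [vec, code_pt (mem_range.1 hl)]

theorem mulChk_spec {c G H Y : ℕ} (h : mulChk c G H Y = true) {j : ℕ} (hj : j < c) (p : GolayPt) :
    ∑ l, vec H j l * vec G (gC.code l) p = 8 * vec Y j p := by
  rw [mulChk, frc_eq, Nat.beq_eq, and_mask (by norm_num)] at h
  have e := pre_eq c G H
  rw [h] at e
  have := uniq (24 * c) (fun t => ent G H t + 64 - 8 * dg Y t) (fun t _ => ?_) ?_ (24 * j + gC.code p)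
    (by have := code_lt p; omega)
  · rw [← ent_eq, vec]; omega
  · have h1 : |ent G H t| ≤ 24 * 529 := by
      refine (abs_sum_le_sum_abs _ _).trans ((sum_le_card_nsmul _ _ (529 : ℤ) fun l _ => ?_).trans (by simp))
      have a := dg_le H (24 * (t / 24) + l)
      have b := dg_le G (24 * l + t % 24)
      rw [abs_mul]
      exact mul_le_mul (b := (23 : ℤ)) (d := (23 : ℤ)) (abs_le.2 ⟨by omega, by omega⟩) (abs_le.2 ⟨by omega, by omega⟩)
        (abs_nonneg _) (by norm_num)
    have := dg_le Y t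
    rw [abs_le] at h1
    rw [abs_lt]; omega
  · simp only [sub_mul, sum_sub_distrib, ← e, mul_assoc, ← mul_sum]
    push_cast [dg]
    ring

/-- `G` is the matrix of `8 g` -/
def Cd (G : ℕ) (g : Co0) : Prop := ∀ l, ((g • E l : Λ) : V) = vec G (gC.code l)

theorem mul_vec {G : ℕ} {g : Co0} (hG : Cd G g) {c H : ℕ} (x : ℕ → Λ) (hx : ∀ j < c, (x j : V) = vec H j)
    (hn : ∀ j < c, sqNorm (x j : V) ≤ 64) : ∀ j < c, ((g • x j : Λ) : V) = vec (mul c G H) j := by
  have hb : ∀ j < c, ∀ p, |((g • x j : Λ) : V) p| < 9 := fun j hj p =>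
    abs_lt_of_sq_lt_sq ((sq_le_norm _ p).trans_lt (by rw [norm_smul']; have := hn j hj; omega)) (by norm_num)
  let d : ℕ → ℕ := fun t => (((g • x (t / 24) : Λ) : V) (pt (t % 24)) + 8).toNat
  have hd : ∀ t < 24 * c, d t ≤ 31 ∧ ent G H t + 64 = 8 * d t := fun t ht => by
    have a := abs_lt.1 (hb (t / 24) (by omega) (pt (t % 24)))
    have b := lin g (x (t / 24)) (pt (t % 24))
    simp only [hG _, hx (t / 24) (by omega), ← ent_eq, code_pt (Nat.mod_lt t (by norm_num)), Nat.div_add_mod] at b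
    simp only [d]; omega
  have e := pre_eq c G H
  rw [sum_congr rfl fun t ht => by rw [(hd t (mem_range.1 ht)).2]] at e
  have e2 : mul c G H = ∑ t ∈ range (24 * c), d t * (2 ^ 16) ^ t := by
    simp only [mul_assoc, ← mul_sum] at e
    have : ((∑ t ∈ range (24 * c), d t * (2 ^ 16) ^ t : ℕ) : ℤ) = ∑ t ∈ range (24 * c), (d t : ℤ) * (2 ^ 16) ^ t := by
      push_cast; rfl
    rw [← this] at e
    simp only [mul, mulW, frc_eq]
    rw [show ∀ a, Nat.shiftRight a 3 = a / 8 from fun a => Nat.shiftRight_eq_div_pow a 3]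
    omega
  intro j hj
  funext p
  have a := code_lt p
  have b := abs_lt.1 (hb j hj p)
  rw [vec, e2, dg_sum _ _ (fun t ht => (hd t ht).1) _ (by omega)]
  simp only [d, show (24 * j + gC.code p) / 24 = j by omega, show (24 * j + gC.code p) % 24 = gC.code p by omega,
    pt_code]
  omega

theorem Cd.mul {G H : ℕ} {g h : Co0} (hG : Cd G g) (hH : Cd H h) : Cd (mul 24 G H) (g * h) := fun l => by
  rw [mul_smul, ← mul_vec hG (fun j => h • E (pt j)) (fun j hj => by rw [hH, code_pt hj])
    (fun j _ => by rw [norm_smul', norm_E]) _ (code_lt l), pt_code]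

theorem vec_col (H j : ℕ) : vec (col H j) 0 = vec H j := funext fun p => by
  rw [vec, vec, col_eq, mul_zero, zero_add, dg_sum 24 _ (fun _ _ => dg_le _ _) _ (code_lt p)]

theorem vec_of_col {H j K l : ℕ} (h : col H j = col K l) : vec H j = vec K l := by rw [← vec_col, h, vec_col]

theorem col_of_vec {H j K l : ℕ} (h : vec H j = vec K l) : col H j = col K l := by
  rw [col_eq, col_eq]
  refine sum_congr rfl fun i hi => ?_
  have := congrFun h (pt i)
  simp only [vec, code_pt (mem_range.1 hi)] at this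
  rw [show dg H (24 * j + i) = dg K (24 * l + i) by omega]

theorem add_of_col {H j K l S s : ℕ} (h : col H j + col K l = col S s + 8 * OB) : vec H j + vec K l = vec S s := by
  rw [col_eq, col_eq, col_eq, OB_eq, ones'_eq (by norm_num)] at h
  funext p
  have := uniq 24 (fun i => (dg H (24 * j + i) : ℤ) + dg K (24 * l + i) - dg S (24 * s + i) - 8) (fun i _ => by
    have := dg_le H (24 * j + i)
    have := dg_le K (24 * l + i)
    have := dg_le S (24 * s + i)
    rw [abs_lt]; omega) (by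
      simp only [sub_mul, add_mul, sum_sub_distrib, sum_add_distrib, ← mul_sum]
      zify at h; linarith) _ (code_lt p)
  simp only [vec, Pi.add_apply]; omega

theorem col_of_add {H j K l S s : ℕ} (h : vec H j + vec K l = vec S s) : col H j + col K l = col S s + 8 * OB := by
  rw [col_eq, col_eq, col_eq, OB_eq, ones'_eq (by norm_num), mul_sum, ← sum_add_distrib, ← sum_add_distrib]
  refine sum_congr rfl fun i hi => ?_
  have := congrFun h (pt i)
  simp only [vec, code_pt (mem_range.1 hi), Pi.add_apply] at this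
  rw [← add_mul, ← add_mul, show dg H (24 * j + i) + dg K (24 * l + i) = dg S (24 * s + i) + 8 by omega]

/-- certify a vector -/
def vchk (H N : ℕ) (P : ℤ → ℤ → ℤ → Bool) (j : ℕ) : Bool :=
  frc (col H j) fun x => frc (sumN 24 fun i => frc (dg x i) ed) fun s => frc (Nat.land x 1) fun m =>
  frc (enc (Nat.land (Nat.shiftRight x 1) OB % 6277101735386680763835789423207666416102355444464034512896 % 65534))
    fun b => band (band (Nat.beq (s / 512) N) (Nat.beq (s % 8) (Nat.mul 4 m)))
    (band (allB 24 fun i => Nat.beq (ap 16 3 x i) (Nat.add m (Nat.mul 2 (ap 1 1 b i))))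
      (band (Nat.ble (s % 512) 400) (P ((dg x 23 : ℤ) - 8) ((dg x 0 : ℤ) - 8) ((s % 512 : ℕ) - 192))))

theorem vchk_spec {H N j : ℕ} {P : ℤ → ℤ → ℤ → Bool} (hN : N ≤ 64) (h : vchk H N P j = true) :
    vec H j ∈ Λ ∧ sqNorm (vec H j) = N ∧ P (vec H j none) (vec H j (some 0)) (∑ i, vec H j i) = true := by
  simp only [vchk, frc_eq, band_eq_true, Nat.beq_eq, allB_iff, sumN_eq, Nat.mul_eq,
    Nat.add_eq, Nat.ble_eq] at h
  rw [← vec_col]
  generalize col H j = x at *
  generalize Nat.land x 1 = m at *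
  generalize Nat.land (Nat.shiftRight x 1) OB % 6277101735386680763835789423207666416102355444464034512896 % 65534
    = k at *
  obtain ⟨⟨h1, h2⟩, h3, h5, h4⟩ := h
  have e : ((∑ i ∈ range 24, ed (dg x i) : ℕ) : ℤ) = 512 * sqNorm (vec x 0) + (∑ i, vec x 0 i + 192) := by
    rw [sqNorm, sum_pt, sum_pt, mul_sum, show (192 : ℤ) = ∑ _ ∈ range 24, 8 by simp, ← sum_add_distrib,
      ← sum_add_distrib, Nat.cast_sum]
    exact sum_congr rfl fun i hi => by simp [vec, code_pt (mem_range.1 hi), ed_eq]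
  have b1 : ∑ i, vec x 0 i + 192 = ∑ i, (vec x 0 i + 8) := by rw [sum_add_distrib, sum_const, card_pt']; rfl
  have b2 : 0 ≤ ∑ i, (vec x 0 i + 8) := sum_nonneg fun i _ => by simp [vec]
  have b3 : ∑ i, (vec x 0 i + 8) ≤ ∑ i, (vec x 0 i ^ 2 + 9) := sum_le_sum fun i _ => by
    nlinarith [sq_nonneg (vec x 0 i - 1), sq_nonneg (vec x 0 i)]
  rw [sum_add_distrib (f := fun i => vec x 0 i ^ 2), sum_const, card_pt', ← sqNorm] at b3
  simp only [nsmul_eq_mul, Nat.cast_ofNat] at b3
  have b4 : sqNorm (vec x 0) = N := by omega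
  refine ⟨mem_iff.2 ⟨m, fs (enc k), wd_mem_iff.1 (wd_encL_mem wd_gB_mem k), fun p => ?_, ?_⟩, b4, ?_⟩
  · have a := h3 _ (code_lt p)
    have a1 : ap 16 3 x (gC.code p) = dg x (gC.code p) % 4 := by
      rw [dg, ap_eq, ap, Nat.mul_eq, shr_eq, Nat.mod_mod_of_dvd _ (by norm_num)]
      exact Nat.and_two_pow_sub_one_eq_mod _ 2
    have a2 : ap 1 1 (enc k) (gC.code p) = if p ∈ fs (enc k) then 1 else 0 := by
      rw [ap, Nat.mul_eq, one_mul, Nat.land_eq, Nat.and_one_is_mod, Nat.shiftRight_eq, Nat.shiftRight_eq_div_pow]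
      simp only [gC.mem_fs, Nat.testBit_eq_decide_div_mod_eq, decide_eq_true_eq]
      split_ifs <;> omega
    rw [a1, a2] at a
    simp only [vec, Int.ModEq, mul_zero, zero_add]
    split_ifs at * <;> omega
  · simp only [Int.ModEq]; omega
  · rw [show ∑ i, vec x 0 i = ((∑ i ∈ range 24, ed (dg x i)) % 512 : ℕ) - 192 by omega]
    exact h4

def tr (G : ℕ) : ℕ := sumN 576 fun t => Nat.shiftLeft (dg G (24 * (t % 24) + t / 24)) (16 * t)
def mk24 (f : ℕ → ℕ → ℤ) : ℕ := sumN 576 fun t => Nat.shiftLeft (f (t / 24) (t % 24) + 8).toNat (16 * t)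
def IDM : ℕ := 8 * (ones' 384 24 * OB) + 8 * ones' 400 24
def BAS : ℕ := mk24 basN
def pT : ℤ → ℤ → ℤ → Bool := fun _ _ _ => true

theorem vec_IDM : ∀ l : GolayPt, (E l : V) = vec IDM (gC.code l) := by decide +kernel
theorem vec_BAS : ∀ r < 24, bas r = vec BAS r := by decide +kernel
theorem cd_one : Cd IDM 1 := fun l => by rw [one_smul, vec_IDM]

theorem vec_tr (G : ℕ) (p q : GolayPt) : vec (tr G) (gC.code p) q = vec G (gC.code q) p := by
  have a := code_lt p
  have b := code_lt q
  simp only [vec, tr, sumN_eq, shl_eq]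
  rw [dg_sum _ _ (fun _ _ => dg_le _ _) _ (by omega), show (24 * gC.code p + gC.code q) % 24 = gC.code q by omega,
    show (24 * gC.code p + gC.code q) / 24 = gC.code p by omega]

/-- certify a matrix -/
def coChk (G : ℕ) : Bool := band (frc (tr G) fun T => mulChk 24 T G IDM) (frc BAS fun B => frc (mul 24 G B) fun Y =>
  band (mulChk 24 G B Y) (band (allB 23 (vchk Y 32 pT)) (vchk Y 64 pT 23)))

theorem exists_cd {G : ℕ} (h : coChk G = true) : ∃ g, Cd G g := by
  simp only [coChk, frc_eq, band_eq_true, allB_iff] at h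
  obtain ⟨h1, h2, h3, h4⟩ := h
  let A : V →+ V := AddMonoidHom.mk' (fun x p => ∑ l, x l * vec G (gC.code l) p) fun x y => funext fun p => by
    simp only [Pi.add_apply, add_mul, sum_add_distrib]
  have hA : ∀ x p, A x p = ∑ l, x l * vec G (gC.code l) p := fun _ _ => rfl
  have o : ∀ l l', dotInt (vec G (gC.code l)) (vec G (gC.code l')) = if l' = l then 64 else 0 := fun l l' => by
    have := mulChk_spec h1 (code_lt l) l'
    simp only [vec_tr, ← vec_IDM, E_apply] at this
    rw [dotInt, this]; split_ifs <;> rfl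
  have n : ∀ x, sqNorm (A x) = 64 * sqNorm x := fun x => by
    simp only [sqNorm, hA, sq, sum_mul_sum]
    rw [sum_comm, mul_sum]
    refine sum_congr rfl fun l _ => ?_
    rw [sum_comm, sum_congr rfl (g := fun l' => x l * x l' * if l' = l then 64 else 0) fun l' _ => by
      rw [← o, dotInt, mul_sum]; exact sum_congr rfl fun p _ => by ring]
    simp only [mul_ite, mul_zero, sum_ite_eq', mem_univ, if_true]; ring
  have k : Λ ≤ (Λ.map (zsmulAddGroupHom 8)).comap A := tri_bas.le _ fun r hr =>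
    ⟨vec (mul 24 G BAS) r, by
      rcases (show r < 23 ∨ r = 23 by omega) with h | rfl
      exacts [(vchk_spec (by norm_num) (h3 r h)).1, (vchk_spec (by norm_num) h4).1],
      funext fun p => by rw [hA, vec_BAS r hr, mulChk_spec h2 hr]; rfl⟩
  choose f hf1 hf2 using fun x : Λ => k x.2
  have hf : ∀ x, (8 : ℤ) • f x = A x := hf2
  have inj : ∀ {x y : V}, (8 : ℤ) • x = (8 : ℤ) • y → x = y := fun e => smul_right_injective _ (by norm_num) e
  obtain ⟨g, hg⟩ := exists_co (AddMonoidHom.mk' (fun x : Λ => (⟨f x, hf1 x⟩ : Λ)) fun x y => Subtype.ext (inj (by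
    simp only [AddSubgroup.coe_add, smul_add, hf, map_add]))) fun v => by
      have := n v
      rw [← hf, norm_zsmul] at this
      simp only [AddMonoidHom.mk'_apply]; omega
  refine ⟨g, fun l => inj ?_⟩
  rw [hg]
  simp only [AddMonoidHom.mk'_apply, hf]
  funext p
  simp [hA, E_apply]

theorem Cd.eq {G : ℕ} {g h : Co0} (hg : Cd G g) (hh : Cd G h) : g = h :=
  ext_E fun l => Subtype.ext ((hg l).trans (hh l).symm)

end H8.Le
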