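import Cfsg.Agent.H8.LeOa
import Cfsg.Agent.H8.LeOb
import Cfsg.Agent.H8.LeOc
import Cfsg.Agent.H8.XCo3

/-! H8.LeNF: orders `cK2, cK3, cKM, cKH, card_Co0`, orbits `or_*` of the vector stabilisers in `Co0`, normal forms
`nf32, nf48, nf64, nf2, nf3, nfM, nfH` for configurations of short vectors of the Leech lattice. -/

set_option autoImplicit false
set_option linter.all false
set_option maxRecDepth 200000

noncomputable section
namespace H8.Le
open Cfsg MulAction Finset
open H7 hiding band bor allL allL_iff

noncomputable def mp16 : ℕ := (Nat.lor (nat_lit 0x80008000800080008000800080008000800080010000800080008000800080008000800080008000800080008000800080008000800080008000800080008000800080008001000080008000800080008000800080008000800080008000800080008000800080008000800080008000800080008000800100008000800080008000800080008000800080008000800080008000800080008000800080008000800080008000800080010000800080008000800080008000800080008000800080008000800080008000800080008000800080008000800080008001000080008000800080008000800080008000800080008000800080008000800080008000800080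008000800080008000800100008000800080008000800080008000800080008000800080008000800080008000800080008000800080008000800080010000800080008000800080008000800080008000800080008000800080008000800080008000800080008000800080008001000080008000800080008000800080008000800080008000800080008000800080008000800080008000800080008000800100008000800080008000800080008000800080008000800080008000800080008000800080008000800080008000800080010000800080008000800080008000800080008000800080008000800080008000800080008000800080008000800080008001000080008000800080008000800080008000800080008000800080008000800080008000800080008000800080008000800100008000800080008000800080008000800080008000800080008000800080008000800080008000800080008000800080010000800080008000800080008000800080008000800080008000800080008000800080008000800080008000800080008001000080008000800080008000800080008000800080008000800080008000800080008000800080008000800080008000800100008000800080008000800080008000800080008000800080008000800080008000800080008000800080008000800080010000800080008000800080008000800080008000800080008000800080008000800080008000800080008000800080008001000080008000800080008000800080008000800080008000800080008000800080008000800080008000800080008000800100008000800080008000800080008000800080008000800080008000800080008000800080008000800080008000800080010000800080008000800080008000800080008000800080008000800080008000800080008000800080008000800080008001000080008000800080008000800080008000800080008000800080008000800080008000800080008000800080008000800100008)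 (Nat.shiftLeft (nat_lit 0x10000800080008000800080008000800080008000800080008000800080008000800080008000800080008000800080008000800080008000800080008000800080008000800080008000800080008000800080008000800080008000800100008001000080008000800080008000800080008000800080008000800080008) (nat_lit 8192)))
theorem mp16' : ∃ g : Co0, g • u = x16 := by
  obtain ⟨g, -, h⟩ := exists_map (F' := (nat_lit 0xc000800080008000800080008000800080008000800080008000800080008000800080008000800080008000c0008)) (G := mp16) Co2.xF_good (by decide +kernel)
  exact ⟨g, Subtype.ext ((vL_eq (H := Co2.xF) (j := 0) (x := u) (by decide +kernel) ▸ h 0 one_pos).trans (by decide +kernel))⟩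
noncomputable def mp8 : ℕ := (Nat.lor (nat_lit 0x700070009000700070009000b000700070009000b000900070009000900090005000700090009000500070007000500090009000700090009000b00090009000b0009000700090007000900090009000900070009000500090007000b000500090005000700090009000700090009000b00090007000900070009000500090005000700090009000900070007000900050009000b00090009000700090009000700090007000500070009000900090009000700090005000500070007000900050009000700090009000700090005000b0009000b00050007000900090005000900070009000900090007000700090009000900070005000900070009000900070009000700090007000900090009000900070005000900090007000b000900050009000700050009000b00090009000900070009000b000900070007000700070009000b0007000700050009000b000700070005000700070009000700070009000700090007000900070007000b000700090007000b0007000900090007000700070005000700070005000b00070009000700050007000900070007000700070009000700070007000500090007000b000b0009000700070009000b00070009000b000900070009000300070007000700090007000700070009000900070007000700090007000b0009000700070007000900070009000700090009000500050007000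5000900090007000700090009000500070009000900070009000500070009000b0009000b0009000500090009000700050005000900070007000900090009000700090009000700090009000700090007000500070009000500090009000b00090009000900070007000900090005000700090009000b000900090007000900070009000700090005000900090007000900090009000700070005000900090007000500090007000500050009000700090007000500070007000b0007000500070007000700090009000b000b00070009000700070009000700070007000900070009000700090005000500090007000900090005000b000b00090009000900070009000900070009000900090007000900070009000700070007000b00050007000b0007000500090007000700070009000b0007000900070007000900070009000700050007000700070007000900070007000b0009000900070007000b0005000b0007000900070007000900070009000b0005000700070007000b0009000700070007000900050007000700070009000700070009000b000700090003000900070009000b00070007000700090007000700070009000900070007000700090007000b00090007000700050007000900070005000700070007000700090007000700070005000900070007000700090007000700050007000b) (Nat.shiftLeft (nat_lit 0x90007000500070009000700070007000700050007000700070009000500070007000700050007000700090007000b00070005000700090007000500090009000900070009000900090007000700090009000900070009000d0007000900090005000700090007000900070007000700070005000b0007000b000900090007)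 (nat_lit 8192)))
theorem mp8' : ∃ g : Co0, g • u = u + v := by
  obtain ⟨g, -, h⟩ := exists_map (F' := (nat_lit 0x70007000700070007000700070007000700070007000700070007000700070007000700070007000700070007000b)) (G := mp8) Co2.xF_good (by decide +kernel)
  exact ⟨g, Subtype.ext ((vL_eq (H := Co2.xF) (j := 0) (x := u) (by decide +kernel) ▸ h 0 one_pos).trans (by decide +kernel))⟩
noncomputable def mp0 : ℕ := (Nat.lor (nat_lit 0x8000800080008000800080008000800080008000800080008000800080008000800080008000800080008000800100008000800080008000800080008000800080008000800080008000800080008000800080008000800080008000800080008001000080008000800080008000800080008000800080008000800080008000800100008000800080008000800080008000800080008000800080008000800080008000800080008000800080008000800080008000800080008000800080008000800080000000800080008000800080008000800080008000800080008000800080008000800080000000800080008000800080008000800080008000800080008000800080008000800080008000800080008000800080008000800080008000800080008000000080008000800080008000800080008001000080008000800080008000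8000800080008000800080008000800080008000800080008000800080008000800080008000800080008000800080008000800080008000800000008000800080008000800080008000800080010000800080008000800080008000800080008000800080008000800080008000800080008000800080008000800080008000800080008000800080008000800080008000800080008000800080008000800080008000000080008000800080008000800080008000800100008000800080008000800080008000800080008000800080008000800080008000800080008000800080008000800080008000800080008000800080008000800080008001000080008000800080008000800080008001000080008000800080008000800080008000800080008000800080008000800080008000800080008000800080008000800080008000800080008000800100008000800080008000800080008000800080008000800080008000800080008000800100008000800080008000800080008000800080008000800080008000800080008000800080008000800080008000800080008000800080008000800080008000800080010000800080008000800080008000800080008000800080008000800080008001000080008000800080008000800080008000800080008000800080008000800080008000800080008000800080008000800080010000800080008000800080008000800080008000800080008000800080008000800080008000800080008000800080008000800080008001000080008000800080008000800080008000800080008000800100008000800080008000800080008000800080008000800080008000800080008000800080008000800080008001000080008000800080008000800080008000800080008000800080008000800080008000800080008000800080008)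 (Nat.shiftLeft (nat_lit 0x8000800080008000800080008000800080008000800080008000800080008000800080008000800080008000800000008000800080008000800080008000800080008000800080008000800080008000800080008000800080008000000080008000800080008000800080008000800080008000800000008000800080008) (nat_lit 8192)))
theorem mp0' : ∃ g : Co0, g • u = u' := by
  obtain ⟨g, -, h⟩ := exists_map (F' := (nat_lit 0xc00080008000800080008000800080008000800080008000800080008000800080008000800080008000800080004)) (G := mp0) Co2.xF_good (by decide +kernel)
  exact ⟨g, Subtype.ext ((vL_eq (H := Co2.xF) (j := 0) (x := u) (by decide +kernel) ▸ h 0 one_pos).trans (by decide +kernel))⟩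

theorem cK2 : Nat.card K2 = 42305421312000 := Co2.cardK.trans Co2.card
theorem cK3 : Nat.card K3 = 495766656000 := Co3.cardK.trans Co3.card
theorem cKM : Nat.card KM = 898128000 := McL.cardK.trans McL.card
theorem cKH : Nat.card KH = 44352000 := HSc.cardK.trans HSc.card

theorem K2_uv : K2 ⊓ stabilizer Co0 (u + v) = KM := Subgroup.ext fun g => by
  simp only [Subgroup.mem_inf, mem_stabilizer_iff, smul_add']
  exact ⟨fun h => ⟨by simpa [h.1] using h.2, h.1⟩, fun h => ⟨h.2, by rw [h.1, h.2]⟩⟩

theorem m_a16 : x16 ∈ Sq (Qa 16) := mem_Qa.2 (by decide +kernel)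
theorem m_275 : x16 ∈ Sq (Qac 16 (-24)) := mem_Qac.2 (by decide +kernel)
theorem c_275 : (Sq (Qac 16 (-24))).ncard = 275 := (Sq_card _).trans (by decide +kernel)

theorem or_a0 : orbit K2 u' = Sq (Qa 0) :=
  (orbit_eq K2 u' (Sq_fin _) (inv_Qa m_a0) ub_uu (by rw [c_a0, cK2])).1
theorem or_a8 : orbit K2 (u + v) = Sq (Qa 8) :=
  (orbit_eq K2 _ (Sq_fin _) (inv_Qa m_a8) (K2_uv ▸ ubM) (by rw [c_a8, cK2])).1
theorem or_a16 : orbit K2 x16 = Sq (Qa 16) := orb_eq_of_ge (Sq_fin _) (inv_Qa m_a16) c_a16 o16
theorem or_c24 : orbit K3 u = Sq (Qc (-24)) :=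
  (orbit_eq K3 _ (Sq_fin _) (inv_Qc m_c24) ubM (by rw [c_c24, cK3])).1
theorem or_c16 : orbit K3 u' = Sq (Qc (-16)) :=
  (orbit_eq K3 _ (Sq_fin _) (inv_Qc m_c16) ubH (by rw [c_c16, cK3])).1
theorem or_M : orbit KM u' = Sq (Qac 0 (-16)) :=
  (orbit_eq KM _ (Sq_fin _) (inv_Qac m_M) ub_M22 (by rw [c_M, cKM])).1
theorem or_H : orbit KH u = Sq (Qbc 0 (-24)) :=
  (orbit_eq KH _ (Sq_fin _) (inv_Qbc m_H) ub_M22' (by rw [c_H, cKH])).1
theorem or_275 : orbit KM x16 = Sq (Qac 16 (-24)) := orb_eq_of_ge (Sq_fin _) (inv_Qac m_275) c_275 o275

theorem c_352 : (Sq (Qbc (-8) (-16))).ncard = 352 := (Sq_card _).trans (by decide +kernel)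
theorem c_1100 : (Sq (Qbc 16 (-16))).ncard = 1100 := (Sq_card _).trans (by decide +kernel)
theorem c_4125 : (Sq (Qbc 0 (-16))).ncard = 4125 := (Sq_card _).trans (by decide +kernel)
theorem c_5600 : (Sq (Qbc 8 (-16))).ncard = 5600 := (Sq_card _).trans (by decide +kernel)
theorem or_352 : orbit KH x352 = Sq (Qbc (-8) (-16)) :=
  orb_eq_of_ge (Sq_fin _) (inv_Qbc (mem_Qbc.2 (by decide +kernel))) c_352 o352
theorem or_1100 : orbit KH x1100 = Sq (Qbc 16 (-16)) :=
  orb_eq_of_ge (Sq_fin _) (inv_Qbc (mem_Qbc.2 (by decide +kernel))) c_1100 o1100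
theorem or_4125 : orbit KH x4125 = Sq (Qbc 0 (-16)) :=
  orb_eq_of_ge (Sq_fin _) (inv_Qbc (mem_Qbc.2 (by decide +kernel))) c_4125 o4125
theorem or_5600 : orbit KH x5600 = Sq (Qbc 8 (-16)) :=
  orb_eq_of_ge (Sq_fin _) (inv_Qbc (mem_Qbc.2 (by decide +kernel))) c_5600 o5600

abbrev K22 : Subgroup Co0 := KM ⊓ stabilizer Co0 u'
theorem inv22 {x : Λ} {c d e : ℤ} (hx : x ∈ Sq (Qabc c d e)) : ∀ g ∈ K22, g • x ∈ Sq (Qabc c d e) :=
  fun g hg => inv_Qabc hx g hg.1.2 hg.2 hg.1.1
theorem c_22 : (Sq (Qabc 8 0 (-24))).ncard = 22 := (Sq_card _).trans (by decide +kernel)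
theorem c_77 : (Sq (Qabc 16 0 (-24))).ncard = 77 := (Sq_card _).trans (by decide +kernel)
theorem c_330 : (Sq (Qabc 0 0 (-16))).ncard = 330 := (Sq_card _).trans (by decide +kernel)
theorem c_462 : (Sq (Qabc 0 16 (-16))).ncard = 462 := (Sq_card _).trans (by decide +kernel)
theorem c_1232 : (Sq (Qabc 0 8 (-16))).ncard = 1232 := (Sq_card _).trans (by decide +kernel)
theorem or_22 : orbit K22 x22 = Sq (Qabc 8 0 (-24)) :=
  orb_eq_of_ge (Sq_fin _) (inv22 (mem_Qabc.2 (by decide +kernel))) c_22 o22
theorem or_77 : orbit K22 x77 = Sq (Qabc 16 0 (-24)) :=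
  orb_eq_of_ge (Sq_fin _) (inv22 (mem_Qabc.2 (by decide +kernel))) c_77 o77
theorem or_330 : orbit K22 x330 = Sq (Qabc 0 0 (-16)) :=
  orb_eq_of_ge (Sq_fin _) (inv22 (mem_Qabc.2 (by decide +kernel))) c_330 o330
theorem or_462 : orbit K22 x462 = Sq (Qabc 0 16 (-16)) :=
  orb_eq_of_ge (Sq_fin _) (inv22 (mem_Qabc.2 (by decide +kernel))) c_462 o462
theorem or_1232 : orbit K22 x1232 = Sq (Qabc 0 8 (-16)) :=
  orb_eq_of_ge (Sq_fin _) (inv22 (mem_Qabc.2 (by decide +kernel))) c_1232 o1232

theorem dot_inv (g : Co0) (a y : Λ) : dotInt (a : V) (g⁻¹ • y : Λ) = dotInt ((g • a : Λ) : V) y := by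
  rw [← dot_smul g, smul_inv_smul]

theorem dot_cases {x y : Λ} (hx : sqNorm (x : V) = 32) (hy : sqNorm (y : V) = 32) :
    y = x ∨ y = -x ∨ dotInt (x : V) y ∈ ({16, 8, 0, -8, -16} : Set ℤ) := by
  by_cases h1 : y = x
  · exact Or.inl h1
  by_cases h2 : y = -x
  · exact Or.inr (Or.inl h2)
  have a := min_norm (x - y).2 fun h => h1 (sub_eq_zero.1 (Subtype.ext h)).symm
  have b := min_norm (x + y).2 fun h => h2 (eq_neg_of_add_eq_zero_right (Subtype.ext h))
  rw [AddSubgroup.coe_sub, norm_sub] at a
  rw [AddSubgroup.coe_add, norm_add] at b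
  have c := dot_dvd x.2 y.2
  simp only [Set.mem_insert_iff, Set.mem_singleton_iff]
  omega

theorem of_orb {K : Subgroup Co0} {x0 y : Λ} {T : Set Λ} (h : orbit K x0 = T) (hy : y ∈ T) : ∃ k ∈ K, k • x0 = y := by
  rw [← h] at hy
  obtain ⟨k, e⟩ := hy
  exact ⟨k, k.2, e⟩

theorem nf32 {x : Λ} (hx : sqNorm (x : V) = 32) : ∃ g : Co0, g • u = x := by
  have k : ∀ {x0 y : Λ} {c : ℤ}, orbit K2 x0 = Sq (Qa c) → (∃ g : Co0, g • u = x0) → sqNorm (y : V) = 32 →
      dotInt (u : V) y = c → ∃ g : Co0, g • u = y := fun h ⟨g, e⟩ h1 h2 => by
    obtain ⟨k, -, e'⟩ := of_orb h (mem_Qa.2 ⟨h1, h2⟩)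
    exact ⟨k * g, by rw [mul_smul, e, e']⟩
  have n : ∀ {y : Λ}, (∃ g : Co0, g • u = -y) → ∃ g : Co0, g • u = y := fun ⟨g, e⟩ =>
    ⟨neg * g, by rw [mul_smul, e, neg_smul', neg_neg]⟩
  have hn : sqNorm ((-x : Λ) : V) = 32 := (norm_neg _).trans hx
  rcases dot_cases n_u hx with h | h | h | h | h | h | h
  · exact ⟨1, by rw [h, one_smul]⟩
  · exact ⟨neg, by rw [h, neg_smul']⟩
  · exact k or_a16 mp16' hx h
  · exact k or_a8 mp8' hx h
  · exact k or_a0 mp0' hx h
  · exact n (k or_a8 mp8' hn (by rw [AddSubgroup.coe_neg, dot_neg, h]; rfl))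
  · exact n (k or_a16 mp16' hn (by rw [AddSubgroup.coe_neg, dot_neg, h]; rfl))

def SN (N : ℤ) : Set Λ := {x | sqNorm (x : V) = N}
theorem SN_card (N : ℤ) : (SN N).ncard = {x : V | x ∈ Λ ∧ sqNorm x = N}.ncard := by
  rw [← Set.ncard_image_of_injective _ Subtype.val_injective]
  congr 1
  ext x
  exact ⟨by rintro ⟨y, hy, rfl⟩; exact ⟨y.2, hy⟩, fun h => ⟨⟨x, h.1⟩, h.2, rfl⟩⟩

theorem or32 : orbit (⊤ : Subgroup Co0) u = SN 32 := Set.Subset.antisymm
  (by rintro _ ⟨g, rfl⟩; exact (norm_smul' g.1 u).trans n_u) fun x hx => by
    obtain ⟨g, e⟩ := nf32 hx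
    exact ⟨⟨g, trivial⟩, e⟩

theorem card_Co0 : Nat.card Co0 = 8315553613086720000 := by
  rw [← Subgroup.card_top, card_eq_orbit_mul ⊤ u, or32, SN_card, n4, top_inf_eq, cK2]

theorem nf48 {x : Λ} (hx : sqNorm (x : V) = 48) : ∃ g : Co0, g • v = x := by
  obtain ⟨g, -, e⟩ := of_orb (orbit_eq (⊤ : Subgroup Co0) v (T := SN 48) (finite_normΛ 48)
    (fun g _ => (norm_smul' g v).trans n_v) ((top_inf_eq K3).symm ▸ ub3)
    (by rw [SN_card, n6, Subgroup.card_top, card_Co0])).1 hx
  exact ⟨g, e⟩

theorem orE : orbit (⊤ : Subgroup Co0) (E none) = SN 64 ∧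
    (SN 64).ncard * Nat.card ↥(⊤ ⊓ stabilizer Co0 (E none)) = Nat.card (⊤ : Subgroup Co0) :=
  orbit_eq (⊤ : Subgroup Co0) (E none) (T := SN 64) (finite_normΛ 64)
    (fun g _ => (norm_smul' g _).trans (norm_E _)) ((top_inf_eq (stabilizer Co0 (E none))).symm ▸ ub_E)
    (by rw [SN_card, n8, Subgroup.card_top, card_Co0])

theorem nf64 {x : Λ} (hx : sqNorm (x : V) = 64) : ∃ g : Co0, g • E none = x := by
  obtain ⟨g, -, e⟩ := of_orb orE.1 hx
  exact ⟨g, e⟩

theorem nf2 {x0 x y : Λ} {c : ℤ} (h : orbit K2 x0 = Sq (Qa c)) (hx : sqNorm (x : V) = 32) (hy : sqNorm (y : V) = 32)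
    (hd : dotInt (x : V) y = c) : ∃ g : Co0, g • u = x ∧ g • x0 = y := by
  obtain ⟨g, rfl⟩ := nf32 hx
  obtain ⟨k, hk, e⟩ := of_orb h (mem_Qa.2 ⟨(norm_smul' g⁻¹ y).trans hy, (dot_inv _ _ _).trans hd⟩)
  exact ⟨g * k, by rw [mul_smul, hk], by rw [mul_smul, e, smul_inv_smul]⟩

theorem nf3 {x0 x y : Λ} {c : ℤ} (h : orbit K3 x0 = Sq (Qc c)) (hx : sqNorm (x : V) = 48) (hy : sqNorm (y : V) = 32)
    (hd : dotInt (x : V) y = c) : ∃ g : Co0, g • v = x ∧ g • x0 = y := by
  obtain ⟨g, rfl⟩ := nf48 hx
  obtain ⟨k, hk, e⟩ := of_orb h (mem_Qc.2 ⟨(norm_smul' g⁻¹ y).trans hy, (dot_inv _ _ _).trans hd⟩)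
  exact ⟨g * k, by rw [mul_smul, hk], by rw [mul_smul, e, smul_inv_smul]⟩

theorem nfM {x0 a b y : Λ} {c d : ℤ} (h : orbit KM x0 = Sq (Qac c d)) (ha : sqNorm (a : V) = 48)
    (hb : sqNorm (b : V) = 32) (hab : dotInt (a : V) b = -24) (hy : sqNorm (y : V) = 32) (h1 : dotInt (b : V) y = c)
    (h2 : dotInt (a : V) y = d) : ∃ g : Co0, g • v = a ∧ g • u = b ∧ g • x0 = y := by
  obtain ⟨g, rfl, rfl⟩ := nf3 or_c24 ha hb hab
  obtain ⟨k, hk, e⟩ := of_orb h (mem_Qac.2 ⟨(norm_smul' g⁻¹ y).trans hy, (dot_inv _ _ _).trans h1,
    (dot_inv _ _ _).trans h2⟩)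
  exact ⟨g * k, by rw [mul_smul, hk.1], by rw [mul_smul, hk.2], by rw [mul_smul, e, smul_inv_smul]⟩

theorem nfH {x0 a b y : Λ} {c d : ℤ} (h : orbit KH x0 = Sq (Qbc c d)) (ha : sqNorm (a : V) = 48)
    (hb : sqNorm (b : V) = 32) (hab : dotInt (a : V) b = -16) (hy : sqNorm (y : V) = 32) (h1 : dotInt (b : V) y = c)
    (h2 : dotInt (a : V) y = d) : ∃ g : Co0, g • v = a ∧ g • u' = b ∧ g • x0 = y := by
  obtain ⟨g, rfl, rfl⟩ := nf3 or_c16 ha hb hab
  obtain ⟨k, hk, e⟩ := of_orb h (mem_Qbc.2 ⟨(norm_smul' g⁻¹ y).trans hy, (dot_inv _ _ _).trans h1,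
    (dot_inv _ _ _).trans h2⟩)
  exact ⟨g * k, by rw [mul_smul, hk.1], by rw [mul_smul, hk.2], by rw [mul_smul, e, smul_inv_smul]⟩

theorem nf22 {x0 y : Λ} {c d e : ℤ} (h : orbit K22 x0 = Sq (Qabc c d e)) (g : Co0) (hy : sqNorm (y : V) = 32)
    (h1 : dotInt ((g • u : Λ) : V) y = c) (h2 : dotInt ((g • u' : Λ) : V) y = d) (h3 : dotInt ((g • v : Λ) : V) y = e) :
    ∃ g' : Co0, g' • v = g • v ∧ g' • u = g • u ∧ g' • u' = g • u' ∧ g' • x0 = y := by
  obtain ⟨k, hk, e⟩ := of_orb h (mem_Qabc.2 ⟨(norm_smul' g⁻¹ y).trans hy, (dot_inv _ _ _).trans h1,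
    (dot_inv _ _ _).trans h2, (dot_inv _ _ _).trans h3⟩)
  exact ⟨g * k, by rw [mul_smul, hk.1.1], by rw [mul_smul, hk.1.2], by rw [mul_smul, hk.2],
    by rw [mul_smul, e, smul_inv_smul]⟩

section
variable {G Ω : Type*} [Group G] [MulAction G Ω] {a b c d x y z t x' y' z' t' : Ω}
theorem tr1 (h : ∃ g : G, g • a = x) (h' : ∃ g : G, g • a = x') : ∃ g : G, g • x = x' := by
  obtain ⟨g, rfl⟩ := h
  obtain ⟨g', rfl⟩ := h'
  exact ⟨g' * g⁻¹, by simp [mul_smul]⟩
theorem tr2 (h : ∃ g : G, g • a = x ∧ g • b = y) (h' : ∃ g : G, g • a = x' ∧ g • b = y') :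
    ∃ g : G, g • x = x' ∧ g • y = y' := by
  obtain ⟨g, rfl, rfl⟩ := h
  obtain ⟨g', rfl, rfl⟩ := h'
  exact ⟨g' * g⁻¹, by simp [mul_smul]⟩
theorem tr3 (h : ∃ g : G, g • a = x ∧ g • b = y ∧ g • c = z) (h' : ∃ g : G, g • a = x' ∧ g • b = y' ∧ g • c = z') :
    ∃ g : G, g • x = x' ∧ g • y = y' ∧ g • z = z' := by
  obtain ⟨g, rfl, rfl, rfl⟩ := h
  obtain ⟨g', rfl, rfl, rfl⟩ := h'
  exact ⟨g' * g⁻¹, by simp [mul_smul]⟩
theorem tr4 (h : ∃ g : G, g • a = x ∧ g • b = y ∧ g • c = z ∧ g • d = t)
    (h' : ∃ g : G, g • a = x' ∧ g • b = y' ∧ g • c = z' ∧ g • d = t') :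
    ∃ g : G, g • x = x' ∧ g • y = y' ∧ g • z = z' ∧ g • t = t' := by
  obtain ⟨g, rfl, rfl, rfl, rfl⟩ := h
  obtain ⟨g', rfl, rfl, rfl, rfl⟩ := h'
  exact ⟨g' * g⁻¹, by simp [mul_smul]⟩
end

end H8.Le
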