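import Cfsg.Agent.H8.LeGrp

/-! H8.LeUb: sets `Sq Q` of minimal vectors given by inner products with `u, u', v`, upper bounds `ub2, ub3, ubM, ubH` for the
orders of the vector stabilisers `K2, K3, KM, KH` in `Co0`, `orb_T`, `exists_map`. -/

set_option autoImplicit false
set_option linter.all false

noncomputable section
namespace H8.Le
open Cfsg MulAction Finset
open H7 hiding band bor allL allL_iff

def Sq (Q : ℤ → ℤ → ℤ → Bool) : Set Λ :=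
  {x | sqNorm (x : V) = 32 ∧ Q (dotInt (u : V) x) (dotInt (u' : V) x) (dotInt (v : V) x) = true}
def cq (Q : ℤ → ℤ → ℤ → Bool) : ℕ := cnt5 fun a b s => Q (4 * (a + b)) (4 * (a - b)) (-4 * a - s)

theorem Sq_card (Q : ℤ → ℤ → ℤ → Bool) : (Sq Q).ncard = cq Q :=
  cnt32 _ _ fun x => by rw [Sq, Set.mem_setOf_eq, dot_u, dot_u', dot_v]
theorem Sq_fin (Q : ℤ → ℤ → ℤ → Bool) : (Sq Q).Finite := fin32 fun _ h => h.1

theorem dot_fix {g : Co0} {a : Λ} (h : g • a = a) (x : Λ) : dotInt (a : V) (g • x : Λ) = dotInt (a : V) x := by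
  conv_lhs => rw [← h, dot_smul]

theorem card_le_of {G Ω : Type*} [Group G] [Finite G] [MulAction G Ω] (H : Subgroup G) (ω : Ω) {T : Set Ω}
    (hT : T.Finite) (h1 : ∀ h ∈ H, h • ω ∈ T) {a b : ℕ} (h0 : T.ncard = a)
    (h2 : Nat.card ↥(H ⊓ stabilizer G ω) ≤ b) : Nat.card H ≤ a * b := by
  rw [card_eq_orbit_mul H ω, ← h0]
  exact Nat.mul_le_mul (Set.ncard_le_ncard (by rintro _ ⟨h, rfl⟩; exact h1 h h.2) hT) h2

abbrev K2 : Subgroup Co0 := stabilizer Co0 u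
abbrev K3 : Subgroup Co0 := stabilizer Co0 v
abbrev KM : Subgroup Co0 := stabilizer Co0 v ⊓ stabilizer Co0 u
abbrev KH : Subgroup Co0 := stabilizer Co0 v ⊓ stabilizer Co0 u'

theorem n_u : sqNorm (u : V) = 32 := by decide +kernel
theorem n_u' : sqNorm (u' : V) = 32 := by decide +kernel
theorem n_v : sqNorm (v : V) = 48 := by decide +kernel
theorem d_uu' : dotInt (u : V) u' = 0 := by decide +kernel
theorem d_u'u : dotInt (u' : V) u = 0 := by decide +kernel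
theorem d_vu : dotInt (v : V) u = -24 := by decide +kernel
theorem d_vu' : dotInt (v : V) u' = -16 := by decide +kernel

def Qa (c : ℤ) : ℤ → ℤ → ℤ → Bool := fun a _ _ => decide (a = c)
def Qc (c : ℤ) : ℤ → ℤ → ℤ → Bool := fun _ _ a => decide (a = c)
def Qac (c d : ℤ) : ℤ → ℤ → ℤ → Bool := fun a _ b => band (decide (a = c)) (decide (b = d))
def Qbc (c d : ℤ) : ℤ → ℤ → ℤ → Bool := fun _ a b => band (decide (a = c)) (decide (b = d))
def Qabc (c d e : ℤ) : ℤ → ℤ → ℤ → Bool := fun a b s => band (decide (a = c)) (band (decide (b = d)) (decide (s = e)))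

theorem mem_Qa {c : ℤ} {x : Λ} : x ∈ Sq (Qa c) ↔ sqNorm (x : V) = 32 ∧ dotInt (u : V) x = c := by simp [Sq, Qa]
theorem mem_Qc {c : ℤ} {x : Λ} : x ∈ Sq (Qc c) ↔ sqNorm (x : V) = 32 ∧ dotInt (v : V) x = c := by simp [Sq, Qc]
theorem mem_Qac {c d : ℤ} {x : Λ} :
    x ∈ Sq (Qac c d) ↔ sqNorm (x : V) = 32 ∧ dotInt (u : V) x = c ∧ dotInt (v : V) x = d := by
  simp [Sq, Qac, band_eq_true]
theorem mem_Qbc {c d : ℤ} {x : Λ} :
    x ∈ Sq (Qbc c d) ↔ sqNorm (x : V) = 32 ∧ dotInt (u' : V) x = c ∧ dotInt (v : V) x = d := by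
  simp [Sq, Qbc, band_eq_true]
theorem mem_Qabc {c d e : ℤ} {x : Λ} : x ∈ Sq (Qabc c d e) ↔
    sqNorm (x : V) = 32 ∧ dotInt (u : V) x = c ∧ dotInt (u' : V) x = d ∧ dotInt (v : V) x = e := by
  simp [Sq, Qabc, band_eq_true]

theorem inv_Qa {x : Λ} {c : ℤ} (hx : x ∈ Sq (Qa c)) : ∀ g ∈ K2, g • x ∈ Sq (Qa c) := fun g hg => by
  rw [mem_Qa, norm_smul', dot_fix hg]; exact mem_Qa.1 hx
theorem inv_Qc {x : Λ} {c : ℤ} (hx : x ∈ Sq (Qc c)) : ∀ g ∈ K3, g • x ∈ Sq (Qc c) := fun g hg => by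
  rw [mem_Qc, norm_smul', dot_fix hg]; exact mem_Qc.1 hx
theorem inv_Qac {x : Λ} {c d : ℤ} (hx : x ∈ Sq (Qac c d)) : ∀ g ∈ KM, g • x ∈ Sq (Qac c d) := fun g hg => by
  rw [mem_Qac, norm_smul', dot_fix hg.1, dot_fix hg.2]; exact mem_Qac.1 hx
theorem inv_Qbc {x : Λ} {c d : ℤ} (hx : x ∈ Sq (Qbc c d)) : ∀ g ∈ KH, g • x ∈ Sq (Qbc c d) := fun g hg => by
  rw [mem_Qbc, norm_smul', dot_fix hg.1, dot_fix hg.2]; exact mem_Qbc.1 hx
theorem inv_Qabc {x : Λ} {c d e : ℤ} (hx : x ∈ Sq (Qabc c d e)) (g : Co0) (h1 : g • u = u) (h2 : g • u' = u')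
    (h3 : g • v = v) : g • x ∈ Sq (Qabc c d e) := by
  rw [mem_Qabc, norm_smul', dot_fix h1, dot_fix h2, dot_fix h3]; exact mem_Qabc.1 hx

theorem c_a0 : (Sq (Qa 0)).ncard = 93150 := (Sq_card _).trans (by decide +kernel)
theorem c_a8 : (Sq (Qa 8)).ncard = 47104 := (Sq_card _).trans (by decide +kernel)
theorem c_a16 : (Sq (Qa 16)).ncard = 4600 := (Sq_card _).trans (by decide +kernel)
theorem c_c8 : (Sq (Qc 8)).ncard = 48600 := (Sq_card _).trans (by decide +kernel)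
theorem c_c16 : (Sq (Qc (-16))).ncard = 11178 := (Sq_card _).trans (by decide +kernel)
theorem c_c24 : (Sq (Qc (-24))).ncard = 552 := (Sq_card _).trans (by decide +kernel)
theorem c_M : (Sq (Qac 0 (-16))).ncard = 2025 := (Sq_card _).trans (by decide +kernel)
theorem c_H : (Sq (Qbc 0 (-24))).ncard = 100 := (Sq_card _).trans (by decide +kernel)

theorem m_a0 : u' ∈ Sq (Qa 0) := mem_Qa.2 ⟨n_u', d_uu'⟩
theorem m_a8 : u + v ∈ Sq (Qa 8) := mem_Qa.2 (by decide +kernel)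
theorem m_c8 : E none + v ∈ Sq (Qc 8) := mem_Qc.2 (by simp only [AddSubgroup.coe_add, E]; decide +kernel)
theorem m_c16 : u' ∈ Sq (Qc (-16)) := mem_Qc.2 ⟨n_u', d_vu'⟩
theorem m_c24 : u ∈ Sq (Qc (-24)) := mem_Qc.2 ⟨n_u, d_vu⟩
theorem m_M : u' ∈ Sq (Qac 0 (-16)) := mem_Qac.2 ⟨n_u', d_uu', d_vu'⟩
theorem m_H : u ∈ Sq (Qbc 0 (-24)) := mem_Qbc.2 ⟨n_u, d_u'u, d_vu⟩

theorem ub_M22 : Nat.card ↥(KM ⊓ stabilizer Co0 u') ≤ 443520 := ub_vuu _ fun _ h => ⟨h.1.1, h.1.2, h.2⟩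
theorem ub_M22' : Nat.card ↥(KH ⊓ stabilizer Co0 u) ≤ 443520 := ub_vuu _ fun _ h => ⟨h.1.1, h.2, h.1.2⟩

theorem ub2 : Nat.card K2 ≤ 42305421312000 := card_le_of _ _ (Sq_fin _) (inv_Qa m_a0) c_a0 ub_uu
theorem ub3 : Nat.card K3 ≤ 495766656000 := card_le_of _ _ (Sq_fin _) (inv_Qc m_c8) c_c8 ub_vE
theorem ubM : Nat.card KM ≤ 898128000 := card_le_of _ _ (Sq_fin _) (inv_Qac m_M) c_M ub_M22
theorem ubH : Nat.card KH ≤ 44352000 := card_le_of _ _ (Sq_fin _) (inv_Qbc m_H) c_H ub_M22'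

theorem vL_eq {H j : ℕ} {x : Λ} (h : vec H j = x) : vL H j = x := Subtype.ext ((vL_coe (h ▸ x.2)).trans h)

theorem iso2 : Nonempty (Spor.Co2 ≃* K2) := sub_iso _ _ inf_le_left fun g => ⟨fun h => ⟨g.2, h⟩, fun h => h.2⟩
theorem iso3 : Nonempty (Spor.Co3 ≃* K3) := sub_iso _ _ inf_le_left fun g => ⟨fun h => ⟨g.2, h⟩, fun h => h.2⟩
theorem isoM : Nonempty (Spor.McL ≃* KM) := sub_iso _ _ (inf_le_left.trans inf_le_left) fun g =>
  ⟨fun h => ⟨⟨g.2, h.1⟩, h.2⟩, fun h => ⟨h.1.2, h.2⟩⟩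
theorem isoH : Nonempty (Spor.HS ≃* KH) := sub_iso _ _ (inf_le_left.trans inf_le_left) fun g =>
  ⟨fun h => ⟨⟨g.2, h.1⟩, h.2⟩, fun h => ⟨h.1.2, h.2⟩⟩

/-- an orbit given by a spanning tree on a list of vectors -/
theorem orb_T {n H c F : ℕ} {MS : List ℕ} {r lab par dep : ℕ} (hF : Good c F) {x : Λ} (hr : vec H r = x)
    (h1 : allL MS (fun G => band (fxChk c F G) (frc (mul n G H) (mulChk n G H))) = true)
    (h2 : srtR n H 0 n = true) (h3 : trR n H MS r lab par dep 0 n = true) (K : Subgroup Co0) (hK : Fix c F ≤ K) :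
    n ≤ (orbit K x).ncard := by
  have := (orbit_ge hF (hr ▸ x.2) h1 h2 h3 K hK).2
  rwa [vL_eq hr] at this

theorem orb_eq_of_ge {G Ω : Type*} [Group G] [MulAction G Ω] {K : Subgroup G} {x : Ω} {T : Set Ω} (hT : T.Finite)
    (h1 : ∀ h ∈ K, h • x ∈ T) {n : ℕ} (h2 : T.ncard = n) (h3 : n ≤ (orbit K x).ncard) : orbit K x = T :=
  Set.eq_of_subset_of_ncard_le (by rintro _ ⟨h, rfl⟩; exact h1 h h.2) (h2 ▸ h3) hT

theorem exists_map {c F F' G : ℕ} (hF : Good c F) (h : band (coChk G) (Nat.beq (mul c G F) F') = true) :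
    ∃ g : Co0, Cd G g ∧ ∀ j < c, ((g • vL F j : Λ) : V) = vec F' j := by
  rw [band_eq_true, Nat.beq_eq] at h
  obtain ⟨g, hg⟩ := exists_cd h.1
  exact ⟨g, hg, fun j hj => by rw [hF.mul hg j hj, h.2]⟩

theorem fix1 {F : ℕ} {a : Λ} (h : vec F 0 = a) {c : ℕ} (hc : 0 < c) : Fix c F ≤ stabilizer Co0 a := fun g hg => by
  have := mem_Fix.1 hg 0 hc; rwa [vL_eq h] at this
theorem fixj {F : ℕ} {a : Λ} (j : ℕ) (h : vec F j = a) {c : ℕ} (hc : j < c) : Fix c F ≤ stabilizer Co0 a :=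
  fun g hg => by have := mem_Fix.1 hg j hc; rwa [vL_eq h] at this

end H8.Le
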