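import Cfsg.Agent.H7.M24
import Cfsg.Prelude.Def_Spor_Conway
import Mathlib.LinearAlgebra.FreeModule.Finite.CardQuotient

/-! H8.Leech: basic theory of `Cfsg.leechLattice` (namespace `H8.Le`).
`LM` / `mem_iff` (membership by a parity `m` and a code word), `even`, `min_norm`, `dot_dvd`, `cong_short`,
`perm_mem`, `sign_mem`, `gen_tri`, `index_tri` (triangular bases), `bas` (a basis), `le_of_bas`, `finite_norm`,
linearity of `Co0` (`smul_add'`, `dot_smul`, `lin`), monomial elements `mono`, `mono_of_cross`. -/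

set_option autoImplicit false

namespace H8.Le
open Cfsg H7 MulAction Finset
open scoped Pointwise

abbrev V := GolayPt → ℤ
abbrev Λ := leechLattice

/-- membership by a residue and a code word -/
def LM (x : V) : Prop :=
  ∃ m : ℤ, ∃ c ∈ CC, (∀ i, x i ≡ m + (if i ∈ c then 2 else 0) [ZMOD 4]) ∧ ∑ i, x i ≡ 4 * m [ZMOD 8]

theorem empty_mem : (∅ : Finset GolayPt) ∈ CC := Spor.empty_mem_supports_golayCode
theorem univ_mem : (univ : Finset GolayPt) ∈ CC := Spor.univ_mem_supports_golayCode

theorem set_iff {x : V} : x ∈ leechSet ↔ LM x := by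
  constructor
  · rintro ⟨m, h1, h2, h3⟩
    refine ⟨m, _, h3 (m + 2), fun i => ?_, h2⟩
    have := h1 i
    simp only [Finset.mem_filter, mem_univ, true_and]
    simp only [Int.ModEq] at *
    split_ifs <;> omega
  · rintro ⟨m, c, hc, h1, h2⟩
    refine ⟨m, fun i => ?_, h2, fun k => ?_⟩
    · have := h1 i
      simp only [Int.ModEq] at *
      split_ifs at this <;> omega
    · have key : ∀ s ∈ CC, (∀ i, i ∈ s ↔ x i % 4 = k % 4) →
          (univ.filter fun i => x i ≡ k [ZMOD 4]) ∈ CC := fun s hs h => by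
        convert hs using 1
        ext i; rw [Finset.mem_filter, h i]; simp [Int.ModEq]
      by_cases a : (k - m) % 4 = 2
      · refine key c hc fun i => ?_
        have := h1 i
        simp only [Int.ModEq] at this
        by_cases hi : i ∈ c <;> simp only [hi, if_true, if_false, true_iff, false_iff] at * <;> omega
      by_cases b : (k - m) % 4 = 0
      · refine key cᶜ (compl_mem hc) fun i => ?_
        have := h1 i
        simp only [Int.ModEq] at this
        by_cases hi : i ∈ c <;> simp only [hi, mem_compl, if_true, if_false, true_iff, false_iff,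
          not_true, not_false_iff] at * <;> omega
      · refine key ∅ empty_mem fun i => ?_
        have := h1 i
        simp only [Int.ModEq] at this
        by_cases hi : i ∈ c <;> simp only [hi, notMem_empty, if_true, if_false, false_iff] at * <;> omega

def LMs : AddSubgroup V where
  carrier := {x | LM x}
  zero_mem' := ⟨0, ∅, empty_mem, by simp, by simp⟩
  add_mem' := by
    rintro x y ⟨m, c, hc, h1, h2⟩ ⟨n, d, hd, h3, h4⟩
    refine ⟨m + n, _, symmDiff_mem hc hd, fun i => ?_, ?_⟩
    · have a := h1 i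
      have b := h3 i
      simp only [Int.ModEq, Pi.add_apply, mem_symmDiff] at *
      by_cases hi : i ∈ c <;> by_cases hj : i ∈ d <;> simp only [hi, hj, if_true, if_false] at * <;>
        simp <;> omega
    · simp only [Pi.add_apply, sum_add_distrib, mul_add]; exact h2.add h4
  neg_mem' := by
    rintro x ⟨m, c, hc, h1, h2⟩
    refine ⟨-m, c, hc, fun i => ?_, ?_⟩
    · have a := h1 i
      simp only [Int.ModEq, Pi.neg_apply] at *
      split_ifs at * <;> omega
    · simp only [Pi.neg_apply, sum_neg_distrib, mul_neg]; exact h2.neg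

theorem coe_LMs : (LMs : Set V) = leechSet := Set.ext fun _ => set_iff.symm

theorem mem_iff {x : V} : x ∈ Λ ↔ LM x := by
  have : Λ = LMs := by rw [Λ, leechLattice, ← coe_LMs, AddSubgroup.closure_eq]
  rw [this]; rfl

theorem mem_iff' {x : V} : x ∈ Λ ↔ ∃ m : ℤ, (m = 0 ∨ m = 1) ∧ ∃ c ∈ CC,
    (∀ i, x i % 4 = m + (if i ∈ c then 2 else 0)) ∧ (∑ i, x i) % 8 = 4 * m := by
  rw [mem_iff]
  constructor
  · rintro ⟨m, c, hc, h1, h2⟩
    simp only [Int.ModEq] at *
    by_cases a : m % 4 < 2
    · refine ⟨m % 2, by omega, c, hc, fun i => ?_, by omega⟩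
      have := h1 i
      split_ifs at * <;> omega
    · refine ⟨m % 2, by omega, cᶜ, compl_mem hc, fun i => ?_, by omega⟩
      have := h1 i
      by_cases hi : i ∈ c <;> simp only [hi, mem_compl, if_true, if_false, not_true, not_false_iff] at * <;> omega
  · rintro ⟨m, hm, c, hc, h1, h2⟩
    refine ⟨m, c, hc, fun i => ?_, ?_⟩
    · have := h1 i
      simp only [Int.ModEq]
      split_ifs at * <;> omega
    · simp only [Int.ModEq]; omega

theorem card_pt' : (univ : Finset GolayPt).card = 24 := by simp [GolayPt]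

theorem sum_ite_card (c : Finset GolayPt) (a : ℤ) : ∑ i, (if i ∈ c then a else 0) = a * c.card := by
  rw [sum_ite_mem, univ_inter, sum_const, nsmul_eq_mul, mul_comm]

theorem even {x : V} (hx : x ∈ Λ) : (16 : ℤ) ∣ sqNorm x := by
  obtain ⟨m, hm, c, hc, h1, h2⟩ := mem_iff'.1 hx
  have h3 : (16 : ℤ) ∣ ∑ i, (x i ^ 2 - m * (2 * x i - 1) - if i ∈ c then 4 else 0) := by
    refine dvd_sum fun i _ => ?_
    have a := h1 i
    have e : x i = 4 * (x i / 4) + x i % 4 := by omega
    rw [e, a]
    generalize x i / 4 = t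
    rcases hm with rfl | rfl <;> split_ifs
    exacts [⟨t ^ 2 + t, by ring⟩, ⟨t ^ 2, by ring⟩, ⟨t ^ 2 + t, by ring⟩, ⟨t ^ 2, by ring⟩]
  simp only [sum_sub_distrib, ← mul_sum, sum_ite_card, sum_const, card_pt'] at h3
  have hw := weights hc
  unfold sqNorm
  simp only [nsmul_eq_mul, Nat.cast_ofNat] at h3
  rcases hm with rfl | rfl <;> omega

theorem norm_nonneg (x : V) : 0 ≤ sqNorm x := sum_nonneg fun _ _ => sq_nonneg _

theorem sq_le_norm (x : V) (i : GolayPt) : x i ^ 2 ≤ sqNorm x :=
  single_le_sum (f := fun i => x i ^ 2) (fun _ _ => sq_nonneg _) (mem_univ i)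

theorem eq_zero_of_norm {x : V} (h : sqNorm x ≤ 0) : x = 0 := funext fun i => by
  have := sq_le_norm x i
  exact pow_eq_zero_iff two_ne_zero |>.1 (le_antisymm (by linarith) (sq_nonneg _))

theorem min_norm {x : V} (hx : x ∈ Λ) (h0 : x ≠ 0) : 32 ≤ sqNorm x := by
  have he := even hx
  have hp : 0 < sqNorm x := lt_of_not_ge fun h => h0 (eq_zero_of_norm h)
  obtain ⟨m, hm, c, hc, h1, h2⟩ := mem_iff'.1 hx
  have hl : ∑ i, (m + if i ∈ c then 4 - 4 * m else 0) ≤ sqNorm x := sum_le_sum fun i _ => by
    have a := h1 i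
    have : x i ≤ -2 ∨ x i = -1 ∨ x i = 0 ∨ x i = 1 ∨ 2 ≤ x i := by omega
    rcases hm with rfl | rfl <;> split_ifs at * <;> rcases this with h | h | h | h | h <;>
      first | omega | nlinarith
  simp only [sum_add_distrib, sum_ite_card, sum_const, card_pt'] at hl
  rcases hm with rfl | rfl
  · rcases c.eq_empty_or_nonempty with rfl | hn
    · have h3 : (32 : ℤ) ∣ ∑ i, (x i ^ 2 - 4 * x i) := dvd_sum fun i _ => by
        have a := h1 i
        have e : x i = 4 * (x i / 4) := by simp at a; omega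
        rw [e]
        generalize x i / 4 = t
        obtain ⟨s, hs⟩ := Int.even_mul_pred_self t
        exact ⟨s, by linear_combination 16 * hs⟩
      simp only [sum_sub_distrib, ← mul_sum] at h3
      unfold sqNorm at *
      omega
    · have := weights hc
      have := hn.card_pos
      simp at hl; omega
  · simp at hl; omega

theorem norm_add (x y : V) : sqNorm (x + y) = sqNorm x + sqNorm y + 2 * dotInt x y := by
  simp only [sqNorm, dotInt, Pi.add_apply, mul_sum, ← sum_add_distrib]
  exact sum_congr rfl fun i _ => by ring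
theorem norm_sub (x y : V) : sqNorm (x - y) = sqNorm x + sqNorm y - 2 * dotInt x y := by
  simp only [sqNorm, dotInt, Pi.sub_apply, mul_sum, ← sum_add_distrib, ← sum_sub_distrib]
  exact sum_congr rfl fun i _ => by ring
theorem norm_neg (x : V) : sqNorm (-x) = sqNorm x := by simp [sqNorm]
theorem norm_zsmul (n : ℤ) (x : V) : sqNorm (n • x) = n ^ 2 * sqNorm x := by
  simp only [sqNorm, Pi.smul_apply, smul_eq_mul, mul_sum, mul_pow]
theorem norm_two (x : V) : sqNorm (2 • x) = 4 * sqNorm x := by
  simp only [sqNorm, Pi.smul_apply, nsmul_eq_mul, mul_sum, mul_pow]; norm_num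
theorem dot_self (x : V) : dotInt x x = sqNorm x := by simp [sqNorm, dotInt, sq]
theorem dot_comm (x y : V) : dotInt x y = dotInt y x := by simp [dotInt, mul_comm]
theorem dot_add (x y z : V) : dotInt x (y + z) = dotInt x y + dotInt x z := by
  simp [dotInt, mul_add, sum_add_distrib]
theorem dot_sub (x y z : V) : dotInt x (y - z) = dotInt x y - dotInt x z := by
  simp [dotInt, mul_sub, sum_sub_distrib]
theorem dot_neg (x y : V) : dotInt x (-y) = -dotInt x y := by simp [dotInt]
theorem add_dot (x y z : V) : dotInt (x + y) z = dotInt x z + dotInt y z := by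
  simp [dotInt, add_mul, sum_add_distrib]
theorem sub_dot (x y z : V) : dotInt (x - y) z = dotInt x z - dotInt y z := by
  simp [dotInt, sub_mul, sum_sub_distrib]
theorem neg_dot (x y : V) : dotInt (-x) y = -dotInt x y := by simp [dotInt]
theorem dot_single (x : V) (i : GolayPt) (a : ℤ) : dotInt x (Pi.single i a) = x i * a := by
  simp [dotInt, Pi.single_apply]

theorem dot_dvd {x y : V} (hx : x ∈ Λ) (hy : y ∈ Λ) : (8 : ℤ) ∣ dotInt x y := by
  have a := even hx
  have b := even hy
  have c := even (Λ.add_mem hx hy)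
  rw [norm_add] at c; omega

theorem cong_short {x y : V} (hy : y ∈ Λ) (hxy : x ≠ y) (hxn : sqNorm x ≤ 64)
    (hyn : sqNorm y ≤ 64) (hc : ∃ z ∈ Λ, x - y = 2 • z) :
    x = -y ∨ (sqNorm x = 64 ∧ sqNorm y = 64 ∧ dotInt x y = 0) := by
  obtain ⟨z, hz, e⟩ := hc
  by_cases h : x = -y
  · exact Or.inl h
  right
  have e' : x + y = 2 • (z + y) := by rw [smul_add, ← e, two_nsmul]; abel
  have a := min_norm hz (by rintro rfl; exact hxy (sub_eq_zero.1 (by simpa using e)))
  have b := min_norm (Λ.add_mem hz hy) fun h0 => h (eq_neg_of_add_eq_zero_left (by rw [e', h0, smul_zero]))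
  have c := norm_sub x y
  have d := norm_add x y
  rw [e, norm_two] at c
  rw [e', norm_two] at d
  omega

theorem perm_mem {σ : Equiv.Perm GolayPt} (hσ : σ ∈ M24) {x : V} (hx : x ∈ Λ) : (fun i => x (σ i)) ∈ Λ := by
  obtain ⟨m, c, hc, h1, h2⟩ := mem_iff.1 hx
  refine mem_iff.2 ⟨m, σ⁻¹ • c, mem_M24_iff.1 (M24.inv_mem hσ) c hc, fun i => ?_, ?_⟩
  · simpa only [Finset.mem_inv_smul_finset_iff, Equiv.Perm.smul_def] using h1 (σ i)
  · rwa [Equiv.sum_comp σ x]

theorem two_chi_mem {c : Finset GolayPt} (hc : c ∈ CC) : (fun i => if i ∈ c then (2 : ℤ) else 0) ∈ Λ := by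
  refine mem_iff.2 ⟨0, c, hc, fun i => by simp, ?_⟩
  have := weights hc
  rw [sum_ite_card, Int.ModEq]; omega

theorem sign_mem {c : Finset GolayPt} (hc : c ∈ CC) {x : V} (hx : x ∈ Λ) :
    (fun i => if i ∈ c then -x i else x i) ∈ Λ := by
  have hd := dot_dvd (two_chi_mem hc) hx
  have e : dotInt (fun i => if i ∈ c then (2 : ℤ) else 0) x = ∑ i, if i ∈ c then 2 * x i else 0 :=
    sum_congr rfl fun i _ => by rw [ite_mul, zero_mul]
  have e2 : ∑ i, (if i ∈ c then -x i else x i) = ∑ i, x i - ∑ i, if i ∈ c then 2 * x i else 0 := by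
    rw [← sum_sub_distrib]; exact sum_congr rfl fun i _ => by split_ifs <;> ring
  obtain ⟨m, hm, d, hd', h1, h2⟩ := mem_iff'.1 hx
  rcases hm with rfl | rfl
  · refine mem_iff'.2 ⟨0, Or.inl rfl, d, hd', fun i => ?_, by rw [e2]; omega⟩
    have := h1 i
    split_ifs at * <;> omega
  · refine mem_iff'.2 ⟨1, Or.inr rfl, _, symmDiff_mem hc hd', fun i => ?_, by rw [e2]; omega⟩
    have := h1 i
    simp only [mem_symmDiff]
    by_cases hi : i ∈ c <;> by_cases hj : i ∈ d <;> simp only [hi, hj, if_true, if_false] at * <;>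
      simp <;> omega

theorem finite_norm (N : ℤ) : {x : V | sqNorm x ≤ N}.Finite := by
  refine (Set.Finite.pi' fun _ : GolayPt => Set.finite_Icc (-N) N).subset fun x hx i => ?_
  have := (sq_le_norm x i).trans hx
  constructor <;> nlinarith [sq_nonneg (x i + 1), sq_nonneg (x i - 1), sq_nonneg (x i)]

/-! ### triangular bases -/

theorem pt_code (p : GolayPt) : pt (gC.code p) = p := gC.dec_code p
theorem code_pt {i : ℕ} (h : i < 24) : gC.code (pt i) = i := gC.code_dec i h
theorem code_lt (p : GolayPt) : gC.code p < 24 := gC.code_lt p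

theorem sum_pt {M : Type*} [AddCommMonoid M] (f : GolayPt → M) : ∑ p, f p = ∑ i ∈ range 24, f (pt i) :=
  sum_bij' (fun p _ => gC.code p) (fun i _ => pt i) (fun p _ => mem_range.2 (code_lt p))
    (fun _ _ => mem_univ _) (fun p _ => pt_code p) (fun _ hi => code_pt (mem_range.1 hi))
    fun p _ => by rw [pt_code]

structure Tri (A : ℕ → V) (L : AddSubgroup V) : Prop where
  mem : ∀ r < 24, A r ∈ L
  tri : ∀ r < 24, ∀ i < r, A r (pt i) = 0
  ne : ∀ r < 24, A r (pt r) ≠ 0
  dvd : ∀ x ∈ L, ∀ r < 24, (∀ i < r, x (pt i) = 0) → A r (pt r) ∣ x (pt r)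

theorem Tri.le {A : ℕ → V} {L : AddSubgroup V} (h : Tri A L) (K : AddSubgroup V) (hK : ∀ r < 24, A r ∈ K) :
    L ≤ K := by
  have : ∀ k ≤ 24, ∀ x ∈ L, (∀ i < 24 - k, x (pt i) = 0) → x ∈ K := by
    intro k
    induction k with
    | zero =>
      intro _ x _ hx
      have : x = 0 := funext fun p => by rw [← pt_code p]; exact hx _ (code_lt p)
      rw [this]; exact K.zero_mem
    | succ k ih =>
      intro hk x hx h0
      obtain ⟨q, hq⟩ := h.dvd x hx (23 - k) (by omega) fun i hi => h0 i (by omega)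
      have := ih (by omega) (x - q • A (23 - k)) (L.sub_mem hx (L.zsmul_mem (h.mem _ (by omega)) _)) fun i hi => by
        rcases (show i < 23 - k ∨ i = 23 - k by omega) with hi | rfl
        · simp [h0 i (by omega), h.tri _ (by omega) i hi]
        · simp [hq, mul_comm]
      simpa using K.add_mem this (K.zsmul_mem (hK (23 - k) (by omega)) q)
  exact fun x hx => this 24 le_rfl x hx fun i hi => absurd hi (by omega)

theorem Tri.index {A : ℕ → V} {L : AddSubgroup V} (h : Tri A L) :
    L.index = (∏ r ∈ range 24, A r (pt r)).natAbs := by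
  letI : LinearOrder GolayPt := LinearOrder.lift' gC.code gC.code_inj
  let M : Matrix GolayPt GolayPt ℤ := Matrix.of fun i r => A (gC.code r) i
  have hd : M.det = ∏ r ∈ range 24, A r (pt r) := by
    rw [Matrix.det_of_lowerTriangular M fun i j hij => ?_]
    · refine prod_bij' (fun p _ => gC.code p) (fun i _ => pt i) (fun p _ => mem_range.2 (code_lt p))
        (fun _ _ => mem_univ _) (fun p _ => pt_code p) (fun _ hi => code_pt (mem_range.1 hi))
        fun p _ => by simp [M, pt_code]
    · have := h.tri _ (code_lt j) (gC.code i) hij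
      rwa [pt_code] at this
  have hd0 : M.det ≠ 0 := by rw [hd]; exact prod_ne_zero_iff.2 fun r hr => h.ne r (mem_range.1 hr)
  have hi : Function.Injective (Matrix.toLin' M) := fun x y e => by
    have : M.mulVec (x - y) = 0 := by rw [Matrix.mulVec_sub]; exact sub_eq_zero.2 e
    exact sub_eq_zero.1 (Matrix.eq_zero_of_mulVec_eq_zero hd0 this)
  have hr : (LinearMap.range (Matrix.toLin' M)).toAddSubgroup = L := by
    apply le_antisymm
    · rintro _ ⟨x, rfl⟩
      have : Matrix.toLin' M x = ∑ r, x r • A (gC.code r) := by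
        ext i; simp [M, Matrix.mulVec, dotProduct, mul_comm]
      rw [this]
      exact L.sum_mem fun r _ => L.zsmul_mem (h.mem _ (code_lt r)) _
    · refine h.le _ fun r hr => ⟨Pi.single (pt r) 1, ?_⟩
      ext i; simp [M, code_pt hr]
  have := Submodule.natAbs_det_equiv _ (LinearEquiv.ofInjective _ hi)
  rw [← hr, ← hd, ← LinearMap.det_toLin' M]
  exact this.symm

noncomputable def basN (r i : ℕ) : ℤ :=
  if r = 0 then (if i = 23 then -3 else 1) else if r < 12 then (if (enc (2 ^ r)).testBit i then 2 else 0)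
  else if r < 23 then (if i = r then 4 else if i = 23 then -4 else 0) else if i = 23 then 8 else 0

/-- a triangular basis of the lattice -/
noncomputable def bas (r : ℕ) : V := fun p => basN r (gC.code p)

theorem mem_of_four {x : V} (m c : ℤ) (hc : c ≡ m [ZMOD 2]) (h4 : ∀ i, x i ≡ c [ZMOD 4])
    (hsum : ∑ i, x i ≡ 4 * m [ZMOD 8]) : x ∈ Λ :=
  AddSubgroup.subset_closure (Spor.mem_leechSet_of_const_mod_four x m c hc h4 hsum)

theorem four_dvd {x : V} (hx : x ∈ Λ) (h : ∀ i < 12, x (pt i) % 4 = 0) (p : GolayPt) : x p % 4 = 0 := by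
  obtain ⟨m, hm, c, hc, h1, h2⟩ := mem_iff'.1 hx
  obtain ⟨j, hj, rfl⟩ := mem_supp_iff.1 hc
  have a : ∀ i < 12, m = 0 ∧ (enc j).testBit i = false := fun i hi => by
    have := h1 (pt i)
    simp only [h i hi, gC.dec_mem_fs (show i < gC.n by rw [gC_n]; omega)] at this
    split_ifs at this with h'
    · omega
    · exact ⟨by omega, by simpa using h'⟩
  have b : j = 0 := by
    rw [← (enc_facts j hj).2.1]
    apply Nat.eq_of_testBit_eq
    intro i
    rw [show 4095 = 2 ^ 12 - 1 from rfl, Nat.testBit_and, Nat.testBit_two_pow_sub_one, Nat.zero_testBit]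
    by_cases hi : i < 12
    · simp [(a i hi).2]
    · simp [hi]
  subst b
  have := h1 p
  rw [(a 0 (by norm_num)).1, show enc 0 = 0 by decide +kernel, fs, gC.fs_zero] at this
  simpa using this

theorem tri_bas : Tri bas Λ where
  mem r hr := by
    by_cases h0 : r = 0
    · subst h0; exact mem_of_four 1 1 (by decide) (by decide +kernel) (by decide +kernel)
    by_cases h1 : r < 12
    · have := two_chi_mem (mem_supp_iff.2 ⟨2 ^ r, Nat.pow_lt_pow_right (n := 12) (by norm_num) h1, rfl⟩)
      convert this using 2 with p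
      simp [bas, basN, h0, h1]
    · have : ∀ r < 24, ¬ r < 12 → (∀ i, bas r i ≡ 0 [ZMOD 4]) ∧ ∑ i, bas r i ≡ 4 * 0 [ZMOD 8] := by
        decide +kernel
      exact mem_of_four 0 0 (by decide) (this r hr h1).1 (this r hr h1).2
  tri := by decide +kernel
  ne := by decide +kernel
  dvd x hx r hr h := by
    have e : ∀ r < 24, bas r (pt r) = if r = 0 then 1 else if r < 12 then 2 else if r < 23 then 4 else 8 := by
      decide +kernel
    rw [e r hr]
    split_ifs with h0 h1 h2
    · exact one_dvd _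
    · obtain ⟨m, hm, c, hc, h1, h2⟩ := mem_iff'.1 hx
      have a := h1 (pt 0)
      have b := h1 (pt r)
      rw [h 0 (by omega)] at a
      split_ifs at a b <;> omega
    · have := four_dvd hx (fun i hi => by rw [h i (by omega)]; rfl) (pt r)
      omega
    · obtain rfl : r = 23 := by omega
      obtain ⟨m, hm, c, hc, h1, h2⟩ := mem_iff'.1 hx
      have a := h1 (pt 0)
      rw [h 0 (by omega)] at a
      rw [sum_pt, sum_range_succ, sum_eq_zero fun i hi => h i (mem_range.1 hi)] at h2
      split_ifs at a <;> omega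

theorem index_eq : Λ.index = 2 ^ 36 := by rw [tri_bas.index]; decide +kernel

/-! ### the group `Co0` -/

theorem single_mem (i : GolayPt) : Pi.single i (8 : ℤ) ∈ Λ :=
  mem_of_four 0 0 (by decide) (fun j => by rw [Pi.single_apply]; split_ifs <;> decide) (by simp)

def E (i : GolayPt) : Λ := ⟨Pi.single i 8, single_mem i⟩

theorem E_apply (i j : GolayPt) : (E i : V) j = if j = i then 8 else 0 := Pi.single_apply _ _ _

theorem norm_E (i : GolayPt) : sqNorm (E i : V) = 64 := by
  rw [← dot_self, E, dot_single]; simp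

def hom (g : Co0) : Λ →+ Λ := AddMonoidHom.mk' (fun v => g • v) g.2.1

theorem smul_add' (g : Co0) (v w : Λ) : g • (v + w) = g • v + g • w := g.2.1 v w
theorem smul_sub' (g : Co0) (v w : Λ) : g • (v - w) = g • v - g • w := (hom g).map_sub v w
theorem smul_neg' (g : Co0) (v : Λ) : g • (-v) = -(g • v) := (hom g).map_neg v
theorem smul_zero' (g : Co0) : g • (0 : Λ) = 0 := (hom g).map_zero
theorem smul_zsmul (g : Co0) (n : ℤ) (v : Λ) : g • (n • v) = n • (g • v) := map_zsmul (hom g) n v
theorem smul_nsmul (g : Co0) (n : ℕ) (v : Λ) : g • (n • v) = n • (g • v) := map_nsmul (hom g) n v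
theorem norm_smul' (g : Co0) (v : Λ) : sqNorm ((g • v : Λ) : V) = sqNorm (v : V) := g.2.2 v
theorem dot_smul (g : Co0) (v w : Λ) : dotInt ((g • v : Λ) : V) ((g • w : Λ) : V) = dotInt (v : V) (w : V) := by
  have a := norm_smul' g (v + w)
  rw [smul_add', AddSubgroup.coe_add, AddSubgroup.coe_add, norm_add, norm_add, norm_smul', norm_smul'] at a
  omega

theorem lin (g : Co0) (x : Λ) (i : GolayPt) :
    8 * ((g • x : Λ) : V) i = ∑ l, (x : V) l * ((g • E l : Λ) : V) i := by
  have e : (8 : ℤ) • x = ∑ l, (x : V) l • E l := Subtype.ext (funext fun j => by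
    simp only [AddSubgroup.coe_zsmul, AddSubgroup.val_finset_sum, Finset.sum_apply, Pi.smul_apply, E_apply,
      smul_eq_mul, mul_ite, mul_zero, sum_ite_eq, mem_univ, if_true]; ring)
  have := congrArg (fun v : Λ => (v : V) i) (congrArg (hom g) e)
  simp only [map_sum, map_zsmul, AddSubgroup.coe_zsmul, AddSubgroup.val_finset_sum, Finset.sum_apply,
    Pi.smul_apply, smul_eq_mul] at this
  exact this

theorem ext_E {g h : Co0} (e : ∀ l, g • E l = h • E l) : g = h :=
  Subtype.ext (Equiv.ext fun x => Subtype.ext (funext fun i => by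
    have a := lin g x i
    have b := lin h x i
    simp only [e] at a
    exact mul_left_cancel₀ (by norm_num : (8 : ℤ) ≠ 0) (a.trans b.symm)))

theorem finite_normΛ (N : ℤ) : {x : Λ | sqNorm (x : V) = N}.Finite :=
  ((finite_norm N).preimage Subtype.val_injective.injOn).subset fun _ hx => le_of_eq hx

instance : Finite Co0 := by
  haveI := (finite_normΛ 64).to_subtype
  exact Finite.of_injective (fun (g : Co0) (l : GolayPt) =>
    (⟨g • E l, (norm_smul' g _).trans (norm_E l)⟩ : {x : Λ | sqNorm (x : V) = 64}))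
    fun g h e => ext_E fun l => congrArg Subtype.val (congrFun e l)

theorem exists_co (f : Λ →+ Λ) (hf : ∀ v, sqNorm (f v : V) = sqNorm (v : V)) : ∃ g : Co0, ∀ v, g • v = f v := by
  have hi : Function.Injective f := (injective_iff_map_eq_zero f).2 fun v hv =>
    Subtype.ext (eq_zero_of_norm (by rw [← hf, hv]; simp [sqNorm]))
  have hs : Function.Surjective f := fun y => by
    have hm : Set.MapsTo f {x : Λ | sqNorm (x : V) = sqNorm (y : V)} {x : Λ | sqNorm (x : V) = sqNorm (y : V)} :=
      fun x hx => (hf x).trans hx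
    obtain ⟨x, -, e⟩ := ((finite_normΛ _).injOn_iff_bijOn_of_mapsTo hm).1 hi.injOn |>.surjOn (a := y) rfl
    exact ⟨x, e⟩
  exact ⟨⟨Equiv.ofBijective f ⟨hi, hs⟩, fun v w => f.map_add v w, hf⟩, fun _ => rfl⟩

theorem exists_mono {σ : Equiv.Perm GolayPt} (hσ : σ ∈ M24) {c : Finset GolayPt} (hc : c ∈ CC) :
    ∃ g : Co0, ∀ v : Λ, ((g • v : Λ) : V) = signedPerm σ c v := by
  obtain ⟨g, hg⟩ := exists_co (AddMonoidHom.mk' (fun v : Λ => (⟨signedPerm σ c v,
    sign_mem hc (perm_mem (M24.inv_mem hσ) v.2)⟩ : Λ)) fun v w => Subtype.ext (funext fun i => by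
      simp only [signedPerm, AddSubgroup.coe_add, Pi.add_apply]; split_ifs <;> ring)) fun v => by
    show ∑ i, _ = ∑ i, _
    rw [← Equiv.sum_comp σ.symm fun i => (v : V) i ^ 2]
    exact sum_congr rfl fun i _ => by simp only [AddMonoidHom.mk'_apply, signedPerm]; split_ifs <;> ring
  exact ⟨g, fun v => by rw [hg]; rfl⟩

/-- negation -/
noncomputable def neg : Co0 := (exists_co (-AddMonoidHom.id Λ) fun v => norm_neg v).choose
theorem neg_smul' (v : Λ) : neg • v = -v := (exists_co (-AddMonoidHom.id Λ) fun v => norm_neg v).choose_spec v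

theorem mem_std {y : V} : y ∈ stdCross ↔ ∃ i, y = E i ∨ y = -E i := by
  constructor
  · rintro ⟨i, s, rfl | rfl, rfl⟩
    exacts [⟨i, Or.inl rfl⟩, ⟨i, Or.inr (by rw [E, ← Pi.single_neg])⟩]
  · rintro ⟨i, rfl | rfl⟩
    exacts [⟨i, 8, Or.inl rfl, rfl⟩, ⟨i, -8, Or.inr rfl, by rw [E, ← Pi.single_neg]⟩]

theorem E_cong (i j : GolayPt) : ∃ z ∈ Λ, (E i : V) - E j = 2 • z := by
  refine ⟨Pi.single i 4 - Pi.single j 4, mem_of_four 0 0 (by decide) (fun k => ?_) (by simp), ?_⟩
  · simp only [Pi.sub_apply, Pi.single_apply]; split_ifs <;> decide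
  · ext k; simp only [E, Pi.sub_apply, Pi.smul_apply, Pi.single_apply]; split_ifs <;> decide

theorem std_of_cong {y : V} (hn : sqNorm y = 64) {i : GolayPt} (hc : ∃ z ∈ Λ, y - E i = 2 • z) :
    y ∈ stdCross := by
  by_contra h
  rw [mem_std] at h
  push Not at h
  have : y = 0 := funext fun j => by
    obtain ⟨z, hz, e⟩ := hc
    obtain ⟨w, hw, e'⟩ := E_cong i j
    rcases cong_short (E j).2 (h j).1 hn.le (norm_E j).le
      ⟨z + w, Λ.add_mem hz hw, by rw [smul_add, ← e, ← e']; abel⟩ with h' | h'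
    · exact absurd h' (h j).2
    · have := h'.2.2
      rw [E, dot_single] at this
      simpa using this
  rw [this] at hn
  simp [sqNorm] at hn

theorem std_of_one {g : Co0} {i : GolayPt} (h : ((g • E i : Λ) : V) ∈ stdCross) (j : GolayPt) :
    ((g • E j : Λ) : V) ∈ stdCross := by
  obtain ⟨z, hz, e⟩ := E_cong j i
  have e1 : g • E j - g • E i = 2 • g • (⟨z, hz⟩ : Λ) := by
    rw [← smul_sub', ← smul_nsmul]; congr 1; exact Subtype.ext e
  have e2 := congrArg Subtype.val e1
  obtain ⟨k, h | h⟩ := mem_std.1 h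
  · exact std_of_cong ((norm_smul' _ _).trans (norm_E j)) ⟨_, (g • (⟨z, hz⟩ : Λ)).2, by rw [← h]; exact e2⟩
  · refine std_of_cong (i := k) ((norm_smul' _ _).trans (norm_E j))
      ⟨_, Λ.sub_mem (g • (⟨z, hz⟩ : Λ)).2 (E k).2, ?_⟩
    rw [AddSubgroup.coe_sub, h] at e2
    rw [smul_sub, ← AddSubgroup.coe_nsmul, ← e2, two_nsmul]; abel

/-- an element moving one vector of the standard cross into it is monomial -/
theorem mono_of_cross {g : Co0} {i : GolayPt} (h : ((g • E i : Λ) : V) ∈ stdCross) :
    ∃ σ ∈ M24, ∃ c ∈ CC, ∀ v : Λ, ((g • v : Λ) : V) = signedPerm σ c v := by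
  choose f hf using fun j => mem_std.1 (std_of_one h j)
  have hv : ∀ l i, ((g • E l : Λ) : V) i = if i = f l then (if ((g • E l : Λ) : V) = E (f l) then 8 else -8)
      else 0 := fun l i => by
    by_cases h1 : ((g • E l : Λ) : V) = E (f l)
    · rw [if_pos h1, h1, E_apply]
    · rw [if_neg h1, (hf l).resolve_left h1, Pi.neg_apply, E_apply]; split_ifs <;> rfl
  have hi : Function.Injective f := fun a b e => by
    by_contra hab
    have := dot_smul g (E a) (E b)
    rw [show dotInt (E a : V) (E b : V) = 0 by simp [E, dot_single, Ne.symm hab]] at this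
    simp only [dotInt, hv, e, ite_mul, zero_mul, sum_ite_eq', mem_univ, if_true] at this
    split_ifs at this <;> omega
  let σ := Equiv.ofBijective f (Finite.injective_iff_bijective.1 hi)
  let c : Finset GolayPt := univ.filter fun i => ((g • E (σ.symm i) : Λ) : V) ≠ E (f (σ.symm i))
  have key : ∀ v : Λ, ((g • v : Λ) : V) = signedPerm σ c v := fun v => funext fun i => by
    have a := lin g v i
    rw [sum_eq_single (σ.symm i) (fun l _ hl => by
      rw [hv, if_neg, mul_zero]; rintro rfl; exact hl (σ.symm_apply_apply l).symm) (by simp), hv,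
      if_pos (show i = f (σ.symm i) from (σ.apply_symm_apply i).symm)] at a
    simp only [signedPerm, c, Finset.mem_filter, mem_univ, true_and]
    split_ifs at * <;> first | omega | contradiction
  refine ⟨σ, mem_M24_iff.2 fun s hs => ?_, c, ?_, key⟩
  · obtain ⟨m, hm, d, hd, h1, -⟩ := mem_iff'.1 (g • (⟨_, two_chi_mem hs⟩ : Λ)).2
    convert hd using 1
    ext i
    have := h1 i
    rw [← Finset.inv_smul_mem_iff]
    rw [key] at this
    simp only [signedPerm] at this
    show σ.symm i ∈ s ↔ _
    split_ifs at this <;> simp only [*, iff_true, iff_false, not_false_iff] <;> omega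
  · obtain ⟨m, hm, d, hd, h1, -⟩ := mem_iff'.1 (g • (⟨_, tri_bas.mem 0 (by norm_num)⟩ : Λ)).2
    convert hd using 1
    ext i
    have := h1 i
    rw [key] at this
    simp only [signedPerm, bas, basN, if_true] at this
    split_ifs at this <;> simp only [*, iff_true, iff_false, not_false_iff] <;> omega

end H8.Le
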