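import Cfsg.Agent.H8.Lat2
import Cfsg.Agent.H7.M24Fam

/-! H8.M22i: overgroups of an element of order 11 in M22 (generated certificate) -/

set_option autoImplicit false
set_option maxRecDepth 200000

set_option linter.all false
open Subgroup Cfsg

namespace H8.M22i

noncomputable def at0 : ℕ := (nat_lit 0x8ae13521c465ded4d2c7918b518820)
noncomputable def at1 : ℕ := (nat_lit 0x7248aa1ef56c58fb4d72418b018820)
noncomputable def at2 : ℕ := (nat_lit 0x952168de757a5ac41dcb518a320820)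
noncomputable def at3 : ℕ := (nat_lit 0x2429570d367cdac52e27418b790820)
noncomputable def at4 : ℕ := (nat_lit 0x526a7639f08c91315ecda18a41ac20)
noncomputable def at5 : ℕ := (nat_lit 0x1beb424642b250c5a9cd298f3bc020)
noncomputable def at6 : ℕ := (nat_lit 0xab2e7448c2791365a9b3a44ae1c020)
noncomputable def aT : Tr ℕ := (.node (nat_lit 3) (.node (nat_lit 1) (.leaf at0) (.node (nat_lit 2) (.leaf at1) (.leaf at2)))
 (.node (nat_lit 5) (.node (nat_lit 4) (.leaf at3) (.leaf at4)) (.node (nat_lit 6) (.leaf at5) (.leaf at6))))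
noncomputable def aL0 : Lev := ⟨(nat_lit 6), (nat_lit 7), (nat_lit 0x10207010306070105020705010504070100060406050000), (nat_lit 0x20303030202010402020303030302030300040303040000),
 (.leaf 0),
 (.leaf 0)⟩
noncomputable def aL1 : Lev := ⟨(nat_lit 5), (nat_lit 6), (nat_lit 0x30304050102060402050501030302010600000404050000), (nat_lit 0x30303020302030404030304030204020100000403040000),
 (.leaf 0),
 (.leaf 0)⟩
noncomputable def aL2 : Lev := ⟨(nat_lit 2), (nat_lit 5), (nat_lit 0x50104030101040405030501050402030200000204000000), (nat_lit 0x30204030303030304030304010202020300000404000000),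
 (.leaf 0),
 (.leaf 0)⟩
noncomputable def aL3 : Lev := ⟨(nat_lit 3), (nat_lit 4), (nat_lit 0x40402040204020100010000030301020100000300000000), (nat_lit 0x20302030401030200030000030304020200000100000000),
 (.leaf 0),
 (.leaf 0)⟩
noncomputable def aL4 : Lev := ⟨(nat_lit 4), (nat_lit 2), (nat_lit 0x2000000000100000000000000000000000000000000), (nat_lit 0x1000000000100000000000000000000000000000000),
 (.leaf 0),
 (.leaf 0)⟩
noncomputable def aL : List Lev := [aL0, aL1, aL2, aL3, aL4]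
theorem ae : smC [0, 1] [] [] aT = true := by decide +kernel
theorem atc : tchainChk 24 (nat_lit 5) (nat_lit 31) aT aL = true := by decide +kernel
noncomputable def AW : Tr (List (List ℕ)) := (.node (nat_lit 1) (.leaf [[nat_lit 1, nat_lit 5, nat_lit 6, nat_lit 2, nat_lit 5, nat_lit 2, nat_lit 0, nat_lit 4, nat_lit 0, nat_lit 3, nat_lit 2, nat_lit 1]]) (.leaf [[nat_lit 4, nat_lit 1, nat_lit 6, nat_lit 1, nat_lit 4, nat_lit 1, nat_lit 5, nat_lit 0, nat_lit 2, nat_lit 4, nat_lit 0, nat_lit 2, nat_lit 0]]))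
noncomputable def nt0 : ℕ := (nat_lit 0x30925435471d2f68c08e93d935d420)
noncomputable def nt1 : ℕ := (nat_lit 0x6b04e21d6a322451c6b385e897d820)
noncomputable def nT : Tr ℕ := (.node (nat_lit 1) (.leaf nt0) (.leaf nt1))
noncomputable def nR : Tr (List ℕ) := (.node (nat_lit 1) (.leaf [nat_lit 0, nat_lit 1]) (.leaf [nat_lit 0, nat_lit 0, nat_lit 0, nat_lit 0, nat_lit 0, nat_lit 0, nat_lit 0, nat_lit 0, nat_lit 0, nat_lit 0, nat_lit 0]))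
noncomputable def nL0 : Lev := ⟨(nat_lit 2), (nat_lit 2), (nat_lit 0x102010200000000010001000002020000010200000000), (nat_lit 0x101040400000000050002000002050000030300000000),
 (.node (nat_lit 1) (.leaf (nat_lit 0x1000000010000000000000000000000000000000000000001000200000000000000010000000100000000))
 (.leaf (nat_lit 0x10000000100000000000000000000000300000001000000000000000000000000000100000000000100000000))),
 (.node (nat_lit 1) (.leaf (nat_lit 0x105000000000000000000000000000000000000000000000000))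
 (.leaf (nat_lit 0x1000000000001000000000000000000000000000000000001000000000001000000000000000000000000000000000000000001000000000000000001000000000000)))⟩
noncomputable def nL : List Lev := [nL0]
noncomputable def nE : Tr (List ℕ) := (.node (nat_lit 1) (.leaf [nat_lit 4, nat_lit 6, nat_lit 1, nat_lit 5, nat_lit 1, nat_lit 2, nat_lit 4, nat_lit 3, nat_lit 0, nat_lit 2]) (.leaf [nat_lit 1, nat_lit 6, nat_lit 1, nat_lit 5, nat_lit 2, nat_lit 0, nat_lit 4, nat_lit 1, nat_lit 3, nat_lit 2, nat_lit 0]))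
theorem nw_0 : nT.all2 (fun c w => isProd 24 (nat_lit 5) (nat_lit 31) aT c w) nE = true := by decide +kernel
theorem nw : nT.all2 (fun c w => isProd 24 (nat_lit 5) (nat_lit 31) aT c w) nE = true := nw_0
theorem nlev0 : levChk 24 (nat_lit 5) (nat_lit 31) nT nR nL0 0 = true := by decide +kernel
theorem nchain : Chain 24 (nat_lit 5) (nat_lit 31) nT nR nL := chain_one nlev0
theorem nsd : band (selChk nT nT (topN nL)) (nR.all fun w => eqB (aL.map Lev.b) (apL (nat_lit 5) (nat_lit 31) nT w) fun a => a) = true := by decide +kernel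
theorem ntc : tchainChk 24 (nat_lit 5) (nat_lit 31) nT nL = true := by decide +kernel
noncomputable def ns0 : ℕ := (nat_lit 0x838a4144c392548bbd9559e766d020)
noncomputable def ns1 : ℕ := (nat_lit 0x591022be57558693b5cc346b484c20)
noncomputable def ns2 : ℕ := (nat_lit 0x30925435471d2f68c08e93d935d420)
noncomputable def ns3 : ℕ := (nat_lit 0x6b04e21d6a322451c6b385e897d820)
noncomputable def nS : Tr ℕ := (.node (nat_lit 2) (.node (nat_lit 1) (.leaf ns0) (.leaf ns1)) (.node (nat_lit 3) (.leaf ns2) (.leaf ns3)))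
noncomputable def nD : Tr (List ℕ) := (.node (nat_lit 2) (.node (nat_lit 1) (.leaf []) (.leaf [nat_lit 0, nat_lit 0, nat_lit 0, nat_lit 0, nat_lit 0, nat_lit 0, nat_lit 0, nat_lit 0, nat_lit 0, nat_lit 0])) (.node (nat_lit 3) (.leaf [nat_lit 1, nat_lit 1, nat_lit 1]) (.leaf [nat_lit 0, nat_lit 0, nat_lit 0])))
theorem nslp : slpChk 24 (nat_lit 5) (nat_lit 31) nS nD 1 3 = true := by decide +kernel
noncomputable def ut0 : ℕ := (nat_lit 0x1d26e428d2ba5a43c4ac7c2d558820)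
noncomputable def ut1 : ℕ := (nat_lit 0x79496ac1463d1a81c9d35c52cb8820)
noncomputable def ut2 : ℕ := (nat_lit 0x912cc9bdaa88ae831ca95c28e1d420)
noncomputable def ut3 : ℕ := (nat_lit 0x6d4459dde6912343c10c52d361b820)
noncomputable def uT : Tr ℕ := (.node (nat_lit 2) (.node (nat_lit 1) (.leaf ut0) (.leaf ut1)) (.node (nat_lit 3) (.leaf ut2) (.leaf ut3)))
noncomputable def uR : Tr (List ℕ) := (.node (nat_lit 2) (.node (nat_lit 1) (.leaf [nat_lit 0, nat_lit 1]) (.leaf [nat_lit 0, nat_lit 0, nat_lit 0, nat_lit 0, nat_lit 0])) (.node (nat_lit 3) (.leaf [nat_lit 0, nat_lit 0, nat_lit 2, nat_lit 2, nat_lit 1, nat_lit 2]) (.node (nat_lit 4) (.leaf [nat_lit 2, nat_lit 3]) (.leaf [nat_lit 2, nat_lit 2, nat_lit 2, nat_lit 2, nat_lit 2]))))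
noncomputable def uL0 : Lev := ⟨(nat_lit 2), (nat_lit 4), (nat_lit 0x404010200000000030004000002030000030300000000), (nat_lit 0x201020200000000010003000002030000030200000000),
 (.node (nat_lit 2) (.node (nat_lit 1) (.leaf (nat_lit 0x20001000000020000000000000000000100000007000000000004000800000000000500030000000000000000))
 (.leaf (nat_lit 0x60002000300000000000000000000000100000009000000000000000300000000000500080000000000000000)))
 (.node (nat_lit 3) (.leaf (nat_lit 0x2000100010004000000000000000000000000000900000000000a000000000000000000000000000100000000))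
 (.leaf (nat_lit 0x100050000000000000000000100000000000000000001000a00000000000b00030000000100000000)))),
 (.node (nat_lit 2) (.node (nat_lit 1) (.leaf (nat_lit 0x201000000000000000200000000000000000000000000000000000000000201000000000000000200000101000000000000000104000000000000000000000000000000))
 (.leaf (nat_lit 0x1000204000001000000000000000000000000000000000001000000000001000000000000000000000001000000000000000001000001000000000000000000000000)))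
 (.node (nat_lit 3) (.leaf (nat_lit 0x402000300000300000205000000000000000000000000000000000000000202000000000000000400000000000000000000000000000000000000000300000000000000))
 (.leaf (nat_lit 0x301000301000000000000000000000000000301000000000000000000000000000301000301000000000000000301000301000000000301000000000000))))⟩
noncomputable def uL1 : Lev := ⟨(nat_lit 3), (nat_lit 2), (nat_lit 0x10000000000000001000000020000000200000000000000), (nat_lit 0x10000000000000002000000010000000200000000000000),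
 (.node (nat_lit 1) (.leaf (nat_lit 0x100000000000000020000000000000001000000000000))
 (.leaf (nat_lit 0x100000000000000000000000000000003000000000000000000000000000000000000000000000001000000000000))),
 (.node (nat_lit 1) (.leaf (nat_lit 0x102000000000000000000000000000000000000000000))
 (.leaf (nat_lit 0x1000000000000000000000000000000000000000000000001000000000000000000000000000000000000000000000000000000000000000000000001000000000000000000)))⟩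
noncomputable def uL : List Lev := [uL0, uL1]
noncomputable def uE : Tr (List ℕ) := (.node (nat_lit 2) (.node (nat_lit 1) (.leaf [nat_lit 1, nat_lit 3, nat_lit 1, nat_lit 6, nat_lit 5, nat_lit 0, nat_lit 3, nat_lit 0, nat_lit 2, nat_lit 1]) (.leaf [nat_lit 6, nat_lit 4, nat_lit 1, nat_lit 5, nat_lit 1, nat_lit 3, nat_lit 4, nat_lit 2, nat_lit 0, nat_lit 3])) (.node (nat_lit 3) (.leaf [nat_lit 1, nat_lit 3, nat_lit 1, nat_lit 6, nat_lit 3, nat_lit 4, nat_lit 5, nat_lit 3, nat_lit 1, nat_lit 2, nat_lit 4, nat_lit 1, nat_lit 3]) (.leaf [nat_lit 1, nat_lit 3, nat_lit 6, nat_lit 4, nat_lit 2, nat_lit 1, nat_lit 5, nat_lit 1, nat_lit 2, nat_lit 4, nat_lit 0, nat_lit 3, nat_lit 0, nat_lit 2, nat_lit 0])))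
theorem uw_0 : uT.all2 (fun c w => isProd 24 (nat_lit 5) (nat_lit 31) aT c w) uE = true := by decide +kernel
theorem uw : uT.all2 (fun c w => isProd 24 (nat_lit 5) (nat_lit 31) aT c w) uE = true := uw_0
theorem ulev0 : levChk 24 (nat_lit 5) (nat_lit 31) uT uR uL0 uL1.N = true := by decide +kernel
theorem ulev1 : levChk 24 (nat_lit 5) (nat_lit 31) uT uR uL1 0 = true := by decide +kernel
theorem uchain : Chain 24 (nat_lit 5) (nat_lit 31) uT uR uL := chain_cons ulev0 <| chain_one ulev1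
theorem usd : band (selChk uT uT (topN uL)) (uR.all fun w => eqB (aL.map Lev.b) (apL (nat_lit 5) (nat_lit 31) uT w) fun a => a) = true := by decide +kernel
theorem utc : tchainChk 24 (nat_lit 5) (nat_lit 31) uT uL = true := by decide +kernel
noncomputable def mt0 : ℕ := (nat_lit 0x7d6c971a11bcd6c6aa853c90418820)
noncomputable def mt1 : ℕ := (nat_lit 0x691c59c6507d6e9399885aa9618820)
noncomputable def mt2 : ℕ := (nat_lit 0xba6a49c64a6a1e51c2ce3999458820)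
noncomputable def mt3 : ℕ := (nat_lit 0x1b2ae2c9677d1568b52881a62b9020)
noncomputable def mT : Tr ℕ := (.node (nat_lit 2) (.node (nat_lit 1) (.leaf mt0) (.leaf mt1)) (.node (nat_lit 3) (.leaf mt2) (.leaf mt3)))
noncomputable def mR : Tr (List ℕ) := (.node (nat_lit 5) (.node (nat_lit 2) (.node (nat_lit 1) (.leaf [nat_lit 1, nat_lit 2, nat_lit 0, nat_lit 2, nat_lit 3, nat_lit 0, nat_lit 3]) (.leaf [nat_lit 0, nat_lit 0])) (.node (nat_lit 3) (.leaf [nat_lit 1, nat_lit 1]) (.node (nat_lit 4) (.leaf [nat_lit 1, nat_lit 0, nat_lit 1, nat_lit 0, nat_lit 1, nat_lit 0, nat_lit 1, nat_lit 0, nat_lit 1, nat_lit 0]) (.leaf [nat_lit 1, nat_lit 2, nat_lit 1, nat_lit 3, nat_lit 1, nat_lit 0, nat_lit 3, nat_lit 0, nat_lit 1, nat_lit 3]))))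
 (.node (nat_lit 8) (.node (nat_lit 6) (.leaf [nat_lit 2, nat_lit 2]) (.node (nat_lit 7) (.leaf [nat_lit 2, nat_lit 1, nat_lit 2, nat_lit 1, nat_lit 2, nat_lit 1]) (.leaf [nat_lit 0, nat_lit 1, nat_lit 0, nat_lit 1, nat_lit 2, nat_lit 0, nat_lit 2, nat_lit 0, nat_lit 1, nat_lit 0, nat_lit 2]))) (.node (nat_lit 9) (.leaf [nat_lit 3, nat_lit 3]) (.node (nat_lit 10) (.leaf [nat_lit 3, nat_lit 1, nat_lit 3, nat_lit 1, nat_lit 3, nat_lit 1, nat_lit 3, nat_lit 1, nat_lit 3, nat_lit 1]) (.leaf [nat_lit 2, nat_lit 0, nat_lit 2, nat_lit 1, nat_lit 2, nat_lit 0, nat_lit 2, nat_lit 1])))))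
noncomputable def mL0 : Lev := ⟨(nat_lit 2), (nat_lit 4), (nat_lit 0x201030400000000040004000003010000020400000000), (nat_lit 0x203020400000000030003000003040000030100000000),
 (.node (nat_lit 2) (.node (nat_lit 1) (.leaf (nat_lit 0x10000000200030000000000000000000400000004000000000003000000000000000100020000000000000000))
 (.leaf (nat_lit 0x7000100050000000000000000000800000005000000000004000600000000000000010000000000000000)))
 (.node (nat_lit 3) (.leaf (nat_lit 0x100030000000a0000000000000000000700000005000000000000000800000000000600010000000000000000))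
 (.leaf (nat_lit 0x10002000100000000000000000000000000000000000000000006000900000000000100000000000100000000)))),
 (.node (nat_lit 2) (.node (nat_lit 1) (.leaf (nat_lit 0x100000000000002000005000000000000000000000000000101000000000005000000000000000101000000000000000000000101000005000000000000000000000000))
 (.leaf (nat_lit 0x200000408000000000000000000000000000201000000000200000000000000000000000308000000000000000000000201000000000000000000000000)))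
 (.node (nat_lit 3) (.leaf (nat_lit 0x50000070a000000000003000000000000000000000000000003000000000602000000000000000000000501000000000000000501000501000000000000000000000000))
 (.leaf (nat_lit 0x800000406000800000000000000000000000000000000000000000000000000000000000000000904000409000000000000000801000000000000000801000000000000))))⟩
noncomputable def mL1 : Lev := ⟨(nat_lit 3), (nat_lit 3), (nat_lit 0x20000000000000003000100030000000200000000000000), (nat_lit 0x30000000000000003000200010000000200000000000000),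
 (.node (nat_lit 1) (.leaf (nat_lit 0x200000000000000000000000000000003000000000000000100000000000000030000000000000000000000000000))
 (.node (nat_lit 2) (.leaf (nat_lit 0x2000000010000000100000000000000000000000000000000000000000000))
 (.leaf (nat_lit 0x300000000000000000000000000000000000000010000000000000000000000020000000000000001000000000000)))),
 (.node (nat_lit 1) (.leaf (nat_lit 0x707000000000000000000000000000000000000000000000101000000000000000000000101000000000000000000000a01000000000000000000000000000000000000000000))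
 (.node (nat_lit 2) (.leaf (nat_lit 0xa03000000000201000000000200000000000000000000000000000000000000000000000000000000000000000000))
 (.leaf (nat_lit 0x604000000000000000000000000000000000000000000000000000000000501000000000000000000000000000000000602000000000000000000000501000000000000000000))))⟩
noncomputable def mL2 : Lev := ⟨(nat_lit 4), (nat_lit 2), (nat_lit 0x201000100000000020000000000000000000000000000), (nat_lit 0x102000400000000030000000000000000000000000000),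
 (.node (nat_lit 1) (.leaf (nat_lit 0x10000000000000000000000000000000100000000000000000000000000000000000000000000000000000000))
 (.leaf (nat_lit 0x1000000020000000000000000000000000000000000000000000000000000000000010000000000000000))),
 (.node (nat_lit 1) (.leaf (nat_lit 0x100000000000000000000000000000000000000000000000101000000000000000000000000000000000000000000000000000000000000000000000000000000000000))
 (.leaf (nat_lit 0x200000000000304000000000000000000000000000000000000000000000000000000000000000000000000000000000000000201000000000000000000000000)))⟩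
noncomputable def mL3 : Lev := ⟨(nat_lit 5), (nat_lit 1), (nat_lit 0x10000000000000000), (nat_lit 0x10000000000000000),
 (.leaf (nat_lit 0x100000000000000000000)),
 (.leaf (nat_lit 0x101000000000000000000000000000000))⟩
noncomputable def mL : List Lev := [mL0, mL1, mL2, mL3]
noncomputable def mE : Tr (List ℕ) := (.node (nat_lit 2) (.node (nat_lit 1) (.leaf [nat_lit 5, nat_lit 6, nat_lit 0, nat_lit 2, nat_lit 1, nat_lit 5, nat_lit 3, nat_lit 1, nat_lit 4, nat_lit 0, nat_lit 2]) (.leaf [nat_lit 4, nat_lit 1, nat_lit 6, nat_lit 0, nat_lit 5, nat_lit 1, nat_lit 4, nat_lit 2, nat_lit 4, nat_lit 0, nat_lit 3, nat_lit 2, nat_lit 0])) (.node (nat_lit 3) (.leaf [nat_lit 1, nat_lit 4, nat_lit 1, nat_lit 5, nat_lit 2, nat_lit 0, nat_lit 4, nat_lit 1, nat_lit 3, nat_lit 2, nat_lit 0]) (.leaf [nat_lit 1, nat_lit 2, nat_lit 5, nat_lit 2, nat_lit 0])))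
theorem mw_0 : mT.all2 (fun c w => isProd 24 (nat_lit 5) (nat_lit 31) aT c w) mE = true := by decide +kernel
theorem mw : mT.all2 (fun c w => isProd 24 (nat_lit 5) (nat_lit 31) aT c w) mE = true := mw_0
theorem mlev0 : levChk 24 (nat_lit 5) (nat_lit 31) mT mR mL0 mL1.N = true := by decide +kernel
theorem mlev1 : levChk 24 (nat_lit 5) (nat_lit 31) mT mR mL1 mL2.N = true := by decide +kernel
theorem mlev2 : levChk 24 (nat_lit 5) (nat_lit 31) mT mR mL2 mL3.N = true := by decide +kernel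
theorem mlev3 : levChk 24 (nat_lit 5) (nat_lit 31) mT mR mL3 0 = true := by decide +kernel
theorem mchain : Chain 24 (nat_lit 5) (nat_lit 31) mT mR mL := chain_cons mlev0 <| chain_cons mlev1 <| chain_cons mlev2 <| chain_one mlev3
theorem msd : band (selChk mT mT (topN mL)) (mR.all fun w => eqB (aL.map Lev.b) (apL (nat_lit 5) (nat_lit 31) mT w) fun a => a) = true := by decide +kernel
theorem mtc : tchainChk 24 (nat_lit 5) (nat_lit 31) mT mL = true := by decide +kernel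
theorem na : band (selChk nT nS (1 + 3)) (allB 1 fun j => anyL (AW.get 0) fun w => isProd 24 (nat_lit 5) (nat_lit 31) aT (nS.get j) w) = true := by decide +kernel
noncomputable def bDd : Tr ℕ := (.node (nat_lit 7) (.node (nat_lit 3) (.node (nat_lit 1) (.leaf (nat_lit 0xbdab49ca307b9ac5a928398a418820)) (.node (nat_lit 2) (.leaf (nat_lit 0x8ae13521c465ded4d2c7918b518820)) (.leaf (nat_lit 0x7248aa1ef56c58fb4d72418b018820))))
 (.node (nat_lit 5) (.node (nat_lit 4) (.leaf (nat_lit 0x952168de757a5ac41dcb518a320820)) (.leaf (nat_lit 0x2429570d367cdac52e27418b790820))) (.node (nat_lit 6) (.leaf (nat_lit 0xab2e7448c2791365a9b3a44ae1c020)) (.leaf (nat_lit 0x9a2b13ad23649ed75a8ab98b020820)))))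
 (.node (nat_lit 10) (.node (nat_lit 8) (.leaf (nat_lit 0x4b867b2a506cd8fa4517598b520820)) (.node (nat_lit 9) (.leaf (nat_lit 0x9c6ebaa0946a58f83943398b690820)) (.leaf (nat_lit 0x235ca3d2b749acf621729c4a21c020))))
 (.node (nat_lit 12) (.node (nat_lit 11) (.leaf (nat_lit 0x240f590ec98b113b89f4698aa72c20)) (.leaf (nat_lit 0x3ba0a625f59dd7114a8db18a322020))) (.node (nat_lit 13) (.leaf (nat_lit 0x729e95948364ec89544db98f48c020)) (.leaf (nat_lit 0x1322a58cd0b5d3469512790ee9d420))))))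
noncomputable def bdE : Tr (List ℕ) := (.node (nat_lit 7) (.node (nat_lit 3) (.node (nat_lit 1) (.leaf []) (.node (nat_lit 2) (.leaf [nat_lit 0]) (.leaf [nat_lit 1])))
 (.node (nat_lit 5) (.node (nat_lit 4) (.leaf [nat_lit 2]) (.leaf [nat_lit 3])) (.node (nat_lit 6) (.leaf [nat_lit 6]) (.leaf [nat_lit 2, nat_lit 0]))))
 (.node (nat_lit 10) (.node (nat_lit 8) (.leaf [nat_lit 2, nat_lit 1]) (.node (nat_lit 9) (.leaf [nat_lit 3, nat_lit 1]) (.leaf [nat_lit 6, nat_lit 1])))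
 (.node (nat_lit 12) (.node (nat_lit 11) (.leaf [nat_lit 4, nat_lit 3]) (.leaf [nat_lit 2, nat_lit 4])) (.node (nat_lit 13) (.leaf [nat_lit 5, nat_lit 3, nat_lit 0]) (.leaf [nat_lit 3, nat_lit 1, nat_lit 6, nat_lit 4, nat_lit 5, nat_lit 2, nat_lit 4, nat_lit 1, nat_lit 2, nat_lit 1])))))
theorem bdw_0 : bDd.all2 (fun c w => isProd 24 (nat_lit 5) (nat_lit 31) aT c w) bdE = true := by decide +kernel
theorem bdw : bDd.all2 (fun c w => isProd 24 (nat_lit 5) (nat_lit 31) aT c w) bdE = true := bdw_0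
noncomputable def bPA_0 : Tr (ℕ × List ℕ) := (.node (nat_lit 84) (.node (nat_lit 42) (.node (nat_lit 21) (.node (nat_lit 10) (.node (nat_lit 5) (.node (nat_lit 2) (.node (nat_lit 1) (.leaf ((nat_lit 0), [])) (.leaf ((nat_lit 1), []))) (.node (nat_lit 3) (.leaf ((nat_lit 2), [])) (.node (nat_lit 4) (.leaf ((nat_lit 3), [])) (.leaf ((nat_lit 4), [])))))
 (.node (nat_lit 7) (.node (nat_lit 6) (.leaf ((nat_lit 3), [nat_lit 0, nat_lit 3, nat_lit 1])) (.leaf ((nat_lit 3), [nat_lit 1, nat_lit 3, nat_lit 1, nat_lit 1]))) (.node (nat_lit 8) (.leaf ((nat_lit 5), [])) (.node (nat_lit 9) (.leaf ((nat_lit 6), [])) (.leaf ((nat_lit 4), [nat_lit 2, nat_lit 2, nat_lit 1]))))))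
 (.node (nat_lit 15) (.node (nat_lit 12) (.node (nat_lit 11) (.leaf ((nat_lit 4), [nat_lit 0, nat_lit 0])) (.leaf ((nat_lit 2), [nat_lit 2, nat_lit 1]))) (.node (nat_lit 13) (.leaf ((nat_lit 7), [])) (.node (nat_lit 14) (.leaf ((nat_lit 8), [])) (.leaf ((nat_lit 1), [nat_lit 3, nat_lit 1, nat_lit 3])))))
 (.node (nat_lit 18) (.node (nat_lit 16) (.leaf ((nat_lit 6), [nat_lit 2, nat_lit 2, nat_lit 1])) (.node (nat_lit 17) (.leaf ((nat_lit 9), [])) (.leaf ((nat_lit 5), [nat_lit 2, nat_lit 1, nat_lit 1])))) (.node (nat_lit 19) (.leaf ((nat_lit 3), [nat_lit 0, nat_lit 3, nat_lit 0, nat_lit 0])) (.node (nat_lit 20) (.leaf ((nat_lit 6), [nat_lit 2, nat_lit 0, nat_lit 3, nat_lit 0])) (.leaf ((nat_lit 8), [nat_lit 1, nat_lit 1])))))))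
 (.node (nat_lit 31) (.node (nat_lit 26) (.node (nat_lit 23) (.node (nat_lit 22) (.leaf ((nat_lit 2), [nat_lit 1, nat_lit 2, nat_lit 0])) (.leaf ((nat_lit 2), [nat_lit 2, nat_lit 0, nat_lit 2]))) (.node (nat_lit 24) (.leaf ((nat_lit 4), [nat_lit 3, nat_lit 1, nat_lit 3])) (.node (nat_lit 25) (.leaf ((nat_lit 10), [])) (.leaf ((nat_lit 3), [nat_lit 2, nat_lit 1])))))
 (.node (nat_lit 28) (.node (nat_lit 27) (.leaf ((nat_lit 5), [nat_lit 1, nat_lit 1, nat_lit 2])) (.leaf ((nat_lit 1), [nat_lit 2, nat_lit 2, nat_lit 0, nat_lit 0]))) (.node (nat_lit 29) (.leaf ((nat_lit 4), [nat_lit 2, nat_lit 2, nat_lit 0, nat_lit 0])) (.node (nat_lit 30) (.leaf ((nat_lit 11), [])) (.leaf ((nat_lit 4), [nat_lit 1, nat_lit 2, nat_lit 2]))))))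
 (.node (nat_lit 36) (.node (nat_lit 33) (.node (nat_lit 32) (.leaf ((nat_lit 7), [nat_lit 1, nat_lit 3, nat_lit 0, nat_lit 0])) (.leaf ((nat_lit 10), [nat_lit 3, nat_lit 0]))) (.node (nat_lit 34) (.leaf ((nat_lit 11), [nat_lit 3, nat_lit 1, nat_lit 3])) (.node (nat_lit 35) (.leaf ((nat_lit 8), [nat_lit 0, nat_lit 3, nat_lit 1, nat_lit 1])) (.leaf ((nat_lit 3), [nat_lit 3, nat_lit 1, nat_lit 2])))))
 (.node (nat_lit 39) (.node (nat_lit 37) (.leaf ((nat_lit 7), [nat_lit 0, nat_lit 0, nat_lit 2, nat_lit 0])) (.node (nat_lit 38) (.leaf ((nat_lit 5), [nat_lit 2, nat_lit 1, nat_lit 3])) (.leaf ((nat_lit 9), [nat_lit 2, nat_lit 0])))) (.node (nat_lit 40) (.leaf ((nat_lit 7), [nat_lit 0, nat_lit 0, nat_lit 2, nat_lit 1])) (.node (nat_lit 41) (.leaf ((nat_lit 8), [nat_lit 0, nat_lit 3, nat_lit 1])) (.leaf ((nat_lit 5), [nat_lit 2, nat_lit 2, nat_lit 1]))))))))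
 (.node (nat_lit 63) (.node (nat_lit 52) (.node (nat_lit 47) (.node (nat_lit 44) (.node (nat_lit 43) (.leaf ((nat_lit 4), [nat_lit 0, nat_lit 2, nat_lit 0, nat_lit 2])) (.leaf ((nat_lit 7), [nat_lit 0, nat_lit 2, nat_lit 0, nat_lit 2]))) (.node (nat_lit 45) (.leaf ((nat_lit 5), [nat_lit 1, nat_lit 3, nat_lit 1, nat_lit 1])) (.node (nat_lit 46) (.leaf ((nat_lit 5), [nat_lit 2, nat_lit 0, nat_lit 2])) (.leaf ((nat_lit 10), [nat_lit 0, nat_lit 3, nat_lit 1, nat_lit 1])))))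
 (.node (nat_lit 49) (.node (nat_lit 48) (.leaf ((nat_lit 10), [nat_lit 3])) (.leaf ((nat_lit 7), [nat_lit 1]))) (.node (nat_lit 50) (.leaf ((nat_lit 11), [nat_lit 2, nat_lit 1, nat_lit 3])) (.node (nat_lit 51) (.leaf ((nat_lit 12), [])) (.leaf ((nat_lit 7), [nat_lit 3, nat_lit 0, nat_lit 2]))))))
 (.node (nat_lit 57) (.node (nat_lit 54) (.node (nat_lit 53) (.leaf ((nat_lit 5), [nat_lit 3, nat_lit 0, nat_lit 0])) (.leaf ((nat_lit 3), [nat_lit 0, nat_lit 2, nat_lit 1]))) (.node (nat_lit 55) (.leaf ((nat_lit 4), [nat_lit 3, nat_lit 1])) (.node (nat_lit 56) (.leaf ((nat_lit 3), [nat_lit 2, nat_lit 0, nat_lit 0])) (.leaf ((nat_lit 10), [nat_lit 1, nat_lit 2, nat_lit 0])))))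
 (.node (nat_lit 60) (.node (nat_lit 58) (.leaf ((nat_lit 4), [nat_lit 1, nat_lit 2])) (.node (nat_lit 59) (.leaf ((nat_lit 6), [nat_lit 2, nat_lit 2, nat_lit 0, nat_lit 0])) (.leaf ((nat_lit 12), [nat_lit 1, nat_lit 1])))) (.node (nat_lit 61) (.leaf ((nat_lit 1), [nat_lit 1, nat_lit 3, nat_lit 1])) (.node (nat_lit 62) (.leaf ((nat_lit 9), [nat_lit 1, nat_lit 1, nat_lit 2])) (.leaf ((nat_lit 5), [nat_lit 2, nat_lit 2, nat_lit 0])))))))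
 (.node (nat_lit 73) (.node (nat_lit 68) (.node (nat_lit 65) (.node (nat_lit 64) (.leaf ((nat_lit 2), [nat_lit 0, nat_lit 3, nat_lit 1, nat_lit 1])) (.leaf ((nat_lit 4), [nat_lit 1, nat_lit 3, nat_lit 0]))) (.node (nat_lit 66) (.leaf ((nat_lit 9), [nat_lit 3, nat_lit 1, nat_lit 2])) (.node (nat_lit 67) (.leaf ((nat_lit 9), [nat_lit 2, nat_lit 1])) (.leaf ((nat_lit 5), [nat_lit 0, nat_lit 3, nat_lit 0, nat_lit 2])))))
 (.node (nat_lit 70) (.node (nat_lit 69) (.leaf ((nat_lit 4), [nat_lit 0, nat_lit 3])) (.leaf ((nat_lit 3), [nat_lit 0, nat_lit 0, nat_lit 2, nat_lit 0]))) (.node (nat_lit 71) (.leaf ((nat_lit 5), [nat_lit 1, nat_lit 3, nat_lit 0])) (.node (nat_lit 72) (.leaf ((nat_lit 3), [nat_lit 2, nat_lit 0])) (.leaf ((nat_lit 5), [nat_lit 2]))))))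
 (.node (nat_lit 78) (.node (nat_lit 75) (.node (nat_lit 74) (.leaf ((nat_lit 3), [nat_lit 0, nat_lit 0, nat_lit 2, nat_lit 1])) (.leaf ((nat_lit 5), [nat_lit 1, nat_lit 3, nat_lit 1]))) (.node (nat_lit 76) (.leaf ((nat_lit 11), [nat_lit 2, nat_lit 2, nat_lit 0, nat_lit 0])) (.node (nat_lit 77) (.leaf ((nat_lit 7), [nat_lit 1, nat_lit 1, nat_lit 2])) (.leaf ((nat_lit 7), [nat_lit 0, nat_lit 0, nat_lit 3])))))
 (.node (nat_lit 81) (.node (nat_lit 79) (.leaf ((nat_lit 10), [nat_lit 0, nat_lit 2, nat_lit 0])) (.node (nat_lit 80) (.leaf ((nat_lit 2), [nat_lit 1, nat_lit 2, nat_lit 2])) (.leaf ((nat_lit 2), [nat_lit 1, nat_lit 1])))) (.node (nat_lit 82) (.leaf ((nat_lit 11), [nat_lit 3, nat_lit 0, nat_lit 0])) (.node (nat_lit 83) (.leaf ((nat_lit 3), [nat_lit 3, nat_lit 3])) (.leaf ((nat_lit 11), [nat_lit 1, nat_lit 2, nat_lit 2])))))))))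
 (.node (nat_lit 126) (.node (nat_lit 105) (.node (nat_lit 94) (.node (nat_lit 89) (.node (nat_lit 86) (.node (nat_lit 85) (.leaf ((nat_lit 3), [nat_lit 3, nat_lit 1])) (.leaf ((nat_lit 3), [nat_lit 0, nat_lit 3]))) (.node (nat_lit 87) (.leaf ((nat_lit 11), [nat_lit 1, nat_lit 3, nat_lit 1, nat_lit 1])) (.node (nat_lit 88) (.leaf ((nat_lit 1), [nat_lit 0, nat_lit 0, nat_lit 3])) (.leaf ((nat_lit 10), [nat_lit 0, nat_lit 3])))))
 (.node (nat_lit 91) (.node (nat_lit 90) (.leaf ((nat_lit 10), [nat_lit 3, nat_lit 0, nat_lit 0])) (.leaf ((nat_lit 3), [nat_lit 1, nat_lit 2]))) (.node (nat_lit 92) (.leaf ((nat_lit 11), [nat_lit 1, nat_lit 1, nat_lit 2, nat_lit 0])) (.node (nat_lit 93) (.leaf ((nat_lit 7), [nat_lit 2, nat_lit 1, nat_lit 3])) (.leaf ((nat_lit 5), [nat_lit 3, nat_lit 1, nat_lit 1]))))))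
 (.node (nat_lit 99) (.node (nat_lit 96) (.node (nat_lit 95) (.leaf ((nat_lit 2), [nat_lit 2, nat_lit 0])) (.leaf ((nat_lit 1), [nat_lit 1]))) (.node (nat_lit 97) (.leaf ((nat_lit 7), [nat_lit 2, nat_lit 2, nat_lit 0, nat_lit 0])) (.node (nat_lit 98) (.leaf ((nat_lit 3), [nat_lit 2])) (.leaf ((nat_lit 4), [nat_lit 1, nat_lit 3, nat_lit 1])))))
 (.node (nat_lit 102) (.node (nat_lit 100) (.leaf ((nat_lit 12), [nat_lit 3, nat_lit 1, nat_lit 3])) (.node (nat_lit 101) (.leaf ((nat_lit 2), [nat_lit 0, nat_lit 3, nat_lit 0])) (.leaf ((nat_lit 6), [nat_lit 3, nat_lit 1, nat_lit 3])))) (.node (nat_lit 103) (.leaf ((nat_lit 8), [nat_lit 3, nat_lit 3, nat_lit 0])) (.node (nat_lit 104) (.leaf ((nat_lit 3), [nat_lit 3, nat_lit 0, nat_lit 0])) (.leaf ((nat_lit 11), [nat_lit 0, nat_lit 0, nat_lit 3])))))))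
 (.node (nat_lit 115) (.node (nat_lit 110) (.node (nat_lit 107) (.node (nat_lit 106) (.leaf ((nat_lit 6), [nat_lit 2, nat_lit 1])) (.leaf ((nat_lit 3), [nat_lit 3, nat_lit 1, nat_lit 3]))) (.node (nat_lit 108) (.leaf ((nat_lit 2), [nat_lit 3, nat_lit 1, nat_lit 2])) (.node (nat_lit 109) (.leaf ((nat_lit 3), [nat_lit 2, nat_lit 2, nat_lit 1])) (.leaf ((nat_lit 7), [nat_lit 1, nat_lit 2])))))
 (.node (nat_lit 112) (.node (nat_lit 111) (.leaf ((nat_lit 5), [nat_lit 3, nat_lit 0])) (.leaf ((nat_lit 5), [nat_lit 0, nat_lit 0, nat_lit 2, nat_lit 0]))) (.node (nat_lit 113) (.leaf ((nat_lit 12), [nat_lit 2, nat_lit 0, nat_lit 3, nat_lit 0])) (.node (nat_lit 114) (.leaf ((nat_lit 8), [nat_lit 3, nat_lit 0, nat_lit 2])) (.leaf ((nat_lit 6), [nat_lit 0, nat_lit 0, nat_lit 3]))))))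
 (.node (nat_lit 120) (.node (nat_lit 117) (.node (nat_lit 116) (.leaf ((nat_lit 11), [nat_lit 0, nat_lit 0])) (.leaf ((nat_lit 11), [nat_lit 1, nat_lit 1, nat_lit 2]))) (.node (nat_lit 118) (.leaf ((nat_lit 9), [nat_lit 2, nat_lit 0, nat_lit 3])) (.node (nat_lit 119) (.leaf ((nat_lit 8), [nat_lit 0, nat_lit 3])) (.leaf ((nat_lit 5), [nat_lit 0, nat_lit 2, nat_lit 0, nat_lit 2])))))
 (.node (nat_lit 123) (.node (nat_lit 121) (.leaf ((nat_lit 6), [nat_lit 0, nat_lit 2])) (.node (nat_lit 122) (.leaf ((nat_lit 1), [nat_lit 3, nat_lit 0])) (.leaf ((nat_lit 9), [nat_lit 2, nat_lit 0, nat_lit 3, nat_lit 0])))) (.node (nat_lit 124) (.leaf ((nat_lit 11), [nat_lit 2])) (.node (nat_lit 125) (.leaf ((nat_lit 5), [nat_lit 1, nat_lit 3, nat_lit 3])) (.leaf ((nat_lit 6), [nat_lit 2, nat_lit 0, nat_lit 0]))))))))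
 (.node (nat_lit 147) (.node (nat_lit 136) (.node (nat_lit 131) (.node (nat_lit 128) (.node (nat_lit 127) (.leaf ((nat_lit 12), [nat_lit 3, nat_lit 3, nat_lit 0])) (.leaf ((nat_lit 6), [nat_lit 1, nat_lit 2, nat_lit 2]))) (.node (nat_lit 129) (.leaf ((nat_lit 5), [nat_lit 1, nat_lit 2, nat_lit 0])) (.node (nat_lit 130) (.leaf ((nat_lit 3), [nat_lit 2, nat_lit 1, nat_lit 1])) (.leaf ((nat_lit 3), [nat_lit 1, nat_lit 2, nat_lit 2])))))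
 (.node (nat_lit 133) (.node (nat_lit 132) (.leaf ((nat_lit 8), [nat_lit 0, nat_lit 3, nat_lit 0])) (.leaf ((nat_lit 1), [nat_lit 2, nat_lit 1, nat_lit 3, nat_lit 0]))) (.node (nat_lit 134) (.leaf ((nat_lit 2), [nat_lit 2, nat_lit 0, nat_lit 0])) (.node (nat_lit 135) (.leaf ((nat_lit 7), [nat_lit 3, nat_lit 1])) (.leaf ((nat_lit 2), [nat_lit 1, nat_lit 3, nat_lit 1, nat_lit 1]))))))
 (.node (nat_lit 141) (.node (nat_lit 138) (.node (nat_lit 137) (.leaf ((nat_lit 9), [nat_lit 2, nat_lit 0, nat_lit 0])) (.leaf ((nat_lit 8), [nat_lit 2, nat_lit 2]))) (.node (nat_lit 139) (.leaf ((nat_lit 7), [nat_lit 1, nat_lit 2, nat_lit 0])) (.node (nat_lit 140) (.leaf ((nat_lit 1), [nat_lit 0, nat_lit 0, nat_lit 2, nat_lit 0])) (.leaf ((nat_lit 6), [nat_lit 2])))))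
 (.node (nat_lit 144) (.node (nat_lit 142) (.leaf ((nat_lit 6), [nat_lit 2, nat_lit 0])) (.node (nat_lit 143) (.leaf ((nat_lit 4), [nat_lit 2])) (.leaf ((nat_lit 8), [nat_lit 0, nat_lit 2, nat_lit 1])))) (.node (nat_lit 145) (.leaf ((nat_lit 1), [nat_lit 2, nat_lit 0])) (.node (nat_lit 146) (.leaf ((nat_lit 8), [nat_lit 1, nat_lit 3, nat_lit 1, nat_lit 1])) (.leaf ((nat_lit 6), [nat_lit 0, nat_lit 2, nat_lit 1])))))))
 (.node (nat_lit 157) (.node (nat_lit 152) (.node (nat_lit 149) (.node (nat_lit 148) (.leaf ((nat_lit 12), [nat_lit 0, nat_lit 0])) (.leaf ((nat_lit 9), [nat_lit 2, nat_lit 1, nat_lit 3, nat_lit 0]))) (.node (nat_lit 150) (.leaf ((nat_lit 12), [nat_lit 3, nat_lit 0])) (.node (nat_lit 151) (.leaf ((nat_lit 8), [nat_lit 0, nat_lit 0, nat_lit 2, nat_lit 0])) (.leaf ((nat_lit 5), [nat_lit 0])))))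
 (.node (nat_lit 154) (.node (nat_lit 153) (.leaf ((nat_lit 4), [nat_lit 2, nat_lit 2])) (.leaf ((nat_lit 8), [nat_lit 0, nat_lit 2, nat_lit 0]))) (.node (nat_lit 155) (.leaf ((nat_lit 1), [nat_lit 1, nat_lit 3, nat_lit 0])) (.node (nat_lit 156) (.leaf ((nat_lit 11), [nat_lit 0, nat_lit 0, nat_lit 2, nat_lit 1])) (.leaf ((nat_lit 3), [nat_lit 2, nat_lit 2]))))))
 (.node (nat_lit 162) (.node (nat_lit 159) (.node (nat_lit 158) (.leaf ((nat_lit 5), [nat_lit 2, nat_lit 0, nat_lit 0])) (.leaf ((nat_lit 2), [nat_lit 0, nat_lit 2, nat_lit 1]))) (.node (nat_lit 160) (.leaf ((nat_lit 10), [nat_lit 2, nat_lit 0, nat_lit 2])) (.node (nat_lit 161) (.leaf ((nat_lit 12), [nat_lit 2, nat_lit 2, nat_lit 0, nat_lit 0])) (.leaf ((nat_lit 2), [nat_lit 1, nat_lit 2])))))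
 (.node (nat_lit 165) (.node (nat_lit 163) (.leaf ((nat_lit 7), [nat_lit 2, nat_lit 2, nat_lit 0])) (.node (nat_lit 164) (.leaf ((nat_lit 10), [nat_lit 2, nat_lit 2, nat_lit 0, nat_lit 0])) (.leaf ((nat_lit 10), [nat_lit 1, nat_lit 2])))) (.node (nat_lit 166) (.leaf ((nat_lit 11), [nat_lit 0, nat_lit 3, nat_lit 0, nat_lit 2])) (.node (nat_lit 167) (.leaf ((nat_lit 3), [nat_lit 0, nat_lit 3, nat_lit 0])) (.leaf ((nat_lit 11), [nat_lit 1, nat_lit 1]))))))))))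
noncomputable def bPA_1 : Tr (ℕ × List ℕ) := (.node (nat_lit 252) (.node (nat_lit 210) (.node (nat_lit 189) (.node (nat_lit 178) (.node (nat_lit 173) (.node (nat_lit 170) (.node (nat_lit 169) (.leaf ((nat_lit 4), [nat_lit 1, nat_lit 3])) (.leaf ((nat_lit 6), [nat_lit 3, nat_lit 3, nat_lit 0]))) (.node (nat_lit 171) (.leaf ((nat_lit 11), [nat_lit 1, nat_lit 3, nat_lit 0])) (.node (nat_lit 172) (.leaf ((nat_lit 13), [])) (.leaf ((nat_lit 9), [nat_lit 0, nat_lit 3, nat_lit 0, nat_lit 0])))))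
 (.node (nat_lit 175) (.node (nat_lit 174) (.leaf ((nat_lit 10), [nat_lit 1, nat_lit 3, nat_lit 1, nat_lit 1])) (.leaf ((nat_lit 4), [nat_lit 0, nat_lit 2]))) (.node (nat_lit 176) (.leaf ((nat_lit 11), [nat_lit 3, nat_lit 3, nat_lit 0])) (.node (nat_lit 177) (.leaf ((nat_lit 11), [nat_lit 0, nat_lit 2])) (.leaf ((nat_lit 12), [nat_lit 0]))))))
 (.node (nat_lit 183) (.node (nat_lit 180) (.node (nat_lit 179) (.leaf ((nat_lit 3), [nat_lit 2, nat_lit 0, nat_lit 3, nat_lit 0])) (.leaf ((nat_lit 1), [nat_lit 3, nat_lit 0, nat_lit 0]))) (.node (nat_lit 181) (.leaf ((nat_lit 7), [nat_lit 0, nat_lit 0])) (.node (nat_lit 182) (.leaf ((nat_lit 5), [nat_lit 0, nat_lit 0])) (.leaf ((nat_lit 4), [nat_lit 0, nat_lit 0, nat_lit 2, nat_lit 1])))))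
 (.node (nat_lit 186) (.node (nat_lit 184) (.leaf ((nat_lit 6), [nat_lit 1, nat_lit 1, nat_lit 2])) (.node (nat_lit 185) (.leaf ((nat_lit 11), [nat_lit 2, nat_lit 1])) (.leaf ((nat_lit 5), [nat_lit 1, nat_lit 3])))) (.node (nat_lit 187) (.leaf ((nat_lit 3), [nat_lit 2, nat_lit 0, nat_lit 3])) (.node (nat_lit 188) (.leaf ((nat_lit 7), [nat_lit 0, nat_lit 2])) (.leaf ((nat_lit 2), [nat_lit 0])))))))
 (.node (nat_lit 199) (.node (nat_lit 194) (.node (nat_lit 191) (.node (nat_lit 190) (.leaf ((nat_lit 7), [nat_lit 2, nat_lit 1, nat_lit 1])) (.leaf ((nat_lit 11), [nat_lit 2, nat_lit 0, nat_lit 0]))) (.node (nat_lit 192) (.leaf ((nat_lit 10), [nat_lit 2, nat_lit 2, nat_lit 1])) (.node (nat_lit 193) (.leaf ((nat_lit 7), [nat_lit 0, nat_lit 3, nat_lit 0, nat_lit 2])) (.leaf ((nat_lit 1), [nat_lit 2, nat_lit 1, nat_lit 1])))))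
 (.node (nat_lit 196) (.node (nat_lit 195) (.leaf ((nat_lit 8), [nat_lit 0, nat_lit 0, nat_lit 3])) (.leaf ((nat_lit 13), [nat_lit 2, nat_lit 0]))) (.node (nat_lit 197) (.leaf ((nat_lit 7), [nat_lit 1, nat_lit 3, nat_lit 1])) (.node (nat_lit 198) (.leaf ((nat_lit 4), [nat_lit 0, nat_lit 3, nat_lit 1])) (.leaf ((nat_lit 2), [nat_lit 2, nat_lit 2]))))))
 (.node (nat_lit 204) (.node (nat_lit 201) (.node (nat_lit 200) (.leaf ((nat_lit 4), [nat_lit 2, nat_lit 0, nat_lit 3])) (.leaf ((nat_lit 5), [nat_lit 3, nat_lit 3]))) (.node (nat_lit 202) (.leaf ((nat_lit 5), [nat_lit 0, nat_lit 2])) (.node (nat_lit 203) (.leaf ((nat_lit 3), [nat_lit 1, nat_lit 1, nat_lit 2, nat_lit 0])) (.leaf ((nat_lit 7), [nat_lit 1, nat_lit 3, nat_lit 1, nat_lit 1])))))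
 (.node (nat_lit 207) (.node (nat_lit 205) (.leaf ((nat_lit 4), [nat_lit 2, nat_lit 2, nat_lit 0])) (.node (nat_lit 206) (.leaf ((nat_lit 4), [nat_lit 3, nat_lit 0, nat_lit 0])) (.leaf ((nat_lit 8), [nat_lit 0, nat_lit 0, nat_lit 2, nat_lit 1])))) (.node (nat_lit 208) (.leaf ((nat_lit 8), [nat_lit 0, nat_lit 3, nat_lit 0, nat_lit 0])) (.node (nat_lit 209) (.leaf ((nat_lit 4), [nat_lit 0, nat_lit 0, nat_lit 2, nat_lit 0])) (.leaf ((nat_lit 6), [nat_lit 2, nat_lit 1, nat_lit 3]))))))))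
 (.node (nat_lit 231) (.node (nat_lit 220) (.node (nat_lit 215) (.node (nat_lit 212) (.node (nat_lit 211) (.leaf ((nat_lit 1), [nat_lit 3, nat_lit 3, nat_lit 0])) (.leaf ((nat_lit 3), [nat_lit 3, nat_lit 3, nat_lit 0]))) (.node (nat_lit 213) (.leaf ((nat_lit 12), [nat_lit 0, nat_lit 2, nat_lit 1])) (.node (nat_lit 214) (.leaf ((nat_lit 8), [nat_lit 1, nat_lit 2, nat_lit 1])) (.leaf ((nat_lit 3), [nat_lit 1, nat_lit 3, nat_lit 3])))))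
 (.node (nat_lit 217) (.node (nat_lit 216) (.leaf ((nat_lit 5), [nat_lit 3, nat_lit 1])) (.leaf ((nat_lit 12), [nat_lit 1, nat_lit 3, nat_lit 1, nat_lit 1]))) (.node (nat_lit 218) (.leaf ((nat_lit 4), [nat_lit 2, nat_lit 0])) (.node (nat_lit 219) (.leaf ((nat_lit 6), [nat_lit 0, nat_lit 3, nat_lit 1, nat_lit 1])) (.leaf ((nat_lit 7), [nat_lit 3, nat_lit 3, nat_lit 0]))))))
 (.node (nat_lit 225) (.node (nat_lit 222) (.node (nat_lit 221) (.leaf ((nat_lit 6), [nat_lit 1, nat_lit 2])) (.leaf ((nat_lit 8), [nat_lit 0, nat_lit 0, nat_lit 2]))) (.node (nat_lit 223) (.leaf ((nat_lit 1), [nat_lit 2, nat_lit 0, nat_lit 3, nat_lit 0])) (.node (nat_lit 224) (.leaf ((nat_lit 1), [nat_lit 1, nat_lit 2])) (.leaf ((nat_lit 6), [nat_lit 2, nat_lit 0, nat_lit 3])))))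
 (.node (nat_lit 228) (.node (nat_lit 226) (.leaf ((nat_lit 7), [nat_lit 1, nat_lit 2, nat_lit 1])) (.node (nat_lit 227) (.leaf ((nat_lit 5), [nat_lit 3, nat_lit 3, nat_lit 0])) (.leaf ((nat_lit 4), [nat_lit 1, nat_lit 3, nat_lit 1, nat_lit 1])))) (.node (nat_lit 229) (.leaf ((nat_lit 4), [nat_lit 3, nat_lit 3, nat_lit 0])) (.node (nat_lit 230) (.leaf ((nat_lit 8), [nat_lit 1, nat_lit 3, nat_lit 0, nat_lit 0])) (.leaf ((nat_lit 5), [nat_lit 1, nat_lit 1])))))))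
 (.node (nat_lit 241) (.node (nat_lit 236) (.node (nat_lit 233) (.node (nat_lit 232) (.leaf ((nat_lit 13), [nat_lit 1])) (.leaf ((nat_lit 11), [nat_lit 2, nat_lit 2, nat_lit 0]))) (.node (nat_lit 234) (.leaf ((nat_lit 12), [nat_lit 1, nat_lit 3, nat_lit 1])) (.node (nat_lit 235) (.leaf ((nat_lit 11), [nat_lit 3])) (.leaf ((nat_lit 7), [nat_lit 2, nat_lit 2])))))
 (.node (nat_lit 238) (.node (nat_lit 237) (.leaf ((nat_lit 10), [nat_lit 1, nat_lit 3, nat_lit 0])) (.leaf ((nat_lit 10), [nat_lit 3, nat_lit 0, nat_lit 2]))) (.node (nat_lit 239) (.leaf ((nat_lit 11), [nat_lit 0, nat_lit 3, nat_lit 1, nat_lit 1])) (.node (nat_lit 240) (.leaf ((nat_lit 10), [nat_lit 3, nat_lit 1])) (.leaf ((nat_lit 2), [nat_lit 0, nat_lit 3, nat_lit 1]))))))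
 (.node (nat_lit 246) (.node (nat_lit 243) (.node (nat_lit 242) (.leaf ((nat_lit 11), [nat_lit 0, nat_lit 3])) (.leaf ((nat_lit 8), [nat_lit 3]))) (.node (nat_lit 244) (.leaf ((nat_lit 4), [nat_lit 1, nat_lit 1, nat_lit 2])) (.node (nat_lit 245) (.leaf ((nat_lit 11), [nat_lit 0, nat_lit 0, nat_lit 2, nat_lit 0])) (.leaf ((nat_lit 8), [nat_lit 2, nat_lit 1])))))
 (.node (nat_lit 249) (.node (nat_lit 247) (.leaf ((nat_lit 10), [nat_lit 0, nat_lit 3, nat_lit 0, nat_lit 2])) (.node (nat_lit 248) (.leaf ((nat_lit 8), [nat_lit 1, nat_lit 2])) (.leaf ((nat_lit 12), [nat_lit 1, nat_lit 2, nat_lit 0])))) (.node (nat_lit 250) (.leaf ((nat_lit 3), [nat_lit 1, nat_lit 1, nat_lit 2])) (.node (nat_lit 251) (.leaf ((nat_lit 10), [nat_lit 2, nat_lit 1, nat_lit 3])) (.leaf ((nat_lit 7), [nat_lit 1, nat_lit 3, nat_lit 3])))))))))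
 (.node (nat_lit 294) (.node (nat_lit 273) (.node (nat_lit 262) (.node (nat_lit 257) (.node (nat_lit 254) (.node (nat_lit 253) (.leaf ((nat_lit 7), [nat_lit 2, nat_lit 0, nat_lit 2])) (.leaf ((nat_lit 1), [nat_lit 3, nat_lit 1]))) (.node (nat_lit 255) (.leaf ((nat_lit 12), [nat_lit 3, nat_lit 1])) (.node (nat_lit 256) (.leaf ((nat_lit 10), [nat_lit 0, nat_lit 3, nat_lit 0, nat_lit 0])) (.leaf ((nat_lit 12), [nat_lit 2, nat_lit 0, nat_lit 2])))))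
 (.node (nat_lit 259) (.node (nat_lit 258) (.leaf ((nat_lit 5), [nat_lit 1, nat_lit 2, nat_lit 2])) (.leaf ((nat_lit 2), [nat_lit 0, nat_lit 3, nat_lit 0, nat_lit 2]))) (.node (nat_lit 260) (.leaf ((nat_lit 7), [nat_lit 2])) (.node (nat_lit 261) (.leaf ((nat_lit 11), [nat_lit 0, nat_lit 2, nat_lit 0])) (.leaf ((nat_lit 2), [nat_lit 3, nat_lit 0]))))))
 (.node (nat_lit 267) (.node (nat_lit 264) (.node (nat_lit 263) (.leaf ((nat_lit 6), [nat_lit 0, nat_lit 0, nat_lit 2, nat_lit 0])) (.leaf ((nat_lit 3), [nat_lit 0, nat_lit 0, nat_lit 2]))) (.node (nat_lit 265) (.leaf ((nat_lit 8), [nat_lit 0, nat_lit 3, nat_lit 0, nat_lit 2])) (.node (nat_lit 266) (.leaf ((nat_lit 8), [nat_lit 1, nat_lit 3])) (.leaf ((nat_lit 2), [nat_lit 2, nat_lit 1, nat_lit 3])))))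
 (.node (nat_lit 270) (.node (nat_lit 268) (.leaf ((nat_lit 8), [nat_lit 2, nat_lit 1, nat_lit 3, nat_lit 0])) (.node (nat_lit 269) (.leaf ((nat_lit 12), [nat_lit 1, nat_lit 2, nat_lit 1])) (.leaf ((nat_lit 8), [nat_lit 3, nat_lit 1, nat_lit 3])))) (.node (nat_lit 271) (.leaf ((nat_lit 6), [nat_lit 1, nat_lit 3, nat_lit 3])) (.node (nat_lit 272) (.leaf ((nat_lit 5), [nat_lit 1])) (.leaf ((nat_lit 5), [nat_lit 2, nat_lit 1])))))))
 (.node (nat_lit 283) (.node (nat_lit 278) (.node (nat_lit 275) (.node (nat_lit 274) (.leaf ((nat_lit 11), [nat_lit 0, nat_lit 3, nat_lit 0, nat_lit 0])) (.leaf ((nat_lit 3), [nat_lit 2, nat_lit 1, nat_lit 3]))) (.node (nat_lit 276) (.leaf ((nat_lit 1), [nat_lit 0, nat_lit 2, nat_lit 0, nat_lit 2])) (.node (nat_lit 277) (.leaf ((nat_lit 6), [nat_lit 0, nat_lit 3, nat_lit 0, nat_lit 2])) (.leaf ((nat_lit 8), [nat_lit 2, nat_lit 2, nat_lit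 0, nat_lit 0])))))
 (.node (nat_lit 280) (.node (nat_lit 279) (.leaf ((nat_lit 1), [nat_lit 2, nat_lit 0, nat_lit 3])) (.leaf ((nat_lit 1), [nat_lit 0, nat_lit 3, nat_lit 1]))) (.node (nat_lit 281) (.leaf ((nat_lit 4), [nat_lit 0, nat_lit 0, nat_lit 3])) (.node (nat_lit 282) (.leaf ((nat_lit 2), [nat_lit 1, nat_lit 1, nat_lit 2, nat_lit 0])) (.leaf ((nat_lit 9), [nat_lit 3, nat_lit 3]))))))
 (.node (nat_lit 288) (.node (nat_lit 285) (.node (nat_lit 284) (.leaf ((nat_lit 7), [nat_lit 2, nat_lit 0, nat_lit 3, nat_lit 0])) (.leaf ((nat_lit 4), [nat_lit 0, nat_lit 2, nat_lit 0]))) (.node (nat_lit 286) (.leaf ((nat_lit 9), [nat_lit 1])) (.node (nat_lit 287) (.leaf ((nat_lit 3), [nat_lit 0])) (.leaf ((nat_lit 12), [nat_lit 0, nat_lit 3, nat_lit 1, nat_lit 1])))))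
 (.node (nat_lit 291) (.node (nat_lit 289) (.leaf ((nat_lit 2), [nat_lit 1, nat_lit 1, nat_lit 2])) (.node (nat_lit 290) (.leaf ((nat_lit 6), [nat_lit 3, nat_lit 1, nat_lit 2])) (.leaf ((nat_lit 12), [nat_lit 3, nat_lit 0, nat_lit 0])))) (.node (nat_lit 292) (.leaf ((nat_lit 12), [nat_lit 1, nat_lit 2])) (.node (nat_lit 293) (.leaf ((nat_lit 10), [nat_lit 0])) (.leaf ((nat_lit 1), [nat_lit 2, nat_lit 2, nat_lit 1]))))))))
 (.node (nat_lit 315) (.node (nat_lit 304) (.node (nat_lit 299) (.node (nat_lit 296) (.node (nat_lit 295) (.leaf ((nat_lit 4), [nat_lit 2, nat_lit 1, nat_lit 1])) (.leaf ((nat_lit 1), [nat_lit 1, nat_lit 3, nat_lit 1, nat_lit 1]))) (.node (nat_lit 297) (.leaf ((nat_lit 4), [nat_lit 2, nat_lit 0, nat_lit 2])) (.node (nat_lit 298) (.leaf ((nat_lit 7), [nat_lit 0, nat_lit 3, nat_lit 0, nat_lit 0])) (.leaf ((nat_lit 4), [nat_lit 3, nat_lit 0, nat_lit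 2])))))
 (.node (nat_lit 301) (.node (nat_lit 300) (.leaf ((nat_lit 7), [nat_lit 1, nat_lit 1])) (.leaf ((nat_lit 4), [nat_lit 2, nat_lit 1, nat_lit 3]))) (.node (nat_lit 302) (.leaf ((nat_lit 7), [nat_lit 1, nat_lit 3])) (.node (nat_lit 303) (.leaf ((nat_lit 10), [nat_lit 3, nat_lit 1, nat_lit 2])) (.leaf ((nat_lit 7), [nat_lit 0]))))))
 (.node (nat_lit 309) (.node (nat_lit 306) (.node (nat_lit 305) (.leaf ((nat_lit 6), [nat_lit 3, nat_lit 0])) (.leaf ((nat_lit 11), [nat_lit 2, nat_lit 0, nat_lit 3]))) (.node (nat_lit 307) (.leaf ((nat_lit 5), [nat_lit 2, nat_lit 2])) (.node (nat_lit 308) (.leaf ((nat_lit 12), [nat_lit 1, nat_lit 1, nat_lit 2, nat_lit 0])) (.leaf ((nat_lit 10), [nat_lit 3, nat_lit 3])))))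
 (.node (nat_lit 312) (.node (nat_lit 310) (.leaf ((nat_lit 9), [nat_lit 2, nat_lit 1, nat_lit 3])) (.node (nat_lit 311) (.leaf ((nat_lit 9), [nat_lit 3, nat_lit 0, nat_lit 0])) (.leaf ((nat_lit 9), [nat_lit 0])))) (.node (nat_lit 313) (.leaf ((nat_lit 1), [nat_lit 3, nat_lit 0, nat_lit 2])) (.node (nat_lit 314) (.leaf ((nat_lit 6), [nat_lit 2, nat_lit 0, nat_lit 2])) (.leaf ((nat_lit 1), [nat_lit 1, nat_lit 1])))))))
 (.node (nat_lit 325) (.node (nat_lit 320) (.node (nat_lit 317) (.node (nat_lit 316) (.leaf ((nat_lit 7), [nat_lit 0, nat_lit 3, nat_lit 0])) (.leaf ((nat_lit 2), [nat_lit 1, nat_lit 3, nat_lit 3]))) (.node (nat_lit 318) (.leaf ((nat_lit 5), [nat_lit 0, nat_lit 0, nat_lit 3])) (.node (nat_lit 319) (.leaf ((nat_lit 12), [nat_lit 2, nat_lit 0])) (.leaf ((nat_lit 12), [nat_lit 3, nat_lit 3])))))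
 (.node (nat_lit 322) (.node (nat_lit 321) (.leaf ((nat_lit 10), [nat_lit 2, nat_lit 0])) (.leaf ((nat_lit 10), [nat_lit 0, nat_lit 3, nat_lit 1]))) (.node (nat_lit 323) (.leaf ((nat_lit 6), [nat_lit 2, nat_lit 2, nat_lit 0])) (.node (nat_lit 324) (.leaf ((nat_lit 8), [nat_lit 2, nat_lit 2, nat_lit 0])) (.leaf ((nat_lit 5), [nat_lit 2, nat_lit 2, nat_lit 0, nat_lit 0]))))))
 (.node (nat_lit 330) (.node (nat_lit 327) (.node (nat_lit 326) (.leaf ((nat_lit 6), [nat_lit 2, nat_lit 1, nat_lit 1])) (.leaf ((nat_lit 11), [nat_lit 2, nat_lit 0]))) (.node (nat_lit 328) (.leaf ((nat_lit 9), [nat_lit 0, nat_lit 0])) (.node (nat_lit 329) (.leaf ((nat_lit 6), [nat_lit 3, nat_lit 1])) (.leaf ((nat_lit 12), [nat_lit 1, nat_lit 2, nat_lit 2])))))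
 (.node (nat_lit 333) (.node (nat_lit 331) (.leaf ((nat_lit 1), [nat_lit 2, nat_lit 1, nat_lit 3])) (.node (nat_lit 332) (.leaf ((nat_lit 10), [nat_lit 0, nat_lit 0, nat_lit 2, nat_lit 0])) (.leaf ((nat_lit 1), [nat_lit 0, nat_lit 2, nat_lit 0])))) (.node (nat_lit 334) (.leaf ((nat_lit 11), [nat_lit 1, nat_lit 3, nat_lit 3])) (.node (nat_lit 335) (.leaf ((nat_lit 10), [nat_lit 0, nat_lit 2, nat_lit 0, nat_lit 2])) (.leaf ((nat_lit 5), [nat_lit 0, nat_lit 3, nat_lit 0, nat_lit 0]))))))))))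
noncomputable def bPA_2 : Tr (ℕ × List ℕ) := (.node (nat_lit 420) (.node (nat_lit 378) (.node (nat_lit 357) (.node (nat_lit 346) (.node (nat_lit 341) (.node (nat_lit 338) (.node (nat_lit 337) (.leaf ((nat_lit 8), [nat_lit 2, nat_lit 1, nat_lit 1])) (.leaf ((nat_lit 5), [nat_lit 0, nat_lit 3, nat_lit 1]))) (.node (nat_lit 339) (.leaf ((nat_lit 12), [nat_lit 2, nat_lit 0, nat_lit 0])) (.node (nat_lit 340) (.leaf ((nat_lit 2), [nat_lit 0, nat_lit 0, nat_lit 2])) (.leaf ((nat_lit 7), [nat_lit 1, nat_lit 2, nat_lit 2])))))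
 (.node (nat_lit 343) (.node (nat_lit 342) (.leaf ((nat_lit 11), [nat_lit 2, nat_lit 2])) (.leaf ((nat_lit 1), [nat_lit 2, nat_lit 0, nat_lit 2]))) (.node (nat_lit 344) (.leaf ((nat_lit 7), [nat_lit 3, nat_lit 1, nat_lit 1])) (.node (nat_lit 345) (.leaf ((nat_lit 10), [nat_lit 2, nat_lit 1, nat_lit 1])) (.leaf ((nat_lit 8), [nat_lit 0]))))))
 (.node (nat_lit 351) (.node (nat_lit 348) (.node (nat_lit 347) (.leaf ((nat_lit 1), [nat_lit 3])) (.leaf ((nat_lit 4), [nat_lit 0, nat_lit 3, nat_lit 0]))) (.node (nat_lit 349) (.leaf ((nat_lit 12), [nat_lit 0, nat_lit 0, nat_lit 3])) (.node (nat_lit 350) (.leaf ((nat_lit 5), [nat_lit 0, nat_lit 3])) (.leaf ((nat_lit 9), [nat_lit 0, nat_lit 3])))))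
 (.node (nat_lit 354) (.node (nat_lit 352) (.leaf ((nat_lit 3), [nat_lit 3, nat_lit 1, nat_lit 1])) (.node (nat_lit 353) (.leaf ((nat_lit 6), [nat_lit 3, nat_lit 0, nat_lit 2])) (.leaf ((nat_lit 10), [nat_lit 1, nat_lit 1, nat_lit 2])))) (.node (nat_lit 355) (.leaf ((nat_lit 8), [nat_lit 1])) (.node (nat_lit 356) (.leaf ((nat_lit 8), [nat_lit 3, nat_lit 0])) (.leaf ((nat_lit 13), [nat_lit 1, nat_lit 1])))))))
 (.node (nat_lit 367) (.node (nat_lit 362) (.node (nat_lit 359) (.node (nat_lit 358) (.leaf ((nat_lit 10), [nat_lit 1, nat_lit 3, nat_lit 1])) (.leaf ((nat_lit 1), [nat_lit 0, nat_lit 0, nat_lit 2, nat_lit 1]))) (.node (nat_lit 360) (.leaf ((nat_lit 3), [nat_lit 1])) (.node (nat_lit 361) (.leaf ((nat_lit 9), [nat_lit 2])) (.leaf ((nat_lit 4), [nat_lit 0, nat_lit 2, nat_lit 1])))))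
 (.node (nat_lit 364) (.node (nat_lit 363) (.leaf ((nat_lit 7), [nat_lit 0, nat_lit 2, nat_lit 0])) (.leaf ((nat_lit 1), [nat_lit 1, nat_lit 2, nat_lit 2]))) (.node (nat_lit 365) (.leaf ((nat_lit 3), [nat_lit 1, nat_lit 3, nat_lit 0])) (.node (nat_lit 366) (.leaf ((nat_lit 3), [nat_lit 0, nat_lit 3, nat_lit 1, nat_lit 1])) (.leaf ((nat_lit 7), [nat_lit 0, nat_lit 3, nat_lit 1]))))))
 (.node (nat_lit 372) (.node (nat_lit 369) (.node (nat_lit 368) (.leaf ((nat_lit 6), [nat_lit 2, nat_lit 1, nat_lit 3, nat_lit 0])) (.leaf ((nat_lit 2), [nat_lit 2, nat_lit 0, nat_lit 3]))) (.node (nat_lit 370) (.leaf ((nat_lit 3), [nat_lit 0, nat_lit 0, nat_lit 3])) (.node (nat_lit 371) (.leaf ((nat_lit 3), [nat_lit 3])) (.leaf ((nat_lit 11), [nat_lit 0, nat_lit 2, nat_lit 1])))))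
 (.node (nat_lit 375) (.node (nat_lit 373) (.leaf ((nat_lit 7), [nat_lit 3, nat_lit 0])) (.node (nat_lit 374) (.leaf ((nat_lit 1), [nat_lit 0])) (.leaf ((nat_lit 12), [nat_lit 0, nat_lit 0, nat_lit 2, nat_lit 1])))) (.node (nat_lit 376) (.leaf ((nat_lit 6), [nat_lit 1, nat_lit 1, nat_lit 2, nat_lit 0])) (.node (nat_lit 377) (.leaf ((nat_lit 2), [nat_lit 2, nat_lit 2, nat_lit 0, nat_lit 0])) (.leaf ((nat_lit 5), [nat_lit 0, nat_lit 2, nat_lit 0]))))))))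
 (.node (nat_lit 399) (.node (nat_lit 388) (.node (nat_lit 383) (.node (nat_lit 380) (.node (nat_lit 379) (.leaf ((nat_lit 2), [nat_lit 2, nat_lit 0, nat_lit 3, nat_lit 0])) (.leaf ((nat_lit 12), [nat_lit 2, nat_lit 0, nat_lit 3]))) (.node (nat_lit 381) (.leaf ((nat_lit 7), [nat_lit 3, nat_lit 0, nat_lit 0])) (.node (nat_lit 382) (.leaf ((nat_lit 11), [nat_lit 2, nat_lit 2, nat_lit 1])) (.leaf ((nat_lit 13), [nat_lit 3])))))
 (.node (nat_lit 385) (.node (nat_lit 384) (.leaf ((nat_lit 2), [nat_lit 3])) (.leaf ((nat_lit 12), [nat_lit 2]))) (.node (nat_lit 386) (.leaf ((nat_lit 13), [nat_lit 3, nat_lit 3])) (.node (nat_lit 387) (.leaf ((nat_lit 11), [nat_lit 3, nat_lit 3])) (.leaf ((nat_lit 10), [nat_lit 3, nat_lit 1, nat_lit 1]))))))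
 (.node (nat_lit 393) (.node (nat_lit 390) (.node (nat_lit 389) (.leaf ((nat_lit 3), [nat_lit 1, nat_lit 1])) (.leaf ((nat_lit 10), [nat_lit 2, nat_lit 0, nat_lit 3, nat_lit 0]))) (.node (nat_lit 391) (.leaf ((nat_lit 9), [nat_lit 2, nat_lit 2, nat_lit 0, nat_lit 0])) (.node (nat_lit 392) (.leaf ((nat_lit 1), [nat_lit 1, nat_lit 2, nat_lit 0])) (.leaf ((nat_lit 1), [nat_lit 0, nat_lit 2])))))
 (.node (nat_lit 396) (.node (nat_lit 394) (.leaf ((nat_lit 1), [nat_lit 3, nat_lit 1, nat_lit 2])) (.node (nat_lit 395) (.leaf ((nat_lit 3), [nat_lit 1, nat_lit 3])) (.leaf ((nat_lit 7), [nat_lit 3])))) (.node (nat_lit 397) (.leaf ((nat_lit 3), [nat_lit 2, nat_lit 0, nat_lit 2])) (.node (nat_lit 398) (.leaf ((nat_lit 9), [nat_lit 1, nat_lit 2, nat_lit 0])) (.leaf ((nat_lit 12), [nat_lit 1, nat_lit 3, nat_lit 0])))))))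
 (.node (nat_lit 409) (.node (nat_lit 404) (.node (nat_lit 401) (.node (nat_lit 400) (.leaf ((nat_lit 3), [nat_lit 0, nat_lit 2, nat_lit 0, nat_lit 2])) (.leaf ((nat_lit 9), [nat_lit 2, nat_lit 0, nat_lit 2]))) (.node (nat_lit 402) (.leaf ((nat_lit 3), [nat_lit 0, nat_lit 3, nat_lit 0, nat_lit 2])) (.node (nat_lit 403) (.leaf ((nat_lit 2), [nat_lit 0, nat_lit 3, nat_lit 0, nat_lit 0])) (.leaf ((nat_lit 10), [nat_lit 0, nat_lit 0, nat_lit 3])))))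
 (.node (nat_lit 406) (.node (nat_lit 405) (.leaf ((nat_lit 4), [nat_lit 1, nat_lit 3, nat_lit 0, nat_lit 0])) (.leaf ((nat_lit 6), [nat_lit 1, nat_lit 3]))) (.node (nat_lit 407) (.leaf ((nat_lit 1), [nat_lit 3, nat_lit 3])) (.node (nat_lit 408) (.leaf ((nat_lit 10), [nat_lit 2, nat_lit 1])) (.leaf ((nat_lit 4), [nat_lit 3, nat_lit 0]))))))
 (.node (nat_lit 414) (.node (nat_lit 411) (.node (nat_lit 410) (.leaf ((nat_lit 6), [nat_lit 0, nat_lit 0, nat_lit 2])) (.leaf ((nat_lit 7), [nat_lit 0, nat_lit 0, nat_lit 2]))) (.node (nat_lit 412) (.leaf ((nat_lit 4), [nat_lit 1, nat_lit 1, nat_lit 2, nat_lit 0])) (.node (nat_lit 413) (.leaf ((nat_lit 13), [nat_lit 2])) (.leaf ((nat_lit 8), [nat_lit 1, nat_lit 3, nat_lit 0])))))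
 (.node (nat_lit 417) (.node (nat_lit 415) (.leaf ((nat_lit 11), [nat_lit 3, nat_lit 0, nat_lit 2])) (.node (nat_lit 416) (.leaf ((nat_lit 13), [nat_lit 0, nat_lit 3])) (.leaf ((nat_lit 6), [nat_lit 0, nat_lit 2, nat_lit 0])))) (.node (nat_lit 418) (.leaf ((nat_lit 8), [nat_lit 2, nat_lit 2, nat_lit 1])) (.node (nat_lit 419) (.leaf ((nat_lit 11), [nat_lit 0, nat_lit 2, nat_lit 0, nat_lit 2])) (.leaf ((nat_lit 2), [nat_lit 1, nat_lit 3, nat_lit 0])))))))))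
 (.node (nat_lit 462) (.node (nat_lit 441) (.node (nat_lit 430) (.node (nat_lit 425) (.node (nat_lit 422) (.node (nat_lit 421) (.leaf ((nat_lit 9), [nat_lit 3, nat_lit 3, nat_lit 0])) (.leaf ((nat_lit 1), [nat_lit 0, nat_lit 3, nat_lit 0]))) (.node (nat_lit 423) (.leaf ((nat_lit 8), [nat_lit 1, nat_lit 3, nat_lit 3])) (.node (nat_lit 424) (.leaf ((nat_lit 4), [nat_lit 1])) (.leaf ((nat_lit 4), [nat_lit 2, nat_lit 1, nat_lit 3, nat_lit 0])))))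
 (.node (nat_lit 427) (.node (nat_lit 426) (.leaf ((nat_lit 1), [nat_lit 0, nat_lit 3, nat_lit 0, nat_lit 0])) (.leaf ((nat_lit 1), [nat_lit 1, nat_lit 1, nat_lit 2, nat_lit 0]))) (.node (nat_lit 428) (.leaf ((nat_lit 11), [nat_lit 1])) (.node (nat_lit 429) (.leaf ((nat_lit 9), [nat_lit 2, nat_lit 2])) (.leaf ((nat_lit 6), [nat_lit 3, nat_lit 3]))))))
 (.node (nat_lit 435) (.node (nat_lit 432) (.node (nat_lit 431) (.leaf ((nat_lit 9), [nat_lit 1, nat_lit 3])) (.leaf ((nat_lit 10), [nat_lit 0, nat_lit 2]))) (.node (nat_lit 433) (.leaf ((nat_lit 5), [nat_lit 3])) (.node (nat_lit 434) (.leaf ((nat_lit 9), [nat_lit 0, nat_lit 3, nat_lit 0, nat_lit 2])) (.leaf ((nat_lit 7), [nat_lit 0, nat_lit 3])))))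
 (.node (nat_lit 438) (.node (nat_lit 436) (.leaf ((nat_lit 11), [nat_lit 3, nat_lit 0])) (.node (nat_lit 437) (.leaf ((nat_lit 2), [nat_lit 0, nat_lit 2, nat_lit 0])) (.leaf ((nat_lit 4), [nat_lit 3, nat_lit 1, nat_lit 1])))) (.node (nat_lit 439) (.leaf ((nat_lit 5), [nat_lit 0, nat_lit 0, nat_lit 2, nat_lit 1])) (.node (nat_lit 440) (.leaf ((nat_lit 9), [nat_lit 0, nat_lit 2, nat_lit 1])) (.leaf ((nat_lit 9), [nat_lit 0, nat_lit 2, nat_lit 0, nat_lit 2])))))))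
 (.node (nat_lit 451) (.node (nat_lit 446) (.node (nat_lit 443) (.node (nat_lit 442) (.leaf ((nat_lit 5), [nat_lit 2, nat_lit 0, nat_lit 3, nat_lit 0])) (.leaf ((nat_lit 12), [nat_lit 0, nat_lit 3, nat_lit 0, nat_lit 0]))) (.node (nat_lit 444) (.leaf ((nat_lit 5), [nat_lit 3, nat_lit 0, nat_lit 2])) (.node (nat_lit 445) (.leaf ((nat_lit 7), [nat_lit 0, nat_lit 3, nat_lit 1, nat_lit 1])) (.leaf ((nat_lit 12), [nat_lit 0, nat_lit 0, nat_lit 2])))))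
 (.node (nat_lit 448) (.node (nat_lit 447) (.leaf ((nat_lit 11), [nat_lit 1, nat_lit 2])) (.leaf ((nat_lit 6), [nat_lit 1]))) (.node (nat_lit 449) (.leaf ((nat_lit 10), [nat_lit 2, nat_lit 1, nat_lit 3, nat_lit 0])) (.node (nat_lit 450) (.leaf ((nat_lit 5), [nat_lit 1, nat_lit 1, nat_lit 2, nat_lit 0])) (.leaf ((nat_lit 10), [nat_lit 2, nat_lit 0, nat_lit 0]))))))
 (.node (nat_lit 456) (.node (nat_lit 453) (.node (nat_lit 452) (.leaf ((nat_lit 12), [nat_lit 0, nat_lit 3, nat_lit 0, nat_lit 2])) (.leaf ((nat_lit 6), [nat_lit 0, nat_lit 0, nat_lit 2, nat_lit 1]))) (.node (nat_lit 454) (.leaf ((nat_lit 6), [nat_lit 1, nat_lit 3, nat_lit 1])) (.node (nat_lit 455) (.leaf ((nat_lit 2), [nat_lit 2, nat_lit 2, nat_lit 1])) (.leaf ((nat_lit 8), [nat_lit 1, nat_lit 2, nat_lit 2])))))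
 (.node (nat_lit 459) (.node (nat_lit 457) (.leaf ((nat_lit 12), [nat_lit 2, nat_lit 1, nat_lit 3, nat_lit 0])) (.node (nat_lit 458) (.leaf ((nat_lit 5), [nat_lit 2, nat_lit 0, nat_lit 3])) (.leaf ((nat_lit 6), [nat_lit 0, nat_lit 3, nat_lit 0, nat_lit 0])))) (.node (nat_lit 460) (.leaf ((nat_lit 4), [nat_lit 1, nat_lit 2, nat_lit 1])) (.node (nat_lit 461) (.leaf ((nat_lit 12), [nat_lit 0, nat_lit 2])) (.leaf ((nat_lit 1), [nat_lit 2]))))))))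
 (.node (nat_lit 483) (.node (nat_lit 472) (.node (nat_lit 467) (.node (nat_lit 464) (.node (nat_lit 463) (.leaf ((nat_lit 4), [nat_lit 2, nat_lit 0, nat_lit 3, nat_lit 0])) (.leaf ((nat_lit 8), [nat_lit 3, nat_lit 1, nat_lit 1]))) (.node (nat_lit 465) (.leaf ((nat_lit 9), [nat_lit 1, nat_lit 2, nat_lit 2])) (.node (nat_lit 466) (.leaf ((nat_lit 9), [nat_lit 3, nat_lit 1])) (.leaf ((nat_lit 5), [nat_lit 2, nat_lit 0])))))
 (.node (nat_lit 469) (.node (nat_lit 468) (.leaf ((nat_lit 7), [nat_lit 0, nat_lit 2, nat_lit 1])) (.leaf ((nat_lit 4), [nat_lit 0, nat_lit 3, nat_lit 1, nat_lit 1]))) (.node (nat_lit 470) (.leaf ((nat_lit 2), [nat_lit 0, nat_lit 3])) (.node (nat_lit 471) (.leaf ((nat_lit 3), [nat_lit 3, nat_lit 0])) (.leaf ((nat_lit 5), [nat_lit 2, nat_lit 1, nat_lit 3, nat_lit 0]))))))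
 (.node (nat_lit 477) (.node (nat_lit 474) (.node (nat_lit 473) (.leaf ((nat_lit 10), [nat_lit 0, nat_lit 2, nat_lit 1])) (.leaf ((nat_lit 10), [nat_lit 2, nat_lit 0, nat_lit 3]))) (.node (nat_lit 475) (.leaf ((nat_lit 4), [nat_lit 1, nat_lit 1])) (.node (nat_lit 476) (.leaf ((nat_lit 7), [nat_lit 2, nat_lit 1, nat_lit 3, nat_lit 0])) (.leaf ((nat_lit 2), [nat_lit 3, nat_lit 1, nat_lit 1])))))
 (.node (nat_lit 480) (.node (nat_lit 478) (.leaf ((nat_lit 9), [nat_lit 1, nat_lit 3, nat_lit 0])) (.node (nat_lit 479) (.leaf ((nat_lit 12), [nat_lit 3])) (.leaf ((nat_lit 6), [nat_lit 0, nat_lit 3])))) (.node (nat_lit 481) (.leaf ((nat_lit 9), [nat_lit 0, nat_lit 3, nat_lit 1, nat_lit 1])) (.node (nat_lit 482) (.leaf ((nat_lit 10), [nat_lit 1, nat_lit 1])) (.leaf ((nat_lit 8), [nat_lit 2, nat_lit 0, nat_lit 3, nat_lit 0])))))))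
 (.node (nat_lit 493) (.node (nat_lit 488) (.node (nat_lit 485) (.node (nat_lit 484) (.leaf ((nat_lit 5), [nat_lit 1, nat_lit 2, nat_lit 1])) (.leaf ((nat_lit 4), [nat_lit 2, nat_lit 0, nat_lit 0]))) (.node (nat_lit 486) (.leaf ((nat_lit 5), [nat_lit 3, nat_lit 1, nat_lit 2])) (.node (nat_lit 487) (.leaf ((nat_lit 9), [nat_lit 3, nat_lit 1, nat_lit 3])) (.leaf ((nat_lit 8), [nat_lit 1, nat_lit 3, nat_lit 1])))))
 (.node (nat_lit 490) (.node (nat_lit 489) (.leaf ((nat_lit 4), [nat_lit 1, nat_lit 3, nat_lit 3])) (.leaf ((nat_lit 6), [nat_lit 1, nat_lit 3, nat_lit 1, nat_lit 1]))) (.node (nat_lit 491) (.leaf ((nat_lit 2), [nat_lit 2, nat_lit 1, nat_lit 3, nat_lit 0])) (.node (nat_lit 492) (.leaf ((nat_lit 3), [nat_lit 0, nat_lit 0])) (.leaf ((nat_lit 12), [nat_lit 1, nat_lit 3, nat_lit 0, nat_lit 0]))))))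
 (.node (nat_lit 498) (.node (nat_lit 495) (.node (nat_lit 494) (.leaf ((nat_lit 1), [nat_lit 1, nat_lit 1, nat_lit 2])) (.leaf ((nat_lit 5), [nat_lit 1, nat_lit 3, nat_lit 0, nat_lit 0]))) (.node (nat_lit 496) (.leaf ((nat_lit 12), [nat_lit 2, nat_lit 2])) (.node (nat_lit 497) (.leaf ((nat_lit 7), [nat_lit 1, nat_lit 3, nat_lit 0])) (.leaf ((nat_lit 5), [nat_lit 3, nat_lit 1, nat_lit 3])))))
 (.node (nat_lit 501) (.node (nat_lit 499) (.leaf ((nat_lit 1), [nat_lit 0, nat_lit 0])) (.node (nat_lit 500) (.leaf ((nat_lit 4), [nat_lit 0, nat_lit 3, nat_lit 0, nat_lit 0])) (.leaf ((nat_lit 7), [nat_lit 3, nat_lit 3])))) (.node (nat_lit 502) (.leaf ((nat_lit 1), [nat_lit 0, nat_lit 3, nat_lit 0, nat_lit 2])) (.node (nat_lit 503) (.leaf ((nat_lit 3), [nat_lit 0, nat_lit 2, nat_lit 0])) (.leaf ((nat_lit 12), [nat_lit 1, nat_lit 1, nat_lit 2]))))))))))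
noncomputable def bPA_3 : Tr (ℕ × List ℕ) := (.node (nat_lit 588) (.node (nat_lit 546) (.node (nat_lit 525) (.node (nat_lit 514) (.node (nat_lit 509) (.node (nat_lit 506) (.node (nat_lit 505) (.leaf ((nat_lit 12), [nat_lit 0, nat_lit 3, nat_lit 0])) (.leaf ((nat_lit 1), [nat_lit 2, nat_lit 2, nat_lit 0]))) (.node (nat_lit 507) (.leaf ((nat_lit 5), [nat_lit 0, nat_lit 2, nat_lit 1])) (.node (nat_lit 508) (.leaf ((nat_lit 12), [nat_lit 0, nat_lit 2, nat_lit 0])) (.leaf ((nat_lit 11), [nat_lit 3, nat_lit 1])))))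
 (.node (nat_lit 511) (.node (nat_lit 510) (.leaf ((nat_lit 12), [nat_lit 1])) (.leaf ((nat_lit 3), [nat_lit 1, nat_lit 3, nat_lit 1]))) (.node (nat_lit 512) (.leaf ((nat_lit 11), [nat_lit 2, nat_lit 1, nat_lit 1])) (.node (nat_lit 513) (.leaf ((nat_lit 9), [nat_lit 2, nat_lit 1, nat_lit 1])) (.leaf ((nat_lit 12), [nat_lit 3, nat_lit 1, nat_lit 2]))))))
 (.node (nat_lit 519) (.node (nat_lit 516) (.node (nat_lit 515) (.leaf ((nat_lit 12), [nat_lit 2, nat_lit 2, nat_lit 0])) (.leaf ((nat_lit 12), [nat_lit 3, nat_lit 1, nat_lit 1]))) (.node (nat_lit 517) (.leaf ((nat_lit 7), [nat_lit 2, nat_lit 0])) (.node (nat_lit 518) (.leaf ((nat_lit 12), [nat_lit 2, nat_lit 1, nat_lit 3])) (.leaf ((nat_lit 10), [nat_lit 2])))))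
 (.node (nat_lit 522) (.node (nat_lit 520) (.leaf ((nat_lit 4), [nat_lit 0])) (.node (nat_lit 521) (.leaf ((nat_lit 13), [nat_lit 1, nat_lit 2, nat_lit 0])) (.leaf ((nat_lit 8), [nat_lit 3, nat_lit 1])))) (.node (nat_lit 523) (.leaf ((nat_lit 5), [nat_lit 1, nat_lit 2])) (.node (nat_lit 524) (.leaf ((nat_lit 10), [nat_lit 1, nat_lit 1, nat_lit 2, nat_lit 0])) (.leaf ((nat_lit 13), [nat_lit 0, nat_lit 0])))))))
 (.node (nat_lit 535) (.node (nat_lit 530) (.node (nat_lit 527) (.node (nat_lit 526) (.leaf ((nat_lit 4), [nat_lit 2, nat_lit 1])) (.leaf ((nat_lit 12), [nat_lit 0, nat_lit 3, nat_lit 1]))) (.node (nat_lit 528) (.leaf ((nat_lit 6), [nat_lit 1, nat_lit 1])) (.node (nat_lit 529) (.leaf ((nat_lit 7), [nat_lit 3, nat_lit 1, nat_lit 3])) (.leaf ((nat_lit 4), [nat_lit 1, nat_lit 2, nat_lit 0])))))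
 (.node (nat_lit 532) (.node (nat_lit 531) (.leaf ((nat_lit 6), [nat_lit 3])) (.leaf ((nat_lit 4), [nat_lit 3]))) (.node (nat_lit 533) (.leaf ((nat_lit 6), [nat_lit 1, nat_lit 3, nat_lit 0])) (.node (nat_lit 534) (.leaf ((nat_lit 3), [nat_lit 2, nat_lit 2, nat_lit 0])) (.leaf ((nat_lit 8), [nat_lit 2, nat_lit 0]))))))
 (.node (nat_lit 540) (.node (nat_lit 537) (.node (nat_lit 536) (.leaf ((nat_lit 2), [nat_lit 3, nat_lit 1])) (.leaf ((nat_lit 6), [nat_lit 0, nat_lit 2, nat_lit 0, nat_lit 2]))) (.node (nat_lit 538) (.leaf ((nat_lit 7), [nat_lit 1, nat_lit 1, nat_lit 2, nat_lit 0])) (.node (nat_lit 539) (.leaf ((nat_lit 3), [nat_lit 2, nat_lit 2, nat_lit 0, nat_lit 0])) (.leaf ((nat_lit 9), [nat_lit 1, nat_lit 1, nat_lit 2, nat_lit 0])))))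
 (.node (nat_lit 543) (.node (nat_lit 541) (.leaf ((nat_lit 12), [nat_lit 0, nat_lit 0, nat_lit 2, nat_lit 0])) (.node (nat_lit 542) (.leaf ((nat_lit 3), [nat_lit 0, nat_lit 2])) (.leaf ((nat_lit 9), [nat_lit 1, nat_lit 1])))) (.node (nat_lit 544) (.leaf ((nat_lit 11), [nat_lit 2, nat_lit 0, nat_lit 2])) (.node (nat_lit 545) (.leaf ((nat_lit 8), [nat_lit 0, nat_lit 0])) (.leaf ((nat_lit 1), [nat_lit 0, nat_lit 3, nat_lit 1, nat_lit 1]))))))))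
 (.node (nat_lit 567) (.node (nat_lit 556) (.node (nat_lit 551) (.node (nat_lit 548) (.node (nat_lit 547) (.leaf ((nat_lit 11), [nat_lit 3, nat_lit 1, nat_lit 1])) (.leaf ((nat_lit 2), [nat_lit 0, nat_lit 2, nat_lit 0, nat_lit 2]))) (.node (nat_lit 549) (.leaf ((nat_lit 11), [nat_lit 1, nat_lit 3, nat_lit 0, nat_lit 0])) (.node (nat_lit 550) (.leaf ((nat_lit 9), [nat_lit 0, nat_lit 3, nat_lit 1])) (.leaf ((nat_lit 1), [nat_lit 2, nat_lit 1])))))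
 (.node (nat_lit 553) (.node (nat_lit 552) (.leaf ((nat_lit 6), [nat_lit 1, nat_lit 3, nat_lit 0, nat_lit 0])) (.leaf ((nat_lit 2), [nat_lit 3, nat_lit 1, nat_lit 3]))) (.node (nat_lit 554) (.leaf ((nat_lit 9), [nat_lit 3, nat_lit 0, nat_lit 2])) (.node (nat_lit 555) (.leaf ((nat_lit 10), [nat_lit 0, nat_lit 0])) (.leaf ((nat_lit 6), [nat_lit 0, nat_lit 3, nat_lit 1]))))))
 (.node (nat_lit 561) (.node (nat_lit 558) (.node (nat_lit 557) (.leaf ((nat_lit 3), [nat_lit 1, nat_lit 2, nat_lit 0])) (.leaf ((nat_lit 6), [nat_lit 3, nat_lit 0, nat_lit 0]))) (.node (nat_lit 559) (.leaf ((nat_lit 2), [nat_lit 2])) (.node (nat_lit 560) (.leaf ((nat_lit 7), [nat_lit 2, nat_lit 1])) (.leaf ((nat_lit 2), [nat_lit 1, nat_lit 3])))))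
 (.node (nat_lit 564) (.node (nat_lit 562) (.leaf ((nat_lit 10), [nat_lit 2, nat_lit 2])) (.node (nat_lit 563) (.leaf ((nat_lit 4), [nat_lit 3, nat_lit 3])) (.leaf ((nat_lit 9), [nat_lit 0, nat_lit 0, nat_lit 2, nat_lit 1])))) (.node (nat_lit 565) (.leaf ((nat_lit 6), [nat_lit 1, nat_lit 2, nat_lit 1])) (.node (nat_lit 566) (.leaf ((nat_lit 6), [nat_lit 0, nat_lit 0])) (.leaf ((nat_lit 9), [nat_lit 3, nat_lit 1, nat_lit 1])))))))
 (.node (nat_lit 577) (.node (nat_lit 572) (.node (nat_lit 569) (.node (nat_lit 568) (.leaf ((nat_lit 5), [nat_lit 0, nat_lit 0, nat_lit 2])) (.leaf ((nat_lit 12), [nat_lit 2, nat_lit 1, nat_lit 1]))) (.node (nat_lit 570) (.leaf ((nat_lit 2), [nat_lit 1, nat_lit 2, nat_lit 1])) (.node (nat_lit 571) (.leaf ((nat_lit 9), [nat_lit 1, nat_lit 3, nat_lit 1])) (.leaf ((nat_lit 2), [nat_lit 1])))))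
 (.node (nat_lit 574) (.node (nat_lit 573) (.leaf ((nat_lit 10), [nat_lit 3, nat_lit 1, nat_lit 3])) (.leaf ((nat_lit 5), [nat_lit 0, nat_lit 3, nat_lit 1, nat_lit 1]))) (.node (nat_lit 575) (.leaf ((nat_lit 12), [nat_lit 2, nat_lit 1])) (.node (nat_lit 576) (.leaf ((nat_lit 9), [nat_lit 3])) (.leaf ((nat_lit 2), [nat_lit 0, nat_lit 0]))))))
 (.node (nat_lit 582) (.node (nat_lit 579) (.node (nat_lit 578) (.leaf ((nat_lit 3), [nat_lit 2, nat_lit 1, nat_lit 3, nat_lit 0])) (.leaf ((nat_lit 1), [nat_lit 0, nat_lit 3]))) (.node (nat_lit 580) (.leaf ((nat_lit 1), [nat_lit 1, nat_lit 2, nat_lit 1])) (.node (nat_lit 581) (.leaf ((nat_lit 12), [nat_lit 0, nat_lit 2, nat_lit 0, nat_lit 2])) (.leaf ((nat_lit 6), [nat_lit 1, nat_lit 2, nat_lit 0])))))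
 (.node (nat_lit 585) (.node (nat_lit 583) (.leaf ((nat_lit 9), [nat_lit 0, nat_lit 0, nat_lit 2, nat_lit 0])) (.node (nat_lit 584) (.leaf ((nat_lit 2), [nat_lit 2, nat_lit 1, nat_lit 1])) (.leaf ((nat_lit 8), [nat_lit 2, nat_lit 0, nat_lit 2])))) (.node (nat_lit 586) (.leaf ((nat_lit 2), [nat_lit 0, nat_lit 0, nat_lit 2, nat_lit 0])) (.node (nat_lit 587) (.leaf ((nat_lit 10), [nat_lit 1])) (.leaf ((nat_lit 7), [nat_lit 3, nat_lit 1, nat_lit 2])))))))))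
 (.node (nat_lit 630) (.node (nat_lit 609) (.node (nat_lit 598) (.node (nat_lit 593) (.node (nat_lit 590) (.node (nat_lit 589) (.leaf ((nat_lit 4), [nat_lit 0, nat_lit 0, nat_lit 2])) (.leaf ((nat_lit 8), [nat_lit 0, nat_lit 2]))) (.node (nat_lit 591) (.leaf ((nat_lit 12), [nat_lit 1, nat_lit 3, nat_lit 3])) (.node (nat_lit 592) (.leaf ((nat_lit 2), [nat_lit 2, nat_lit 2, nat_lit 0])) (.leaf ((nat_lit 5), [nat_lit 0, nat_lit 3, nat_lit 0])))))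
 (.node (nat_lit 595) (.node (nat_lit 594) (.leaf ((nat_lit 2), [nat_lit 3, nat_lit 3])) (.leaf ((nat_lit 9), [nat_lit 1, nat_lit 3, nat_lit 1, nat_lit 1]))) (.node (nat_lit 596) (.leaf ((nat_lit 10), [nat_lit 1, nat_lit 3, nat_lit 3])) (.node (nat_lit 597) (.leaf ((nat_lit 1), [nat_lit 2, nat_lit 2])) (.leaf ((nat_lit 9), [nat_lit 0, nat_lit 3, nat_lit 0]))))))
 (.node (nat_lit 603) (.node (nat_lit 600) (.node (nat_lit 599) (.leaf ((nat_lit 10), [nat_lit 1, nat_lit 3, nat_lit 0, nat_lit 0])) (.leaf ((nat_lit 9), [nat_lit 2, nat_lit 2, nat_lit 1]))) (.node (nat_lit 601) (.leaf ((nat_lit 4), [nat_lit 0, nat_lit 3, nat_lit 0, nat_lit 2])) (.node (nat_lit 602) (.leaf ((nat_lit 12), [nat_lit 1, nat_lit 3])) (.leaf ((nat_lit 7), [nat_lit 2, nat_lit 2, nat_lit 1])))))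
 (.node (nat_lit 606) (.node (nat_lit 604) (.leaf ((nat_lit 2), [nat_lit 0, nat_lit 0, nat_lit 3])) (.node (nat_lit 605) (.leaf ((nat_lit 8), [nat_lit 3, nat_lit 1, nat_lit 2])) (.leaf ((nat_lit 10), [nat_lit 2, nat_lit 2, nat_lit 0])))) (.node (nat_lit 607) (.leaf ((nat_lit 9), [nat_lit 0, nat_lit 0, nat_lit 3])) (.node (nat_lit 608) (.leaf ((nat_lit 8), [nat_lit 3, nat_lit 0, nat_lit 0])) (.leaf ((nat_lit 8), [nat_lit 2])))))))
 (.node (nat_lit 619) (.node (nat_lit 614) (.node (nat_lit 611) (.node (nat_lit 610) (.leaf ((nat_lit 7), [nat_lit 2, nat_lit 0, nat_lit 3])) (.leaf ((nat_lit 1), [nat_lit 1, nat_lit 3, nat_lit 0, nat_lit 0]))) (.node (nat_lit 612) (.leaf ((nat_lit 2), [nat_lit 0, nat_lit 0, nat_lit 2, nat_lit 1])) (.node (nat_lit 613) (.leaf ((nat_lit 1), [nat_lit 1, nat_lit 3, nat_lit 3])) (.leaf ((nat_lit 11), [nat_lit 0, nat_lit 0, nat_lit 2])))))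
 (.node (nat_lit 616) (.node (nat_lit 615) (.leaf ((nat_lit 8), [nat_lit 1, nat_lit 1, nat_lit 2])) (.leaf ((nat_lit 2), [nat_lit 3, nat_lit 0, nat_lit 0]))) (.node (nat_lit 617) (.leaf ((nat_lit 9), [nat_lit 1, nat_lit 3, nat_lit 0, nat_lit 0])) (.node (nat_lit 618) (.leaf ((nat_lit 3), [nat_lit 1, nat_lit 3, nat_lit 0, nat_lit 0])) (.leaf ((nat_lit 3), [nat_lit 3, nat_lit 0, nat_lit 2]))))))
 (.node (nat_lit 624) (.node (nat_lit 621) (.node (nat_lit 620) (.leaf ((nat_lit 10), [nat_lit 0, nat_lit 0, nat_lit 2, nat_lit 1])) (.leaf ((nat_lit 8), [nat_lit 2, nat_lit 0, nat_lit 3]))) (.node (nat_lit 622) (.leaf ((nat_lit 9), [nat_lit 0, nat_lit 2, nat_lit 0])) (.node (nat_lit 623) (.leaf ((nat_lit 1), [nat_lit 0, nat_lit 2, nat_lit 1])) (.leaf ((nat_lit 11), [nat_lit 0, nat_lit 3, nat_lit 0])))))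
 (.node (nat_lit 627) (.node (nat_lit 625) (.leaf ((nat_lit 6), [nat_lit 2, nat_lit 2])) (.node (nat_lit 626) (.leaf ((nat_lit 9), [nat_lit 2, nat_lit 2, nat_lit 0])) (.leaf ((nat_lit 9), [nat_lit 1, nat_lit 3, nat_lit 3])))) (.node (nat_lit 628) (.leaf ((nat_lit 12), [nat_lit 3, nat_lit 0, nat_lit 2])) (.node (nat_lit 629) (.leaf ((nat_lit 1), [nat_lit 3, nat_lit 1, nat_lit 1])) (.leaf ((nat_lit 9), [nat_lit 3, nat_lit 0]))))))))
 (.node (nat_lit 651) (.node (nat_lit 640) (.node (nat_lit 635) (.node (nat_lit 632) (.node (nat_lit 631) (.leaf ((nat_lit 10), [nat_lit 0, nat_lit 3, nat_lit 0])) (.leaf ((nat_lit 11), [nat_lit 2, nat_lit 0, nat_lit 3, nat_lit 0]))) (.node (nat_lit 633) (.leaf ((nat_lit 8), [nat_lit 0, nat_lit 2, nat_lit 0, nat_lit 2])) (.node (nat_lit 634) (.leaf ((nat_lit 11), [nat_lit 1, nat_lit 3, nat_lit 1])) (.leaf ((nat_lit 9), [nat_lit 0, nat_lit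 0, nat_lit 2])))))
 (.node (nat_lit 637) (.node (nat_lit 636) (.leaf ((nat_lit 1), [nat_lit 1, nat_lit 3])) (.leaf ((nat_lit 10), [nat_lit 1, nat_lit 3]))) (.node (nat_lit 638) (.leaf ((nat_lit 8), [nat_lit 2, nat_lit 0, nat_lit 0])) (.node (nat_lit 639) (.leaf ((nat_lit 10), [nat_lit 3, nat_lit 3, nat_lit 0])) (.leaf ((nat_lit 11), [nat_lit 0]))))))
 (.node (nat_lit 645) (.node (nat_lit 642) (.node (nat_lit 641) (.leaf ((nat_lit 10), [nat_lit 0, nat_lit 0, nat_lit 2])) (.leaf ((nat_lit 10), [nat_lit 1, nat_lit 2, nat_lit 2]))) (.node (nat_lit 643) (.leaf ((nat_lit 8), [nat_lit 1, nat_lit 2, nat_lit 0])) (.node (nat_lit 644) (.leaf ((nat_lit 6), [nat_lit 0])) (.leaf ((nat_lit 3), [nat_lit 1, nat_lit 2, nat_lit 1])))))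
 (.node (nat_lit 648) (.node (nat_lit 646) (.leaf ((nat_lit 11), [nat_lit 2, nat_lit 1, nat_lit 3, nat_lit 0])) (.node (nat_lit 647) (.leaf ((nat_lit 11), [nat_lit 0, nat_lit 3, nat_lit 1])) (.leaf ((nat_lit 11), [nat_lit 1, nat_lit 3])))) (.node (nat_lit 649) (.leaf ((nat_lit 2), [nat_lit 3, nat_lit 3, nat_lit 0])) (.node (nat_lit 650) (.leaf ((nat_lit 9), [nat_lit 0, nat_lit 2])) (.leaf ((nat_lit 9), [nat_lit 1, nat_lit 2])))))))
 (.node (nat_lit 661) (.node (nat_lit 656) (.node (nat_lit 653) (.node (nat_lit 652) (.leaf ((nat_lit 11), [nat_lit 3, nat_lit 1, nat_lit 2])) (.leaf ((nat_lit 7), [nat_lit 2, nat_lit 0, nat_lit 0]))) (.node (nat_lit 654) (.leaf ((nat_lit 2), [nat_lit 3, nat_lit 0, nat_lit 2])) (.node (nat_lit 655) (.leaf ((nat_lit 11), [nat_lit 1, nat_lit 2, nat_lit 1])) (.leaf ((nat_lit 10), [nat_lit 1, nat_lit 2, nat_lit 1])))))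
 (.node (nat_lit 658) (.node (nat_lit 657) (.leaf ((nat_lit 13), [nat_lit 0])) (.leaf ((nat_lit 8), [nat_lit 1, nat_lit 1, nat_lit 2, nat_lit 0]))) (.node (nat_lit 659) (.leaf ((nat_lit 12), [nat_lit 0, nat_lit 3])) (.node (nat_lit 660) (.leaf ((nat_lit 2), [nat_lit 1, nat_lit 3, nat_lit 0, nat_lit 0])) (.leaf ((nat_lit 11), [nat_lit 1, nat_lit 2, nat_lit 0]))))))
 (.node (nat_lit 666) (.node (nat_lit 663) (.node (nat_lit 662) (.leaf ((nat_lit 8), [nat_lit 2, nat_lit 1, nat_lit 3])) (.leaf ((nat_lit 6), [nat_lit 0, nat_lit 3, nat_lit 0]))) (.node (nat_lit 664) (.leaf ((nat_lit 9), [nat_lit 1, nat_lit 2, nat_lit 1])) (.node (nat_lit 665) (.leaf ((nat_lit 6), [nat_lit 3, nat_lit 1, nat_lit 1])) (.leaf ((nat_lit 2), [nat_lit 0, nat_lit 2])))))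
 (.node (nat_lit 669) (.node (nat_lit 667) (.leaf ((nat_lit 1), [nat_lit 2, nat_lit 0, nat_lit 0])) (.node (nat_lit 668) (.leaf ((nat_lit 12), [nat_lit 2, nat_lit 2, nat_lit 1])) (.leaf ((nat_lit 4), [nat_lit 3, nat_lit 1, nat_lit 2])))) (.node (nat_lit 670) (.leaf ((nat_lit 8), [nat_lit 3, nat_lit 3])) (.node (nat_lit 671) (.leaf ((nat_lit 2), [nat_lit 1, nat_lit 3, nat_lit 1])) (.leaf ((nat_lit 1), [nat_lit 0, nat_lit 0, nat_lit 2]))))))))))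
noncomputable def bPA : Tr (ℕ × List ℕ) := (.node (nat_lit 336) (.node (nat_lit 168) bPA_0 bPA_1) (.node (nat_lit 504) bPA_2 bPA_3))
noncomputable def bWd_0 : Tr (ℕ × List ℕ) := (.node (nat_lit 73) (.node (nat_lit 36) (.node (nat_lit 18) (.node (nat_lit 9) (.node (nat_lit 4) (.node (nat_lit 2) (.node (nat_lit 1) (.leaf ((nat_lit 1), [])) (.leaf ((nat_lit 2), []))) (.node (nat_lit 3) (.leaf ((nat_lit 3), [])) (.leaf ((nat_lit 4), []))))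
 (.node (nat_lit 6) (.node (nat_lit 5) (.leaf ((nat_lit 5), [nat_lit 0, nat_lit 1, nat_lit 2, nat_lit 3, nat_lit 1, nat_lit 0, nat_lit 2, nat_lit 0])) (.leaf ((nat_lit 6), [nat_lit 3, nat_lit 0, nat_lit 2, nat_lit 0, nat_lit 1, nat_lit 0, nat_lit 1, nat_lit 0]))) (.node (nat_lit 7) (.leaf ((nat_lit 7), [])) (.node (nat_lit 8) (.leaf ((nat_lit 2), [])) (.leaf ((nat_lit 0), []))))))
 (.node (nat_lit 13) (.node (nat_lit 11) (.node (nat_lit 10) (.leaf ((nat_lit 8), [])) (.leaf ((nat_lit 9), [nat_lit 2, nat_lit 3, nat_lit 2, nat_lit 0, nat_lit 2, nat_lit 0]))) (.node (nat_lit 12) (.leaf ((nat_lit 10), [nat_lit 3, nat_lit 2, nat_lit 0, nat_lit 2])) (.leaf ((nat_lit 11), [nat_lit 3, nat_lit 2, nat_lit 0, nat_lit 2, nat_lit 1]))))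
 (.node (nat_lit 15) (.node (nat_lit 14) (.leaf ((nat_lit 10), [nat_lit 2, nat_lit 1, nat_lit 3, nat_lit 0, nat_lit 1, nat_lit 0])) (.leaf ((nat_lit 0), []))) (.node (nat_lit 16) (.leaf ((nat_lit 1), [])) (.node (nat_lit 17) (.leaf ((nat_lit 12), [])) (.leaf ((nat_lit 13), [])))))))
 (.node (nat_lit 27) (.node (nat_lit 22) (.node (nat_lit 20) (.node (nat_lit 19) (.leaf ((nat_lit 14), [nat_lit 3, nat_lit 1, nat_lit 2, nat_lit 3, nat_lit 1, nat_lit 2, nat_lit 0, nat_lit 1, nat_lit 0])) (.leaf ((nat_lit 15), [nat_lit 3, nat_lit 1, nat_lit 2, nat_lit 3, nat_lit 1, nat_lit 2, nat_lit 1, nat_lit 0, nat_lit 1, nat_lit 0]))) (.node (nat_lit 21) (.leaf ((nat_lit 16), [])) (.leaf ((nat_lit 17), [nat_lit 1, nat_lit 2, nat_lit 3, nat_lit 0, nat_lit 2, nat_lit 0, nat_lit 1, nat_lit 0]))))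
 (.node (nat_lit 24) (.node (nat_lit 23) (.leaf ((nat_lit 13), [nat_lit 2, nat_lit 1, nat_lit 0, nat_lit 1])) (.leaf ((nat_lit 0), []))) (.node (nat_lit 25) (.leaf ((nat_lit 18), [nat_lit 3, nat_lit 1, nat_lit 3, nat_lit 1, nat_lit 0, nat_lit 2, nat_lit 1, nat_lit 0, nat_lit 1, nat_lit 0])) (.node (nat_lit 26) (.leaf ((nat_lit 19), [nat_lit 2, nat_lit 3, nat_lit 1, nat_lit 2, nat_lit 0, nat_lit 1])) (.leaf ((nat_lit 20), [nat_lit 2, nat_lit 1, nat_lit 3, nat_lit 2, nat_lit 0, nat_lit 2, nat_lit 1, nat_lit 0, nat_lit 1, nat_lit 0]))))))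
 (.node (nat_lit 31) (.node (nat_lit 29) (.node (nat_lit 28) (.leaf ((nat_lit 21), [nat_lit 3, nat_lit 1, nat_lit 3, nat_lit 1])) (.leaf ((nat_lit 22), [nat_lit 1, nat_lit 2, nat_lit 3, nat_lit 1, nat_lit 0]))) (.node (nat_lit 30) (.leaf ((nat_lit 23), [nat_lit 3, nat_lit 2, nat_lit 3, nat_lit 2, nat_lit 0, nat_lit 2, nat_lit 0, nat_lit 1, nat_lit 0, nat_lit 1])) (.leaf ((nat_lit 18), [nat_lit 3, nat_lit 1, nat_lit 3, nat_lit 1, nat_lit 0, nat_lit 2, nat_lit 1, nat_lit 0, nat_lit 1, nat_lit 0]))))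
 (.node (nat_lit 33) (.node (nat_lit 32) (.leaf ((nat_lit 0), [])) (.leaf ((nat_lit 24), []))) (.node (nat_lit 34) (.leaf ((nat_lit 25), [nat_lit 0, nat_lit 1, nat_lit 3, nat_lit 0, nat_lit 2, nat_lit 0, nat_lit 1, nat_lit 0, nat_lit 1, nat_lit 0])) (.node (nat_lit 35) (.leaf ((nat_lit 26), [nat_lit 2, nat_lit 0, nat_lit 2])) (.leaf ((nat_lit 27), [nat_lit 1, nat_lit 2, nat_lit 1, nat_lit 0, nat_lit 1, nat_lit 0]))))))))
 (.node (nat_lit 54) (.node (nat_lit 45) (.node (nat_lit 40) (.node (nat_lit 38) (.node (nat_lit 37) (.leaf ((nat_lit 28), [nat_lit 1, nat_lit 3, nat_lit 0, nat_lit 2, nat_lit 1, nat_lit 0, nat_lit 1])) (.leaf ((nat_lit 29), [nat_lit 1, nat_lit 3, nat_lit 2, nat_lit 1, nat_lit 0, nat_lit 1]))) (.node (nat_lit 39) (.leaf ((nat_lit 29), [nat_lit 3, nat_lit 1, nat_lit 3, nat_lit 2, nat_lit 0, nat_lit 2, nat_lit 0, nat_lit 1, nat_lit 0, nat_lit 1]))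 (.leaf ((nat_lit 0), [nat_lit 1, nat_lit 3, nat_lit 2, nat_lit 1, nat_lit 0, nat_lit 1]))))
 (.node (nat_lit 42) (.node (nat_lit 41) (.leaf ((nat_lit 30), [nat_lit 3, nat_lit 1, nat_lit 3, nat_lit 1, nat_lit 2, nat_lit 0])) (.leaf ((nat_lit 31), [nat_lit 2, nat_lit 3, nat_lit 1, nat_lit 0]))) (.node (nat_lit 43) (.leaf ((nat_lit 32), [nat_lit 2, nat_lit 3, nat_lit 2])) (.node (nat_lit 44) (.leaf ((nat_lit 33), [nat_lit 3, nat_lit 1, nat_lit 3, nat_lit 1, nat_lit 0, nat_lit 1, nat_lit 0])) (.leaf ((nat_lit 34), [nat_lit 3, nat_lit 2, nat_lit 3, nat_lit 0, nat_lit 2, nat_lit 1, nat_lit 0, nat_lit 1, nat_lit 0]))))))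
 (.node (nat_lit 49) (.node (nat_lit 47) (.node (nat_lit 46) (.leaf ((nat_lit 35), [nat_lit 1, nat_lit 2, nat_lit 3, nat_lit 1, nat_lit 0, nat_lit 2, nat_lit 0, nat_lit 1])) (.leaf ((nat_lit 36), [nat_lit 0, nat_lit 1, nat_lit 2, nat_lit 3, nat_lit 1, nat_lit 2, nat_lit 0, nat_lit 1, nat_lit 0, nat_lit 1]))) (.node (nat_lit 48) (.leaf ((nat_lit 0), [nat_lit 2, nat_lit 3, nat_lit 2, nat_lit 0, nat_lit 2, nat_lit 1, nat_lit 0])) (.leaf ((nat_lit 37), [nat_lit 2, nat_lit 1, nat_lit 3, nat_lit 2, nat_lit 0, nat_lit 2, nat_lit 0, nat_lit 1]))))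
 (.node (nat_lit 51) (.node (nat_lit 50) (.leaf ((nat_lit 38), [nat_lit 1, nat_lit 2, nat_lit 3, nat_lit 0, nat_lit 2, nat_lit 0, nat_lit 1, nat_lit 0, nat_lit 1])) (.leaf ((nat_lit 39), [nat_lit 1, nat_lit 3, nat_lit 2]))) (.node (nat_lit 52) (.leaf ((nat_lit 40), [nat_lit 3, nat_lit 2, nat_lit 3, nat_lit 1, nat_lit 2, nat_lit 0, nat_lit 1])) (.node (nat_lit 53) (.leaf ((nat_lit 7), [nat_lit 3, nat_lit 1, nat_lit 3, nat_lit 2, nat_lit 1, nat_lit 0, nat_lit 1])) (.leaf ((nat_lit 41), [nat_lit 2, nat_lit 3, nat_lit 1, nat_lit 0, nat_lit 2])))))))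
 (.node (nat_lit 63) (.node (nat_lit 58) (.node (nat_lit 56) (.node (nat_lit 55) (.leaf ((nat_lit 42), [nat_lit 1, nat_lit 2, nat_lit 3, nat_lit 1, nat_lit 2, nat_lit 1, nat_lit 0, nat_lit 1])) (.leaf ((nat_lit 0), []))) (.node (nat_lit 57) (.leaf ((nat_lit 43), [nat_lit 1, nat_lit 2, nat_lit 3, nat_lit 2, nat_lit 0, nat_lit 2, nat_lit 0, nat_lit 1])) (.leaf ((nat_lit 44), [nat_lit 3, nat_lit 1, nat_lit 2, nat_lit 3, nat_lit 2, nat_lit 0, nat_lit 2, nat_lit 1, nat_lit 0, nat_lit 1, nat_lit 0]))))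
 (.node (nat_lit 60) (.node (nat_lit 59) (.leaf ((nat_lit 1), [])) (.leaf ((nat_lit 45), [nat_lit 1, nat_lit 2, nat_lit 3, nat_lit 1, nat_lit 2, nat_lit 1, nat_lit 0]))) (.node (nat_lit 61) (.leaf ((nat_lit 46), [nat_lit 0, nat_lit 1, nat_lit 3, nat_lit 2, nat_lit 0, nat_lit 2, nat_lit 1, nat_lit 0, nat_lit 1])) (.node (nat_lit 62) (.leaf ((nat_lit 8), [nat_lit 3])) (.leaf ((nat_lit 47), [nat_lit 3, nat_lit 0, nat_lit 2, nat_lit 0, nat_lit 1, nat_lit 0, nat_lit 1]))))))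
 (.node (nat_lit 68) (.node (nat_lit 65) (.node (nat_lit 64) (.leaf ((nat_lit 48), [nat_lit 2, nat_lit 3, nat_lit 2])) (.leaf ((nat_lit 18), [nat_lit 1, nat_lit 0]))) (.node (nat_lit 66) (.leaf ((nat_lit 45), [nat_lit 3, nat_lit 1, nat_lit 2, nat_lit 3, nat_lit 2, nat_lit 1, nat_lit 0])) (.node (nat_lit 67) (.leaf ((nat_lit 1), [nat_lit 0, nat_lit 1, nat_lit 3, nat_lit 0, nat_lit 2])) (.leaf ((nat_lit 49), [nat_lit 1, nat_lit 0])))))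
 (.node (nat_lit 70) (.node (nat_lit 69) (.leaf ((nat_lit 50), [nat_lit 0, nat_lit 1, nat_lit 3, nat_lit 0, nat_lit 2])) (.leaf ((nat_lit 51), [nat_lit 3, nat_lit 2, nat_lit 3, nat_lit 1, nat_lit 2, nat_lit 1, nat_lit 0]))) (.node (nat_lit 71) (.leaf ((nat_lit 52), [nat_lit 1, nat_lit 3, nat_lit 1, nat_lit 2, nat_lit 1, nat_lit 0])) (.node (nat_lit 72) (.leaf ((nat_lit 53), [nat_lit 3, nat_lit 2, nat_lit 3, nat_lit 0, nat_lit 2, nat_lit 1, nat_lit 0, nat_lit 1, nat_lit 0])) (.leaf ((nat_lit 54), [nat_lit 3, nat_lit 2, nat_lit 3, nat_lit 0, nat_lit 2, nat_lit 1, nat_lit 0, nat_lit 1])))))))))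
 (.node (nat_lit 110) (.node (nat_lit 91) (.node (nat_lit 82) (.node (nat_lit 77) (.node (nat_lit 75) (.node (nat_lit 74) (.leaf ((nat_lit 55), [nat_lit 2, nat_lit 3, nat_lit 0, nat_lit 2, nat_lit 1, nat_lit 0, nat_lit 1, nat_lit 0])) (.leaf ((nat_lit 1), [nat_lit 1, nat_lit 3, nat_lit 0]))) (.node (nat_lit 76) (.leaf ((nat_lit 56), [nat_lit 2, nat_lit 1, nat_lit 3, nat_lit 0, nat_lit 2, nat_lit 1, nat_lit 0, nat_lit 1])) (.leaf ((nat_lit 1), [nat_lit 0, nat_lit 1, nat_lit 3, nat_lit 2, nat_lit 0]))))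
 (.node (nat_lit 79) (.node (nat_lit 78) (.leaf ((nat_lit 25), [nat_lit 0, nat_lit 1, nat_lit 3, nat_lit 1, nat_lit 0, nat_lit 2, nat_lit 1, nat_lit 0, nat_lit 1])) (.leaf ((nat_lit 57), [nat_lit 1, nat_lit 0, nat_lit 1, nat_lit 0]))) (.node (nat_lit 80) (.leaf ((nat_lit 11), [nat_lit 3, nat_lit 2, nat_lit 0, nat_lit 2, nat_lit 1, nat_lit 0])) (.node (nat_lit 81) (.leaf ((nat_lit 58), [nat_lit 2, nat_lit 1, nat_lit 3, nat_lit 2, nat_lit 0, nat_lit 2, nat_lit 1])) (.leaf ((nat_lit 59), [nat_lit 3, nat_lit 1, nat_lit 3, nat_lit 2, nat_lit 1]))))))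
 (.node (nat_lit 86) (.node (nat_lit 84) (.node (nat_lit 83) (.leaf ((nat_lit 1), [nat_lit 3, nat_lit 0])) (.leaf ((nat_lit 60), [nat_lit 1, nat_lit 3, nat_lit 0, nat_lit 1, nat_lit 0, nat_lit 1]))) (.node (nat_lit 85) (.leaf ((nat_lit 61), [nat_lit 0, nat_lit 1, nat_lit 3, nat_lit 0])) (.leaf ((nat_lit 62), [nat_lit 1, nat_lit 3, nat_lit 1, nat_lit 0, nat_lit 2, nat_lit 0, nat_lit 1, nat_lit 0, nat_lit 1]))))
 (.node (nat_lit 88) (.node (nat_lit 87) (.leaf ((nat_lit 2), [])) (.leaf ((nat_lit 43), [nat_lit 1, nat_lit 2, nat_lit 3, nat_lit 1, nat_lit 2, nat_lit 0]))) (.node (nat_lit 89) (.leaf ((nat_lit 40), [nat_lit 2, nat_lit 3, nat_lit 2, nat_lit 0, nat_lit 2, nat_lit 0, nat_lit 1, nat_lit 0, nat_lit 1])) (.node (nat_lit 90) (.leaf ((nat_lit 63), [nat_lit 2, nat_lit 3, nat_lit 1])) (.leaf ((nat_lit 64), [nat_lit 0, nat_lit 1, nat_lit 2, nat_lit 3, nat_lit 0, nat_lit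 2])))))))
 (.node (nat_lit 100) (.node (nat_lit 95) (.node (nat_lit 93) (.node (nat_lit 92) (.leaf ((nat_lit 3), [nat_lit 2, nat_lit 1, nat_lit 0, nat_lit 1])) (.leaf ((nat_lit 17), [nat_lit 1, nat_lit 2, nat_lit 3, nat_lit 2, nat_lit 0, nat_lit 1, nat_lit 0]))) (.node (nat_lit 94) (.leaf ((nat_lit 43), [nat_lit 1, nat_lit 2, nat_lit 3, nat_lit 1, nat_lit 2, nat_lit 0])) (.leaf ((nat_lit 2), []))))
 (.node (nat_lit 97) (.node (nat_lit 96) (.leaf ((nat_lit 13), [nat_lit 2, nat_lit 3, nat_lit 1, nat_lit 2, nat_lit 1, nat_lit 0, nat_lit 1, nat_lit 0])) (.leaf ((nat_lit 65), [nat_lit 3, nat_lit 1, nat_lit 3, nat_lit 0, nat_lit 2, nat_lit 0, nat_lit 1]))) (.node (nat_lit 98) (.leaf ((nat_lit 66), [nat_lit 0, nat_lit 1, nat_lit 0])) (.node (nat_lit 99) (.leaf ((nat_lit 67), [nat_lit 3, nat_lit 1, nat_lit 2, nat_lit 3, nat_lit 2, nat_lit 0, nat_lit 2, nat_lit 0, nat_lit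 1, nat_lit 0])) (.leaf ((nat_lit 68), [nat_lit 1, nat_lit 2, nat_lit 3, nat_lit 2, nat_lit 0]))))))
 (.node (nat_lit 105) (.node (nat_lit 102) (.node (nat_lit 101) (.leaf ((nat_lit 69), [nat_lit 3, nat_lit 1, nat_lit 3, nat_lit 1, nat_lit 2, nat_lit 0, nat_lit 1, nat_lit 0, nat_lit 1])) (.leaf ((nat_lit 70), [nat_lit 1, nat_lit 3, nat_lit 2, nat_lit 0, nat_lit 2, nat_lit 1, nat_lit 0, nat_lit 1, nat_lit 0]))) (.node (nat_lit 103) (.leaf ((nat_lit 2), [nat_lit 1, nat_lit 2, nat_lit 3, nat_lit 1, nat_lit 0, nat_lit 2, nat_lit 1, nat_lit 0, nat_lit 1])) (.node (nat_lit 104) (.leaf ((nat_lit 19), [nat_lit 3, nat_lit 1, nat_lit 2, nat_lit 3, nat_lit 2, nat_lit 1, nat_lit 0, nat_lit 1])) (.leaf ((nat_lit 71), [nat_lit 2, nat_lit 1, nat_lit 3, nat_lit 2, nat_lit 1, nat_lit 0])))))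
 (.node (nat_lit 107) (.node (nat_lit 106) (.leaf ((nat_lit 72), [nat_lit 2, nat_lit 3, nat_lit 1])) (.leaf ((nat_lit 73), [nat_lit 2, nat_lit 3, nat_lit 2, nat_lit 0, nat_lit 2, nat_lit 0, nat_lit 1]))) (.node (nat_lit 108) (.leaf ((nat_lit 73), [nat_lit 1, nat_lit 2, nat_lit 3, nat_lit 2])) (.node (nat_lit 109) (.leaf ((nat_lit 74), [nat_lit 0, nat_lit 1, nat_lit 3, nat_lit 0, nat_lit 2, nat_lit 0, nat_lit 1])) (.leaf ((nat_lit 20), [nat_lit 3, nat_lit 0, nat_lit 2, nat_lit 0, nat_lit 1, nat_lit 0, nat_lit 1, nat_lit 0]))))))))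
 (.node (nat_lit 128) (.node (nat_lit 119) (.node (nat_lit 114) (.node (nat_lit 112) (.node (nat_lit 111) (.leaf ((nat_lit 2), [nat_lit 3, nat_lit 1, nat_lit 3, nat_lit 1, nat_lit 0, nat_lit 2, nat_lit 0, nat_lit 1, nat_lit 0, nat_lit 1, nat_lit 0])) (.leaf ((nat_lit 75), [nat_lit 1, nat_lit 3, nat_lit 0, nat_lit 1, nat_lit 0, nat_lit 1, nat_lit 0]))) (.node (nat_lit 113) (.leaf ((nat_lit 76), [nat_lit 3, nat_lit 2, nat_lit 3, nat_lit 2, nat_lit 0, nat_lit 1, nat_lit 0, nat_lit 1])) (.leaf ((nat_lit 77), [nat_lit 2, nat_lit 1, nat_lit 3, nat_lit 1, nat_lit 2, nat_lit 0, nat_lit 1, nat_lit 0, nat_lit 1, nat_lit 0]))))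
 (.node (nat_lit 116) (.node (nat_lit 115) (.leaf ((nat_lit 78), [nat_lit 1, nat_lit 2, nat_lit 3, nat_lit 2])) (.leaf ((nat_lit 79), [nat_lit 1, nat_lit 3, nat_lit 0, nat_lit 2, nat_lit 1]))) (.node (nat_lit 117) (.leaf ((nat_lit 80), [nat_lit 2, nat_lit 3, nat_lit 2, nat_lit 0, nat_lit 1, nat_lit 0, nat_lit 1])) (.node (nat_lit 118) (.leaf ((nat_lit 81), [nat_lit 3, nat_lit 1, nat_lit 2, nat_lit 3, nat_lit 1, nat_lit 2, nat_lit 1, nat_lit 0, nat_lit 1, nat_lit 0])) (.leaf ((nat_lit 2), []))))))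
 (.node (nat_lit 123) (.node (nat_lit 121) (.node (nat_lit 120) (.leaf ((nat_lit 13), [nat_lit 3, nat_lit 1, nat_lit 3, nat_lit 1, nat_lit 0, nat_lit 1])) (.leaf ((nat_lit 3), [nat_lit 3, nat_lit 1, nat_lit 3, nat_lit 2]))) (.node (nat_lit 122) (.leaf ((nat_lit 62), [nat_lit 2, nat_lit 3, nat_lit 0, nat_lit 1])) (.leaf ((nat_lit 22), [nat_lit 3, nat_lit 0, nat_lit 2, nat_lit 1, nat_lit 0]))))
 (.node (nat_lit 125) (.node (nat_lit 124) (.leaf ((nat_lit 82), [nat_lit 1, nat_lit 2, nat_lit 3, nat_lit 0])) (.leaf ((nat_lit 83), [nat_lit 1, nat_lit 2, nat_lit 3, nat_lit 1, nat_lit 2, nat_lit 0, nat_lit 1, nat_lit 0, nat_lit 1]))) (.node (nat_lit 126) (.leaf ((nat_lit 84), [nat_lit 2, nat_lit 3])) (.node (nat_lit 127) (.leaf ((nat_lit 9), [nat_lit 0, nat_lit 1])) (.leaf ((nat_lit 48), [nat_lit 2, nat_lit 3, nat_lit 2, nat_lit 0, nat_lit 1])))))))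
 (.node (nat_lit 137) (.node (nat_lit 132) (.node (nat_lit 130) (.node (nat_lit 129) (.leaf ((nat_lit 4), [nat_lit 3, nat_lit 1, nat_lit 2, nat_lit 3, nat_lit 1, nat_lit 0])) (.leaf ((nat_lit 3), [nat_lit 3, nat_lit 1, nat_lit 2, nat_lit 3, nat_lit 1, nat_lit 0]))) (.node (nat_lit 131) (.leaf ((nat_lit 85), [nat_lit 1, nat_lit 3, nat_lit 2, nat_lit 1, nat_lit 0, nat_lit 1, nat_lit 0])) (.leaf ((nat_lit 86), [nat_lit 2, nat_lit 1, nat_lit 3, nat_lit 2, nat_lit 0, nat_lit 2, nat_lit 0, nat_lit 1, nat_lit 0, nat_lit 1]))))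
 (.node (nat_lit 134) (.node (nat_lit 133) (.leaf ((nat_lit 87), [nat_lit 3, nat_lit 2, nat_lit 3, nat_lit 1, nat_lit 0, nat_lit 2, nat_lit 1, nat_lit 0, nat_lit 1])) (.leaf ((nat_lit 82), [nat_lit 3, nat_lit 1, nat_lit 3, nat_lit 0]))) (.node (nat_lit 135) (.leaf ((nat_lit 45), [nat_lit 3, nat_lit 2, nat_lit 3, nat_lit 1, nat_lit 2, nat_lit 1])) (.node (nat_lit 136) (.leaf ((nat_lit 23), [nat_lit 0, nat_lit 2, nat_lit 1, nat_lit 0, nat_lit 1, nat_lit 0])) (.leaf ((nat_lit 88), [nat_lit 1, nat_lit 2, nat_lit 3, nat_lit 2, nat_lit 0, nat_lit 2, nat_lit 0, nat_lit 1]))))))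
 (.node (nat_lit 142) (.node (nat_lit 139) (.node (nat_lit 138) (.leaf ((nat_lit 3), [nat_lit 1, nat_lit 2, nat_lit 3, nat_lit 0, nat_lit 2])) (.leaf ((nat_lit 14), [nat_lit 1, nat_lit 3, nat_lit 2, nat_lit 0, nat_lit 2, nat_lit 0, nat_lit 1, nat_lit 0, nat_lit 1]))) (.node (nat_lit 140) (.leaf ((nat_lit 89), [nat_lit 1, nat_lit 2, nat_lit 3, nat_lit 1, nat_lit 2, nat_lit 0, nat_lit 1, nat_lit 0, nat_lit 1])) (.node (nat_lit 141) (.leaf ((nat_lit 90), [nat_lit 2, nat_lit 1, nat_lit 3, nat_lit 0, nat_lit 2, nat_lit 0])) (.leaf ((nat_lit 91), [nat_lit 2, nat_lit 1, nat_lit 3, nat_lit 2, nat_lit 0])))))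
 (.node (nat_lit 144) (.node (nat_lit 143) (.leaf ((nat_lit 92), [nat_lit 1, nat_lit 2, nat_lit 3, nat_lit 1, nat_lit 0, nat_lit 2, nat_lit 1, nat_lit 0])) (.leaf ((nat_lit 93), [nat_lit 3, nat_lit 1, nat_lit 2, nat_lit 3, nat_lit 0, nat_lit 1, nat_lit 0, nat_lit 1]))) (.node (nat_lit 145) (.leaf ((nat_lit 15), [nat_lit 2, nat_lit 3, nat_lit 2, nat_lit 0, nat_lit 2, nat_lit 1, nat_lit 0])) (.node (nat_lit 146) (.leaf ((nat_lit 3), [nat_lit 0, nat_lit 1, nat_lit 3, nat_lit 2, nat_lit 0, nat_lit 1, nat_lit 0, nat_lit 1])) (.leaf ((nat_lit 94), [nat_lit 3, nat_lit 2, nat_lit 3, nat_lit 2, nat_lit 1, nat_lit 0, nat_lit 1]))))))))))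
noncomputable def bWd_1 : Tr (ℕ × List ℕ) := (.node (nat_lit 220) (.node (nat_lit 183) (.node (nat_lit 165) (.node (nat_lit 156) (.node (nat_lit 151) (.node (nat_lit 149) (.node (nat_lit 148) (.leaf ((nat_lit 95), [nat_lit 2, nat_lit 3, nat_lit 1, nat_lit 0, nat_lit 2, nat_lit 1, nat_lit 0])) (.leaf ((nat_lit 96), [nat_lit 0, nat_lit 1, nat_lit 2, nat_lit 3, nat_lit 0, nat_lit 2, nat_lit 1, nat_lit 0]))) (.node (nat_lit 150) (.leaf ((nat_lit 97), [nat_lit 3, nat_lit 2, nat_lit 0, nat_lit 1, nat_lit 0])) (.leaf ((nat_lit 87), [nat_lit 1, nat_lit 3, nat_lit 2, nat_lit 0, nat_lit 2, nat_lit 0]))))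
 (.node (nat_lit 153) (.node (nat_lit 152) (.leaf ((nat_lit 98), [nat_lit 0, nat_lit 1, nat_lit 3, nat_lit 0])) (.leaf ((nat_lit 99), [nat_lit 2, nat_lit 3, nat_lit 1, nat_lit 0, nat_lit 2, nat_lit 0]))) (.node (nat_lit 154) (.leaf ((nat_lit 3), [nat_lit 2, nat_lit 1, nat_lit 3, nat_lit 0, nat_lit 2, nat_lit 0, nat_lit 1, nat_lit 0])) (.node (nat_lit 155) (.leaf ((nat_lit 23), [nat_lit 2, nat_lit 1, nat_lit 3, nat_lit 1, nat_lit 0])) (.leaf ((nat_lit 4), [nat_lit 0, nat_lit 1, nat_lit 3, nat_lit 2, nat_lit 1]))))))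
 (.node (nat_lit 160) (.node (nat_lit 158) (.node (nat_lit 157) (.leaf ((nat_lit 100), [nat_lit 2, nat_lit 1, nat_lit 3, nat_lit 1, nat_lit 0, nat_lit 1, nat_lit 0])) (.leaf ((nat_lit 17), [nat_lit 0, nat_lit 1, nat_lit 2, nat_lit 3, nat_lit 2, nat_lit 0, nat_lit 2, nat_lit 1]))) (.node (nat_lit 159) (.leaf ((nat_lit 101), [nat_lit 1, nat_lit 3, nat_lit 1, nat_lit 0])) (.leaf ((nat_lit 102), [nat_lit 1, nat_lit 0, nat_lit 1, nat_lit 0]))))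
 (.node (nat_lit 162) (.node (nat_lit 161) (.leaf ((nat_lit 103), [nat_lit 1, nat_lit 3, nat_lit 1])) (.leaf ((nat_lit 4), [nat_lit 1, nat_lit 2, nat_lit 3, nat_lit 1, nat_lit 0, nat_lit 2, nat_lit 1]))) (.node (nat_lit 163) (.leaf ((nat_lit 22), [nat_lit 0, nat_lit 1, nat_lit 3, nat_lit 1, nat_lit 2])) (.node (nat_lit 164) (.leaf ((nat_lit 19), [nat_lit 0, nat_lit 2, nat_lit 1, nat_lit 0, nat_lit 1, nat_lit 0])) (.leaf ((nat_lit 48), [nat_lit 3, nat_lit 1, nat_lit 2, nat_lit 3, nat_lit 0, nat_lit 2, nat_lit 1, nat_lit 0, nat_lit 1])))))))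
 (.node (nat_lit 174) (.node (nat_lit 169) (.node (nat_lit 167) (.node (nat_lit 166) (.leaf ((nat_lit 38), [nat_lit 0, nat_lit 1, nat_lit 3, nat_lit 0])) (.leaf ((nat_lit 104), [nat_lit 3, nat_lit 2, nat_lit 0, nat_lit 1, nat_lit 0]))) (.node (nat_lit 168) (.leaf ((nat_lit 105), [nat_lit 1, nat_lit 2, nat_lit 3, nat_lit 0, nat_lit 2, nat_lit 1, nat_lit 0, nat_lit 1])) (.leaf ((nat_lit 41), [nat_lit 3, nat_lit 2, nat_lit 3, nat_lit 1, nat_lit 0, nat_lit 2, nat_lit 1, nat_lit 0]))))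
 (.node (nat_lit 171) (.node (nat_lit 170) (.leaf ((nat_lit 106), [nat_lit 2, nat_lit 3, nat_lit 2, nat_lit 1, nat_lit 0, nat_lit 1, nat_lit 0])) (.leaf ((nat_lit 107), [nat_lit 1, nat_lit 3, nat_lit 1, nat_lit 2, nat_lit 0, nat_lit 1, nat_lit 0, nat_lit 1]))) (.node (nat_lit 172) (.leaf ((nat_lit 108), [nat_lit 0, nat_lit 1, nat_lit 3, nat_lit 0, nat_lit 1])) (.node (nat_lit 173) (.leaf ((nat_lit 4), [])) (.leaf ((nat_lit 55), [nat_lit 3, nat_lit 1, nat_lit 2, nat_lit 0]))))))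
 (.node (nat_lit 178) (.node (nat_lit 176) (.node (nat_lit 175) (.leaf ((nat_lit 58), [nat_lit 3, nat_lit 2, nat_lit 0, nat_lit 2, nat_lit 0, nat_lit 1, nat_lit 0, nat_lit 1, nat_lit 0])) (.leaf ((nat_lit 57), [nat_lit 3, nat_lit 1, nat_lit 0, nat_lit 2, nat_lit 0, nat_lit 1, nat_lit 0, nat_lit 1, nat_lit 0]))) (.node (nat_lit 177) (.leaf ((nat_lit 11), [nat_lit 3, nat_lit 1, nat_lit 2, nat_lit 3, nat_lit 2, nat_lit 0, nat_lit 2])) (.leaf ((nat_lit 109), [nat_lit 0, nat_lit 1, nat_lit 2, nat_lit 3, nat_lit 1, nat_lit 2, nat_lit 0, nat_lit 1, nat_lit 0]))))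
 (.node (nat_lit 180) (.node (nat_lit 179) (.leaf ((nat_lit 110), [nat_lit 3, nat_lit 1, nat_lit 2, nat_lit 3, nat_lit 2, nat_lit 0, nat_lit 2, nat_lit 0, nat_lit 1, nat_lit 0, nat_lit 1])) (.leaf ((nat_lit 111), [nat_lit 3, nat_lit 1, nat_lit 3, nat_lit 0, nat_lit 1, nat_lit 0, nat_lit 1, nat_lit 0]))) (.node (nat_lit 181) (.leaf ((nat_lit 4), [nat_lit 2, nat_lit 3, nat_lit 2, nat_lit 0, nat_lit 2, nat_lit 1, nat_lit 0, nat_lit 1, nat_lit 0])) (.node (nat_lit 182) (.leaf ((nat_lit 112), [nat_lit 0, nat_lit 1, nat_lit 3, nat_lit 0, nat_lit 2, nat_lit 1, nat_lit 0])) (.leaf ((nat_lit 113), [nat_lit 1, nat_lit 2, nat_lit 3, nat_lit 2, nat_lit 0, nat_lit 2, nat_lit 0, nat_lit 1, nat_lit 0]))))))))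
 (.node (nat_lit 201) (.node (nat_lit 192) (.node (nat_lit 187) (.node (nat_lit 185) (.node (nat_lit 184) (.leaf ((nat_lit 103), [nat_lit 3, nat_lit 2, nat_lit 3, nat_lit 2, nat_lit 0, nat_lit 2, nat_lit 0, nat_lit 1, nat_lit 0])) (.leaf ((nat_lit 114), [nat_lit 1, nat_lit 3, nat_lit 0, nat_lit 2, nat_lit 1]))) (.node (nat_lit 186) (.leaf ((nat_lit 26), [nat_lit 3, nat_lit 2, nat_lit 3])) (.leaf ((nat_lit 115), [nat_lit 3, nat_lit 1, nat_lit 3, nat_lit 0, nat_lit 1, nat_lit 0, nat_lit 1, nat_lit 0]))))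
 (.node (nat_lit 189) (.node (nat_lit 188) (.leaf ((nat_lit 116), [nat_lit 1, nat_lit 3, nat_lit 1, nat_lit 0, nat_lit 2, nat_lit 1, nat_lit 0, nat_lit 1])) (.leaf ((nat_lit 4), [nat_lit 2, nat_lit 0, nat_lit 2]))) (.node (nat_lit 190) (.leaf ((nat_lit 28), [nat_lit 1, nat_lit 3, nat_lit 2, nat_lit 0, nat_lit 1, nat_lit 0, nat_lit 1, nat_lit 0])) (.node (nat_lit 191) (.leaf ((nat_lit 5), [nat_lit 0, nat_lit 2, nat_lit 1, nat_lit 0])) (.leaf ((nat_lit 46), [nat_lit 3, nat_lit 1, nat_lit 3, nat_lit 1, nat_lit 2, nat_lit 1, nat_lit 0, nat_lit 1]))))))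
 (.node (nat_lit 196) (.node (nat_lit 194) (.node (nat_lit 193) (.leaf ((nat_lit 117), [nat_lit 1, nat_lit 3, nat_lit 1, nat_lit 0, nat_lit 2])) (.leaf ((nat_lit 68), [nat_lit 0, nat_lit 2, nat_lit 1, nat_lit 0, nat_lit 1, nat_lit 0]))) (.node (nat_lit 195) (.leaf ((nat_lit 91), [nat_lit 3, nat_lit 2, nat_lit 3, nat_lit 1, nat_lit 0, nat_lit 2, nat_lit 1, nat_lit 0, nat_lit 1])) (.leaf ((nat_lit 118), [nat_lit 3, nat_lit 2, nat_lit 3, nat_lit 0, nat_lit 2, nat_lit 1, nat_lit 0, nat_lit 1, nat_lit 0]))))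
 (.node (nat_lit 198) (.node (nat_lit 197) (.leaf ((nat_lit 5), [nat_lit 0, nat_lit 1, nat_lit 2, nat_lit 3, nat_lit 2, nat_lit 0, nat_lit 2, nat_lit 1, nat_lit 0, nat_lit 1])) (.leaf ((nat_lit 27), [nat_lit 2, nat_lit 3, nat_lit 1, nat_lit 0, nat_lit 2, nat_lit 0]))) (.node (nat_lit 199) (.leaf ((nat_lit 108), [nat_lit 1, nat_lit 2, nat_lit 3, nat_lit 0, nat_lit 1, nat_lit 0])) (.node (nat_lit 200) (.leaf ((nat_lit 107), [nat_lit 3, nat_lit 1, nat_lit 3, nat_lit 1, nat_lit 2, nat_lit 1, nat_lit 0])) (.leaf ((nat_lit 52), [nat_lit 3, nat_lit 1, nat_lit 0, nat_lit 2, nat_lit 0, nat_lit 1])))))))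
 (.node (nat_lit 210) (.node (nat_lit 205) (.node (nat_lit 203) (.node (nat_lit 202) (.leaf ((nat_lit 119), [nat_lit 0, nat_lit 1, nat_lit 3, nat_lit 2, nat_lit 1, nat_lit 0, nat_lit 1, nat_lit 0])) (.leaf ((nat_lit 119), [nat_lit 1, nat_lit 3, nat_lit 1, nat_lit 0, nat_lit 1]))) (.node (nat_lit 204) (.leaf ((nat_lit 120), [nat_lit 3, nat_lit 1, nat_lit 2, nat_lit 3, nat_lit 1, nat_lit 0, nat_lit 1])) (.leaf ((nat_lit 121), [nat_lit 0, nat_lit 1, nat_lit 2, nat_lit 3, nat_lit 1, nat_lit 0, nat_lit 2, nat_lit 1]))))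
 (.node (nat_lit 207) (.node (nat_lit 206) (.leaf ((nat_lit 5), [nat_lit 0, nat_lit 1, nat_lit 2, nat_lit 3, nat_lit 1, nat_lit 0, nat_lit 2, nat_lit 0])) (.leaf ((nat_lit 5), [nat_lit 0, nat_lit 1, nat_lit 3, nat_lit 2, nat_lit 0, nat_lit 1]))) (.node (nat_lit 208) (.leaf ((nat_lit 122), [nat_lit 2, nat_lit 1, nat_lit 3, nat_lit 2, nat_lit 0, nat_lit 2, nat_lit 1, nat_lit 0])) (.node (nat_lit 209) (.leaf ((nat_lit 123), [nat_lit 3, nat_lit 1, nat_lit 3, nat_lit 2, nat_lit 0, nat_lit 2, nat_lit 0, nat_lit 1, nat_lit 0, nat_lit 1, nat_lit 0])) (.leaf ((nat_lit 124), [nat_lit 1, nat_lit 2, nat_lit 3, nat_lit 1, nat_lit 0, nat_lit 2, nat_lit 0, nat_lit 1, nat_lit 0]))))))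
 (.node (nat_lit 215) (.node (nat_lit 212) (.node (nat_lit 211) (.leaf ((nat_lit 125), [nat_lit 2, nat_lit 1, nat_lit 3, nat_lit 1, nat_lit 0, nat_lit 2, nat_lit 1, nat_lit 0])) (.leaf ((nat_lit 126), [nat_lit 3, nat_lit 1, nat_lit 3, nat_lit 0, nat_lit 1]))) (.node (nat_lit 213) (.leaf ((nat_lit 127), [nat_lit 1, nat_lit 2, nat_lit 0, nat_lit 1])) (.node (nat_lit 214) (.leaf ((nat_lit 128), [nat_lit 3, nat_lit 2, nat_lit 3, nat_lit 2, nat_lit 1, nat_lit 0])) (.leaf ((nat_lit 129), [nat_lit 2, nat_lit 3, nat_lit 2, nat_lit 0, nat_lit 2, nat_lit 0, nat_lit 1])))))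
 (.node (nat_lit 217) (.node (nat_lit 216) (.leaf ((nat_lit 5), [nat_lit 0, nat_lit 1, nat_lit 3, nat_lit 0, nat_lit 2, nat_lit 0, nat_lit 1, nat_lit 0])) (.leaf ((nat_lit 130), [nat_lit 1, nat_lit 0, nat_lit 2, nat_lit 1, nat_lit 0, nat_lit 1, nat_lit 0]))) (.node (nat_lit 218) (.leaf ((nat_lit 131), [nat_lit 1, nat_lit 2, nat_lit 3, nat_lit 1, nat_lit 2, nat_lit 0, nat_lit 1, nat_lit 0])) (.node (nat_lit 219) (.leaf ((nat_lit 132), [nat_lit 0, nat_lit 1, nat_lit 2, nat_lit 3, nat_lit 1, nat_lit 2, nat_lit 0])) (.leaf ((nat_lit 31), [nat_lit 3, nat_lit 2, nat_lit 3, nat_lit 0, nat_lit 2, nat_lit 1, nat_lit 0])))))))))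
 (.node (nat_lit 257) (.node (nat_lit 238) (.node (nat_lit 229) (.node (nat_lit 224) (.node (nat_lit 222) (.node (nat_lit 221) (.leaf ((nat_lit 133), [nat_lit 1, nat_lit 0, nat_lit 2, nat_lit 0, nat_lit 1, nat_lit 0])) (.leaf ((nat_lit 134), [nat_lit 2, nat_lit 3, nat_lit 1, nat_lit 0, nat_lit 2, nat_lit 0, nat_lit 1, nat_lit 0, nat_lit 1, nat_lit 0]))) (.node (nat_lit 223) (.leaf ((nat_lit 135), [nat_lit 0, nat_lit 2, nat_lit 0])) (.leaf ((nat_lit 5), [nat_lit 0, nat_lit 1, nat_lit 3, nat_lit 2]))))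
 (.node (nat_lit 226) (.node (nat_lit 225) (.leaf ((nat_lit 33), [nat_lit 1, nat_lit 3, nat_lit 0])) (.leaf ((nat_lit 6), [nat_lit 2, nat_lit 3, nat_lit 2]))) (.node (nat_lit 227) (.leaf ((nat_lit 136), [nat_lit 1, nat_lit 0, nat_lit 1, nat_lit 0])) (.node (nat_lit 228) (.leaf ((nat_lit 137), [nat_lit 2, nat_lit 1, nat_lit 3, nat_lit 1, nat_lit 0, nat_lit 2, nat_lit 1, nat_lit 0, nat_lit 1])) (.leaf ((nat_lit 138), [nat_lit 0, nat_lit 1, nat_lit 2, nat_lit 3, nat_lit 1, nat_lit 2, nat_lit 0, nat_lit 1, nat_lit 0]))))))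
 (.node (nat_lit 233) (.node (nat_lit 231) (.node (nat_lit 230) (.leaf ((nat_lit 93), [nat_lit 0, nat_lit 1, nat_lit 3, nat_lit 1, nat_lit 0, nat_lit 1])) (.leaf ((nat_lit 92), [nat_lit 3, nat_lit 1, nat_lit 3, nat_lit 1, nat_lit 0, nat_lit 2, nat_lit 0, nat_lit 1, nat_lit 0, nat_lit 1]))) (.node (nat_lit 232) (.leaf ((nat_lit 6), [nat_lit 0, nat_lit 1, nat_lit 2, nat_lit 3, nat_lit 2, nat_lit 0, nat_lit 1, nat_lit 0])) (.leaf ((nat_lit 32), [nat_lit 3, nat_lit 2, nat_lit 0, nat_lit 2]))))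
 (.node (nat_lit 235) (.node (nat_lit 234) (.leaf ((nat_lit 139), [nat_lit 3, nat_lit 1, nat_lit 2, nat_lit 0])) (.leaf ((nat_lit 140), [nat_lit 2, nat_lit 1, nat_lit 3, nat_lit 2, nat_lit 0, nat_lit 2, nat_lit 1, nat_lit 0, nat_lit 1]))) (.node (nat_lit 236) (.leaf ((nat_lit 141), [nat_lit 0, nat_lit 1, nat_lit 3, nat_lit 1, nat_lit 0, nat_lit 2, nat_lit 1, nat_lit 0, nat_lit 1])) (.node (nat_lit 237) (.leaf ((nat_lit 142), [nat_lit 0, nat_lit 1, nat_lit 3, nat_lit 2, nat_lit 0, nat_lit 2, nat_lit 0, nat_lit 1, nat_lit 0])) (.leaf ((nat_lit 143), [nat_lit 1, nat_lit 2, nat_lit 3, nat_lit 1, nat_lit 2])))))))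
 (.node (nat_lit 247) (.node (nat_lit 242) (.node (nat_lit 240) (.node (nat_lit 239) (.leaf ((nat_lit 137), [nat_lit 2, nat_lit 0, nat_lit 2, nat_lit 1, nat_lit 0, nat_lit 1, nat_lit 0])) (.leaf ((nat_lit 144), [nat_lit 1, nat_lit 3, nat_lit 2, nat_lit 0]))) (.node (nat_lit 241) (.leaf ((nat_lit 6), [nat_lit 1, nat_lit 3, nat_lit 1, nat_lit 0, nat_lit 1])) (.leaf ((nat_lit 145), [nat_lit 2, nat_lit 1, nat_lit 3, nat_lit 2, nat_lit 1]))))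
 (.node (nat_lit 244) (.node (nat_lit 243) (.leaf ((nat_lit 146), [nat_lit 1, nat_lit 2, nat_lit 3, nat_lit 2, nat_lit 0, nat_lit 2, nat_lit 1, nat_lit 0])) (.leaf ((nat_lit 92), [nat_lit 3, nat_lit 1, nat_lit 2, nat_lit 3, nat_lit 2, nat_lit 1]))) (.node (nat_lit 245) (.leaf ((nat_lit 147), [nat_lit 0, nat_lit 1, nat_lit 2, nat_lit 3, nat_lit 1, nat_lit 2, nat_lit 0, nat_lit 1, nat_lit 0, nat_lit 1])) (.node (nat_lit 246) (.leaf ((nat_lit 148), [nat_lit 2, nat_lit 3, nat_lit 2, nat_lit 0, nat_lit 2, nat_lit 1, nat_lit 0, nat_lit 1, nat_lit 0])) (.leaf ((nat_lit 149), [nat_lit 2, nat_lit 3, nat_lit 2, nat_lit 0, nat_lit 2, nat_lit 0, nat_lit 1, nat_lit 0, nat_lit 1]))))))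
 (.node (nat_lit 252) (.node (nat_lit 249) (.node (nat_lit 248) (.leaf ((nat_lit 145), [nat_lit 1, nat_lit 0, nat_lit 2, nat_lit 1, nat_lit 0, nat_lit 1])) (.leaf ((nat_lit 6), [nat_lit 3, nat_lit 2, nat_lit 1, nat_lit 0, nat_lit 1, nat_lit 0]))) (.node (nat_lit 250) (.leaf ((nat_lit 150), [nat_lit 3, nat_lit 2, nat_lit 3, nat_lit 1, nat_lit 2, nat_lit 0, nat_lit 1])) (.node (nat_lit 251) (.leaf ((nat_lit 151), [nat_lit 2, nat_lit 3, nat_lit 1, nat_lit 0, nat_lit 2, nat_lit 1, nat_lit 0, nat_lit 1])) (.leaf ((nat_lit 152), [nat_lit 1, nat_lit 2, nat_lit 3, nat_lit 1, nat_lit 0, nat_lit 2, nat_lit 0])))))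
 (.node (nat_lit 254) (.node (nat_lit 253) (.leaf ((nat_lit 153), [nat_lit 2, nat_lit 3, nat_lit 1, nat_lit 0, nat_lit 2, nat_lit 0])) (.leaf ((nat_lit 154), [nat_lit 1, nat_lit 3, nat_lit 0, nat_lit 2, nat_lit 1]))) (.node (nat_lit 255) (.leaf ((nat_lit 155), [nat_lit 0, nat_lit 1, nat_lit 2, nat_lit 3, nat_lit 1, nat_lit 0, nat_lit 2, nat_lit 0, nat_lit 1, nat_lit 0])) (.node (nat_lit 256) (.leaf ((nat_lit 156), [nat_lit 0, nat_lit 1, nat_lit 3, nat_lit 1, nat_lit 2, nat_lit 1, nat_lit 0, nat_lit 1, nat_lit 0])) (.leaf ((nat_lit 6), [nat_lit 0, nat_lit 1, nat_lit 2, nat_lit 3, nat_lit 1, nat_lit 2, nat_lit 0, nat_lit 1, nat_lit 0, nat_lit 1]))))))))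
 (.node (nat_lit 275) (.node (nat_lit 266) (.node (nat_lit 261) (.node (nat_lit 259) (.node (nat_lit 258) (.leaf ((nat_lit 129), [nat_lit 0, nat_lit 1, nat_lit 3, nat_lit 1, nat_lit 0, nat_lit 2, nat_lit 1, nat_lit 0])) (.leaf ((nat_lit 157), [nat_lit 3, nat_lit 2, nat_lit 3, nat_lit 1, nat_lit 2, nat_lit 0, nat_lit 1, nat_lit 0, nat_lit 1]))) (.node (nat_lit 260) (.leaf ((nat_lit 158), [nat_lit 3, nat_lit 2, nat_lit 3, nat_lit 0, nat_lit 2, nat_lit 0])) (.leaf ((nat_lit 159), [nat_lit 2, nat_lit 3, nat_lit 1, nat_lit 0, nat_lit 2, nat_lit 1]))))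
 (.node (nat_lit 263) (.node (nat_lit 262) (.leaf ((nat_lit 160), [nat_lit 3, nat_lit 1, nat_lit 2, nat_lit 3, nat_lit 2, nat_lit 1, nat_lit 0])) (.leaf ((nat_lit 141), [nat_lit 0, nat_lit 1, nat_lit 2, nat_lit 3, nat_lit 1, nat_lit 0, nat_lit 2, nat_lit 1]))) (.node (nat_lit 264) (.leaf ((nat_lit 161), [nat_lit 3, nat_lit 1, nat_lit 2, nat_lit 3, nat_lit 0, nat_lit 2, nat_lit 0, nat_lit 1])) (.node (nat_lit 265) (.leaf ((nat_lit 162), [nat_lit 3, nat_lit 1, nat_lit 2, nat_lit 3, nat_lit 1, nat_lit 0, nat_lit 2, nat_lit 0, nat_lit 1, nat_lit 0, nat_lit 1])) (.leaf ((nat_lit 6), [nat_lit 3, nat_lit 2, nat_lit 3, nat_lit 2, nat_lit 1, nat_lit 0, nat_lit 1, nat_lit 0]))))))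
 (.node (nat_lit 270) (.node (nat_lit 268) (.node (nat_lit 267) (.leaf ((nat_lit 39), [nat_lit 2, nat_lit 1, nat_lit 3, nat_lit 2, nat_lit 0, nat_lit 1])) (.leaf ((nat_lit 7), [nat_lit 2, nat_lit 1, nat_lit 3, nat_lit 2, nat_lit 1, nat_lit 0, nat_lit 1, nat_lit 0]))) (.node (nat_lit 269) (.leaf ((nat_lit 122), [nat_lit 0, nat_lit 1, nat_lit 2, nat_lit 3, nat_lit 2, nat_lit 1, nat_lit 0, nat_lit 1, nat_lit 0])) (.leaf ((nat_lit 163), [nat_lit 0, nat_lit 1, nat_lit 3, nat_lit 0, nat_lit 2, nat_lit 0, nat_lit 1, nat_lit 0, nat_lit 1, nat_lit 0]))))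
 (.node (nat_lit 272) (.node (nat_lit 271) (.leaf ((nat_lit 23), [nat_lit 3, nat_lit 2, nat_lit 0, nat_lit 2, nat_lit 0])) (.leaf ((nat_lit 164), [nat_lit 1, nat_lit 2, nat_lit 3, nat_lit 1, nat_lit 2, nat_lit 1, nat_lit 0]))) (.node (nat_lit 273) (.leaf ((nat_lit 165), [nat_lit 3, nat_lit 0, nat_lit 1, nat_lit 0])) (.node (nat_lit 274) (.leaf ((nat_lit 7), [nat_lit 2, nat_lit 3, nat_lit 1])) (.leaf ((nat_lit 38), [nat_lit 3, nat_lit 1, nat_lit 3, nat_lit 0, nat_lit 2, nat_lit 1, nat_lit 0])))))))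
 (.node (nat_lit 284) (.node (nat_lit 279) (.node (nat_lit 277) (.node (nat_lit 276) (.leaf ((nat_lit 85), [nat_lit 3, nat_lit 0, nat_lit 1, nat_lit 0, nat_lit 1])) (.leaf ((nat_lit 166), [nat_lit 3, nat_lit 1, nat_lit 2, nat_lit 3, nat_lit 0, nat_lit 2, nat_lit 0, nat_lit 1, nat_lit 0]))) (.node (nat_lit 278) (.leaf ((nat_lit 167), [nat_lit 0, nat_lit 1, nat_lit 2, nat_lit 3, nat_lit 2, nat_lit 0, nat_lit 2])) (.leaf ((nat_lit 168), [nat_lit 3, nat_lit 2, nat_lit 1]))))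
 (.node (nat_lit 281) (.node (nat_lit 280) (.leaf ((nat_lit 169), [nat_lit 0, nat_lit 1, nat_lit 3, nat_lit 1, nat_lit 0, nat_lit 2, nat_lit 1, nat_lit 0, nat_lit 1, nat_lit 0])) (.leaf ((nat_lit 162), [nat_lit 1, nat_lit 0, nat_lit 1, nat_lit 0]))) (.node (nat_lit 282) (.leaf ((nat_lit 170), [nat_lit 3, nat_lit 1, nat_lit 2, nat_lit 0])) (.node (nat_lit 283) (.leaf ((nat_lit 7), [nat_lit 3, nat_lit 0, nat_lit 1, nat_lit 0, nat_lit 1])) (.leaf ((nat_lit 40), [nat_lit 3, nat_lit 1, nat_lit 3]))))))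
 (.node (nat_lit 289) (.node (nat_lit 286) (.node (nat_lit 285) (.leaf ((nat_lit 12), [nat_lit 3, nat_lit 1, nat_lit 2, nat_lit 3, nat_lit 1, nat_lit 0, nat_lit 2, nat_lit 1])) (.leaf ((nat_lit 171), [nat_lit 3, nat_lit 0, nat_lit 1, nat_lit 0, nat_lit 1]))) (.node (nat_lit 287) (.leaf ((nat_lit 172), [nat_lit 3, nat_lit 1, nat_lit 2, nat_lit 3, nat_lit 2, nat_lit 1, nat_lit 0, nat_lit 1])) (.node (nat_lit 288) (.leaf ((nat_lit 106), [nat_lit 2, nat_lit 1, nat_lit 3, nat_lit 1, nat_lit 0, nat_lit 2, nat_lit 0, nat_lit 1, nat_lit 0, nat_lit 1])) (.leaf ((nat_lit 24), [nat_lit 3, nat_lit 1, nat_lit 3, nat_lit 1, nat_lit 2, nat_lit 0, nat_lit 1])))))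
 (.node (nat_lit 291) (.node (nat_lit 290) (.leaf ((nat_lit 173), [nat_lit 1, nat_lit 3, nat_lit 2, nat_lit 0, nat_lit 2, nat_lit 0])) (.leaf ((nat_lit 173), [nat_lit 2, nat_lit 1, nat_lit 3, nat_lit 1, nat_lit 0]))) (.node (nat_lit 292) (.leaf ((nat_lit 7), [nat_lit 0, nat_lit 1, nat_lit 3, nat_lit 2, nat_lit 0, nat_lit 1, nat_lit 0, nat_lit 1, nat_lit 0])) (.node (nat_lit 293) (.leaf ((nat_lit 174), [nat_lit 3, nat_lit 2, nat_lit 1, nat_lit 0])) (.leaf ((nat_lit 134), [nat_lit 3, nat_lit 1, nat_lit 3, nat_lit 0, nat_lit 2, nat_lit 0, nat_lit 1]))))))))))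
noncomputable def bWd_2 : Tr (ℕ × List ℕ) := (.node (nat_lit 367) (.node (nat_lit 330) (.node (nat_lit 312) (.node (nat_lit 303) (.node (nat_lit 298) (.node (nat_lit 296) (.node (nat_lit 295) (.leaf ((nat_lit 175), [nat_lit 3, nat_lit 1, nat_lit 3, nat_lit 2, nat_lit 0, nat_lit 2, nat_lit 0, nat_lit 1, nat_lit 0])) (.leaf ((nat_lit 89), [nat_lit 1, nat_lit 0, nat_lit 2, nat_lit 0, nat_lit 1, nat_lit 0, nat_lit 1, nat_lit 0]))) (.node (nat_lit 297) (.leaf ((nat_lit 176), [nat_lit 3, nat_lit 1, nat_lit 0, nat_lit 1])) (.leaf ((nat_lit 177), [nat_lit 3, nat_lit 1, nat_lit 2, nat_lit 3, nat_lit 1, nat_lit 0, nat_lit 2, nat_lit 1, nat_lit 0]))))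
 (.node (nat_lit 300) (.node (nat_lit 299) (.leaf ((nat_lit 178), [nat_lit 0, nat_lit 1, nat_lit 2, nat_lit 3, nat_lit 2, nat_lit 0, nat_lit 2, nat_lit 0, nat_lit 1])) (.leaf ((nat_lit 7), [nat_lit 2, nat_lit 1, nat_lit 3, nat_lit 1, nat_lit 2, nat_lit 0, nat_lit 1]))) (.node (nat_lit 301) (.leaf ((nat_lit 162), [nat_lit 3, nat_lit 0, nat_lit 2, nat_lit 0, nat_lit 1])) (.node (nat_lit 302) (.leaf ((nat_lit 44), [nat_lit 2, nat_lit 0, nat_lit 2, nat_lit 0])) (.leaf ((nat_lit 8), [nat_lit 3, nat_lit 2, nat_lit 3, nat_lit 1, nat_lit 0, nat_lit 2, nat_lit 0, nat_lit 1]))))))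
 (.node (nat_lit 307) (.node (nat_lit 305) (.node (nat_lit 304) (.leaf ((nat_lit 13), [nat_lit 2, nat_lit 3, nat_lit 0, nat_lit 2, nat_lit 1])) (.leaf ((nat_lit 12), [nat_lit 2, nat_lit 3, nat_lit 0, nat_lit 2, nat_lit 1]))) (.node (nat_lit 306) (.leaf ((nat_lit 179), [nat_lit 0, nat_lit 1, nat_lit 2, nat_lit 3, nat_lit 0, nat_lit 2, nat_lit 0, nat_lit 1])) (.leaf ((nat_lit 52), [nat_lit 2, nat_lit 3, nat_lit 2, nat_lit 1, nat_lit 0, nat_lit 1, nat_lit 0]))))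
 (.node (nat_lit 309) (.node (nat_lit 308) (.leaf ((nat_lit 43), [nat_lit 1, nat_lit 3, nat_lit 1])) (.leaf ((nat_lit 8), [nat_lit 3, nat_lit 2, nat_lit 3, nat_lit 0, nat_lit 1]))) (.node (nat_lit 310) (.leaf ((nat_lit 43), [nat_lit 1, nat_lit 0, nat_lit 2, nat_lit 0, nat_lit 1, nat_lit 0, nat_lit 1])) (.node (nat_lit 311) (.leaf ((nat_lit 61), [nat_lit 2, nat_lit 1, nat_lit 3, nat_lit 1, nat_lit 0, nat_lit 2, nat_lit 0])) (.leaf ((nat_lit 180), [nat_lit 3, nat_lit 1, nat_lit 0, nat_lit 1, nat_lit 0])))))))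
 (.node (nat_lit 321) (.node (nat_lit 316) (.node (nat_lit 314) (.node (nat_lit 313) (.leaf ((nat_lit 181), [nat_lit 1, nat_lit 2, nat_lit 3, nat_lit 1, nat_lit 2, nat_lit 0])) (.leaf ((nat_lit 133), [nat_lit 3, nat_lit 1, nat_lit 2, nat_lit 3, nat_lit 2, nat_lit 1, nat_lit 0, nat_lit 1]))) (.node (nat_lit 315) (.leaf ((nat_lit 182), [nat_lit 1, nat_lit 2, nat_lit 3, nat_lit 2, nat_lit 0, nat_lit 1, nat_lit 0])) (.leaf ((nat_lit 19), [nat_lit 3, nat_lit 2, nat_lit 3, nat_lit 0, nat_lit 2, nat_lit 0]))))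
 (.node (nat_lit 318) (.node (nat_lit 317) (.leaf ((nat_lit 82), [nat_lit 3, nat_lit 2, nat_lit 3, nat_lit 0, nat_lit 2, nat_lit 0, nat_lit 1, nat_lit 0, nat_lit 1])) (.leaf ((nat_lit 9), [nat_lit 3, nat_lit 2, nat_lit 0, nat_lit 2, nat_lit 0, nat_lit 1, nat_lit 0, nat_lit 1]))) (.node (nat_lit 319) (.leaf ((nat_lit 8), [nat_lit 3, nat_lit 1, nat_lit 3, nat_lit 0, nat_lit 2, nat_lit 0, nat_lit 1, nat_lit 0])) (.node (nat_lit 320) (.leaf ((nat_lit 45), [nat_lit 1, nat_lit 3, nat_lit 1, nat_lit 0, nat_lit 2, nat_lit 0])) (.leaf ((nat_lit 46), [nat_lit 3, nat_lit 2, nat_lit 3, nat_lit 0, nat_lit 2, nat_lit 1, nat_lit 0, nat_lit 1, nat_lit 0]))))))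
 (.node (nat_lit 325) (.node (nat_lit 323) (.node (nat_lit 322) (.leaf ((nat_lit 183), [nat_lit 0, nat_lit 1, nat_lit 3, nat_lit 2, nat_lit 0, nat_lit 1, nat_lit 0])) (.leaf ((nat_lit 184), [nat_lit 2, nat_lit 3, nat_lit 1, nat_lit 2, nat_lit 1, nat_lit 0]))) (.node (nat_lit 324) (.leaf ((nat_lit 185), [nat_lit 3, nat_lit 1, nat_lit 2, nat_lit 1, nat_lit 0, nat_lit 1, nat_lit 0])) (.leaf ((nat_lit 27), [nat_lit 1, nat_lit 3, nat_lit 0, nat_lit 2, nat_lit 0, nat_lit 1]))))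
 (.node (nat_lit 327) (.node (nat_lit 326) (.leaf ((nat_lit 106), [nat_lit 3, nat_lit 1, nat_lit 2, nat_lit 0, nat_lit 1, nat_lit 0])) (.leaf ((nat_lit 8), [nat_lit 1, nat_lit 3, nat_lit 2, nat_lit 0, nat_lit 2, nat_lit 1, nat_lit 0, nat_lit 1, nat_lit 0]))) (.node (nat_lit 328) (.leaf ((nat_lit 45), [nat_lit 1, nat_lit 3, nat_lit 1, nat_lit 0, nat_lit 1])) (.node (nat_lit 329) (.leaf ((nat_lit 48), [nat_lit 1, nat_lit 2, nat_lit 3, nat_lit 0])) (.leaf ((nat_lit 186), [nat_lit 3, nat_lit 1, nat_lit 2, nat_lit 3, nat_lit 1, nat_lit 0, nat_lit 2, nat_lit 0]))))))))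
 (.node (nat_lit 348) (.node (nat_lit 339) (.node (nat_lit 334) (.node (nat_lit 332) (.node (nat_lit 331) (.leaf ((nat_lit 187), [nat_lit 3, nat_lit 2, nat_lit 3, nat_lit 0, nat_lit 2, nat_lit 0, nat_lit 1])) (.leaf ((nat_lit 188), [nat_lit 0, nat_lit 1, nat_lit 2, nat_lit 3, nat_lit 0, nat_lit 2, nat_lit 0, nat_lit 1, nat_lit 0, nat_lit 1, nat_lit 0]))) (.node (nat_lit 333) (.leaf ((nat_lit 189), [nat_lit 3, nat_lit 2, nat_lit 0, nat_lit 2, nat_lit 0, nat_lit 1])) (.leaf ((nat_lit 190), [nat_lit 1, nat_lit 3, nat_lit 2, nat_lit 0, nat_lit 1, nat_lit 0, nat_lit 1]))))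
 (.node (nat_lit 336) (.node (nat_lit 335) (.leaf ((nat_lit 191), [nat_lit 3, nat_lit 2, nat_lit 3, nat_lit 1, nat_lit 2, nat_lit 1, nat_lit 0, nat_lit 1])) (.leaf ((nat_lit 8), [nat_lit 2, nat_lit 1, nat_lit 3, nat_lit 1, nat_lit 0, nat_lit 2, nat_lit 0, nat_lit 1]))) (.node (nat_lit 337) (.leaf ((nat_lit 18), [nat_lit 3, nat_lit 1, nat_lit 3, nat_lit 0, nat_lit 1, nat_lit 0])) (.node (nat_lit 338) (.leaf ((nat_lit 9), [nat_lit 2, nat_lit 3, nat_lit 2])) (.leaf ((nat_lit 88), [nat_lit 2, nat_lit 3, nat_lit 0, nat_lit 2, nat_lit 1, nat_lit 0, nat_lit 1]))))))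
 (.node (nat_lit 343) (.node (nat_lit 341) (.node (nat_lit 340) (.leaf ((nat_lit 23), [nat_lit 3, nat_lit 2, nat_lit 3, nat_lit 0, nat_lit 2, nat_lit 1])) (.leaf ((nat_lit 55), [nat_lit 3, nat_lit 1, nat_lit 0, nat_lit 2, nat_lit 1, nat_lit 0, nat_lit 1, nat_lit 0]))) (.node (nat_lit 342) (.leaf ((nat_lit 111), [nat_lit 2, nat_lit 3, nat_lit 1, nat_lit 0])) (.leaf ((nat_lit 46), [nat_lit 3, nat_lit 1, nat_lit 2, nat_lit 0, nat_lit 1]))))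
 (.node (nat_lit 345) (.node (nat_lit 344) (.leaf ((nat_lit 192), [nat_lit 3])) (.leaf ((nat_lit 54), [nat_lit 1, nat_lit 3, nat_lit 2, nat_lit 0, nat_lit 2, nat_lit 0, nat_lit 1, nat_lit 0, nat_lit 1, nat_lit 0]))) (.node (nat_lit 346) (.leaf ((nat_lit 193), [nat_lit 2, nat_lit 3, nat_lit 2, nat_lit 0, nat_lit 1, nat_lit 0, nat_lit 1, nat_lit 0])) (.node (nat_lit 347) (.leaf ((nat_lit 194), [nat_lit 3, nat_lit 1, nat_lit 3, nat_lit 2, nat_lit 1, nat_lit 0])) (.leaf ((nat_lit 9), [nat_lit 0, nat_lit 1])))))))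
 (.node (nat_lit 357) (.node (nat_lit 352) (.node (nat_lit 350) (.node (nat_lit 349) (.leaf ((nat_lit 195), [nat_lit 1, nat_lit 3, nat_lit 1, nat_lit 0, nat_lit 1, nat_lit 0])) (.leaf ((nat_lit 196), [nat_lit 0, nat_lit 1, nat_lit 3, nat_lit 2, nat_lit 1, nat_lit 0]))) (.node (nat_lit 351) (.leaf ((nat_lit 197), [nat_lit 3, nat_lit 1, nat_lit 3, nat_lit 1, nat_lit 0, nat_lit 2, nat_lit 1, nat_lit 0, nat_lit 1, nat_lit 0])) (.leaf ((nat_lit 142), [nat_lit 0, nat_lit 2, nat_lit 0, nat_lit 1, nat_lit 0]))))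
 (.node (nat_lit 354) (.node (nat_lit 353) (.leaf ((nat_lit 91), [nat_lit 1, nat_lit 2, nat_lit 0, nat_lit 1, nat_lit 0, nat_lit 1, nat_lit 0])) (.leaf ((nat_lit 91), [nat_lit 3, nat_lit 1, nat_lit 2, nat_lit 3, nat_lit 2, nat_lit 0, nat_lit 2, nat_lit 0, nat_lit 1, nat_lit 0]))) (.node (nat_lit 355) (.leaf ((nat_lit 198), [nat_lit 2, nat_lit 1, nat_lit 3, nat_lit 2, nat_lit 0, nat_lit 1, nat_lit 0, nat_lit 1, nat_lit 0])) (.node (nat_lit 356) (.leaf ((nat_lit 9), [nat_lit 2, nat_lit 3, nat_lit 2, nat_lit 0, nat_lit 2, nat_lit 0])) (.leaf ((nat_lit 50), [nat_lit 2, nat_lit 1, nat_lit 3, nat_lit 0, nat_lit 2, nat_lit 0]))))))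
 (.node (nat_lit 362) (.node (nat_lit 359) (.node (nat_lit 358) (.leaf ((nat_lit 199), [nat_lit 1, nat_lit 3, nat_lit 2, nat_lit 0, nat_lit 2, nat_lit 1, nat_lit 0])) (.leaf ((nat_lit 200), [nat_lit 3, nat_lit 1, nat_lit 2, nat_lit 3, nat_lit 1, nat_lit 2, nat_lit 1, nat_lit 0]))) (.node (nat_lit 360) (.leaf ((nat_lit 201), [nat_lit 0, nat_lit 1, nat_lit 0, nat_lit 1, nat_lit 0])) (.node (nat_lit 361) (.leaf ((nat_lit 202), [nat_lit 2, nat_lit 1, nat_lit 3, nat_lit 2, nat_lit 0, nat_lit 2, nat_lit 0, nat_lit 1, nat_lit 0, nat_lit 1, nat_lit 0])) (.leaf ((nat_lit 203), [nat_lit 1, nat_lit 2, nat_lit 3, nat_lit 1, nat_lit 0, nat_lit 2, nat_lit 0, nat_lit 1, nat_lit 0, nat_lit 1, nat_lit 0])))))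
 (.node (nat_lit 364) (.node (nat_lit 363) (.leaf ((nat_lit 51), [nat_lit 1, nat_lit 2, nat_lit 3, nat_lit 2, nat_lit 1, nat_lit 0, nat_lit 1, nat_lit 0])) (.leaf ((nat_lit 9), [nat_lit 3, nat_lit 1, nat_lit 2, nat_lit 3, nat_lit 0, nat_lit 2, nat_lit 0, nat_lit 1, nat_lit 0, nat_lit 1]))) (.node (nat_lit 365) (.leaf ((nat_lit 53), [nat_lit 2, nat_lit 1, nat_lit 3, nat_lit 2, nat_lit 1, nat_lit 0])) (.node (nat_lit 366) (.leaf ((nat_lit 10), [nat_lit 3, nat_lit 1, nat_lit 3, nat_lit 1, nat_lit 0, nat_lit 2, nat_lit 0, nat_lit 1])) (.leaf ((nat_lit 204), [nat_lit 0, nat_lit 1, nat_lit 3, nat_lit 2, nat_lit 1, nat_lit 0, nat_lit 1])))))))))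
 (.node (nat_lit 404) (.node (nat_lit 385) (.node (nat_lit 376) (.node (nat_lit 371) (.node (nat_lit 369) (.node (nat_lit 368) (.leaf ((nat_lit 68), [nat_lit 0, nat_lit 1, nat_lit 3, nat_lit 0, nat_lit 2, nat_lit 0, nat_lit 1, nat_lit 0, nat_lit 1])) (.leaf ((nat_lit 28), [nat_lit 3, nat_lit 1, nat_lit 0, nat_lit 2, nat_lit 0, nat_lit 1]))) (.node (nat_lit 370) (.leaf ((nat_lit 43), [nat_lit 1, nat_lit 2, nat_lit 3, nat_lit 2, nat_lit 0, nat_lit 1, nat_lit 0, nat_lit 1, nat_lit 0])) (.leaf ((nat_lit 205), [nat_lit 3, nat_lit 1, nat_lit 3, nat_lit 2, nat_lit 1, nat_lit 0, nat_lit 1]))))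
 (.node (nat_lit 373) (.node (nat_lit 372) (.leaf ((nat_lit 10), [nat_lit 1, nat_lit 3, nat_lit 1, nat_lit 0, nat_lit 1])) (.leaf ((nat_lit 52), [nat_lit 0, nat_lit 1, nat_lit 2, nat_lit 3, nat_lit 1, nat_lit 2]))) (.node (nat_lit 374) (.leaf ((nat_lit 206), [nat_lit 0, nat_lit 1, nat_lit 2, nat_lit 3, nat_lit 1, nat_lit 2, nat_lit 0, nat_lit 1, nat_lit 0, nat_lit 1])) (.node (nat_lit 375) (.leaf ((nat_lit 60), [nat_lit 2, nat_lit 1, nat_lit 3, nat_lit 1, nat_lit 0, nat_lit 2, nat_lit 0, nat_lit 1, nat_lit 0, nat_lit 1])) (.leaf ((nat_lit 67), [nat_lit 3, nat_lit 2, nat_lit 3, nat_lit 1, nat_lit 2, nat_lit 0, nat_lit 1]))))))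
 (.node (nat_lit 380) (.node (nat_lit 378) (.node (nat_lit 377) (.leaf ((nat_lit 207), [nat_lit 3, nat_lit 1, nat_lit 2, nat_lit 3, nat_lit 1, nat_lit 0, nat_lit 2, nat_lit 0, nat_lit 1, nat_lit 0, nat_lit 1])) (.leaf ((nat_lit 101), [nat_lit 2, nat_lit 1, nat_lit 3, nat_lit 1, nat_lit 2, nat_lit 1]))) (.node (nat_lit 379) (.leaf ((nat_lit 49), [nat_lit 3, nat_lit 2, nat_lit 3, nat_lit 1, nat_lit 2, nat_lit 0, nat_lit 1, nat_lit 0, nat_lit 1])) (.leaf ((nat_lit 192), [nat_lit 2, nat_lit 3, nat_lit 1, nat_lit 2, nat_lit 0, nat_lit 1, nat_lit 0, nat_lit 1]))))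
 (.node (nat_lit 382) (.node (nat_lit 381) (.leaf ((nat_lit 10), [nat_lit 0, nat_lit 1, nat_lit 3, nat_lit 1, nat_lit 0, nat_lit 1])) (.leaf ((nat_lit 208), [nat_lit 1, nat_lit 2, nat_lit 3, nat_lit 1, nat_lit 2, nat_lit 0, nat_lit 1, nat_lit 0]))) (.node (nat_lit 383) (.leaf ((nat_lit 196), [nat_lit 3, nat_lit 1, nat_lit 3, nat_lit 1, nat_lit 0, nat_lit 1, nat_lit 0])) (.node (nat_lit 384) (.leaf ((nat_lit 209), [nat_lit 1, nat_lit 3, nat_lit 2, nat_lit 0, nat_lit 1, nat_lit 0])) (.leaf ((nat_lit 203), [nat_lit 1, nat_lit 3, nat_lit 2, nat_lit 1, nat_lit 0, nat_lit 1])))))))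
 (.node (nat_lit 394) (.node (nat_lit 389) (.node (nat_lit 387) (.node (nat_lit 386) (.leaf ((nat_lit 196), [nat_lit 0, nat_lit 1, nat_lit 2, nat_lit 3, nat_lit 2, nat_lit 0, nat_lit 2, nat_lit 0, nat_lit 1, nat_lit 0, nat_lit 1])) (.leaf ((nat_lit 70), [nat_lit 1, nat_lit 2, nat_lit 3, nat_lit 0, nat_lit 2, nat_lit 1, nat_lit 0, nat_lit 1, nat_lit 0]))) (.node (nat_lit 388) (.leaf ((nat_lit 208), [nat_lit 0, nat_lit 1, nat_lit 2, nat_lit 3, nat_lit 2, nat_lit 0, nat_lit 2, nat_lit 1, nat_lit 0])) (.leaf ((nat_lit 10), [nat_lit 1, nat_lit 2, nat_lit 3, nat_lit 0, nat_lit 2, nat_lit 0, nat_lit 1, nat_lit 0, nat_lit 1, nat_lit 0]))))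
 (.node (nat_lit 391) (.node (nat_lit 390) (.leaf ((nat_lit 48), [nat_lit 3, nat_lit 2, nat_lit 3, nat_lit 1, nat_lit 0, nat_lit 1])) (.leaf ((nat_lit 24), [nat_lit 2, nat_lit 3, nat_lit 0]))) (.node (nat_lit 392) (.leaf ((nat_lit 190), [nat_lit 0, nat_lit 1, nat_lit 2, nat_lit 3, nat_lit 2, nat_lit 0, nat_lit 2, nat_lit 0, nat_lit 1])) (.node (nat_lit 393) (.leaf ((nat_lit 210), [nat_lit 3, nat_lit 2, nat_lit 3, nat_lit 2, nat_lit 0, nat_lit 2, nat_lit 0, nat_lit 1])) (.leaf ((nat_lit 93), [nat_lit 2, nat_lit 3, nat_lit 2, nat_lit 1, nat_lit 0, nat_lit 1, nat_lit 0]))))))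
 (.node (nat_lit 399) (.node (nat_lit 396) (.node (nat_lit 395) (.leaf ((nat_lit 211), [nat_lit 0, nat_lit 1])) (.leaf ((nat_lit 142), [nat_lit 3, nat_lit 2, nat_lit 0, nat_lit 2, nat_lit 0, nat_lit 1]))) (.node (nat_lit 397) (.leaf ((nat_lit 212), [nat_lit 0, nat_lit 1, nat_lit 2, nat_lit 3, nat_lit 1, nat_lit 2, nat_lit 1])) (.node (nat_lit 398) (.leaf ((nat_lit 10), [nat_lit 0, nat_lit 1, nat_lit 2, nat_lit 3, nat_lit 2, nat_lit 0, nat_lit 1, nat_lit 0, nat_lit 1])) (.leaf ((nat_lit 213), [nat_lit 3, nat_lit 1, nat_lit 3, nat_lit 0, nat_lit 2, nat_lit 1, nat_lit 0, nat_lit 1, nat_lit 0])))))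
 (.node (nat_lit 401) (.node (nat_lit 400) (.leaf ((nat_lit 11), [nat_lit 0, nat_lit 1, nat_lit 0, nat_lit 1])) (.leaf ((nat_lit 25), [nat_lit 0, nat_lit 1, nat_lit 3, nat_lit 1, nat_lit 0, nat_lit 2, nat_lit 0, nat_lit 1, nat_lit 0]))) (.node (nat_lit 402) (.leaf ((nat_lit 59), [nat_lit 1, nat_lit 2, nat_lit 3, nat_lit 1, nat_lit 2, nat_lit 1])) (.node (nat_lit 403) (.leaf ((nat_lit 112), [nat_lit 0, nat_lit 1, nat_lit 3, nat_lit 2, nat_lit 0, nat_lit 2, nat_lit 1, nat_lit 0, nat_lit 1])) (.leaf ((nat_lit 84), [nat_lit 3, nat_lit 2, nat_lit 3, nat_lit 1, nat_lit 0]))))))))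
 (.node (nat_lit 422) (.node (nat_lit 413) (.node (nat_lit 408) (.node (nat_lit 406) (.node (nat_lit 405) (.leaf ((nat_lit 141), [nat_lit 0, nat_lit 1, nat_lit 3, nat_lit 0, nat_lit 1, nat_lit 0, nat_lit 1])) (.leaf ((nat_lit 214), [nat_lit 1, nat_lit 3, nat_lit 1, nat_lit 2, nat_lit 0, nat_lit 1, nat_lit 0, nat_lit 1, nat_lit 0]))) (.node (nat_lit 407) (.leaf ((nat_lit 215), [nat_lit 2, nat_lit 0, nat_lit 2, nat_lit 1, nat_lit 0, nat_lit 1, nat_lit 0])) (.leaf ((nat_lit 134), [nat_lit 3, nat_lit 1, nat_lit 2, nat_lit 3, nat_lit 2, nat_lit 0, nat_lit 2, nat_lit 1]))))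
 (.node (nat_lit 410) (.node (nat_lit 409) (.leaf ((nat_lit 58), [nat_lit 2, nat_lit 1, nat_lit 3, nat_lit 0, nat_lit 2, nat_lit 0])) (.leaf ((nat_lit 11), [nat_lit 3, nat_lit 1, nat_lit 2, nat_lit 1, nat_lit 0, nat_lit 1]))) (.node (nat_lit 411) (.leaf ((nat_lit 216), [nat_lit 2, nat_lit 3, nat_lit 2, nat_lit 0, nat_lit 1, nat_lit 0, nat_lit 1])) (.node (nat_lit 412) (.leaf ((nat_lit 117), [nat_lit 2, nat_lit 3, nat_lit 2, nat_lit 1, nat_lit 0, nat_lit 1])) (.leaf ((nat_lit 24), [nat_lit 3, nat_lit 2, nat_lit 3, nat_lit 1, nat_lit 2, nat_lit 0, nat_lit 1, nat_lit 0]))))))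
 (.node (nat_lit 417) (.node (nat_lit 415) (.node (nat_lit 414) (.leaf ((nat_lit 217), [nat_lit 3, nat_lit 1, nat_lit 3, nat_lit 1, nat_lit 2, nat_lit 0, nat_lit 1])) (.leaf ((nat_lit 109), [nat_lit 0, nat_lit 1, nat_lit 3, nat_lit 1, nat_lit 2, nat_lit 1]))) (.node (nat_lit 416) (.leaf ((nat_lit 57), [nat_lit 3, nat_lit 1, nat_lit 3, nat_lit 2, nat_lit 0, nat_lit 1, nat_lit 0])) (.leaf ((nat_lit 199), [nat_lit 3, nat_lit 2, nat_lit 3, nat_lit 1, nat_lit 0, nat_lit 1]))))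
 (.node (nat_lit 419) (.node (nat_lit 418) (.leaf ((nat_lit 11), [nat_lit 2, nat_lit 3, nat_lit 0, nat_lit 2, nat_lit 0, nat_lit 1, nat_lit 0])) (.leaf ((nat_lit 212), [nat_lit 2, nat_lit 0, nat_lit 1]))) (.node (nat_lit 420) (.leaf ((nat_lit 218), [nat_lit 3, nat_lit 1, nat_lit 3, nat_lit 0, nat_lit 2, nat_lit 0, nat_lit 1])) (.node (nat_lit 421) (.leaf ((nat_lit 219), [nat_lit 3, nat_lit 2, nat_lit 0, nat_lit 2, nat_lit 0, nat_lit 1])) (.leaf ((nat_lit 204), [nat_lit 2, nat_lit 1, nat_lit 3, nat_lit 2, nat_lit 1, nat_lit 0, nat_lit 1])))))))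
 (.node (nat_lit 431) (.node (nat_lit 426) (.node (nat_lit 424) (.node (nat_lit 423) (.leaf ((nat_lit 192), [nat_lit 3, nat_lit 2, nat_lit 1, nat_lit 0])) (.leaf ((nat_lit 53), [nat_lit 1, nat_lit 3, nat_lit 0, nat_lit 2, nat_lit 0]))) (.node (nat_lit 425) (.leaf ((nat_lit 61), [nat_lit 1, nat_lit 3, nat_lit 1, nat_lit 0, nat_lit 1])) (.leaf ((nat_lit 213), [nat_lit 3, nat_lit 1, nat_lit 2, nat_lit 3, nat_lit 0, nat_lit 1, nat_lit 0, nat_lit 1, nat_lit 0]))))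
 (.node (nat_lit 428) (.node (nat_lit 427) (.leaf ((nat_lit 11), [nat_lit 3, nat_lit 2, nat_lit 3, nat_lit 1, nat_lit 2, nat_lit 0])) (.leaf ((nat_lit 62), [nat_lit 3, nat_lit 2, nat_lit 3, nat_lit 1, nat_lit 2, nat_lit 1, nat_lit 0, nat_lit 1]))) (.node (nat_lit 429) (.leaf ((nat_lit 12), [nat_lit 3, nat_lit 2, nat_lit 0, nat_lit 2, nat_lit 0])) (.node (nat_lit 430) (.leaf ((nat_lit 44), [nat_lit 1, nat_lit 3, nat_lit 0, nat_lit 2, nat_lit 0, nat_lit 1, nat_lit 0, nat_lit 1])) (.leaf ((nat_lit 82), [nat_lit 2, nat_lit 1, nat_lit 3, nat_lit 2, nat_lit 0, nat_lit 2, nat_lit 0, nat_lit 1, nat_lit 0, nat_lit 1]))))))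
 (.node (nat_lit 436) (.node (nat_lit 433) (.node (nat_lit 432) (.leaf ((nat_lit 60), [nat_lit 3, nat_lit 2, nat_lit 3, nat_lit 0, nat_lit 2, nat_lit 1, nat_lit 0, nat_lit 1, nat_lit 0])) (.leaf ((nat_lit 61), [nat_lit 0, nat_lit 1, nat_lit 3, nat_lit 2, nat_lit 0, nat_lit 2, nat_lit 1, nat_lit 0, nat_lit 1, nat_lit 0]))) (.node (nat_lit 434) (.leaf ((nat_lit 114), [nat_lit 0, nat_lit 1, nat_lit 3, nat_lit 2, nat_lit 1, nat_lit 0, nat_lit 1, nat_lit 0])) (.node (nat_lit 435) (.leaf ((nat_lit 12), [nat_lit 1, nat_lit 3, nat_lit 1, nat_lit 0, nat_lit 2, nat_lit 0, nat_lit 1, nat_lit 0, nat_lit 1])) (.leaf ((nat_lit 61), [nat_lit 3, nat_lit 1, nat_lit 2, nat_lit 3, nat_lit 2, nat_lit 0, nat_lit 1, nat_lit 0, nat_lit 1, nat_lit 0])))))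
 (.node (nat_lit 438) (.node (nat_lit 437) (.leaf ((nat_lit 17), [nat_lit 1, nat_lit 3, nat_lit 1, nat_lit 2, nat_lit 0])) (.leaf ((nat_lit 100), [nat_lit 2, nat_lit 0, nat_lit 1, nat_lit 0, nat_lit 1]))) (.node (nat_lit 439) (.leaf ((nat_lit 220), [nat_lit 3, nat_lit 1, nat_lit 3, nat_lit 1, nat_lit 2, nat_lit 0, nat_lit 1, nat_lit 0, nat_lit 1, nat_lit 0])) (.node (nat_lit 440) (.leaf ((nat_lit 221), [nat_lit 2, nat_lit 3, nat_lit 1, nat_lit 2, nat_lit 1, nat_lit 0, nat_lit 1, nat_lit 0])) (.leaf ((nat_lit 222), [nat_lit 3, nat_lit 2, nat_lit 3, nat_lit 2]))))))))))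
noncomputable def bWd_3 : Tr (ℕ × List ℕ) := (.node (nat_lit 514) (.node (nat_lit 477) (.node (nat_lit 459) (.node (nat_lit 450) (.node (nat_lit 445) (.node (nat_lit 443) (.node (nat_lit 442) (.leaf ((nat_lit 223), [nat_lit 1, nat_lit 2, nat_lit 3, nat_lit 0, nat_lit 2, nat_lit 0, nat_lit 1, nat_lit 0, nat_lit 1, nat_lit 0])) (.leaf ((nat_lit 84), [nat_lit 0, nat_lit 1, nat_lit 3]))) (.node (nat_lit 444) (.leaf ((nat_lit 224), [nat_lit 1, nat_lit 3, nat_lit 0, nat_lit 1, nat_lit 0, nat_lit 1, nat_lit 0])) (.leaf ((nat_lit 126), [nat_lit 0, nat_lit 1, nat_lit 3, nat_lit 2, nat_lit 0, nat_lit 1, nat_lit 0, nat_lit 1]))))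
 (.node (nat_lit 447) (.node (nat_lit 446) (.leaf ((nat_lit 225), [nat_lit 3, nat_lit 1, nat_lit 2, nat_lit 3, nat_lit 0, nat_lit 2, nat_lit 1, nat_lit 0])) (.leaf ((nat_lit 12), [nat_lit 1, nat_lit 3, nat_lit 2]))) (.node (nat_lit 448) (.leaf ((nat_lit 226), [nat_lit 1])) (.node (nat_lit 449) (.leaf ((nat_lit 133), [nat_lit 0, nat_lit 1, nat_lit 3, nat_lit 1, nat_lit 2, nat_lit 0, nat_lit 1, nat_lit 0, nat_lit 1, nat_lit 0])) (.leaf ((nat_lit 224), [nat_lit 3, nat_lit 1, nat_lit 2, nat_lit 1]))))))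
 (.node (nat_lit 454) (.node (nat_lit 452) (.node (nat_lit 451) (.leaf ((nat_lit 223), [nat_lit 1, nat_lit 2, nat_lit 3, nat_lit 1, nat_lit 2, nat_lit 1, nat_lit 0, nat_lit 1])) (.leaf ((nat_lit 227), [nat_lit 3, nat_lit 1, nat_lit 3, nat_lit 0, nat_lit 2, nat_lit 0, nat_lit 1, nat_lit 0, nat_lit 1]))) (.node (nat_lit 453) (.leaf ((nat_lit 133), [nat_lit 3, nat_lit 2])) (.leaf ((nat_lit 228), [nat_lit 3, nat_lit 2, nat_lit 3, nat_lit 0]))))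
 (.node (nat_lit 456) (.node (nat_lit 455) (.leaf ((nat_lit 12), [nat_lit 2, nat_lit 3, nat_lit 1, nat_lit 2, nat_lit 0, nat_lit 1, nat_lit 0])) (.leaf ((nat_lit 229), [nat_lit 1, nat_lit 3, nat_lit 0, nat_lit 2, nat_lit 1, nat_lit 0]))) (.node (nat_lit 457) (.leaf ((nat_lit 230), [nat_lit 1, nat_lit 2, nat_lit 3, nat_lit 2, nat_lit 0, nat_lit 2, nat_lit 1, nat_lit 0, nat_lit 1, nat_lit 0])) (.node (nat_lit 458) (.leaf ((nat_lit 154), [nat_lit 1, nat_lit 3, nat_lit 0])) (.leaf ((nat_lit 231), [nat_lit 2, nat_lit 1, nat_lit 0, nat_lit 1, nat_lit 0])))))))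
 (.node (nat_lit 468) (.node (nat_lit 463) (.node (nat_lit 461) (.node (nat_lit 460) (.leaf ((nat_lit 232), [nat_lit 3, nat_lit 1, nat_lit 3, nat_lit 1, nat_lit 2, nat_lit 1])) (.leaf ((nat_lit 13), [nat_lit 0, nat_lit 1, nat_lit 2, nat_lit 3, nat_lit 1, nat_lit 2, nat_lit 1, nat_lit 0]))) (.node (nat_lit 462) (.leaf ((nat_lit 233), [nat_lit 3, nat_lit 1, nat_lit 3, nat_lit 1, nat_lit 0, nat_lit 2, nat_lit 0, nat_lit 1, nat_lit 0, nat_lit 1, nat_lit 0])) (.leaf ((nat_lit 234), [nat_lit 1, nat_lit 3, nat_lit 2, nat_lit 0, nat_lit 1, nat_lit 0, nat_lit 1, nat_lit 0]))))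
 (.node (nat_lit 465) (.node (nat_lit 464) (.leaf ((nat_lit 235), [nat_lit 1, nat_lit 3, nat_lit 1, nat_lit 2, nat_lit 1])) (.leaf ((nat_lit 236), [nat_lit 2, nat_lit 3, nat_lit 1, nat_lit 0, nat_lit 2, nat_lit 0, nat_lit 1, nat_lit 0, nat_lit 1]))) (.node (nat_lit 466) (.leaf ((nat_lit 237), [nat_lit 0, nat_lit 1, nat_lit 2, nat_lit 3, nat_lit 1, nat_lit 0, nat_lit 2, nat_lit 1, nat_lit 0])) (.node (nat_lit 467) (.leaf ((nat_lit 238), [nat_lit 2, nat_lit 3, nat_lit 0, nat_lit 2, nat_lit 0, nat_lit 1, nat_lit 0])) (.leaf ((nat_lit 239), [nat_lit 3, nat_lit 1, nat_lit 3, nat_lit 1, nat_lit 2, nat_lit 1, nat_lit 0, nat_lit 1]))))))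
 (.node (nat_lit 472) (.node (nat_lit 470) (.node (nat_lit 469) (.leaf ((nat_lit 13), [nat_lit 0, nat_lit 1, nat_lit 0])) (.leaf ((nat_lit 68), [nat_lit 0, nat_lit 1, nat_lit 2, nat_lit 3, nat_lit 0, nat_lit 2, nat_lit 0, nat_lit 1, nat_lit 0, nat_lit 1]))) (.node (nat_lit 471) (.leaf ((nat_lit 14), [nat_lit 3, nat_lit 1, nat_lit 0, nat_lit 2, nat_lit 1, nat_lit 0])) (.leaf ((nat_lit 214), [nat_lit 0, nat_lit 1, nat_lit 2, nat_lit 3, nat_lit 2, nat_lit 0, nat_lit 2, nat_lit 0, nat_lit 1, nat_lit 0, nat_lit 1, nat_lit 0]))))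
 (.node (nat_lit 474) (.node (nat_lit 473) (.leaf ((nat_lit 219), [nat_lit 2, nat_lit 0, nat_lit 2, nat_lit 1, nat_lit 0, nat_lit 1])) (.leaf ((nat_lit 53), [nat_lit 3, nat_lit 0, nat_lit 1, nat_lit 0, nat_lit 1]))) (.node (nat_lit 475) (.leaf ((nat_lit 240), [nat_lit 2, nat_lit 3, nat_lit 0, nat_lit 1])) (.node (nat_lit 476) (.leaf ((nat_lit 241), [nat_lit 1, nat_lit 3, nat_lit 0, nat_lit 1])) (.leaf ((nat_lit 14), [nat_lit 2, nat_lit 1, nat_lit 3, nat_lit 0, nat_lit 2, nat_lit 1]))))))))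
 (.node (nat_lit 495) (.node (nat_lit 486) (.node (nat_lit 481) (.node (nat_lit 479) (.node (nat_lit 478) (.leaf ((nat_lit 67), [nat_lit 2, nat_lit 1, nat_lit 3, nat_lit 2, nat_lit 1, nat_lit 0, nat_lit 1])) (.leaf ((nat_lit 196), [nat_lit 3, nat_lit 1, nat_lit 2, nat_lit 3, nat_lit 2, nat_lit 1, nat_lit 0, nat_lit 1, nat_lit 0]))) (.node (nat_lit 480) (.leaf ((nat_lit 52), [nat_lit 2, nat_lit 1, nat_lit 3, nat_lit 1, nat_lit 0, nat_lit 2])) (.leaf ((nat_lit 27), [nat_lit 0, nat_lit 2, nat_lit 1, nat_lit 0, nat_lit 1, nat_lit 0]))))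
 (.node (nat_lit 483) (.node (nat_lit 482) (.leaf ((nat_lit 242), [nat_lit 1, nat_lit 0, nat_lit 1, nat_lit 0])) (.leaf ((nat_lit 243), [nat_lit 2, nat_lit 1, nat_lit 3, nat_lit 1, nat_lit 0, nat_lit 2]))) (.node (nat_lit 484) (.leaf ((nat_lit 208), [nat_lit 3, nat_lit 1, nat_lit 0, nat_lit 2, nat_lit 0, nat_lit 1, nat_lit 0])) (.node (nat_lit 485) (.leaf ((nat_lit 244), [nat_lit 3, nat_lit 2])) (.leaf ((nat_lit 14), [nat_lit 3, nat_lit 1, nat_lit 2, nat_lit 3, nat_lit 1, nat_lit 0, nat_lit 2, nat_lit 1, nat_lit 0, nat_lit 1, nat_lit 0]))))))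
 (.node (nat_lit 490) (.node (nat_lit 488) (.node (nat_lit 487) (.leaf ((nat_lit 245), [nat_lit 1, nat_lit 3, nat_lit 2, nat_lit 0, nat_lit 1, nat_lit 0, nat_lit 1])) (.leaf ((nat_lit 173), [nat_lit 2, nat_lit 1, nat_lit 0, nat_lit 1]))) (.node (nat_lit 489) (.leaf ((nat_lit 246), [nat_lit 3, nat_lit 1, nat_lit 2, nat_lit 3, nat_lit 2, nat_lit 0, nat_lit 2, nat_lit 0, nat_lit 1, nat_lit 0, nat_lit 1])) (.leaf ((nat_lit 122), [nat_lit 1, nat_lit 2, nat_lit 3, nat_lit 1, nat_lit 0]))))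
 (.node (nat_lit 492) (.node (nat_lit 491) (.leaf ((nat_lit 55), [nat_lit 1, nat_lit 2, nat_lit 3, nat_lit 0, nat_lit 2, nat_lit 1, nat_lit 0, nat_lit 1, nat_lit 0])) (.leaf ((nat_lit 196), [nat_lit 0, nat_lit 1, nat_lit 3, nat_lit 1, nat_lit 0, nat_lit 2, nat_lit 0, nat_lit 1]))) (.node (nat_lit 493) (.leaf ((nat_lit 245), [nat_lit 2, nat_lit 1, nat_lit 3, nat_lit 2])) (.node (nat_lit 494) (.leaf ((nat_lit 14), [nat_lit 0, nat_lit 1, nat_lit 3, nat_lit 2, nat_lit 0, nat_lit 2, nat_lit 1, nat_lit 0, nat_lit 1])) (.leaf ((nat_lit 247), [nat_lit 2, nat_lit 3, nat_lit 1, nat_lit 2, nat_lit 0, nat_lit 1])))))))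
 (.node (nat_lit 504) (.node (nat_lit 499) (.node (nat_lit 497) (.node (nat_lit 496) (.leaf ((nat_lit 248), [nat_lit 2, nat_lit 3, nat_lit 1, nat_lit 0, nat_lit 2, nat_lit 0])) (.leaf ((nat_lit 249), [nat_lit 3, nat_lit 1, nat_lit 0, nat_lit 1, nat_lit 0]))) (.node (nat_lit 498) (.leaf ((nat_lit 243), [nat_lit 1, nat_lit 3, nat_lit 1, nat_lit 0, nat_lit 2])) (.leaf ((nat_lit 250), [nat_lit 3, nat_lit 2, nat_lit 3, nat_lit 1, nat_lit 2, nat_lit 0, nat_lit 1]))))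
 (.node (nat_lit 501) (.node (nat_lit 500) (.leaf ((nat_lit 96), [nat_lit 0, nat_lit 1, nat_lit 2, nat_lit 3, nat_lit 1, nat_lit 0, nat_lit 1])) (.leaf ((nat_lit 251), [nat_lit 3, nat_lit 0, nat_lit 2, nat_lit 0, nat_lit 1, nat_lit 0, nat_lit 1, nat_lit 0]))) (.node (nat_lit 502) (.leaf ((nat_lit 113), [nat_lit 3, nat_lit 2, nat_lit 3, nat_lit 2, nat_lit 1, nat_lit 0, nat_lit 1])) (.node (nat_lit 503) (.leaf ((nat_lit 252), [nat_lit 1, nat_lit 3, nat_lit 0, nat_lit 2, nat_lit 1])) (.leaf ((nat_lit 14), [nat_lit 0, nat_lit 1, nat_lit 2, nat_lit 3, nat_lit 1, nat_lit 2]))))))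
 (.node (nat_lit 509) (.node (nat_lit 506) (.node (nat_lit 505) (.leaf ((nat_lit 73), [nat_lit 1, nat_lit 2, nat_lit 3, nat_lit 1, nat_lit 0, nat_lit 2, nat_lit 0, nat_lit 1, nat_lit 0, nat_lit 1, nat_lit 0])) (.leaf ((nat_lit 15), [nat_lit 1, nat_lit 3, nat_lit 2]))) (.node (nat_lit 507) (.leaf ((nat_lit 253), [nat_lit 0, nat_lit 1, nat_lit 2, nat_lit 3, nat_lit 0, nat_lit 1, nat_lit 0, nat_lit 1, nat_lit 0])) (.node (nat_lit 508) (.leaf ((nat_lit 254), [nat_lit 1, nat_lit 2, nat_lit 0, nat_lit 1])) (.leaf ((nat_lit 255), [nat_lit 3, nat_lit 1, nat_lit 2, nat_lit 3, nat_lit 1, nat_lit 2, nat_lit 0, nat_lit 1, nat_lit 0, nat_lit 1, nat_lit 0])))))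
 (.node (nat_lit 511) (.node (nat_lit 510) (.leaf ((nat_lit 256), [nat_lit 3, nat_lit 1, nat_lit 2, nat_lit 3, nat_lit 2, nat_lit 0, nat_lit 2, nat_lit 0, nat_lit 1, nat_lit 0, nat_lit 1])) (.leaf ((nat_lit 153), [nat_lit 3, nat_lit 1, nat_lit 3, nat_lit 2, nat_lit 0, nat_lit 2, nat_lit 0, nat_lit 1, nat_lit 0, nat_lit 1, nat_lit 0]))) (.node (nat_lit 512) (.leaf ((nat_lit 15), [nat_lit 3, nat_lit 2, nat_lit 3, nat_lit 1, nat_lit 0, nat_lit 2, nat_lit 0])) (.node (nat_lit 513) (.leaf ((nat_lit 72), [nat_lit 0, nat_lit 1, nat_lit 3, nat_lit 1, nat_lit 2, nat_lit 0, nat_lit 1, nat_lit 0, nat_lit 1, nat_lit 0])) (.leaf ((nat_lit 15), [nat_lit 2, nat_lit 3, nat_lit 2, nat_lit 1])))))))))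
 (.node (nat_lit 551) (.node (nat_lit 532) (.node (nat_lit 523) (.node (nat_lit 518) (.node (nat_lit 516) (.node (nat_lit 515) (.leaf ((nat_lit 257), [nat_lit 0, nat_lit 1, nat_lit 3, nat_lit 1, nat_lit 0, nat_lit 2, nat_lit 0, nat_lit 1, nat_lit 0, nat_lit 1, nat_lit 0])) (.leaf ((nat_lit 140), [nat_lit 2, nat_lit 3, nat_lit 1, nat_lit 2, nat_lit 1, nat_lit 0, nat_lit 1]))) (.node (nat_lit 517) (.leaf ((nat_lit 224), [nat_lit 3, nat_lit 1, nat_lit 2, nat_lit 3, nat_lit 0, nat_lit 1, nat_lit 0])) (.leaf ((nat_lit 258), [nat_lit 1, nat_lit 3, nat_lit 0, nat_lit 1]))))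
 (.node (nat_lit 520) (.node (nat_lit 519) (.leaf ((nat_lit 213), [nat_lit 3, nat_lit 1, nat_lit 3, nat_lit 2, nat_lit 0, nat_lit 2, nat_lit 1])) (.leaf ((nat_lit 259), [nat_lit 0, nat_lit 1, nat_lit 3, nat_lit 1, nat_lit 0]))) (.node (nat_lit 521) (.leaf ((nat_lit 257), [nat_lit 3, nat_lit 2, nat_lit 0, nat_lit 2, nat_lit 1, nat_lit 0, nat_lit 1])) (.node (nat_lit 522) (.leaf ((nat_lit 15), [nat_lit 3, nat_lit 1, nat_lit 3, nat_lit 1, nat_lit 2, nat_lit 1, nat_lit 0, nat_lit 1, nat_lit 0])) (.leaf ((nat_lit 260), [nat_lit 0, nat_lit 1, nat_lit 2, nat_lit 3, nat_lit 2, nat_lit 1, nat_lit 0, nat_lit 1, nat_lit 0]))))))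
 (.node (nat_lit 527) (.node (nat_lit 525) (.node (nat_lit 524) (.leaf ((nat_lit 261), [nat_lit 3])) (.leaf ((nat_lit 262), [nat_lit 3, nat_lit 2, nat_lit 1, nat_lit 0, nat_lit 1, nat_lit 0]))) (.node (nat_lit 526) (.leaf ((nat_lit 263), [nat_lit 2, nat_lit 1, nat_lit 3, nat_lit 0, nat_lit 2, nat_lit 1, nat_lit 0])) (.leaf ((nat_lit 264), [nat_lit 3, nat_lit 1, nat_lit 2, nat_lit 1, nat_lit 0]))))
 (.node (nat_lit 529) (.node (nat_lit 528) (.leaf ((nat_lit 239), [nat_lit 3, nat_lit 1, nat_lit 3, nat_lit 1, nat_lit 2, nat_lit 0, nat_lit 1, nat_lit 0])) (.leaf ((nat_lit 239), [nat_lit 3, nat_lit 1, nat_lit 3, nat_lit 1, nat_lit 0, nat_lit 1, nat_lit 0]))) (.node (nat_lit 530) (.leaf ((nat_lit 265), [nat_lit 2, nat_lit 3, nat_lit 1, nat_lit 2, nat_lit 1, nat_lit 0])) (.node (nat_lit 531) (.leaf ((nat_lit 266), [nat_lit 2, nat_lit 3, nat_lit 2, nat_lit 0, nat_lit 2,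 nat_lit 1, nat_lit 0, nat_lit 1])) (.leaf ((nat_lit 15), [nat_lit 3, nat_lit 1, nat_lit 2, nat_lit 3, nat_lit 2])))))))
 (.node (nat_lit 541) (.node (nat_lit 536) (.node (nat_lit 534) (.node (nat_lit 533) (.leaf ((nat_lit 77), [nat_lit 0, nat_lit 1, nat_lit 2, nat_lit 3, nat_lit 0, nat_lit 2, nat_lit 1])) (.leaf ((nat_lit 16), [nat_lit 3, nat_lit 1, nat_lit 3, nat_lit 2, nat_lit 0, nat_lit 2]))) (.node (nat_lit 535) (.leaf ((nat_lit 267), [nat_lit 0, nat_lit 2, nat_lit 1, nat_lit 0, nat_lit 1, nat_lit 0])) (.leaf ((nat_lit 268), [nat_lit 3, nat_lit 1, nat_lit 2, nat_lit 0, nat_lit 1, nat_lit 0, nat_lit 1]))))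
 (.node (nat_lit 538) (.node (nat_lit 537) (.leaf ((nat_lit 269), [nat_lit 3, nat_lit 2, nat_lit 3, nat_lit 1, nat_lit 0, nat_lit 2, nat_lit 0, nat_lit 1])) (.leaf ((nat_lit 270), [nat_lit 0, nat_lit 2]))) (.node (nat_lit 539) (.leaf ((nat_lit 167), [nat_lit 1, nat_lit 3, nat_lit 1, nat_lit 2, nat_lit 1, nat_lit 0, nat_lit 1, nat_lit 0])) (.node (nat_lit 540) (.leaf ((nat_lit 16), [nat_lit 1, nat_lit 2, nat_lit 3, nat_lit 0, nat_lit 2, nat_lit 0])) (.leaf ((nat_lit 76), [nat_lit 1, nat_lit 2, nat_lit 3, nat_lit 1, nat_lit 2, nat_lit 0, nat_lit 1, nat_lit 0]))))))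
 (.node (nat_lit 546) (.node (nat_lit 543) (.node (nat_lit 542) (.leaf ((nat_lit 266), [nat_lit 3, nat_lit 1, nat_lit 2, nat_lit 3, nat_lit 0, nat_lit 2, nat_lit 1, nat_lit 0, nat_lit 1])) (.leaf ((nat_lit 205), [nat_lit 1, nat_lit 2, nat_lit 3, nat_lit 2, nat_lit 0, nat_lit 2, nat_lit 1, nat_lit 0, nat_lit 1]))) (.node (nat_lit 544) (.leaf ((nat_lit 271), [nat_lit 3, nat_lit 1, nat_lit 3, nat_lit 0, nat_lit 1, nat_lit 0])) (.node (nat_lit 545) (.leaf ((nat_lit 236), [nat_lit 3, nat_lit 2, nat_lit 0, nat_lit 1, nat_lit 0])) (.leaf ((nat_lit 272), [nat_lit 1, nat_lit 2, nat_lit 3, nat_lit 1, nat_lit 0, nat_lit 2, nat_lit 0, nat_lit 1, nat_lit 0])))))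
 (.node (nat_lit 548) (.node (nat_lit 547) (.leaf ((nat_lit 273), [nat_lit 0, nat_lit 1, nat_lit 3, nat_lit 1, nat_lit 2])) (.leaf ((nat_lit 274), [nat_lit 2, nat_lit 1, nat_lit 3, nat_lit 1, nat_lit 0, nat_lit 2, nat_lit 0, nat_lit 1]))) (.node (nat_lit 549) (.leaf ((nat_lit 16), [nat_lit 2, nat_lit 3, nat_lit 2, nat_lit 1])) (.node (nat_lit 550) (.leaf ((nat_lit 275), [nat_lit 0, nat_lit 1])) (.leaf ((nat_lit 276), [nat_lit 2, nat_lit 1, nat_lit 3, nat_lit 1, nat_lit 0, nat_lit 2, nat_lit 0, nat_lit 1, nat_lit 0]))))))))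
 (.node (nat_lit 569) (.node (nat_lit 560) (.node (nat_lit 555) (.node (nat_lit 553) (.node (nat_lit 552) (.leaf ((nat_lit 277), [nat_lit 3, nat_lit 1, nat_lit 2, nat_lit 3, nat_lit 0, nat_lit 2, nat_lit 1, nat_lit 0, nat_lit 1, nat_lit 0])) (.leaf ((nat_lit 278), [nat_lit 1, nat_lit 2, nat_lit 3, nat_lit 0, nat_lit 2, nat_lit 0, nat_lit 1]))) (.node (nat_lit 554) (.leaf ((nat_lit 279), [nat_lit 2, nat_lit 1, nat_lit 3, nat_lit 2, nat_lit 0, nat_lit 2, nat_lit 1])) (.leaf ((nat_lit 280), [nat_lit 1, nat_lit 0, nat_lit 2, nat_lit 1]))))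
 (.node (nat_lit 557) (.node (nat_lit 556) (.leaf ((nat_lit 275), [nat_lit 2, nat_lit 3, nat_lit 2, nat_lit 0, nat_lit 2, nat_lit 1, nat_lit 0])) (.leaf ((nat_lit 16), [nat_lit 1, nat_lit 2, nat_lit 3, nat_lit 2, nat_lit 0, nat_lit 2]))) (.node (nat_lit 558) (.leaf ((nat_lit 281), [nat_lit 1, nat_lit 3, nat_lit 1, nat_lit 0, nat_lit 2, nat_lit 1, nat_lit 0])) (.node (nat_lit 559) (.leaf ((nat_lit 282), [nat_lit 3, nat_lit 2, nat_lit 3, nat_lit 1, nat_lit 0, nat_lit 1, nat_lit 0])) (.leaf ((nat_lit 127), [nat_lit 1, nat_lit 0, nat_lit 2, nat_lit 0, nat_lit 1, nat_lit 0]))))))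
 (.node (nat_lit 564) (.node (nat_lit 562) (.node (nat_lit 561) (.leaf ((nat_lit 283), [nat_lit 2, nat_lit 1, nat_lit 3, nat_lit 2, nat_lit 0, nat_lit 2, nat_lit 0, nat_lit 1, nat_lit 0, nat_lit 1])) (.leaf ((nat_lit 188), [nat_lit 2, nat_lit 0, nat_lit 2, nat_lit 1, nat_lit 0, nat_lit 1, nat_lit 0]))) (.node (nat_lit 563) (.leaf ((nat_lit 284), [nat_lit 0, nat_lit 1, nat_lit 3, nat_lit 1, nat_lit 0, nat_lit 2, nat_lit 0, nat_lit 1, nat_lit 0])) (.leaf ((nat_lit 124), [nat_lit 3, nat_lit 1, nat_lit 3, nat_lit 2, nat_lit 0, nat_lit 2, nat_lit 0, nat_lit 1, nat_lit 0]))))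
 (.node (nat_lit 566) (.node (nat_lit 565) (.leaf ((nat_lit 16), [nat_lit 2, nat_lit 1, nat_lit 3, nat_lit 0, nat_lit 2, nat_lit 0, nat_lit 1, nat_lit 0, nat_lit 1, nat_lit 0])) (.leaf ((nat_lit 285), [nat_lit 0, nat_lit 1, nat_lit 2, nat_lit 3, nat_lit 1, nat_lit 2, nat_lit 0, nat_lit 1, nat_lit 0, nat_lit 1]))) (.node (nat_lit 567) (.leaf ((nat_lit 113), [nat_lit 0, nat_lit 1, nat_lit 3, nat_lit 1, nat_lit 0])) (.node (nat_lit 568) (.leaf ((nat_lit 286), [nat_lit 3, nat_lit 1, nat_lit 0, nat_lit 1, nat_lit 0])) (.leaf ((nat_lit 284), [nat_lit 3, nat_lit 1, nat_lit 3, nat_lit 1, nat_lit 0, nat_lit 2, nat_lit 0])))))))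
 (.node (nat_lit 578) (.node (nat_lit 573) (.node (nat_lit 571) (.node (nat_lit 570) (.leaf ((nat_lit 187), [nat_lit 3, nat_lit 1, nat_lit 2, nat_lit 0, nat_lit 1, nat_lit 0])) (.leaf ((nat_lit 81), [nat_lit 0, nat_lit 1, nat_lit 3, nat_lit 1, nat_lit 0]))) (.node (nat_lit 572) (.leaf ((nat_lit 287), [nat_lit 2, nat_lit 1, nat_lit 3, nat_lit 2, nat_lit 0, nat_lit 2, nat_lit 1, nat_lit 0])) (.leaf ((nat_lit 16), [nat_lit 3, nat_lit 1, nat_lit 3, nat_lit 1, nat_lit 0, nat_lit 2, nat_lit 0, nat_lit 1, nat_lit 0, nat_lit 1, nat_lit 0]))))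
 (.node (nat_lit 575) (.node (nat_lit 574) (.leaf ((nat_lit 266), [nat_lit 1, nat_lit 0, nat_lit 2, nat_lit 0])) (.leaf ((nat_lit 45), [nat_lit 3, nat_lit 2, nat_lit 0, nat_lit 2, nat_lit 0, nat_lit 1]))) (.node (nat_lit 576) (.leaf ((nat_lit 19), [nat_lit 3, nat_lit 1, nat_lit 3, nat_lit 0])) (.node (nat_lit 577) (.leaf ((nat_lit 180), [nat_lit 3, nat_lit 1, nat_lit 3, nat_lit 1, nat_lit 0])) (.leaf ((nat_lit 61), [nat_lit 3, nat_lit 1, nat_lit 2, nat_lit 3, nat_lit 1, nat_lit 0, nat_lit 1]))))))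
 (.node (nat_lit 583) (.node (nat_lit 580) (.node (nat_lit 579) (.leaf ((nat_lit 17), [nat_lit 3, nat_lit 1, nat_lit 2, nat_lit 0, nat_lit 1])) (.leaf ((nat_lit 148), [nat_lit 0, nat_lit 1, nat_lit 3, nat_lit 2, nat_lit 0, nat_lit 2, nat_lit 0, nat_lit 1, nat_lit 0]))) (.node (nat_lit 581) (.leaf ((nat_lit 288), [nat_lit 1, nat_lit 3, nat_lit 2, nat_lit 0, nat_lit 1, nat_lit 0, nat_lit 1])) (.node (nat_lit 582) (.leaf ((nat_lit 289), [nat_lit 1, nat_lit 0, nat_lit 2, nat_lit 1, nat_lit 0, nat_lit 1])) (.leaf ((nat_lit 290), [nat_lit 1, nat_lit 3, nat_lit 2, nat_lit 0, nat_lit 2])))))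
 (.node (nat_lit 585) (.node (nat_lit 584) (.leaf ((nat_lit 291), [nat_lit 3, nat_lit 1, nat_lit 3, nat_lit 1, nat_lit 0, nat_lit 2])) (.leaf ((nat_lit 292), [nat_lit 3, nat_lit 0, nat_lit 2, nat_lit 1]))) (.node (nat_lit 586) (.leaf ((nat_lit 293), [nat_lit 1, nat_lit 0, nat_lit 2, nat_lit 0, nat_lit 1, nat_lit 0, nat_lit 1, nat_lit 0])) (.node (nat_lit 587) (.leaf ((nat_lit 17), [nat_lit 0, nat_lit 1, nat_lit 2, nat_lit 3, nat_lit 1, nat_lit 2, nat_lit 0, nat_lit 1, nat_lit 0, nat_lit 1, nat_lit 0])) (.leaf ((nat_lit 294), [nat_lit 1, nat_lit 3, nat_lit 1, nat_lit 0, nat_lit 2, nat_lit 0, nat_lit 1, nat_lit 0]))))))))))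
noncomputable def bWd_4 : Tr (ℕ × List ℕ) := (.node (nat_lit 661) (.node (nat_lit 624) (.node (nat_lit 606) (.node (nat_lit 597) (.node (nat_lit 592) (.node (nat_lit 590) (.node (nat_lit 589) (.leaf ((nat_lit 63), [nat_lit 3, nat_lit 1, nat_lit 0])) (.leaf ((nat_lit 223), [nat_lit 1, nat_lit 3, nat_lit 1]))) (.node (nat_lit 591) (.leaf ((nat_lit 84), [nat_lit 2, nat_lit 3, nat_lit 0, nat_lit 2, nat_lit 0, nat_lit 1, nat_lit 0, nat_lit 1, nat_lit 0])) (.leaf ((nat_lit 295), [nat_lit 2, nat_lit 1, nat_lit 3, nat_lit 1]))))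
 (.node (nat_lit 594) (.node (nat_lit 593) (.leaf ((nat_lit 57), [nat_lit 1, nat_lit 3, nat_lit 1, nat_lit 0, nat_lit 2, nat_lit 1, nat_lit 0, nat_lit 1, nat_lit 0])) (.leaf ((nat_lit 296), [nat_lit 3, nat_lit 2, nat_lit 3, nat_lit 0, nat_lit 2, nat_lit 0]))) (.node (nat_lit 595) (.leaf ((nat_lit 17), [nat_lit 3, nat_lit 2])) (.node (nat_lit 596) (.leaf ((nat_lit 247), [nat_lit 1, nat_lit 2, nat_lit 3, nat_lit 0, nat_lit 1, nat_lit 0])) (.leaf ((nat_lit 297), [nat_lit 3, nat_lit 1, nat_lit 3, nat_lit 1, nat_lit 2]))))))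
 (.node (nat_lit 601) (.node (nat_lit 599) (.node (nat_lit 598) (.leaf ((nat_lit 39), [nat_lit 3, nat_lit 2, nat_lit 3, nat_lit 1, nat_lit 2, nat_lit 0, nat_lit 1])) (.leaf ((nat_lit 298), [nat_lit 2, nat_lit 1, nat_lit 3, nat_lit 2, nat_lit 0, nat_lit 1, nat_lit 0]))) (.node (nat_lit 600) (.leaf ((nat_lit 18), [nat_lit 1, nat_lit 2, nat_lit 3, nat_lit 1, nat_lit 0, nat_lit 2, nat_lit 0])) (.leaf ((nat_lit 299), [nat_lit 1, nat_lit 2, nat_lit 3, nat_lit 2, nat_lit 0, nat_lit 2, nat_lit 1, nat_lit 0, nat_lit 1, nat_lit 0]))))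
 (.node (nat_lit 603) (.node (nat_lit 602) (.leaf ((nat_lit 300), [nat_lit 1, nat_lit 3, nat_lit 1])) (.leaf ((nat_lit 301), [nat_lit 3, nat_lit 0, nat_lit 2, nat_lit 1, nat_lit 0, nat_lit 1]))) (.node (nat_lit 604) (.leaf ((nat_lit 141), [nat_lit 2, nat_lit 1, nat_lit 3, nat_lit 2, nat_lit 0, nat_lit 2, nat_lit 1, nat_lit 0])) (.node (nat_lit 605) (.leaf ((nat_lit 302), [nat_lit 3, nat_lit 1, nat_lit 3, nat_lit 0, nat_lit 2, nat_lit 1, nat_lit 0, nat_lit 1])) (.leaf ((nat_lit 303), [nat_lit 1, nat_lit 2])))))))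
 (.node (nat_lit 615) (.node (nat_lit 610) (.node (nat_lit 608) (.node (nat_lit 607) (.leaf ((nat_lit 304), [nat_lit 2, nat_lit 3, nat_lit 2, nat_lit 0, nat_lit 2, nat_lit 0, nat_lit 1, nat_lit 0, nat_lit 1, nat_lit 0])) (.leaf ((nat_lit 18), [nat_lit 3, nat_lit 1, nat_lit 2, nat_lit 3, nat_lit 1, nat_lit 0, nat_lit 1]))) (.node (nat_lit 609) (.leaf ((nat_lit 305), [nat_lit 0, nat_lit 1, nat_lit 2, nat_lit 3, nat_lit 1, nat_lit 0, nat_lit 2, nat_lit 0, nat_lit 1, nat_lit 0, nat_lit 1])) (.leaf ((nat_lit 275), [nat_lit 2, nat_lit 3, nat_lit 2, nat_lit 0, nat_lit 2, nat_lit 0]))))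
 (.node (nat_lit 612) (.node (nat_lit 611) (.leaf ((nat_lit 306), [nat_lit 3, nat_lit 1, nat_lit 2, nat_lit 3, nat_lit 0, nat_lit 2, nat_lit 0, nat_lit 1, nat_lit 0])) (.leaf ((nat_lit 307), [nat_lit 2, nat_lit 3, nat_lit 0, nat_lit 2, nat_lit 0, nat_lit 1, nat_lit 0, nat_lit 1]))) (.node (nat_lit 613) (.leaf ((nat_lit 21), [nat_lit 0, nat_lit 1, nat_lit 3, nat_lit 0, nat_lit 1])) (.node (nat_lit 614) (.leaf ((nat_lit 308), [nat_lit 3, nat_lit 2, nat_lit 3, nat_lit 1, nat_lit 2, nat_lit 0, nat_lit 1, nat_lit 0, nat_lit 1])) (.leaf ((nat_lit 309), [nat_lit 1, nat_lit 3, nat_lit 2, nat_lit 0, nat_lit 1, nat_lit 0, nat_lit 1]))))))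
 (.node (nat_lit 619) (.node (nat_lit 617) (.node (nat_lit 616) (.leaf ((nat_lit 18), [nat_lit 2, nat_lit 1, nat_lit 3, nat_lit 1, nat_lit 0, nat_lit 2, nat_lit 1])) (.leaf ((nat_lit 180), [nat_lit 3, nat_lit 2, nat_lit 3, nat_lit 2, nat_lit 0, nat_lit 2, nat_lit 1, nat_lit 0]))) (.node (nat_lit 618) (.leaf ((nat_lit 100), [nat_lit 3, nat_lit 1, nat_lit 3, nat_lit 0, nat_lit 1, nat_lit 0, nat_lit 1, nat_lit 0])) (.leaf ((nat_lit 48), [nat_lit 0, nat_lit 1, nat_lit 2, nat_lit 3, nat_lit 0, nat_lit 2, nat_lit 0, nat_lit 1, nat_lit 0, nat_lit 1, nat_lit 0]))))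
 (.node (nat_lit 621) (.node (nat_lit 620) (.leaf ((nat_lit 19), [nat_lit 3, nat_lit 2, nat_lit 3, nat_lit 1, nat_lit 0, nat_lit 2, nat_lit 0, nat_lit 1])) (.leaf ((nat_lit 310), [nat_lit 1, nat_lit 3, nat_lit 2, nat_lit 0, nat_lit 2, nat_lit 1, nat_lit 0, nat_lit 1]))) (.node (nat_lit 622) (.leaf ((nat_lit 311), [nat_lit 1, nat_lit 2, nat_lit 3, nat_lit 2, nat_lit 0, nat_lit 2, nat_lit 0])) (.node (nat_lit 623) (.leaf ((nat_lit 312), [nat_lit 0, nat_lit 1, nat_lit 3, nat_lit 2, nat_lit 0, nat_lit 1, nat_lit 0])) (.leaf ((nat_lit 42), [nat_lit 1, nat_lit 0, nat_lit 2, nat_lit 0, nat_lit 1, nat_lit 0, nat_lit 1, nat_lit 0]))))))))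
 (.node (nat_lit 642) (.node (nat_lit 633) (.node (nat_lit 628) (.node (nat_lit 626) (.node (nat_lit 625) (.leaf ((nat_lit 175), [nat_lit 3, nat_lit 1, nat_lit 3, nat_lit 0, nat_lit 2, nat_lit 0, nat_lit 1, nat_lit 0])) (.leaf ((nat_lit 300), [nat_lit 3, nat_lit 1, nat_lit 2, nat_lit 0]))) (.node (nat_lit 627) (.leaf ((nat_lit 175), [nat_lit 3, nat_lit 2, nat_lit 3, nat_lit 1, nat_lit 0, nat_lit 2, nat_lit 0, nat_lit 1])) (.leaf ((nat_lit 195), [nat_lit 1, nat_lit 3, nat_lit 0, nat_lit 2]))))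
 (.node (nat_lit 630) (.node (nat_lit 629) (.leaf ((nat_lit 198), [nat_lit 0, nat_lit 1, nat_lit 2, nat_lit 3, nat_lit 0, nat_lit 1, nat_lit 0, nat_lit 1, nat_lit 0])) (.leaf ((nat_lit 19), [nat_lit 0, nat_lit 1, nat_lit 2, nat_lit 3, nat_lit 1, nat_lit 2, nat_lit 0, nat_lit 1, nat_lit 0, nat_lit 1, nat_lit 0]))) (.node (nat_lit 631) (.leaf ((nat_lit 91), [nat_lit 1, nat_lit 2, nat_lit 1, nat_lit 0])) (.node (nat_lit 632) (.leaf ((nat_lit 20), [nat_lit 2, nat_lit 1, nat_lit 3, nat_lit 0, nat_lit 2, nat_lit 0])) (.leaf ((nat_lit 313), [nat_lit 3, nat_lit 1, nat_lit 3, nat_lit 0, nat_lit 1, nat_lit 0, nat_lit 1, nat_lit 0]))))))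
 (.node (nat_lit 637) (.node (nat_lit 635) (.node (nat_lit 634) (.leaf ((nat_lit 314), [nat_lit 1, nat_lit 3, nat_lit 2, nat_lit 0, nat_lit 1, nat_lit 0, nat_lit 1])) (.leaf ((nat_lit 315), [nat_lit 3, nat_lit 2, nat_lit 3, nat_lit 2, nat_lit 0, nat_lit 2, nat_lit 0, nat_lit 1, nat_lit 0, nat_lit 1]))) (.node (nat_lit 636) (.leaf ((nat_lit 316), [nat_lit 1, nat_lit 2, nat_lit 3, nat_lit 0, nat_lit 2])) (.leaf ((nat_lit 317), [nat_lit 3, nat_lit 2, nat_lit 3, nat_lit 1]))))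
 (.node (nat_lit 639) (.node (nat_lit 638) (.leaf ((nat_lit 20), [nat_lit 2, nat_lit 1, nat_lit 3, nat_lit 1, nat_lit 2, nat_lit 1, nat_lit 0, nat_lit 1])) (.leaf ((nat_lit 90), [nat_lit 1, nat_lit 2, nat_lit 1, nat_lit 0]))) (.node (nat_lit 640) (.leaf ((nat_lit 50), [nat_lit 1, nat_lit 0, nat_lit 2, nat_lit 1, nat_lit 0])) (.node (nat_lit 641) (.leaf ((nat_lit 50), [nat_lit 3, nat_lit 1, nat_lit 0, nat_lit 2, nat_lit 1, nat_lit 0])) (.leaf ((nat_lit 318), [nat_lit 2, nat_lit 1, nat_lit 3, nat_lit 2, nat_lit 0, nat_lit 1])))))))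
 (.node (nat_lit 651) (.node (nat_lit 646) (.node (nat_lit 644) (.node (nat_lit 643) (.leaf ((nat_lit 27), [nat_lit 2, nat_lit 1, nat_lit 3, nat_lit 1, nat_lit 0, nat_lit 2, nat_lit 1])) (.leaf ((nat_lit 319), [nat_lit 0, nat_lit 1, nat_lit 3, nat_lit 0, nat_lit 1, nat_lit 0]))) (.node (nat_lit 645) (.leaf ((nat_lit 198), [nat_lit 3, nat_lit 1, nat_lit 3, nat_lit 1])) (.leaf ((nat_lit 320), [nat_lit 1, nat_lit 3, nat_lit 0, nat_lit 2, nat_lit 0, nat_lit 1, nat_lit 0, nat_lit 1]))))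
 (.node (nat_lit 648) (.node (nat_lit 647) (.leaf ((nat_lit 20), [nat_lit 3, nat_lit 1, nat_lit 2, nat_lit 3, nat_lit 0, nat_lit 1, nat_lit 0, nat_lit 1, nat_lit 0])) (.leaf ((nat_lit 321), [nat_lit 1, nat_lit 2, nat_lit 3, nat_lit 0, nat_lit 2, nat_lit 0, nat_lit 1, nat_lit 0]))) (.node (nat_lit 649) (.leaf ((nat_lit 322), [nat_lit 0, nat_lit 1, nat_lit 3, nat_lit 2, nat_lit 0, nat_lit 1, nat_lit 0, nat_lit 1])) (.node (nat_lit 650) (.leaf ((nat_lit 34), [nat_lit 3, nat_lit 0, nat_lit 1, nat_lit 0, nat_lit 1, nat_lit 0])) (.leaf ((nat_lit 32), [nat_lit 3, nat_lit 2, nat_lit 3, nat_lit 2, nat_lit 0, nat_lit 1, nat_lit 0, nat_lit 1, nat_lit 0]))))))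
 (.node (nat_lit 656) (.node (nat_lit 653) (.node (nat_lit 652) (.leaf ((nat_lit 56), [nat_lit 1, nat_lit 2, nat_lit 3, nat_lit 2, nat_lit 0, nat_lit 1, nat_lit 0, nat_lit 1, nat_lit 0])) (.leaf ((nat_lit 210), [nat_lit 0, nat_lit 1, nat_lit 3, nat_lit 2, nat_lit 0, nat_lit 2, nat_lit 1]))) (.node (nat_lit 654) (.leaf ((nat_lit 321), [nat_lit 0, nat_lit 1, nat_lit 3, nat_lit 2, nat_lit 0, nat_lit 1, nat_lit 0])) (.node (nat_lit 655) (.leaf ((nat_lit 20), [nat_lit 0, nat_lit 1, nat_lit 2, nat_lit 3, nat_lit 1, nat_lit 0, nat_lit 2, nat_lit 1, nat_lit 0])) (.leaf ((nat_lit 144), [nat_lit 0, nat_lit 1, nat_lit 2, nat_lit 3, nat_lit 2, nat_lit 0, nat_lit 2, nat_lit 1])))))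
 (.node (nat_lit 658) (.node (nat_lit 657) (.leaf ((nat_lit 32), [nat_lit 3, nat_lit 2, nat_lit 3, nat_lit 0, nat_lit 2, nat_lit 1, nat_lit 0, nat_lit 1])) (.leaf ((nat_lit 323), [nat_lit 3, nat_lit 1, nat_lit 3, nat_lit 2, nat_lit 0, nat_lit 2]))) (.node (nat_lit 659) (.leaf ((nat_lit 324), [nat_lit 0, nat_lit 1, nat_lit 3, nat_lit 1, nat_lit 0, nat_lit 2])) (.node (nat_lit 660) (.leaf ((nat_lit 211), [nat_lit 1, nat_lit 0, nat_lit 2, nat_lit 0, nat_lit 1, nat_lit 0, nat_lit 1])) (.leaf ((nat_lit 325), [nat_lit 3, nat_lit 2, nat_lit 3, nat_lit 1, nat_lit 2, nat_lit 1, nat_lit 0, nat_lit 1, nat_lit 0])))))))))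
 (.node (nat_lit 698) (.node (nat_lit 679) (.node (nat_lit 670) (.node (nat_lit 665) (.node (nat_lit 663) (.node (nat_lit 662) (.leaf ((nat_lit 325), [nat_lit 2, nat_lit 1, nat_lit 3, nat_lit 2, nat_lit 0, nat_lit 2, nat_lit 1, nat_lit 0, nat_lit 1])) (.leaf ((nat_lit 257), [nat_lit 0, nat_lit 1, nat_lit 2, nat_lit 3, nat_lit 0, nat_lit 1, nat_lit 0, nat_lit 1, nat_lit 0]))) (.node (nat_lit 664) (.leaf ((nat_lit 200), [nat_lit 3, nat_lit 2, nat_lit 3, nat_lit 2, nat_lit 0, nat_lit 2, nat_lit 1])) (.leaf ((nat_lit 20), [nat_lit 2, nat_lit 3, nat_lit 1, nat_lit 0, nat_lit 2, nat_lit 1, nat_lit 0, nat_lit 1, nat_lit 0]))))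
 (.node (nat_lit 667) (.node (nat_lit 666) (.leaf ((nat_lit 96), [nat_lit 2, nat_lit 1, nat_lit 3, nat_lit 0, nat_lit 2, nat_lit 1, nat_lit 0, nat_lit 1, nat_lit 0])) (.leaf ((nat_lit 21), [nat_lit 3, nat_lit 1, nat_lit 2, nat_lit 3, nat_lit 1, nat_lit 0, nat_lit 1, nat_lit 0]))) (.node (nat_lit 668) (.leaf ((nat_lit 326), [nat_lit 2, nat_lit 1, nat_lit 3, nat_lit 2, nat_lit 1, nat_lit 0, nat_lit 1])) (.node (nat_lit 669) (.leaf ((nat_lit 327), [nat_lit 3, nat_lit 0, nat_lit 2, nat_lit 1, nat_lit 0, nat_lit 1])) (.leaf ((nat_lit 189), [nat_lit 0, nat_lit 1, nat_lit 2, nat_lit 3, nat_lit 1, nat_lit 2, nat_lit 1, nat_lit 0, nat_lit 1, nat_lit 0]))))))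
 (.node (nat_lit 674) (.node (nat_lit 672) (.node (nat_lit 671) (.leaf ((nat_lit 328), [nat_lit 2, nat_lit 3, nat_lit 2, nat_lit 1])) (.leaf ((nat_lit 310), [nat_lit 2, nat_lit 0, nat_lit 2, nat_lit 1, nat_lit 0]))) (.node (nat_lit 673) (.leaf ((nat_lit 21), [nat_lit 0, nat_lit 1, nat_lit 2, nat_lit 3, nat_lit 1, nat_lit 2, nat_lit 0, nat_lit 1, nat_lit 0])) (.leaf ((nat_lit 95), [nat_lit 1, nat_lit 2, nat_lit 3, nat_lit 2, nat_lit 0, nat_lit 1, nat_lit 0, nat_lit 1]))))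
 (.node (nat_lit 676) (.node (nat_lit 675) (.leaf ((nat_lit 71), [nat_lit 3, nat_lit 2, nat_lit 3, nat_lit 2, nat_lit 0, nat_lit 2, nat_lit 1, nat_lit 0, nat_lit 1, nat_lit 0])) (.leaf ((nat_lit 273), [nat_lit 3, nat_lit 1, nat_lit 3, nat_lit 2, nat_lit 0, nat_lit 2, nat_lit 0, nat_lit 1]))) (.node (nat_lit 677) (.leaf ((nat_lit 329), [nat_lit 3, nat_lit 1, nat_lit 3, nat_lit 1])) (.node (nat_lit 678) (.leaf ((nat_lit 330), [nat_lit 0, nat_lit 1, nat_lit 2, nat_lit 3, nat_lit 2, nat_lit 0, nat_lit 2, nat_lit 1, nat_lit 0, nat_lit 1])) (.leaf ((nat_lit 331), [nat_lit 2, nat_lit 3, nat_lit 1, nat_lit 2, nat_lit 1, nat_lit 0, nat_lit 1, nat_lit 0])))))))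
 (.node (nat_lit 688) (.node (nat_lit 683) (.node (nat_lit 681) (.node (nat_lit 680) (.leaf ((nat_lit 116), [nat_lit 0, nat_lit 1, nat_lit 3, nat_lit 2, nat_lit 0, nat_lit 2, nat_lit 0])) (.leaf ((nat_lit 312), [nat_lit 1, nat_lit 2, nat_lit 3, nat_lit 2, nat_lit 0, nat_lit 2, nat_lit 1, nat_lit 0, nat_lit 1, nat_lit 0]))) (.node (nat_lit 682) (.leaf ((nat_lit 21), [nat_lit 3, nat_lit 1, nat_lit 3, nat_lit 1, nat_lit 0, nat_lit 2])) (.leaf ((nat_lit 307), [nat_lit 3, nat_lit 2, nat_lit 3, nat_lit 1, nat_lit 2]))))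
 (.node (nat_lit 685) (.node (nat_lit 684) (.leaf ((nat_lit 332), [nat_lit 1, nat_lit 2, nat_lit 3, nat_lit 2, nat_lit 0, nat_lit 2, nat_lit 1, nat_lit 0, nat_lit 1])) (.leaf ((nat_lit 258), [nat_lit 1, nat_lit 2, nat_lit 3, nat_lit 2, nat_lit 0, nat_lit 2, nat_lit 0, nat_lit 1, nat_lit 0]))) (.node (nat_lit 686) (.leaf ((nat_lit 333), [nat_lit 3, nat_lit 1, nat_lit 0, nat_lit 2, nat_lit 0, nat_lit 1, nat_lit 0, nat_lit 1])) (.node (nat_lit 687) (.leaf ((nat_lit 124), [nat_lit 1, nat_lit 2, nat_lit 3, nat_lit 1, nat_lit 0, nat_lit 2, nat_lit 0, nat_lit 1, nat_lit 0, nat_lit 1])) (.leaf ((nat_lit 114), [nat_lit 0, nat_lit 1, nat_lit 2, nat_lit 3, nat_lit 1, nat_lit 2, nat_lit 1, nat_lit 0, nat_lit 1, nat_lit 0]))))))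
 (.node (nat_lit 693) (.node (nat_lit 690) (.node (nat_lit 689) (.leaf ((nat_lit 189), [nat_lit 2, nat_lit 1, nat_lit 3, nat_lit 2, nat_lit 0, nat_lit 2, nat_lit 1])) (.leaf ((nat_lit 188), [nat_lit 0, nat_lit 1, nat_lit 3, nat_lit 2, nat_lit 0, nat_lit 2, nat_lit 0, nat_lit 1, nat_lit 0, nat_lit 1, nat_lit 0]))) (.node (nat_lit 691) (.leaf ((nat_lit 21), [nat_lit 3, nat_lit 2, nat_lit 0, nat_lit 2, nat_lit 0])) (.node (nat_lit 692) (.leaf ((nat_lit 265), [nat_lit 1, nat_lit 2, nat_lit 0, nat_lit 1, nat_lit 0, nat_lit 1, nat_lit 0])) (.leaf ((nat_lit 195), [nat_lit 0, nat_lit 1, nat_lit 2, nat_lit 3, nat_lit 1, nat_lit 2, nat_lit 1])))))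
 (.node (nat_lit 695) (.node (nat_lit 694) (.leaf ((nat_lit 334), [nat_lit 3, nat_lit 2, nat_lit 3, nat_lit 1, nat_lit 0, nat_lit 2, nat_lit 0, nat_lit 1, nat_lit 0, nat_lit 1, nat_lit 0])) (.leaf ((nat_lit 335), [nat_lit 2, nat_lit 3, nat_lit 2, nat_lit 0, nat_lit 2, nat_lit 1]))) (.node (nat_lit 696) (.leaf ((nat_lit 336), [nat_lit 1, nat_lit 3, nat_lit 0, nat_lit 2, nat_lit 1, nat_lit 0])) (.node (nat_lit 697) (.leaf ((nat_lit 337), [nat_lit 2, nat_lit 3, nat_lit 1, nat_lit 0, nat_lit 2, nat_lit 0, nat_lit 1, nat_lit 0])) (.leaf ((nat_lit 266), [nat_lit 0, nat_lit 1, nat_lit 2, nat_lit 3, nat_lit 0, nat_lit 2]))))))))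
 (.node (nat_lit 716) (.node (nat_lit 707) (.node (nat_lit 702) (.node (nat_lit 700) (.node (nat_lit 699) (.leaf ((nat_lit 21), [nat_lit 1, nat_lit 3, nat_lit 2, nat_lit 0, nat_lit 1, nat_lit 0, nat_lit 1, nat_lit 0])) (.leaf ((nat_lit 200), [nat_lit 2, nat_lit 1, nat_lit 3, nat_lit 1, nat_lit 0, nat_lit 2, nat_lit 0, nat_lit 1, nat_lit 0, nat_lit 1]))) (.node (nat_lit 701) (.leaf ((nat_lit 88), [nat_lit 0, nat_lit 1, nat_lit 2, nat_lit 3, nat_lit 2, nat_lit 0, nat_lit 1])) (.leaf ((nat_lit 180), [nat_lit 0, nat_lit 1, nat_lit 2, nat_lit 3, nat_lit 2, nat_lit 0, nat_lit 2, nat_lit 1, nat_lit 0, nat_lit 1, nat_lit 0]))))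
 (.node (nat_lit 704) (.node (nat_lit 703) (.leaf ((nat_lit 22), [nat_lit 3, nat_lit 1, nat_lit 2, nat_lit 3, nat_lit 1, nat_lit 2, nat_lit 1, nat_lit 0])) (.leaf ((nat_lit 62), [nat_lit 2, nat_lit 0, nat_lit 2, nat_lit 0, nat_lit 1, nat_lit 0]))) (.node (nat_lit 705) (.leaf ((nat_lit 108), [nat_lit 1, nat_lit 2, nat_lit 1, nat_lit 0, nat_lit 1])) (.node (nat_lit 706) (.leaf ((nat_lit 338), [nat_lit 3, nat_lit 1, nat_lit 3, nat_lit 2, nat_lit 0, nat_lit 2, nat_lit 0, nat_lit 1, nat_lit 0, nat_lit 1, nat_lit 0])) (.leaf ((nat_lit 339), [nat_lit 3, nat_lit 2, nat_lit 3, nat_lit 2, nat_lit 0]))))))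
 (.node (nat_lit 711) (.node (nat_lit 709) (.node (nat_lit 708) (.leaf ((nat_lit 340), [nat_lit 1, nat_lit 0, nat_lit 2, nat_lit 0, nat_lit 1])) (.leaf ((nat_lit 167), [nat_lit 2, nat_lit 1, nat_lit 3, nat_lit 2, nat_lit 0, nat_lit 1, nat_lit 0]))) (.node (nat_lit 710) (.leaf ((nat_lit 341), [nat_lit 1, nat_lit 2, nat_lit 0, nat_lit 1])) (.leaf ((nat_lit 170), [nat_lit 3, nat_lit 1, nat_lit 2, nat_lit 3, nat_lit 1, nat_lit 2, nat_lit 1, nat_lit 0, nat_lit 1, nat_lit 0]))))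
 (.node (nat_lit 713) (.node (nat_lit 712) (.leaf ((nat_lit 22), [nat_lit 0, nat_lit 1, nat_lit 3, nat_lit 1])) (.leaf ((nat_lit 342), [nat_lit 3, nat_lit 2, nat_lit 3, nat_lit 2, nat_lit 0, nat_lit 2, nat_lit 1, nat_lit 0, nat_lit 1]))) (.node (nat_lit 714) (.leaf ((nat_lit 53), [nat_lit 3, nat_lit 1, nat_lit 3, nat_lit 0, nat_lit 2, nat_lit 0, nat_lit 1, nat_lit 0, nat_lit 1, nat_lit 0])) (.node (nat_lit 715) (.leaf ((nat_lit 343), [nat_lit 1, nat_lit 3, nat_lit 2, nat_lit 0, nat_lit 1])) (.leaf ((nat_lit 212), [nat_lit 1, nat_lit 2, nat_lit 3, nat_lit 1, nat_lit 0, nat_lit 2, nat_lit 1])))))))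
 (.node (nat_lit 725) (.node (nat_lit 720) (.node (nat_lit 718) (.node (nat_lit 717) (.leaf ((nat_lit 254), [nat_lit 3, nat_lit 1, nat_lit 2, nat_lit 3, nat_lit 2, nat_lit 0, nat_lit 1, nat_lit 0, nat_lit 1, nat_lit 0])) (.leaf ((nat_lit 253), [nat_lit 3, nat_lit 1, nat_lit 2, nat_lit 3, nat_lit 0, nat_lit 2, nat_lit 0, nat_lit 1, nat_lit 0, nat_lit 1, nat_lit 0]))) (.node (nat_lit 719) (.leaf ((nat_lit 137), [nat_lit 3, nat_lit 1, nat_lit 2, nat_lit 3, nat_lit 0, nat_lit 2, nat_lit 0])) (.leaf ((nat_lit 22), [nat_lit 0, nat_lit 1, nat_lit 0, nat_lit 1]))))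
 (.node (nat_lit 722) (.node (nat_lit 721) (.leaf ((nat_lit 344), [nat_lit 3, nat_lit 1, nat_lit 3, nat_lit 2, nat_lit 1, nat_lit 0])) (.leaf ((nat_lit 26), [nat_lit 2, nat_lit 3, nat_lit 1, nat_lit 0, nat_lit 2, nat_lit 1]))) (.node (nat_lit 723) (.leaf ((nat_lit 113), [nat_lit 1, nat_lit 3])) (.node (nat_lit 724) (.leaf ((nat_lit 218), [nat_lit 1, nat_lit 2, nat_lit 0, nat_lit 1, nat_lit 0])) (.leaf ((nat_lit 345), [nat_lit 3, nat_lit 1, nat_lit 2, nat_lit 3, nat_lit 1, nat_lit 0, nat_lit 2, nat_lit 1, nat_lit 0, nat_lit 1, nat_lit 0]))))))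
 (.node (nat_lit 730) (.node (nat_lit 727) (.node (nat_lit 726) (.leaf ((nat_lit 241), [nat_lit 2, nat_lit 3, nat_lit 2, nat_lit 0, nat_lit 1, nat_lit 0, nat_lit 1, nat_lit 0])) (.leaf ((nat_lit 346), [nat_lit 1, nat_lit 2, nat_lit 3, nat_lit 2, nat_lit 0]))) (.node (nat_lit 728) (.leaf ((nat_lit 22), [nat_lit 1, nat_lit 3, nat_lit 1])) (.node (nat_lit 729) (.leaf ((nat_lit 231), [nat_lit 0, nat_lit 1, nat_lit 2, nat_lit 3, nat_lit 1, nat_lit 2, nat_lit 0, nat_lit 1, nat_lit 0, nat_lit 1])) (.leaf ((nat_lit 347), [nat_lit 3, nat_lit 2, nat_lit 3, nat_lit 2, nat_lit 0, nat_lit 2, nat_lit 0, nat_lit 1, nat_lit 0, nat_lit 1])))))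
 (.node (nat_lit 732) (.node (nat_lit 731) (.leaf ((nat_lit 246), [nat_lit 0])) (.leaf ((nat_lit 290), [nat_lit 3, nat_lit 2, nat_lit 3, nat_lit 1, nat_lit 0, nat_lit 2, nat_lit 0, nat_lit 1]))) (.node (nat_lit 733) (.leaf ((nat_lit 156), [nat_lit 2, nat_lit 1, nat_lit 3, nat_lit 2, nat_lit 0, nat_lit 2, nat_lit 0, nat_lit 1, nat_lit 0, nat_lit 1])) (.node (nat_lit 734) (.leaf ((nat_lit 23), [nat_lit 3, nat_lit 1, nat_lit 3, nat_lit 1, nat_lit 0, nat_lit 2])) (.leaf ((nat_lit 123), [nat_lit 0, nat_lit 1, nat_lit 2, nat_lit 3, nat_lit 1, nat_lit 0, nat_lit 2, nat_lit 1, nat_lit 0, nat_lit 1, nat_lit 0]))))))))))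
noncomputable def bWd_5 : Tr (ℕ × List ℕ) := (.node (nat_lit 808) (.node (nat_lit 771) (.node (nat_lit 753) (.node (nat_lit 744) (.node (nat_lit 739) (.node (nat_lit 737) (.node (nat_lit 736) (.leaf ((nat_lit 348), [nat_lit 0, nat_lit 1, nat_lit 2, nat_lit 3, nat_lit 2, nat_lit 0, nat_lit 1, nat_lit 0, nat_lit 1, nat_lit 0])) (.leaf ((nat_lit 349), [nat_lit 3, nat_lit 1, nat_lit 2, nat_lit 3]))) (.node (nat_lit 738) (.leaf ((nat_lit 350), [nat_lit 0, nat_lit 1, nat_lit 0])) (.leaf ((nat_lit 130), [nat_lit 2, nat_lit 3, nat_lit 2, nat_lit 1, nat_lit 0, nat_lit 1, nat_lit 0]))))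
 (.node (nat_lit 741) (.node (nat_lit 740) (.leaf ((nat_lit 348), [nat_lit 3, nat_lit 1, nat_lit 3, nat_lit 1, nat_lit 2, nat_lit 1, nat_lit 0, nat_lit 1, nat_lit 0])) (.leaf ((nat_lit 124), [nat_lit 0, nat_lit 1, nat_lit 2, nat_lit 3, nat_lit 1, nat_lit 2, nat_lit 1]))) (.node (nat_lit 742) (.leaf ((nat_lit 23), [nat_lit 0, nat_lit 1, nat_lit 2, nat_lit 3, nat_lit 0, nat_lit 2, nat_lit 1, nat_lit 0, nat_lit 1, nat_lit 0])) (.node (nat_lit 743) (.leaf ((nat_lit 24), [nat_lit 1, nat_lit 2, nat_lit 3, nat_lit 2, nat_lit 0, nat_lit 1, nat_lit 0, nat_lit 1, nat_lit 0])) (.leaf ((nat_lit 41), [nat_lit 1, nat_lit 3, nat_lit 0, nat_lit 2, nat_lit 0]))))))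
 (.node (nat_lit 748) (.node (nat_lit 746) (.node (nat_lit 745) (.leaf ((nat_lit 117), [nat_lit 3, nat_lit 0, nat_lit 2, nat_lit 1, nat_lit 0, nat_lit 1])) (.leaf ((nat_lit 46), [nat_lit 0, nat_lit 1, nat_lit 2, nat_lit 3, nat_lit 0]))) (.node (nat_lit 747) (.leaf ((nat_lit 340), [nat_lit 1, nat_lit 0, nat_lit 2, nat_lit 1])) (.leaf ((nat_lit 106), [nat_lit 0, nat_lit 1, nat_lit 2, nat_lit 3, nat_lit 2, nat_lit 1, nat_lit 0, nat_lit 1]))))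
 (.node (nat_lit 750) (.node (nat_lit 749) (.leaf ((nat_lit 128), [nat_lit 3, nat_lit 2, nat_lit 3, nat_lit 2, nat_lit 0, nat_lit 2, nat_lit 1])) (.leaf ((nat_lit 179), [nat_lit 3, nat_lit 1, nat_lit 2, nat_lit 3, nat_lit 0, nat_lit 2, nat_lit 0, nat_lit 1, nat_lit 0, nat_lit 1]))) (.node (nat_lit 751) (.leaf ((nat_lit 351), [nat_lit 1, nat_lit 3, nat_lit 1, nat_lit 0, nat_lit 2, nat_lit 0, nat_lit 1])) (.node (nat_lit 752) (.leaf ((nat_lit 24), [nat_lit 0, nat_lit 1, nat_lit 2, nat_lit 3, nat_lit 1, nat_lit 0, nat_lit 2, nat_lit 0, nat_lit 1, nat_lit 0, nat_lit 1])) (.leaf ((nat_lit 28), [nat_lit 3, nat_lit 0, nat_lit 2, nat_lit 0, nat_lit 1])))))))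
 (.node (nat_lit 762) (.node (nat_lit 757) (.node (nat_lit 755) (.node (nat_lit 754) (.leaf ((nat_lit 278), [nat_lit 2, nat_lit 3, nat_lit 1, nat_lit 0, nat_lit 2, nat_lit 0, nat_lit 1, nat_lit 0, nat_lit 1, nat_lit 0])) (.leaf ((nat_lit 175), [nat_lit 0, nat_lit 1, nat_lit 2, nat_lit 3, nat_lit 1, nat_lit 2, nat_lit 0]))) (.node (nat_lit 756) (.leaf ((nat_lit 251), [nat_lit 0, nat_lit 2, nat_lit 0, nat_lit 1, nat_lit 0, nat_lit 1, nat_lit 0])) (.leaf ((nat_lit 183), [nat_lit 3, nat_lit 2, nat_lit 3, nat_lit 1, nat_lit 0, nat_lit 1]))))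
 (.node (nat_lit 759) (.node (nat_lit 758) (.leaf ((nat_lit 352), [nat_lit 1, nat_lit 3, nat_lit 0, nat_lit 1, nat_lit 0])) (.leaf ((nat_lit 28), [nat_lit 0, nat_lit 1, nat_lit 3, nat_lit 1, nat_lit 2, nat_lit 0, nat_lit 1]))) (.node (nat_lit 760) (.leaf ((nat_lit 24), [nat_lit 1, nat_lit 3, nat_lit 2, nat_lit 0, nat_lit 2, nat_lit 0])) (.node (nat_lit 761) (.leaf ((nat_lit 100), [nat_lit 2, nat_lit 1, nat_lit 0])) (.leaf ((nat_lit 140), [nat_lit 3, nat_lit 2, nat_lit 3, nat_lit 0, nat_lit 1, nat_lit 0]))))))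
 (.node (nat_lit 766) (.node (nat_lit 764) (.node (nat_lit 763) (.leaf ((nat_lit 170), [nat_lit 2, nat_lit 1, nat_lit 3, nat_lit 2])) (.leaf ((nat_lit 59), [nat_lit 3, nat_lit 1, nat_lit 3, nat_lit 2, nat_lit 0, nat_lit 2, nat_lit 1]))) (.node (nat_lit 765) (.leaf ((nat_lit 217), [nat_lit 2, nat_lit 1, nat_lit 3, nat_lit 0, nat_lit 2, nat_lit 1, nat_lit 0, nat_lit 1])) (.leaf ((nat_lit 25), [nat_lit 0, nat_lit 1, nat_lit 2, nat_lit 3, nat_lit 0, nat_lit 2, nat_lit 1, nat_lit 0]))))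
 (.node (nat_lit 768) (.node (nat_lit 767) (.leaf ((nat_lit 203), [nat_lit 2, nat_lit 3, nat_lit 2, nat_lit 0, nat_lit 2, nat_lit 0, nat_lit 1, nat_lit 0, nat_lit 1, nat_lit 0])) (.leaf ((nat_lit 353), [nat_lit 3, nat_lit 1, nat_lit 3, nat_lit 1, nat_lit 2, nat_lit 0]))) (.node (nat_lit 769) (.leaf ((nat_lit 302), [nat_lit 3, nat_lit 2, nat_lit 3, nat_lit 1, nat_lit 0, nat_lit 2, nat_lit 0, nat_lit 1])) (.node (nat_lit 770) (.leaf ((nat_lit 109), [nat_lit 2, nat_lit 1, nat_lit 3, nat_lit 2, nat_lit 0, nat_lit 1, nat_lit 0, nat_lit 1])) (.leaf ((nat_lit 195), [nat_lit 1, nat_lit 2, nat_lit 3, nat_lit 1, nat_lit 0, nat_lit 2, nat_lit 1, nat_lit 0, nat_lit 1]))))))))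
 (.node (nat_lit 789) (.node (nat_lit 780) (.node (nat_lit 775) (.node (nat_lit 773) (.node (nat_lit 772) (.leaf ((nat_lit 354), [nat_lit 3, nat_lit 2, nat_lit 3, nat_lit 1, nat_lit 2, nat_lit 1])) (.leaf ((nat_lit 203), [nat_lit 0, nat_lit 1, nat_lit 2, nat_lit 3, nat_lit 2, nat_lit 0, nat_lit 2, nat_lit 1, nat_lit 0, nat_lit 1]))) (.node (nat_lit 774) (.leaf ((nat_lit 25), [nat_lit 1, nat_lit 3, nat_lit 1, nat_lit 0, nat_lit 2, nat_lit 1, nat_lit 0])) (.leaf ((nat_lit 355), [nat_lit 2, nat_lit 3, nat_lit 2, nat_lit 0, nat_lit 1, nat_lit 0, nat_lit 1, nat_lit 0]))))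
 (.node (nat_lit 777) (.node (nat_lit 776) (.leaf ((nat_lit 136), [nat_lit 3, nat_lit 1, nat_lit 3, nat_lit 2, nat_lit 1, nat_lit 0, nat_lit 1, nat_lit 0])) (.leaf ((nat_lit 356), [nat_lit 2, nat_lit 1, nat_lit 3, nat_lit 2, nat_lit 0, nat_lit 2]))) (.node (nat_lit 778) (.leaf ((nat_lit 353), [nat_lit 3, nat_lit 2, nat_lit 1, nat_lit 0, nat_lit 1, nat_lit 0])) (.node (nat_lit 779) (.leaf ((nat_lit 225), [nat_lit 3, nat_lit 1, nat_lit 3, nat_lit 2, nat_lit 1, nat_lit 0, nat_lit 1, nat_lit 0])) (.leaf ((nat_lit 225), [nat_lit 1, nat_lit 2, nat_lit 0, nat_lit 1, nat_lit 0, nat_lit 1]))))))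
 (.node (nat_lit 784) (.node (nat_lit 782) (.node (nat_lit 781) (.leaf ((nat_lit 182), [nat_lit 0, nat_lit 1, nat_lit 2, nat_lit 3, nat_lit 0, nat_lit 1, nat_lit 0])) (.leaf ((nat_lit 25), [nat_lit 0, nat_lit 1, nat_lit 2, nat_lit 3, nat_lit 2, nat_lit 0, nat_lit 1]))) (.node (nat_lit 783) (.leaf ((nat_lit 48), [nat_lit 0, nat_lit 1, nat_lit 3, nat_lit 2])) (.leaf ((nat_lit 180), [nat_lit 3, nat_lit 1, nat_lit 3, nat_lit 0, nat_lit 2, nat_lit 1]))))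
 (.node (nat_lit 786) (.node (nat_lit 785) (.leaf ((nat_lit 357), [nat_lit 1, nat_lit 3, nat_lit 1, nat_lit 0, nat_lit 2, nat_lit 1, nat_lit 0, nat_lit 1, nat_lit 0])) (.leaf ((nat_lit 201), [nat_lit 2, nat_lit 1, nat_lit 3, nat_lit 2, nat_lit 0, nat_lit 2, nat_lit 0, nat_lit 1, nat_lit 0, nat_lit 1, nat_lit 0]))) (.node (nat_lit 787) (.leaf ((nat_lit 199), [nat_lit 0, nat_lit 1, nat_lit 3, nat_lit 1, nat_lit 2, nat_lit 1, nat_lit 0, nat_lit 1])) (.node (nat_lit 788) (.leaf ((nat_lit 57), [nat_lit 1, nat_lit 3, nat_lit 2, nat_lit 0, nat_lit 2, nat_lit 1, nat_lit 0, nat_lit 1, nat_lit 0])) (.leaf ((nat_lit 358), [nat_lit 3, nat_lit 1, nat_lit 2, nat_lit 3, nat_lit 2, nat_lit 0, nat_lit 1, nat_lit 0, nat_lit 1])))))))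
 (.node (nat_lit 798) (.node (nat_lit 793) (.node (nat_lit 791) (.node (nat_lit 790) (.leaf ((nat_lit 206), [nat_lit 1, nat_lit 3, nat_lit 2, nat_lit 0, nat_lit 2, nat_lit 0, nat_lit 1, nat_lit 0])) (.leaf ((nat_lit 25), [nat_lit 0, nat_lit 1, nat_lit 2, nat_lit 3, nat_lit 2, nat_lit 0, nat_lit 2, nat_lit 0]))) (.node (nat_lit 792) (.leaf ((nat_lit 103), [nat_lit 3, nat_lit 1])) (.leaf ((nat_lit 26), [nat_lit 3, nat_lit 1, nat_lit 2, nat_lit 3, nat_lit 1, nat_lit 0, nat_lit 2, nat_lit 0, nat_lit 1, nat_lit 0]))))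
 (.node (nat_lit 795) (.node (nat_lit 794) (.leaf ((nat_lit 238), [nat_lit 3, nat_lit 2, nat_lit 3, nat_lit 1, nat_lit 2, nat_lit 0, nat_lit 1, nat_lit 0])) (.leaf ((nat_lit 359), [nat_lit 3, nat_lit 2, nat_lit 3, nat_lit 1, nat_lit 2, nat_lit 0, nat_lit 1]))) (.node (nat_lit 796) (.leaf ((nat_lit 71), [nat_lit 2, nat_lit 3, nat_lit 1, nat_lit 0, nat_lit 2, nat_lit 1, nat_lit 0, nat_lit 1, nat_lit 0])) (.node (nat_lit 797) (.leaf ((nat_lit 113), [nat_lit 1, nat_lit 2, nat_lit 3, nat_lit 2, nat_lit 1, nat_lit 0, nat_lit 1, nat_lit 0])) (.leaf ((nat_lit 80), [nat_lit 0, nat_lit 1, nat_lit 3, nat_lit 1, nat_lit 0]))))))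
 (.node (nat_lit 803) (.node (nat_lit 800) (.node (nat_lit 799) (.leaf ((nat_lit 98), [nat_lit 2, nat_lit 3, nat_lit 1, nat_lit 2, nat_lit 0, nat_lit 1, nat_lit 0, nat_lit 1])) (.leaf ((nat_lit 124), [nat_lit 3, nat_lit 0, nat_lit 2]))) (.node (nat_lit 801) (.leaf ((nat_lit 26), [nat_lit 1, nat_lit 2, nat_lit 3, nat_lit 2, nat_lit 0, nat_lit 2])) (.node (nat_lit 802) (.leaf ((nat_lit 114), [nat_lit 2])) (.leaf ((nat_lit 218), [nat_lit 2, nat_lit 1, nat_lit 3, nat_lit 0, nat_lit 2, nat_lit 1])))))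
 (.node (nat_lit 805) (.node (nat_lit 804) (.leaf ((nat_lit 360), [nat_lit 2, nat_lit 3, nat_lit 1, nat_lit 2, nat_lit 0, nat_lit 1, nat_lit 0, nat_lit 1])) (.leaf ((nat_lit 61), [nat_lit 1, nat_lit 2, nat_lit 3, nat_lit 1, nat_lit 0, nat_lit 2]))) (.node (nat_lit 806) (.leaf ((nat_lit 361), [nat_lit 0, nat_lit 1, nat_lit 3, nat_lit 0, nat_lit 2, nat_lit 1])) (.node (nat_lit 807) (.leaf ((nat_lit 362), [nat_lit 0, nat_lit 1, nat_lit 3, nat_lit 1, nat_lit 0, nat_lit 2])) (.leaf ((nat_lit 277), [nat_lit 3, nat_lit 1, nat_lit 3, nat_lit 0, nat_lit 2, nat_lit 0, nat_lit 1, nat_lit 0])))))))))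
 (.node (nat_lit 845) (.node (nat_lit 826) (.node (nat_lit 817) (.node (nat_lit 812) (.node (nat_lit 810) (.node (nat_lit 809) (.leaf ((nat_lit 276), [nat_lit 3, nat_lit 2, nat_lit 0, nat_lit 2, nat_lit 1, nat_lit 0])) (.leaf ((nat_lit 26), [nat_lit 0, nat_lit 1, nat_lit 2, nat_lit 3, nat_lit 2, nat_lit 0, nat_lit 1]))) (.node (nat_lit 811) (.leaf ((nat_lit 187), [nat_lit 2, nat_lit 1])) (.leaf ((nat_lit 216), [nat_lit 3, nat_lit 2, nat_lit 1]))))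
 (.node (nat_lit 814) (.node (nat_lit 813) (.leaf ((nat_lit 312), [nat_lit 0, nat_lit 2, nat_lit 1])) (.leaf ((nat_lit 97), [nat_lit 0, nat_lit 1, nat_lit 3, nat_lit 0, nat_lit 1, nat_lit 0]))) (.node (nat_lit 815) (.leaf ((nat_lit 250), [nat_lit 3, nat_lit 1, nat_lit 3, nat_lit 1, nat_lit 0, nat_lit 2, nat_lit 1, nat_lit 0, nat_lit 1])) (.node (nat_lit 816) (.leaf ((nat_lit 335), [nat_lit 3, nat_lit 1, nat_lit 3, nat_lit 0, nat_lit 2, nat_lit 1])) (.leaf ((nat_lit 363), [nat_lit 3, nat_lit 2, nat_lit 3, nat_lit 2, nat_lit 0]))))))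
 (.node (nat_lit 821) (.node (nat_lit 819) (.node (nat_lit 818) (.leaf ((nat_lit 26), [nat_lit 3, nat_lit 1, nat_lit 2, nat_lit 3, nat_lit 2, nat_lit 0, nat_lit 2, nat_lit 0])) (.leaf ((nat_lit 206), [nat_lit 2, nat_lit 3, nat_lit 2, nat_lit 0, nat_lit 1, nat_lit 0, nat_lit 1]))) (.node (nat_lit 820) (.leaf ((nat_lit 364), [nat_lit 1, nat_lit 0, nat_lit 2])) (.leaf ((nat_lit 365), [nat_lit 2, nat_lit 1, nat_lit 3, nat_lit 2, nat_lit 0, nat_lit 2, nat_lit 0]))))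
 (.node (nat_lit 823) (.node (nat_lit 822) (.leaf ((nat_lit 106), [nat_lit 0, nat_lit 1, nat_lit 2, nat_lit 3, nat_lit 2, nat_lit 0, nat_lit 2, nat_lit 1, nat_lit 0])) (.leaf ((nat_lit 27), [nat_lit 0, nat_lit 1, nat_lit 3, nat_lit 1, nat_lit 0, nat_lit 2, nat_lit 0]))) (.node (nat_lit 824) (.leaf ((nat_lit 206), [nat_lit 1, nat_lit 3, nat_lit 1, nat_lit 0, nat_lit 2, nat_lit 1, nat_lit 0])) (.node (nat_lit 825) (.leaf ((nat_lit 58), [nat_lit 0, nat_lit 1, nat_lit 2, nat_lit 3, nat_lit 2, nat_lit 0, nat_lit 1, nat_lit 0, nat_lit 1, nat_lit 0])) (.leaf ((nat_lit 279), [nat_lit 3, nat_lit 2, nat_lit 3, nat_lit 1, nat_lit 2, nat_lit 1, nat_lit 0])))))))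
 (.node (nat_lit 835) (.node (nat_lit 830) (.node (nat_lit 828) (.node (nat_lit 827) (.leaf ((nat_lit 366), [nat_lit 1, nat_lit 3, nat_lit 2, nat_lit 1, nat_lit 0, nat_lit 1])) (.leaf ((nat_lit 119), [nat_lit 2, nat_lit 1, nat_lit 3, nat_lit 0, nat_lit 2, nat_lit 0, nat_lit 1, nat_lit 0, nat_lit 1, nat_lit 0]))) (.node (nat_lit 829) (.leaf ((nat_lit 177), [nat_lit 3, nat_lit 2, nat_lit 0, nat_lit 2, nat_lit 1, nat_lit 0, nat_lit 1])) (.leaf ((nat_lit 176), [nat_lit 0, nat_lit 1, nat_lit 3, nat_lit 2, nat_lit 1, nat_lit 0, nat_lit 1, nat_lit 0]))))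
 (.node (nat_lit 832) (.node (nat_lit 831) (.leaf ((nat_lit 202), [nat_lit 3, nat_lit 1, nat_lit 3, nat_lit 1, nat_lit 0, nat_lit 2, nat_lit 0])) (.leaf ((nat_lit 367), [nat_lit 1, nat_lit 2, nat_lit 3, nat_lit 1, nat_lit 0, nat_lit 1]))) (.node (nat_lit 833) (.leaf ((nat_lit 27), [nat_lit 1, nat_lit 3, nat_lit 1, nat_lit 0, nat_lit 1])) (.node (nat_lit 834) (.leaf ((nat_lit 118), [nat_lit 2, nat_lit 3, nat_lit 2, nat_lit 0, nat_lit 1, nat_lit 0, nat_lit 1])) (.leaf ((nat_lit 366), [nat_lit 1, nat_lit 2, nat_lit 3, nat_lit 2, nat_lit 0, nat_lit 2, nat_lit 0, nat_lit 1]))))))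
 (.node (nat_lit 840) (.node (nat_lit 837) (.node (nat_lit 836) (.leaf ((nat_lit 366), [nat_lit 0, nat_lit 1, nat_lit 3, nat_lit 2, nat_lit 0, nat_lit 2, nat_lit 0, nat_lit 1, nat_lit 0])) (.leaf ((nat_lit 249), [nat_lit 3, nat_lit 1, nat_lit 2, nat_lit 3, nat_lit 2, nat_lit 0, nat_lit 2, nat_lit 0]))) (.node (nat_lit 838) (.leaf ((nat_lit 215), [nat_lit 1, nat_lit 2, nat_lit 3, nat_lit 1, nat_lit 2, nat_lit 0, nat_lit 1])) (.node (nat_lit 839) (.leaf ((nat_lit 28), [nat_lit 1, nat_lit 2, nat_lit 3, nat_lit 1, nat_lit 0, nat_lit 2])) (.leaf ((nat_lit 28), [nat_lit 3, nat_lit 2, nat_lit 3, nat_lit 0, nat_lit 2, nat_lit 1, nat_lit 0, nat_lit 1, nat_lit 0])))))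
 (.node (nat_lit 842) (.node (nat_lit 841) (.leaf ((nat_lit 121), [nat_lit 1, nat_lit 3, nat_lit 2, nat_lit 0, nat_lit 2, nat_lit 1])) (.leaf ((nat_lit 29), [nat_lit 2, nat_lit 1, nat_lit 3, nat_lit 2, nat_lit 0, nat_lit 2, nat_lit 0, nat_lit 1, nat_lit 0, nat_lit 1]))) (.node (nat_lit 843) (.leaf ((nat_lit 352), [nat_lit 2, nat_lit 3, nat_lit 1, nat_lit 0, nat_lit 2, nat_lit 0, nat_lit 1, nat_lit 0])) (.node (nat_lit 844) (.leaf ((nat_lit 351), [nat_lit 0, nat_lit 2, nat_lit 0, nat_lit 1, nat_lit 0])) (.leaf ((nat_lit 368), [nat_lit 0, nat_lit 1, nat_lit 3, nat_lit 2, nat_lit 0, nat_lit 2]))))))))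
 (.node (nat_lit 863) (.node (nat_lit 854) (.node (nat_lit 849) (.node (nat_lit 847) (.node (nat_lit 846) (.leaf ((nat_lit 369), [nat_lit 3, nat_lit 2, nat_lit 3, nat_lit 0, nat_lit 1])) (.leaf ((nat_lit 370), [nat_lit 3, nat_lit 2, nat_lit 3, nat_lit 2, nat_lit 0, nat_lit 1, nat_lit 0]))) (.node (nat_lit 848) (.leaf ((nat_lit 29), [nat_lit 3, nat_lit 2, nat_lit 3, nat_lit 2, nat_lit 0, nat_lit 2, nat_lit 0, nat_lit 1, nat_lit 0, nat_lit 1, nat_lit 0])) (.leaf ((nat_lit 120), [nat_lit 3, nat_lit 0, nat_lit 1]))))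
 (.node (nat_lit 851) (.node (nat_lit 850) (.leaf ((nat_lit 184), [nat_lit 3, nat_lit 1, nat_lit 2, nat_lit 3, nat_lit 1, nat_lit 0])) (.leaf ((nat_lit 364), [nat_lit 2, nat_lit 1, nat_lit 3, nat_lit 2, nat_lit 1, nat_lit 0, nat_lit 1, nat_lit 0]))) (.node (nat_lit 852) (.leaf ((nat_lit 121), [nat_lit 0, nat_lit 1, nat_lit 2, nat_lit 3, nat_lit 1, nat_lit 2, nat_lit 0, nat_lit 1, nat_lit 0, nat_lit 1])) (.node (nat_lit 853) (.leaf ((nat_lit 289), [nat_lit 0, nat_lit 1, nat_lit 3, nat_lit 1, nat_lit 0, nat_lit 2, nat_lit 1, nat_lit 0, nat_lit 1])) (.leaf ((nat_lit 371), [nat_lit 1, nat_lit 3, nat_lit 2, nat_lit 0, nat_lit 2, nat_lit 1, nat_lit 0]))))))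
 (.node (nat_lit 858) (.node (nat_lit 856) (.node (nat_lit 855) (.leaf ((nat_lit 368), [nat_lit 0, nat_lit 1, nat_lit 2, nat_lit 3, nat_lit 1, nat_lit 0, nat_lit 2, nat_lit 0, nat_lit 1, nat_lit 0])) (.leaf ((nat_lit 372), [nat_lit 0, nat_lit 1, nat_lit 2, nat_lit 3, nat_lit 2, nat_lit 0, nat_lit 1]))) (.node (nat_lit 857) (.leaf ((nat_lit 38), [nat_lit 1, nat_lit 2, nat_lit 3, nat_lit 2, nat_lit 1, nat_lit 0, nat_lit 1])) (.leaf ((nat_lit 220), [nat_lit 3, nat_lit 2, nat_lit 0, nat_lit 1, nat_lit 0]))))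
 (.node (nat_lit 860) (.node (nat_lit 859) (.leaf ((nat_lit 29), [nat_lit 3, nat_lit 2, nat_lit 0, nat_lit 1, nat_lit 0, nat_lit 1])) (.leaf ((nat_lit 194), [nat_lit 2, nat_lit 3, nat_lit 1, nat_lit 0, nat_lit 2, nat_lit 1, nat_lit 0, nat_lit 1]))) (.node (nat_lit 861) (.leaf ((nat_lit 69), [nat_lit 0, nat_lit 1, nat_lit 3, nat_lit 2, nat_lit 1])) (.node (nat_lit 862) (.leaf ((nat_lit 373), [nat_lit 1, nat_lit 2, nat_lit 3, nat_lit 0, nat_lit 1])) (.leaf ((nat_lit 374), [nat_lit 0, nat_lit 1, nat_lit 2, nat_lit 3, nat_lit 2, nat_lit 1, nat_lit 0, nat_lit 1, nat_lit 0])))))))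
 (.node (nat_lit 872) (.node (nat_lit 867) (.node (nat_lit 865) (.node (nat_lit 864) (.leaf ((nat_lit 255), [nat_lit 3, nat_lit 1, nat_lit 3, nat_lit 0, nat_lit 1, nat_lit 0])) (.leaf ((nat_lit 375), [nat_lit 2, nat_lit 3, nat_lit 1, nat_lit 2]))) (.node (nat_lit 866) (.leaf ((nat_lit 376), [nat_lit 2, nat_lit 0, nat_lit 2, nat_lit 1, nat_lit 0, nat_lit 1])) (.leaf ((nat_lit 29), [nat_lit 1, nat_lit 3, nat_lit 2, nat_lit 0, nat_lit 1]))))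
 (.node (nat_lit 869) (.node (nat_lit 868) (.leaf ((nat_lit 104), [nat_lit 3, nat_lit 2, nat_lit 3, nat_lit 2, nat_lit 1])) (.leaf ((nat_lit 114), [nat_lit 2, nat_lit 3, nat_lit 2, nat_lit 0, nat_lit 2, nat_lit 1]))) (.node (nat_lit 870) (.leaf ((nat_lit 98), [nat_lit 1, nat_lit 3, nat_lit 1, nat_lit 2, nat_lit 0, nat_lit 1, nat_lit 0, nat_lit 1, nat_lit 0])) (.node (nat_lit 871) (.leaf ((nat_lit 191), [nat_lit 3, nat_lit 1, nat_lit 3, nat_lit 1, nat_lit 2, nat_lit 0, nat_lit 1, nat_lit 0, nat_lit 1, nat_lit 0])) (.leaf ((nat_lit 80), [nat_lit 3, nat_lit 2, nat_lit 3, nat_lit 2, nat_lit 0, nat_lit 2]))))))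
 (.node (nat_lit 877) (.node (nat_lit 874) (.node (nat_lit 873) (.leaf ((nat_lit 377), [nat_lit 2, nat_lit 1, nat_lit 3, nat_lit 0, nat_lit 1, nat_lit 0])) (.leaf ((nat_lit 105), [nat_lit 3, nat_lit 1, nat_lit 3, nat_lit 2, nat_lit 0, nat_lit 1]))) (.node (nat_lit 875) (.leaf ((nat_lit 29), [nat_lit 3, nat_lit 1, nat_lit 2, nat_lit 0, nat_lit 1, nat_lit 0, nat_lit 1, nat_lit 0])) (.node (nat_lit 876) (.leaf ((nat_lit 126), [nat_lit 3, nat_lit 1, nat_lit 2, nat_lit 3, nat_lit 1, nat_lit 0, nat_lit 2])) (.leaf ((nat_lit 30), [nat_lit 3, nat_lit 1, nat_lit 2, nat_lit 3, nat_lit 1, nat_lit 0, nat_lit 2, nat_lit 1, nat_lit 0])))))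
 (.node (nat_lit 879) (.node (nat_lit 878) (.leaf ((nat_lit 125), [nat_lit 0, nat_lit 1, nat_lit 2, nat_lit 3, nat_lit 1, nat_lit 2, nat_lit 0, nat_lit 1, nat_lit 0, nat_lit 1])) (.leaf ((nat_lit 178), [nat_lit 3, nat_lit 2, nat_lit 3, nat_lit 1, nat_lit 0, nat_lit 2]))) (.node (nat_lit 880) (.leaf ((nat_lit 182), [nat_lit 3, nat_lit 1, nat_lit 2, nat_lit 3, nat_lit 0, nat_lit 2, nat_lit 1, nat_lit 0, nat_lit 1])) (.node (nat_lit 881) (.leaf ((nat_lit 201), [nat_lit 3, nat_lit 1, nat_lit 3, nat_lit 1, nat_lit 2, nat_lit 0, nat_lit 1, nat_lit 0])) (.leaf ((nat_lit 199), [nat_lit 3, nat_lit 2, nat_lit 0, nat_lit 1, nat_lit 0, nat_lit 1]))))))))))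
noncomputable def bWd_6 : Tr (ℕ × List ℕ) := (.node (nat_lit 955) (.node (nat_lit 918) (.node (nat_lit 900) (.node (nat_lit 891) (.node (nat_lit 886) (.node (nat_lit 884) (.node (nat_lit 883) (.leaf ((nat_lit 30), [nat_lit 2, nat_lit 1, nat_lit 3, nat_lit 0, nat_lit 2, nat_lit 0, nat_lit 1])) (.leaf ((nat_lit 125), [nat_lit 1, nat_lit 2, nat_lit 3, nat_lit 2, nat_lit 0, nat_lit 2, nat_lit 0, nat_lit 1, nat_lit 0, nat_lit 1]))) (.node (nat_lit 885) (.leaf ((nat_lit 378), [nat_lit 2, nat_lit 1, nat_lit 3, nat_lit 0, nat_lit 2, nat_lit 0, nat_lit 1, nat_lit 0])) (.leaf ((nat_lit 63), [nat_lit 2, nat_lit 1, nat_lit 3, nat_lit 2, nat_lit 0, nat_lit 2, nat_lit 1, nat_lit 0, nat_lit 1, nat_lit 0]))))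
 (.node (nat_lit 888) (.node (nat_lit 887) (.leaf ((nat_lit 379), [nat_lit 2, nat_lit 3, nat_lit 2, nat_lit 1, nat_lit 0, nat_lit 1, nat_lit 0])) (.leaf ((nat_lit 373), [nat_lit 2, nat_lit 3, nat_lit 1, nat_lit 0, nat_lit 2, nat_lit 1, nat_lit 0, nat_lit 1]))) (.node (nat_lit 889) (.leaf ((nat_lit 306), [nat_lit 1, nat_lit 3, nat_lit 1, nat_lit 0, nat_lit 1])) (.node (nat_lit 890) (.leaf ((nat_lit 380), [nat_lit 1, nat_lit 2, nat_lit 3, nat_lit 1, nat_lit 0, nat_lit 1, nat_lit 0])) (.leaf ((nat_lit 378), [nat_lit 1, nat_lit 2, nat_lit 0, nat_lit 1, nat_lit 0, nat_lit 1]))))))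
 (.node (nat_lit 895) (.node (nat_lit 893) (.node (nat_lit 892) (.leaf ((nat_lit 30), [nat_lit 1, nat_lit 0, nat_lit 2, nat_lit 1])) (.leaf ((nat_lit 132), [nat_lit 2, nat_lit 1, nat_lit 3, nat_lit 1, nat_lit 0, nat_lit 2, nat_lit 0, nat_lit 1, nat_lit 0, nat_lit 1, nat_lit 0]))) (.node (nat_lit 894) (.leaf ((nat_lit 331), [nat_lit 3, nat_lit 2, nat_lit 3, nat_lit 0, nat_lit 2, nat_lit 1])) (.leaf ((nat_lit 255), [nat_lit 3, nat_lit 2, nat_lit 0, nat_lit 2, nat_lit 0, nat_lit 1]))))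
 (.node (nat_lit 897) (.node (nat_lit 896) (.leaf ((nat_lit 79), [nat_lit 2, nat_lit 0, nat_lit 2, nat_lit 1, nat_lit 0])) (.leaf ((nat_lit 295), [nat_lit 3, nat_lit 2, nat_lit 3, nat_lit 2, nat_lit 0, nat_lit 2, nat_lit 1, nat_lit 0]))) (.node (nat_lit 898) (.leaf ((nat_lit 381), [nat_lit 1, nat_lit 3, nat_lit 0, nat_lit 2])) (.node (nat_lit 899) (.leaf ((nat_lit 132), [nat_lit 0, nat_lit 1, nat_lit 2, nat_lit 3, nat_lit 0, nat_lit 2, nat_lit 1])) (.leaf ((nat_lit 30), [nat_lit 1, nat_lit 2, nat_lit 3, nat_lit 1, nat_lit 0, nat_lit 2, nat_lit 1, nat_lit 0, nat_lit 1, nat_lit 0])))))))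
 (.node (nat_lit 909) (.node (nat_lit 904) (.node (nat_lit 902) (.node (nat_lit 901) (.leaf ((nat_lit 295), [nat_lit 1, nat_lit 0, nat_lit 2, nat_lit 0, nat_lit 1, nat_lit 0])) (.leaf ((nat_lit 380), [nat_lit 1, nat_lit 2, nat_lit 3, nat_lit 1, nat_lit 0, nat_lit 2, nat_lit 0, nat_lit 1, nat_lit 0]))) (.node (nat_lit 903) (.leaf ((nat_lit 106), [nat_lit 2, nat_lit 1, nat_lit 3, nat_lit 0, nat_lit 1, nat_lit 0, nat_lit 1])) (.leaf ((nat_lit 249), [nat_lit 0, nat_lit 1, nat_lit 3, nat_lit 1, nat_lit 0, nat_lit 2, nat_lit 1, nat_lit 0]))))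
 (.node (nat_lit 906) (.node (nat_lit 905) (.leaf ((nat_lit 382), [nat_lit 3, nat_lit 2, nat_lit 1, nat_lit 0, nat_lit 1, nat_lit 0])) (.leaf ((nat_lit 331), [nat_lit 0, nat_lit 1, nat_lit 3, nat_lit 2, nat_lit 0, nat_lit 2, nat_lit 0, nat_lit 1, nat_lit 0, nat_lit 1]))) (.node (nat_lit 907) (.leaf ((nat_lit 226), [nat_lit 0, nat_lit 1, nat_lit 2, nat_lit 3, nat_lit 2, nat_lit 0, nat_lit 2, nat_lit 1, nat_lit 0, nat_lit 1, nat_lit 0])) (.node (nat_lit 908) (.leaf ((nat_lit 30), [nat_lit 3, nat_lit 2, nat_lit 3, nat_lit 1, nat_lit 0, nat_lit 2, nat_lit 0])) (.leaf ((nat_lit 36), [nat_lit 3, nat_lit 1, nat_lit 2, nat_lit 3, nat_lit 2, nat_lit 0, nat_lit 2, nat_lit 0, nat_lit 1, nat_lit 0, nat_lit 1, nat_lit 0]))))))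
 (.node (nat_lit 913) (.node (nat_lit 911) (.node (nat_lit 910) (.leaf ((nat_lit 383), [nat_lit 0, nat_lit 1, nat_lit 2, nat_lit 3, nat_lit 0, nat_lit 2, nat_lit 0])) (.leaf ((nat_lit 384), [nat_lit 2, nat_lit 3, nat_lit 0, nat_lit 1]))) (.node (nat_lit 912) (.leaf ((nat_lit 385), [nat_lit 1, nat_lit 3, nat_lit 2, nat_lit 0, nat_lit 2, nat_lit 1])) (.leaf ((nat_lit 386), [nat_lit 3, nat_lit 1, nat_lit 2, nat_lit 3, nat_lit 0, nat_lit 2, nat_lit 0, nat_lit 1, nat_lit 0, nat_lit 1]))))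
 (.node (nat_lit 915) (.node (nat_lit 914) (.leaf ((nat_lit 105), [nat_lit 1, nat_lit 2, nat_lit 3, nat_lit 2, nat_lit 0, nat_lit 1, nat_lit 0, nat_lit 1, nat_lit 0])) (.leaf ((nat_lit 334), [nat_lit 3, nat_lit 1, nat_lit 3, nat_lit 1, nat_lit 2, nat_lit 0, nat_lit 1, nat_lit 0]))) (.node (nat_lit 916) (.leaf ((nat_lit 387), [nat_lit 2, nat_lit 1, nat_lit 3, nat_lit 0, nat_lit 2, nat_lit 1])) (.node (nat_lit 917) (.leaf ((nat_lit 30), [nat_lit 0, nat_lit 2, nat_lit 0, nat_lit 1, nat_lit 0, nat_lit 1, nat_lit 0])) (.leaf ((nat_lit 132), [nat_lit 3, nat_lit 0, nat_lit 2, nat_lit 1, nat_lit 0, nat_lit 1]))))))))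
 (.node (nat_lit 936) (.node (nat_lit 927) (.node (nat_lit 922) (.node (nat_lit 920) (.node (nat_lit 919) (.leaf ((nat_lit 31), [nat_lit 0, nat_lit 1, nat_lit 2, nat_lit 3, nat_lit 0, nat_lit 2, nat_lit 1])) (.leaf ((nat_lit 381), [nat_lit 2, nat_lit 1, nat_lit 3, nat_lit 0, nat_lit 2]))) (.node (nat_lit 921) (.leaf ((nat_lit 379), [nat_lit 3, nat_lit 1, nat_lit 2, nat_lit 3, nat_lit 2, nat_lit 0])) (.leaf ((nat_lit 366), [nat_lit 1, nat_lit 3, nat_lit 1, nat_lit 0, nat_lit 2, nat_lit 0, nat_lit 1]))))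
 (.node (nat_lit 924) (.node (nat_lit 923) (.leaf ((nat_lit 220), [nat_lit 1, nat_lit 3, nat_lit 2, nat_lit 1])) (.leaf ((nat_lit 271), [nat_lit 2, nat_lit 1, nat_lit 3, nat_lit 1, nat_lit 2, nat_lit 1, nat_lit 0, nat_lit 1, nat_lit 0]))) (.node (nat_lit 925) (.leaf ((nat_lit 31), [nat_lit 2, nat_lit 3, nat_lit 0, nat_lit 2, nat_lit 1, nat_lit 0])) (.node (nat_lit 926) (.leaf ((nat_lit 131), [nat_lit 0, nat_lit 1, nat_lit 2, nat_lit 3, nat_lit 2, nat_lit 0, nat_lit 2, nat_lit 1, nat_lit 0])) (.leaf ((nat_lit 128), [nat_lit 1, nat_lit 2, nat_lit 3, nat_lit 1, nat_lit 2, nat_lit 0, nat_lit 1, nat_lit 0]))))))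
 (.node (nat_lit 931) (.node (nat_lit 929) (.node (nat_lit 928) (.leaf ((nat_lit 127), [nat_lit 0, nat_lit 1, nat_lit 3, nat_lit 0, nat_lit 2, nat_lit 0])) (.leaf ((nat_lit 388), [nat_lit 3, nat_lit 1, nat_lit 3, nat_lit 1, nat_lit 0, nat_lit 2, nat_lit 0, nat_lit 1, nat_lit 0, nat_lit 1, nat_lit 0]))) (.node (nat_lit 930) (.leaf ((nat_lit 132), [nat_lit 1])) (.leaf ((nat_lit 237), [nat_lit 0, nat_lit 1, nat_lit 2, nat_lit 3, nat_lit 2, nat_lit 0, nat_lit 2, nat_lit 1, nat_lit 0, nat_lit 1, nat_lit 0]))))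
 (.node (nat_lit 933) (.node (nat_lit 932) (.leaf ((nat_lit 224), [nat_lit 3, nat_lit 1, nat_lit 3, nat_lit 1, nat_lit 0, nat_lit 2, nat_lit 0, nat_lit 1, nat_lit 0, nat_lit 1, nat_lit 0])) (.leaf ((nat_lit 64), [nat_lit 1, nat_lit 2, nat_lit 3, nat_lit 1, nat_lit 0, nat_lit 2, nat_lit 0, nat_lit 1, nat_lit 0, nat_lit 1, nat_lit 0]))) (.node (nat_lit 934) (.leaf ((nat_lit 133), [nat_lit 2, nat_lit 3, nat_lit 1, nat_lit 2, nat_lit 1, nat_lit 0, nat_lit 1, nat_lit 0])) (.node (nat_lit 935) (.leaf ((nat_lit 31), [nat_lit 2, nat_lit 0, nat_lit 2, nat_lit 1, nat_lit 0])) (.leaf ((nat_lit 64), [nat_lit 2, nat_lit 3])))))))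
 (.node (nat_lit 945) (.node (nat_lit 940) (.node (nat_lit 938) (.node (nat_lit 937) (.leaf ((nat_lit 44), [nat_lit 1, nat_lit 3, nat_lit 2, nat_lit 0, nat_lit 2, nat_lit 0, nat_lit 1, nat_lit 0, nat_lit 1])) (.leaf ((nat_lit 359), [nat_lit 3, nat_lit 0, nat_lit 2]))) (.node (nat_lit 939) (.leaf ((nat_lit 58), [nat_lit 3, nat_lit 2, nat_lit 3, nat_lit 0])) (.leaf ((nat_lit 215), [nat_lit 2, nat_lit 1, nat_lit 3, nat_lit 1, nat_lit 0, nat_lit 1, nat_lit 0]))))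
 (.node (nat_lit 942) (.node (nat_lit 941) (.leaf ((nat_lit 216), [nat_lit 2, nat_lit 3, nat_lit 1, nat_lit 2, nat_lit 1, nat_lit 0])) (.leaf ((nat_lit 195), [nat_lit 1, nat_lit 0, nat_lit 2, nat_lit 0, nat_lit 1, nat_lit 0, nat_lit 1]))) (.node (nat_lit 943) (.leaf ((nat_lit 31), [nat_lit 0, nat_lit 1, nat_lit 3, nat_lit 1, nat_lit 2, nat_lit 1, nat_lit 0, nat_lit 1, nat_lit 0])) (.node (nat_lit 944) (.leaf ((nat_lit 379), [nat_lit 3, nat_lit 2, nat_lit 3, nat_lit 2, nat_lit 0, nat_lit 1, nat_lit 0, nat_lit 1])) (.leaf ((nat_lit 41), [nat_lit 0, nat_lit 1, nat_lit 2, nat_lit 3, nat_lit 1, nat_lit 2, nat_lit 1, nat_lit 0]))))))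
 (.node (nat_lit 950) (.node (nat_lit 947) (.node (nat_lit 946) (.leaf ((nat_lit 389), [nat_lit 1, nat_lit 2, nat_lit 3, nat_lit 2, nat_lit 1])) (.leaf ((nat_lit 390), [nat_lit 2, nat_lit 3, nat_lit 2, nat_lit 0, nat_lit 2]))) (.node (nat_lit 948) (.leaf ((nat_lit 315), [nat_lit 3, nat_lit 1, nat_lit 2, nat_lit 3, nat_lit 2, nat_lit 0, nat_lit 1, nat_lit 0])) (.node (nat_lit 949) (.leaf ((nat_lit 150), [nat_lit 3])) (.leaf ((nat_lit 373), [nat_lit 1, nat_lit 3, nat_lit 0, nat_lit 2, nat_lit 0, nat_lit 1, nat_lit 0])))))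
 (.node (nat_lit 952) (.node (nat_lit 951) (.leaf ((nat_lit 31), [nat_lit 0, nat_lit 2, nat_lit 0])) (.leaf ((nat_lit 387), [nat_lit 2, nat_lit 1, nat_lit 3, nat_lit 2, nat_lit 0, nat_lit 2, nat_lit 1, nat_lit 0, nat_lit 1]))) (.node (nat_lit 953) (.leaf ((nat_lit 316), [nat_lit 2, nat_lit 1, nat_lit 3, nat_lit 2, nat_lit 0, nat_lit 2, nat_lit 0, nat_lit 1, nat_lit 0, nat_lit 1, nat_lit 0])) (.node (nat_lit 954) (.leaf ((nat_lit 391), [nat_lit 2, nat_lit 1, nat_lit 3, nat_lit 1, nat_lit 0, nat_lit 2, nat_lit 0, nat_lit 1])) (.leaf ((nat_lit 32), [nat_lit 0, nat_lit 1, nat_lit 0, nat_lit 1])))))))))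
 (.node (nat_lit 992) (.node (nat_lit 973) (.node (nat_lit 964) (.node (nat_lit 959) (.node (nat_lit 957) (.node (nat_lit 956) (.leaf ((nat_lit 151), [nat_lit 0, nat_lit 1, nat_lit 2, nat_lit 3, nat_lit 1, nat_lit 2, nat_lit 1, nat_lit 0])) (.leaf ((nat_lit 392), [nat_lit 3, nat_lit 2, nat_lit 1]))) (.node (nat_lit 958) (.leaf ((nat_lit 110), [nat_lit 3, nat_lit 1, nat_lit 3, nat_lit 0, nat_lit 2, nat_lit 1, nat_lit 0, nat_lit 1])) (.leaf ((nat_lit 393), [nat_lit 2, nat_lit 1, nat_lit 3, nat_lit 0, nat_lit 2, nat_lit 1]))))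
 (.node (nat_lit 961) (.node (nat_lit 960) (.leaf ((nat_lit 144), [nat_lit 1, nat_lit 3, nat_lit 2, nat_lit 0, nat_lit 2, nat_lit 0, nat_lit 1, nat_lit 0])) (.leaf ((nat_lit 34), [nat_lit 2, nat_lit 0, nat_lit 1, nat_lit 0]))) (.node (nat_lit 962) (.leaf ((nat_lit 151), [nat_lit 3, nat_lit 1, nat_lit 3, nat_lit 1, nat_lit 0, nat_lit 2, nat_lit 0, nat_lit 1])) (.node (nat_lit 963) (.leaf ((nat_lit 32), [nat_lit 3, nat_lit 1, nat_lit 2, nat_lit 3, nat_lit 1, nat_lit 0, nat_lit 2, nat_lit 0, nat_lit 1, nat_lit 0, nat_lit 1, nat_lit 0])) (.leaf ((nat_lit 102), [nat_lit 3, nat_lit 2, nat_lit 0, nat_lit 2, nat_lit 0, nat_lit 1, nat_lit 0]))))))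
 (.node (nat_lit 968) (.node (nat_lit 966) (.node (nat_lit 965) (.leaf ((nat_lit 303), [nat_lit 2, nat_lit 3, nat_lit 0, nat_lit 2])) (.leaf ((nat_lit 299), [nat_lit 3, nat_lit 2]))) (.node (nat_lit 967) (.leaf ((nat_lit 246), [nat_lit 1, nat_lit 2, nat_lit 3])) (.leaf ((nat_lit 304), [nat_lit 3, nat_lit 2, nat_lit 3, nat_lit 2, nat_lit 0, nat_lit 2, nat_lit 1, nat_lit 0, nat_lit 1, nat_lit 0]))))
 (.node (nat_lit 970) (.node (nat_lit 969) (.leaf ((nat_lit 240), [nat_lit 2, nat_lit 3, nat_lit 1, nat_lit 0, nat_lit 2, nat_lit 1, nat_lit 0, nat_lit 1, nat_lit 0])) (.leaf ((nat_lit 394), [nat_lit 3, nat_lit 1, nat_lit 0, nat_lit 2, nat_lit 0, nat_lit 1, nat_lit 0]))) (.node (nat_lit 971) (.leaf ((nat_lit 32), [nat_lit 0, nat_lit 1, nat_lit 2, nat_lit 3, nat_lit 0, nat_lit 2, nat_lit 1, nat_lit 0])) (.node (nat_lit 972) (.leaf ((nat_lit 395), [nat_lit 3, nat_lit 2, nat_lit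 3, nat_lit 0, nat_lit 2, nat_lit 0, nat_lit 1, nat_lit 0])) (.leaf ((nat_lit 396), [nat_lit 1, nat_lit 3, nat_lit 1, nat_lit 0, nat_lit 2, nat_lit 1, nat_lit 0])))))))
 (.node (nat_lit 982) (.node (nat_lit 977) (.node (nat_lit 975) (.node (nat_lit 974) (.leaf ((nat_lit 397), [nat_lit 0, nat_lit 2, nat_lit 1, nat_lit 0])) (.leaf ((nat_lit 151), [nat_lit 2]))) (.node (nat_lit 976) (.leaf ((nat_lit 33), [nat_lit 2, nat_lit 3, nat_lit 0])) (.leaf ((nat_lit 398), [nat_lit 1, nat_lit 3, nat_lit 1, nat_lit 0, nat_lit 2, nat_lit 0]))))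
 (.node (nat_lit 979) (.node (nat_lit 978) (.leaf ((nat_lit 399), [nat_lit 0, nat_lit 1, nat_lit 3, nat_lit 0, nat_lit 1, nat_lit 0, nat_lit 1, nat_lit 0])) (.leaf ((nat_lit 300), [nat_lit 1, nat_lit 3, nat_lit 1, nat_lit 0, nat_lit 2, nat_lit 0, nat_lit 1, nat_lit 0]))) (.node (nat_lit 980) (.leaf ((nat_lit 303), [nat_lit 3, nat_lit 1, nat_lit 2, nat_lit 0, nat_lit 1, nat_lit 0, nat_lit 1])) (.node (nat_lit 981) (.leaf ((nat_lit 145), [nat_lit 0, nat_lit 1, nat_lit 2, nat_lit 3, nat_lit 1, nat_lit 0, nat_lit 2, nat_lit 0, nat_lit 1, nat_lit 0])) (.leaf ((nat_lit 315), [nat_lit 3, nat_lit 2, nat_lit 3, nat_lit 0, nat_lit 2, nat_lit 1, nat_lit 0, nat_lit 1]))))))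
 (.node (nat_lit 987) (.node (nat_lit 984) (.node (nat_lit 983) (.leaf ((nat_lit 398), [nat_lit 1, nat_lit 2, nat_lit 3, nat_lit 1, nat_lit 0, nat_lit 1])) (.leaf ((nat_lit 33), [nat_lit 1, nat_lit 3, nat_lit 2, nat_lit 0, nat_lit 1, nat_lit 0, nat_lit 1]))) (.node (nat_lit 985) (.leaf ((nat_lit 73), [nat_lit 2, nat_lit 1, nat_lit 3, nat_lit 1, nat_lit 2, nat_lit 0])) (.node (nat_lit 986) (.leaf ((nat_lit 108), [nat_lit 3, nat_lit 2, nat_lit 3, nat_lit 0, nat_lit 1, nat_lit 0])) (.leaf ((nat_lit 140), [nat_lit 3, nat_lit 1, nat_lit 3, nat_lit 0])))))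
 (.node (nat_lit 989) (.node (nat_lit 988) (.leaf ((nat_lit 86), [nat_lit 3, nat_lit 2, nat_lit 0, nat_lit 1, nat_lit 0, nat_lit 1])) (.leaf ((nat_lit 301), [nat_lit 3, nat_lit 1, nat_lit 2, nat_lit 3, nat_lit 2, nat_lit 0]))) (.node (nat_lit 990) (.leaf ((nat_lit 400), [nat_lit 3, nat_lit 1, nat_lit 3, nat_lit 0, nat_lit 1, nat_lit 0, nat_lit 1, nat_lit 0])) (.node (nat_lit 991) (.leaf ((nat_lit 37), [nat_lit 3, nat_lit 2, nat_lit 3, nat_lit 2, nat_lit 0, nat_lit 2, nat_lit 0, nat_lit 1, nat_lit 0, nat_lit 1, nat_lit 0])) (.leaf ((nat_lit 33), [nat_lit 3, nat_lit 1, nat_lit 2, nat_lit 3, nat_lit 2, nat_lit 0, nat_lit 2]))))))))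
 (.node (nat_lit 1010) (.node (nat_lit 1001) (.node (nat_lit 996) (.node (nat_lit 994) (.node (nat_lit 993) (.leaf ((nat_lit 57), [nat_lit 3, nat_lit 2, nat_lit 3, nat_lit 1, nat_lit 2])) (.leaf ((nat_lit 401), [nat_lit 0, nat_lit 1, nat_lit 3, nat_lit 1, nat_lit 0, nat_lit 2]))) (.node (nat_lit 995) (.leaf ((nat_lit 50), [nat_lit 2, nat_lit 0, nat_lit 2, nat_lit 1, nat_lit 0, nat_lit 1])) (.leaf ((nat_lit 197), [nat_lit 3, nat_lit 1, nat_lit 3, nat_lit 2, nat_lit 1]))))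
 (.node (nat_lit 998) (.node (nat_lit 997) (.leaf ((nat_lit 198), [nat_lit 2, nat_lit 1, nat_lit 3, nat_lit 2, nat_lit 1, nat_lit 0, nat_lit 1, nat_lit 0])) (.leaf ((nat_lit 56), [nat_lit 3, nat_lit 2, nat_lit 3, nat_lit 0, nat_lit 2, nat_lit 0, nat_lit 1, nat_lit 0, nat_lit 1]))) (.node (nat_lit 999) (.leaf ((nat_lit 296), [nat_lit 3, nat_lit 1, nat_lit 2, nat_lit 3, nat_lit 2, nat_lit 1, nat_lit 0, nat_lit 1, nat_lit 0])) (.node (nat_lit 1000) (.leaf ((nat_lit 33), [nat_lit 3, nat_lit 1, nat_lit 2, nat_lit 3, nat_lit 0, nat_lit 2, nat_lit 0, nat_lit 1, nat_lit 0])) (.leaf ((nat_lit 402), [nat_lit 0, nat_lit 1, nat_lit 2, nat_lit 3, nat_lit 0, nat_lit 2, nat_lit 0]))))))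
 (.node (nat_lit 1005) (.node (nat_lit 1003) (.node (nat_lit 1002) (.leaf ((nat_lit 403), [nat_lit 3])) (.leaf ((nat_lit 404), [nat_lit 2, nat_lit 0, nat_lit 2, nat_lit 0, nat_lit 1, nat_lit 0]))) (.node (nat_lit 1004) (.leaf ((nat_lit 405), [nat_lit 3, nat_lit 2, nat_lit 1])) (.leaf ((nat_lit 406), [nat_lit 3, nat_lit 0, nat_lit 2, nat_lit 0, nat_lit 1, nat_lit 0, nat_lit 1]))))
 (.node (nat_lit 1007) (.node (nat_lit 1006) (.leaf ((nat_lit 403), [nat_lit 3, nat_lit 1, nat_lit 3, nat_lit 0, nat_lit 2, nat_lit 0])) (.leaf ((nat_lit 407), [nat_lit 0, nat_lit 1, nat_lit 2, nat_lit 3, nat_lit 1, nat_lit 2]))) (.node (nat_lit 1008) (.leaf ((nat_lit 33), [nat_lit 2, nat_lit 1, nat_lit 3, nat_lit 2, nat_lit 1])) (.node (nat_lit 1009) (.leaf ((nat_lit 34), [nat_lit 2, nat_lit 1, nat_lit 3, nat_lit 0, nat_lit 1])) (.leaf ((nat_lit 137), [nat_lit 3, nat_lit 1, nat_lit 2, nat_lit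 3, nat_lit 0, nat_lit 2, nat_lit 0, nat_lit 1])))))))
 (.node (nat_lit 1019) (.node (nat_lit 1014) (.node (nat_lit 1012) (.node (nat_lit 1011) (.leaf ((nat_lit 316), [nat_lit 3, nat_lit 2, nat_lit 3, nat_lit 2, nat_lit 1, nat_lit 0, nat_lit 1, nat_lit 0])) (.leaf ((nat_lit 149), [nat_lit 3, nat_lit 1, nat_lit 3, nat_lit 0, nat_lit 2, nat_lit 0, nat_lit 1, nat_lit 0]))) (.node (nat_lit 1013) (.leaf ((nat_lit 93), [nat_lit 3, nat_lit 0, nat_lit 2, nat_lit 1, nat_lit 0])) (.leaf ((nat_lit 408), [nat_lit 1, nat_lit 2, nat_lit 3, nat_lit 1, nat_lit 2, nat_lit 1, nat_lit 0, nat_lit 1, nat_lit 0]))))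
 (.node (nat_lit 1016) (.node (nat_lit 1015) (.leaf ((nat_lit 409), [nat_lit 0, nat_lit 1, nat_lit 2, nat_lit 3, nat_lit 1, nat_lit 0, nat_lit 2, nat_lit 0, nat_lit 1])) (.leaf ((nat_lit 315), [nat_lit 1, nat_lit 2, nat_lit 3, nat_lit 0, nat_lit 2, nat_lit 0, nat_lit 1, nat_lit 0]))) (.node (nat_lit 1017) (.leaf ((nat_lit 140), [nat_lit 3, nat_lit 1, nat_lit 2, nat_lit 0, nat_lit 1, nat_lit 0, nat_lit 1])) (.node (nat_lit 1018) (.leaf ((nat_lit 35), [nat_lit 2, nat_lit 0, nat_lit 1, nat_lit 0, nat_lit 1, nat_lit 0])) (.leaf ((nat_lit 34), [nat_lit 1, nat_lit 2, nat_lit 3, nat_lit 1, nat_lit 2]))))))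
 (.node (nat_lit 1024) (.node (nat_lit 1021) (.node (nat_lit 1020) (.leaf ((nat_lit 410), [nat_lit 0, nat_lit 1, nat_lit 3, nat_lit 1, nat_lit 2, nat_lit 0])) (.leaf ((nat_lit 411), [nat_lit 3, nat_lit 2, nat_lit 3, nat_lit 2, nat_lit 0, nat_lit 2, nat_lit 0, nat_lit 1, nat_lit 0, nat_lit 1]))) (.node (nat_lit 1022) (.leaf ((nat_lit 412), [nat_lit 2, nat_lit 3, nat_lit 2, nat_lit 1])) (.node (nat_lit 1023) (.leaf ((nat_lit 367), [nat_lit 3, nat_lit 1, nat_lit 2, nat_lit 3, nat_lit 1, nat_lit 2, nat_lit 0, nat_lit 1, nat_lit 0, nat_lit 1])) (.leaf ((nat_lit 413), [nat_lit 2, nat_lit 1])))))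
 (.node (nat_lit 1026) (.node (nat_lit 1025) (.leaf ((nat_lit 304), [nat_lit 3, nat_lit 1, nat_lit 3, nat_lit 1, nat_lit 0, nat_lit 2, nat_lit 0, nat_lit 1, nat_lit 0])) (.leaf ((nat_lit 414), [nat_lit 1, nat_lit 3, nat_lit 2, nat_lit 0, nat_lit 2, nat_lit 0, nat_lit 1, nat_lit 0, nat_lit 1, nat_lit 0]))) (.node (nat_lit 1027) (.leaf ((nat_lit 34), [nat_lit 3, nat_lit 0, nat_lit 2, nat_lit 1, nat_lit 0, nat_lit 1, nat_lit 0])) (.node (nat_lit 1028) (.leaf ((nat_lit 415), [nat_lit 2, nat_lit 1, nat_lit 3, nat_lit 2, nat_lit 0, nat_lit 2, nat_lit 0, nat_lit 1, nat_lit 0])) (.leaf ((nat_lit 416), [nat_lit 0, nat_lit 1, nat_lit 3, nat_lit 1]))))))))))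
noncomputable def bWd_7 : Tr (ℕ × List ℕ) := (.node (nat_lit 1102) (.node (nat_lit 1065) (.node (nat_lit 1047) (.node (nat_lit 1038) (.node (nat_lit 1033) (.node (nat_lit 1031) (.node (nat_lit 1030) (.leaf ((nat_lit 417), [nat_lit 1, nat_lit 2, nat_lit 3, nat_lit 2, nat_lit 0, nat_lit 2, nat_lit 1, nat_lit 0])) (.leaf ((nat_lit 418), [nat_lit 1, nat_lit 3, nat_lit 2, nat_lit 1, nat_lit 0, nat_lit 1, nat_lit 0]))) (.node (nat_lit 1032) (.leaf ((nat_lit 419), [nat_lit 2, nat_lit 3, nat_lit 0, nat_lit 2])) (.leaf ((nat_lit 420), [nat_lit 3, nat_lit 2, nat_lit 3, nat_lit 2, nat_lit 1]))))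
 (.node (nat_lit 1035) (.node (nat_lit 1034) (.leaf ((nat_lit 421), [nat_lit 3, nat_lit 1, nat_lit 2, nat_lit 3, nat_lit 1, nat_lit 2, nat_lit 0, nat_lit 1, nat_lit 0, nat_lit 1])) (.leaf ((nat_lit 323), [nat_lit 1, nat_lit 3, nat_lit 1, nat_lit 0, nat_lit 1, nat_lit 0]))) (.node (nat_lit 1036) (.leaf ((nat_lit 34), [nat_lit 0, nat_lit 1, nat_lit 2, nat_lit 3, nat_lit 1, nat_lit 2, nat_lit 0, nat_lit 1, nat_lit 0, nat_lit 1])) (.node (nat_lit 1037) (.leaf ((nat_lit 149), [nat_lit 2, nat_lit 1, nat_lit 3, nat_lit 0, nat_lit 2, nat_lit 1])) (.leaf ((nat_lit 35), [nat_lit 0, nat_lit 1, nat_lit 3, nat_lit 0, nat_lit 2, nat_lit 0, nat_lit 1, nat_lit 0, nat_lit 1, nat_lit 0]))))))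
 (.node (nat_lit 1042) (.node (nat_lit 1040) (.node (nat_lit 1039) (.leaf ((nat_lit 150), [nat_lit 1, nat_lit 2, nat_lit 3, nat_lit 1, nat_lit 2, nat_lit 0])) (.leaf ((nat_lit 315), [nat_lit 2, nat_lit 0, nat_lit 2]))) (.node (nat_lit 1041) (.leaf ((nat_lit 422), [nat_lit 3, nat_lit 1, nat_lit 3, nat_lit 1, nat_lit 2, nat_lit 0])) (.leaf ((nat_lit 82), [nat_lit 3, nat_lit 1, nat_lit 2, nat_lit 3, nat_lit 0, nat_lit 2, nat_lit 0, nat_lit 1, nat_lit 0]))))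
 (.node (nat_lit 1044) (.node (nat_lit 1043) (.leaf ((nat_lit 423), [nat_lit 1, nat_lit 3, nat_lit 0, nat_lit 2, nat_lit 1, nat_lit 0])) (.leaf ((nat_lit 35), [nat_lit 3, nat_lit 1, nat_lit 2, nat_lit 3, nat_lit 1, nat_lit 0, nat_lit 2, nat_lit 1]))) (.node (nat_lit 1045) (.leaf ((nat_lit 148), [nat_lit 1, nat_lit 2, nat_lit 3, nat_lit 2, nat_lit 0])) (.node (nat_lit 1046) (.leaf ((nat_lit 389), [nat_lit 3, nat_lit 1, nat_lit 0, nat_lit 2])) (.leaf ((nat_lit 144), [nat_lit 1, nat_lit 2, nat_lit 3, nat_lit 1, nat_lit 2, nat_lit 1, nat_lit 0])))))))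
 (.node (nat_lit 1056) (.node (nat_lit 1051) (.node (nat_lit 1049) (.node (nat_lit 1048) (.leaf ((nat_lit 292), [nat_lit 3, nat_lit 1, nat_lit 2, nat_lit 3, nat_lit 1])) (.leaf ((nat_lit 424), [nat_lit 2, nat_lit 1, nat_lit 3, nat_lit 1, nat_lit 0, nat_lit 2, nat_lit 1]))) (.node (nat_lit 1050) (.leaf ((nat_lit 425), [nat_lit 2, nat_lit 1, nat_lit 3, nat_lit 2, nat_lit 0, nat_lit 2, nat_lit 1, nat_lit 0, nat_lit 1, nat_lit 0])) (.leaf ((nat_lit 398), [nat_lit 1, nat_lit 3, nat_lit 0, nat_lit 2, nat_lit 0, nat_lit 1, nat_lit 0, nat_lit 1]))))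
 (.node (nat_lit 1053) (.node (nat_lit 1052) (.leaf ((nat_lit 426), [nat_lit 0, nat_lit 1, nat_lit 2, nat_lit 3, nat_lit 0, nat_lit 2, nat_lit 0])) (.leaf ((nat_lit 148), [nat_lit 2, nat_lit 3, nat_lit 0, nat_lit 2, nat_lit 1]))) (.node (nat_lit 1054) (.leaf ((nat_lit 135), [nat_lit 3])) (.node (nat_lit 1055) (.leaf ((nat_lit 35), [nat_lit 3, nat_lit 0, nat_lit 1, nat_lit 0, nat_lit 1])) (.leaf ((nat_lit 185), [nat_lit 0, nat_lit 1, nat_lit 3, nat_lit 1, nat_lit 2, nat_lit 0, nat_lit 1, nat_lit 0]))))))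
 (.node (nat_lit 1060) (.node (nat_lit 1058) (.node (nat_lit 1057) (.leaf ((nat_lit 427), [nat_lit 2, nat_lit 0, nat_lit 2, nat_lit 1, nat_lit 0])) (.leaf ((nat_lit 139), [nat_lit 2]))) (.node (nat_lit 1059) (.leaf ((nat_lit 397), [nat_lit 2, nat_lit 0, nat_lit 2, nat_lit 0, nat_lit 1, nat_lit 0, nat_lit 1, nat_lit 0])) (.leaf ((nat_lit 137), [nat_lit 1, nat_lit 3, nat_lit 1, nat_lit 2, nat_lit 1, nat_lit 0]))))
 (.node (nat_lit 1062) (.node (nat_lit 1061) (.leaf ((nat_lit 136), [nat_lit 3, nat_lit 1, nat_lit 3, nat_lit 0, nat_lit 2, nat_lit 0, nat_lit 1])) (.leaf ((nat_lit 230), [nat_lit 1, nat_lit 2, nat_lit 3, nat_lit 0, nat_lit 2]))) (.node (nat_lit 1063) (.leaf ((nat_lit 35), [nat_lit 3, nat_lit 1, nat_lit 2, nat_lit 3, nat_lit 1, nat_lit 2, nat_lit 0, nat_lit 1, nat_lit 0, nat_lit 1])) (.node (nat_lit 1064) (.leaf ((nat_lit 389), [nat_lit 3, nat_lit 2, nat_lit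 0, nat_lit 2, nat_lit 1])) (.leaf ((nat_lit 428), [nat_lit 2, nat_lit 3, nat_lit 2, nat_lit 0, nat_lit 2, nat_lit 0]))))))))
 (.node (nat_lit 1083) (.node (nat_lit 1074) (.node (nat_lit 1069) (.node (nat_lit 1067) (.node (nat_lit 1066) (.leaf ((nat_lit 429), [nat_lit 2, nat_lit 1, nat_lit 3, nat_lit 2, nat_lit 0, nat_lit 2, nat_lit 0, nat_lit 1, nat_lit 0, nat_lit 1])) (.leaf ((nat_lit 430), [nat_lit 3, nat_lit 2, nat_lit 0, nat_lit 2, nat_lit 0, nat_lit 1, nat_lit 0, nat_lit 1, nat_lit 0]))) (.node (nat_lit 1068) (.leaf ((nat_lit 431), [nat_lit 1, nat_lit 0, nat_lit 2, nat_lit 0, nat_lit 1])) (.leaf ((nat_lit 432), [nat_lit 1, nat_lit 2, nat_lit 3, nat_lit 1, nat_lit 2, nat_lit 0, nat_lit 1, nat_lit 0, nat_lit 1]))))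
 (.node (nat_lit 1071) (.node (nat_lit 1070) (.leaf ((nat_lit 235), [nat_lit 0, nat_lit 1, nat_lit 2, nat_lit 3, nat_lit 2, nat_lit 0, nat_lit 2, nat_lit 1])) (.leaf ((nat_lit 35), [nat_lit 1, nat_lit 3, nat_lit 2, nat_lit 1, nat_lit 0, nat_lit 1, nat_lit 0]))) (.node (nat_lit 1072) (.leaf ((nat_lit 154), [nat_lit 3, nat_lit 1, nat_lit 3, nat_lit 0])) (.node (nat_lit 1073) (.leaf ((nat_lit 36), [nat_lit 1, nat_lit 3, nat_lit 2, nat_lit 0, nat_lit 1, nat_lit 0, nat_lit 1, nat_lit 0])) (.leaf ((nat_lit 433), [nat_lit 3, nat_lit 1, nat_lit 2, nat_lit 3, nat_lit 2, nat_lit 0, nat_lit 2, nat_lit 0]))))))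
 (.node (nat_lit 1078) (.node (nat_lit 1076) (.node (nat_lit 1075) (.leaf ((nat_lit 376), [nat_lit 1, nat_lit 3, nat_lit 2, nat_lit 1, nat_lit 0, nat_lit 1])) (.leaf ((nat_lit 301), [nat_lit 1, nat_lit 3, nat_lit 1, nat_lit 2, nat_lit 0]))) (.node (nat_lit 1077) (.leaf ((nat_lit 434), [nat_lit 2, nat_lit 1, nat_lit 3, nat_lit 1, nat_lit 0, nat_lit 2, nat_lit 1])) (.leaf ((nat_lit 72), [nat_lit 1, nat_lit 3, nat_lit 2, nat_lit 0, nat_lit 1]))))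
 (.node (nat_lit 1080) (.node (nat_lit 1079) (.leaf ((nat_lit 36), [nat_lit 1, nat_lit 2, nat_lit 3, nat_lit 2, nat_lit 0, nat_lit 2])) (.leaf ((nat_lit 153), [nat_lit 3, nat_lit 1, nat_lit 3, nat_lit 0]))) (.node (nat_lit 1081) (.leaf ((nat_lit 65), [nat_lit 3, nat_lit 2, nat_lit 0, nat_lit 2])) (.node (nat_lit 1082) (.leaf ((nat_lit 435), [nat_lit 1, nat_lit 2, nat_lit 3, nat_lit 0])) (.leaf ((nat_lit 246), [nat_lit 2, nat_lit 1, nat_lit 3, nat_lit 2, nat_lit 1, nat_lit 0])))))))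
 (.node (nat_lit 1092) (.node (nat_lit 1087) (.node (nat_lit 1085) (.node (nat_lit 1084) (.leaf ((nat_lit 204), [nat_lit 3, nat_lit 1, nat_lit 2, nat_lit 3, nat_lit 2, nat_lit 0, nat_lit 2, nat_lit 0, nat_lit 1, nat_lit 0, nat_lit 1, nat_lit 0])) (.leaf ((nat_lit 436), [nat_lit 2, nat_lit 1, nat_lit 3, nat_lit 2, nat_lit 0, nat_lit 1, nat_lit 0, nat_lit 1, nat_lit 0]))) (.node (nat_lit 1086) (.leaf ((nat_lit 256), [nat_lit 1, nat_lit 0, nat_lit 2, nat_lit 0, nat_lit 1, nat_lit 0])) (.leaf ((nat_lit 437), [nat_lit 1, nat_lit 3, nat_lit 0, nat_lit 2, nat_lit 0, nat_lit 1, nat_lit 0]))))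
 (.node (nat_lit 1089) (.node (nat_lit 1088) (.leaf ((nat_lit 36), [nat_lit 3, nat_lit 1, nat_lit 2, nat_lit 0, nat_lit 1, nat_lit 0, nat_lit 1])) (.leaf ((nat_lit 438), [nat_lit 3, nat_lit 1, nat_lit 2, nat_lit 3, nat_lit 1, nat_lit 2, nat_lit 0, nat_lit 1]))) (.node (nat_lit 1090) (.leaf ((nat_lit 302), [nat_lit 3, nat_lit 2, nat_lit 3, nat_lit 1, nat_lit 2, nat_lit 0, nat_lit 1])) (.node (nat_lit 1091) (.leaf ((nat_lit 233), [nat_lit 2, nat_lit 3, nat_lit 2, nat_lit 0, nat_lit 1, nat_lit 0])) (.leaf ((nat_lit 239), [nat_lit 2, nat_lit 3, nat_lit 1, nat_lit 2, nat_lit 0]))))))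
 (.node (nat_lit 1097) (.node (nat_lit 1094) (.node (nat_lit 1093) (.leaf ((nat_lit 439), [nat_lit 2, nat_lit 1, nat_lit 3, nat_lit 1, nat_lit 0])) (.leaf ((nat_lit 291), [nat_lit 2, nat_lit 3, nat_lit 1]))) (.node (nat_lit 1095) (.leaf ((nat_lit 438), [nat_lit 1, nat_lit 2, nat_lit 3, nat_lit 0, nat_lit 1, nat_lit 0])) (.node (nat_lit 1096) (.leaf ((nat_lit 36), [nat_lit 2, nat_lit 3, nat_lit 1, nat_lit 0, nat_lit 2, nat_lit 0, nat_lit 1, nat_lit 0, nat_lit 1, nat_lit 0])) (.leaf ((nat_lit 104), [nat_lit 3, nat_lit 1, nat_lit 2, nat_lit 3, nat_lit 1, nat_lit 0, nat_lit 1])))))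
 (.node (nat_lit 1099) (.node (nat_lit 1098) (.leaf ((nat_lit 226), [nat_lit 2, nat_lit 1, nat_lit 3, nat_lit 1, nat_lit 0, nat_lit 2, nat_lit 0])) (.leaf ((nat_lit 228), [nat_lit 3, nat_lit 1, nat_lit 2, nat_lit 3, nat_lit 0]))) (.node (nat_lit 1100) (.leaf ((nat_lit 440), [nat_lit 3, nat_lit 1, nat_lit 3, nat_lit 2])) (.node (nat_lit 1101) (.leaf ((nat_lit 405), [nat_lit 1, nat_lit 3, nat_lit 2, nat_lit 0, nat_lit 2, nat_lit 0, nat_lit 1])) (.leaf ((nat_lit 403), [nat_lit 3, nat_lit 2, nat_lit 0, nat_lit 1, nat_lit 0, nat_lit 1, nat_lit 0])))))))))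
 (.node (nat_lit 1139) (.node (nat_lit 1120) (.node (nat_lit 1111) (.node (nat_lit 1106) (.node (nat_lit 1104) (.node (nat_lit 1103) (.leaf ((nat_lit 441), [nat_lit 3, nat_lit 2])) (.leaf ((nat_lit 442), [nat_lit 3, nat_lit 1, nat_lit 3, nat_lit 2, nat_lit 0, nat_lit 2, nat_lit 0, nat_lit 1]))) (.node (nat_lit 1105) (.leaf ((nat_lit 234), [nat_lit 2, nat_lit 1, nat_lit 3, nat_lit 0, nat_lit 2, nat_lit 1, nat_lit 0, nat_lit 1, nat_lit 0])) (.leaf ((nat_lit 36), [nat_lit 1, nat_lit 3, nat_lit 2, nat_lit 0, nat_lit 2, nat_lit 0, nat_lit 1, nat_lit 0, nat_lit 1, nat_lit 0]))))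
 (.node (nat_lit 1108) (.node (nat_lit 1107) (.leaf ((nat_lit 159), [nat_lit 0, nat_lit 2, nat_lit 0, nat_lit 1, nat_lit 0, nat_lit 1, nat_lit 0])) (.leaf ((nat_lit 37), [nat_lit 3, nat_lit 2, nat_lit 3, nat_lit 1, nat_lit 2, nat_lit 1]))) (.node (nat_lit 1109) (.leaf ((nat_lit 422), [nat_lit 2, nat_lit 1, nat_lit 3, nat_lit 0, nat_lit 1, nat_lit 0])) (.node (nat_lit 1110) (.leaf ((nat_lit 443), [nat_lit 3, nat_lit 2, nat_lit 0, nat_lit 2, nat_lit 0, nat_lit 1])) (.leaf ((nat_lit 444), [nat_lit 3, nat_lit 1, nat_lit 2, nat_lit 3, nat_lit 1, nat_lit 0, nat_lit 2, nat_lit 0, nat_lit 1, nat_lit 0]))))))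
 (.node (nat_lit 1115) (.node (nat_lit 1113) (.node (nat_lit 1112) (.leaf ((nat_lit 223), [nat_lit 0, nat_lit 2, nat_lit 0, nat_lit 1, nat_lit 0])) (.leaf ((nat_lit 445), [nat_lit 2, nat_lit 1, nat_lit 3, nat_lit 0, nat_lit 2, nat_lit 1, nat_lit 0, nat_lit 1]))) (.node (nat_lit 1114) (.leaf ((nat_lit 37), [nat_lit 3, nat_lit 2, nat_lit 3, nat_lit 2, nat_lit 0, nat_lit 2, nat_lit 0, nat_lit 1, nat_lit 0])) (.leaf ((nat_lit 158), [nat_lit 1, nat_lit 0, nat_lit 2, nat_lit 1, nat_lit 0, nat_lit 1, nat_lit 0]))))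
 (.node (nat_lit 1117) (.node (nat_lit 1116) (.leaf ((nat_lit 296), [nat_lit 3, nat_lit 2, nat_lit 0, nat_lit 2, nat_lit 1, nat_lit 0])) (.leaf ((nat_lit 342), [nat_lit 0, nat_lit 1, nat_lit 2, nat_lit 3, nat_lit 1, nat_lit 2, nat_lit 0, nat_lit 1, nat_lit 0, nat_lit 1]))) (.node (nat_lit 1118) (.leaf ((nat_lit 446), [nat_lit 3, nat_lit 2, nat_lit 0, nat_lit 2, nat_lit 0, nat_lit 1, nat_lit 0, nat_lit 1])) (.node (nat_lit 1119) (.leaf ((nat_lit 159), [nat_lit 0, nat_lit 1, nat_lit 0, nat_lit 1, nat_lit 0])) (.leaf ((nat_lit 447), [nat_lit 2, nat_lit 3, nat_lit 0, nat_lit 2, nat_lit 0, nat_lit 1, nat_lit 0, nat_lit 1])))))))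
 (.node (nat_lit 1129) (.node (nat_lit 1124) (.node (nat_lit 1122) (.node (nat_lit 1121) (.leaf ((nat_lit 303), [nat_lit 1, nat_lit 3, nat_lit 1, nat_lit 2, nat_lit 1])) (.leaf ((nat_lit 342), [nat_lit 2, nat_lit 1, nat_lit 3, nat_lit 1]))) (.node (nat_lit 1123) (.leaf ((nat_lit 37), [nat_lit 3, nat_lit 2, nat_lit 0, nat_lit 2, nat_lit 0, nat_lit 1, nat_lit 0, nat_lit 1])) (.leaf ((nat_lit 400), [nat_lit 2, nat_lit 1, nat_lit 3, nat_lit 1, nat_lit 0, nat_lit 2, nat_lit 1, nat_lit 0, nat_lit 1]))))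
 (.node (nat_lit 1126) (.node (nat_lit 1125) (.leaf ((nat_lit 253), [nat_lit 2, nat_lit 3, nat_lit 0, nat_lit 2, nat_lit 1, nat_lit 0])) (.leaf ((nat_lit 448), [nat_lit 3, nat_lit 2, nat_lit 0]))) (.node (nat_lit 1127) (.leaf ((nat_lit 397), [nat_lit 0, nat_lit 1, nat_lit 2, nat_lit 3, nat_lit 0])) (.node (nat_lit 1128) (.leaf ((nat_lit 449), [nat_lit 3, nat_lit 1, nat_lit 2, nat_lit 3, nat_lit 1, nat_lit 2])) (.leaf ((nat_lit 402), [nat_lit 3, nat_lit 2, nat_lit 3, nat_lit 2, nat_lit 0, nat_lit 2, nat_lit 0, nat_lit 1, nat_lit 0, nat_lit 1]))))))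
 (.node (nat_lit 1134) (.node (nat_lit 1131) (.node (nat_lit 1130) (.leaf ((nat_lit 376), [nat_lit 3, nat_lit 1, nat_lit 3, nat_lit 2, nat_lit 0, nat_lit 2, nat_lit 0, nat_lit 1, nat_lit 0, nat_lit 1])) (.leaf ((nat_lit 433), [nat_lit 1, nat_lit 2, nat_lit 0, nat_lit 1, nat_lit 0]))) (.node (nat_lit 1132) (.leaf ((nat_lit 37), [nat_lit 1, nat_lit 3, nat_lit 2, nat_lit 0, nat_lit 2, nat_lit 0, nat_lit 1, nat_lit 0])) (.node (nat_lit 1133) (.leaf ((nat_lit 381), [nat_lit 0, nat_lit 2, nat_lit 1])) (.leaf ((nat_lit 442), [nat_lit 3, nat_lit 2, nat_lit 3, nat_lit 1, nat_lit 2, nat_lit 0, nat_lit 1])))))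
 (.node (nat_lit 1136) (.node (nat_lit 1135) (.leaf ((nat_lit 170), [nat_lit 3, nat_lit 1, nat_lit 2, nat_lit 1, nat_lit 0, nat_lit 1])) (.leaf ((nat_lit 40), [nat_lit 0, nat_lit 1, nat_lit 0, nat_lit 1]))) (.node (nat_lit 1137) (.leaf ((nat_lit 297), [nat_lit 2, nat_lit 1, nat_lit 3, nat_lit 0, nat_lit 2, nat_lit 1])) (.node (nat_lit 1138) (.leaf ((nat_lit 167), [nat_lit 2, nat_lit 3, nat_lit 2, nat_lit 0, nat_lit 2])) (.leaf ((nat_lit 450), [nat_lit 2, nat_lit 3, nat_lit 0, nat_lit 2, nat_lit 0, nat_lit 1]))))))))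
 (.node (nat_lit 1157) (.node (nat_lit 1148) (.node (nat_lit 1143) (.node (nat_lit 1141) (.node (nat_lit 1140) (.leaf ((nat_lit 37), [nat_lit 2, nat_lit 3, nat_lit 2, nat_lit 0, nat_lit 2, nat_lit 0, nat_lit 1, nat_lit 0])) (.leaf ((nat_lit 42), [nat_lit 3, nat_lit 1, nat_lit 3, nat_lit 1, nat_lit 2, nat_lit 1, nat_lit 0]))) (.node (nat_lit 1142) (.leaf ((nat_lit 166), [nat_lit 3, nat_lit 2, nat_lit 0, nat_lit 2])) (.leaf ((nat_lit 288), [nat_lit 0, nat_lit 1, nat_lit 0, nat_lit 1]))))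
 (.node (nat_lit 1145) (.node (nat_lit 1144) (.leaf ((nat_lit 220), [nat_lit 2, nat_lit 3, nat_lit 1, nat_lit 2, nat_lit 1, nat_lit 0, nat_lit 1])) (.leaf ((nat_lit 38), [nat_lit 2, nat_lit 3, nat_lit 2, nat_lit 0, nat_lit 2, nat_lit 1, nat_lit 0, nat_lit 1, nat_lit 0]))) (.node (nat_lit 1146) (.leaf ((nat_lit 194), [nat_lit 3, nat_lit 0, nat_lit 2, nat_lit 0, nat_lit 1, nat_lit 0, nat_lit 1, nat_lit 0])) (.node (nat_lit 1147) (.leaf ((nat_lit 376), [nat_lit 1, nat_lit 2, nat_lit 3, nat_lit 2, nat_lit 0, nat_lit 2, nat_lit 0])) (.leaf ((nat_lit 355), [nat_lit 3, nat_lit 2, nat_lit 3, nat_lit 1, nat_lit 2, nat_lit 1, nat_lit 0, nat_lit 1, nat_lit 0]))))))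
 (.node (nat_lit 1152) (.node (nat_lit 1150) (.node (nat_lit 1149) (.leaf ((nat_lit 358), [nat_lit 2, nat_lit 3, nat_lit 1, nat_lit 0, nat_lit 2, nat_lit 0])) (.leaf ((nat_lit 369), [nat_lit 0, nat_lit 1, nat_lit 2, nat_lit 3, nat_lit 2]))) (.node (nat_lit 1151) (.leaf ((nat_lit 451), [nat_lit 2, nat_lit 3, nat_lit 2, nat_lit 0, nat_lit 2, nat_lit 1, nat_lit 0, nat_lit 1])) (.leaf ((nat_lit 358), [nat_lit 2, nat_lit 1, nat_lit 3, nat_lit 1, nat_lit 0, nat_lit 2, nat_lit 1, nat_lit 0, nat_lit 1]))))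
 (.node (nat_lit 1154) (.node (nat_lit 1153) (.leaf ((nat_lit 226), [nat_lit 2, nat_lit 1, nat_lit 3, nat_lit 2, nat_lit 1, nat_lit 0])) (.leaf ((nat_lit 38), [nat_lit 3, nat_lit 1, nat_lit 3, nat_lit 0, nat_lit 2, nat_lit 0, nat_lit 1, nat_lit 0]))) (.node (nat_lit 1155) (.leaf ((nat_lit 452), [nat_lit 3, nat_lit 2, nat_lit 3, nat_lit 0, nat_lit 2, nat_lit 0])) (.node (nat_lit 1156) (.leaf ((nat_lit 272), [nat_lit 1, nat_lit 2, nat_lit 3, nat_lit 2, nat_lit 1])) (.leaf ((nat_lit 269), [nat_lit 2, nat_lit 1, nat_lit 0, nat_lit 1])))))))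
 (.node (nat_lit 1166) (.node (nat_lit 1161) (.node (nat_lit 1159) (.node (nat_lit 1158) (.leaf ((nat_lit 383), [nat_lit 3, nat_lit 1, nat_lit 2, nat_lit 3, nat_lit 0, nat_lit 2, nat_lit 0, nat_lit 1])) (.leaf ((nat_lit 453), [nat_lit 0, nat_lit 1, nat_lit 3, nat_lit 1, nat_lit 2, nat_lit 0, nat_lit 1]))) (.node (nat_lit 1160) (.leaf ((nat_lit 188), [nat_lit 1, nat_lit 3, nat_lit 1, nat_lit 2, nat_lit 0, nat_lit 1, nat_lit 0, nat_lit 1])) (.leaf ((nat_lit 454), [nat_lit 0, nat_lit 1, nat_lit 2, nat_lit 3, nat_lit 0]))))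
 (.node (nat_lit 1163) (.node (nat_lit 1162) (.leaf ((nat_lit 38), [nat_lit 0, nat_lit 1, nat_lit 3, nat_lit 2, nat_lit 0, nat_lit 2, nat_lit 1])) (.leaf ((nat_lit 288), [nat_lit 0, nat_lit 1, nat_lit 3, nat_lit 2, nat_lit 0, nat_lit 2, nat_lit 1, nat_lit 0]))) (.node (nat_lit 1164) (.leaf ((nat_lit 163), [nat_lit 1, nat_lit 3, nat_lit 0])) (.node (nat_lit 1165) (.leaf ((nat_lit 298), [nat_lit 3, nat_lit 1, nat_lit 2, nat_lit 3, nat_lit 1, nat_lit 0, nat_lit 2, nat_lit 0])) (.leaf ((nat_lit 39), [nat_lit 0, nat_lit 1, nat_lit 3, nat_lit 2, nat_lit 0, nat_lit 2, nat_lit 0, nat_lit 1, nat_lit 0]))))))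
 (.node (nat_lit 1171) (.node (nat_lit 1168) (.node (nat_lit 1167) (.leaf ((nat_lit 166), [nat_lit 2, nat_lit 3, nat_lit 2])) (.leaf ((nat_lit 227), [nat_lit 0, nat_lit 1, nat_lit 3, nat_lit 0, nat_lit 2, nat_lit 0, nat_lit 1]))) (.node (nat_lit 1169) (.leaf ((nat_lit 455), [nat_lit 3, nat_lit 1, nat_lit 3, nat_lit 2, nat_lit 0, nat_lit 2, nat_lit 0, nat_lit 1, nat_lit 0])) (.node (nat_lit 1170) (.leaf ((nat_lit 101), [nat_lit 3, nat_lit 1, nat_lit 3, nat_lit 2, nat_lit 1, nat_lit 0])) (.leaf ((nat_lit 340), [nat_lit 1, nat_lit 3, nat_lit 0, nat_lit 2, nat_lit 0])))))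
 (.node (nat_lit 1173) (.node (nat_lit 1172) (.leaf ((nat_lit 278), [nat_lit 3, nat_lit 1, nat_lit 3, nat_lit 0, nat_lit 2, nat_lit 0, nat_lit 1, nat_lit 0, nat_lit 1, nat_lit 0])) (.leaf ((nat_lit 162), [nat_lit 1, nat_lit 3, nat_lit 0, nat_lit 2]))) (.node (nat_lit 1174) (.leaf ((nat_lit 39), [nat_lit 1, nat_lit 3, nat_lit 0, nat_lit 2, nat_lit 1, nat_lit 0])) (.node (nat_lit 1175) (.leaf ((nat_lit 192), [nat_lit 1, nat_lit 2, nat_lit 3, nat_lit 2, nat_lit 1, nat_lit 0])) (.leaf ((nat_lit 76), [nat_lit 2, nat_lit 3, nat_lit 1, nat_lit 0, nat_lit 2, nat_lit 0, nat_lit 1, nat_lit 0, nat_lit 1]))))))))))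
noncomputable def bWd_8 : Tr (ℕ × List ℕ) := (.node (nat_lit 1249) (.node (nat_lit 1212) (.node (nat_lit 1194) (.node (nat_lit 1185) (.node (nat_lit 1180) (.node (nat_lit 1178) (.node (nat_lit 1177) (.leaf ((nat_lit 446), [nat_lit 3, nat_lit 1, nat_lit 2, nat_lit 3, nat_lit 0, nat_lit 2, nat_lit 1])) (.leaf ((nat_lit 456), [nat_lit 1, nat_lit 2, nat_lit 3, nat_lit 1, nat_lit 2, nat_lit 0, nat_lit 1, nat_lit 0, nat_lit 1, nat_lit 0]))) (.node (nat_lit 1179) (.leaf ((nat_lit 457), [nat_lit 3, nat_lit 0, nat_lit 2, nat_lit 0, nat_lit 1, nat_lit 0, nat_lit 1])) (.leaf ((nat_lit 399), [nat_lit 3, nat_lit 2, nat_lit 3, nat_lit 2, nat_lit 0, nat_lit 1, nat_lit 0]))))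
 (.node (nat_lit 1182) (.node (nat_lit 1181) (.leaf ((nat_lit 449), [nat_lit 2, nat_lit 1, nat_lit 3, nat_lit 0, nat_lit 2])) (.leaf ((nat_lit 39), [nat_lit 1, nat_lit 2, nat_lit 3]))) (.node (nat_lit 1183) (.leaf ((nat_lit 458), [nat_lit 0, nat_lit 1, nat_lit 2, nat_lit 3, nat_lit 1, nat_lit 0, nat_lit 2, nat_lit 0, nat_lit 1])) (.node (nat_lit 1184) (.leaf ((nat_lit 336), [nat_lit 2, nat_lit 0, nat_lit 2])) (.leaf ((nat_lit 205), [nat_lit 1, nat_lit 3, nat_lit 0, nat_lit 1, nat_lit 0, nat_lit 1, nat_lit 0]))))))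
 (.node (nat_lit 1189) (.node (nat_lit 1187) (.node (nat_lit 1186) (.leaf ((nat_lit 327), [nat_lit 3, nat_lit 1, nat_lit 3, nat_lit 2, nat_lit 1])) (.leaf ((nat_lit 326), [nat_lit 0, nat_lit 1, nat_lit 2, nat_lit 3, nat_lit 2, nat_lit 0, nat_lit 1, nat_lit 0, nat_lit 1, nat_lit 0]))) (.node (nat_lit 1188) (.leaf ((nat_lit 459), [nat_lit 0, nat_lit 1, nat_lit 0, nat_lit 1, nat_lit 0])) (.leaf ((nat_lit 460), [nat_lit 2, nat_lit 1, nat_lit 3, nat_lit 2, nat_lit 1, nat_lit 0, nat_lit 1]))))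
 (.node (nat_lit 1191) (.node (nat_lit 1190) (.leaf ((nat_lit 39), [nat_lit 3, nat_lit 2, nat_lit 3, nat_lit 1])) (.leaf ((nat_lit 40), [nat_lit 2, nat_lit 3, nat_lit 0]))) (.node (nat_lit 1192) (.leaf ((nat_lit 162), [nat_lit 2, nat_lit 1, nat_lit 3, nat_lit 2, nat_lit 0, nat_lit 2, nat_lit 1])) (.node (nat_lit 1193) (.leaf ((nat_lit 368), [nat_lit 1, nat_lit 2, nat_lit 3, nat_lit 1, nat_lit 0, nat_lit 1, nat_lit 0])) (.leaf ((nat_lit 101), [nat_lit 3, nat_lit 1, nat_lit 3, nat_lit 1, nat_lit 0, nat_lit 2, nat_lit 0, nat_lit 1, nat_lit 0, nat_lit 1, nat_lit 0])))))))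
 (.node (nat_lit 1203) (.node (nat_lit 1198) (.node (nat_lit 1196) (.node (nat_lit 1195) (.leaf ((nat_lit 219), [nat_lit 3, nat_lit 1, nat_lit 2, nat_lit 3, nat_lit 1, nat_lit 2])) (.leaf ((nat_lit 170), [nat_lit 0, nat_lit 1, nat_lit 3, nat_lit 2, nat_lit 0, nat_lit 2, nat_lit 1, nat_lit 0, nat_lit 1, nat_lit 0]))) (.node (nat_lit 1197) (.leaf ((nat_lit 108), [nat_lit 2, nat_lit 3, nat_lit 1, nat_lit 2])) (.leaf ((nat_lit 221), [nat_lit 3, nat_lit 1, nat_lit 3, nat_lit 0, nat_lit 2, nat_lit 0, nat_lit 1]))))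
 (.node (nat_lit 1200) (.node (nat_lit 1199) (.leaf ((nat_lit 292), [nat_lit 3, nat_lit 2, nat_lit 3, nat_lit 1, nat_lit 0, nat_lit 2, nat_lit 0, nat_lit 1, nat_lit 0])) (.leaf ((nat_lit 402), [nat_lit 3, nat_lit 2, nat_lit 3, nat_lit 1, nat_lit 0, nat_lit 1]))) (.node (nat_lit 1201) (.leaf ((nat_lit 347), [nat_lit 3, nat_lit 1, nat_lit 3, nat_lit 1, nat_lit 2, nat_lit 0])) (.node (nat_lit 1202) (.leaf ((nat_lit 436), [nat_lit 1, nat_lit 2, nat_lit 3, nat_lit 1, nat_lit 0, nat_lit 2, nat_lit 0, nat_lit 1, nat_lit 0, nat_lit 1])) (.leaf ((nat_lit 40), [nat_lit 3, nat_lit 2, nat_lit 3, nat_lit 1, nat_lit 2, nat_lit 0, nat_lit 1]))))))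
 (.node (nat_lit 1207) (.node (nat_lit 1205) (.node (nat_lit 1204) (.leaf ((nat_lit 461), [nat_lit 3, nat_lit 1, nat_lit 3, nat_lit 2, nat_lit 0, nat_lit 2])) (.leaf ((nat_lit 386), [nat_lit 1, nat_lit 2, nat_lit 3, nat_lit 0, nat_lit 2, nat_lit 0, nat_lit 1, nat_lit 0, nat_lit 1]))) (.node (nat_lit 1206) (.leaf ((nat_lit 462), [nat_lit 0, nat_lit 1, nat_lit 2, nat_lit 3, nat_lit 2, nat_lit 0, nat_lit 2, nat_lit 0])) (.leaf ((nat_lit 463), [nat_lit 1, nat_lit 3]))))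
 (.node (nat_lit 1209) (.node (nat_lit 1208) (.leaf ((nat_lit 464), [nat_lit 2, nat_lit 3, nat_lit 1, nat_lit 2])) (.leaf ((nat_lit 359), [nat_lit 3, nat_lit 2, nat_lit 3, nat_lit 2, nat_lit 0, nat_lit 1, nat_lit 0, nat_lit 1]))) (.node (nat_lit 1210) (.leaf ((nat_lit 465), [nat_lit 1, nat_lit 3, nat_lit 1, nat_lit 2, nat_lit 1, nat_lit 0])) (.node (nat_lit 1211) (.leaf ((nat_lit 40), [nat_lit 1, nat_lit 3, nat_lit 2, nat_lit 0, nat_lit 2, nat_lit 0, nat_lit 1, nat_lit 0, nat_lit 1])) (.leaf ((nat_lit 310), [nat_lit 0, nat_lit 1, nat_lit 2, nat_lit 3, nat_lit 2, nat_lit 0, nat_lit 2, nat_lit 0, nat_lit 1]))))))))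
 (.node (nat_lit 1230) (.node (nat_lit 1221) (.node (nat_lit 1216) (.node (nat_lit 1214) (.node (nat_lit 1213) (.leaf ((nat_lit 466), [nat_lit 3, nat_lit 1, nat_lit 3, nat_lit 0, nat_lit 2, nat_lit 0, nat_lit 1, nat_lit 0])) (.leaf ((nat_lit 41), [nat_lit 0, nat_lit 1, nat_lit 3, nat_lit 0, nat_lit 1]))) (.node (nat_lit 1215) (.leaf ((nat_lit 41), [nat_lit 0, nat_lit 1, nat_lit 3, nat_lit 1, nat_lit 2])) (.leaf ((nat_lit 69), [nat_lit 2, nat_lit 1, nat_lit 0, nat_lit 1]))))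
 (.node (nat_lit 1218) (.node (nat_lit 1217) (.leaf ((nat_lit 341), [nat_lit 2, nat_lit 1, nat_lit 3, nat_lit 0, nat_lit 1])) (.leaf ((nat_lit 377), [nat_lit 1, nat_lit 3, nat_lit 0, nat_lit 1, nat_lit 0, nat_lit 1]))) (.node (nat_lit 1219) (.leaf ((nat_lit 436), [nat_lit 3, nat_lit 1, nat_lit 3, nat_lit 0, nat_lit 2, nat_lit 1])) (.node (nat_lit 1220) (.leaf ((nat_lit 422), [nat_lit 3, nat_lit 1, nat_lit 2, nat_lit 3, nat_lit 1, nat_lit 0, nat_lit 2, nat_lit 1, nat_lit 0])) (.leaf ((nat_lit 342), [nat_lit 3, nat_lit 1, nat_lit 2, nat_lit 3, nat_lit 0, nat_lit 2, nat_lit 0, nat_lit 1]))))))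
 (.node (nat_lit 1225) (.node (nat_lit 1223) (.node (nat_lit 1222) (.leaf ((nat_lit 296), [nat_lit 0, nat_lit 1, nat_lit 3, nat_lit 1, nat_lit 2, nat_lit 0, nat_lit 1])) (.leaf ((nat_lit 426), [nat_lit 1, nat_lit 0]))) (.node (nat_lit 1224) (.leaf ((nat_lit 41), [nat_lit 0, nat_lit 1, nat_lit 2, nat_lit 3])) (.leaf ((nat_lit 467), [nat_lit 2, nat_lit 1, nat_lit 3, nat_lit 1, nat_lit 0, nat_lit 2, nat_lit 1, nat_lit 0, nat_lit 1, nat_lit 0]))))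
 (.node (nat_lit 1227) (.node (nat_lit 1226) (.leaf ((nat_lit 89), [nat_lit 1, nat_lit 2, nat_lit 3, nat_lit 1, nat_lit 2, nat_lit 1, nat_lit 0])) (.leaf ((nat_lit 42), [nat_lit 3, nat_lit 2, nat_lit 3, nat_lit 2, nat_lit 0, nat_lit 2]))) (.node (nat_lit 1228) (.leaf ((nat_lit 382), [nat_lit 3, nat_lit 1, nat_lit 3, nat_lit 1, nat_lit 0, nat_lit 1])) (.node (nat_lit 1229) (.leaf ((nat_lit 89), [nat_lit 1, nat_lit 2, nat_lit 3, nat_lit 2, nat_lit 0, nat_lit 2, nat_lit 0, nat_lit 1])) (.leaf ((nat_lit 468), [nat_lit 0, nat_lit 1, nat_lit 3, nat_lit 2, nat_lit 0])))))))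
 (.node (nat_lit 1239) (.node (nat_lit 1234) (.node (nat_lit 1232) (.node (nat_lit 1231) (.leaf ((nat_lit 107), [nat_lit 2, nat_lit 3, nat_lit 0, nat_lit 2, nat_lit 1, nat_lit 0])) (.leaf ((nat_lit 469), [nat_lit 1, nat_lit 2, nat_lit 3, nat_lit 1, nat_lit 0, nat_lit 2]))) (.node (nat_lit 1233) (.leaf ((nat_lit 226), [nat_lit 3, nat_lit 1, nat_lit 2, nat_lit 3, nat_lit 0, nat_lit 2, nat_lit 0, nat_lit 1, nat_lit 0, nat_lit 1, nat_lit 0])) (.leaf ((nat_lit 331), [nat_lit 3, nat_lit 2, nat_lit 3, nat_lit 0, nat_lit 2]))))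
 (.node (nat_lit 1236) (.node (nat_lit 1235) (.leaf ((nat_lit 42), [nat_lit 3, nat_lit 2, nat_lit 3, nat_lit 0, nat_lit 2, nat_lit 0, nat_lit 1, nat_lit 0, nat_lit 1, nat_lit 0])) (.leaf ((nat_lit 118), [nat_lit 1, nat_lit 2, nat_lit 3, nat_lit 1, nat_lit 0, nat_lit 2]))) (.node (nat_lit 1237) (.leaf ((nat_lit 357), [nat_lit 2, nat_lit 3, nat_lit 0, nat_lit 1, nat_lit 0, nat_lit 1])) (.node (nat_lit 1238) (.leaf ((nat_lit 402), [nat_lit 2, nat_lit 3, nat_lit 1, nat_lit 2, nat_lit 0, nat_lit 1, nat_lit 0, nat_lit 1, nat_lit 0])) (.leaf ((nat_lit 407), [nat_lit 1, nat_lit 2, nat_lit 3, nat_lit 1, nat_lit 2, nat_lit 0, nat_lit 1, nat_lit 0, nat_lit 1]))))))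
 (.node (nat_lit 1244) (.node (nat_lit 1241) (.node (nat_lit 1240) (.leaf ((nat_lit 177), [nat_lit 3, nat_lit 2, nat_lit 3, nat_lit 0, nat_lit 1])) (.leaf ((nat_lit 177), [nat_lit 3, nat_lit 1, nat_lit 2, nat_lit 3, nat_lit 2, nat_lit 0, nat_lit 2, nat_lit 1, nat_lit 0, nat_lit 1, nat_lit 0]))) (.node (nat_lit 1242) (.leaf ((nat_lit 118), [nat_lit 1, nat_lit 3, nat_lit 2, nat_lit 0, nat_lit 2, nat_lit 1, nat_lit 0])) (.node (nat_lit 1243) (.leaf ((nat_lit 42), [nat_lit 2, nat_lit 1, nat_lit 3, nat_lit 1, nat_lit 0, nat_lit 2, nat_lit 1, nat_lit 0])) (.leaf ((nat_lit 381), [nat_lit 2, nat_lit 1, nat_lit 3, nat_lit 2, nat_lit 0, nat_lit 1, nat_lit 0])))))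
 (.node (nat_lit 1246) (.node (nat_lit 1245) (.leaf ((nat_lit 450), [nat_lit 2, nat_lit 0])) (.leaf ((nat_lit 361), [nat_lit 1, nat_lit 3, nat_lit 1, nat_lit 0, nat_lit 2, nat_lit 1]))) (.node (nat_lit 1247) (.leaf ((nat_lit 355), [nat_lit 3, nat_lit 1, nat_lit 0, nat_lit 2, nat_lit 0, nat_lit 1])) (.node (nat_lit 1248) (.leaf ((nat_lit 469), [nat_lit 1, nat_lit 2, nat_lit 3, nat_lit 1, nat_lit 0, nat_lit 2, nat_lit 0, nat_lit 1, nat_lit 0, nat_lit 1])) (.leaf ((nat_lit 178), [nat_lit 0, nat_lit 2, nat_lit 1, nat_lit 0, nat_lit 1, nat_lit 0])))))))))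
 (.node (nat_lit 1286) (.node (nat_lit 1267) (.node (nat_lit 1258) (.node (nat_lit 1253) (.node (nat_lit 1251) (.node (nat_lit 1250) (.leaf ((nat_lit 125), [nat_lit 2, nat_lit 1, nat_lit 3, nat_lit 1, nat_lit 0, nat_lit 2, nat_lit 1, nat_lit 0, nat_lit 1, nat_lit 0])) (.leaf ((nat_lit 42), [nat_lit 3, nat_lit 2, nat_lit 3, nat_lit 1, nat_lit 0, nat_lit 2, nat_lit 0, nat_lit 1, nat_lit 0]))) (.node (nat_lit 1252) (.leaf ((nat_lit 426), [nat_lit 3, nat_lit 1, nat_lit 3, nat_lit 2, nat_lit 1, nat_lit 0, nat_lit 1, nat_lit 0])) (.leaf ((nat_lit 462), [nat_lit 2, nat_lit 0, nat_lit 2, nat_lit 1, nat_lit 0]))))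
 (.node (nat_lit 1255) (.node (nat_lit 1254) (.leaf ((nat_lit 351), [nat_lit 3, nat_lit 1, nat_lit 2, nat_lit 3, nat_lit 1, nat_lit 0, nat_lit 2, nat_lit 1, nat_lit 0, nat_lit 1, nat_lit 0])) (.leaf ((nat_lit 107), [nat_lit 3, nat_lit 2, nat_lit 3, nat_lit 1, nat_lit 2, nat_lit 1, nat_lit 0]))) (.node (nat_lit 1256) (.leaf ((nat_lit 365), [nat_lit 1, nat_lit 0, nat_lit 2, nat_lit 1, nat_lit 0, nat_lit 1, nat_lit 0])) (.node (nat_lit 1257) (.leaf ((nat_lit 365), [nat_lit 2, nat_lit 1, nat_lit 3, nat_lit 1, nat_lit 2, nat_lit 1])) (.leaf ((nat_lit 43), [nat_lit 3, nat_lit 1, nat_lit 3, nat_lit 0, nat_lit 2, nat_lit 0]))))))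
 (.node (nat_lit 1262) (.node (nat_lit 1260) (.node (nat_lit 1259) (.leaf ((nat_lit 215), [nat_lit 3, nat_lit 1, nat_lit 3, nat_lit 2, nat_lit 0, nat_lit 2, nat_lit 0, nat_lit 1])) (.leaf ((nat_lit 286), [nat_lit 3, nat_lit 1, nat_lit 3, nat_lit 1, nat_lit 0, nat_lit 2, nat_lit 1, nat_lit 0]))) (.node (nat_lit 1261) (.leaf ((nat_lit 100), [nat_lit 0, nat_lit 1, nat_lit 3, nat_lit 0, nat_lit 2, nat_lit 1, nat_lit 0, nat_lit 1])) (.leaf ((nat_lit 88), [nat_lit 2, nat_lit 3, nat_lit 1, nat_lit 0, nat_lit 1]))))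
 (.node (nat_lit 1264) (.node (nat_lit 1263) (.leaf ((nat_lit 82), [nat_lit 2, nat_lit 3, nat_lit 2, nat_lit 0, nat_lit 1, nat_lit 0])) (.leaf ((nat_lit 44), [nat_lit 3, nat_lit 1, nat_lit 2, nat_lit 3, nat_lit 0, nat_lit 2]))) (.node (nat_lit 1265) (.leaf ((nat_lit 244), [nat_lit 0, nat_lit 1, nat_lit 2, nat_lit 3, nat_lit 2, nat_lit 0, nat_lit 1, nat_lit 0, nat_lit 1])) (.node (nat_lit 1266) (.leaf ((nat_lit 183), [nat_lit 3, nat_lit 1, nat_lit 0, nat_lit 1])) (.leaf ((nat_lit 111), [nat_lit 2, nat_lit 3, nat_lit 0, nat_lit 2, nat_lit 0, nat_lit 1])))))))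
 (.node (nat_lit 1276) (.node (nat_lit 1271) (.node (nat_lit 1269) (.node (nat_lit 1268) (.leaf ((nat_lit 278), [nat_lit 1, nat_lit 2, nat_lit 3, nat_lit 2, nat_lit 0, nat_lit 2, nat_lit 1, nat_lit 0])) (.leaf ((nat_lit 298), [nat_lit 1, nat_lit 0, nat_lit 2, nat_lit 1, nat_lit 0, nat_lit 1]))) (.node (nat_lit 1270) (.leaf ((nat_lit 450), [nat_lit 1, nat_lit 3, nat_lit 2, nat_lit 0, nat_lit 2, nat_lit 0, nat_lit 1, nat_lit 0, nat_lit 1, nat_lit 0])) (.leaf ((nat_lit 181), [nat_lit 0, nat_lit 1, nat_lit 3, nat_lit 2, nat_lit 0, nat_lit 2, nat_lit 1, nat_lit 0, nat_lit 1, nat_lit 0]))))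
 (.node (nat_lit 1273) (.node (nat_lit 1272) (.leaf ((nat_lit 44), [nat_lit 2, nat_lit 3, nat_lit 0, nat_lit 2, nat_lit 1])) (.leaf ((nat_lit 347), [nat_lit 0, nat_lit 1, nat_lit 2, nat_lit 3, nat_lit 0, nat_lit 2, nat_lit 0, nat_lit 1, nat_lit 0]))) (.node (nat_lit 1274) (.leaf ((nat_lit 470), [nat_lit 0, nat_lit 1, nat_lit 2, nat_lit 3, nat_lit 0, nat_lit 1, nat_lit 0, nat_lit 1, nat_lit 0])) (.node (nat_lit 1275) (.leaf ((nat_lit 451), [nat_lit 0, nat_lit 1, nat_lit 3, nat_lit 1, nat_lit 0, nat_lit 2, nat_lit 1])) (.leaf ((nat_lit 471), [nat_lit 0, nat_lit 1, nat_lit 3, nat_lit 1, nat_lit 0, nat_lit 2, nat_lit 1]))))))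
 (.node (nat_lit 1281) (.node (nat_lit 1278) (.node (nat_lit 1277) (.leaf ((nat_lit 472), [nat_lit 2, nat_lit 1, nat_lit 0, nat_lit 1])) (.leaf ((nat_lit 111), [nat_lit 0, nat_lit 1, nat_lit 3, nat_lit 1, nat_lit 2, nat_lit 0, nat_lit 1, nat_lit 0]))) (.node (nat_lit 1279) (.leaf ((nat_lit 125), [nat_lit 3, nat_lit 2, nat_lit 3, nat_lit 0, nat_lit 2, nat_lit 1])) (.node (nat_lit 1280) (.leaf ((nat_lit 473), [nat_lit 0, nat_lit 1, nat_lit 3, nat_lit 0, nat_lit 2, nat_lit 1, nat_lit 0, nat_lit 1])) (.leaf ((nat_lit 44), [nat_lit 3, nat_lit 1, nat_lit 3, nat_lit 1, nat_lit 0, nat_lit 1])))))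
 (.node (nat_lit 1283) (.node (nat_lit 1282) (.leaf ((nat_lit 352), [nat_lit 3, nat_lit 2, nat_lit 3, nat_lit 1, nat_lit 2, nat_lit 0])) (.leaf ((nat_lit 108), [nat_lit 3, nat_lit 1, nat_lit 0, nat_lit 2, nat_lit 1, nat_lit 0, nat_lit 1, nat_lit 0]))) (.node (nat_lit 1284) (.leaf ((nat_lit 185), [nat_lit 3, nat_lit 1, nat_lit 2, nat_lit 1, nat_lit 0, nat_lit 1])) (.node (nat_lit 1285) (.leaf ((nat_lit 185), [nat_lit 3, nat_lit 2, nat_lit 0, nat_lit 2, nat_lit 1, nat_lit 0, nat_lit 1, nat_lit 0])) (.leaf ((nat_lit 208), [nat_lit 1, nat_lit 2, nat_lit 3, nat_lit 2]))))))))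
 (.node (nat_lit 1304) (.node (nat_lit 1295) (.node (nat_lit 1290) (.node (nat_lit 1288) (.node (nat_lit 1287) (.leaf ((nat_lit 180), [nat_lit 3, nat_lit 2, nat_lit 3, nat_lit 0, nat_lit 2, nat_lit 0, nat_lit 1, nat_lit 0, nat_lit 1, nat_lit 0])) (.leaf ((nat_lit 45), [nat_lit 3, nat_lit 1, nat_lit 3, nat_lit 1, nat_lit 0, nat_lit 2, nat_lit 1, nat_lit 0]))) (.node (nat_lit 1289) (.leaf ((nat_lit 185), [nat_lit 2, nat_lit 1, nat_lit 3, nat_lit 0, nat_lit 2, nat_lit 1, nat_lit 0, nat_lit 1])) (.leaf ((nat_lit 46), [nat_lit 3, nat_lit 1, nat_lit 3, nat_lit 0, nat_lit 2, nat_lit 0, nat_lit 1, nat_lit 0, nat_lit 1]))))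
 (.node (nat_lit 1292) (.node (nat_lit 1291) (.leaf ((nat_lit 121), [nat_lit 3, nat_lit 1, nat_lit 3, nat_lit 1, nat_lit 0, nat_lit 2, nat_lit 1, nat_lit 0, nat_lit 1, nat_lit 0])) (.leaf ((nat_lit 466), [nat_lit 1, nat_lit 3, nat_lit 2]))) (.node (nat_lit 1293) (.leaf ((nat_lit 298), [nat_lit 3, nat_lit 2, nat_lit 3, nat_lit 1, nat_lit 0])) (.node (nat_lit 1294) (.leaf ((nat_lit 474), [nat_lit 3, nat_lit 2, nat_lit 3, nat_lit 1, nat_lit 2, nat_lit 0, nat_lit 1, nat_lit 0, nat_lit 1, nat_lit 0])) (.leaf ((nat_lit 335), [nat_lit 3, nat_lit 2, nat_lit 3, nat_lit 1, nat_lit 2, nat_lit 0, nat_lit 1]))))))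
 (.node (nat_lit 1299) (.node (nat_lit 1297) (.node (nat_lit 1296) (.leaf ((nat_lit 46), [nat_lit 2, nat_lit 3, nat_lit 1, nat_lit 0, nat_lit 2, nat_lit 0, nat_lit 1, nat_lit 0])) (.leaf ((nat_lit 184), [nat_lit 0, nat_lit 1, nat_lit 2, nat_lit 3, nat_lit 2, nat_lit 0, nat_lit 1, nat_lit 0, nat_lit 1]))) (.node (nat_lit 1298) (.leaf ((nat_lit 183), [nat_lit 2, nat_lit 1, nat_lit 3, nat_lit 2, nat_lit 0, nat_lit 2, nat_lit 1])) (.leaf ((nat_lit 183), [nat_lit 0, nat_lit 1, nat_lit 3, nat_lit 2, nat_lit 0, nat_lit 2, nat_lit 1, nat_lit 0]))))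
 (.node (nat_lit 1301) (.node (nat_lit 1300) (.leaf ((nat_lit 351), [nat_lit 0, nat_lit 1, nat_lit 3, nat_lit 0, nat_lit 2])) (.leaf ((nat_lit 150), [nat_lit 0, nat_lit 1, nat_lit 2, nat_lit 3, nat_lit 0, nat_lit 1, nat_lit 0]))) (.node (nat_lit 1302) (.leaf ((nat_lit 475), [nat_lit 0, nat_lit 1, nat_lit 3, nat_lit 1, nat_lit 0, nat_lit 2, nat_lit 0])) (.node (nat_lit 1303) (.leaf ((nat_lit 187), [nat_lit 2, nat_lit 1, nat_lit 3, nat_lit 1, nat_lit 2, nat_lit 0, nat_lit 1])) (.leaf ((nat_lit 47), [nat_lit 0, nat_lit 1, nat_lit 2, nat_lit 3, nat_lit 2, nat_lit 0, nat_lit 2, nat_lit 0, nat_lit 1, nat_lit 0, nat_lit 1])))))))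
 (.node (nat_lit 1313) (.node (nat_lit 1308) (.node (nat_lit 1306) (.node (nat_lit 1305) (.leaf ((nat_lit 345), [nat_lit 3, nat_lit 2, nat_lit 3, nat_lit 2, nat_lit 0, nat_lit 1, nat_lit 0, nat_lit 1])) (.leaf ((nat_lit 218), [nat_lit 2, nat_lit 1, nat_lit 3, nat_lit 1, nat_lit 2, nat_lit 0, nat_lit 1, nat_lit 0]))) (.node (nat_lit 1307) (.leaf ((nat_lit 476), [nat_lit 1, nat_lit 3, nat_lit 0, nat_lit 1, nat_lit 0, nat_lit 1, nat_lit 0])) (.leaf ((nat_lit 477), [nat_lit 2, nat_lit 3, nat_lit 2, nat_lit 0]))))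
 (.node (nat_lit 1310) (.node (nat_lit 1309) (.leaf ((nat_lit 478), [nat_lit 3, nat_lit 2, nat_lit 1, nat_lit 0, nat_lit 1])) (.leaf ((nat_lit 47), [nat_lit 0, nat_lit 1, nat_lit 3, nat_lit 2, nat_lit 0, nat_lit 2, nat_lit 0, nat_lit 1]))) (.node (nat_lit 1311) (.leaf ((nat_lit 186), [nat_lit 1, nat_lit 2, nat_lit 3, nat_lit 1, nat_lit 2, nat_lit 1, nat_lit 0, nat_lit 1])) (.node (nat_lit 1312) (.leaf ((nat_lit 81), [nat_lit 0, nat_lit 1, nat_lit 2, nat_lit 3, nat_lit 0])) (.leaf ((nat_lit 187), [nat_lit 1, nat_lit 2, nat_lit 3, nat_lit 0, nat_lit 2, nat_lit 1, nat_lit 0, nat_lit 1, nat_lit 0]))))))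
 (.node (nat_lit 1318) (.node (nat_lit 1315) (.node (nat_lit 1314) (.leaf ((nat_lit 307), [nat_lit 2, nat_lit 1, nat_lit 3, nat_lit 0, nat_lit 1])) (.leaf ((nat_lit 115), [nat_lit 1, nat_lit 2]))) (.node (nat_lit 1316) (.leaf ((nat_lit 451), [nat_lit 2, nat_lit 1, nat_lit 3, nat_lit 1, nat_lit 0, nat_lit 2, nat_lit 1, nat_lit 0, nat_lit 1])) (.node (nat_lit 1317) (.leaf ((nat_lit 80), [nat_lit 2, nat_lit 0, nat_lit 1, nat_lit 0])) (.leaf ((nat_lit 283), [nat_lit 2, nat_lit 1, nat_lit 3, nat_lit 1, nat_lit 0, nat_lit 2, nat_lit 0])))))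
 (.node (nat_lit 1320) (.node (nat_lit 1319) (.leaf ((nat_lit 47), [nat_lit 2, nat_lit 3, nat_lit 0, nat_lit 2, nat_lit 1, nat_lit 0, nat_lit 1])) (.leaf ((nat_lit 98), [nat_lit 3, nat_lit 2, nat_lit 3, nat_lit 1, nat_lit 2, nat_lit 0, nat_lit 1, nat_lit 0, nat_lit 1, nat_lit 0]))) (.node (nat_lit 1321) (.leaf ((nat_lit 165), [nat_lit 0, nat_lit 1, nat_lit 2, nat_lit 3, nat_lit 1, nat_lit 0, nat_lit 2, nat_lit 0, nat_lit 1, nat_lit 0, nat_lit 1])) (.node (nat_lit 1322) (.leaf ((nat_lit 350), [nat_lit 0, nat_lit 1, nat_lit 0, nat_lit 1, nat_lit 0])) (.leaf ((nat_lit 348), [nat_lit 0, nat_lit 1, nat_lit 2, nat_lit 3]))))))))))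
noncomputable def bWd_9 : Tr (ℕ × List ℕ) := (.node (nat_lit 1396) (.node (nat_lit 1359) (.node (nat_lit 1341) (.node (nat_lit 1332) (.node (nat_lit 1327) (.node (nat_lit 1325) (.node (nat_lit 1324) (.leaf ((nat_lit 218), [nat_lit 0, nat_lit 1, nat_lit 2, nat_lit 3, nat_lit 0, nat_lit 2, nat_lit 1, nat_lit 0, nat_lit 1])) (.leaf ((nat_lit 479), [nat_lit 1, nat_lit 3, nat_lit 1, nat_lit 2, nat_lit 1, nat_lit 0, nat_lit 1]))) (.node (nat_lit 1326) (.leaf ((nat_lit 98), [nat_lit 3, nat_lit 1, nat_lit 2, nat_lit 1, nat_lit 0, nat_lit 1])) (.leaf ((nat_lit 47), [nat_lit 3, nat_lit 2, nat_lit 3, nat_lit 0, nat_lit 2, nat_lit 0, nat_lit 1, nat_lit 0, nat_lit 1]))))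
 (.node (nat_lit 1329) (.node (nat_lit 1328) (.leaf ((nat_lit 95), [nat_lit 2, nat_lit 3, nat_lit 1, nat_lit 2, nat_lit 0, nat_lit 1, nat_lit 0, nat_lit 1])) (.leaf ((nat_lit 480), [nat_lit 1, nat_lit 2, nat_lit 3, nat_lit 2, nat_lit 0, nat_lit 1, nat_lit 0, nat_lit 1, nat_lit 0]))) (.node (nat_lit 1330) (.leaf ((nat_lit 481), [nat_lit 1, nat_lit 2, nat_lit 0, nat_lit 1])) (.node (nat_lit 1331) (.leaf ((nat_lit 482), [nat_lit 3, nat_lit 1, nat_lit 3, nat_lit 0, nat_lit 2, nat_lit 0, nat_lit 1, nat_lit 0, nat_lit 1, nat_lit 0])) (.leaf ((nat_lit 483), [nat_lit 2, nat_lit 3, nat_lit 0, nat_lit 1, nat_lit 0, nat_lit 1]))))))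
 (.node (nat_lit 1336) (.node (nat_lit 1334) (.node (nat_lit 1333) (.leaf ((nat_lit 484), [nat_lit 2, nat_lit 3, nat_lit 1, nat_lit 2, nat_lit 1, nat_lit 0, nat_lit 1, nat_lit 0])) (.leaf ((nat_lit 362), [nat_lit 1, nat_lit 0, nat_lit 2]))) (.node (nat_lit 1335) (.leaf ((nat_lit 47), [nat_lit 2, nat_lit 1, nat_lit 3, nat_lit 2, nat_lit 0, nat_lit 2, nat_lit 1, nat_lit 0, nat_lit 1])) (.leaf ((nat_lit 279), [nat_lit 2, nat_lit 0, nat_lit 2]))))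
 (.node (nat_lit 1338) (.node (nat_lit 1337) (.leaf ((nat_lit 55), [nat_lit 3, nat_lit 2, nat_lit 3, nat_lit 1, nat_lit 0, nat_lit 2, nat_lit 0, nat_lit 1, nat_lit 0])) (.leaf ((nat_lit 485), [nat_lit 2, nat_lit 3, nat_lit 1, nat_lit 2, nat_lit 0, nat_lit 1, nat_lit 0]))) (.node (nat_lit 1339) (.leaf ((nat_lit 238), [nat_lit 3, nat_lit 1, nat_lit 3, nat_lit 0, nat_lit 2, nat_lit 1])) (.node (nat_lit 1340) (.leaf ((nat_lit 124), [nat_lit 3, nat_lit 2, nat_lit 3, nat_lit 1, nat_lit 0, nat_lit 2, nat_lit 1])) (.leaf ((nat_lit 284), [nat_lit 2, nat_lit 1, nat_lit 3, nat_lit 1, nat_lit 2, nat_lit 0, nat_lit 1, nat_lit 0])))))))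
 (.node (nat_lit 1350) (.node (nat_lit 1345) (.node (nat_lit 1343) (.node (nat_lit 1342) (.leaf ((nat_lit 486), [nat_lit 3, nat_lit 2, nat_lit 3, nat_lit 1, nat_lit 0, nat_lit 1])) (.leaf ((nat_lit 47), [nat_lit 3, nat_lit 1, nat_lit 2, nat_lit 3, nat_lit 2, nat_lit 0, nat_lit 1, nat_lit 0, nat_lit 1, nat_lit 0]))) (.node (nat_lit 1344) (.leaf ((nat_lit 191), [nat_lit 0, nat_lit 2, nat_lit 0])) (.leaf ((nat_lit 54), [nat_lit 0, nat_lit 1, nat_lit 2, nat_lit 3, nat_lit 1, nat_lit 2, nat_lit 1, nat_lit 0, nat_lit 1, nat_lit 0]))))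
 (.node (nat_lit 1347) (.node (nat_lit 1346) (.leaf ((nat_lit 49), [nat_lit 3])) (.leaf ((nat_lit 60), [nat_lit 0, nat_lit 1, nat_lit 2, nat_lit 3]))) (.node (nat_lit 1348) (.leaf ((nat_lit 206), [nat_lit 2, nat_lit 3, nat_lit 2, nat_lit 0, nat_lit 1])) (.node (nat_lit 1349) (.leaf ((nat_lit 297), [nat_lit 2, nat_lit 3])) (.leaf ((nat_lit 167), [nat_lit 0, nat_lit 1, nat_lit 2, nat_lit 3, nat_lit 2, nat_lit 1]))))))
 (.node (nat_lit 1354) (.node (nat_lit 1352) (.node (nat_lit 1351) (.leaf ((nat_lit 487), [nat_lit 1, nat_lit 2, nat_lit 3, nat_lit 2, nat_lit 0, nat_lit 1])) (.leaf ((nat_lit 206), [nat_lit 0, nat_lit 1, nat_lit 3, nat_lit 2, nat_lit 0, nat_lit 2]))) (.node (nat_lit 1353) (.leaf ((nat_lit 474), [nat_lit 3, nat_lit 2, nat_lit 3, nat_lit 2, nat_lit 0, nat_lit 2, nat_lit 1, nat_lit 0, nat_lit 1])) (.leaf ((nat_lit 49), [nat_lit 2, nat_lit 3, nat_lit 2,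 nat_lit 0, nat_lit 1, nat_lit 0, nat_lit 1, nat_lit 0]))))
 (.node (nat_lit 1356) (.node (nat_lit 1355) (.leaf ((nat_lit 244), [nat_lit 1, nat_lit 3, nat_lit 2, nat_lit 0, nat_lit 1])) (.leaf ((nat_lit 193), [nat_lit 1, nat_lit 0, nat_lit 2, nat_lit 0, nat_lit 1, nat_lit 0, nat_lit 1, nat_lit 0]))) (.node (nat_lit 1357) (.leaf ((nat_lit 433), [nat_lit 1, nat_lit 2, nat_lit 3, nat_lit 0, nat_lit 2, nat_lit 1, nat_lit 0])) (.node (nat_lit 1358) (.leaf ((nat_lit 353), [nat_lit 0, nat_lit 1, nat_lit 3, nat_lit 1, nat_lit 0, nat_lit 1, nat_lit 0])) (.leaf ((nat_lit 245), [nat_lit 1, nat_lit 2, nat_lit 3, nat_lit 1, nat_lit 0, nat_lit 1]))))))))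
 (.node (nat_lit 1377) (.node (nat_lit 1368) (.node (nat_lit 1363) (.node (nat_lit 1361) (.node (nat_lit 1360) (.leaf ((nat_lit 214), [nat_lit 2, nat_lit 1, nat_lit 3, nat_lit 1, nat_lit 0, nat_lit 2, nat_lit 0, nat_lit 1, nat_lit 0, nat_lit 1, nat_lit 0])) (.leaf ((nat_lit 244), [nat_lit 3, nat_lit 1, nat_lit 2, nat_lit 3, nat_lit 2]))) (.node (nat_lit 1362) (.leaf ((nat_lit 49), [nat_lit 2, nat_lit 1, nat_lit 3, nat_lit 2, nat_lit 0, nat_lit 1, nat_lit 0])) (.leaf ((nat_lit 163), [nat_lit 2, nat_lit 3, nat_lit 2, nat_lit 0, nat_lit 2, nat_lit 1, nat_lit 0]))))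
 (.node (nat_lit 1365) (.node (nat_lit 1364) (.leaf ((nat_lit 122), [nat_lit 3, nat_lit 1, nat_lit 2, nat_lit 3, nat_lit 1, nat_lit 2, nat_lit 0, nat_lit 1, nat_lit 0, nat_lit 1])) (.leaf ((nat_lit 488), [nat_lit 3, nat_lit 1, nat_lit 2, nat_lit 3, nat_lit 1, nat_lit 2]))) (.node (nat_lit 1366) (.leaf ((nat_lit 354), [nat_lit 1, nat_lit 3, nat_lit 1, nat_lit 2, nat_lit 1, nat_lit 0])) (.node (nat_lit 1367) (.leaf ((nat_lit 110), [nat_lit 3, nat_lit 1, nat_lit 2, nat_lit 3, nat_lit 1, nat_lit 2, nat_lit 0, nat_lit 1, nat_lit 0])) (.leaf ((nat_lit 434), [nat_lit 2, nat_lit 3, nat_lit 2, nat_lit 0, nat_lit 2]))))))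
 (.node (nat_lit 1372) (.node (nat_lit 1370) (.node (nat_lit 1369) (.leaf ((nat_lit 134), [nat_lit 2, nat_lit 0, nat_lit 2, nat_lit 0])) (.leaf ((nat_lit 89), [nat_lit 2, nat_lit 3, nat_lit 2, nat_lit 0, nat_lit 2]))) (.node (nat_lit 1371) (.leaf ((nat_lit 49), [nat_lit 3, nat_lit 1, nat_lit 2, nat_lit 3, nat_lit 0, nat_lit 2, nat_lit 1])) (.leaf ((nat_lit 98), [nat_lit 3, nat_lit 1, nat_lit 3, nat_lit 2, nat_lit 0, nat_lit 1]))))
 (.node (nat_lit 1374) (.node (nat_lit 1373) (.leaf ((nat_lit 70), [nat_lit 3, nat_lit 1, nat_lit 0, nat_lit 2])) (.leaf ((nat_lit 55), [nat_lit 3, nat_lit 1, nat_lit 2, nat_lit 3, nat_lit 1, nat_lit 0, nat_lit 2, nat_lit 0]))) (.node (nat_lit 1375) (.leaf ((nat_lit 68), [nat_lit 0, nat_lit 1, nat_lit 3, nat_lit 2, nat_lit 0, nat_lit 2, nat_lit 0, nat_lit 1, nat_lit 0, nat_lit 1])) (.node (nat_lit 1376) (.leaf ((nat_lit 204), [nat_lit 0,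 nat_lit 1, nat_lit 3, nat_lit 0, nat_lit 2, nat_lit 1, nat_lit 0, nat_lit 1])) (.leaf ((nat_lit 54), [nat_lit 0, nat_lit 1, nat_lit 2, nat_lit 3, nat_lit 2, nat_lit 0, nat_lit 1, nat_lit 0])))))))
 (.node (nat_lit 1386) (.node (nat_lit 1381) (.node (nat_lit 1379) (.node (nat_lit 1378) (.leaf ((nat_lit 257), [nat_lit 3, nat_lit 1, nat_lit 3, nat_lit 0, nat_lit 2, nat_lit 1])) (.leaf ((nat_lit 49), [nat_lit 0, nat_lit 1, nat_lit 2, nat_lit 3, nat_lit 1, nat_lit 0]))) (.node (nat_lit 1380) (.leaf ((nat_lit 142), [nat_lit 2, nat_lit 3, nat_lit 0, nat_lit 2, nat_lit 0, nat_lit 1, nat_lit 0])) (.leaf ((nat_lit 50), [nat_lit 3, nat_lit 1, nat_lit 2, nat_lit 3, nat_lit 1, nat_lit 0]))))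
 (.node (nat_lit 1383) (.node (nat_lit 1382) (.leaf ((nat_lit 489), [nat_lit 2, nat_lit 1, nat_lit 3, nat_lit 0, nat_lit 1, nat_lit 0, nat_lit 1, nat_lit 0])) (.leaf ((nat_lit 490), [nat_lit 3, nat_lit 1, nat_lit 2, nat_lit 0, nat_lit 1]))) (.node (nat_lit 1384) (.leaf ((nat_lit 394), [nat_lit 3, nat_lit 1, nat_lit 3, nat_lit 2, nat_lit 0, nat_lit 2, nat_lit 1, nat_lit 0])) (.node (nat_lit 1385) (.leaf ((nat_lit 298), [nat_lit 3, nat_lit 1, nat_lit 2, nat_lit 3, nat_lit 1, nat_lit 0, nat_lit 2, nat_lit 1, nat_lit 0, nat_lit 1, nat_lit 0])) (.leaf ((nat_lit 398), [nat_lit 0, nat_lit 1, nat_lit 3, nat_lit 1, nat_lit 2, nat_lit 0, nat_lit 1, nat_lit 0]))))))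
 (.node (nat_lit 1391) (.node (nat_lit 1388) (.node (nat_lit 1387) (.leaf ((nat_lit 320), [nat_lit 2, nat_lit 1])) (.leaf ((nat_lit 92), [nat_lit 2, nat_lit 1, nat_lit 3, nat_lit 0, nat_lit 2, nat_lit 0, nat_lit 1, nat_lit 0]))) (.node (nat_lit 1389) (.leaf ((nat_lit 142), [nat_lit 1, nat_lit 2, nat_lit 3, nat_lit 0, nat_lit 2, nat_lit 0, nat_lit 1, nat_lit 0, nat_lit 1])) (.node (nat_lit 1390) (.leaf ((nat_lit 211), [nat_lit 0, nat_lit 1, nat_lit 2, nat_lit 3, nat_lit 1, nat_lit 0, nat_lit 2, nat_lit 1])) (.leaf ((nat_lit 50), [nat_lit 2, nat_lit 3, nat_lit 0, nat_lit 2, nat_lit 0, nat_lit 1, nat_lit 0, nat_lit 1])))))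
 (.node (nat_lit 1393) (.node (nat_lit 1392) (.leaf ((nat_lit 89), [nat_lit 3, nat_lit 1, nat_lit 2, nat_lit 3, nat_lit 1, nat_lit 2, nat_lit 0])) (.leaf ((nat_lit 252), [nat_lit 3, nat_lit 2, nat_lit 0, nat_lit 2, nat_lit 0, nat_lit 1, nat_lit 0]))) (.node (nat_lit 1394) (.leaf ((nat_lit 200), [nat_lit 1, nat_lit 3, nat_lit 1, nat_lit 0, nat_lit 2, nat_lit 1, nat_lit 0, nat_lit 1])) (.node (nat_lit 1395) (.leaf ((nat_lit 51), [nat_lit 3, nat_lit 2, nat_lit 0, nat_lit 2, nat_lit 1, nat_lit 0, nat_lit 1])) (.leaf ((nat_lit 112), [nat_lit 2, nat_lit 1, nat_lit 3, nat_lit 2, nat_lit 0, nat_lit 2, nat_lit 0])))))))))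
 (.node (nat_lit 1433) (.node (nat_lit 1414) (.node (nat_lit 1405) (.node (nat_lit 1400) (.node (nat_lit 1398) (.node (nat_lit 1397) (.leaf ((nat_lit 59), [nat_lit 3, nat_lit 1, nat_lit 0, nat_lit 2, nat_lit 1, nat_lit 0, nat_lit 1, nat_lit 0])) (.leaf ((nat_lit 470), [nat_lit 2, nat_lit 3, nat_lit 2, nat_lit 0]))) (.node (nat_lit 1399) (.leaf ((nat_lit 392), [nat_lit 0, nat_lit 1, nat_lit 2, nat_lit 3, nat_lit 1, nat_lit 0, nat_lit 2])) (.leaf ((nat_lit 125), [nat_lit 2, nat_lit 1, nat_lit 3, nat_lit 2, nat_lit 0, nat_lit 2, nat_lit 1, nat_lit 0]))))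
 (.node (nat_lit 1402) (.node (nat_lit 1401) (.leaf ((nat_lit 51), [nat_lit 2, nat_lit 1, nat_lit 3, nat_lit 1, nat_lit 0, nat_lit 1, nat_lit 0])) (.leaf ((nat_lit 199), [nat_lit 3, nat_lit 1, nat_lit 2, nat_lit 3, nat_lit 2, nat_lit 0, nat_lit 2, nat_lit 0]))) (.node (nat_lit 1403) (.leaf ((nat_lit 200), [nat_lit 1, nat_lit 2, nat_lit 3, nat_lit 0, nat_lit 2, nat_lit 1, nat_lit 0, nat_lit 1, nat_lit 0])) (.node (nat_lit 1404) (.leaf ((nat_lit 491), [nat_lit 0, nat_lit 1, nat_lit 3, nat_lit 2, nat_lit 0, nat_lit 1, nat_lit 0])) (.leaf ((nat_lit 209), [nat_lit 1, nat_lit 2, nat_lit 3, nat_lit 1, nat_lit 2, nat_lit 0, nat_lit 1, nat_lit 0]))))))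
 (.node (nat_lit 1409) (.node (nat_lit 1407) (.node (nat_lit 1406) (.leaf ((nat_lit 94), [nat_lit 2, nat_lit 1, nat_lit 3, nat_lit 0, nat_lit 1, nat_lit 0, nat_lit 1])) (.leaf ((nat_lit 99), [nat_lit 1, nat_lit 3, nat_lit 0, nat_lit 2, nat_lit 0]))) (.node (nat_lit 1408) (.leaf ((nat_lit 112), [nat_lit 3, nat_lit 2, nat_lit 3, nat_lit 2, nat_lit 0, nat_lit 2, nat_lit 0, nat_lit 1])) (.leaf ((nat_lit 357), [nat_lit 1, nat_lit 0, nat_lit 2, nat_lit 0]))))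
 (.node (nat_lit 1411) (.node (nat_lit 1410) (.leaf ((nat_lit 51), [nat_lit 0, nat_lit 1, nat_lit 0, nat_lit 1, nat_lit 0])) (.leaf ((nat_lit 215), [nat_lit 3, nat_lit 1, nat_lit 3, nat_lit 2, nat_lit 0, nat_lit 2, nat_lit 0, nat_lit 1, nat_lit 0, nat_lit 1]))) (.node (nat_lit 1412) (.leaf ((nat_lit 378), [nat_lit 0, nat_lit 1, nat_lit 2, nat_lit 3, nat_lit 1, nat_lit 0, nat_lit 2, nat_lit 1, nat_lit 0])) (.node (nat_lit 1413) (.leaf ((nat_lit 125), [nat_lit 3, nat_lit 1, nat_lit 2, nat_lit 3, nat_lit 1, nat_lit 0, nat_lit 2, nat_lit 1, nat_lit 0, nat_lit 1])) (.leaf ((nat_lit 492), [nat_lit 1, nat_lit 2, nat_lit 0, nat_lit 1, nat_lit 0, nat_lit 1])))))))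
 (.node (nat_lit 1423) (.node (nat_lit 1418) (.node (nat_lit 1416) (.node (nat_lit 1415) (.leaf ((nat_lit 216), [nat_lit 3, nat_lit 1, nat_lit 2, nat_lit 3, nat_lit 0, nat_lit 1, nat_lit 0, nat_lit 1, nat_lit 0])) (.leaf ((nat_lit 388), [nat_lit 3, nat_lit 2, nat_lit 0, nat_lit 2]))) (.node (nat_lit 1417) (.leaf ((nat_lit 215), [nat_lit 1, nat_lit 3, nat_lit 1, nat_lit 2, nat_lit 0, nat_lit 1, nat_lit 0, nat_lit 1, nat_lit 0])) (.leaf ((nat_lit 51), [nat_lit 3, nat_lit 2, nat_lit 3, nat_lit 2, nat_lit 0, nat_lit 2, nat_lit 0, nat_lit 1]))))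
 (.node (nat_lit 1420) (.node (nat_lit 1419) (.leaf ((nat_lit 118), [nat_lit 3, nat_lit 1, nat_lit 2, nat_lit 1, nat_lit 0])) (.leaf ((nat_lit 397), [nat_lit 1, nat_lit 2, nat_lit 3, nat_lit 1, nat_lit 0, nat_lit 2, nat_lit 1]))) (.node (nat_lit 1421) (.leaf ((nat_lit 362), [nat_lit 1, nat_lit 3, nat_lit 2, nat_lit 1])) (.node (nat_lit 1422) (.leaf ((nat_lit 434), [nat_lit 3, nat_lit 1, nat_lit 2, nat_lit 3, nat_lit 1, nat_lit 2, nat_lit 1, nat_lit 0, nat_lit 1])) (.leaf ((nat_lit 491), [nat_lit 0, nat_lit 1, nat_lit 3, nat_lit 2, nat_lit 0]))))))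
 (.node (nat_lit 1428) (.node (nat_lit 1425) (.node (nat_lit 1424) (.leaf ((nat_lit 110), [nat_lit 1, nat_lit 3, nat_lit 0, nat_lit 2, nat_lit 1, nat_lit 0, nat_lit 1])) (.leaf ((nat_lit 109), [nat_lit 3, nat_lit 2, nat_lit 3, nat_lit 1, nat_lit 0, nat_lit 2, nat_lit 1, nat_lit 0, nat_lit 1, nat_lit 0]))) (.node (nat_lit 1426) (.leaf ((nat_lit 51), [nat_lit 0, nat_lit 1, nat_lit 3, nat_lit 1, nat_lit 2, nat_lit 0, nat_lit 1, nat_lit 0, nat_lit 1, nat_lit 0])) (.node (nat_lit 1427) (.leaf ((nat_lit 321), [nat_lit 2, nat_lit 3, nat_lit 2, nat_lit 0, nat_lit 1])) (.leaf ((nat_lit 54), [nat_lit 0, nat_lit 1, nat_lit 2, nat_lit 3, nat_lit 1, nat_lit 0, nat_lit 2, nat_lit 0])))))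
 (.node (nat_lit 1430) (.node (nat_lit 1429) (.leaf ((nat_lit 60), [nat_lit 0, nat_lit 1, nat_lit 2, nat_lit 3, nat_lit 0, nat_lit 2, nat_lit 0, nat_lit 1, nat_lit 0, nat_lit 1])) (.leaf ((nat_lit 219), [nat_lit 3, nat_lit 1, nat_lit 2, nat_lit 3, nat_lit 2, nat_lit 0]))) (.node (nat_lit 1431) (.leaf ((nat_lit 52), [nat_lit 0, nat_lit 1, nat_lit 2, nat_lit 3, nat_lit 1, nat_lit 0, nat_lit 2])) (.node (nat_lit 1432) (.leaf ((nat_lit 196), [nat_lit 0, nat_lit 1, nat_lit 2, nat_lit 3, nat_lit 2, nat_lit 0, nat_lit 2, nat_lit 1, nat_lit 0, nat_lit 1, nat_lit 0])) (.leaf ((nat_lit 341), [nat_lit 3, nat_lit 1, nat_lit 2, nat_lit 3, nat_lit 2, nat_lit 0, nat_lit 2, nat_lit 1]))))))))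
 (.node (nat_lit 1451) (.node (nat_lit 1442) (.node (nat_lit 1437) (.node (nat_lit 1435) (.node (nat_lit 1434) (.leaf ((nat_lit 154), [nat_lit 0, nat_lit 1, nat_lit 3, nat_lit 1, nat_lit 0, nat_lit 2, nat_lit 1, nat_lit 0])) (.leaf ((nat_lit 493), [nat_lit 1, nat_lit 2, nat_lit 0, nat_lit 1, nat_lit 0, nat_lit 1]))) (.node (nat_lit 1436) (.leaf ((nat_lit 169), [nat_lit 3, nat_lit 1, nat_lit 2, nat_lit 3, nat_lit 2])) (.leaf ((nat_lit 336), [nat_lit 0, nat_lit 1, nat_lit 2, nat_lit 3, nat_lit 0, nat_lit 1]))))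
 (.node (nat_lit 1439) (.node (nat_lit 1438) (.leaf ((nat_lit 494), [nat_lit 1, nat_lit 2, nat_lit 3, nat_lit 2, nat_lit 0, nat_lit 1, nat_lit 0, nat_lit 1])) (.leaf ((nat_lit 77), [nat_lit 1, nat_lit 3, nat_lit 0, nat_lit 2, nat_lit 1, nat_lit 0, nat_lit 1, nat_lit 0]))) (.node (nat_lit 1440) (.leaf ((nat_lit 495), [nat_lit 0, nat_lit 1, nat_lit 2, nat_lit 3, nat_lit 0, nat_lit 1, nat_lit 0, nat_lit 1])) (.node (nat_lit 1441) (.leaf ((nat_lit 205), [nat_lit 3, nat_lit 1, nat_lit 2, nat_lit 3, nat_lit 0, nat_lit 2, nat_lit 1, nat_lit 0, nat_lit 1, nat_lit 0])) (.leaf ((nat_lit 52), [nat_lit 3, nat_lit 1, nat_lit 3, nat_lit 2, nat_lit 1, nat_lit 0, nat_lit 1]))))))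
 (.node (nat_lit 1446) (.node (nat_lit 1444) (.node (nat_lit 1443) (.leaf ((nat_lit 474), [nat_lit 3, nat_lit 1, nat_lit 0, nat_lit 2, nat_lit 1])) (.leaf ((nat_lit 193), [nat_lit 1, nat_lit 3, nat_lit 0, nat_lit 1, nat_lit 0]))) (.node (nat_lit 1445) (.leaf ((nat_lit 53), [nat_lit 0, nat_lit 1, nat_lit 2, nat_lit 3, nat_lit 1, nat_lit 2, nat_lit 0, nat_lit 1, nat_lit 0, nat_lit 1])) (.leaf ((nat_lit 192), [nat_lit 3, nat_lit 1, nat_lit 3, nat_lit 0, nat_lit 1, nat_lit 0]))))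
 (.node (nat_lit 1448) (.node (nat_lit 1447) (.leaf ((nat_lit 117), [nat_lit 3, nat_lit 1, nat_lit 2, nat_lit 3, nat_lit 2, nat_lit 0, nat_lit 2, nat_lit 0, nat_lit 1, nat_lit 0, nat_lit 1])) (.leaf ((nat_lit 112), [nat_lit 3, nat_lit 1, nat_lit 2, nat_lit 3, nat_lit 0, nat_lit 2, nat_lit 0, nat_lit 1]))) (.node (nat_lit 1449) (.leaf ((nat_lit 116), [nat_lit 2, nat_lit 1, nat_lit 3, nat_lit 0, nat_lit 2, nat_lit 0, nat_lit 1, nat_lit 0, nat_lit 1, nat_lit 0])) (.node (nat_lit 1450) (.leaf ((nat_lit 438), [nat_lit 1, nat_lit 3, nat_lit 1, nat_lit 0, nat_lit 2, nat_lit 1, nat_lit 0, nat_lit 1, nat_lit 0])) (.leaf ((nat_lit 496), [nat_lit 0, nat_lit 1, nat_lit 3, nat_lit 2, nat_lit 0, nat_lit 2, nat_lit 0, nat_lit 1, nat_lit 0, nat_lit 1, nat_lit 0])))))))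
 (.node (nat_lit 1460) (.node (nat_lit 1455) (.node (nat_lit 1453) (.node (nat_lit 1452) (.leaf ((nat_lit 392), [nat_lit 1, nat_lit 2, nat_lit 3, nat_lit 1, nat_lit 2, nat_lit 0, nat_lit 1, nat_lit 0])) (.leaf ((nat_lit 448), [nat_lit 1, nat_lit 3, nat_lit 0, nat_lit 1, nat_lit 0]))) (.node (nat_lit 1454) (.leaf ((nat_lit 497), [nat_lit 3, nat_lit 1, nat_lit 3, nat_lit 0, nat_lit 2, nat_lit 0])) (.leaf ((nat_lit 53), [nat_lit 2, nat_lit 3, nat_lit 2, nat_lit 0, nat_lit 2, nat_lit 0, nat_lit 1, nat_lit 0]))))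
 (.node (nat_lit 1457) (.node (nat_lit 1456) (.leaf ((nat_lit 498), [nat_lit 3, nat_lit 1, nat_lit 3, nat_lit 2, nat_lit 0, nat_lit 2, nat_lit 0, nat_lit 1, nat_lit 0, nat_lit 1, nat_lit 0])) (.leaf ((nat_lit 244), [nat_lit 3, nat_lit 2, nat_lit 3, nat_lit 1, nat_lit 0, nat_lit 2, nat_lit 0, nat_lit 1, nat_lit 0]))) (.node (nat_lit 1458) (.leaf ((nat_lit 69), [nat_lit 3, nat_lit 1, nat_lit 0, nat_lit 2, nat_lit 0, nat_lit 1, nat_lit 0])) (.node (nat_lit 1459) (.leaf ((nat_lit 55), [nat_lit 3, nat_lit 0, nat_lit 2, nat_lit 1, nat_lit 0, nat_lit 1])) (.leaf ((nat_lit 54), [nat_lit 0, nat_lit 1, nat_lit 2, nat_lit 3, nat_lit 0, nat_lit 2, nat_lit 1]))))))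
 (.node (nat_lit 1465) (.node (nat_lit 1462) (.node (nat_lit 1461) (.leaf ((nat_lit 183), [nat_lit 2, nat_lit 3, nat_lit 2, nat_lit 1])) (.leaf ((nat_lit 382), [nat_lit 3, nat_lit 2, nat_lit 3, nat_lit 2, nat_lit 1]))) (.node (nat_lit 1463) (.leaf ((nat_lit 208), [nat_lit 1, nat_lit 2, nat_lit 3, nat_lit 0, nat_lit 2, nat_lit 1, nat_lit 0, nat_lit 1, nat_lit 0])) (.node (nat_lit 1464) (.leaf ((nat_lit 499), [nat_lit 0, nat_lit 1, nat_lit 2, nat_lit 3, nat_lit 0, nat_lit 2])) (.leaf ((nat_lit 300), [nat_lit 0, nat_lit 1, nat_lit 2, nat_lit 3, nat_lit 2, nat_lit 0, nat_lit 2, nat_lit 1])))))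
 (.node (nat_lit 1467) (.node (nat_lit 1466) (.leaf ((nat_lit 249), [nat_lit 0, nat_lit 1, nat_lit 0, nat_lit 1, nat_lit 0])) (.leaf ((nat_lit 366), [nat_lit 1, nat_lit 2, nat_lit 3, nat_lit 2, nat_lit 0, nat_lit 2, nat_lit 0, nat_lit 1, nat_lit 0, nat_lit 1, nat_lit 0]))) (.node (nat_lit 1468) (.leaf ((nat_lit 200), [nat_lit 0, nat_lit 1, nat_lit 2, nat_lit 3, nat_lit 0, nat_lit 2, nat_lit 1])) (.node (nat_lit 1469) (.leaf ((nat_lit 54), [nat_lit 3, nat_lit 1, nat_lit 3, nat_lit 1, nat_lit 0, nat_lit 2, nat_lit 1])) (.leaf ((nat_lit 287), [nat_lit 2, nat_lit 3, nat_lit 1, nat_lit 0, nat_lit 2]))))))))))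
noncomputable def bWd_10 : Tr (ℕ × List ℕ) := (.node (nat_lit 1543) (.node (nat_lit 1506) (.node (nat_lit 1488) (.node (nat_lit 1479) (.node (nat_lit 1474) (.node (nat_lit 1472) (.node (nat_lit 1471) (.leaf ((nat_lit 93), [nat_lit 3, nat_lit 0, nat_lit 1, nat_lit 0])) (.leaf ((nat_lit 56), [nat_lit 2, nat_lit 1, nat_lit 3, nat_lit 2, nat_lit 0, nat_lit 2, nat_lit 0, nat_lit 1, nat_lit 0, nat_lit 1, nat_lit 0]))) (.node (nat_lit 1473) (.leaf ((nat_lit 415), [nat_lit 0, nat_lit 1, nat_lit 2, nat_lit 3, nat_lit 0, nat_lit 2, nat_lit 1])) (.leaf ((nat_lit 415), [nat_lit 0, nat_lit 1, nat_lit 3, nat_lit 0, nat_lit 2, nat_lit 1]))))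
 (.node (nat_lit 1476) (.node (nat_lit 1475) (.leaf ((nat_lit 367), [nat_lit 1, nat_lit 3, nat_lit 0])) (.leaf ((nat_lit 500), [nat_lit 3, nat_lit 2, nat_lit 3, nat_lit 0, nat_lit 2, nat_lit 0, nat_lit 1, nat_lit 0, nat_lit 1]))) (.node (nat_lit 1477) (.leaf ((nat_lit 242), [nat_lit 1, nat_lit 2, nat_lit 0, nat_lit 1, nat_lit 0])) (.node (nat_lit 1478) (.leaf ((nat_lit 94), [nat_lit 2, nat_lit 0, nat_lit 2, nat_lit 0])) (.leaf ((nat_lit 324), [nat_lit 0, nat_lit 1, nat_lit 3, nat_lit 1, nat_lit 2, nat_lit 0]))))))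
 (.node (nat_lit 1483) (.node (nat_lit 1481) (.node (nat_lit 1480) (.leaf ((nat_lit 56), [nat_lit 1, nat_lit 0])) (.leaf ((nat_lit 198), [nat_lit 3, nat_lit 2, nat_lit 3, nat_lit 2, nat_lit 0, nat_lit 2, nat_lit 0, nat_lit 1, nat_lit 0, nat_lit 1, nat_lit 0]))) (.node (nat_lit 1482) (.leaf ((nat_lit 496), [nat_lit 1, nat_lit 2, nat_lit 3, nat_lit 1, nat_lit 0, nat_lit 2, nat_lit 1, nat_lit 0, nat_lit 1])) (.leaf ((nat_lit 249), [nat_lit 1, nat_lit 3, nat_lit 1, nat_lit 2, nat_lit 1, nat_lit 0, nat_lit 1]))))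
 (.node (nat_lit 1485) (.node (nat_lit 1484) (.leaf ((nat_lit 457), [nat_lit 3, nat_lit 1, nat_lit 2, nat_lit 3, nat_lit 0, nat_lit 2, nat_lit 0])) (.leaf ((nat_lit 102), [nat_lit 3, nat_lit 2, nat_lit 3, nat_lit 2, nat_lit 0, nat_lit 2, nat_lit 0, nat_lit 1, nat_lit 0, nat_lit 1]))) (.node (nat_lit 1486) (.leaf ((nat_lit 343), [nat_lit 3, nat_lit 1, nat_lit 3, nat_lit 1, nat_lit 2])) (.node (nat_lit 1487) (.leaf ((nat_lit 501), [nat_lit 0, nat_lit 1, nat_lit 3, nat_lit 1, nat_lit 0, nat_lit 2, nat_lit 1, nat_lit 0, nat_lit 1])) (.leaf ((nat_lit 343), [nat_lit 2, nat_lit 3, nat_lit 0, nat_lit 2, nat_lit 0, nat_lit 1, nat_lit 0, nat_lit 1])))))))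
 (.node (nat_lit 1497) (.node (nat_lit 1492) (.node (nat_lit 1490) (.node (nat_lit 1489) (.leaf ((nat_lit 56), [nat_lit 3, nat_lit 1, nat_lit 3, nat_lit 2, nat_lit 0, nat_lit 1])) (.leaf ((nat_lit 59), [nat_lit 1, nat_lit 0, nat_lit 2]))) (.node (nat_lit 1491) (.leaf ((nat_lit 212), [nat_lit 1])) (.leaf ((nat_lit 259), [nat_lit 0, nat_lit 2, nat_lit 1]))))
 (.node (nat_lit 1494) (.node (nat_lit 1493) (.leaf ((nat_lit 74), [nat_lit 0, nat_lit 1, nat_lit 3, nat_lit 1, nat_lit 2, nat_lit 1])) (.leaf ((nat_lit 343), [nat_lit 2, nat_lit 3, nat_lit 1, nat_lit 2, nat_lit 0, nat_lit 1]))) (.node (nat_lit 1495) (.leaf ((nat_lit 501), [nat_lit 0, nat_lit 1, nat_lit 3, nat_lit 2, nat_lit 0])) (.node (nat_lit 1496) (.leaf ((nat_lit 213), [nat_lit 0, nat_lit 2, nat_lit 1, nat_lit 0, nat_lit 1, nat_lit 0])) (.leaf ((nat_lit 60), [nat_lit 1, nat_lit 2, nat_lit 3, nat_lit 1, nat_lit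 0, nat_lit 2, nat_lit 1, nat_lit 0]))))))
 (.node (nat_lit 1501) (.node (nat_lit 1499) (.node (nat_lit 1498) (.leaf ((nat_lit 56), [nat_lit 3, nat_lit 1, nat_lit 3, nat_lit 0, nat_lit 2, nat_lit 1, nat_lit 0, nat_lit 1, nat_lit 0])) (.leaf ((nat_lit 194), [nat_lit 0, nat_lit 1, nat_lit 3, nat_lit 0, nat_lit 2, nat_lit 0]))) (.node (nat_lit 1500) (.leaf ((nat_lit 245), [nat_lit 2, nat_lit 1, nat_lit 3, nat_lit 1, nat_lit 0, nat_lit 2, nat_lit 1, nat_lit 0])) (.leaf ((nat_lit 67), [nat_lit 3, nat_lit 2, nat_lit 3, nat_lit 1, nat_lit 0, nat_lit 2, nat_lit 0, nat_lit 1, nat_lit 0, nat_lit 1]))))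
 (.node (nat_lit 1503) (.node (nat_lit 1502) (.leaf ((nat_lit 474), [nat_lit 2, nat_lit 3, nat_lit 1, nat_lit 2, nat_lit 1, nat_lit 0, nat_lit 1, nat_lit 0])) (.leaf ((nat_lit 288), [nat_lit 3, nat_lit 1, nat_lit 2, nat_lit 3, nat_lit 0, nat_lit 1, nat_lit 0, nat_lit 1, nat_lit 0]))) (.node (nat_lit 1504) (.leaf ((nat_lit 314), [nat_lit 3, nat_lit 2, nat_lit 0, nat_lit 2, nat_lit 0, nat_lit 1, nat_lit 0, nat_lit 1])) (.node (nat_lit 1505) (.leaf ((nat_lit 57), [nat_lit 1, nat_lit 2, nat_lit 3, nat_lit 1, nat_lit 0, nat_lit 2, nat_lit 0, nat_lit 1, nat_lit 0, nat_lit 1])) (.leaf ((nat_lit 134), [nat_lit 3, nat_lit 1, nat_lit 2, nat_lit 3, nat_lit 1, nat_lit 2, nat_lit 1, nat_lit 0]))))))))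
 (.node (nat_lit 1524) (.node (nat_lit 1515) (.node (nat_lit 1510) (.node (nat_lit 1508) (.node (nat_lit 1507) (.leaf ((nat_lit 58), [nat_lit 2, nat_lit 0, nat_lit 1, nat_lit 0])) (.leaf ((nat_lit 202), [nat_lit 1, nat_lit 2, nat_lit 3, nat_lit 1, nat_lit 0, nat_lit 2, nat_lit 0, nat_lit 1, nat_lit 0, nat_lit 1]))) (.node (nat_lit 1509) (.leaf ((nat_lit 201), [nat_lit 0, nat_lit 1, nat_lit 3, nat_lit 2, nat_lit 0, nat_lit 1])) (.leaf ((nat_lit 119), [nat_lit 1, nat_lit 2, nat_lit 3, nat_lit 0, nat_lit 2, nat_lit 1]))))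
 (.node (nat_lit 1512) (.node (nat_lit 1511) (.leaf ((nat_lit 179), [nat_lit 3, nat_lit 1, nat_lit 2, nat_lit 3, nat_lit 1])) (.leaf ((nat_lit 495), [nat_lit 1, nat_lit 3, nat_lit 2, nat_lit 0, nat_lit 2, nat_lit 0, nat_lit 1]))) (.node (nat_lit 1513) (.leaf ((nat_lit 388), [nat_lit 3, nat_lit 1, nat_lit 2, nat_lit 3, nat_lit 1, nat_lit 0, nat_lit 2, nat_lit 1, nat_lit 0, nat_lit 1])) (.node (nat_lit 1514) (.leaf ((nat_lit 202), [nat_lit 1, nat_lit 2, nat_lit 3, nat_lit 1, nat_lit 0, nat_lit 2, nat_lit 1, nat_lit 0])) (.leaf ((nat_lit 134), [nat_lit 3, nat_lit 1, nat_lit 3, nat_lit 0, nat_lit 2, nat_lit 0, nat_lit 1, nat_lit 0, nat_lit 1]))))))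
 (.node (nat_lit 1519) (.node (nat_lit 1517) (.node (nat_lit 1516) (.leaf ((nat_lit 434), [nat_lit 3, nat_lit 2, nat_lit 3, nat_lit 0, nat_lit 2, nat_lit 0, nat_lit 1, nat_lit 0])) (.leaf ((nat_lit 58), [nat_lit 2, nat_lit 1, nat_lit 3, nat_lit 0, nat_lit 2, nat_lit 0, nat_lit 1, nat_lit 0, nat_lit 1, nat_lit 0]))) (.node (nat_lit 1518) (.leaf ((nat_lit 358), [nat_lit 3, nat_lit 2, nat_lit 0, nat_lit 2, nat_lit 0, nat_lit 1, nat_lit 0])) (.leaf ((nat_lit 115), [nat_lit 1, nat_lit 2, nat_lit 3]))))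
 (.node (nat_lit 1521) (.node (nat_lit 1520) (.leaf ((nat_lit 109), [nat_lit 0, nat_lit 1, nat_lit 2, nat_lit 3, nat_lit 2, nat_lit 0, nat_lit 1, nat_lit 0, nat_lit 1])) (.leaf ((nat_lit 59), [nat_lit 3, nat_lit 2, nat_lit 3, nat_lit 1, nat_lit 0, nat_lit 2, nat_lit 1, nat_lit 0]))) (.node (nat_lit 1522) (.leaf ((nat_lit 217), [nat_lit 2, nat_lit 1, nat_lit 3, nat_lit 0, nat_lit 2, nat_lit 0])) (.node (nat_lit 1523) (.leaf ((nat_lit 388), [nat_lit 3, nat_lit 2, nat_lit 3, nat_lit 1])) (.leaf ((nat_lit 223), [nat_lit 2, nat_lit 3, nat_lit 0, nat_lit 2, nat_lit 1])))))))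
 (.node (nat_lit 1533) (.node (nat_lit 1528) (.node (nat_lit 1526) (.node (nat_lit 1525) (.leaf ((nat_lit 502), [nat_lit 1, nat_lit 2, nat_lit 3, nat_lit 2, nat_lit 1, nat_lit 0, nat_lit 1, nat_lit 0])) (.leaf ((nat_lit 326), [nat_lit 0, nat_lit 1, nat_lit 2, nat_lit 3, nat_lit 1, nat_lit 2, nat_lit 0]))) (.node (nat_lit 1527) (.leaf ((nat_lit 479), [nat_lit 2, nat_lit 1, nat_lit 3, nat_lit 1, nat_lit 0, nat_lit 2, nat_lit 1, nat_lit 0])) (.leaf ((nat_lit 189), [nat_lit 0, nat_lit 1, nat_lit 2, nat_lit 3, nat_lit 0, nat_lit 2, nat_lit 1, nat_lit 0, nat_lit 1]))))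
 (.node (nat_lit 1530) (.node (nat_lit 1529) (.leaf ((nat_lit 103), [nat_lit 2, nat_lit 0, nat_lit 2, nat_lit 0, nat_lit 1, nat_lit 0, nat_lit 1, nat_lit 0])) (.leaf ((nat_lit 186), [nat_lit 0, nat_lit 1, nat_lit 2, nat_lit 3, nat_lit 1, nat_lit 2, nat_lit 1, nat_lit 0, nat_lit 1]))) (.node (nat_lit 1531) (.leaf ((nat_lit 114), [nat_lit 1, nat_lit 2, nat_lit 3, nat_lit 2, nat_lit 0])) (.node (nat_lit 1532) (.leaf ((nat_lit 218), [nat_lit 0, nat_lit 1, nat_lit 3, nat_lit 1, nat_lit 0])) (.leaf ((nat_lit 59), [nat_lit 0, nat_lit 1, nat_lit 2, nat_lit 3, nat_lit 1, nat_lit 2, nat_lit 1, nat_lit 0]))))))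
 (.node (nat_lit 1538) (.node (nat_lit 1535) (.node (nat_lit 1534) (.leaf ((nat_lit 204), [nat_lit 0, nat_lit 1, nat_lit 3, nat_lit 0, nat_lit 1, nat_lit 0, nat_lit 1, nat_lit 0])) (.leaf ((nat_lit 60), [nat_lit 3, nat_lit 2, nat_lit 3, nat_lit 0, nat_lit 2, nat_lit 0, nat_lit 1, nat_lit 0, nat_lit 1]))) (.node (nat_lit 1536) (.leaf ((nat_lit 474), [nat_lit 0, nat_lit 1, nat_lit 2, nat_lit 3, nat_lit 2, nat_lit 1, nat_lit 0, nat_lit 1, nat_lit 0])) (.node (nat_lit 1537) (.leaf ((nat_lit 67), [nat_lit 0, nat_lit 2, nat_lit 0, nat_lit 1, nat_lit 0])) (.leaf ((nat_lit 170), [nat_lit 1, nat_lit 2, nat_lit 3, nat_lit 0, nat_lit 1, nat_lit 0, nat_lit 1, nat_lit 0])))))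
 (.node (nat_lit 1540) (.node (nat_lit 1539) (.leaf ((nat_lit 503), [nat_lit 3, nat_lit 0, nat_lit 2, nat_lit 1])) (.leaf ((nat_lit 277), [nat_lit 3, nat_lit 2, nat_lit 3, nat_lit 1, nat_lit 2, nat_lit 0]))) (.node (nat_lit 1541) (.leaf ((nat_lit 341), [nat_lit 1, nat_lit 3, nat_lit 2, nat_lit 0, nat_lit 2, nat_lit 0])) (.node (nat_lit 1542) (.leaf ((nat_lit 450), [nat_lit 3, nat_lit 2, nat_lit 0, nat_lit 2, nat_lit 1, nat_lit 0, nat_lit 1])) (.leaf ((nat_lit 163), [nat_lit 2, nat_lit 1, nat_lit 3, nat_lit 1, nat_lit 2, nat_lit 0])))))))))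
 (.node (nat_lit 1580) (.node (nat_lit 1561) (.node (nat_lit 1552) (.node (nat_lit 1547) (.node (nat_lit 1545) (.node (nat_lit 1544) (.leaf ((nat_lit 122), [nat_lit 3, nat_lit 1, nat_lit 3, nat_lit 1, nat_lit 0, nat_lit 2])) (.leaf ((nat_lit 62), [nat_lit 3, nat_lit 2, nat_lit 3, nat_lit 1, nat_lit 0, nat_lit 2, nat_lit 1]))) (.node (nat_lit 1546) (.leaf ((nat_lit 131), [nat_lit 1, nat_lit 2, nat_lit 3, nat_lit 1])) (.leaf ((nat_lit 364), [nat_lit 3, nat_lit 2, nat_lit 3, nat_lit 0, nat_lit 2, nat_lit 1, nat_lit 0]))))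
 (.node (nat_lit 1549) (.node (nat_lit 1548) (.leaf ((nat_lit 292), [nat_lit 2, nat_lit 0, nat_lit 1, nat_lit 0, nat_lit 1])) (.leaf ((nat_lit 171), [nat_lit 0, nat_lit 1, nat_lit 2, nat_lit 3, nat_lit 1, nat_lit 2, nat_lit 1, nat_lit 0]))) (.node (nat_lit 1550) (.leaf ((nat_lit 322), [nat_lit 3, nat_lit 2, nat_lit 3])) (.node (nat_lit 1551) (.leaf ((nat_lit 230), [nat_lit 0, nat_lit 1, nat_lit 3, nat_lit 2, nat_lit 1, nat_lit 0, nat_lit 1, nat_lit 0])) (.leaf ((nat_lit 398), [nat_lit 0, nat_lit 1, nat_lit 3, nat_lit 1, nat_lit 0, nat_lit 2]))))))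
 (.node (nat_lit 1556) (.node (nat_lit 1554) (.node (nat_lit 1553) (.leaf ((nat_lit 62), [nat_lit 2, nat_lit 3, nat_lit 1, nat_lit 2, nat_lit 1, nat_lit 0, nat_lit 1, nat_lit 0])) (.leaf ((nat_lit 263), [nat_lit 2, nat_lit 3]))) (.node (nat_lit 1555) (.leaf ((nat_lit 371), [nat_lit 3, nat_lit 1, nat_lit 2, nat_lit 3, nat_lit 0, nat_lit 2, nat_lit 1, nat_lit 0, nat_lit 1, nat_lit 0])) (.leaf ((nat_lit 363), [nat_lit 0, nat_lit 1]))))
 (.node (nat_lit 1558) (.node (nat_lit 1557) (.leaf ((nat_lit 504), [nat_lit 2, nat_lit 3, nat_lit 2, nat_lit 0, nat_lit 1, nat_lit 0, nat_lit 1])) (.leaf ((nat_lit 505), [nat_lit 2, nat_lit 3, nat_lit 2, nat_lit 0, nat_lit 1]))) (.node (nat_lit 1559) (.leaf ((nat_lit 506), [nat_lit 1, nat_lit 3, nat_lit 0, nat_lit 2, nat_lit 0, nat_lit 1, nat_lit 0, nat_lit 1, nat_lit 0])) (.node (nat_lit 1560) (.leaf ((nat_lit 283), [nat_lit 2, nat_lit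 3, nat_lit 2, nat_lit 1, nat_lit 0, nat_lit 1])) (.leaf ((nat_lit 62), [nat_lit 0, nat_lit 1, nat_lit 2, nat_lit 3, nat_lit 0, nat_lit 1, nat_lit 0, nat_lit 1])))))))
 (.node (nat_lit 1570) (.node (nat_lit 1565) (.node (nat_lit 1563) (.node (nat_lit 1562) (.leaf ((nat_lit 84), [nat_lit 1, nat_lit 3, nat_lit 1])) (.leaf ((nat_lit 63), [nat_lit 2, nat_lit 3, nat_lit 0, nat_lit 2, nat_lit 1, nat_lit 0, nat_lit 1, nat_lit 0]))) (.node (nat_lit 1564) (.leaf ((nat_lit 64), [nat_lit 2, nat_lit 1, nat_lit 3, nat_lit 1, nat_lit 2, nat_lit 0, nat_lit 1])) (.leaf ((nat_lit 469), [nat_lit 3, nat_lit 2, nat_lit 3, nat_lit 0, nat_lit 2, nat_lit 1, nat_lit 0, nat_lit 1, nat_lit 0]))))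
 (.node (nat_lit 1567) (.node (nat_lit 1566) (.leaf ((nat_lit 217), [nat_lit 1, nat_lit 2, nat_lit 3, nat_lit 1, nat_lit 2, nat_lit 0])) (.leaf ((nat_lit 158), [nat_lit 2, nat_lit 0, nat_lit 2, nat_lit 1, nat_lit 0, nat_lit 1]))) (.node (nat_lit 1568) (.leaf ((nat_lit 267), [nat_lit 1, nat_lit 2, nat_lit 3, nat_lit 2, nat_lit 1])) (.node (nat_lit 1569) (.leaf ((nat_lit 64), [nat_lit 3, nat_lit 1, nat_lit 3, nat_lit 2, nat_lit 0, nat_lit 2, nat_lit 1, nat_lit 0, nat_lit 1])) (.leaf ((nat_lit 133), [nat_lit 3, nat_lit 1, nat_lit 2, nat_lit 3, nat_lit 1, nat_lit 2, nat_lit 1, nat_lit 0, nat_lit 1, nat_lit 0]))))))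
 (.node (nat_lit 1575) (.node (nat_lit 1572) (.node (nat_lit 1571) (.leaf ((nat_lit 63), [nat_lit 3, nat_lit 1, nat_lit 2, nat_lit 3, nat_lit 2])) (.leaf ((nat_lit 378), [nat_lit 0, nat_lit 2, nat_lit 0, nat_lit 1, nat_lit 0, nat_lit 1, nat_lit 0]))) (.node (nat_lit 1573) (.leaf ((nat_lit 338), [nat_lit 3, nat_lit 2, nat_lit 1, nat_lit 0, nat_lit 1, nat_lit 0])) (.node (nat_lit 1574) (.leaf ((nat_lit 73), [nat_lit 0, nat_lit 1, nat_lit 2, nat_lit 3, nat_lit 1, nat_lit 0, nat_lit 1, nat_lit 0])) (.leaf ((nat_lit 354), [nat_lit 3, nat_lit 1, nat_lit 2, nat_lit 1])))))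
 (.node (nat_lit 1577) (.node (nat_lit 1576) (.leaf ((nat_lit 111), [nat_lit 3, nat_lit 1, nat_lit 3, nat_lit 0, nat_lit 2, nat_lit 1, nat_lit 0, nat_lit 1])) (.leaf ((nat_lit 353), [nat_lit 1, nat_lit 3]))) (.node (nat_lit 1578) (.leaf ((nat_lit 111), [nat_lit 2, nat_lit 0, nat_lit 2, nat_lit 0, nat_lit 1, nat_lit 0, nat_lit 1])) (.node (nat_lit 1579) (.leaf ((nat_lit 472), [nat_lit 3, nat_lit 2, nat_lit 1, nat_lit 0, nat_lit 1])) (.leaf ((nat_lit 63), [nat_lit 0, nat_lit 1, nat_lit 3, nat_lit 1, nat_lit 0, nat_lit 1, nat_lit 0]))))))))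
 (.node (nat_lit 1598) (.node (nat_lit 1589) (.node (nat_lit 1584) (.node (nat_lit 1582) (.node (nat_lit 1581) (.leaf ((nat_lit 436), [nat_lit 2, nat_lit 0, nat_lit 1])) (.leaf ((nat_lit 507), [nat_lit 2, nat_lit 3, nat_lit 1, nat_lit 2]))) (.node (nat_lit 1583) (.leaf ((nat_lit 331), [nat_lit 0])) (.leaf ((nat_lit 176), [nat_lit 3, nat_lit 1, nat_lit 2, nat_lit 3, nat_lit 2, nat_lit 0, nat_lit 1, nat_lit 0]))))
 (.node (nat_lit 1586) (.node (nat_lit 1585) (.leaf ((nat_lit 499), [nat_lit 0, nat_lit 1, nat_lit 2, nat_lit 3, nat_lit 1, nat_lit 0, nat_lit 1])) (.leaf ((nat_lit 129), [nat_lit 0, nat_lit 1, nat_lit 3, nat_lit 0, nat_lit 2, nat_lit 1, nat_lit 0, nat_lit 1]))) (.node (nat_lit 1587) (.leaf ((nat_lit 164), [nat_lit 0, nat_lit 1, nat_lit 2, nat_lit 3, nat_lit 1, nat_lit 2])) (.node (nat_lit 1588) (.leaf ((nat_lit 156), [nat_lit 1, nat_lit 3, nat_lit 0, nat_lit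 2, nat_lit 0, nat_lit 1, nat_lit 0, nat_lit 1])) (.leaf ((nat_lit 63), [nat_lit 1]))))))
 (.node (nat_lit 1593) (.node (nat_lit 1591) (.node (nat_lit 1590) (.leaf ((nat_lit 508), [nat_lit 0, nat_lit 2, nat_lit 1, nat_lit 0, nat_lit 1, nat_lit 0])) (.leaf ((nat_lit 379), [nat_lit 2, nat_lit 0, nat_lit 1]))) (.node (nat_lit 1592) (.leaf ((nat_lit 469), [nat_lit 3, nat_lit 1, nat_lit 2, nat_lit 3, nat_lit 0, nat_lit 2, nat_lit 0, nat_lit 1, nat_lit 0])) (.leaf ((nat_lit 64), [nat_lit 2, nat_lit 3, nat_lit 1, nat_lit 2, nat_lit 1, nat_lit 0]))))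
 (.node (nat_lit 1595) (.node (nat_lit 1594) (.leaf ((nat_lit 471), [nat_lit 2, nat_lit 1, nat_lit 3, nat_lit 0, nat_lit 2, nat_lit 0])) (.leaf ((nat_lit 166), [nat_lit 3, nat_lit 1, nat_lit 3, nat_lit 1, nat_lit 2, nat_lit 1, nat_lit 0, nat_lit 1, nat_lit 0]))) (.node (nat_lit 1596) (.leaf ((nat_lit 227), [nat_lit 1, nat_lit 3, nat_lit 1, nat_lit 0, nat_lit 2, nat_lit 0])) (.node (nat_lit 1597) (.leaf ((nat_lit 400), [nat_lit 0, nat_lit 1, nat_lit 3, nat_lit 1, nat_lit 0, nat_lit 2, nat_lit 1, nat_lit 0, nat_lit 1])) (.leaf ((nat_lit 443), [nat_lit 0, nat_lit 1, nat_lit 3, nat_lit 0, nat_lit 1, nat_lit 0, nat_lit 1, nat_lit 0])))))))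
 (.node (nat_lit 1607) (.node (nat_lit 1602) (.node (nat_lit 1600) (.node (nat_lit 1599) (.leaf ((nat_lit 293), [nat_lit 1, nat_lit 3, nat_lit 0, nat_lit 1, nat_lit 0, nat_lit 1])) (.leaf ((nat_lit 301), [nat_lit 0, nat_lit 1, nat_lit 3, nat_lit 0, nat_lit 2, nat_lit 0, nat_lit 1, nat_lit 0]))) (.node (nat_lit 1601) (.leaf ((nat_lit 347), [nat_lit 3, nat_lit 2, nat_lit 3, nat_lit 1, nat_lit 2, nat_lit 0, nat_lit 1, nat_lit 0, nat_lit 1, nat_lit 0])) (.leaf ((nat_lit 64), [nat_lit 3, nat_lit 1, nat_lit 2, nat_lit 3, nat_lit 2, nat_lit 0, nat_lit 2, nat_lit 1]))))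
 (.node (nat_lit 1604) (.node (nat_lit 1603) (.leaf ((nat_lit 156), [nat_lit 2, nat_lit 3, nat_lit 1, nat_lit 0, nat_lit 1, nat_lit 0])) (.leaf ((nat_lit 230), [nat_lit 1, nat_lit 3, nat_lit 0, nat_lit 2, nat_lit 0, nat_lit 1, nat_lit 0]))) (.node (nat_lit 1605) (.leaf ((nat_lit 65), [nat_lit 0, nat_lit 1, nat_lit 2, nat_lit 3, nat_lit 2, nat_lit 0, nat_lit 2])) (.node (nat_lit 1606) (.leaf ((nat_lit 408), [nat_lit 3, nat_lit 1, nat_lit 3, nat_lit 0, nat_lit 1, nat_lit 0, nat_lit 1])) (.leaf ((nat_lit 289), [nat_lit 1, nat_lit 2, nat_lit 3, nat_lit 2, nat_lit 0, nat_lit 1, nat_lit 0, nat_lit 1, nat_lit 0]))))))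
 (.node (nat_lit 1612) (.node (nat_lit 1609) (.node (nat_lit 1608) (.leaf ((nat_lit 248), [nat_lit 2, nat_lit 0, nat_lit 2, nat_lit 1, nat_lit 0, nat_lit 1, nat_lit 0])) (.leaf ((nat_lit 313), [nat_lit 1, nat_lit 3, nat_lit 1, nat_lit 0, nat_lit 2, nat_lit 1, nat_lit 0, nat_lit 1, nat_lit 0]))) (.node (nat_lit 1610) (.leaf ((nat_lit 509), [nat_lit 0, nat_lit 1, nat_lit 3, nat_lit 2, nat_lit 0, nat_lit 2, nat_lit 1, nat_lit 0, nat_lit 1])) (.node (nat_lit 1611) (.leaf ((nat_lit 65), [nat_lit 0, nat_lit 1, nat_lit 3, nat_lit 0, nat_lit 2, nat_lit 1, nat_lit 0, nat_lit 1, nat_lit 0])) (.leaf ((nat_lit 229), [nat_lit 3, nat_lit 1, nat_lit 3, nat_lit 1, nat_lit 2])))))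
 (.node (nat_lit 1614) (.node (nat_lit 1613) (.leaf ((nat_lit 256), [nat_lit 2, nat_lit 1, nat_lit 3, nat_lit 0, nat_lit 2, nat_lit 0, nat_lit 1, nat_lit 0, nat_lit 1])) (.leaf ((nat_lit 221), [nat_lit 1, nat_lit 2, nat_lit 3, nat_lit 1, nat_lit 0, nat_lit 2]))) (.node (nat_lit 1615) (.leaf ((nat_lit 151), [nat_lit 2, nat_lit 3, nat_lit 1, nat_lit 2, nat_lit 0, nat_lit 1])) (.node (nat_lit 1616) (.leaf ((nat_lit 351), [nat_lit 3, nat_lit 2, nat_lit 0, nat_lit 1, nat_lit 0])) (.leaf ((nat_lit 510), [nat_lit 3, nat_lit 1, nat_lit 2, nat_lit 3, nat_lit 0, nat_lit 2, nat_lit 0, nat_lit 1, nat_lit 0]))))))))))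
noncomputable def bWd_11 : Tr (ℕ × List ℕ) := (.node (nat_lit 1690) (.node (nat_lit 1653) (.node (nat_lit 1635) (.node (nat_lit 1626) (.node (nat_lit 1621) (.node (nat_lit 1619) (.node (nat_lit 1618) (.leaf ((nat_lit 347), [nat_lit 0, nat_lit 1, nat_lit 3, nat_lit 2, nat_lit 1, nat_lit 0, nat_lit 1, nat_lit 0])) (.leaf ((nat_lit 104), [nat_lit 0, nat_lit 1, nat_lit 2, nat_lit 3, nat_lit 1, nat_lit 2, nat_lit 0, nat_lit 1, nat_lit 0, nat_lit 1]))) (.node (nat_lit 1620) (.leaf ((nat_lit 435), [nat_lit 3, nat_lit 2, nat_lit 3, nat_lit 2, nat_lit 0, nat_lit 2, nat_lit 0])) (.leaf ((nat_lit 65), [nat_lit 0, nat_lit 2, nat_lit 1, nat_lit 0, nat_lit 1]))))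
 (.node (nat_lit 1623) (.node (nat_lit 1622) (.leaf ((nat_lit 314), [nat_lit 2, nat_lit 3, nat_lit 2, nat_lit 1, nat_lit 0, nat_lit 1, nat_lit 0])) (.leaf ((nat_lit 511), [nat_lit 3, nat_lit 1, nat_lit 2, nat_lit 3, nat_lit 2, nat_lit 0, nat_lit 1, nat_lit 0, nat_lit 1, nat_lit 0]))) (.node (nat_lit 1624) (.leaf ((nat_lit 374), [nat_lit 3, nat_lit 2, nat_lit 3, nat_lit 1])) (.node (nat_lit 1625) (.leaf ((nat_lit 500), [nat_lit 1, nat_lit 3, nat_lit 1, nat_lit 0, nat_lit 2, nat_lit 0, nat_lit 1, nat_lit 0])) (.leaf ((nat_lit 254), [nat_lit 0]))))))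
 (.node (nat_lit 1630) (.node (nat_lit 1628) (.node (nat_lit 1627) (.leaf ((nat_lit 502), [nat_lit 3, nat_lit 2, nat_lit 3, nat_lit 1, nat_lit 2])) (.leaf ((nat_lit 259), [nat_lit 3, nat_lit 1, nat_lit 3, nat_lit 2, nat_lit 0, nat_lit 2, nat_lit 1, nat_lit 0]))) (.node (nat_lit 1629) (.leaf ((nat_lit 65), [nat_lit 3, nat_lit 0, nat_lit 2, nat_lit 0, nat_lit 1, nat_lit 0])) (.leaf ((nat_lit 232), [nat_lit 1, nat_lit 2, nat_lit 3, nat_lit 0, nat_lit 2, nat_lit 1, nat_lit 0, nat_lit 1, nat_lit 0]))))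
 (.node (nat_lit 1632) (.node (nat_lit 1631) (.leaf ((nat_lit 512), [nat_lit 1, nat_lit 2, nat_lit 0])) (.leaf ((nat_lit 399), [nat_lit 3, nat_lit 1, nat_lit 2, nat_lit 3, nat_lit 0, nat_lit 2, nat_lit 0, nat_lit 1, nat_lit 0]))) (.node (nat_lit 1633) (.leaf ((nat_lit 248), [nat_lit 3, nat_lit 1, nat_lit 2, nat_lit 3, nat_lit 2, nat_lit 0, nat_lit 2, nat_lit 0, nat_lit 1, nat_lit 0, nat_lit 1, nat_lit 0])) (.node (nat_lit 1634) (.leaf ((nat_lit 513), [nat_lit 3, nat_lit 1, nat_lit 3, nat_lit 1, nat_lit 2, nat_lit 0])) (.leaf ((nat_lit 233), [nat_lit 0, nat_lit 1, nat_lit 3, nat_lit 1, nat_lit 0, nat_lit 2, nat_lit 0, nat_lit 1, nat_lit 0, nat_lit 1, nat_lit 0])))))))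
 (.node (nat_lit 1644) (.node (nat_lit 1639) (.node (nat_lit 1637) (.node (nat_lit 1636) (.leaf ((nat_lit 254), [nat_lit 3, nat_lit 1, nat_lit 2, nat_lit 3, nat_lit 2, nat_lit 0, nat_lit 1])) (.leaf ((nat_lit 155), [nat_lit 3, nat_lit 1, nat_lit 3, nat_lit 1, nat_lit 0]))) (.node (nat_lit 1638) (.leaf ((nat_lit 65), [nat_lit 3, nat_lit 1, nat_lit 2, nat_lit 3, nat_lit 1, nat_lit 2, nat_lit 1, nat_lit 0, nat_lit 1, nat_lit 0])) (.leaf ((nat_lit 235), [nat_lit 3, nat_lit 1, nat_lit 3, nat_lit 2]))))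
 (.node (nat_lit 1641) (.node (nat_lit 1640) (.leaf ((nat_lit 66), [nat_lit 2, nat_lit 3, nat_lit 1, nat_lit 0, nat_lit 2, nat_lit 0])) (.leaf ((nat_lit 235), [nat_lit 1, nat_lit 2, nat_lit 3, nat_lit 2, nat_lit 0, nat_lit 2, nat_lit 0, nat_lit 1, nat_lit 0]))) (.node (nat_lit 1642) (.leaf ((nat_lit 514), [nat_lit 2, nat_lit 3, nat_lit 0, nat_lit 2, nat_lit 1])) (.node (nat_lit 1643) (.leaf ((nat_lit 460), [nat_lit 2, nat_lit 1, nat_lit 3, nat_lit 2, nat_lit 0, nat_lit 1, nat_lit 0])) (.leaf ((nat_lit 157), [nat_lit 1, nat_lit 2, nat_lit 3, nat_lit 2, nat_lit 0, nat_lit 1, nat_lit 0, nat_lit 1]))))))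
 (.node (nat_lit 1648) (.node (nat_lit 1646) (.node (nat_lit 1645) (.leaf ((nat_lit 515), [nat_lit 3, nat_lit 2, nat_lit 3, nat_lit 1, nat_lit 0, nat_lit 2, nat_lit 1])) (.leaf ((nat_lit 66), [nat_lit 3, nat_lit 1, nat_lit 3, nat_lit 2, nat_lit 0, nat_lit 2, nat_lit 1, nat_lit 0]))) (.node (nat_lit 1647) (.leaf ((nat_lit 234), [nat_lit 1, nat_lit 2, nat_lit 3, nat_lit 0, nat_lit 2, nat_lit 0, nat_lit 1, nat_lit 0])) (.leaf ((nat_lit 234), [nat_lit 3, nat_lit 1, nat_lit 2, nat_lit 3, nat_lit 1, nat_lit 0, nat_lit 2, nat_lit 0, nat_lit 1, nat_lit 0]))))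
 (.node (nat_lit 1650) (.node (nat_lit 1649) (.leaf ((nat_lit 487), [nat_lit 0, nat_lit 1, nat_lit 3, nat_lit 2, nat_lit 0, nat_lit 2])) (.leaf ((nat_lit 516), [nat_lit 3, nat_lit 2, nat_lit 3, nat_lit 0, nat_lit 2, nat_lit 1, nat_lit 0, nat_lit 1, nat_lit 0]))) (.node (nat_lit 1651) (.leaf ((nat_lit 152), [nat_lit 3, nat_lit 0, nat_lit 2, nat_lit 1, nat_lit 0])) (.node (nat_lit 1652) (.leaf ((nat_lit 466), [nat_lit 3, nat_lit 1, nat_lit 3, nat_lit 0, nat_lit 2, nat_lit 0])) (.leaf ((nat_lit 236), [nat_lit 3, nat_lit 1, nat_lit 3, nat_lit 1, nat_lit 2, nat_lit 1, nat_lit 0]))))))))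
 (.node (nat_lit 1671) (.node (nat_lit 1662) (.node (nat_lit 1657) (.node (nat_lit 1655) (.node (nat_lit 1654) (.leaf ((nat_lit 236), [nat_lit 3, nat_lit 0, nat_lit 2, nat_lit 0, nat_lit 1])) (.leaf ((nat_lit 66), [nat_lit 1, nat_lit 3, nat_lit 1, nat_lit 2, nat_lit 1, nat_lit 0, nat_lit 1, nat_lit 0]))) (.node (nat_lit 1656) (.leaf ((nat_lit 455), [nat_lit 2, nat_lit 1, nat_lit 3, nat_lit 2, nat_lit 0, nat_lit 2, nat_lit 0, nat_lit 1])) (.leaf ((nat_lit 349), [nat_lit 1, nat_lit 3, nat_lit 0, nat_lit 1, nat_lit 0]))))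
 (.node (nat_lit 1659) (.node (nat_lit 1658) (.leaf ((nat_lit 77), [nat_lit 3, nat_lit 1, nat_lit 3, nat_lit 1, nat_lit 0, nat_lit 2])) (.leaf ((nat_lit 388), [nat_lit 3, nat_lit 1, nat_lit 2, nat_lit 3, nat_lit 2, nat_lit 0, nat_lit 2]))) (.node (nat_lit 1660) (.leaf ((nat_lit 271), [nat_lit 1, nat_lit 0])) (.node (nat_lit 1661) (.leaf ((nat_lit 517), [nat_lit 3, nat_lit 1, nat_lit 2, nat_lit 3, nat_lit 2])) (.leaf ((nat_lit 455), [nat_lit 2, nat_lit 3, nat_lit 2]))))))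
 (.node (nat_lit 1666) (.node (nat_lit 1664) (.node (nat_lit 1663) (.leaf ((nat_lit 66), [nat_lit 3, nat_lit 1, nat_lit 2, nat_lit 3, nat_lit 0, nat_lit 1, nat_lit 0, nat_lit 1])) (.leaf ((nat_lit 283), [nat_lit 0, nat_lit 1, nat_lit 2, nat_lit 3, nat_lit 1, nat_lit 2, nat_lit 0]))) (.node (nat_lit 1665) (.leaf ((nat_lit 518), [nat_lit 0, nat_lit 2])) (.leaf ((nat_lit 132), [nat_lit 0, nat_lit 1, nat_lit 3, nat_lit 0, nat_lit 2, nat_lit 1, nat_lit 0, nat_lit 1]))))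
 (.node (nat_lit 1668) (.node (nat_lit 1667) (.leaf ((nat_lit 191), [nat_lit 2, nat_lit 3, nat_lit 0, nat_lit 2, nat_lit 0, nat_lit 1])) (.leaf ((nat_lit 485), [nat_lit 0, nat_lit 1, nat_lit 2, nat_lit 3, nat_lit 2, nat_lit 0, nat_lit 2, nat_lit 0, nat_lit 1, nat_lit 0, nat_lit 1, nat_lit 0]))) (.node (nat_lit 1669) (.leaf ((nat_lit 113), [nat_lit 3, nat_lit 2, nat_lit 0, nat_lit 2, nat_lit 0, nat_lit 1, nat_lit 0, nat_lit 1, nat_lit 0])) (.node (nat_lit 1670) (.leaf ((nat_lit 286), [nat_lit 2, nat_lit 0, nat_lit 2, nat_lit 1])) (.leaf ((nat_lit 66), [nat_lit 3, nat_lit 1, nat_lit 3, nat_lit 2, nat_lit 1])))))))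
 (.node (nat_lit 1680) (.node (nat_lit 1675) (.node (nat_lit 1673) (.node (nat_lit 1672) (.leaf ((nat_lit 512), [nat_lit 0, nat_lit 1, nat_lit 2, nat_lit 3, nat_lit 0, nat_lit 1, nat_lit 0, nat_lit 1, nat_lit 0])) (.leaf ((nat_lit 238), [nat_lit 2, nat_lit 3, nat_lit 0, nat_lit 2, nat_lit 0, nat_lit 1, nat_lit 0, nat_lit 1, nat_lit 0]))) (.node (nat_lit 1674) (.leaf ((nat_lit 285), [nat_lit 2, nat_lit 1, nat_lit 3, nat_lit 2, nat_lit 0, nat_lit 2, nat_lit 0, nat_lit 1, nat_lit 0, nat_lit 1])) (.leaf ((nat_lit 519), [nat_lit 3, nat_lit 2, nat_lit 0, nat_lit 1, nat_lit 0]))))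
 (.node (nat_lit 1677) (.node (nat_lit 1676) (.leaf ((nat_lit 75), [nat_lit 3, nat_lit 1, nat_lit 2, nat_lit 3, nat_lit 1, nat_lit 0, nat_lit 2, nat_lit 1, nat_lit 0, nat_lit 1])) (.leaf ((nat_lit 75), [nat_lit 0, nat_lit 1, nat_lit 2, nat_lit 3, nat_lit 2, nat_lit 0, nat_lit 1, nat_lit 0]))) (.node (nat_lit 1678) (.leaf ((nat_lit 520), [nat_lit 3, nat_lit 1, nat_lit 2, nat_lit 3, nat_lit 1, nat_lit 2, nat_lit 0])) (.node (nat_lit 1679) (.leaf ((nat_lit 66), [nat_lit 1, nat_lit 3, nat_lit 0, nat_lit 2, nat_lit 0, nat_lit 1])) (.leaf ((nat_lit 155), [nat_lit 2, nat_lit 3, nat_lit 0, nat_lit 2]))))))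
 (.node (nat_lit 1685) (.node (nat_lit 1682) (.node (nat_lit 1681) (.leaf ((nat_lit 521), [nat_lit 3, nat_lit 1, nat_lit 2, nat_lit 3, nat_lit 1, nat_lit 2, nat_lit 1, nat_lit 0, nat_lit 1])) (.leaf ((nat_lit 435), [nat_lit 3, nat_lit 1, nat_lit 3, nat_lit 2, nat_lit 0, nat_lit 2, nat_lit 0, nat_lit 1]))) (.node (nat_lit 1683) (.leaf ((nat_lit 138), [nat_lit 3, nat_lit 2, nat_lit 3, nat_lit 2, nat_lit 1, nat_lit 0, nat_lit 1])) (.node (nat_lit 1684) (.leaf ((nat_lit 424), [nat_lit 1, nat_lit 3, nat_lit 0, nat_lit 2, nat_lit 1])) (.leaf ((nat_lit 522), [nat_lit 1, nat_lit 2, nat_lit 3, nat_lit 1, nat_lit 0, nat_lit 2, nat_lit 0, nat_lit 1, nat_lit 0, nat_lit 1, nat_lit 0])))))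
 (.node (nat_lit 1687) (.node (nat_lit 1686) (.leaf ((nat_lit 67), [nat_lit 1, nat_lit 3, nat_lit 1, nat_lit 2, nat_lit 0])) (.leaf ((nat_lit 523), [nat_lit 3, nat_lit 1]))) (.node (nat_lit 1688) (.leaf ((nat_lit 524), [nat_lit 1, nat_lit 3, nat_lit 0, nat_lit 2])) (.node (nat_lit 1689) (.leaf ((nat_lit 525), [nat_lit 1, nat_lit 3, nat_lit 1, nat_lit 0, nat_lit 2, nat_lit 0, nat_lit 1, nat_lit 0, nat_lit 1, nat_lit 0])) (.leaf ((nat_lit 339), [nat_lit 0, nat_lit 1, nat_lit 2, nat_lit 3, nat_lit 1, nat_lit 0, nat_lit 2, nat_lit 0, nat_lit 1])))))))))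
 (.node (nat_lit 1727) (.node (nat_lit 1708) (.node (nat_lit 1699) (.node (nat_lit 1694) (.node (nat_lit 1692) (.node (nat_lit 1691) (.leaf ((nat_lit 492), [nat_lit 0, nat_lit 1, nat_lit 3, nat_lit 1, nat_lit 2, nat_lit 0, nat_lit 1, nat_lit 0])) (.leaf ((nat_lit 103), [nat_lit 2, nat_lit 3, nat_lit 2, nat_lit 0, nat_lit 1, nat_lit 0, nat_lit 1, nat_lit 0]))) (.node (nat_lit 1693) (.leaf ((nat_lit 526), [nat_lit 3, nat_lit 0, nat_lit 2, nat_lit 1, nat_lit 0, nat_lit 1, nat_lit 0])) (.leaf ((nat_lit 67), [nat_lit 1, nat_lit 3, nat_lit 2, nat_lit 0, nat_lit 2]))))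
 (.node (nat_lit 1696) (.node (nat_lit 1695) (.leaf ((nat_lit 513), [nat_lit 0, nat_lit 1])) (.leaf ((nat_lit 375), [nat_lit 2, nat_lit 3, nat_lit 1, nat_lit 0, nat_lit 2, nat_lit 0, nat_lit 1, nat_lit 0, nat_lit 1, nat_lit 0]))) (.node (nat_lit 1697) (.leaf ((nat_lit 261), [nat_lit 1, nat_lit 3, nat_lit 2, nat_lit 1, nat_lit 0, nat_lit 1, nat_lit 0])) (.node (nat_lit 1698) (.leaf ((nat_lit 373), [nat_lit 3, nat_lit 2, nat_lit 0, nat_lit 2, nat_lit 0, nat_lit 1, nat_lit 0])) (.leaf ((nat_lit 290), [nat_lit 3, nat_lit 1, nat_lit 2, nat_lit 3, nat_lit 1, nat_lit 0, nat_lit 2, nat_lit 0, nat_lit 1, nat_lit 0, nat_lit 1, nat_lit 0]))))))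
 (.node (nat_lit 1703) (.node (nat_lit 1701) (.node (nat_lit 1700) (.leaf ((nat_lit 68), [nat_lit 0, nat_lit 1, nat_lit 0, nat_lit 1])) (.leaf ((nat_lit 210), [nat_lit 2, nat_lit 0, nat_lit 2, nat_lit 0, nat_lit 1, nat_lit 0, nat_lit 1, nat_lit 0]))) (.node (nat_lit 1702) (.leaf ((nat_lit 250), [nat_lit 1, nat_lit 3, nat_lit 0])) (.leaf ((nat_lit 71), [nat_lit 0, nat_lit 1, nat_lit 3, nat_lit 1, nat_lit 0, nat_lit 2, nat_lit 0]))))
 (.node (nat_lit 1705) (.node (nat_lit 1704) (.leaf ((nat_lit 527), [nat_lit 0, nat_lit 1, nat_lit 3, nat_lit 1, nat_lit 0, nat_lit 2, nat_lit 1, nat_lit 0])) (.leaf ((nat_lit 528), [nat_lit 2, nat_lit 1, nat_lit 3, nat_lit 1, nat_lit 2, nat_lit 0, nat_lit 1]))) (.node (nat_lit 1706) (.leaf ((nat_lit 362), [nat_lit 2, nat_lit 0])) (.node (nat_lit 1707) (.leaf ((nat_lit 441), [nat_lit 1, nat_lit 3, nat_lit 0, nat_lit 2, nat_lit 1, nat_lit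 0])) (.leaf ((nat_lit 68), [nat_lit 0, nat_lit 1, nat_lit 3, nat_lit 0, nat_lit 2, nat_lit 0, nat_lit 1, nat_lit 0, nat_lit 1])))))))
 (.node (nat_lit 1717) (.node (nat_lit 1712) (.node (nat_lit 1710) (.node (nat_lit 1709) (.leaf ((nat_lit 69), [nat_lit 2, nat_lit 3])) (.leaf ((nat_lit 208), [nat_lit 0, nat_lit 1, nat_lit 2, nat_lit 3, nat_lit 2, nat_lit 0, nat_lit 2, nat_lit 0, nat_lit 1]))) (.node (nat_lit 1711) (.leaf ((nat_lit 194), [nat_lit 1, nat_lit 3, nat_lit 0, nat_lit 1, nat_lit 0, nat_lit 1, nat_lit 0])) (.leaf ((nat_lit 193), [nat_lit 3, nat_lit 1, nat_lit 3, nat_lit 2, nat_lit 0, nat_lit 2, nat_lit 0, nat_lit 1, nat_lit 0, nat_lit 1, nat_lit 0]))))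
 (.node (nat_lit 1714) (.node (nat_lit 1713) (.leaf ((nat_lit 180), [nat_lit 2, nat_lit 1, nat_lit 3, nat_lit 0, nat_lit 2, nat_lit 1, nat_lit 0, nat_lit 1])) (.leaf ((nat_lit 451), [nat_lit 2, nat_lit 3, nat_lit 1, nat_lit 0]))) (.node (nat_lit 1715) (.leaf ((nat_lit 358), [nat_lit 2, nat_lit 3, nat_lit 0, nat_lit 2, nat_lit 1])) (.node (nat_lit 1716) (.leaf ((nat_lit 214), [nat_lit 3, nat_lit 1, nat_lit 2, nat_lit 3, nat_lit 1, nat_lit 0, nat_lit 2, nat_lit 1, nat_lit 0])) (.leaf ((nat_lit 194), [nat_lit 3, nat_lit 2, nat_lit 3, nat_lit 2, nat_lit 0, nat_lit 2, nat_lit 1, nat_lit 0, nat_lit 1]))))))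
 (.node (nat_lit 1722) (.node (nat_lit 1719) (.node (nat_lit 1718) (.leaf ((nat_lit 70), [nat_lit 2, nat_lit 3, nat_lit 1, nat_lit 2])) (.leaf ((nat_lit 69), [nat_lit 2, nat_lit 1, nat_lit 3, nat_lit 2, nat_lit 0, nat_lit 2, nat_lit 1, nat_lit 0, nat_lit 1]))) (.node (nat_lit 1720) (.leaf ((nat_lit 245), [nat_lit 2, nat_lit 0, nat_lit 2])) (.node (nat_lit 1721) (.leaf ((nat_lit 472), [nat_lit 0, nat_lit 1, nat_lit 2, nat_lit 3, nat_lit 1, nat_lit 2, nat_lit 1])) (.leaf ((nat_lit 486), [nat_lit 3, nat_lit 1, nat_lit 2, nat_lit 3, nat_lit 1, nat_lit 2, nat_lit 0, nat_lit 1, nat_lit 0, nat_lit 1, nat_lit 0])))))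
 (.node (nat_lit 1724) (.node (nat_lit 1723) (.leaf ((nat_lit 304), [nat_lit 2, nat_lit 1, nat_lit 3, nat_lit 1, nat_lit 0])) (.leaf ((nat_lit 138), [nat_lit 3, nat_lit 2, nat_lit 1]))) (.node (nat_lit 1725) (.leaf ((nat_lit 104), [nat_lit 0])) (.node (nat_lit 1726) (.leaf ((nat_lit 496), [nat_lit 2, nat_lit 1, nat_lit 3, nat_lit 0, nat_lit 2, nat_lit 1])) (.leaf ((nat_lit 154), [nat_lit 0, nat_lit 1, nat_lit 2, nat_lit 3, nat_lit 1, nat_lit 2]))))))))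
 (.node (nat_lit 1745) (.node (nat_lit 1736) (.node (nat_lit 1731) (.node (nat_lit 1729) (.node (nat_lit 1728) (.leaf ((nat_lit 69), [nat_lit 1, nat_lit 3, nat_lit 1, nat_lit 0, nat_lit 2, nat_lit 1, nat_lit 0])) (.leaf ((nat_lit 529), [nat_lit 0, nat_lit 1, nat_lit 3, nat_lit 1, nat_lit 0, nat_lit 1]))) (.node (nat_lit 1730) (.leaf ((nat_lit 297), [nat_lit 3, nat_lit 1, nat_lit 2, nat_lit 3, nat_lit 1, nat_lit 0, nat_lit 2, nat_lit 0, nat_lit 1, nat_lit 0, nat_lit 1, nat_lit 0])) (.leaf ((nat_lit 85), [nat_lit 0, nat_lit 1, nat_lit 3, nat_lit 1, nat_lit 2, nat_lit 0, nat_lit 1]))))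
 (.node (nat_lit 1733) (.node (nat_lit 1732) (.leaf ((nat_lit 372), [nat_lit 0, nat_lit 1, nat_lit 2, nat_lit 3, nat_lit 1, nat_lit 0, nat_lit 2, nat_lit 1])) (.leaf ((nat_lit 247), [nat_lit 0, nat_lit 1, nat_lit 2, nat_lit 3, nat_lit 2, nat_lit 1, nat_lit 0]))) (.node (nat_lit 1734) (.leaf ((nat_lit 70), [nat_lit 1, nat_lit 2, nat_lit 3, nat_lit 0, nat_lit 2])) (.node (nat_lit 1735) (.leaf ((nat_lit 374), [nat_lit 3, nat_lit 0, nat_lit 2, nat_lit 0, nat_lit 1])) (.leaf ((nat_lit 494), [nat_lit 3, nat_lit 1, nat_lit 2, nat_lit 1, nat_lit 0, nat_lit 1, nat_lit 0]))))))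
 (.node (nat_lit 1740) (.node (nat_lit 1738) (.node (nat_lit 1737) (.leaf ((nat_lit 233), [nat_lit 0, nat_lit 1, nat_lit 3, nat_lit 1, nat_lit 0, nat_lit 2, nat_lit 1, nat_lit 0])) (.leaf ((nat_lit 399), [nat_lit 1, nat_lit 2]))) (.node (nat_lit 1739) (.leaf ((nat_lit 473), [nat_lit 1, nat_lit 3, nat_lit 2, nat_lit 0, nat_lit 1])) (.leaf ((nat_lit 446), [nat_lit 2, nat_lit 1, nat_lit 3, nat_lit 0, nat_lit 2, nat_lit 0, nat_lit 1, nat_lit 0]))))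
 (.node (nat_lit 1742) (.node (nat_lit 1741) (.leaf ((nat_lit 229), [nat_lit 2, nat_lit 0, nat_lit 1, nat_lit 0])) (.leaf ((nat_lit 70), [nat_lit 1, nat_lit 3, nat_lit 2, nat_lit 0, nat_lit 1, nat_lit 0, nat_lit 1, nat_lit 0]))) (.node (nat_lit 1743) (.leaf ((nat_lit 443), [nat_lit 1, nat_lit 3, nat_lit 0, nat_lit 2, nat_lit 1, nat_lit 0])) (.node (nat_lit 1744) (.leaf ((nat_lit 382), [nat_lit 3, nat_lit 2, nat_lit 3, nat_lit 1, nat_lit 0, nat_lit 2])) (.leaf ((nat_lit 129), [nat_lit 3, nat_lit 1, nat_lit 2, nat_lit 3, nat_lit 2, nat_lit 0, nat_lit 2, nat_lit 0, nat_lit 1, nat_lit 0, nat_lit 1, nat_lit 0])))))))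
 (.node (nat_lit 1754) (.node (nat_lit 1749) (.node (nat_lit 1747) (.node (nat_lit 1746) (.leaf ((nat_lit 209), [nat_lit 0, nat_lit 1, nat_lit 0, nat_lit 1, nat_lit 0])) (.leaf ((nat_lit 119), [nat_lit 1, nat_lit 3, nat_lit 1, nat_lit 0, nat_lit 2, nat_lit 1, nat_lit 0, nat_lit 1]))) (.node (nat_lit 1748) (.leaf ((nat_lit 508), [nat_lit 1, nat_lit 2, nat_lit 1, nat_lit 0, nat_lit 1, nat_lit 0])) (.leaf ((nat_lit 211), [nat_lit 2, nat_lit 1, nat_lit 3, nat_lit 2, nat_lit 0, nat_lit 2]))))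
 (.node (nat_lit 1751) (.node (nat_lit 1750) (.leaf ((nat_lit 70), [nat_lit 3, nat_lit 1, nat_lit 2, nat_lit 3, nat_lit 0, nat_lit 2])) (.leaf ((nat_lit 71), [nat_lit 3, nat_lit 0, nat_lit 1, nat_lit 0, nat_lit 1]))) (.node (nat_lit 1752) (.leaf ((nat_lit 243), [nat_lit 3, nat_lit 2, nat_lit 0, nat_lit 2])) (.node (nat_lit 1753) (.leaf ((nat_lit 116), [nat_lit 3, nat_lit 2, nat_lit 3, nat_lit 2, nat_lit 0, nat_lit 2, nat_lit 0])) (.leaf ((nat_lit 287), [nat_lit 0, nat_lit 1, nat_lit 2, nat_lit 3, nat_lit 0, nat_lit 1, nat_lit 0, nat_lit 1]))))))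
 (.node (nat_lit 1759) (.node (nat_lit 1756) (.node (nat_lit 1755) (.leaf ((nat_lit 524), [nat_lit 2, nat_lit 3, nat_lit 1, nat_lit 0, nat_lit 2, nat_lit 0, nat_lit 1, nat_lit 0, nat_lit 1])) (.leaf ((nat_lit 264), [nat_lit 1, nat_lit 3, nat_lit 1, nat_lit 0, nat_lit 2, nat_lit 0]))) (.node (nat_lit 1757) (.leaf ((nat_lit 530), [nat_lit 3, nat_lit 1, nat_lit 3, nat_lit 1, nat_lit 0, nat_lit 2, nat_lit 1, nat_lit 0, nat_lit 1])) (.node (nat_lit 1758) (.leaf ((nat_lit 266), [nat_lit 3, nat_lit 1, nat_lit 2, nat_lit 1])) (.leaf ((nat_lit 531), [nat_lit 2, nat_lit 1, nat_lit 3, nat_lit 1, nat_lit 0, nat_lit 2, nat_lit 0, nat_lit 1, nat_lit 0, nat_lit 1, nat_lit 0])))))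
 (.node (nat_lit 1761) (.node (nat_lit 1760) (.leaf ((nat_lit 273), [nat_lit 2, nat_lit 1, nat_lit 3, nat_lit 0, nat_lit 2, nat_lit 0])) (.leaf ((nat_lit 71), [nat_lit 2, nat_lit 3, nat_lit 2, nat_lit 0, nat_lit 2, nat_lit 1, nat_lit 0]))) (.node (nat_lit 1762) (.leaf ((nat_lit 384), [nat_lit 3, nat_lit 2, nat_lit 3, nat_lit 1, nat_lit 2, nat_lit 0, nat_lit 1, nat_lit 0, nat_lit 1, nat_lit 0])) (.node (nat_lit 1763) (.leaf ((nat_lit 532), [nat_lit 2, nat_lit 1, nat_lit 3, nat_lit 1, nat_lit 0, nat_lit 2, nat_lit 0, nat_lit 1, nat_lit 0])) (.leaf ((nat_lit 107), [nat_lit 1, nat_lit 0, nat_lit 2, nat_lit 1, nat_lit 0, nat_lit 1, nat_lit 0]))))))))))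
noncomputable def bWd_12 : Tr (ℕ × List ℕ) := (.node (nat_lit 1837) (.node (nat_lit 1800) (.node (nat_lit 1782) (.node (nat_lit 1773) (.node (nat_lit 1768) (.node (nat_lit 1766) (.node (nat_lit 1765) (.leaf ((nat_lit 447), [nat_lit 2, nat_lit 3, nat_lit 1, nat_lit 2, nat_lit 0, nat_lit 1, nat_lit 0, nat_lit 1, nat_lit 0])) (.leaf ((nat_lit 423), [nat_lit 3, nat_lit 1, nat_lit 2, nat_lit 3, nat_lit 1, nat_lit 0, nat_lit 2, nat_lit 0, nat_lit 1, nat_lit 0]))) (.node (nat_lit 1767) (.leaf ((nat_lit 533), [nat_lit 0, nat_lit 1, nat_lit 3, nat_lit 1, nat_lit 2])) (.leaf ((nat_lit 533), [nat_lit 1, nat_lit 2, nat_lit 3, nat_lit 2, nat_lit 0, nat_lit 1, nat_lit 0]))))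
 (.node (nat_lit 1770) (.node (nat_lit 1769) (.leaf ((nat_lit 252), [nat_lit 3, nat_lit 1, nat_lit 0, nat_lit 2, nat_lit 0, nat_lit 1])) (.leaf ((nat_lit 71), [nat_lit 1, nat_lit 2, nat_lit 3, nat_lit 2, nat_lit 0, nat_lit 2]))) (.node (nat_lit 1771) (.leaf ((nat_lit 198), [nat_lit 3, nat_lit 1, nat_lit 2, nat_lit 3, nat_lit 0, nat_lit 2, nat_lit 0])) (.node (nat_lit 1772) (.leaf ((nat_lit 253), [nat_lit 3, nat_lit 1, nat_lit 2, nat_lit 3, nat_lit 1, nat_lit 2, nat_lit 1, nat_lit 0, nat_lit 1])) (.leaf ((nat_lit 253), [nat_lit 3, nat_lit 1, nat_lit 3, nat_lit 2, nat_lit 0, nat_lit 2, nat_lit 0]))))))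
 (.node (nat_lit 1777) (.node (nat_lit 1775) (.node (nat_lit 1774) (.leaf ((nat_lit 72), [nat_lit 3, nat_lit 1, nat_lit 2, nat_lit 3, nat_lit 1, nat_lit 2, nat_lit 0])) (.leaf ((nat_lit 102), [nat_lit 3, nat_lit 1, nat_lit 2, nat_lit 3, nat_lit 2, nat_lit 0, nat_lit 1, nat_lit 0]))) (.node (nat_lit 1776) (.leaf ((nat_lit 160), [nat_lit 0, nat_lit 1, nat_lit 2, nat_lit 3, nat_lit 1, nat_lit 2, nat_lit 0])) (.leaf ((nat_lit 310), [nat_lit 0, nat_lit 1, nat_lit 3, nat_lit 0, nat_lit 2, nat_lit 0, nat_lit 1, nat_lit 0, nat_lit 1, nat_lit 0]))))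
 (.node (nat_lit 1779) (.node (nat_lit 1778) (.leaf ((nat_lit 534), [nat_lit 1, nat_lit 2, nat_lit 3, nat_lit 2, nat_lit 0, nat_lit 2, nat_lit 0, nat_lit 1, nat_lit 0])) (.leaf ((nat_lit 232), [nat_lit 0]))) (.node (nat_lit 1780) (.leaf ((nat_lit 500), [nat_lit 1, nat_lit 3, nat_lit 1, nat_lit 0, nat_lit 2, nat_lit 0, nat_lit 1])) (.node (nat_lit 1781) (.leaf ((nat_lit 102), [nat_lit 3, nat_lit 2, nat_lit 3, nat_lit 1, nat_lit 2, nat_lit 1, nat_lit 0, nat_lit 1])) (.leaf ((nat_lit 72), [nat_lit 1, nat_lit 0, nat_lit 2, nat_lit 1])))))))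
 (.node (nat_lit 1791) (.node (nat_lit 1786) (.node (nat_lit 1784) (.node (nat_lit 1783) (.leaf ((nat_lit 233), [nat_lit 3, nat_lit 2, nat_lit 3, nat_lit 0, nat_lit 2])) (.leaf ((nat_lit 353), [nat_lit 3, nat_lit 1, nat_lit 2, nat_lit 3, nat_lit 2, nat_lit 0, nat_lit 2]))) (.node (nat_lit 1785) (.leaf ((nat_lit 535), [nat_lit 3, nat_lit 0, nat_lit 2, nat_lit 0, nat_lit 1, nat_lit 0, nat_lit 1, nat_lit 0])) (.leaf ((nat_lit 318), [nat_lit 2, nat_lit 3, nat_lit 0, nat_lit 1, nat_lit 0]))))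
 (.node (nat_lit 1788) (.node (nat_lit 1787) (.leaf ((nat_lit 410), [nat_lit 3, nat_lit 1, nat_lit 2, nat_lit 3, nat_lit 2, nat_lit 0, nat_lit 2, nat_lit 0, nat_lit 1, nat_lit 0])) (.leaf ((nat_lit 123), [nat_lit 2, nat_lit 3, nat_lit 2, nat_lit 0, nat_lit 1]))) (.node (nat_lit 1789) (.leaf ((nat_lit 262), [nat_lit 3, nat_lit 1, nat_lit 3, nat_lit 2, nat_lit 0, nat_lit 2, nat_lit 1, nat_lit 0, nat_lit 1])) (.node (nat_lit 1790) (.leaf ((nat_lit 72), [nat_lit 2, nat_lit 1, nat_lit 3, nat_lit 2, nat_lit 0, nat_lit 2, nat_lit 0, nat_lit 1, nat_lit 0])) (.leaf ((nat_lit 127), [nat_lit 3, nat_lit 2, nat_lit 3, nat_lit 0, nat_lit 2, nat_lit 0, nat_lit 1, nat_lit 0, nat_lit 1]))))))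
 (.node (nat_lit 1795) (.node (nat_lit 1793) (.node (nat_lit 1792) (.leaf ((nat_lit 438), [nat_lit 1, nat_lit 0, nat_lit 2, nat_lit 1, nat_lit 0])) (.leaf ((nat_lit 437), [nat_lit 1, nat_lit 3, nat_lit 1]))) (.node (nat_lit 1794) (.leaf ((nat_lit 155), [nat_lit 2, nat_lit 0, nat_lit 2, nat_lit 1, nat_lit 0])) (.leaf ((nat_lit 230), [nat_lit 2, nat_lit 1, nat_lit 3, nat_lit 0, nat_lit 2, nat_lit 0, nat_lit 1, nat_lit 0, nat_lit 1]))))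
 (.node (nat_lit 1797) (.node (nat_lit 1796) (.leaf ((nat_lit 322), [nat_lit 3, nat_lit 1, nat_lit 2, nat_lit 3, nat_lit 2, nat_lit 0, nat_lit 2, nat_lit 0, nat_lit 1, nat_lit 0, nat_lit 1, nat_lit 0])) (.leaf ((nat_lit 513), [nat_lit 2, nat_lit 3, nat_lit 1, nat_lit 0, nat_lit 2, nat_lit 1, nat_lit 0, nat_lit 1]))) (.node (nat_lit 1798) (.leaf ((nat_lit 72), [nat_lit 1, nat_lit 3, nat_lit 1, nat_lit 0, nat_lit 2, nat_lit 1, nat_lit 0])) (.node (nat_lit 1799) (.leaf ((nat_lit 536), [nat_lit 2, nat_lit 1, nat_lit 3, nat_lit 2, nat_lit 0])) (.leaf ((nat_lit 502), [nat_lit 3, nat_lit 1, nat_lit 3, nat_lit 0, nat_lit 2, nat_lit 1, nat_lit 0, nat_lit 1]))))))))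
 (.node (nat_lit 1818) (.node (nat_lit 1809) (.node (nat_lit 1804) (.node (nat_lit 1802) (.node (nat_lit 1801) (.leaf ((nat_lit 501), [nat_lit 3, nat_lit 2, nat_lit 0, nat_lit 2, nat_lit 1, nat_lit 0, nat_lit 1, nat_lit 0])) (.leaf ((nat_lit 74), [nat_lit 1, nat_lit 3, nat_lit 2, nat_lit 0, nat_lit 2, nat_lit 1, nat_lit 0]))) (.node (nat_lit 1803) (.leaf ((nat_lit 73), [nat_lit 0, nat_lit 1, nat_lit 3, nat_lit 1, nat_lit 0, nat_lit 2, nat_lit 0, nat_lit 1, nat_lit 0, nat_lit 1, nat_lit 0])) (.leaf ((nat_lit 94), [nat_lit 3, nat_lit 1, nat_lit 2, nat_lit 3, nat_lit 1, nat_lit 2, nat_lit 0]))))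
 (.node (nat_lit 1806) (.node (nat_lit 1805) (.leaf ((nat_lit 196), [nat_lit 2, nat_lit 3, nat_lit 0, nat_lit 2, nat_lit 0, nat_lit 1])) (.leaf ((nat_lit 265), [nat_lit 2, nat_lit 3, nat_lit 1, nat_lit 0]))) (.node (nat_lit 1807) (.leaf ((nat_lit 477), [nat_lit 2, nat_lit 3, nat_lit 2, nat_lit 1, nat_lit 0, nat_lit 1])) (.node (nat_lit 1808) (.leaf ((nat_lit 537), [nat_lit 2, nat_lit 3, nat_lit 2, nat_lit 1, nat_lit 0])) (.leaf ((nat_lit 428), [nat_lit 2, nat_lit 3, nat_lit 0, nat_lit 2]))))))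
 (.node (nat_lit 1813) (.node (nat_lit 1811) (.node (nat_lit 1810) (.leaf ((nat_lit 538), [nat_lit 3, nat_lit 1, nat_lit 2, nat_lit 3, nat_lit 1, nat_lit 0, nat_lit 1])) (.leaf ((nat_lit 258), [nat_lit 0, nat_lit 1, nat_lit 2, nat_lit 3, nat_lit 1, nat_lit 2, nat_lit 0, nat_lit 1, nat_lit 0, nat_lit 1]))) (.node (nat_lit 1812) (.leaf ((nat_lit 97), [nat_lit 3, nat_lit 1, nat_lit 2, nat_lit 3, nat_lit 1, nat_lit 0, nat_lit 2, nat_lit 0, nat_lit 1, nat_lit 0])) (.leaf ((nat_lit 73), [nat_lit 1, nat_lit 3, nat_lit 2, nat_lit 0, nat_lit 2]))))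
 (.node (nat_lit 1815) (.node (nat_lit 1814) (.leaf ((nat_lit 74), [nat_lit 0, nat_lit 1, nat_lit 3, nat_lit 1, nat_lit 0])) (.leaf ((nat_lit 213), [nat_lit 1, nat_lit 2, nat_lit 0]))) (.node (nat_lit 1816) (.leaf ((nat_lit 500), [nat_lit 2, nat_lit 3, nat_lit 1, nat_lit 0, nat_lit 2])) (.node (nat_lit 1817) (.leaf ((nat_lit 232), [nat_lit 1, nat_lit 3, nat_lit 1, nat_lit 2, nat_lit 1])) (.leaf ((nat_lit 299), [nat_lit 2, nat_lit 1, nat_lit 3, nat_lit 1, nat_lit 2, nat_lit 0])))))))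
 (.node (nat_lit 1827) (.node (nat_lit 1822) (.node (nat_lit 1820) (.node (nat_lit 1819) (.leaf ((nat_lit 304), [nat_lit 1, nat_lit 2, nat_lit 3, nat_lit 2, nat_lit 0])) (.leaf ((nat_lit 539), [nat_lit 2, nat_lit 1, nat_lit 3, nat_lit 2, nat_lit 0, nat_lit 1, nat_lit 0, nat_lit 1, nat_lit 0]))) (.node (nat_lit 1821) (.leaf ((nat_lit 540), [nat_lit 1, nat_lit 3, nat_lit 2, nat_lit 1, nat_lit 0])) (.leaf ((nat_lit 299), [nat_lit 0, nat_lit 1, nat_lit 3, nat_lit 2, nat_lit 0, nat_lit 1, nat_lit 0, nat_lit 1]))))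
 (.node (nat_lit 1824) (.node (nat_lit 1823) (.leaf ((nat_lit 301), [nat_lit 1, nat_lit 3, nat_lit 0, nat_lit 1])) (.leaf ((nat_lit 293), [nat_lit 2, nat_lit 1, nat_lit 3, nat_lit 1, nat_lit 0, nat_lit 2, nat_lit 0, nat_lit 1, nat_lit 0]))) (.node (nat_lit 1825) (.leaf ((nat_lit 74), [nat_lit 1, nat_lit 2, nat_lit 3, nat_lit 2, nat_lit 1, nat_lit 0, nat_lit 1])) (.node (nat_lit 1826) (.leaf ((nat_lit 490), [nat_lit 0, nat_lit 2, nat_lit 0, nat_lit 1])) (.leaf ((nat_lit 260), [nat_lit 1, nat_lit 3, nat_lit 1]))))))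
 (.node (nat_lit 1832) (.node (nat_lit 1829) (.node (nat_lit 1828) (.leaf ((nat_lit 497), [nat_lit 2, nat_lit 3, nat_lit 2, nat_lit 0, nat_lit 1, nat_lit 0])) (.leaf ((nat_lit 541), [nat_lit 0, nat_lit 1, nat_lit 3, nat_lit 1, nat_lit 2, nat_lit 1, nat_lit 0, nat_lit 1]))) (.node (nat_lit 1830) (.leaf ((nat_lit 242), [nat_lit 1, nat_lit 2, nat_lit 3, nat_lit 1, nat_lit 0, nat_lit 2, nat_lit 0])) (.node (nat_lit 1831) (.leaf ((nat_lit 511), [nat_lit 3, nat_lit 1, nat_lit 2, nat_lit 3, nat_lit 1, nat_lit 0, nat_lit 2, nat_lit 0])) (.leaf ((nat_lit 501), [nat_lit 3, nat_lit 2, nat_lit 3, nat_lit 2, nat_lit 0, nat_lit 2])))))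
 (.node (nat_lit 1834) (.node (nat_lit 1833) (.leaf ((nat_lit 74), [nat_lit 3])) (.leaf ((nat_lit 261), [nat_lit 3, nat_lit 1, nat_lit 2, nat_lit 3, nat_lit 0, nat_lit 2, nat_lit 1, nat_lit 0, nat_lit 1, nat_lit 0]))) (.node (nat_lit 1835) (.leaf ((nat_lit 473), [nat_lit 2, nat_lit 1, nat_lit 3, nat_lit 1, nat_lit 0, nat_lit 2, nat_lit 1])) (.node (nat_lit 1836) (.leaf ((nat_lit 522), [nat_lit 2, nat_lit 0])) (.leaf ((nat_lit 375), [nat_lit 3, nat_lit 1, nat_lit 0, nat_lit 2, nat_lit 0, nat_lit 1, nat_lit 0, nat_lit 1, nat_lit 0])))))))))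
 (.node (nat_lit 1874) (.node (nat_lit 1855) (.node (nat_lit 1846) (.node (nat_lit 1841) (.node (nat_lit 1839) (.node (nat_lit 1838) (.leaf ((nat_lit 255), [nat_lit 3, nat_lit 1, nat_lit 2, nat_lit 1])) (.leaf ((nat_lit 262), [nat_lit 0, nat_lit 1, nat_lit 2, nat_lit 3, nat_lit 2, nat_lit 1, nat_lit 0]))) (.node (nat_lit 1840) (.leaf ((nat_lit 262), [nat_lit 0, nat_lit 1, nat_lit 2, nat_lit 3, nat_lit 0, nat_lit 2, nat_lit 1, nat_lit 0, nat_lit 1])) (.leaf ((nat_lit 74), [nat_lit 1, nat_lit 2, nat_lit 3, nat_lit 1, nat_lit 0, nat_lit 2, nat_lit 0, nat_lit 1]))))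
 (.node (nat_lit 1843) (.node (nat_lit 1842) (.leaf ((nat_lit 264), [nat_lit 3, nat_lit 1, nat_lit 3, nat_lit 2, nat_lit 0])) (.leaf ((nat_lit 75), [nat_lit 0, nat_lit 1, nat_lit 2, nat_lit 3, nat_lit 2, nat_lit 0]))) (.node (nat_lit 1844) (.leaf ((nat_lit 542), [nat_lit 3, nat_lit 1, nat_lit 3, nat_lit 2, nat_lit 0, nat_lit 1, nat_lit 0, nat_lit 1])) (.node (nat_lit 1845) (.leaf ((nat_lit 543), [nat_lit 3, nat_lit 2, nat_lit 3, nat_lit 1, nat_lit 0])) (.leaf ((nat_lit 538), [nat_lit 0, nat_lit 1, nat_lit 2, nat_lit 3, nat_lit 2, nat_lit 1, nat_lit 0, nat_lit 1, nat_lit 0]))))))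
 (.node (nat_lit 1850) (.node (nat_lit 1848) (.node (nat_lit 1847) (.leaf ((nat_lit 349), [nat_lit 0, nat_lit 1, nat_lit 3, nat_lit 1, nat_lit 2, nat_lit 1, nat_lit 0, nat_lit 1])) (.leaf ((nat_lit 221), [nat_lit 3, nat_lit 2]))) (.node (nat_lit 1849) (.leaf ((nat_lit 75), [nat_lit 3, nat_lit 1, nat_lit 3, nat_lit 1, nat_lit 0, nat_lit 2, nat_lit 0])) (.leaf ((nat_lit 263), [nat_lit 0, nat_lit 1, nat_lit 2, nat_lit 3, nat_lit 0, nat_lit 2, nat_lit 0, nat_lit 1, nat_lit 0]))))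
 (.node (nat_lit 1852) (.node (nat_lit 1851) (.leaf ((nat_lit 360), [nat_lit 3, nat_lit 1, nat_lit 2, nat_lit 3, nat_lit 1, nat_lit 2, nat_lit 1, nat_lit 0, nat_lit 1, nat_lit 0])) (.leaf ((nat_lit 544), [nat_lit 0, nat_lit 1, nat_lit 2, nat_lit 3, nat_lit 2, nat_lit 0, nat_lit 2, nat_lit 1]))) (.node (nat_lit 1853) (.leaf ((nat_lit 545), [nat_lit 1, nat_lit 3, nat_lit 2, nat_lit 0, nat_lit 2, nat_lit 0, nat_lit 1, nat_lit 0, nat_lit 1])) (.node (nat_lit 1854) (.leaf ((nat_lit 250), [nat_lit 1, nat_lit 3, nat_lit 1, nat_lit 0, nat_lit 2, nat_lit 0])) (.leaf ((nat_lit 422), [nat_lit 1, nat_lit 2, nat_lit 3, nat_lit 1, nat_lit 0, nat_lit 1, nat_lit 0])))))))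
 (.node (nat_lit 1864) (.node (nat_lit 1859) (.node (nat_lit 1857) (.node (nat_lit 1856) (.leaf ((nat_lit 546), [nat_lit 3, nat_lit 1, nat_lit 2, nat_lit 3, nat_lit 2, nat_lit 0, nat_lit 2, nat_lit 1, nat_lit 0, nat_lit 1])) (.leaf ((nat_lit 533), [nat_lit 3, nat_lit 1, nat_lit 2, nat_lit 3, nat_lit 0]))) (.node (nat_lit 1858) (.leaf ((nat_lit 547), [nat_lit 0, nat_lit 1, nat_lit 3, nat_lit 1, nat_lit 2, nat_lit 0])) (.leaf ((nat_lit 396), [nat_lit 2, nat_lit 1, nat_lit 3, nat_lit 0, nat_lit 2, nat_lit 1, nat_lit 0, nat_lit 1, nat_lit 0]))))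
 (.node (nat_lit 1861) (.node (nat_lit 1860) (.leaf ((nat_lit 75), [nat_lit 3, nat_lit 1, nat_lit 3, nat_lit 0, nat_lit 2, nat_lit 0, nat_lit 1, nat_lit 0, nat_lit 1])) (.leaf ((nat_lit 98), [nat_lit 1, nat_lit 0, nat_lit 2, nat_lit 1, nat_lit 0]))) (.node (nat_lit 1862) (.leaf ((nat_lit 257), [nat_lit 0, nat_lit 1, nat_lit 3, nat_lit 2])) (.node (nat_lit 1863) (.leaf ((nat_lit 531), [nat_lit 3, nat_lit 2, nat_lit 1, nat_lit 0])) (.leaf ((nat_lit 251), [nat_lit 3, nat_lit 1, nat_lit 3, nat_lit 2, nat_lit 0, nat_lit 2, nat_lit 1, nat_lit 0, nat_lit 1]))))))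
 (.node (nat_lit 1869) (.node (nat_lit 1866) (.node (nat_lit 1865) (.leaf ((nat_lit 77), [nat_lit 3, nat_lit 2, nat_lit 3, nat_lit 0, nat_lit 2, nat_lit 1])) (.leaf ((nat_lit 494), [nat_lit 3, nat_lit 1, nat_lit 3, nat_lit 0, nat_lit 1]))) (.node (nat_lit 1867) (.leaf ((nat_lit 99), [nat_lit 2, nat_lit 3, nat_lit 1, nat_lit 2, nat_lit 0, nat_lit 1, nat_lit 0])) (.node (nat_lit 1868) (.leaf ((nat_lit 75), [nat_lit 1, nat_lit 3, nat_lit 0, nat_lit 2, nat_lit 0, nat_lit 1, nat_lit 0, nat_lit 1, nat_lit 0])) (.leaf ((nat_lit 81), [nat_lit 0, nat_lit 2, nat_lit 0, nat_lit 1])))))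
 (.node (nat_lit 1871) (.node (nat_lit 1870) (.leaf ((nat_lit 281), [nat_lit 2, nat_lit 3, nat_lit 0, nat_lit 2])) (.leaf ((nat_lit 515), [nat_lit 1, nat_lit 0, nat_lit 2, nat_lit 1, nat_lit 0, nat_lit 1]))) (.node (nat_lit 1872) (.leaf ((nat_lit 76), [nat_lit 0, nat_lit 2, nat_lit 1, nat_lit 0, nat_lit 1, nat_lit 0])) (.node (nat_lit 1873) (.leaf ((nat_lit 312), [nat_lit 2, nat_lit 3, nat_lit 1, nat_lit 2, nat_lit 0, nat_lit 1])) (.leaf ((nat_lit 548), [nat_lit 2, nat_lit 1, nat_lit 3, nat_lit 2, nat_lit 0, nat_lit 2, nat_lit 1, nat_lit 0]))))))))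
 (.node (nat_lit 1892) (.node (nat_lit 1883) (.node (nat_lit 1878) (.node (nat_lit 1876) (.node (nat_lit 1875) (.leaf ((nat_lit 549), [nat_lit 1, nat_lit 2, nat_lit 3, nat_lit 1, nat_lit 0, nat_lit 2, nat_lit 0, nat_lit 1, nat_lit 0])) (.leaf ((nat_lit 223), [nat_lit 1, nat_lit 2, nat_lit 3, nat_lit 2, nat_lit 1]))) (.node (nat_lit 1877) (.leaf ((nat_lit 527), [nat_lit 3, nat_lit 2, nat_lit 3, nat_lit 2, nat_lit 0, nat_lit 2, nat_lit 0, nat_lit 1, nat_lit 0])) (.leaf ((nat_lit 326), [nat_lit 3, nat_lit 1, nat_lit 0, nat_lit 2, nat_lit 0, nat_lit 1, nat_lit 0, nat_lit 1]))))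
 (.node (nat_lit 1880) (.node (nat_lit 1879) (.leaf ((nat_lit 312), [nat_lit 1, nat_lit 3, nat_lit 1, nat_lit 2, nat_lit 0, nat_lit 1, nat_lit 0, nat_lit 1, nat_lit 0])) (.leaf ((nat_lit 76), [nat_lit 0, nat_lit 1, nat_lit 2, nat_lit 3, nat_lit 1, nat_lit 0, nat_lit 2, nat_lit 0, nat_lit 1, nat_lit 0]))) (.node (nat_lit 1881) (.leaf ((nat_lit 453), [nat_lit 2, nat_lit 3, nat_lit 1])) (.node (nat_lit 1882) (.leaf ((nat_lit 356), [nat_lit 0, nat_lit 1, nat_lit 2, nat_lit 3, nat_lit 1, nat_lit 0, nat_lit 2, nat_lit 0, nat_lit 1])) (.leaf ((nat_lit 550), [nat_lit 3, nat_lit 2, nat_lit 3, nat_lit 1, nat_lit 2, nat_lit 1, nat_lit 0, nat_lit 1]))))))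
 (.node (nat_lit 1887) (.node (nat_lit 1885) (.node (nat_lit 1884) (.leaf ((nat_lit 165), [nat_lit 2, nat_lit 1, nat_lit 0, nat_lit 1])) (.leaf ((nat_lit 272), [nat_lit 1, nat_lit 2, nat_lit 3, nat_lit 1, nat_lit 2, nat_lit 0, nat_lit 1]))) (.node (nat_lit 1886) (.leaf ((nat_lit 551), [nat_lit 1, nat_lit 3, nat_lit 0])) (.leaf ((nat_lit 308), [nat_lit 3, nat_lit 2, nat_lit 3, nat_lit 2, nat_lit 0, nat_lit 1, nat_lit 0]))))
 (.node (nat_lit 1889) (.node (nat_lit 1888) (.leaf ((nat_lit 76), [nat_lit 1, nat_lit 2, nat_lit 3, nat_lit 2, nat_lit 0, nat_lit 2, nat_lit 0, nat_lit 1])) (.leaf ((nat_lit 552), [nat_lit 2, nat_lit 1, nat_lit 3, nat_lit 2, nat_lit 0, nat_lit 1, nat_lit 0, nat_lit 1, nat_lit 0]))) (.node (nat_lit 1890) (.leaf ((nat_lit 459), [nat_lit 3, nat_lit 2, nat_lit 3, nat_lit 0, nat_lit 1])) (.node (nat_lit 1891) (.leaf ((nat_lit 553), [nat_lit 0, nat_lit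 1, nat_lit 2, nat_lit 3, nat_lit 2, nat_lit 0, nat_lit 2, nat_lit 0, nat_lit 1, nat_lit 0, nat_lit 1, nat_lit 0])) (.leaf ((nat_lit 554), [nat_lit 2, nat_lit 0, nat_lit 2, nat_lit 0, nat_lit 1, nat_lit 0])))))))
 (.node (nat_lit 1901) (.node (nat_lit 1896) (.node (nat_lit 1894) (.node (nat_lit 1893) (.leaf ((nat_lit 432), [nat_lit 3, nat_lit 1, nat_lit 2, nat_lit 3, nat_lit 2, nat_lit 0, nat_lit 2, nat_lit 1, nat_lit 0])) (.leaf ((nat_lit 317), [nat_lit 0, nat_lit 1, nat_lit 2, nat_lit 3]))) (.node (nat_lit 1895) (.leaf ((nat_lit 555), [nat_lit 2, nat_lit 1, nat_lit 3, nat_lit 0, nat_lit 1])) (.leaf ((nat_lit 76), [nat_lit 2, nat_lit 0]))))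
 (.node (nat_lit 1898) (.node (nat_lit 1897) (.leaf ((nat_lit 556), [nat_lit 3, nat_lit 2, nat_lit 3, nat_lit 1, nat_lit 0, nat_lit 2, nat_lit 1, nat_lit 0, nat_lit 1])) (.leaf ((nat_lit 517), [nat_lit 3, nat_lit 1, nat_lit 2, nat_lit 3, nat_lit 2, nat_lit 0, nat_lit 1]))) (.node (nat_lit 1899) (.leaf ((nat_lit 237), [nat_lit 0, nat_lit 1])) (.node (nat_lit 1900) (.leaf ((nat_lit 557), [nat_lit 2, nat_lit 3, nat_lit 2, nat_lit 1])) (.leaf ((nat_lit 558), [nat_lit 2, nat_lit 1, nat_lit 3, nat_lit 1, nat_lit 0, nat_lit 2, nat_lit 0, nat_lit 1]))))))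
 (.node (nat_lit 1906) (.node (nat_lit 1903) (.node (nat_lit 1902) (.leaf ((nat_lit 77), [nat_lit 2, nat_lit 3, nat_lit 2, nat_lit 0, nat_lit 1])) (.leaf ((nat_lit 538), [nat_lit 3, nat_lit 2, nat_lit 0, nat_lit 2, nat_lit 1, nat_lit 0, nat_lit 1, nat_lit 0]))) (.node (nat_lit 1904) (.leaf ((nat_lit 131), [nat_lit 2, nat_lit 3, nat_lit 0, nat_lit 2, nat_lit 0])) (.node (nat_lit 1905) (.leaf ((nat_lit 269), [nat_lit 1, nat_lit 2, nat_lit 3, nat_lit 0, nat_lit 2, nat_lit 1])) (.leaf ((nat_lit 165), [nat_lit 1, nat_lit 2, nat_lit 3, nat_lit 2, nat_lit 1])))))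
 (.node (nat_lit 1908) (.node (nat_lit 1907) (.leaf ((nat_lit 559), [nat_lit 2, nat_lit 0, nat_lit 2])) (.leaf ((nat_lit 525), [nat_lit 3, nat_lit 2, nat_lit 3, nat_lit 2, nat_lit 0, nat_lit 2]))) (.node (nat_lit 1909) (.leaf ((nat_lit 517), [nat_lit 1, nat_lit 3, nat_lit 0, nat_lit 1, nat_lit 0, nat_lit 1])) (.node (nat_lit 1910) (.leaf ((nat_lit 419), [nat_lit 0, nat_lit 1, nat_lit 3, nat_lit 2, nat_lit 0, nat_lit 1])) (.leaf ((nat_lit 77), [nat_lit 3, nat_lit 1, nat_lit 2, nat_lit 0, nat_lit 1, nat_lit 0, nat_lit 1, nat_lit 0]))))))))))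
noncomputable def bWd_13 : Tr (ℕ × List ℕ) := (.node (nat_lit 1984) (.node (nat_lit 1947) (.node (nat_lit 1929) (.node (nat_lit 1920) (.node (nat_lit 1915) (.node (nat_lit 1913) (.node (nat_lit 1912) (.leaf ((nat_lit 274), [nat_lit 3, nat_lit 2, nat_lit 3, nat_lit 1, nat_lit 2, nat_lit 1, nat_lit 0, nat_lit 1, nat_lit 0])) (.leaf ((nat_lit 78), [nat_lit 2, nat_lit 1, nat_lit 3, nat_lit 1, nat_lit 0]))) (.node (nat_lit 1914) (.leaf ((nat_lit 251), [nat_lit 2, nat_lit 1, nat_lit 3, nat_lit 0, nat_lit 2, nat_lit 0])) (.leaf ((nat_lit 96), [nat_lit 3, nat_lit 1, nat_lit 2, nat_lit 3, nat_lit 1]))))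
 (.node (nat_lit 1917) (.node (nat_lit 1916) (.leaf ((nat_lit 560), [nat_lit 3, nat_lit 2, nat_lit 3, nat_lit 1, nat_lit 0, nat_lit 2, nat_lit 1, nat_lit 0, nat_lit 1, nat_lit 0])) (.leaf ((nat_lit 273), [nat_lit 1, nat_lit 0, nat_lit 2, nat_lit 0, nat_lit 1, nat_lit 0, nat_lit 1, nat_lit 0]))) (.node (nat_lit 1918) (.leaf ((nat_lit 273), [nat_lit 2, nat_lit 3, nat_lit 2])) (.node (nat_lit 1919) (.leaf ((nat_lit 78), [nat_lit 3, nat_lit 0, nat_lit 2, nat_lit 0, nat_lit 1, nat_lit 0, nat_lit 1])) (.leaf ((nat_lit 273), [nat_lit 3, nat_lit 2, nat_lit 3, nat_lit 1, nat_lit 2, nat_lit 1, nat_lit 0, nat_lit 1, nat_lit 0]))))))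
 (.node (nat_lit 1924) (.node (nat_lit 1922) (.node (nat_lit 1921) (.leaf ((nat_lit 281), [nat_lit 0, nat_lit 2, nat_lit 0])) (.leaf ((nat_lit 507), [nat_lit 3, nat_lit 1, nat_lit 3, nat_lit 2, nat_lit 1, nat_lit 0, nat_lit 1, nat_lit 0]))) (.node (nat_lit 1923) (.leaf ((nat_lit 274), [nat_lit 3, nat_lit 2, nat_lit 3, nat_lit 1, nat_lit 2, nat_lit 1, nat_lit 0, nat_lit 1, nat_lit 0])) (.leaf ((nat_lit 561), [nat_lit 1, nat_lit 2, nat_lit 3, nat_lit 0, nat_lit 2, nat_lit 1, nat_lit 0, nat_lit 1, nat_lit 0]))))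
 (.node (nat_lit 1926) (.node (nat_lit 1925) (.leaf ((nat_lit 562), [nat_lit 3, nat_lit 1, nat_lit 2, nat_lit 3, nat_lit 1, nat_lit 2, nat_lit 0, nat_lit 1, nat_lit 0, nat_lit 1])) (.leaf ((nat_lit 306), [nat_lit 1, nat_lit 0, nat_lit 2, nat_lit 0, nat_lit 1]))) (.node (nat_lit 1927) (.leaf ((nat_lit 87), [nat_lit 0, nat_lit 1, nat_lit 3, nat_lit 0, nat_lit 2])) (.node (nat_lit 1928) (.leaf ((nat_lit 79), [nat_lit 3, nat_lit 0, nat_lit 2, nat_lit 0, nat_lit 1, nat_lit 0, nat_lit 1, nat_lit 0])) (.leaf ((nat_lit 78), [nat_lit 1, nat_lit 0])))))))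
 (.node (nat_lit 1938) (.node (nat_lit 1933) (.node (nat_lit 1931) (.node (nat_lit 1930) (.leaf ((nat_lit 275), [nat_lit 0, nat_lit 1, nat_lit 3, nat_lit 1, nat_lit 0, nat_lit 2])) (.leaf ((nat_lit 495), [nat_lit 0, nat_lit 1, nat_lit 3, nat_lit 1, nat_lit 2, nat_lit 0]))) (.node (nat_lit 1932) (.leaf ((nat_lit 560), [nat_lit 1, nat_lit 3, nat_lit 1, nat_lit 2, nat_lit 0, nat_lit 1, nat_lit 0])) (.leaf ((nat_lit 560), [nat_lit 3, nat_lit 2, nat_lit 3, nat_lit 1, nat_lit 0, nat_lit 2, nat_lit 0, nat_lit 1, nat_lit 0]))))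
 (.node (nat_lit 1935) (.node (nat_lit 1934) (.leaf ((nat_lit 475), [nat_lit 0, nat_lit 1, nat_lit 2, nat_lit 3, nat_lit 1, nat_lit 0, nat_lit 2, nat_lit 1, nat_lit 0, nat_lit 1, nat_lit 0])) (.leaf ((nat_lit 495), [nat_lit 1, nat_lit 3, nat_lit 2, nat_lit 1, nat_lit 0, nat_lit 1]))) (.node (nat_lit 1936) (.leaf ((nat_lit 115), [nat_lit 3, nat_lit 2, nat_lit 0, nat_lit 2, nat_lit 1, nat_lit 0])) (.node (nat_lit 1937) (.leaf ((nat_lit 78), [nat_lit 3, nat_lit 0, nat_lit 2, nat_lit 0])) (.leaf ((nat_lit 563), [nat_lit 3, nat_lit 2, nat_lit 3, nat_lit 2, nat_lit 0, nat_lit 2, nat_lit 0, nat_lit 1, nat_lit 0, nat_lit 1, nat_lit 0]))))))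
 (.node (nat_lit 1942) (.node (nat_lit 1940) (.node (nat_lit 1939) (.leaf ((nat_lit 384), [nat_lit 3, nat_lit 2, nat_lit 3, nat_lit 2, nat_lit 0, nat_lit 2, nat_lit 1, nat_lit 0, nat_lit 1, nat_lit 0])) (.leaf ((nat_lit 486), [nat_lit 2, nat_lit 3, nat_lit 0, nat_lit 2]))) (.node (nat_lit 1941) (.leaf ((nat_lit 516), [nat_lit 3, nat_lit 2, nat_lit 3, nat_lit 1, nat_lit 2])) (.leaf ((nat_lit 115), [nat_lit 1, nat_lit 2, nat_lit 3, nat_lit 1, nat_lit 2, nat_lit 1, nat_lit 0]))))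
 (.node (nat_lit 1944) (.node (nat_lit 1943) (.leaf ((nat_lit 495), [nat_lit 3, nat_lit 1, nat_lit 2, nat_lit 3, nat_lit 0, nat_lit 1])) (.leaf ((nat_lit 339), [nat_lit 1, nat_lit 2, nat_lit 3, nat_lit 1, nat_lit 2, nat_lit 0]))) (.node (nat_lit 1945) (.leaf ((nat_lit 78), [nat_lit 3, nat_lit 1, nat_lit 2, nat_lit 3, nat_lit 0, nat_lit 2, nat_lit 1, nat_lit 0, nat_lit 1, nat_lit 0])) (.node (nat_lit 1946) (.leaf ((nat_lit 219), [nat_lit 1, nat_lit 3, nat_lit 0, nat_lit 1, nat_lit 0, nat_lit 1])) (.leaf ((nat_lit 298), [nat_lit 2, nat_lit 3, nat_lit 1, nat_lit 2, nat_lit 0, nat_lit 1]))))))))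
 (.node (nat_lit 1965) (.node (nat_lit 1956) (.node (nat_lit 1951) (.node (nat_lit 1949) (.node (nat_lit 1948) (.leaf ((nat_lit 181), [nat_lit 3, nat_lit 0, nat_lit 2, nat_lit 1, nat_lit 0, nat_lit 1, nat_lit 0])) (.leaf ((nat_lit 167), [nat_lit 2, nat_lit 1, nat_lit 3, nat_lit 1, nat_lit 2, nat_lit 1]))) (.node (nat_lit 1950) (.leaf ((nat_lit 297), [nat_lit 1, nat_lit 3, nat_lit 2, nat_lit 0, nat_lit 2])) (.leaf ((nat_lit 107), [nat_lit 0, nat_lit 1, nat_lit 3, nat_lit 1, nat_lit 2, nat_lit 1, nat_lit 0, nat_lit 1, nat_lit 0]))))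
 (.node (nat_lit 1953) (.node (nat_lit 1952) (.leaf ((nat_lit 343), [nat_lit 3, nat_lit 1, nat_lit 3, nat_lit 2, nat_lit 1])) (.leaf ((nat_lit 78), [nat_lit 3, nat_lit 1, nat_lit 3, nat_lit 0, nat_lit 2]))) (.node (nat_lit 1954) (.leaf ((nat_lit 280), [nat_lit 1, nat_lit 2, nat_lit 3, nat_lit 1, nat_lit 2])) (.node (nat_lit 1955) (.leaf ((nat_lit 79), [nat_lit 3, nat_lit 1, nat_lit 2, nat_lit 1, nat_lit 0, nat_lit 1])) (.leaf ((nat_lit 337), [nat_lit 3, nat_lit 2, nat_lit 3]))))))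
 (.node (nat_lit 1960) (.node (nat_lit 1958) (.node (nat_lit 1957) (.leaf ((nat_lit 336), [nat_lit 0, nat_lit 1, nat_lit 2, nat_lit 3])) (.leaf ((nat_lit 345), [nat_lit 1, nat_lit 2, nat_lit 3, nat_lit 2, nat_lit 0, nat_lit 2]))) (.node (nat_lit 1959) (.leaf ((nat_lit 190), [nat_lit 2, nat_lit 0, nat_lit 2])) (.leaf ((nat_lit 117), [nat_lit 3, nat_lit 1, nat_lit 2, nat_lit 3, nat_lit 0, nat_lit 2, nat_lit 0, nat_lit 1, nat_lit 0, nat_lit 1]))))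
 (.node (nat_lit 1962) (.node (nat_lit 1961) (.leaf ((nat_lit 79), [nat_lit 1, nat_lit 2, nat_lit 0, nat_lit 1])) (.leaf ((nat_lit 279), [nat_lit 2, nat_lit 1, nat_lit 3, nat_lit 2, nat_lit 1]))) (.node (nat_lit 1963) (.leaf ((nat_lit 528), [nat_lit 2, nat_lit 0, nat_lit 1])) (.node (nat_lit 1964) (.leaf ((nat_lit 527), [nat_lit 2, nat_lit 1, nat_lit 3, nat_lit 0, nat_lit 2, nat_lit 0, nat_lit 1, nat_lit 0, nat_lit 1, nat_lit 0])) (.leaf ((nat_lit 462), [nat_lit 1, nat_lit 2, nat_lit 0, nat_lit 1, nat_lit 0, nat_lit 1])))))))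
 (.node (nat_lit 1974) (.node (nat_lit 1969) (.node (nat_lit 1967) (.node (nat_lit 1966) (.leaf ((nat_lit 431), [nat_lit 0, nat_lit 1, nat_lit 3, nat_lit 0, nat_lit 2])) (.leaf ((nat_lit 450), [nat_lit 0, nat_lit 1, nat_lit 2, nat_lit 3, nat_lit 1, nat_lit 2, nat_lit 0, nat_lit 1, nat_lit 0, nat_lit 1]))) (.node (nat_lit 1968) (.leaf ((nat_lit 515), [nat_lit 3, nat_lit 1, nat_lit 2, nat_lit 3, nat_lit 0])) (.leaf ((nat_lit 267), [nat_lit 2, nat_lit 3, nat_lit 1, nat_lit 2, nat_lit 0]))))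
 (.node (nat_lit 1971) (.node (nat_lit 1970) (.leaf ((nat_lit 274), [nat_lit 0, nat_lit 2, nat_lit 0])) (.leaf ((nat_lit 334), [nat_lit 3, nat_lit 2, nat_lit 3, nat_lit 0, nat_lit 2, nat_lit 0, nat_lit 1]))) (.node (nat_lit 1972) (.leaf ((nat_lit 79), [nat_lit 3, nat_lit 1, nat_lit 2, nat_lit 3, nat_lit 2, nat_lit 0, nat_lit 2, nat_lit 0, nat_lit 1, nat_lit 0, nat_lit 1])) (.node (nat_lit 1973) (.leaf ((nat_lit 539), [nat_lit 3, nat_lit 1, nat_lit 0, nat_lit 2, nat_lit 0, nat_lit 1])) (.leaf ((nat_lit 329), [nat_lit 2, nat_lit 3, nat_lit 1, nat_lit 0, nat_lit 2, nat_lit 0, nat_lit 1]))))))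
 (.node (nat_lit 1979) (.node (nat_lit 1976) (.node (nat_lit 1975) (.leaf ((nat_lit 564), [nat_lit 1, nat_lit 2, nat_lit 3, nat_lit 1, nat_lit 0, nat_lit 1, nat_lit 0])) (.leaf ((nat_lit 317), [nat_lit 1, nat_lit 2, nat_lit 3, nat_lit 1, nat_lit 2, nat_lit 0, nat_lit 1, nat_lit 0, nat_lit 1, nat_lit 0]))) (.node (nat_lit 1977) (.leaf ((nat_lit 563), [nat_lit 3, nat_lit 1, nat_lit 0, nat_lit 1])) (.node (nat_lit 1978) (.leaf ((nat_lit 282), [nat_lit 2, nat_lit 1, nat_lit 3, nat_lit 0, nat_lit 2, nat_lit 0, nat_lit 1, nat_lit 0, nat_lit 1])) (.leaf ((nat_lit 565), [nat_lit 0, nat_lit 2, nat_lit 0, nat_lit 1, nat_lit 0])))))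
 (.node (nat_lit 1981) (.node (nat_lit 1980) (.leaf ((nat_lit 79), [nat_lit 3, nat_lit 1, nat_lit 0, nat_lit 2, nat_lit 1])) (.leaf ((nat_lit 444), [nat_lit 2, nat_lit 3, nat_lit 1, nat_lit 2, nat_lit 0, nat_lit 1, nat_lit 0]))) (.node (nat_lit 1982) (.leaf ((nat_lit 188), [nat_lit 1, nat_lit 3, nat_lit 0, nat_lit 2, nat_lit 0, nat_lit 1, nat_lit 0, nat_lit 1])) (.node (nat_lit 1983) (.leaf ((nat_lit 80), [nat_lit 3, nat_lit 1, nat_lit 2, nat_lit 3, nat_lit 1, nat_lit 0, nat_lit 1])) (.leaf ((nat_lit 548), [nat_lit 0, nat_lit 2, nat_lit 0, nat_lit 1, nat_lit 0])))))))))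
 (.node (nat_lit 2021) (.node (nat_lit 2002) (.node (nat_lit 1993) (.node (nat_lit 1988) (.node (nat_lit 1986) (.node (nat_lit 1985) (.leaf ((nat_lit 283), [nat_lit 1, nat_lit 0, nat_lit 2, nat_lit 0, nat_lit 1, nat_lit 0, nat_lit 1, nat_lit 0])) (.leaf ((nat_lit 237), [nat_lit 2, nat_lit 3, nat_lit 0, nat_lit 2, nat_lit 1, nat_lit 0]))) (.node (nat_lit 1987) (.leaf ((nat_lit 222), [nat_lit 0, nat_lit 1, nat_lit 2, nat_lit 3, nat_lit 2, nat_lit 0, nat_lit 1, nat_lit 0, nat_lit 1, nat_lit 0])) (.leaf ((nat_lit 349), [nat_lit 1, nat_lit 2, nat_lit 3, nat_lit 1, nat_lit 2, nat_lit 1, nat_lit 0, nat_lit 1]))))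
 (.node (nat_lit 1990) (.node (nat_lit 1989) (.leaf ((nat_lit 81), [nat_lit 3, nat_lit 1, nat_lit 2, nat_lit 1, nat_lit 0])) (.leaf ((nat_lit 286), [nat_lit 2, nat_lit 3, nat_lit 2, nat_lit 0, nat_lit 2, nat_lit 0]))) (.node (nat_lit 1991) (.leaf ((nat_lit 80), [nat_lit 3, nat_lit 1, nat_lit 0, nat_lit 2, nat_lit 0, nat_lit 1, nat_lit 0, nat_lit 1, nat_lit 0])) (.node (nat_lit 1992) (.leaf ((nat_lit 191), [nat_lit 0, nat_lit 1, nat_lit 2, nat_lit 3, nat_lit 1, nat_lit 2, nat_lit 1, nat_lit 0, nat_lit 1])) (.leaf ((nat_lit 494), [nat_lit 3, nat_lit 1, nat_lit 3, nat_lit 0, nat_lit 2, nat_lit 0]))))))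
 (.node (nat_lit 1997) (.node (nat_lit 1995) (.node (nat_lit 1994) (.leaf ((nat_lit 566), [nat_lit 1, nat_lit 2, nat_lit 3, nat_lit 1, nat_lit 0, nat_lit 2, nat_lit 1, nat_lit 0, nat_lit 1])) (.leaf ((nat_lit 508), [nat_lit 1, nat_lit 2, nat_lit 3, nat_lit 1, nat_lit 2, nat_lit 1, nat_lit 0, nat_lit 1, nat_lit 0]))) (.node (nat_lit 1996) (.leaf ((nat_lit 519), [nat_lit 2, nat_lit 1, nat_lit 3, nat_lit 1, nat_lit 0, nat_lit 2, nat_lit 0, nat_lit 1, nat_lit 0])) (.leaf ((nat_lit 239), [nat_lit 3, nat_lit 1, nat_lit 2, nat_lit 3, nat_lit 1, nat_lit 0, nat_lit 1]))))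
 (.node (nat_lit 1999) (.node (nat_lit 1998) (.leaf ((nat_lit 396), [nat_lit 3, nat_lit 0, nat_lit 1, nat_lit 0, nat_lit 1])) (.leaf ((nat_lit 547), [nat_lit 2, nat_lit 3, nat_lit 0, nat_lit 2, nat_lit 0, nat_lit 1, nat_lit 0]))) (.node (nat_lit 2000) (.leaf ((nat_lit 544), [nat_lit 2, nat_lit 1, nat_lit 3, nat_lit 1, nat_lit 0, nat_lit 2, nat_lit 1, nat_lit 0, nat_lit 1])) (.node (nat_lit 2001) (.leaf ((nat_lit 80), [nat_lit 0, nat_lit 1, nat_lit 2, nat_lit 3, nat_lit 1, nat_lit 2, nat_lit 0, nat_lit 1, nat_lit 0, nat_lit 1])) (.leaf ((nat_lit 285), [nat_lit 3, nat_lit 2, nat_lit 3, nat_lit 0, nat_lit 2, nat_lit 1, nat_lit 0])))))))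
 (.node (nat_lit 2011) (.node (nat_lit 2006) (.node (nat_lit 2004) (.node (nat_lit 2003) (.leaf ((nat_lit 284), [nat_lit 0, nat_lit 1, nat_lit 3, nat_lit 0, nat_lit 2])) (.leaf ((nat_lit 81), [nat_lit 3, nat_lit 1, nat_lit 2, nat_lit 3, nat_lit 0, nat_lit 2]))) (.node (nat_lit 2005) (.leaf ((nat_lit 359), [nat_lit 1, nat_lit 0, nat_lit 2])) (.leaf ((nat_lit 238), [nat_lit 2, nat_lit 0, nat_lit 2, nat_lit 1]))))
 (.node (nat_lit 2008) (.node (nat_lit 2007) (.leaf ((nat_lit 286), [nat_lit 3, nat_lit 1, nat_lit 0, nat_lit 2, nat_lit 0, nat_lit 1, nat_lit 0])) (.leaf ((nat_lit 560), [nat_lit 3, nat_lit 1, nat_lit 3, nat_lit 1, nat_lit 0]))) (.node (nat_lit 2009) (.leaf ((nat_lit 179), [nat_lit 0, nat_lit 1, nat_lit 3, nat_lit 2, nat_lit 0, nat_lit 1, nat_lit 0])) (.node (nat_lit 2010) (.leaf ((nat_lit 567), [nat_lit 0, nat_lit 1, nat_lit 3, nat_lit 0, nat_lit 2, nat_lit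 1, nat_lit 0, nat_lit 1])) (.leaf ((nat_lit 494), [nat_lit 3, nat_lit 0, nat_lit 2, nat_lit 1, nat_lit 0, nat_lit 1]))))))
 (.node (nat_lit 2016) (.node (nat_lit 2013) (.node (nat_lit 2012) (.leaf ((nat_lit 335), [nat_lit 1, nat_lit 0, nat_lit 2, nat_lit 0, nat_lit 1])) (.leaf ((nat_lit 250), [nat_lit 3, nat_lit 2, nat_lit 3, nat_lit 2]))) (.node (nat_lit 2014) (.leaf ((nat_lit 81), [nat_lit 3, nat_lit 2, nat_lit 0, nat_lit 1, nat_lit 0, nat_lit 1])) (.node (nat_lit 2015) (.leaf ((nat_lit 544), [nat_lit 3, nat_lit 1, nat_lit 3, nat_lit 1, nat_lit 2, nat_lit 1, nat_lit 0, nat_lit 1])) (.leaf ((nat_lit 209), [nat_lit 0, nat_lit 1, nat_lit 3, nat_lit 2, nat_lit 0, nat_lit 1, nat_lit 0, nat_lit 1, nat_lit 0])))))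
 (.node (nat_lit 2018) (.node (nat_lit 2017) (.leaf ((nat_lit 163), [nat_lit 1, nat_lit 0, nat_lit 1, nat_lit 0])) (.leaf ((nat_lit 166), [nat_lit 3, nat_lit 2, nat_lit 0, nat_lit 2, nat_lit 1, nat_lit 0, nat_lit 1, nat_lit 0]))) (.node (nat_lit 2019) (.leaf ((nat_lit 340), [nat_lit 3, nat_lit 0, nat_lit 2, nat_lit 1])) (.node (nat_lit 2020) (.leaf ((nat_lit 288), [nat_lit 0, nat_lit 1, nat_lit 0])) (.leaf ((nat_lit 214), [nat_lit 1, nat_lit 2, nat_lit 3, nat_lit 1, nat_lit 0, nat_lit 2, nat_lit 1, nat_lit 0]))))))))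
 (.node (nat_lit 2039) (.node (nat_lit 2030) (.node (nat_lit 2025) (.node (nat_lit 2023) (.node (nat_lit 2022) (.leaf ((nat_lit 456), [nat_lit 2, nat_lit 1, nat_lit 3, nat_lit 1, nat_lit 2, nat_lit 1, nat_lit 0])) (.leaf ((nat_lit 82), [nat_lit 2, nat_lit 1, nat_lit 3, nat_lit 2, nat_lit 0, nat_lit 2, nat_lit 1, nat_lit 0, nat_lit 1]))) (.node (nat_lit 2024) (.leaf ((nat_lit 290), [nat_lit 1, nat_lit 3, nat_lit 2, nat_lit 1, nat_lit 0, nat_lit 1, nat_lit 0])) (.leaf ((nat_lit 83), [nat_lit 2, nat_lit 0, nat_lit 1, nat_lit 0, nat_lit 1, nat_lit 0]))))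
 (.node (nat_lit 2027) (.node (nat_lit 2026) (.leaf ((nat_lit 503), [nat_lit 3, nat_lit 1, nat_lit 3, nat_lit 2])) (.leaf ((nat_lit 229), [nat_lit 2, nat_lit 3, nat_lit 2, nat_lit 1, nat_lit 0, nat_lit 1, nat_lit 0]))) (.node (nat_lit 2028) (.leaf ((nat_lit 437), [nat_lit 0, nat_lit 1, nat_lit 3, nat_lit 1, nat_lit 2, nat_lit 1, nat_lit 0])) (.node (nat_lit 2029) (.leaf ((nat_lit 121), [nat_lit 3, nat_lit 1, nat_lit 2, nat_lit 3, nat_lit 2, nat_lit 0, nat_lit 2])) (.leaf ((nat_lit 568), [nat_lit 2, nat_lit 3, nat_lit 2, nat_lit 0, nat_lit 2, nat_lit 1, nat_lit 0, nat_lit 1, nat_lit 0]))))))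
 (.node (nat_lit 2034) (.node (nat_lit 2032) (.node (nat_lit 2031) (.leaf ((nat_lit 83), [nat_lit 1, nat_lit 3, nat_lit 0, nat_lit 1])) (.leaf ((nat_lit 289), [nat_lit 1, nat_lit 2, nat_lit 3, nat_lit 1, nat_lit 0, nat_lit 2, nat_lit 0]))) (.node (nat_lit 2033) (.leaf ((nat_lit 496), [nat_lit 3, nat_lit 2, nat_lit 0, nat_lit 1])) (.leaf ((nat_lit 104), [nat_lit 1, nat_lit 2, nat_lit 3, nat_lit 2, nat_lit 0, nat_lit 2, nat_lit 0, nat_lit 1]))))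
 (.node (nat_lit 2036) (.node (nat_lit 2035) (.leaf ((nat_lit 242), [nat_lit 2, nat_lit 1, nat_lit 3, nat_lit 1, nat_lit 0, nat_lit 2, nat_lit 1, nat_lit 0, nat_lit 1])) (.leaf ((nat_lit 318), [nat_lit 3, nat_lit 1, nat_lit 2, nat_lit 1]))) (.node (nat_lit 2037) (.leaf ((nat_lit 569), [nat_lit 1, nat_lit 3, nat_lit 2, nat_lit 0])) (.node (nat_lit 2038) (.leaf ((nat_lit 156), [nat_lit 1, nat_lit 3, nat_lit 2])) (.leaf ((nat_lit 439), [nat_lit 3, nat_lit 1, nat_lit 3, nat_lit 1, nat_lit 0, nat_lit 2])))))))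
 (.node (nat_lit 2048) (.node (nat_lit 2043) (.node (nat_lit 2041) (.node (nat_lit 2040) (.leaf ((nat_lit 83), [nat_lit 3, nat_lit 2, nat_lit 0, nat_lit 1, nat_lit 0])) (.leaf ((nat_lit 570), [nat_lit 1, nat_lit 0, nat_lit 1]))) (.node (nat_lit 2042) (.leaf ((nat_lit 415), [nat_lit 1, nat_lit 3, nat_lit 1, nat_lit 0, nat_lit 2, nat_lit 0, nat_lit 1, nat_lit 0, nat_lit 1])) (.leaf ((nat_lit 322), [nat_lit 3, nat_lit 0, nat_lit 2, nat_lit 1, nat_lit 0, nat_lit 1]))))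
 (.node (nat_lit 2045) (.node (nat_lit 2044) (.leaf ((nat_lit 553), [nat_lit 2, nat_lit 3, nat_lit 1, nat_lit 2, nat_lit 0, nat_lit 1, nat_lit 0])) (.leaf ((nat_lit 171), [nat_lit 0, nat_lit 1, nat_lit 2, nat_lit 3, nat_lit 2, nat_lit 0, nat_lit 2, nat_lit 0, nat_lit 1]))) (.node (nat_lit 2046) (.leaf ((nat_lit 221), [nat_lit 2, nat_lit 0, nat_lit 2, nat_lit 0, nat_lit 1, nat_lit 0])) (.node (nat_lit 2047) (.leaf ((nat_lit 570), [nat_lit 1, nat_lit 3, nat_lit 1, nat_lit 0, nat_lit 1])) (.leaf ((nat_lit 83), [nat_lit 1, nat_lit 2, nat_lit 3, nat_lit 2, nat_lit 0, nat_lit 2, nat_lit 1]))))))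
 (.node (nat_lit 2053) (.node (nat_lit 2050) (.node (nat_lit 2049) (.leaf ((nat_lit 149), [nat_lit 3, nat_lit 1, nat_lit 3, nat_lit 2, nat_lit 0, nat_lit 2, nat_lit 0, nat_lit 1])) (.leaf ((nat_lit 352), [nat_lit 0, nat_lit 1, nat_lit 3, nat_lit 1, nat_lit 0, nat_lit 1]))) (.node (nat_lit 2051) (.leaf ((nat_lit 537), [nat_lit 3, nat_lit 2, nat_lit 3, nat_lit 2, nat_lit 1, nat_lit 0])) (.node (nat_lit 2052) (.leaf ((nat_lit 294), [nat_lit 3, nat_lit 2, nat_lit 0, nat_lit 1, nat_lit 0, nat_lit 1, nat_lit 0])) (.leaf ((nat_lit 302), [nat_lit 2, nat_lit 3, nat_lit 2, nat_lit 0, nat_lit 1, nat_lit 0, nat_lit 1])))))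
 (.node (nat_lit 2055) (.node (nat_lit 2054) (.leaf ((nat_lit 228), [nat_lit 3, nat_lit 2, nat_lit 3, nat_lit 1, nat_lit 2, nat_lit 0])) (.leaf ((nat_lit 260), [nat_lit 3, nat_lit 0, nat_lit 2, nat_lit 0]))) (.node (nat_lit 2056) (.leaf ((nat_lit 83), [nat_lit 1, nat_lit 0, nat_lit 2, nat_lit 0, nat_lit 1, nat_lit 0, nat_lit 1, nat_lit 0])) (.node (nat_lit 2057) (.leaf ((nat_lit 422), [nat_lit 3, nat_lit 1, nat_lit 3, nat_lit 2, nat_lit 1, nat_lit 0])) (.leaf ((nat_lit 571), [nat_lit 0, nat_lit 1, nat_lit 3, nat_lit 1, nat_lit 2, nat_lit 0, nat_lit 1, nat_lit 0]))))))))))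
noncomputable def bWd_14 : Tr (ℕ × List ℕ) := (.node (nat_lit 2131) (.node (nat_lit 2094) (.node (nat_lit 2076) (.node (nat_lit 2067) (.node (nat_lit 2062) (.node (nat_lit 2060) (.node (nat_lit 2059) (.leaf ((nat_lit 302), [nat_lit 2, nat_lit 1, nat_lit 3, nat_lit 2, nat_lit 0, nat_lit 2, nat_lit 1, nat_lit 0, nat_lit 1])) (.leaf ((nat_lit 293), [nat_lit 2, nat_lit 3, nat_lit 1, nat_lit 0, nat_lit 2, nat_lit 0, nat_lit 1]))) (.node (nat_lit 2061) (.leaf ((nat_lit 540), [nat_lit 1, nat_lit 2, nat_lit 3, nat_lit 0, nat_lit 1, nat_lit 0, nat_lit 1, nat_lit 0])) (.leaf ((nat_lit 436), [nat_lit 0, nat_lit 1, nat_lit 3, nat_lit 2, nat_lit 0, nat_lit 2, nat_lit 0, nat_lit 1]))))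
 (.node (nat_lit 2064) (.node (nat_lit 2063) (.leaf ((nat_lit 375), [nat_lit 1, nat_lit 3, nat_lit 0, nat_lit 2, nat_lit 0, nat_lit 1, nat_lit 0])) (.leaf ((nat_lit 496), [nat_lit 3, nat_lit 1, nat_lit 0, nat_lit 2, nat_lit 0, nat_lit 1, nat_lit 0, nat_lit 1, nat_lit 0]))) (.node (nat_lit 2065) (.leaf ((nat_lit 83), [nat_lit 3, nat_lit 1, nat_lit 0, nat_lit 2, nat_lit 0, nat_lit 1, nat_lit 0, nat_lit 1])) (.node (nat_lit 2066) (.leaf ((nat_lit 381), [nat_lit 2, nat_lit 0, nat_lit 2, nat_lit 1, nat_lit 0, nat_lit 1])) (.leaf ((nat_lit 128), [nat_lit 2, nat_lit 3, nat_lit 1, nat_lit 0, nat_lit 1]))))))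
 (.node (nat_lit 2071) (.node (nat_lit 2069) (.node (nat_lit 2068) (.leaf ((nat_lit 295), [nat_lit 3, nat_lit 2, nat_lit 0, nat_lit 2, nat_lit 1, nat_lit 0])) (.leaf ((nat_lit 84), [nat_lit 1, nat_lit 3, nat_lit 1, nat_lit 2]))) (.node (nat_lit 2070) (.leaf ((nat_lit 128), [nat_lit 2, nat_lit 0, nat_lit 2, nat_lit 1, nat_lit 0])) (.leaf ((nat_lit 368), [nat_lit 1, nat_lit 2, nat_lit 3, nat_lit 1, nat_lit 0]))))
 (.node (nat_lit 2073) (.node (nat_lit 2072) (.leaf ((nat_lit 484), [nat_lit 1, nat_lit 3, nat_lit 1, nat_lit 2, nat_lit 0, nat_lit 1, nat_lit 0])) (.leaf ((nat_lit 311), [nat_lit 0, nat_lit 1, nat_lit 2, nat_lit 3, nat_lit 1, nat_lit 0, nat_lit 2, nat_lit 0, nat_lit 1, nat_lit 0]))) (.node (nat_lit 2074) (.leaf ((nat_lit 411), [nat_lit 3, nat_lit 2, nat_lit 3, nat_lit 1, nat_lit 2, nat_lit 0])) (.node (nat_lit 2075) (.leaf ((nat_lit 159), [nat_lit 3, nat_lit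 2, nat_lit 0, nat_lit 2, nat_lit 1, nat_lit 0])) (.leaf ((nat_lit 174), [nat_lit 1, nat_lit 2, nat_lit 3, nat_lit 0, nat_lit 1, nat_lit 0])))))))
 (.node (nat_lit 2085) (.node (nat_lit 2080) (.node (nat_lit 2078) (.node (nat_lit 2077) (.leaf ((nat_lit 142), [nat_lit 0, nat_lit 1, nat_lit 3, nat_lit 2, nat_lit 0, nat_lit 2, nat_lit 0, nat_lit 1, nat_lit 0, nat_lit 1])) (.leaf ((nat_lit 84), [nat_lit 3, nat_lit 2, nat_lit 3, nat_lit 1, nat_lit 2, nat_lit 1]))) (.node (nat_lit 2079) (.leaf ((nat_lit 496), [nat_lit 3, nat_lit 2, nat_lit 3, nat_lit 0, nat_lit 2, nat_lit 0, nat_lit 1, nat_lit 0, nat_lit 1])) (.leaf ((nat_lit 85), [nat_lit 1, nat_lit 3, nat_lit 0, nat_lit 2, nat_lit 0, nat_lit 1, nat_lit 0]))))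
 (.node (nat_lit 2082) (.node (nat_lit 2081) (.leaf ((nat_lit 247), [nat_lit 2, nat_lit 1, nat_lit 3, nat_lit 1, nat_lit 0, nat_lit 2, nat_lit 1, nat_lit 0, nat_lit 1])) (.leaf ((nat_lit 162), [nat_lit 1, nat_lit 2, nat_lit 3, nat_lit 2, nat_lit 0]))) (.node (nat_lit 2083) (.leaf ((nat_lit 278), [nat_lit 1, nat_lit 3, nat_lit 0, nat_lit 1])) (.node (nat_lit 2084) (.leaf ((nat_lit 192), [nat_lit 3, nat_lit 2])) (.leaf ((nat_lit 449), [nat_lit 3, nat_lit 0, nat_lit 2, nat_lit 0, nat_lit 1]))))))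
 (.node (nat_lit 2089) (.node (nat_lit 2087) (.node (nat_lit 2086) (.leaf ((nat_lit 476), [nat_lit 2, nat_lit 1, nat_lit 3, nat_lit 2, nat_lit 0, nat_lit 2, nat_lit 1])) (.leaf ((nat_lit 181), [nat_lit 2, nat_lit 0, nat_lit 1, nat_lit 0, nat_lit 1, nat_lit 0]))) (.node (nat_lit 2088) (.leaf ((nat_lit 278), [nat_lit 1, nat_lit 2, nat_lit 3, nat_lit 0, nat_lit 2])) (.leaf ((nat_lit 166), [nat_lit 0, nat_lit 1, nat_lit 2, nat_lit 3, nat_lit 2, nat_lit 0, nat_lit 2, nat_lit 0, nat_lit 1, nat_lit 0, nat_lit 1]))))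
 (.node (nat_lit 2091) (.node (nat_lit 2090) (.leaf ((nat_lit 85), [nat_lit 3, nat_lit 1, nat_lit 3, nat_lit 2, nat_lit 1, nat_lit 0])) (.leaf ((nat_lit 184), [nat_lit 1, nat_lit 3, nat_lit 1, nat_lit 0, nat_lit 2, nat_lit 1, nat_lit 0, nat_lit 1, nat_lit 0]))) (.node (nat_lit 2092) (.leaf ((nat_lit 197), [nat_lit 3, nat_lit 1, nat_lit 3, nat_lit 1, nat_lit 2, nat_lit 0, nat_lit 1, nat_lit 0, nat_lit 1])) (.node (nat_lit 2093) (.leaf ((nat_lit 337), [nat_lit 3, nat_lit 1, nat_lit 2, nat_lit 3, nat_lit 1, nat_lit 0, nat_lit 2, nat_lit 1, nat_lit 0, nat_lit 1, nat_lit 0])) (.leaf ((nat_lit 260), [nat_lit 2, nat_lit 1, nat_lit 3, nat_lit 2, nat_lit 0, nat_lit 2, nat_lit 1, nat_lit 0, nat_lit 1, nat_lit 0]))))))))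
 (.node (nat_lit 2112) (.node (nat_lit 2103) (.node (nat_lit 2098) (.node (nat_lit 2096) (.node (nat_lit 2095) (.leaf ((nat_lit 540), [nat_lit 3, nat_lit 1, nat_lit 2, nat_lit 0])) (.leaf ((nat_lit 443), [nat_lit 3, nat_lit 1, nat_lit 3, nat_lit 2, nat_lit 0, nat_lit 2, nat_lit 0, nat_lit 1, nat_lit 0, nat_lit 1]))) (.node (nat_lit 2097) (.leaf ((nat_lit 422), [nat_lit 3, nat_lit 2, nat_lit 0, nat_lit 2, nat_lit 1, nat_lit 0])) (.leaf ((nat_lit 259), [nat_lit 2, nat_lit 3, nat_lit 1, nat_lit 2, nat_lit 1, nat_lit 0, nat_lit 1]))))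
 (.node (nat_lit 2100) (.node (nat_lit 2099) (.leaf ((nat_lit 85), [nat_lit 0, nat_lit 1, nat_lit 3, nat_lit 0, nat_lit 2, nat_lit 1, nat_lit 0, nat_lit 1, nat_lit 0])) (.leaf ((nat_lit 137), [nat_lit 2, nat_lit 3]))) (.node (nat_lit 2101) (.leaf ((nat_lit 209), [nat_lit 3, nat_lit 0, nat_lit 2, nat_lit 1, nat_lit 0])) (.node (nat_lit 2102) (.leaf ((nat_lit 499), [nat_lit 3, nat_lit 1, nat_lit 0, nat_lit 2, nat_lit 1, nat_lit 0, nat_lit 1, nat_lit 0])) (.leaf ((nat_lit 89), [nat_lit 2, nat_lit 3, nat_lit 0]))))))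
 (.node (nat_lit 2107) (.node (nat_lit 2105) (.node (nat_lit 2104) (.leaf ((nat_lit 382), [nat_lit 2, nat_lit 1, nat_lit 3, nat_lit 1, nat_lit 2, nat_lit 0, nat_lit 1, nat_lit 0, nat_lit 1, nat_lit 0])) (.leaf ((nat_lit 434), [nat_lit 3, nat_lit 1, nat_lit 2, nat_lit 3, nat_lit 0, nat_lit 2, nat_lit 0, nat_lit 1, nat_lit 0, nat_lit 1]))) (.node (nat_lit 2106) (.leaf ((nat_lit 139), [nat_lit 3, nat_lit 1, nat_lit 0, nat_lit 2, nat_lit 0, nat_lit 1, nat_lit 0, nat_lit 1])) (.leaf ((nat_lit 85), [nat_lit 1, nat_lit 3, nat_lit 1]))))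
 (.node (nat_lit 2109) (.node (nat_lit 2108) (.leaf ((nat_lit 141), [nat_lit 0, nat_lit 1, nat_lit 3, nat_lit 0, nat_lit 1, nat_lit 0, nat_lit 1, nat_lit 0])) (.leaf ((nat_lit 86), [nat_lit 0, nat_lit 1, nat_lit 2, nat_lit 3, nat_lit 2, nat_lit 0, nat_lit 2, nat_lit 1, nat_lit 0]))) (.node (nat_lit 2110) (.leaf ((nat_lit 260), [nat_lit 1, nat_lit 3, nat_lit 2, nat_lit 0, nat_lit 2])) (.node (nat_lit 2111) (.leaf ((nat_lit 228), [nat_lit 3, nat_lit 1, nat_lit 3, nat_lit 1, nat_lit 2, nat_lit 0])) (.leaf ((nat_lit 153), [nat_lit 2, nat_lit 3, nat_lit 0, nat_lit 1])))))))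
 (.node (nat_lit 2121) (.node (nat_lit 2116) (.node (nat_lit 2114) (.node (nat_lit 2113) (.leaf ((nat_lit 399), [nat_lit 2, nat_lit 3, nat_lit 1, nat_lit 2, nat_lit 0, nat_lit 1, nat_lit 0])) (.leaf ((nat_lit 502), [nat_lit 0, nat_lit 1, nat_lit 2, nat_lit 3, nat_lit 0, nat_lit 2, nat_lit 0]))) (.node (nat_lit 2115) (.leaf ((nat_lit 293), [nat_lit 2, nat_lit 1, nat_lit 3, nat_lit 0, nat_lit 2, nat_lit 0, nat_lit 1, nat_lit 0, nat_lit 1, nat_lit 0])) (.leaf ((nat_lit 294), [nat_lit 1, nat_lit 3, nat_lit 2, nat_lit 0, nat_lit 1, nat_lit 0, nat_lit 1]))))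
 (.node (nat_lit 2118) (.node (nat_lit 2117) (.leaf ((nat_lit 86), [nat_lit 3, nat_lit 1, nat_lit 3, nat_lit 2, nat_lit 1, nat_lit 0, nat_lit 1, nat_lit 0])) (.leaf ((nat_lit 411), [nat_lit 3, nat_lit 1, nat_lit 2, nat_lit 0, nat_lit 1, nat_lit 0, nat_lit 1]))) (.node (nat_lit 2119) (.leaf ((nat_lit 155), [nat_lit 3, nat_lit 0, nat_lit 1, nat_lit 0, nat_lit 1])) (.node (nat_lit 2120) (.leaf ((nat_lit 109), [nat_lit 1, nat_lit 2, nat_lit 3, nat_lit 2, nat_lit 0, nat_lit 2, nat_lit 0, nat_lit 1])) (.leaf ((nat_lit 325), [nat_lit 2, nat_lit 3, nat_lit 1, nat_lit 0, nat_lit 2, nat_lit 0]))))))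
 (.node (nat_lit 2126) (.node (nat_lit 2123) (.node (nat_lit 2122) (.leaf ((nat_lit 342), [nat_lit 1, nat_lit 2, nat_lit 3, nat_lit 1, nat_lit 0, nat_lit 1, nat_lit 0])) (.leaf ((nat_lit 160), [nat_lit 3, nat_lit 1, nat_lit 3, nat_lit 2, nat_lit 0, nat_lit 2, nat_lit 1, nat_lit 0]))) (.node (nat_lit 2124) (.leaf ((nat_lit 411), [nat_lit 0, nat_lit 1, nat_lit 3, nat_lit 2, nat_lit 0, nat_lit 1, nat_lit 0, nat_lit 1])) (.node (nat_lit 2125) (.leaf ((nat_lit 86), [nat_lit 2, nat_lit 1])) (.leaf ((nat_lit 342), [nat_lit 0, nat_lit 1, nat_lit 2, nat_lit 3, nat_lit 0, nat_lit 2, nat_lit 0])))))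
 (.node (nat_lit 2128) (.node (nat_lit 2127) (.leaf ((nat_lit 137), [nat_lit 2, nat_lit 3, nat_lit 1, nat_lit 2, nat_lit 0])) (.leaf ((nat_lit 139), [nat_lit 0, nat_lit 1, nat_lit 2, nat_lit 3, nat_lit 1, nat_lit 0, nat_lit 2, nat_lit 0, nat_lit 1, nat_lit 0]))) (.node (nat_lit 2129) (.leaf ((nat_lit 138), [nat_lit 0, nat_lit 1, nat_lit 2, nat_lit 3, nat_lit 1, nat_lit 0, nat_lit 1])) (.node (nat_lit 2130) (.leaf ((nat_lit 246), [nat_lit 0, nat_lit 1, nat_lit 3, nat_lit 1, nat_lit 2])) (.leaf ((nat_lit 146), [nat_lit 0, nat_lit 1, nat_lit 3, nat_lit 1, nat_lit 2, nat_lit 1, nat_lit 0])))))))))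
 (.node (nat_lit 2168) (.node (nat_lit 2149) (.node (nat_lit 2140) (.node (nat_lit 2135) (.node (nat_lit 2133) (.node (nat_lit 2132) (.leaf ((nat_lit 437), [nat_lit 3, nat_lit 1, nat_lit 3, nat_lit 1, nat_lit 2, nat_lit 0])) (.leaf ((nat_lit 86), [nat_lit 3, nat_lit 2, nat_lit 3, nat_lit 1, nat_lit 0, nat_lit 2, nat_lit 1, nat_lit 0, nat_lit 1, nat_lit 0]))) (.node (nat_lit 2134) (.leaf ((nat_lit 259), [nat_lit 2, nat_lit 1, nat_lit 3, nat_lit 0, nat_lit 2, nat_lit 1])) (.leaf ((nat_lit 572), [nat_lit 1, nat_lit 2, nat_lit 3, nat_lit 1, nat_lit 0, nat_lit 2, nat_lit 0, nat_lit 1, nat_lit 0, nat_lit 1]))))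
 (.node (nat_lit 2137) (.node (nat_lit 2136) (.leaf ((nat_lit 573), [nat_lit 2, nat_lit 1])) (.leaf ((nat_lit 346), [nat_lit 3, nat_lit 1, nat_lit 3, nat_lit 1, nat_lit 0, nat_lit 2, nat_lit 1, nat_lit 0, nat_lit 1]))) (.node (nat_lit 2138) (.leaf ((nat_lit 393), [nat_lit 3, nat_lit 0, nat_lit 2, nat_lit 1])) (.node (nat_lit 2139) (.leaf ((nat_lit 574), [nat_lit 3, nat_lit 1, nat_lit 3, nat_lit 1, nat_lit 0, nat_lit 2, nat_lit 1])) (.leaf ((nat_lit 575), [nat_lit 3, nat_lit 1, nat_lit 3, nat_lit 1, nat_lit 2, nat_lit 1]))))))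
 (.node (nat_lit 2144) (.node (nat_lit 2142) (.node (nat_lit 2141) (.leaf ((nat_lit 576), [nat_lit 3, nat_lit 1, nat_lit 2, nat_lit 3, nat_lit 0, nat_lit 1, nat_lit 0])) (.leaf ((nat_lit 86), [nat_lit 1, nat_lit 3, nat_lit 1, nat_lit 2, nat_lit 0, nat_lit 1, nat_lit 0, nat_lit 1]))) (.node (nat_lit 2143) (.leaf ((nat_lit 87), [nat_lit 0, nat_lit 1, nat_lit 3, nat_lit 2, nat_lit 0, nat_lit 2, nat_lit 0, nat_lit 1, nat_lit 0])) (.leaf ((nat_lit 275), [nat_lit 1, nat_lit 0, nat_lit 2, nat_lit 0, nat_lit 1]))))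
 (.node (nat_lit 2146) (.node (nat_lit 2145) (.leaf ((nat_lit 530), [nat_lit 3, nat_lit 1, nat_lit 2, nat_lit 3, nat_lit 2])) (.leaf ((nat_lit 577), [nat_lit 1, nat_lit 3, nat_lit 2, nat_lit 1]))) (.node (nat_lit 2147) (.leaf ((nat_lit 559), [nat_lit 3, nat_lit 1, nat_lit 2, nat_lit 3, nat_lit 0, nat_lit 2, nat_lit 0])) (.node (nat_lit 2148) (.leaf ((nat_lit 525), [nat_lit 1, nat_lit 2, nat_lit 3])) (.leaf ((nat_lit 126), [nat_lit 3, nat_lit 2, nat_lit 3, nat_lit 0, nat_lit 2, nat_lit 1, nat_lit 0, nat_lit 1, nat_lit 0])))))))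
 (.node (nat_lit 2158) (.node (nat_lit 2153) (.node (nat_lit 2151) (.node (nat_lit 2150) (.leaf ((nat_lit 578), [nat_lit 2, nat_lit 0, nat_lit 2, nat_lit 1])) (.leaf ((nat_lit 337), [nat_lit 3, nat_lit 2, nat_lit 1, nat_lit 0, nat_lit 1, nat_lit 0]))) (.node (nat_lit 2152) (.leaf ((nat_lit 87), [nat_lit 2, nat_lit 1, nat_lit 3, nat_lit 2, nat_lit 0, nat_lit 1, nat_lit 0, nat_lit 1, nat_lit 0])) (.leaf ((nat_lit 97), [nat_lit 0, nat_lit 1, nat_lit 3, nat_lit 0, nat_lit 1, nat_lit 0, nat_lit 1]))))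
 (.node (nat_lit 2155) (.node (nat_lit 2154) (.leaf ((nat_lit 187), [nat_lit 1, nat_lit 3, nat_lit 2, nat_lit 0])) (.leaf ((nat_lit 363), [nat_lit 0, nat_lit 1, nat_lit 3, nat_lit 2, nat_lit 1, nat_lit 0]))) (.node (nat_lit 2156) (.leaf ((nat_lit 472), [nat_lit 2, nat_lit 0, nat_lit 1])) (.node (nat_lit 2157) (.leaf ((nat_lit 579), [nat_lit 3, nat_lit 0, nat_lit 1, nat_lit 0])) (.leaf ((nat_lit 559), [nat_lit 2, nat_lit 1, nat_lit 3, nat_lit 2, nat_lit 0, nat_lit 2, nat_lit 1, nat_lit 0, nat_lit 1, nat_lit 0]))))))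
 (.node (nat_lit 2163) (.node (nat_lit 2160) (.node (nat_lit 2159) (.leaf ((nat_lit 580), [nat_lit 1, nat_lit 2, nat_lit 3, nat_lit 1, nat_lit 0, nat_lit 1, nat_lit 0])) (.leaf ((nat_lit 269), [nat_lit 2, nat_lit 1, nat_lit 3, nat_lit 1, nat_lit 0, nat_lit 1]))) (.node (nat_lit 2161) (.leaf ((nat_lit 87), [nat_lit 1, nat_lit 3, nat_lit 2, nat_lit 0, nat_lit 2, nat_lit 0, nat_lit 1, nat_lit 0, nat_lit 1, nat_lit 0])) (.node (nat_lit 2162) (.leaf ((nat_lit 536), [nat_lit 3, nat_lit 2, nat_lit 3, nat_lit 0, nat_lit 2, nat_lit 1])) (.leaf ((nat_lit 434), [nat_lit 3, nat_lit 1, nat_lit 3, nat_lit 1, nat_lit 0, nat_lit 2, nat_lit 0, nat_lit 1, nat_lit 0, nat_lit 1, nat_lit 0])))))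
 (.node (nat_lit 2165) (.node (nat_lit 2164) (.leaf ((nat_lit 419), [nat_lit 3, nat_lit 0, nat_lit 2, nat_lit 0, nat_lit 1])) (.leaf ((nat_lit 416), [nat_lit 1, nat_lit 3, nat_lit 2, nat_lit 0, nat_lit 1]))) (.node (nat_lit 2166) (.leaf ((nat_lit 581), [nat_lit 0, nat_lit 1, nat_lit 2, nat_lit 3, nat_lit 1, nat_lit 0, nat_lit 2, nat_lit 1, nat_lit 0, nat_lit 1, nat_lit 0])) (.node (nat_lit 2167) (.leaf ((nat_lit 412), [nat_lit 0, nat_lit 1, nat_lit 3, nat_lit 0, nat_lit 2])) (.leaf ((nat_lit 582), [nat_lit 3, nat_lit 0, nat_lit 1, nat_lit 0, nat_lit 1]))))))))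
 (.node (nat_lit 2186) (.node (nat_lit 2177) (.node (nat_lit 2172) (.node (nat_lit 2170) (.node (nat_lit 2169) (.leaf ((nat_lit 87), [nat_lit 2, nat_lit 1, nat_lit 3, nat_lit 2, nat_lit 0, nat_lit 2, nat_lit 1, nat_lit 0, nat_lit 1])) (.leaf ((nat_lit 576), [nat_lit 3, nat_lit 1, nat_lit 2, nat_lit 3, nat_lit 1, nat_lit 2, nat_lit 1]))) (.node (nat_lit 2171) (.leaf ((nat_lit 466), [nat_lit 1, nat_lit 2, nat_lit 3, nat_lit 0, nat_lit 1, nat_lit 0, nat_lit 1, nat_lit 0])) (.leaf ((nat_lit 173), [nat_lit 3, nat_lit 2, nat_lit 3, nat_lit 1, nat_lit 0, nat_lit 2, nat_lit 0, nat_lit 1, nat_lit 0]))))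
 (.node (nat_lit 2174) (.node (nat_lit 2173) (.leaf ((nat_lit 351), [nat_lit 2, nat_lit 1, nat_lit 3, nat_lit 1, nat_lit 0])) (.leaf ((nat_lit 352), [nat_lit 2, nat_lit 1, nat_lit 3, nat_lit 2, nat_lit 0, nat_lit 2, nat_lit 1]))) (.node (nat_lit 2175) (.leaf ((nat_lit 88), [nat_lit 1, nat_lit 3, nat_lit 2, nat_lit 0, nat_lit 2, nat_lit 1, nat_lit 0, nat_lit 1])) (.node (nat_lit 2176) (.leaf ((nat_lit 253), [nat_lit 2, nat_lit 3, nat_lit 2, nat_lit 0, nat_lit 2, nat_lit 1, nat_lit 0, nat_lit 1, nat_lit 0])) (.leaf ((nat_lit 95), [nat_lit 1, nat_lit 0, nat_lit 2, nat_lit 0, nat_lit 1, nat_lit 0]))))))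
 (.node (nat_lit 2181) (.node (nat_lit 2179) (.node (nat_lit 2178) (.leaf ((nat_lit 411), [nat_lit 1, nat_lit 2, nat_lit 3, nat_lit 2, nat_lit 0, nat_lit 2, nat_lit 0, nat_lit 1, nat_lit 0, nat_lit 1])) (.leaf ((nat_lit 296), [nat_lit 3, nat_lit 1, nat_lit 2, nat_lit 0, nat_lit 1, nat_lit 0, nat_lit 1]))) (.node (nat_lit 2180) (.leaf ((nat_lit 436), [nat_lit 3, nat_lit 1, nat_lit 2, nat_lit 0])) (.leaf ((nat_lit 540), []))))
 (.node (nat_lit 2183) (.node (nat_lit 2182) (.leaf ((nat_lit 448), [nat_lit 1, nat_lit 2, nat_lit 3, nat_lit 0, nat_lit 2])) (.leaf ((nat_lit 88), [nat_lit 0, nat_lit 1, nat_lit 3, nat_lit 0, nat_lit 2, nat_lit 1]))) (.node (nat_lit 2184) (.leaf ((nat_lit 583), [nat_lit 2, nat_lit 1, nat_lit 3, nat_lit 2, nat_lit 0, nat_lit 1])) (.node (nat_lit 2185) (.leaf ((nat_lit 97), [nat_lit 0, nat_lit 1, nat_lit 3, nat_lit 0, nat_lit 2, nat_lit 1, nat_lit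 0, nat_lit 1, nat_lit 0])) (.leaf ((nat_lit 116), [nat_lit 1, nat_lit 2, nat_lit 0])))))))
 (.node (nat_lit 2195) (.node (nat_lit 2190) (.node (nat_lit 2188) (.node (nat_lit 2187) (.leaf ((nat_lit 268), [nat_lit 1, nat_lit 2, nat_lit 3, nat_lit 1, nat_lit 0, nat_lit 2, nat_lit 0, nat_lit 1, nat_lit 0, nat_lit 1])) (.leaf ((nat_lit 267), [nat_lit 1, nat_lit 2, nat_lit 3, nat_lit 0, nat_lit 2]))) (.node (nat_lit 2189) (.leaf ((nat_lit 481), [nat_lit 2, nat_lit 3, nat_lit 0, nat_lit 2, nat_lit 1, nat_lit 0])) (.leaf ((nat_lit 584), [nat_lit 3, nat_lit 2, nat_lit 3, nat_lit 1, nat_lit 0, nat_lit 2, nat_lit 0, nat_lit 1, nat_lit 0, nat_lit 1, nat_lit 0]))))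
 (.node (nat_lit 2192) (.node (nat_lit 2191) (.leaf ((nat_lit 88), [nat_lit 3, nat_lit 1, nat_lit 3, nat_lit 1, nat_lit 0, nat_lit 2, nat_lit 1, nat_lit 0])) (.leaf ((nat_lit 585), [nat_lit 3, nat_lit 2, nat_lit 3, nat_lit 1, nat_lit 2, nat_lit 1]))) (.node (nat_lit 2193) (.leaf ((nat_lit 489), [nat_lit 1, nat_lit 0, nat_lit 2, nat_lit 1])) (.node (nat_lit 2194) (.leaf ((nat_lit 90), [nat_lit 0, nat_lit 1, nat_lit 2, nat_lit 3, nat_lit 2, nat_lit 0, nat_lit 1])) (.leaf ((nat_lit 395), [nat_lit 2, nat_lit 1, nat_lit 0, nat_lit 1, nat_lit 0]))))))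
 (.node (nat_lit 2200) (.node (nat_lit 2197) (.node (nat_lit 2196) (.leaf ((nat_lit 374), [nat_lit 3, nat_lit 1, nat_lit 3, nat_lit 1, nat_lit 0])) (.leaf ((nat_lit 229), [nat_lit 3, nat_lit 2, nat_lit 3, nat_lit 1, nat_lit 0]))) (.node (nat_lit 2198) (.leaf ((nat_lit 586), [nat_lit 3, nat_lit 2, nat_lit 3, nat_lit 1, nat_lit 0, nat_lit 2, nat_lit 1])) (.node (nat_lit 2199) (.leaf ((nat_lit 415), [nat_lit 0, nat_lit 2, nat_lit 0, nat_lit 1, nat_lit 0, nat_lit 1, nat_lit 0])) (.leaf ((nat_lit 490), [nat_lit 1, nat_lit 3, nat_lit 0, nat_lit 2, nat_lit 0, nat_lit 1, nat_lit 0])))))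
 (.node (nat_lit 2202) (.node (nat_lit 2201) (.leaf ((nat_lit 395), [nat_lit 3, nat_lit 0, nat_lit 2, nat_lit 0])) (.leaf ((nat_lit 90), [nat_lit 2, nat_lit 1, nat_lit 3, nat_lit 2, nat_lit 0, nat_lit 2, nat_lit 1, nat_lit 0, nat_lit 1]))) (.node (nat_lit 2203) (.leaf ((nat_lit 231), [nat_lit 1, nat_lit 2, nat_lit 3, nat_lit 2, nat_lit 0, nat_lit 1, nat_lit 0, nat_lit 1, nat_lit 0])) (.node (nat_lit 2204) (.leaf ((nat_lit 214), [nat_lit 3, nat_lit 1, nat_lit 2, nat_lit 3, nat_lit 2, nat_lit 1, nat_lit 0])) (.leaf ((nat_lit 587), [nat_lit 3, nat_lit 1, nat_lit 3, nat_lit 1, nat_lit 2, nat_lit 1]))))))))))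
noncomputable def bWd_15 : Tr (ℕ × List ℕ) := (.node (nat_lit 2278) (.node (nat_lit 2241) (.node (nat_lit 2223) (.node (nat_lit 2214) (.node (nat_lit 2209) (.node (nat_lit 2207) (.node (nat_lit 2206) (.leaf ((nat_lit 140), [nat_lit 0, nat_lit 1, nat_lit 3, nat_lit 1, nat_lit 0, nat_lit 1])) (.leaf ((nat_lit 145), [nat_lit 3, nat_lit 1, nat_lit 3, nat_lit 2]))) (.node (nat_lit 2208) (.leaf ((nat_lit 135), [nat_lit 3, nat_lit 1, nat_lit 2, nat_lit 3, nat_lit 0, nat_lit 2, nat_lit 0, nat_lit 1, nat_lit 0, nat_lit 1, nat_lit 0])) (.leaf ((nat_lit 148), [nat_lit 2, nat_lit 0, nat_lit 2]))))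
 (.node (nat_lit 2211) (.node (nat_lit 2210) (.leaf ((nat_lit 90), [nat_lit 1, nat_lit 2, nat_lit 3, nat_lit 1, nat_lit 0, nat_lit 2, nat_lit 1])) (.leaf ((nat_lit 315), [nat_lit 2, nat_lit 1, nat_lit 3, nat_lit 0, nat_lit 2, nat_lit 0, nat_lit 1, nat_lit 0, nat_lit 1]))) (.node (nat_lit 2212) (.leaf ((nat_lit 315), [nat_lit 3, nat_lit 1, nat_lit 3, nat_lit 0, nat_lit 2, nat_lit 1, nat_lit 0, nat_lit 1, nat_lit 0])) (.node (nat_lit 2213) (.leaf ((nat_lit 391), [nat_lit 3, nat_lit 1, nat_lit 2, nat_lit 3, nat_lit 2, nat_lit 0, nat_lit 2, nat_lit 1, nat_lit 0, nat_lit 1, nat_lit 0])) (.leaf ((nat_lit 136), [nat_lit 3, nat_lit 2, nat_lit 3, nat_lit 2, nat_lit 0, nat_lit 2, nat_lit 0, nat_lit 1]))))))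
 (.node (nat_lit 2218) (.node (nat_lit 2216) (.node (nat_lit 2215) (.leaf ((nat_lit 144), [nat_lit 2, nat_lit 1, nat_lit 3, nat_lit 2, nat_lit 0, nat_lit 2, nat_lit 0, nat_lit 1])) (.leaf ((nat_lit 389), [nat_lit 3, nat_lit 2, nat_lit 3, nat_lit 1, nat_lit 0, nat_lit 2, nat_lit 0, nat_lit 1, nat_lit 0]))) (.node (nat_lit 2217) (.leaf ((nat_lit 316), [nat_lit 1, nat_lit 2, nat_lit 3, nat_lit 2, nat_lit 1])) (.leaf ((nat_lit 90), [nat_lit 2, nat_lit 3, nat_lit 1, nat_lit 2, nat_lit 0, nat_lit 1]))))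
 (.node (nat_lit 2220) (.node (nat_lit 2219) (.leaf ((nat_lit 519), [nat_lit 1, nat_lit 2, nat_lit 3, nat_lit 2, nat_lit 0, nat_lit 2, nat_lit 0, nat_lit 1])) (.leaf ((nat_lit 282), [nat_lit 1, nat_lit 2, nat_lit 3, nat_lit 1, nat_lit 2, nat_lit 0, nat_lit 1, nat_lit 0, nat_lit 1, nat_lit 0]))) (.node (nat_lit 2221) (.leaf ((nat_lit 564), [nat_lit 0, nat_lit 1, nat_lit 2, nat_lit 3, nat_lit 1, nat_lit 0, nat_lit 1, nat_lit 0])) (.node (nat_lit 2222) (.leaf ((nat_lit 545), [nat_lit 0, nat_lit 1, nat_lit 3, nat_lit 1, nat_lit 0, nat_lit 2, nat_lit 1])) (.leaf ((nat_lit 270), [nat_lit 3, nat_lit 2, nat_lit 1, nat_lit 0])))))))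
 (.node (nat_lit 2232) (.node (nat_lit 2227) (.node (nat_lit 2225) (.node (nat_lit 2224) (.leaf ((nat_lit 317), [nat_lit 3, nat_lit 2, nat_lit 3, nat_lit 0, nat_lit 2, nat_lit 1, nat_lit 0])) (.leaf ((nat_lit 588), [nat_lit 3, nat_lit 1, nat_lit 0]))) (.node (nat_lit 2226) (.leaf ((nat_lit 90), [nat_lit 0, nat_lit 1, nat_lit 3, nat_lit 1, nat_lit 0, nat_lit 2, nat_lit 1, nat_lit 0, nat_lit 1, nat_lit 0])) (.leaf ((nat_lit 410), [nat_lit 3, nat_lit 2, nat_lit 3, nat_lit 1, nat_lit 2, nat_lit 0, nat_lit 1, nat_lit 0, nat_lit 1, nat_lit 0]))))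
 (.node (nat_lit 2229) (.node (nat_lit 2228) (.leaf ((nat_lit 255), [nat_lit 0, nat_lit 1, nat_lit 3, nat_lit 1, nat_lit 2, nat_lit 0])) (.leaf ((nat_lit 446), [nat_lit 0, nat_lit 1, nat_lit 2, nat_lit 3, nat_lit 2, nat_lit 0, nat_lit 2, nat_lit 0, nat_lit 1, nat_lit 0, nat_lit 1, nat_lit 0]))) (.node (nat_lit 2230) (.leaf ((nat_lit 473), [nat_lit 3, nat_lit 1, nat_lit 0, nat_lit 2, nat_lit 1, nat_lit 0, nat_lit 1, nat_lit 0])) (.node (nat_lit 2231) (.leaf ((nat_lit 91), [nat_lit 3, nat_lit 1, nat_lit 3, nat_lit 0, nat_lit 2, nat_lit 1, nat_lit 0])) (.leaf ((nat_lit 290), [nat_lit 3, nat_lit 1, nat_lit 3, nat_lit 2, nat_lit 0, nat_lit 2, nat_lit 1, nat_lit 0, nat_lit 1]))))))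
 (.node (nat_lit 2236) (.node (nat_lit 2234) (.node (nat_lit 2233) (.leaf ((nat_lit 480), [nat_lit 3, nat_lit 1, nat_lit 3, nat_lit 0, nat_lit 1])) (.leaf ((nat_lit 432), [nat_lit 1, nat_lit 2, nat_lit 3, nat_lit 0, nat_lit 1]))) (.node (nat_lit 2235) (.leaf ((nat_lit 589), [nat_lit 3, nat_lit 2, nat_lit 3, nat_lit 0, nat_lit 2, nat_lit 1])) (.leaf ((nat_lit 590), [nat_lit 2, nat_lit 3, nat_lit 0, nat_lit 2, nat_lit 0, nat_lit 1, nat_lit 0, nat_lit 1]))))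
 (.node (nat_lit 2238) (.node (nat_lit 2237) (.leaf ((nat_lit 591), [nat_lit 3, nat_lit 2, nat_lit 3, nat_lit 1, nat_lit 0, nat_lit 2, nat_lit 0, nat_lit 1])) (.leaf ((nat_lit 584), [nat_lit 1, nat_lit 2, nat_lit 3, nat_lit 0, nat_lit 2]))) (.node (nat_lit 2239) (.leaf ((nat_lit 592), [nat_lit 0, nat_lit 1, nat_lit 3, nat_lit 0, nat_lit 1, nat_lit 0])) (.node (nat_lit 2240) (.leaf ((nat_lit 91), [nat_lit 0, nat_lit 1, nat_lit 3, nat_lit 2, nat_lit 0, nat_lit 2, nat_lit 0])) (.leaf ((nat_lit 92), [nat_lit 2, nat_lit 1, nat_lit 3, nat_lit 1, nat_lit 0, nat_lit 2, nat_lit 0]))))))))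
 (.node (nat_lit 2259) (.node (nat_lit 2250) (.node (nat_lit 2245) (.node (nat_lit 2243) (.node (nat_lit 2242) (.leaf ((nat_lit 198), [nat_lit 1, nat_lit 2])) (.leaf ((nat_lit 585), [nat_lit 0, nat_lit 2, nat_lit 1]))) (.node (nat_lit 2244) (.leaf ((nat_lit 585), [nat_lit 3, nat_lit 2, nat_lit 3, nat_lit 1, nat_lit 2, nat_lit 1, nat_lit 0, nat_lit 1])) (.leaf ((nat_lit 411), [nat_lit 0, nat_lit 1, nat_lit 3, nat_lit 1, nat_lit 2, nat_lit 1, nat_lit 0, nat_lit 1, nat_lit 0]))))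
 (.node (nat_lit 2247) (.node (nat_lit 2246) (.leaf ((nat_lit 562), [nat_lit 1, nat_lit 3, nat_lit 0, nat_lit 2, nat_lit 0, nat_lit 1, nat_lit 0, nat_lit 1, nat_lit 0])) (.leaf ((nat_lit 429), [nat_lit 3, nat_lit 2, nat_lit 0, nat_lit 2, nat_lit 0, nat_lit 1]))) (.node (nat_lit 2248) (.leaf ((nat_lit 395), [nat_lit 1, nat_lit 2, nat_lit 3, nat_lit 1, nat_lit 2, nat_lit 1, nat_lit 0, nat_lit 1])) (.node (nat_lit 2249) (.leaf ((nat_lit 325), [nat_lit 1, nat_lit 3, nat_lit 1, nat_lit 0, nat_lit 2, nat_lit 1, nat_lit 0])) (.leaf ((nat_lit 93), [nat_lit 3, nat_lit 1, nat_lit 3, nat_lit 1, nat_lit 0, nat_lit 2, nat_lit 1, nat_lit 0]))))))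
 (.node (nat_lit 2254) (.node (nat_lit 2252) (.node (nat_lit 2251) (.leaf ((nat_lit 92), [nat_lit 3, nat_lit 1, nat_lit 3, nat_lit 2])) (.leaf ((nat_lit 321), [nat_lit 3, nat_lit 1, nat_lit 3, nat_lit 0]))) (.node (nat_lit 2253) (.leaf ((nat_lit 203), [nat_lit 3, nat_lit 1, nat_lit 3, nat_lit 0, nat_lit 1, nat_lit 0])) (.leaf ((nat_lit 544), [nat_lit 0, nat_lit 1, nat_lit 3, nat_lit 2, nat_lit 0, nat_lit 2, nat_lit 0, nat_lit 1, nat_lit 0]))))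
 (.node (nat_lit 2256) (.node (nat_lit 2255) (.leaf ((nat_lit 448), [nat_lit 3, nat_lit 0, nat_lit 1, nat_lit 0, nat_lit 1, nat_lit 0])) (.leaf ((nat_lit 394), [nat_lit 1, nat_lit 3, nat_lit 2, nat_lit 0, nat_lit 2, nat_lit 1, nat_lit 0, nat_lit 1, nat_lit 0]))) (.node (nat_lit 2257) (.leaf ((nat_lit 221), [nat_lit 3, nat_lit 2, nat_lit 3])) (.node (nat_lit 2258) (.leaf ((nat_lit 256), [nat_lit 0, nat_lit 1, nat_lit 3, nat_lit 1, nat_lit 0, nat_lit 2, nat_lit 1, nat_lit 0])) (.leaf ((nat_lit 92), [nat_lit 2, nat_lit 1, nat_lit 3, nat_lit 2, nat_lit 0, nat_lit 2, nat_lit 1, nat_lit 0, nat_lit 1, nat_lit 0])))))))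
 (.node (nat_lit 2268) (.node (nat_lit 2263) (.node (nat_lit 2261) (.node (nat_lit 2260) (.leaf ((nat_lit 291), [nat_lit 0, nat_lit 1, nat_lit 2, nat_lit 3, nat_lit 2, nat_lit 0, nat_lit 2, nat_lit 1, nat_lit 0])) (.leaf ((nat_lit 593), [nat_lit 1, nat_lit 3, nat_lit 1, nat_lit 2, nat_lit 0, nat_lit 1, nat_lit 0, nat_lit 1, nat_lit 0]))) (.node (nat_lit 2262) (.leaf ((nat_lit 594), [nat_lit 3, nat_lit 1, nat_lit 3, nat_lit 2, nat_lit 0, nat_lit 2, nat_lit 1, nat_lit 0, nat_lit 1])) (.leaf ((nat_lit 595), [nat_lit 3, nat_lit 2, nat_lit 3, nat_lit 1, nat_lit 2, nat_lit 0, nat_lit 1]))))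
 (.node (nat_lit 2265) (.node (nat_lit 2264) (.leaf ((nat_lit 564), [nat_lit 0, nat_lit 1, nat_lit 3, nat_lit 1, nat_lit 0])) (.leaf ((nat_lit 596), [nat_lit 1, nat_lit 3, nat_lit 0, nat_lit 2, nat_lit 1, nat_lit 0]))) (.node (nat_lit 2266) (.leaf ((nat_lit 597), [nat_lit 3, nat_lit 1, nat_lit 0])) (.node (nat_lit 2267) (.leaf ((nat_lit 147), [nat_lit 3, nat_lit 1, nat_lit 2, nat_lit 3, nat_lit 0, nat_lit 2, nat_lit 1])) (.leaf ((nat_lit 93), [nat_lit 3, nat_lit 2, nat_lit 3, nat_lit 2, nat_lit 0, nat_lit 1, nat_lit 0, nat_lit 1]))))))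
 (.node (nat_lit 2273) (.node (nat_lit 2270) (.node (nat_lit 2269) (.leaf ((nat_lit 211), [nat_lit 2, nat_lit 3, nat_lit 0, nat_lit 1, nat_lit 0])) (.leaf ((nat_lit 94), [nat_lit 0, nat_lit 1, nat_lit 3, nat_lit 1, nat_lit 0, nat_lit 2]))) (.node (nat_lit 2271) (.leaf ((nat_lit 490), [nat_lit 3, nat_lit 1, nat_lit 2, nat_lit 3, nat_lit 2, nat_lit 0, nat_lit 2, nat_lit 0, nat_lit 1])) (.node (nat_lit 2272) (.leaf ((nat_lit 489), [nat_lit 3, nat_lit 1, nat_lit 3, nat_lit 0, nat_lit 2, nat_lit 1, nat_lit 0, nat_lit 1, nat_lit 0])) (.leaf ((nat_lit 541), [nat_lit 2, nat_lit 1, nat_lit 3])))))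
 (.node (nat_lit 2275) (.node (nat_lit 2274) (.leaf ((nat_lit 541), [nat_lit 3, nat_lit 2, nat_lit 0, nat_lit 2])) (.leaf ((nat_lit 446), [nat_lit 2, nat_lit 3, nat_lit 2, nat_lit 0, nat_lit 2]))) (.node (nat_lit 2276) (.leaf ((nat_lit 321), [nat_lit 3, nat_lit 1, nat_lit 2, nat_lit 3, nat_lit 2, nat_lit 0, nat_lit 2, nat_lit 0, nat_lit 1, nat_lit 0, nat_lit 1])) (.node (nat_lit 2277) (.leaf ((nat_lit 395), [nat_lit 1, nat_lit 3, nat_lit 0, nat_lit 2, nat_lit 0, nat_lit 1, nat_lit 0])) (.leaf ((nat_lit 94), [nat_lit 3, nat_lit 2, nat_lit 3, nat_lit 1, nat_lit 2, nat_lit 1, nat_lit 0, nat_lit 1, nat_lit 0])))))))))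
 (.node (nat_lit 2315) (.node (nat_lit 2296) (.node (nat_lit 2287) (.node (nat_lit 2282) (.node (nat_lit 2280) (.node (nat_lit 2279) (.leaf ((nat_lit 94), [nat_lit 1, nat_lit 3, nat_lit 2, nat_lit 0, nat_lit 1, nat_lit 0, nat_lit 1])) (.leaf ((nat_lit 433), [nat_lit 1, nat_lit 2, nat_lit 3, nat_lit 2, nat_lit 1, nat_lit 0]))) (.node (nat_lit 2281) (.leaf ((nat_lit 325), [nat_lit 1, nat_lit 0, nat_lit 2, nat_lit 0, nat_lit 1, nat_lit 0, nat_lit 1, nat_lit 0])) (.leaf ((nat_lit 302), [nat_lit 1, nat_lit 3, nat_lit 2, nat_lit 0, nat_lit 1, nat_lit 0, nat_lit 1, nat_lit 0]))))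
 (.node (nat_lit 2284) (.node (nat_lit 2283) (.leaf ((nat_lit 268), [nat_lit 1, nat_lit 3, nat_lit 1, nat_lit 0, nat_lit 2, nat_lit 0, nat_lit 1, nat_lit 0])) (.leaf ((nat_lit 527), [nat_lit 2, nat_lit 3, nat_lit 1, nat_lit 2, nat_lit 1, nat_lit 0, nat_lit 1]))) (.node (nat_lit 2285) (.leaf ((nat_lit 95), [nat_lit 0, nat_lit 1, nat_lit 2, nat_lit 3, nat_lit 0, nat_lit 2, nat_lit 0, nat_lit 1, nat_lit 0, nat_lit 1])) (.node (nat_lit 2286) (.leaf ((nat_lit 169), [nat_lit 2, nat_lit 3, nat_lit 2, nat_lit 1, nat_lit 0, nat_lit 1])) (.leaf ((nat_lit 464), [nat_lit 3, nat_lit 1, nat_lit 3, nat_lit 1]))))))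
 (.node (nat_lit 2291) (.node (nat_lit 2289) (.node (nat_lit 2288) (.leaf ((nat_lit 598), [nat_lit 0, nat_lit 1, nat_lit 3, nat_lit 2, nat_lit 0])) (.leaf ((nat_lit 217), [nat_lit 2, nat_lit 3, nat_lit 0, nat_lit 2, nat_lit 1, nat_lit 0]))) (.node (nat_lit 2290) (.leaf ((nat_lit 577), [nat_lit 3, nat_lit 1, nat_lit 3, nat_lit 2, nat_lit 0, nat_lit 1, nat_lit 0, nat_lit 1, nat_lit 0])) (.leaf ((nat_lit 507), [nat_lit 2, nat_lit 1, nat_lit 3, nat_lit 1, nat_lit 2, nat_lit 0, nat_lit 1, nat_lit 0, nat_lit 1]))))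
 (.node (nat_lit 2293) (.node (nat_lit 2292) (.leaf ((nat_lit 169), [nat_lit 2, nat_lit 3, nat_lit 0, nat_lit 2, nat_lit 0, nat_lit 1, nat_lit 0])) (.leaf ((nat_lit 95), [nat_lit 0, nat_lit 1, nat_lit 2, nat_lit 3, nat_lit 2, nat_lit 0, nat_lit 2, nat_lit 1, nat_lit 0]))) (.node (nat_lit 2294) (.leaf ((nat_lit 465), [nat_lit 2, nat_lit 3])) (.node (nat_lit 2295) (.leaf ((nat_lit 599), [nat_lit 2, nat_lit 0, nat_lit 1, nat_lit 0, nat_lit 1])) (.leaf ((nat_lit 350), [nat_lit 3, nat_lit 1, nat_lit 3, nat_lit 1, nat_lit 0, nat_lit 2, nat_lit 0])))))))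
 (.node (nat_lit 2305) (.node (nat_lit 2300) (.node (nat_lit 2298) (.node (nat_lit 2297) (.leaf ((nat_lit 575), [nat_lit 0, nat_lit 1, nat_lit 2, nat_lit 3, nat_lit 1, nat_lit 0, nat_lit 2, nat_lit 1, nat_lit 0, nat_lit 1, nat_lit 0])) (.leaf ((nat_lit 600), [nat_lit 0, nat_lit 1, nat_lit 2, nat_lit 3, nat_lit 0, nat_lit 1, nat_lit 0, nat_lit 1, nat_lit 0]))) (.node (nat_lit 2299) (.leaf ((nat_lit 601), [nat_lit 3, nat_lit 2, nat_lit 0, nat_lit 2])) (.leaf ((nat_lit 467), [nat_lit 2, nat_lit 0, nat_lit 1, nat_lit 0]))))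
 (.node (nat_lit 2302) (.node (nat_lit 2301) (.leaf ((nat_lit 583), [nat_lit 2, nat_lit 1, nat_lit 3, nat_lit 0, nat_lit 2, nat_lit 0])) (.leaf ((nat_lit 95), [nat_lit 1, nat_lit 2, nat_lit 3, nat_lit 2]))) (.node (nat_lit 2303) (.leaf ((nat_lit 573), [nat_lit 3, nat_lit 2, nat_lit 3, nat_lit 2, nat_lit 1, nat_lit 0, nat_lit 1, nat_lit 0])) (.node (nat_lit 2304) (.leaf ((nat_lit 407), [nat_lit 3, nat_lit 2, nat_lit 3, nat_lit 1, nat_lit 0])) (.leaf ((nat_lit 377), [nat_lit 3, nat_lit 0, nat_lit 2, nat_lit 1]))))))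
 (.node (nat_lit 2310) (.node (nat_lit 2307) (.node (nat_lit 2306) (.leaf ((nat_lit 349), [nat_lit 0, nat_lit 1, nat_lit 2, nat_lit 3, nat_lit 0, nat_lit 1, nat_lit 0, nat_lit 1])) (.leaf ((nat_lit 385), [nat_lit 3, nat_lit 1, nat_lit 2, nat_lit 3, nat_lit 2, nat_lit 1, nat_lit 0]))) (.node (nat_lit 2308) (.leaf ((nat_lit 96), [nat_lit 2, nat_lit 1, nat_lit 3, nat_lit 0, nat_lit 2, nat_lit 0, nat_lit 1, nat_lit 0])) (.node (nat_lit 2309) (.leaf ((nat_lit 572), [nat_lit 3, nat_lit 2, nat_lit 0, nat_lit 1, nat_lit 0, nat_lit 1])) (.leaf ((nat_lit 281), [nat_lit 3, nat_lit 2, nat_lit 0, nat_lit 1, nat_lit 0, nat_lit 1, nat_lit 0])))))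
 (.node (nat_lit 2312) (.node (nat_lit 2311) (.leaf ((nat_lit 420), [nat_lit 2, nat_lit 0, nat_lit 2, nat_lit 0, nat_lit 1, nat_lit 0])) (.leaf ((nat_lit 588), [nat_lit 0, nat_lit 1, nat_lit 2, nat_lit 3, nat_lit 1, nat_lit 2, nat_lit 1, nat_lit 0]))) (.node (nat_lit 2313) (.leaf ((nat_lit 583), [nat_lit 1, nat_lit 3, nat_lit 2, nat_lit 0, nat_lit 2, nat_lit 0, nat_lit 1, nat_lit 0, nat_lit 1])) (.node (nat_lit 2314) (.leaf ((nat_lit 602), [nat_lit 3, nat_lit 1, nat_lit 2, nat_lit 3, nat_lit 0, nat_lit 2, nat_lit 1, nat_lit 0, nat_lit 1, nat_lit 0])) (.leaf ((nat_lit 601), [nat_lit 2, nat_lit 3, nat_lit 2, nat_lit 1, nat_lit 0, nat_lit 1]))))))))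
 (.node (nat_lit 2333) (.node (nat_lit 2324) (.node (nat_lit 2319) (.node (nat_lit 2317) (.node (nat_lit 2316) (.leaf ((nat_lit 96), [nat_lit 1, nat_lit 3, nat_lit 0, nat_lit 2, nat_lit 1, nat_lit 0, nat_lit 1])) (.leaf ((nat_lit 497), [nat_lit 3, nat_lit 1, nat_lit 3, nat_lit 2, nat_lit 0, nat_lit 1]))) (.node (nat_lit 2318) (.leaf ((nat_lit 176), [nat_lit 3, nat_lit 1, nat_lit 2, nat_lit 3, nat_lit 2, nat_lit 0, nat_lit 1])) (.leaf ((nat_lit 226), [nat_lit 0]))))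
 (.node (nat_lit 2321) (.node (nat_lit 2320) (.leaf ((nat_lit 129), [nat_lit 3, nat_lit 1, nat_lit 2, nat_lit 3, nat_lit 2, nat_lit 1, nat_lit 0, nat_lit 1, nat_lit 0])) (.leaf ((nat_lit 499), [nat_lit 3, nat_lit 1, nat_lit 2, nat_lit 1, nat_lit 0, nat_lit 1]))) (.node (nat_lit 2322) (.leaf ((nat_lit 127), [nat_lit 3, nat_lit 1, nat_lit 2, nat_lit 3, nat_lit 0, nat_lit 2, nat_lit 1, nat_lit 0, nat_lit 1])) (.node (nat_lit 2323) (.leaf ((nat_lit 513), [nat_lit 2, nat_lit 1, nat_lit 3, nat_lit 2, nat_lit 0, nat_lit 2, nat_lit 1, nat_lit 0, nat_lit 1])) (.leaf ((nat_lit 96), [nat_lit 2, nat_lit 3, nat_lit 1, nat_lit 2, nat_lit 1, nat_lit 0, nat_lit 1, nat_lit 0]))))))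
 (.node (nat_lit 2328) (.node (nat_lit 2326) (.node (nat_lit 2325) (.leaf ((nat_lit 350), [nat_lit 3, nat_lit 1, nat_lit 3, nat_lit 0, nat_lit 1, nat_lit 0, nat_lit 1])) (.leaf ((nat_lit 506), [nat_lit 0, nat_lit 1, nat_lit 2, nat_lit 3, nat_lit 1, nat_lit 0, nat_lit 2, nat_lit 0, nat_lit 1, nat_lit 0]))) (.node (nat_lit 2327) (.leaf ((nat_lit 464), [nat_lit 3, nat_lit 1, nat_lit 2, nat_lit 3, nat_lit 0, nat_lit 2])) (.leaf ((nat_lit 463), [nat_lit 1, nat_lit 0, nat_lit 2, nat_lit 0]))))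
 (.node (nat_lit 2330) (.node (nat_lit 2329) (.leaf ((nat_lit 97), [nat_lit 1, nat_lit 3, nat_lit 0, nat_lit 2, nat_lit 1, nat_lit 0, nat_lit 1, nat_lit 0])) (.leaf ((nat_lit 332), [nat_lit 2, nat_lit 1, nat_lit 3, nat_lit 1, nat_lit 2]))) (.node (nat_lit 2331) (.leaf ((nat_lit 468), [nat_lit 3, nat_lit 1, nat_lit 3, nat_lit 1, nat_lit 2, nat_lit 0, nat_lit 1, nat_lit 0])) (.node (nat_lit 2332) (.leaf ((nat_lit 603), [nat_lit 0, nat_lit 1, nat_lit 2, nat_lit 3, nat_lit 1, nat_lit 0, nat_lit 2, nat_lit 0])) (.leaf ((nat_lit 468), [nat_lit 2, nat_lit 0])))))))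
 (.node (nat_lit 2342) (.node (nat_lit 2337) (.node (nat_lit 2335) (.node (nat_lit 2334) (.leaf ((nat_lit 471), [nat_lit 1, nat_lit 3, nat_lit 0, nat_lit 2, nat_lit 1])) (.leaf ((nat_lit 562), [nat_lit 0, nat_lit 1, nat_lit 2, nat_lit 3, nat_lit 2, nat_lit 0, nat_lit 2, nat_lit 1, nat_lit 0]))) (.node (nat_lit 2336) (.leaf ((nat_lit 469), [nat_lit 1, nat_lit 2, nat_lit 1])) (.leaf ((nat_lit 354), [nat_lit 0, nat_lit 1, nat_lit 3, nat_lit 0, nat_lit 2, nat_lit 0, nat_lit 1]))))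
 (.node (nat_lit 2339) (.node (nat_lit 2338) (.leaf ((nat_lit 97), [nat_lit 1, nat_lit 3, nat_lit 1, nat_lit 0, nat_lit 2, nat_lit 0, nat_lit 1, nat_lit 0])) (.leaf ((nat_lit 335), [nat_lit 0, nat_lit 1, nat_lit 2, nat_lit 3, nat_lit 1, nat_lit 0]))) (.node (nat_lit 2340) (.leaf ((nat_lit 99), [nat_lit 1, nat_lit 2, nat_lit 3, nat_lit 2, nat_lit 0, nat_lit 2, nat_lit 0, nat_lit 1, nat_lit 0, nat_lit 1, nat_lit 0])) (.node (nat_lit 2341) (.leaf ((nat_lit 507), [nat_lit 2, nat_lit 1, nat_lit 3, nat_lit 0, nat_lit 2, nat_lit 0])) (.leaf ((nat_lit 281), [nat_lit 0, nat_lit 1, nat_lit 3, nat_lit 2, nat_lit 0, nat_lit 2, nat_lit 0, nat_lit 1]))))))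
 (.node (nat_lit 2347) (.node (nat_lit 2344) (.node (nat_lit 2343) (.leaf ((nat_lit 130), [nat_lit 3, nat_lit 1, nat_lit 2, nat_lit 3, nat_lit 1, nat_lit 0, nat_lit 2, nat_lit 1, nat_lit 0, nat_lit 1])) (.leaf ((nat_lit 478), [nat_lit 0, nat_lit 1, nat_lit 3, nat_lit 2, nat_lit 0, nat_lit 2, nat_lit 1]))) (.node (nat_lit 2345) (.leaf ((nat_lit 385), [nat_lit 2, nat_lit 3, nat_lit 1, nat_lit 2, nat_lit 1, nat_lit 0, nat_lit 1, nat_lit 0])) (.node (nat_lit 2346) (.leaf ((nat_lit 99), [nat_lit 3, nat_lit 0, nat_lit 2])) (.leaf ((nat_lit 334), [nat_lit 0, nat_lit 1, nat_lit 3, nat_lit 2, nat_lit 1, nat_lit 0])))))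
 (.node (nat_lit 2349) (.node (nat_lit 2348) (.leaf ((nat_lit 287), [nat_lit 1, nat_lit 0, nat_lit 2, nat_lit 0, nat_lit 1])) (.leaf ((nat_lit 116), [nat_lit 2, nat_lit 3, nat_lit 0, nat_lit 2, nat_lit 0, nat_lit 1]))) (.node (nat_lit 2350) (.leaf ((nat_lit 580), [nat_lit 3, nat_lit 1, nat_lit 3, nat_lit 1, nat_lit 2, nat_lit 0, nat_lit 1, nat_lit 0, nat_lit 1, nat_lit 0])) (.node (nat_lit 2351) (.leaf ((nat_lit 604), [nat_lit 1, nat_lit 3, nat_lit 2, nat_lit 0, nat_lit 2, nat_lit 0])) (.leaf ((nat_lit 184), [nat_lit 3, nat_lit 0, nat_lit 1, nat_lit 0, nat_lit 1]))))))))))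
noncomputable def bWd_16 : Tr (ℕ × List ℕ) := (.node (nat_lit 2425) (.node (nat_lit 2388) (.node (nat_lit 2370) (.node (nat_lit 2361) (.node (nat_lit 2356) (.node (nat_lit 2354) (.node (nat_lit 2353) (.leaf ((nat_lit 205), [nat_lit 1, nat_lit 3, nat_lit 1, nat_lit 2, nat_lit 0, nat_lit 1, nat_lit 0])) (.leaf ((nat_lit 169), [nat_lit 2, nat_lit 0, nat_lit 2]))) (.node (nat_lit 2355) (.leaf ((nat_lit 99), [nat_lit 0, nat_lit 1, nat_lit 2, nat_lit 3, nat_lit 2, nat_lit 0, nat_lit 2])) (.leaf ((nat_lit 279), [nat_lit 3, nat_lit 2, nat_lit 1, nat_lit 0]))))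
 (.node (nat_lit 2358) (.node (nat_lit 2357) (.leaf ((nat_lit 605), [nat_lit 0, nat_lit 1, nat_lit 2, nat_lit 3, nat_lit 1, nat_lit 2, nat_lit 1, nat_lit 0])) (.leaf ((nat_lit 428), [nat_lit 0, nat_lit 1, nat_lit 3, nat_lit 2, nat_lit 0, nat_lit 2, nat_lit 1, nat_lit 0]))) (.node (nat_lit 2359) (.leaf ((nat_lit 606), [nat_lit 2, nat_lit 1, nat_lit 3, nat_lit 2, nat_lit 0, nat_lit 1, nat_lit 0, nat_lit 1, nat_lit 0])) (.node (nat_lit 2360) (.leaf ((nat_lit 307), [nat_lit 1, nat_lit 2, nat_lit 3, nat_lit 1, nat_lit 0, nat_lit 2, nat_lit 0, nat_lit 1])) (.leaf ((nat_lit 578), [nat_lit 2, nat_lit 3, nat_lit 1, nat_lit 0, nat_lit 2, nat_lit 0, nat_lit 1, nat_lit 0]))))))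
 (.node (nat_lit 2365) (.node (nat_lit 2363) (.node (nat_lit 2362) (.leaf ((nat_lit 279), [nat_lit 3, nat_lit 2, nat_lit 3])) (.leaf ((nat_lit 99), [nat_lit 3, nat_lit 1, nat_lit 2, nat_lit 1, nat_lit 0, nat_lit 1, nat_lit 0]))) (.node (nat_lit 2364) (.leaf ((nat_lit 482), [nat_lit 3, nat_lit 2, nat_lit 3, nat_lit 2, nat_lit 0, nat_lit 2])) (.leaf ((nat_lit 517), [nat_lit 3, nat_lit 0, nat_lit 1, nat_lit 0, nat_lit 1, nat_lit 0]))))
 (.node (nat_lit 2367) (.node (nat_lit 2366) (.leaf ((nat_lit 298), [nat_lit 3, nat_lit 1, nat_lit 3, nat_lit 1, nat_lit 2, nat_lit 0, nat_lit 1, nat_lit 0, nat_lit 1])) (.leaf ((nat_lit 338), [nat_lit 1, nat_lit 2, nat_lit 3, nat_lit 2, nat_lit 0, nat_lit 2, nat_lit 0, nat_lit 1]))) (.node (nat_lit 2368) (.leaf ((nat_lit 338), [nat_lit 3, nat_lit 2, nat_lit 3, nat_lit 1, nat_lit 0, nat_lit 2, nat_lit 0, nat_lit 1])) (.node (nat_lit 2369)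 (.leaf ((nat_lit 353), [nat_lit 1, nat_lit 2, nat_lit 0])) (.leaf ((nat_lit 369), [nat_lit 2, nat_lit 3])))))))
 (.node (nat_lit 2379) (.node (nat_lit 2374) (.node (nat_lit 2372) (.node (nat_lit 2371) (.leaf ((nat_lit 224), [nat_lit 1, nat_lit 2, nat_lit 3, nat_lit 1, nat_lit 0, nat_lit 2, nat_lit 0, nat_lit 1])) (.leaf ((nat_lit 100), [nat_lit 1, nat_lit 3, nat_lit 2, nat_lit 0, nat_lit 1]))) (.node (nat_lit 2373) (.leaf ((nat_lit 485), [nat_lit 3, nat_lit 1, nat_lit 3, nat_lit 2, nat_lit 0, nat_lit 1, nat_lit 0, nat_lit 1, nat_lit 0])) (.leaf ((nat_lit 460), [nat_lit 1, nat_lit 2, nat_lit 3, nat_lit 1, nat_lit 2, nat_lit 1, nat_lit 0, nat_lit 1, nat_lit 0]))))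
 (.node (nat_lit 2376) (.node (nat_lit 2375) (.leaf ((nat_lit 607), [nat_lit 2, nat_lit 3, nat_lit 0, nat_lit 2])) (.leaf ((nat_lit 241), [nat_lit 3, nat_lit 2, nat_lit 1, nat_lit 0, nat_lit 1]))) (.node (nat_lit 2377) (.leaf ((nat_lit 608), [nat_lit 2, nat_lit 1, nat_lit 3, nat_lit 2, nat_lit 0, nat_lit 2, nat_lit 1, nat_lit 0, nat_lit 1])) (.node (nat_lit 2378) (.leaf ((nat_lit 277), [nat_lit 2, nat_lit 3, nat_lit 0, nat_lit 2, nat_lit 1])) (.leaf ((nat_lit 543), [nat_lit 0, nat_lit 1, nat_lit 3, nat_lit 1, nat_lit 0, nat_lit 2, nat_lit 0]))))))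
 (.node (nat_lit 2383) (.node (nat_lit 2381) (.node (nat_lit 2380) (.leaf ((nat_lit 100), [nat_lit 1, nat_lit 2, nat_lit 3, nat_lit 0, nat_lit 1, nat_lit 0, nat_lit 1])) (.leaf ((nat_lit 167), [nat_lit 2, nat_lit 1, nat_lit 3, nat_lit 1, nat_lit 0, nat_lit 2, nat_lit 0, nat_lit 1, nat_lit 0, nat_lit 1]))) (.node (nat_lit 2382) (.leaf ((nat_lit 101), [nat_lit 1, nat_lit 0, nat_lit 2, nat_lit 0, nat_lit 1])) (.leaf ((nat_lit 288), [nat_lit 1, nat_lit 2, nat_lit 3, nat_lit 2, nat_lit 0, nat_lit 2, nat_lit 1]))))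
 (.node (nat_lit 2385) (.node (nat_lit 2384) (.leaf ((nat_lit 340), [nat_lit 0])) (.leaf ((nat_lit 106), [nat_lit 1, nat_lit 2, nat_lit 0, nat_lit 1]))) (.node (nat_lit 2386) (.leaf ((nat_lit 372), [nat_lit 0, nat_lit 1, nat_lit 3, nat_lit 1, nat_lit 2])) (.node (nat_lit 2387) (.leaf ((nat_lit 609), [nat_lit 2, nat_lit 0, nat_lit 2, nat_lit 0])) (.leaf ((nat_lit 450), [nat_lit 0, nat_lit 1, nat_lit 2, nat_lit 3, nat_lit 0, nat_lit 2, nat_lit 0, nat_lit 1]))))))))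
 (.node (nat_lit 2406) (.node (nat_lit 2397) (.node (nat_lit 2392) (.node (nat_lit 2390) (.node (nat_lit 2389) (.leaf ((nat_lit 220), [nat_lit 0, nat_lit 1, nat_lit 3, nat_lit 0, nat_lit 1])) (.leaf ((nat_lit 101), [nat_lit 1, nat_lit 0, nat_lit 2, nat_lit 1]))) (.node (nat_lit 2391) (.leaf ((nat_lit 368), [nat_lit 0, nat_lit 2, nat_lit 0, nat_lit 1, nat_lit 0, nat_lit 1, nat_lit 0])) (.leaf ((nat_lit 204), [nat_lit 3, nat_lit 2, nat_lit 3, nat_lit 0]))))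
 (.node (nat_lit 2394) (.node (nat_lit 2393) (.leaf ((nat_lit 173), [nat_lit 1, nat_lit 3, nat_lit 2, nat_lit 0])) (.leaf ((nat_lit 378), [nat_lit 2, nat_lit 0, nat_lit 2, nat_lit 1, nat_lit 0]))) (.node (nat_lit 2395) (.leaf ((nat_lit 160), [nat_lit 1, nat_lit 3, nat_lit 1, nat_lit 2])) (.node (nat_lit 2396) (.leaf ((nat_lit 303), [nat_lit 3, nat_lit 1, nat_lit 2, nat_lit 3, nat_lit 0, nat_lit 1])) (.leaf ((nat_lit 174), [nat_lit 1, nat_lit 3, nat_lit 2, nat_lit 0, nat_lit 2, nat_lit 0, nat_lit 1, nat_lit 0]))))))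
 (.node (nat_lit 2401) (.node (nat_lit 2399) (.node (nat_lit 2398) (.leaf ((nat_lit 159), [nat_lit 0, nat_lit 1, nat_lit 2, nat_lit 3, nat_lit 1, nat_lit 2, nat_lit 0, nat_lit 1, nat_lit 0, nat_lit 1])) (.leaf ((nat_lit 303), [nat_lit 2, nat_lit 1, nat_lit 3, nat_lit 1, nat_lit 2, nat_lit 0, nat_lit 1, nat_lit 0, nat_lit 1]))) (.node (nat_lit 2400) (.leaf ((nat_lit 101), [nat_lit 1, nat_lit 2, nat_lit 3, nat_lit 1, nat_lit 0, nat_lit 1])) (.leaf ((nat_lit 610), [nat_lit 3, nat_lit 1, nat_lit 0, nat_lit 1]))))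
 (.node (nat_lit 2403) (.node (nat_lit 2402) (.leaf ((nat_lit 212), [nat_lit 1, nat_lit 3, nat_lit 0, nat_lit 2, nat_lit 0, nat_lit 1, nat_lit 0])) (.leaf ((nat_lit 102), [nat_lit 3, nat_lit 1, nat_lit 3, nat_lit 2, nat_lit 0, nat_lit 2, nat_lit 0, nat_lit 1, nat_lit 0, nat_lit 1, nat_lit 0]))) (.node (nat_lit 2404) (.leaf ((nat_lit 213), [nat_lit 1, nat_lit 2, nat_lit 3, nat_lit 0, nat_lit 2])) (.node (nat_lit 2405) (.leaf ((nat_lit 212), [nat_lit 2, nat_lit 1, nat_lit 3, nat_lit 2, nat_lit 0, nat_lit 1, nat_lit 0, nat_lit 1, nat_lit 0])) (.leaf ((nat_lit 413), [nat_lit 2, nat_lit 3, nat_lit 1, nat_lit 2, nat_lit 1])))))))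
 (.node (nat_lit 2415) (.node (nat_lit 2410) (.node (nat_lit 2408) (.node (nat_lit 2407) (.leaf ((nat_lit 278), [nat_lit 2, nat_lit 3, nat_lit 0, nat_lit 2, nat_lit 0, nat_lit 1, nat_lit 0])) (.leaf ((nat_lit 503), [nat_lit 3, nat_lit 2, nat_lit 3, nat_lit 1, nat_lit 0, nat_lit 2, nat_lit 1, nat_lit 0, nat_lit 1]))) (.node (nat_lit 2409) (.leaf ((nat_lit 611), [nat_lit 1, nat_lit 0, nat_lit 2, nat_lit 1])) (.leaf ((nat_lit 612), [nat_lit 3, nat_lit 1, nat_lit 3, nat_lit 1, nat_lit 0, nat_lit 2, nat_lit 1]))))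
 (.node (nat_lit 2412) (.node (nat_lit 2411) (.leaf ((nat_lit 613), [nat_lit 2, nat_lit 3, nat_lit 1, nat_lit 2, nat_lit 0, nat_lit 1, nat_lit 0])) (.leaf ((nat_lit 509), [nat_lit 3, nat_lit 1, nat_lit 2, nat_lit 3, nat_lit 1, nat_lit 0, nat_lit 2, nat_lit 1, nat_lit 0]))) (.node (nat_lit 2413) (.leaf ((nat_lit 539), [nat_lit 0, nat_lit 1, nat_lit 3, nat_lit 1, nat_lit 2, nat_lit 0, nat_lit 1, nat_lit 0, nat_lit 1, nat_lit 0])) (.node (nat_lit 2414) (.leaf ((nat_lit 565), [nat_lit 3, nat_lit 2, nat_lit 3, nat_lit 0])) (.leaf ((nat_lit 102), [nat_lit 2, nat_lit 1, nat_lit 3, nat_lit 2, nat_lit 0, nat_lit 1, nat_lit 0]))))))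
 (.node (nat_lit 2420) (.node (nat_lit 2417) (.node (nat_lit 2416) (.leaf ((nat_lit 548), [nat_lit 3, nat_lit 1, nat_lit 2, nat_lit 3, nat_lit 2, nat_lit 0, nat_lit 1, nat_lit 0, nat_lit 1, nat_lit 0])) (.leaf ((nat_lit 359), [nat_lit 2, nat_lit 0, nat_lit 1, nat_lit 0, nat_lit 1]))) (.node (nat_lit 2418) (.leaf ((nat_lit 186), [nat_lit 3, nat_lit 1, nat_lit 3, nat_lit 2, nat_lit 0, nat_lit 2])) (.node (nat_lit 2419) (.leaf ((nat_lit 103), [nat_lit 3, nat_lit 1, nat_lit 3, nat_lit 1, nat_lit 2, nat_lit 0, nat_lit 1, nat_lit 0, nat_lit 1])) (.leaf ((nat_lit 279), [nat_lit 1, nat_lit 3, nat_lit 0, nat_lit 2, nat_lit 1])))))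
 (.node (nat_lit 2422) (.node (nat_lit 2421) (.leaf ((nat_lit 486), [nat_lit 1, nat_lit 3, nat_lit 0, nat_lit 2, nat_lit 1])) (.leaf ((nat_lit 363), [nat_lit 3, nat_lit 1, nat_lit 3, nat_lit 1, nat_lit 2, nat_lit 0, nat_lit 1, nat_lit 0, nat_lit 1, nat_lit 0]))) (.node (nat_lit 2423) (.leaf ((nat_lit 305), [nat_lit 3, nat_lit 2, nat_lit 3, nat_lit 2, nat_lit 0, nat_lit 2, nat_lit 0])) (.node (nat_lit 2424) (.leaf ((nat_lit 573), [nat_lit 0, nat_lit 1, nat_lit 3, nat_lit 2, nat_lit 0, nat_lit 1])) (.leaf ((nat_lit 346), [nat_lit 1, nat_lit 2, nat_lit 3, nat_lit 2, nat_lit 1])))))))))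
 (.node (nat_lit 2462) (.node (nat_lit 2443) (.node (nat_lit 2434) (.node (nat_lit 2429) (.node (nat_lit 2427) (.node (nat_lit 2426) (.leaf ((nat_lit 404), [nat_lit 0, nat_lit 1, nat_lit 3, nat_lit 0, nat_lit 2, nat_lit 0])) (.leaf ((nat_lit 445), [nat_lit 3, nat_lit 1, nat_lit 2, nat_lit 3, nat_lit 2, nat_lit 0]))) (.node (nat_lit 2428) (.leaf ((nat_lit 103), [nat_lit 2, nat_lit 1, nat_lit 3, nat_lit 0, nat_lit 2, nat_lit 1])) (.leaf ((nat_lit 565), [nat_lit 1, nat_lit 3, nat_lit 0, nat_lit 1, nat_lit 0, nat_lit 1, nat_lit 0]))))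
 (.node (nat_lit 2431) (.node (nat_lit 2430) (.leaf ((nat_lit 104), [nat_lit 1, nat_lit 2, nat_lit 3, nat_lit 1, nat_lit 0, nat_lit 2, nat_lit 1])) (.leaf ((nat_lit 231), [nat_lit 1, nat_lit 2, nat_lit 3, nat_lit 1, nat_lit 0, nat_lit 2]))) (.node (nat_lit 2432) (.leaf ((nat_lit 367), [nat_lit 1, nat_lit 2, nat_lit 3, nat_lit 0, nat_lit 1, nat_lit 0, nat_lit 1, nat_lit 0])) (.node (nat_lit 2433) (.leaf ((nat_lit 171), [nat_lit 0, nat_lit 1, nat_lit 3, nat_lit 0, nat_lit 2, nat_lit 0, nat_lit 1, nat_lit 0])) (.leaf ((nat_lit 228), [nat_lit 0, nat_lit 1, nat_lit 3, nat_lit 2, nat_lit 0, nat_lit 2, nat_lit 0, nat_lit 1, nat_lit 0, nat_lit 1, nat_lit 0]))))))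
 (.node (nat_lit 2438) (.node (nat_lit 2436) (.node (nat_lit 2435) (.leaf ((nat_lit 181), [nat_lit 3, nat_lit 1, nat_lit 3, nat_lit 2, nat_lit 0])) (.leaf ((nat_lit 376), [nat_lit 2, nat_lit 1, nat_lit 3, nat_lit 0, nat_lit 1, nat_lit 0, nat_lit 1, nat_lit 0]))) (.node (nat_lit 2437) (.leaf ((nat_lit 349), [nat_lit 0, nat_lit 1, nat_lit 2, nat_lit 3, nat_lit 1, nat_lit 2, nat_lit 1])) (.leaf ((nat_lit 105), [nat_lit 2, nat_lit 3, nat_lit 2, nat_lit 1, nat_lit 0, nat_lit 1]))))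
 (.node (nat_lit 2440) (.node (nat_lit 2439) (.leaf ((nat_lit 356), [nat_lit 3, nat_lit 1, nat_lit 2, nat_lit 3, nat_lit 2, nat_lit 0, nat_lit 2, nat_lit 1])) (.leaf ((nat_lit 377), [nat_lit 2, nat_lit 1, nat_lit 3, nat_lit 0, nat_lit 2]))) (.node (nat_lit 2441) (.leaf ((nat_lit 105), [nat_lit 0, nat_lit 1, nat_lit 3, nat_lit 0, nat_lit 2, nat_lit 0, nat_lit 1])) (.node (nat_lit 2442) (.leaf ((nat_lit 612), [nat_lit 3, nat_lit 1, nat_lit 2, nat_lit 3, nat_lit 2, nat_lit 0, nat_lit 2, nat_lit 1])) (.leaf ((nat_lit 188), [nat_lit 3, nat_lit 2, nat_lit 1, nat_lit 0])))))))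
 (.node (nat_lit 2452) (.node (nat_lit 2447) (.node (nat_lit 2445) (.node (nat_lit 2444) (.leaf ((nat_lit 105), [nat_lit 2, nat_lit 1, nat_lit 3, nat_lit 0, nat_lit 1, nat_lit 0, nat_lit 1, nat_lit 0])) (.leaf ((nat_lit 348), [nat_lit 3, nat_lit 1, nat_lit 3, nat_lit 2, nat_lit 0, nat_lit 1]))) (.node (nat_lit 2446) (.leaf ((nat_lit 329), [nat_lit 3, nat_lit 2, nat_lit 3, nat_lit 2])) (.leaf ((nat_lit 609), [nat_lit 1, nat_lit 3, nat_lit 1, nat_lit 2, nat_lit 0, nat_lit 1]))))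
 (.node (nat_lit 2449) (.node (nat_lit 2448) (.leaf ((nat_lit 236), [nat_lit 0, nat_lit 1, nat_lit 3, nat_lit 2, nat_lit 0, nat_lit 2])) (.leaf ((nat_lit 263), [nat_lit 2, nat_lit 1, nat_lit 3, nat_lit 2, nat_lit 0, nat_lit 2, nat_lit 0]))) (.node (nat_lit 2450) (.leaf ((nat_lit 283), [nat_lit 2, nat_lit 1, nat_lit 3, nat_lit 1, nat_lit 2, nat_lit 0, nat_lit 1])) (.node (nat_lit 2451) (.leaf ((nat_lit 506), [nat_lit 3, nat_lit 0, nat_lit 1, nat_lit 0, nat_lit 1])) (.leaf ((nat_lit 332), [nat_lit 1, nat_lit 2, nat_lit 3, nat_lit 2, nat_lit 0, nat_lit 1]))))))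
 (.node (nat_lit 2457) (.node (nat_lit 2454) (.node (nat_lit 2453) (.leaf ((nat_lit 105), [nat_lit 0, nat_lit 1, nat_lit 0])) (.leaf ((nat_lit 386), [nat_lit 1, nat_lit 3, nat_lit 0, nat_lit 1, nat_lit 0]))) (.node (nat_lit 2455) (.leaf ((nat_lit 550), [nat_lit 0, nat_lit 1, nat_lit 3, nat_lit 1, nat_lit 0])) (.node (nat_lit 2456) (.leaf ((nat_lit 188), [nat_lit 0, nat_lit 1, nat_lit 0, nat_lit 1, nat_lit 0])) (.leaf ((nat_lit 327), [nat_lit 3, nat_lit 1, nat_lit 2, nat_lit 1, nat_lit 0])))))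
 (.node (nat_lit 2459) (.node (nat_lit 2458) (.leaf ((nat_lit 107), [nat_lit 3, nat_lit 1, nat_lit 0, nat_lit 2, nat_lit 0])) (.leaf ((nat_lit 179), [nat_lit 3, nat_lit 1, nat_lit 3, nat_lit 1, nat_lit 2, nat_lit 0, nat_lit 1, nat_lit 0, nat_lit 1]))) (.node (nat_lit 2460) (.leaf ((nat_lit 310), [nat_lit 0, nat_lit 1, nat_lit 3, nat_lit 1, nat_lit 2])) (.node (nat_lit 2461) (.leaf ((nat_lit 120), [nat_lit 2, nat_lit 0, nat_lit 2, nat_lit 1, nat_lit 0, nat_lit 1])) (.leaf ((nat_lit 185), [nat_lit 2, nat_lit 3, nat_lit 2, nat_lit 0, nat_lit 2, nat_lit 0]))))))))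
 (.node (nat_lit 2480) (.node (nat_lit 2471) (.node (nat_lit 2466) (.node (nat_lit 2464) (.node (nat_lit 2463) (.leaf ((nat_lit 230), [nat_lit 3, nat_lit 1, nat_lit 3, nat_lit 1, nat_lit 0, nat_lit 2])) (.leaf ((nat_lit 351), [nat_lit 1, nat_lit 2, nat_lit 3, nat_lit 2, nat_lit 1]))) (.node (nat_lit 2465) (.leaf ((nat_lit 108), [nat_lit 0, nat_lit 1, nat_lit 3, nat_lit 2, nat_lit 0, nat_lit 2])) (.leaf ((nat_lit 183), [nat_lit 1, nat_lit 3, nat_lit 0, nat_lit 1, nat_lit 0, nat_lit 1]))))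
 (.node (nat_lit 2468) (.node (nat_lit 2467) (.leaf ((nat_lit 120), [nat_lit 3, nat_lit 1, nat_lit 2, nat_lit 1, nat_lit 0, nat_lit 1, nat_lit 0])) (.leaf ((nat_lit 310), [nat_lit 3, nat_lit 1, nat_lit 2, nat_lit 1, nat_lit 0, nat_lit 1]))) (.node (nat_lit 2469) (.leaf ((nat_lit 466), [nat_lit 3, nat_lit 1, nat_lit 3, nat_lit 0, nat_lit 1, nat_lit 0])) (.node (nat_lit 2470) (.leaf ((nat_lit 292), [nat_lit 3, nat_lit 2, nat_lit 3, nat_lit 0, nat_lit 2, nat_lit 1, nat_lit 0, nat_lit 1])) (.leaf ((nat_lit 614), [nat_lit 3, nat_lit 1, nat_lit 2, nat_lit 1, nat_lit 0, nat_lit 1]))))))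
 (.node (nat_lit 2475) (.node (nat_lit 2473) (.node (nat_lit 2472) (.leaf ((nat_lit 225), [nat_lit 3, nat_lit 1])) (.leaf ((nat_lit 111), [nat_lit 1, nat_lit 2, nat_lit 3, nat_lit 1, nat_lit 0, nat_lit 2, nat_lit 0, nat_lit 1]))) (.node (nat_lit 2474) (.leaf ((nat_lit 338), [nat_lit 0, nat_lit 2, nat_lit 1])) (.leaf ((nat_lit 603), [nat_lit 0, nat_lit 1, nat_lit 2, nat_lit 3, nat_lit 2, nat_lit 1]))))
 (.node (nat_lit 2477) (.node (nat_lit 2476) (.leaf ((nat_lit 109), [nat_lit 0, nat_lit 1, nat_lit 3, nat_lit 0, nat_lit 2, nat_lit 0, nat_lit 1, nat_lit 0])) (.leaf ((nat_lit 254), [nat_lit 0, nat_lit 1, nat_lit 3, nat_lit 1, nat_lit 0, nat_lit 2, nat_lit 1, nat_lit 0, nat_lit 1]))) (.node (nat_lit 2478) (.leaf ((nat_lit 193), [nat_lit 3, nat_lit 1, nat_lit 2, nat_lit 3, nat_lit 0, nat_lit 2, nat_lit 1, nat_lit 0])) (.node (nat_lit 2479) (.leaf ((nat_lit 110), [nat_lit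 3, nat_lit 2, nat_lit 3, nat_lit 0, nat_lit 2, nat_lit 0])) (.leaf ((nat_lit 195), [nat_lit 3, nat_lit 1, nat_lit 3, nat_lit 1, nat_lit 0, nat_lit 2, nat_lit 0, nat_lit 1])))))))
 (.node (nat_lit 2489) (.node (nat_lit 2484) (.node (nat_lit 2482) (.node (nat_lit 2481) (.leaf ((nat_lit 354), [nat_lit 1, nat_lit 0, nat_lit 2, nat_lit 0, nat_lit 1])) (.leaf ((nat_lit 357), [nat_lit 3, nat_lit 1, nat_lit 3, nat_lit 1, nat_lit 0, nat_lit 2, nat_lit 0, nat_lit 1, nat_lit 0, nat_lit 1, nat_lit 0]))) (.node (nat_lit 2483) (.leaf ((nat_lit 603), [nat_lit 0, nat_lit 1, nat_lit 2, nat_lit 3, nat_lit 2, nat_lit 0, nat_lit 2, nat_lit 1])) (.leaf ((nat_lit 333), [nat_lit 3, nat_lit 1, nat_lit 3, nat_lit 1, nat_lit 2, nat_lit 1, nat_lit 0, nat_lit 1, nat_lit 0]))))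
 (.node (nat_lit 2486) (.node (nat_lit 2485) (.leaf ((nat_lit 224), [nat_lit 3, nat_lit 1, nat_lit 3, nat_lit 2, nat_lit 0, nat_lit 2, nat_lit 1, nat_lit 0, nat_lit 1])) (.leaf ((nat_lit 469), [nat_lit 3, nat_lit 2, nat_lit 3, nat_lit 0, nat_lit 2, nat_lit 1, nat_lit 0, nat_lit 1, nat_lit 0]))) (.node (nat_lit 2487) (.leaf ((nat_lit 178), [nat_lit 3, nat_lit 1, nat_lit 0, nat_lit 2, nat_lit 0, nat_lit 1])) (.node (nat_lit 2488) (.leaf ((nat_lit 379), [nat_lit 3, nat_lit 2, nat_lit 3, nat_lit 2, nat_lit 0, nat_lit 2, nat_lit 1, nat_lit 0, nat_lit 1, nat_lit 0])) (.leaf ((nat_lit 381), [nat_lit 2, nat_lit 0, nat_lit 1, nat_lit 0, nat_lit 1]))))))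
 (.node (nat_lit 2494) (.node (nat_lit 2491) (.node (nat_lit 2490) (.leaf ((nat_lit 110), [nat_lit 2, nat_lit 3, nat_lit 2, nat_lit 0, nat_lit 1, nat_lit 0, nat_lit 1, nat_lit 0])) (.leaf ((nat_lit 470), [nat_lit 3, nat_lit 2, nat_lit 3]))) (.node (nat_lit 2492) (.leaf ((nat_lit 163), [nat_lit 3, nat_lit 2, nat_lit 3, nat_lit 1, nat_lit 2, nat_lit 1, nat_lit 0, nat_lit 1, nat_lit 0])) (.node (nat_lit 2493) (.leaf ((nat_lit 464), [nat_lit 3, nat_lit 1, nat_lit 3, nat_lit 1, nat_lit 2, nat_lit 1, nat_lit 0])) (.leaf ((nat_lit 370), [nat_lit 3, nat_lit 1, nat_lit 2, nat_lit 3, nat_lit 0, nat_lit 2, nat_lit 1, nat_lit 0, nat_lit 1, nat_lit 0])))))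
 (.node (nat_lit 2496) (.node (nat_lit 2495) (.leaf ((nat_lit 348), [nat_lit 3, nat_lit 2, nat_lit 3, nat_lit 0])) (.leaf ((nat_lit 506), [nat_lit 3, nat_lit 2, nat_lit 3, nat_lit 2, nat_lit 0, nat_lit 2, nat_lit 0, nat_lit 1, nat_lit 0, nat_lit 1]))) (.node (nat_lit 2497) (.leaf ((nat_lit 488), [nat_lit 1, nat_lit 2, nat_lit 3, nat_lit 2, nat_lit 0, nat_lit 2, nat_lit 1, nat_lit 0, nat_lit 1])) (.node (nat_lit 2498) (.leaf ((nat_lit 268), [nat_lit 3, nat_lit 2, nat_lit 1, nat_lit 0, nat_lit 1])) (.leaf ((nat_lit 110), [nat_lit 1, nat_lit 3, nat_lit 1, nat_lit 2, nat_lit 1, nat_lit 0, nat_lit 1]))))))))))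
noncomputable def bWd_17 : Tr (ℕ × List ℕ) := (.node (nat_lit 2572) (.node (nat_lit 2535) (.node (nat_lit 2517) (.node (nat_lit 2508) (.node (nat_lit 2503) (.node (nat_lit 2501) (.node (nat_lit 2500) (.leaf ((nat_lit 201), [nat_lit 0, nat_lit 2, nat_lit 0, nat_lit 1])) (.leaf ((nat_lit 112), [nat_lit 3, nat_lit 2, nat_lit 3, nat_lit 1, nat_lit 0]))) (.node (nat_lit 2502) (.leaf ((nat_lit 357), [nat_lit 2, nat_lit 1, nat_lit 3, nat_lit 2, nat_lit 0, nat_lit 1, nat_lit 0, nat_lit 1])) (.leaf ((nat_lit 354), [nat_lit 3, nat_lit 1, nat_lit 2, nat_lit 3, nat_lit 1, nat_lit 2, nat_lit 1, nat_lit 0, nat_lit 1, nat_lit 0]))))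
 (.node (nat_lit 2505) (.node (nat_lit 2504) (.leaf ((nat_lit 176), [nat_lit 3, nat_lit 2, nat_lit 3, nat_lit 2, nat_lit 0, nat_lit 1])) (.leaf ((nat_lit 439), [nat_lit 1, nat_lit 3, nat_lit 1, nat_lit 0, nat_lit 1, nat_lit 0]))) (.node (nat_lit 2506) (.leaf ((nat_lit 615), [nat_lit 1, nat_lit 3, nat_lit 2, nat_lit 1, nat_lit 0, nat_lit 1])) (.node (nat_lit 2507) (.leaf ((nat_lit 369), [nat_lit 3, nat_lit 1, nat_lit 0, nat_lit 2, nat_lit 0, nat_lit 1, nat_lit 0])) (.leaf ((nat_lit 164), [nat_lit 1, nat_lit 3, nat_lit 2, nat_lit 0, nat_lit 1, nat_lit 0, nat_lit 1, nat_lit 0]))))))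
 (.node (nat_lit 2512) (.node (nat_lit 2510) (.node (nat_lit 2509) (.leaf ((nat_lit 470), [nat_lit 3, nat_lit 1, nat_lit 2, nat_lit 3, nat_lit 1, nat_lit 0, nat_lit 2, nat_lit 0, nat_lit 1, nat_lit 0, nat_lit 1, nat_lit 0])) (.leaf ((nat_lit 164), [nat_lit 3, nat_lit 1, nat_lit 2, nat_lit 3, nat_lit 1, nat_lit 0, nat_lit 2, nat_lit 0, nat_lit 1, nat_lit 0, nat_lit 1, nat_lit 0]))) (.node (nat_lit 2511) (.leaf ((nat_lit 112), [nat_lit 3, nat_lit 1, nat_lit 2, nat_lit 3, nat_lit 2, nat_lit 0, nat_lit 1, nat_lit 0, nat_lit 1])) (.leaf ((nat_lit 216), [nat_lit 3, nat_lit 1, nat_lit 2, nat_lit 3, nat_lit 0, nat_lit 2, nat_lit 0]))))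
 (.node (nat_lit 2514) (.node (nat_lit 2513) (.leaf ((nat_lit 244), [nat_lit 1, nat_lit 2, nat_lit 3, nat_lit 1, nat_lit 2, nat_lit 0])) (.leaf ((nat_lit 345), [nat_lit 2, nat_lit 0, nat_lit 2, nat_lit 0, nat_lit 1, nat_lit 0]))) (.node (nat_lit 2515) (.leaf ((nat_lit 548), [nat_lit 3, nat_lit 1, nat_lit 2, nat_lit 3, nat_lit 1, nat_lit 2, nat_lit 1])) (.node (nat_lit 2516) (.leaf ((nat_lit 286), [nat_lit 2, nat_lit 0, nat_lit 1])) (.leaf ((nat_lit 113), [nat_lit 3, nat_lit 0, nat_lit 1, nat_lit 0, nat_lit 1])))))))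
 (.node (nat_lit 2526) (.node (nat_lit 2521) (.node (nat_lit 2519) (.node (nat_lit 2518) (.leaf ((nat_lit 172), [nat_lit 3, nat_lit 1, nat_lit 3, nat_lit 2, nat_lit 0, nat_lit 2])) (.leaf ((nat_lit 616), [nat_lit 2, nat_lit 1, nat_lit 3, nat_lit 2, nat_lit 0, nat_lit 2, nat_lit 1, nat_lit 0, nat_lit 1, nat_lit 0]))) (.node (nat_lit 2520) (.leaf ((nat_lit 133), [nat_lit 2, nat_lit 3, nat_lit 2, nat_lit 0, nat_lit 2, nat_lit 1])) (.leaf ((nat_lit 617), [nat_lit 1, nat_lit 2, nat_lit 1, nat_lit 0, nat_lit 1, nat_lit 0]))))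
 (.node (nat_lit 2523) (.node (nat_lit 2522) (.leaf ((nat_lit 396), [nat_lit 0, nat_lit 2, nat_lit 0, nat_lit 1, nat_lit 0, nat_lit 1])) (.leaf ((nat_lit 264), [nat_lit 3, nat_lit 1, nat_lit 3, nat_lit 1, nat_lit 0, nat_lit 2, nat_lit 0, nat_lit 1, nat_lit 0, nat_lit 1, nat_lit 0]))) (.node (nat_lit 2524) (.leaf ((nat_lit 423), [nat_lit 0, nat_lit 1, nat_lit 2, nat_lit 3, nat_lit 0, nat_lit 1, nat_lit 0])) (.node (nat_lit 2525) (.leaf ((nat_lit 360), [nat_lit 1, nat_lit 3, nat_lit 1, nat_lit 0, nat_lit 2, nat_lit 0])) (.leaf ((nat_lit 114), [nat_lit 0, nat_lit 1, nat_lit 2, nat_lit 3, nat_lit 1, nat_lit 2, nat_lit 1, nat_lit 0, nat_lit 1, nat_lit 0]))))))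
 (.node (nat_lit 2530) (.node (nat_lit 2528) (.node (nat_lit 2527) (.leaf ((nat_lit 360), [nat_lit 1])) (.leaf ((nat_lit 362), [nat_lit 3, nat_lit 1, nat_lit 3, nat_lit 1, nat_lit 0, nat_lit 2, nat_lit 0, nat_lit 1, nat_lit 0, nat_lit 1]))) (.node (nat_lit 2529) (.leaf ((nat_lit 115), [nat_lit 1, nat_lit 2, nat_lit 3, nat_lit 2, nat_lit 0, nat_lit 2, nat_lit 0])) (.leaf ((nat_lit 550), [nat_lit 3, nat_lit 2, nat_lit 3, nat_lit 2]))))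
 (.node (nat_lit 2532) (.node (nat_lit 2531) (.leaf ((nat_lit 550), [nat_lit 3, nat_lit 2, nat_lit 0, nat_lit 2, nat_lit 0, nat_lit 1, nat_lit 0, nat_lit 1, nat_lit 0])) (.leaf ((nat_lit 525), [nat_lit 3, nat_lit 1, nat_lit 2, nat_lit 3, nat_lit 2, nat_lit 0]))) (.node (nat_lit 2533) (.leaf ((nat_lit 618), [nat_lit 1, nat_lit 2, nat_lit 3, nat_lit 1, nat_lit 0, nat_lit 2, nat_lit 1, nat_lit 0, nat_lit 1])) (.node (nat_lit 2534) (.leaf ((nat_lit 177), [nat_lit 3, nat_lit 2, nat_lit 3, nat_lit 0, nat_lit 1, nat_lit 0, nat_lit 1, nat_lit 0])) (.leaf ((nat_lit 115), [nat_lit 0, nat_lit 1, nat_lit 3, nat_lit 1, nat_lit 0, nat_lit 2]))))))))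
 (.node (nat_lit 2553) (.node (nat_lit 2544) (.node (nat_lit 2539) (.node (nat_lit 2537) (.node (nat_lit 2536) (.leaf ((nat_lit 361), [nat_lit 3, nat_lit 2, nat_lit 3, nat_lit 2, nat_lit 0, nat_lit 1, nat_lit 0, nat_lit 1, nat_lit 0])) (.leaf ((nat_lit 363), [nat_lit 0, nat_lit 1, nat_lit 2, nat_lit 3, nat_lit 1, nat_lit 0, nat_lit 1]))) (.node (nat_lit 2538) (.leaf ((nat_lit 190), [nat_lit 2, nat_lit 0, nat_lit 1])) (.leaf ((nat_lit 243), [nat_lit 0, nat_lit 2]))))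
 (.node (nat_lit 2541) (.node (nat_lit 2540) (.leaf ((nat_lit 581), [nat_lit 2, nat_lit 0, nat_lit 2, nat_lit 0, nat_lit 1, nat_lit 0, nat_lit 1, nat_lit 0])) (.leaf ((nat_lit 202), [nat_lit 1, nat_lit 2, nat_lit 3, nat_lit 1]))) (.node (nat_lit 2542) (.leaf ((nat_lit 222), [nat_lit 1, nat_lit 0])) (.node (nat_lit 2543) (.leaf ((nat_lit 371), [nat_lit 3, nat_lit 1, nat_lit 2, nat_lit 3, nat_lit 0, nat_lit 2, nat_lit 0, nat_lit 1, nat_lit 0, nat_lit 1])) (.leaf ((nat_lit 362), [nat_lit 3, nat_lit 2, nat_lit 3, nat_lit 2, nat_lit 0, nat_lit 2, nat_lit 1, nat_lit 0, nat_lit 1, nat_lit 0]))))))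
 (.node (nat_lit 2548) (.node (nat_lit 2546) (.node (nat_lit 2545) (.leaf ((nat_lit 484), [nat_lit 0, nat_lit 1, nat_lit 3, nat_lit 1, nat_lit 2, nat_lit 1, nat_lit 0, nat_lit 1])) (.leaf ((nat_lit 116), [nat_lit 1, nat_lit 2, nat_lit 3, nat_lit 0, nat_lit 1, nat_lit 0, nat_lit 1]))) (.node (nat_lit 2547) (.leaf ((nat_lit 307), [nat_lit 0, nat_lit 1, nat_lit 2, nat_lit 3, nat_lit 1, nat_lit 0])) (.leaf ((nat_lit 345), [nat_lit 3, nat_lit 2, nat_lit 3, nat_lit 1, nat_lit 0, nat_lit 2, nat_lit 1]))))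
 (.node (nat_lit 2550) (.node (nat_lit 2549) (.leaf ((nat_lit 365), [nat_lit 2, nat_lit 1, nat_lit 3, nat_lit 1, nat_lit 0, nat_lit 2, nat_lit 0, nat_lit 1, nat_lit 0])) (.leaf ((nat_lit 117), [nat_lit 2, nat_lit 0, nat_lit 1]))) (.node (nat_lit 2551) (.leaf ((nat_lit 466), [nat_lit 3, nat_lit 2, nat_lit 3, nat_lit 0, nat_lit 2, nat_lit 0, nat_lit 1])) (.node (nat_lit 2552) (.leaf ((nat_lit 121), [nat_lit 1, nat_lit 2, nat_lit 3, nat_lit 0, nat_lit 2, nat_lit 0, nat_lit 1, nat_lit 0, nat_lit 1])) (.leaf ((nat_lit 474), [nat_lit 3, nat_lit 2, nat_lit 0, nat_lit 2, nat_lit 1])))))))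
 (.node (nat_lit 2562) (.node (nat_lit 2557) (.node (nat_lit 2555) (.node (nat_lit 2554) (.leaf ((nat_lit 394), [nat_lit 2, nat_lit 0, nat_lit 2, nat_lit 0, nat_lit 1, nat_lit 0, nat_lit 1])) (.leaf ((nat_lit 220), [nat_lit 3, nat_lit 2, nat_lit 3, nat_lit 0, nat_lit 2, nat_lit 1, nat_lit 0]))) (.node (nat_lit 2556) (.leaf ((nat_lit 117), [nat_lit 0, nat_lit 1, nat_lit 3, nat_lit 1, nat_lit 2, nat_lit 1, nat_lit 0, nat_lit 1])) (.leaf ((nat_lit 364), [nat_lit 3, nat_lit 0, nat_lit 2, nat_lit 0]))))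
 (.node (nat_lit 2559) (.node (nat_lit 2558) (.leaf ((nat_lit 179), [nat_lit 0, nat_lit 2, nat_lit 0, nat_lit 1, nat_lit 0, nat_lit 1, nat_lit 0])) (.leaf ((nat_lit 179), [nat_lit 3, nat_lit 1, nat_lit 3, nat_lit 0, nat_lit 2, nat_lit 0, nat_lit 1, nat_lit 0, nat_lit 1, nat_lit 0]))) (.node (nat_lit 2560) (.leaf ((nat_lit 365), [nat_lit 3, nat_lit 2, nat_lit 3, nat_lit 0, nat_lit 1, nat_lit 0])) (.node (nat_lit 2561) (.leaf ((nat_lit 391), [nat_lit 2, nat_lit 3, nat_lit 2, nat_lit 0])) (.leaf ((nat_lit 365), [nat_lit 0, nat_lit 1, nat_lit 2, nat_lit 3, nat_lit 2, nat_lit 1, nat_lit 0]))))))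
 (.node (nat_lit 2567) (.node (nat_lit 2564) (.node (nat_lit 2563) (.leaf ((nat_lit 119), [nat_lit 3, nat_lit 2, nat_lit 3, nat_lit 1, nat_lit 0, nat_lit 2, nat_lit 0, nat_lit 1])) (.leaf ((nat_lit 118), [nat_lit 0, nat_lit 1, nat_lit 2, nat_lit 3, nat_lit 1, nat_lit 0, nat_lit 2, nat_lit 0]))) (.node (nat_lit 2565) (.leaf ((nat_lit 119), [nat_lit 3, nat_lit 1, nat_lit 2, nat_lit 3, nat_lit 0, nat_lit 2, nat_lit 0, nat_lit 1, nat_lit 0])) (.node (nat_lit 2566) (.leaf ((nat_lit 209), [nat_lit 3, nat_lit 2, nat_lit 3, nat_lit 1, nat_lit 0, nat_lit 2, nat_lit 0, nat_lit 1, nat_lit 0, nat_lit 1, nat_lit 0])) (.leaf ((nat_lit 131), [nat_lit 3, nat_lit 1, nat_lit 0, nat_lit 2, nat_lit 0])))))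
 (.node (nat_lit 2569) (.node (nat_lit 2568) (.leaf ((nat_lit 398), [nat_lit 2, nat_lit 3, nat_lit 2, nat_lit 0, nat_lit 2, nat_lit 1, nat_lit 0, nat_lit 1])) (.leaf ((nat_lit 517), [nat_lit 2, nat_lit 0, nat_lit 2, nat_lit 0, nat_lit 1, nat_lit 0, nat_lit 1]))) (.node (nat_lit 2570) (.leaf ((nat_lit 413), [nat_lit 3, nat_lit 1, nat_lit 3, nat_lit 1, nat_lit 2, nat_lit 0, nat_lit 1, nat_lit 0, nat_lit 1])) (.node (nat_lit 2571) (.leaf ((nat_lit 146), [nat_lit 2, nat_lit 3, nat_lit 1, nat_lit 0, nat_lit 2, nat_lit 1, nat_lit 0, nat_lit 1])) (.leaf ((nat_lit 347), [nat_lit 3, nat_lit 1, nat_lit 2, nat_lit 3, nat_lit 1, nat_lit 2])))))))))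
 (.node (nat_lit 2609) (.node (nat_lit 2590) (.node (nat_lit 2581) (.node (nat_lit 2576) (.node (nat_lit 2574) (.node (nat_lit 2573) (.leaf ((nat_lit 402), [nat_lit 3, nat_lit 1, nat_lit 2, nat_lit 3, nat_lit 0, nat_lit 2])) (.leaf ((nat_lit 210), [nat_lit 3, nat_lit 2, nat_lit 0, nat_lit 2]))) (.node (nat_lit 2575) (.leaf ((nat_lit 118), [nat_lit 3, nat_lit 2, nat_lit 3, nat_lit 2, nat_lit 0, nat_lit 2, nat_lit 1, nat_lit 0, nat_lit 1])) (.leaf ((nat_lit 592), [nat_lit 3, nat_lit 1, nat_lit 3, nat_lit 1, nat_lit 0]))))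
 (.node (nat_lit 2578) (.node (nat_lit 2577) (.leaf ((nat_lit 372), [nat_lit 3, nat_lit 1, nat_lit 2, nat_lit 3, nat_lit 1, nat_lit 2, nat_lit 0, nat_lit 1, nat_lit 0, nat_lit 1, nat_lit 0])) (.leaf ((nat_lit 122), [nat_lit 3, nat_lit 1, nat_lit 2, nat_lit 0, nat_lit 1, nat_lit 0, nat_lit 1]))) (.node (nat_lit 2579) (.leaf ((nat_lit 170), [nat_lit 3, nat_lit 1, nat_lit 2, nat_lit 3, nat_lit 0, nat_lit 1])) (.node (nat_lit 2580) (.leaf ((nat_lit 341), [nat_lit 1, nat_lit 0, nat_lit 2, nat_lit 1, nat_lit 0, nat_lit 1, nat_lit 0])) (.leaf ((nat_lit 120), [nat_lit 1, nat_lit 3, nat_lit 0, nat_lit 1, nat_lit 0]))))))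
 (.node (nat_lit 2585) (.node (nat_lit 2583) (.node (nat_lit 2582) (.leaf ((nat_lit 295), [nat_lit 0, nat_lit 1, nat_lit 3, nat_lit 2, nat_lit 1])) (.leaf ((nat_lit 619), [nat_lit 2, nat_lit 3, nat_lit 2, nat_lit 1]))) (.node (nat_lit 2584) (.leaf ((nat_lit 164), [nat_lit 2, nat_lit 3, nat_lit 2, nat_lit 1, nat_lit 0])) (.leaf ((nat_lit 358), [nat_lit 3, nat_lit 1, nat_lit 0, nat_lit 2, nat_lit 0, nat_lit 1, nat_lit 0]))))
 (.node (nat_lit 2587) (.node (nat_lit 2586) (.leaf ((nat_lit 603), [nat_lit 0, nat_lit 2, nat_lit 1, nat_lit 0])) (.leaf ((nat_lit 338), [nat_lit 3, nat_lit 2]))) (.node (nat_lit 2588) (.leaf ((nat_lit 380), [nat_lit 1, nat_lit 2, nat_lit 3, nat_lit 1, nat_lit 0, nat_lit 2, nat_lit 0, nat_lit 1, nat_lit 0, nat_lit 1, nat_lit 0])) (.node (nat_lit 2589) (.leaf ((nat_lit 120), [nat_lit 3, nat_lit 1, nat_lit 2, nat_lit 3, nat_lit 2, nat_lit 0, nat_lit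 2, nat_lit 1, nat_lit 0, nat_lit 1, nat_lit 0])) (.leaf ((nat_lit 372), [nat_lit 3, nat_lit 1, nat_lit 2, nat_lit 3, nat_lit 2, nat_lit 0, nat_lit 1, nat_lit 0, nat_lit 1, nat_lit 0])))))))
 (.node (nat_lit 2599) (.node (nat_lit 2594) (.node (nat_lit 2592) (.node (nat_lit 2591) (.leaf ((nat_lit 356), [nat_lit 3, nat_lit 1, nat_lit 2, nat_lit 3, nat_lit 0, nat_lit 2, nat_lit 1, nat_lit 0, nat_lit 1, nat_lit 0])) (.leaf ((nat_lit 464), [nat_lit 3, nat_lit 1, nat_lit 2, nat_lit 3, nat_lit 0, nat_lit 1]))) (.node (nat_lit 2593) (.leaf ((nat_lit 407), [nat_lit 3, nat_lit 2, nat_lit 3, nat_lit 1, nat_lit 0, nat_lit 2, nat_lit 1, nat_lit 0, nat_lit 1])) (.leaf ((nat_lit 620), [nat_lit 3, nat_lit 2, nat_lit 0, nat_lit 2, nat_lit 1, nat_lit 0, nat_lit 1]))))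
 (.node (nat_lit 2596) (.node (nat_lit 2595) (.leaf ((nat_lit 608), [nat_lit 0, nat_lit 1, nat_lit 3, nat_lit 0, nat_lit 2, nat_lit 0, nat_lit 1, nat_lit 0, nat_lit 1, nat_lit 0])) (.leaf ((nat_lit 609), [nat_lit 3, nat_lit 2, nat_lit 3, nat_lit 2]))) (.node (nat_lit 2597) (.leaf ((nat_lit 120), [nat_lit 2, nat_lit 1, nat_lit 3, nat_lit 1, nat_lit 0, nat_lit 1])) (.node (nat_lit 2598) (.leaf ((nat_lit 363), [nat_lit 3, nat_lit 2, nat_lit 3, nat_lit 1, nat_lit 2, nat_lit 1, nat_lit 0])) (.leaf ((nat_lit 222), [nat_lit 3, nat_lit 1, nat_lit 2, nat_lit 3, nat_lit 0, nat_lit 2, nat_lit 1, nat_lit 0, nat_lit 1, nat_lit 0]))))))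
 (.node (nat_lit 2604) (.node (nat_lit 2601) (.node (nat_lit 2600) (.leaf ((nat_lit 486), [nat_lit 2, nat_lit 3, nat_lit 1, nat_lit 2, nat_lit 1, nat_lit 0])) (.leaf ((nat_lit 486), [nat_lit 2, nat_lit 1, nat_lit 3, nat_lit 1, nat_lit 2, nat_lit 1]))) (.node (nat_lit 2602) (.leaf ((nat_lit 504), [nat_lit 0, nat_lit 1, nat_lit 3, nat_lit 0, nat_lit 2, nat_lit 1, nat_lit 0])) (.node (nat_lit 2603) (.leaf ((nat_lit 621), [nat_lit 2, nat_lit 3, nat_lit 1, nat_lit 2, nat_lit 0, nat_lit 1, nat_lit 0, nat_lit 1])) (.leaf ((nat_lit 121), [nat_lit 3, nat_lit 2, nat_lit 0, nat_lit 2, nat_lit 1, nat_lit 0, nat_lit 1])))))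
 (.node (nat_lit 2606) (.node (nat_lit 2605) (.leaf ((nat_lit 122), [nat_lit 3, nat_lit 1, nat_lit 3, nat_lit 0, nat_lit 1, nat_lit 0, nat_lit 1, nat_lit 0])) (.leaf ((nat_lit 368), [nat_lit 2, nat_lit 1, nat_lit 3, nat_lit 2, nat_lit 0, nat_lit 2, nat_lit 0, nat_lit 1, nat_lit 0]))) (.node (nat_lit 2607) (.leaf ((nat_lit 247), [nat_lit 3, nat_lit 2, nat_lit 3, nat_lit 2, nat_lit 0, nat_lit 2, nat_lit 0, nat_lit 1, nat_lit 0, nat_lit 1, nat_lit 0])) (.node (nat_lit 2608) (.leaf ((nat_lit 372), [nat_lit 3, nat_lit 1, nat_lit 0, nat_lit 2, nat_lit 0, nat_lit 1, nat_lit 0])) (.leaf ((nat_lit 372), [nat_lit 2, nat_lit 3, nat_lit 1, nat_lit 2, nat_lit 1, nat_lit 0, nat_lit 1, nat_lit 0]))))))))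
 (.node (nat_lit 2627) (.node (nat_lit 2618) (.node (nat_lit 2613) (.node (nat_lit 2611) (.node (nat_lit 2610) (.leaf ((nat_lit 340), [nat_lit 2, nat_lit 1, nat_lit 3, nat_lit 1, nat_lit 0])) (.leaf ((nat_lit 369), [nat_lit 3, nat_lit 2, nat_lit 3, nat_lit 1, nat_lit 2, nat_lit 1, nat_lit 0, nat_lit 1]))) (.node (nat_lit 2612) (.leaf ((nat_lit 374), [nat_lit 2, nat_lit 3, nat_lit 2, nat_lit 0, nat_lit 2, nat_lit 1])) (.leaf ((nat_lit 123), [nat_lit 1, nat_lit 3, nat_lit 1, nat_lit 2, nat_lit 0, nat_lit 1]))))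
 (.node (nat_lit 2615) (.node (nat_lit 2614) (.leaf ((nat_lit 511), [nat_lit 1, nat_lit 2, nat_lit 3, nat_lit 0, nat_lit 2, nat_lit 0])) (.leaf ((nat_lit 242), [nat_lit 3, nat_lit 1, nat_lit 2, nat_lit 3, nat_lit 0, nat_lit 2, nat_lit 0]))) (.node (nat_lit 2616) (.leaf ((nat_lit 135), [nat_lit 3, nat_lit 1, nat_lit 3, nat_lit 1, nat_lit 2])) (.node (nat_lit 2617) (.leaf ((nat_lit 126), [nat_lit 3, nat_lit 1, nat_lit 2, nat_lit 3, nat_lit 1, nat_lit 2, nat_lit 0, nat_lit 1, nat_lit 0, nat_lit 1])) (.leaf ((nat_lit 555), [nat_lit 3, nat_lit 2, nat_lit 3, nat_lit 2, nat_lit 0, nat_lit 1, nat_lit 0, nat_lit 1]))))))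
 (.node (nat_lit 2622) (.node (nat_lit 2620) (.node (nat_lit 2619) (.leaf ((nat_lit 123), [nat_lit 1, nat_lit 2, nat_lit 3, nat_lit 2, nat_lit 1, nat_lit 0, nat_lit 1])) (.leaf ((nat_lit 373), [nat_lit 3, nat_lit 0, nat_lit 2]))) (.node (nat_lit 2621) (.leaf ((nat_lit 456), [nat_lit 0, nat_lit 1, nat_lit 2, nat_lit 3, nat_lit 1, nat_lit 0, nat_lit 2, nat_lit 0, nat_lit 1])) (.leaf ((nat_lit 374), [nat_lit 0, nat_lit 1, nat_lit 2, nat_lit 3, nat_lit 0, nat_lit 2, nat_lit 1, nat_lit 0, nat_lit 1]))))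
 (.node (nat_lit 2624) (.node (nat_lit 2623) (.leaf ((nat_lit 313), [nat_lit 2, nat_lit 3, nat_lit 2, nat_lit 0, nat_lit 1, nat_lit 0])) (.leaf ((nat_lit 247), [nat_lit 3, nat_lit 1, nat_lit 3, nat_lit 1, nat_lit 2, nat_lit 1, nat_lit 0]))) (.node (nat_lit 2625) (.leaf ((nat_lit 231), [nat_lit 0, nat_lit 1, nat_lit 3, nat_lit 1, nat_lit 0, nat_lit 2, nat_lit 1, nat_lit 0, nat_lit 1, nat_lit 0])) (.node (nat_lit 2626) (.leaf ((nat_lit 242), [nat_lit 0, nat_lit 1, nat_lit 3, nat_lit 1, nat_lit 2, nat_lit 1, nat_lit 0, nat_lit 1, nat_lit 0])) (.leaf ((nat_lit 513), [nat_lit 3, nat_lit 1, nat_lit 2, nat_lit 3, nat_lit 1, nat_lit 2, nat_lit 0, nat_lit 1, nat_lit 0, nat_lit 1])))))))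
 (.node (nat_lit 2636) (.node (nat_lit 2631) (.node (nat_lit 2629) (.node (nat_lit 2628) (.leaf ((nat_lit 262), [nat_lit 0, nat_lit 1, nat_lit 3, nat_lit 1, nat_lit 0, nat_lit 2, nat_lit 0, nat_lit 1, nat_lit 0])) (.leaf ((nat_lit 123), [nat_lit 2, nat_lit 1, nat_lit 3, nat_lit 2]))) (.node (nat_lit 2630) (.leaf ((nat_lit 294), [nat_lit 3, nat_lit 1, nat_lit 3, nat_lit 1, nat_lit 2])) (.leaf ((nat_lit 508), [nat_lit 3, nat_lit 1, nat_lit 2, nat_lit 3, nat_lit 2, nat_lit 1, nat_lit 0, nat_lit 1, nat_lit 0]))))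
 (.node (nat_lit 2633) (.node (nat_lit 2632) (.leaf ((nat_lit 622), [nat_lit 1, nat_lit 2, nat_lit 3, nat_lit 1, nat_lit 2, nat_lit 0, nat_lit 1])) (.leaf ((nat_lit 570), [nat_lit 3, nat_lit 1, nat_lit 2, nat_lit 3, nat_lit 1, nat_lit 2, nat_lit 1, nat_lit 0, nat_lit 1, nat_lit 0]))) (.node (nat_lit 2634) (.leaf ((nat_lit 424), [nat_lit 3, nat_lit 2, nat_lit 3, nat_lit 2, nat_lit 1, nat_lit 0, nat_lit 1, nat_lit 0])) (.node (nat_lit 2635) (.leaf ((nat_lit 161), [nat_lit 0, nat_lit 1, nat_lit 3, nat_lit 2, nat_lit 0, nat_lit 1])) (.leaf ((nat_lit 153), [nat_lit 0, nat_lit 1, nat_lit 2, nat_lit 3, nat_lit 1, nat_lit 0, nat_lit 2, nat_lit 0]))))))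
 (.node (nat_lit 2641) (.node (nat_lit 2638) (.node (nat_lit 2637) (.leaf ((nat_lit 123), [nat_lit 0, nat_lit 2, nat_lit 0, nat_lit 1, nat_lit 0])) (.leaf ((nat_lit 163), [nat_lit 0, nat_lit 1, nat_lit 3, nat_lit 0, nat_lit 2, nat_lit 1]))) (.node (nat_lit 2639) (.leaf ((nat_lit 347), [nat_lit 3, nat_lit 1, nat_lit 2, nat_lit 3])) (.node (nat_lit 2640) (.leaf ((nat_lit 329), [nat_lit 1, nat_lit 2, nat_lit 3, nat_lit 2, nat_lit 0, nat_lit 2, nat_lit 1])) (.leaf ((nat_lit 407), [nat_lit 2, nat_lit 3, nat_lit 1, nat_lit 2, nat_lit 1, nat_lit 0, nat_lit 1])))))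
 (.node (nat_lit 2643) (.node (nat_lit 2642) (.leaf ((nat_lit 506), [nat_lit 1, nat_lit 2, nat_lit 1, nat_lit 0, nat_lit 1])) (.leaf ((nat_lit 348), [nat_lit 2, nat_lit 3, nat_lit 2, nat_lit 0]))) (.node (nat_lit 2644) (.leaf ((nat_lit 124), [nat_lit 0, nat_lit 1, nat_lit 3, nat_lit 2, nat_lit 0])) (.node (nat_lit 2645) (.leaf ((nat_lit 623), [nat_lit 0, nat_lit 1, nat_lit 3, nat_lit 1, nat_lit 0, nat_lit 2, nat_lit 0])) (.leaf ((nat_lit 173), [nat_lit 3, nat_lit 2, nat_lit 3, nat_lit 1, nat_lit 2, nat_lit 0]))))))))))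
noncomputable def bWd_18 : Tr (ℕ × List ℕ) := (.node (nat_lit 2719) (.node (nat_lit 2682) (.node (nat_lit 2664) (.node (nat_lit 2655) (.node (nat_lit 2650) (.node (nat_lit 2648) (.node (nat_lit 2647) (.leaf ((nat_lit 127), [nat_lit 2, nat_lit 0, nat_lit 2, nat_lit 0, nat_lit 1, nat_lit 0, nat_lit 1])) (.leaf ((nat_lit 380), [nat_lit 1, nat_lit 2, nat_lit 3, nat_lit 1, nat_lit 2, nat_lit 1, nat_lit 0]))) (.node (nat_lit 2649) (.leaf ((nat_lit 126), [nat_lit 3, nat_lit 1, nat_lit 3, nat_lit 1])) (.leaf ((nat_lit 224), [nat_lit 1, nat_lit 0, nat_lit 2, nat_lit 1, nat_lit 0, nat_lit 1, nat_lit 0]))))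
 (.node (nat_lit 2652) (.node (nat_lit 2651) (.leaf ((nat_lit 201), [nat_lit 3, nat_lit 1, nat_lit 2, nat_lit 3, nat_lit 0, nat_lit 1, nat_lit 0, nat_lit 1])) (.leaf ((nat_lit 435), [nat_lit 3, nat_lit 0, nat_lit 1]))) (.node (nat_lit 2653) (.leaf ((nat_lit 341), [nat_lit 1, nat_lit 0, nat_lit 2, nat_lit 0, nat_lit 1, nat_lit 0])) (.node (nat_lit 2654) (.leaf ((nat_lit 227), [nat_lit 1, nat_lit 0, nat_lit 2])) (.leaf ((nat_lit 508), [nat_lit 1, nat_lit 0, nat_lit 2, nat_lit 0]))))))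
 (.node (nat_lit 2659) (.node (nat_lit 2657) (.node (nat_lit 2656) (.leaf ((nat_lit 355), [nat_lit 0, nat_lit 1, nat_lit 2, nat_lit 3, nat_lit 1, nat_lit 0, nat_lit 1])) (.leaf ((nat_lit 131), [nat_lit 0, nat_lit 1, nat_lit 3, nat_lit 0, nat_lit 1, nat_lit 0, nat_lit 1, nat_lit 0]))) (.node (nat_lit 2658) (.leaf ((nat_lit 126), [nat_lit 1, nat_lit 2, nat_lit 3, nat_lit 2, nat_lit 0, nat_lit 1, nat_lit 0, nat_lit 1, nat_lit 0])) (.leaf ((nat_lit 134), [nat_lit 3, nat_lit 1, nat_lit 3, nat_lit 2, nat_lit 0, nat_lit 2]))))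
 (.node (nat_lit 2661) (.node (nat_lit 2660) (.leaf ((nat_lit 531), [nat_lit 0, nat_lit 1, nat_lit 2, nat_lit 3, nat_lit 2, nat_lit 0, nat_lit 2, nat_lit 1])) (.leaf ((nat_lit 378), [nat_lit 3, nat_lit 1, nat_lit 3, nat_lit 0, nat_lit 2, nat_lit 0, nat_lit 1, nat_lit 0]))) (.node (nat_lit 2662) (.leaf ((nat_lit 127), [nat_lit 3, nat_lit 1, nat_lit 2, nat_lit 3, nat_lit 0, nat_lit 1])) (.node (nat_lit 2663) (.leaf ((nat_lit 380), [nat_lit 1, nat_lit 3, nat_lit 2, nat_lit 0, nat_lit 2, nat_lit 1, nat_lit 0, nat_lit 1])) (.leaf ((nat_lit 508), [nat_lit 2, nat_lit 0, nat_lit 1, nat_lit 0, nat_lit 1, nat_lit 0])))))))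
 (.node (nat_lit 2673) (.node (nat_lit 2668) (.node (nat_lit 2666) (.node (nat_lit 2665) (.leaf ((nat_lit 369), [nat_lit 0, nat_lit 1, nat_lit 3, nat_lit 1, nat_lit 2, nat_lit 0, nat_lit 1, nat_lit 0, nat_lit 1, nat_lit 0])) (.leaf ((nat_lit 128), [nat_lit 3, nat_lit 1, nat_lit 2, nat_lit 0, nat_lit 1, nat_lit 0, nat_lit 1, nat_lit 0]))) (.node (nat_lit 2667) (.leaf ((nat_lit 380), [nat_lit 3, nat_lit 1, nat_lit 2, nat_lit 3, nat_lit 2, nat_lit 0, nat_lit 1, nat_lit 0, nat_lit 1])) (.leaf ((nat_lit 128), [nat_lit 2, nat_lit 3, nat_lit 2, nat_lit 0, nat_lit 2]))))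
 (.node (nat_lit 2670) (.node (nat_lit 2669) (.leaf ((nat_lit 295), [nat_lit 0, nat_lit 2, nat_lit 0, nat_lit 1, nat_lit 0])) (.leaf ((nat_lit 131), [nat_lit 2, nat_lit 3, nat_lit 2, nat_lit 0]))) (.node (nat_lit 2671) (.leaf ((nat_lit 355), [nat_lit 2, nat_lit 0, nat_lit 2, nat_lit 0, nat_lit 1, nat_lit 0])) (.node (nat_lit 2672) (.leaf ((nat_lit 177), [nat_lit 3, nat_lit 1, nat_lit 3, nat_lit 2, nat_lit 1, nat_lit 0])) (.leaf ((nat_lit 161), [nat_lit 1, nat_lit 2, nat_lit 0]))))))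
 (.node (nat_lit 2677) (.node (nat_lit 2675) (.node (nat_lit 2674) (.leaf ((nat_lit 552), [nat_lit 3, nat_lit 1, nat_lit 2, nat_lit 3, nat_lit 2, nat_lit 0, nat_lit 2, nat_lit 1, nat_lit 0])) (.leaf ((nat_lit 129), [nat_lit 1, nat_lit 2, nat_lit 3, nat_lit 1, nat_lit 0, nat_lit 2, nat_lit 0, nat_lit 1]))) (.node (nat_lit 2676) (.leaf ((nat_lit 249), [nat_lit 2, nat_lit 1, nat_lit 3, nat_lit 1, nat_lit 0, nat_lit 2, nat_lit 1, nat_lit 0, nat_lit 1, nat_lit 0])) (.leaf ((nat_lit 175), [nat_lit 1, nat_lit 2, nat_lit 3, nat_lit 2, nat_lit 0, nat_lit 1, nat_lit 0]))))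
 (.node (nat_lit 2679) (.node (nat_lit 2678) (.leaf ((nat_lit 300), [nat_lit 1, nat_lit 2, nat_lit 3, nat_lit 0, nat_lit 2, nat_lit 0])) (.leaf ((nat_lit 451), [nat_lit 0, nat_lit 1, nat_lit 2, nat_lit 3, nat_lit 0, nat_lit 2, nat_lit 1, nat_lit 0, nat_lit 1, nat_lit 0]))) (.node (nat_lit 2680) (.leaf ((nat_lit 208), [nat_lit 0, nat_lit 1, nat_lit 2, nat_lit 3, nat_lit 1, nat_lit 0, nat_lit 2, nat_lit 1, nat_lit 0, nat_lit 1, nat_lit 0])) (.node (nat_lit 2681) (.leaf ((nat_lit 491), [nat_lit 3, nat_lit 1, nat_lit 2, nat_lit 3, nat_lit 1, nat_lit 0, nat_lit 2, nat_lit 0, nat_lit 1, nat_lit 0, nat_lit 1])) (.leaf ((nat_lit 624), [nat_lit 2, nat_lit 3, nat_lit 0, nat_lit 2, nat_lit 1, nat_lit 0, nat_lit 1, nat_lit 0]))))))))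
 (.node (nat_lit 2700) (.node (nat_lit 2691) (.node (nat_lit 2686) (.node (nat_lit 2684) (.node (nat_lit 2683) (.leaf ((nat_lit 580), [nat_lit 3, nat_lit 1, nat_lit 2, nat_lit 3, nat_lit 2, nat_lit 0, nat_lit 2, nat_lit 1, nat_lit 0, nat_lit 1, nat_lit 0])) (.leaf ((nat_lit 165), [nat_lit 1, nat_lit 3, nat_lit 2, nat_lit 0, nat_lit 2, nat_lit 0, nat_lit 1, nat_lit 0]))) (.node (nat_lit 2685) (.leaf ((nat_lit 460), [nat_lit 2, nat_lit 1, nat_lit 3, nat_lit 0, nat_lit 2, nat_lit 1])) (.leaf ((nat_lit 385), [nat_lit 0, nat_lit 1, nat_lit 3, nat_lit 0, nat_lit 2, nat_lit 0, nat_lit 1, nat_lit 0]))))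
 (.node (nat_lit 2688) (.node (nat_lit 2687) (.leaf ((nat_lit 515), [nat_lit 3, nat_lit 1, nat_lit 0, nat_lit 2])) (.leaf ((nat_lit 129), [nat_lit 2, nat_lit 1, nat_lit 3, nat_lit 1, nat_lit 2, nat_lit 0, nat_lit 1, nat_lit 0, nat_lit 1]))) (.node (nat_lit 2689) (.leaf ((nat_lit 385), [nat_lit 2, nat_lit 1, nat_lit 3, nat_lit 1, nat_lit 0, nat_lit 2, nat_lit 0, nat_lit 1, nat_lit 0, nat_lit 1, nat_lit 0])) (.node (nat_lit 2690) (.leaf ((nat_lit 130), [nat_lit 1, nat_lit 3, nat_lit 1, nat_lit 2, nat_lit 0])) (.leaf ((nat_lit 478), [nat_lit 3, nat_lit 1, nat_lit 2, nat_lit 3, nat_lit 0, nat_lit 2, nat_lit 0, nat_lit 1, nat_lit 0, nat_lit 1, nat_lit 0]))))))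
 (.node (nat_lit 2695) (.node (nat_lit 2693) (.node (nat_lit 2692) (.leaf ((nat_lit 459), [nat_lit 2, nat_lit 1, nat_lit 3, nat_lit 0, nat_lit 2, nat_lit 1, nat_lit 0])) (.leaf ((nat_lit 251), [nat_lit 0, nat_lit 1, nat_lit 3, nat_lit 2, nat_lit 0, nat_lit 2, nat_lit 0, nat_lit 1, nat_lit 0, nat_lit 1, nat_lit 0]))) (.node (nat_lit 2694) (.leaf ((nat_lit 607), [nat_lit 0, nat_lit 1, nat_lit 2, nat_lit 3, nat_lit 2, nat_lit 0, nat_lit 1])) (.leaf ((nat_lit 276), [nat_lit 0, nat_lit 1, nat_lit 2, nat_lit 3, nat_lit 1, nat_lit 0, nat_lit 1]))))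
 (.node (nat_lit 2697) (.node (nat_lit 2696) (.leaf ((nat_lit 130), [nat_lit 3, nat_lit 0, nat_lit 1])) (.leaf ((nat_lit 384), [nat_lit 0, nat_lit 1, nat_lit 3, nat_lit 0, nat_lit 2, nat_lit 0]))) (.node (nat_lit 2698) (.leaf ((nat_lit 609), [nat_lit 3, nat_lit 2, nat_lit 3, nat_lit 0, nat_lit 2, nat_lit 1, nat_lit 0, nat_lit 1, nat_lit 0])) (.node (nat_lit 2699) (.leaf ((nat_lit 329), [nat_lit 3, nat_lit 2, nat_lit 0, nat_lit 2, nat_lit 0, nat_lit 1, nat_lit 0, nat_lit 1])) (.leaf ((nat_lit 383), [nat_lit 3, nat_lit 1, nat_lit 3, nat_lit 1, nat_lit 2, nat_lit 0])))))))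
 (.node (nat_lit 2709) (.node (nat_lit 2704) (.node (nat_lit 2702) (.node (nat_lit 2701) (.leaf ((nat_lit 405), [nat_lit 2, nat_lit 1, nat_lit 3, nat_lit 1, nat_lit 2, nat_lit 1, nat_lit 0, nat_lit 1])) (.leaf ((nat_lit 334), [nat_lit 2, nat_lit 3, nat_lit 1, nat_lit 2, nat_lit 1, nat_lit 0, nat_lit 1, nat_lit 0]))) (.node (nat_lit 2703) (.leaf ((nat_lit 462), [nat_lit 1, nat_lit 2, nat_lit 3, nat_lit 1, nat_lit 0, nat_lit 1, nat_lit 0])) (.leaf ((nat_lit 172), [nat_lit 2, nat_lit 1, nat_lit 3, nat_lit 2, nat_lit 1, nat_lit 0, nat_lit 1, nat_lit 0]))))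
 (.node (nat_lit 2706) (.node (nat_lit 2705) (.leaf ((nat_lit 130), [nat_lit 3, nat_lit 2, nat_lit 3, nat_lit 1, nat_lit 2, nat_lit 1, nat_lit 0])) (.leaf ((nat_lit 350), [nat_lit 0, nat_lit 1, nat_lit 3, nat_lit 2, nat_lit 0, nat_lit 2]))) (.node (nat_lit 2707) (.leaf ((nat_lit 515), [nat_lit 0, nat_lit 1, nat_lit 3, nat_lit 2, nat_lit 0, nat_lit 2, nat_lit 0, nat_lit 1, nat_lit 0, nat_lit 1, nat_lit 0])) (.node (nat_lit 2708) (.leaf ((nat_lit 625), [nat_lit 0, nat_lit 1, nat_lit 3, nat_lit 0, nat_lit 2, nat_lit 0, nat_lit 1])) (.leaf ((nat_lit 626), [nat_lit 1, nat_lit 3, nat_lit 1, nat_lit 0, nat_lit 2, nat_lit 0, nat_lit 1]))))))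
 (.node (nat_lit 2714) (.node (nat_lit 2711) (.node (nat_lit 2710) (.leaf ((nat_lit 627), [nat_lit 1, nat_lit 2, nat_lit 0, nat_lit 1, nat_lit 0, nat_lit 1])) (.leaf ((nat_lit 610), [nat_lit 2, nat_lit 1, nat_lit 3, nat_lit 1, nat_lit 0, nat_lit 2, nat_lit 1, nat_lit 0, nat_lit 1, nat_lit 0]))) (.node (nat_lit 2712) (.leaf ((nat_lit 628), [nat_lit 1, nat_lit 3, nat_lit 0, nat_lit 2, nat_lit 1, nat_lit 0, nat_lit 1])) (.node (nat_lit 2713) (.leaf ((nat_lit 629), [nat_lit 3, nat_lit 1, nat_lit 3, nat_lit 0, nat_lit 1, nat_lit 0, nat_lit 1])) (.leaf ((nat_lit 556), [nat_lit 2, nat_lit 3, nat_lit 0, nat_lit 2, nat_lit 1, nat_lit 0, nat_lit 1, nat_lit 0])))))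
 (.node (nat_lit 2716) (.node (nat_lit 2715) (.leaf ((nat_lit 130), [nat_lit 1, nat_lit 2, nat_lit 3, nat_lit 2, nat_lit 0])) (.leaf ((nat_lit 135), [nat_lit 1, nat_lit 3, nat_lit 2, nat_lit 0, nat_lit 1, nat_lit 0, nat_lit 1]))) (.node (nat_lit 2717) (.leaf ((nat_lit 202), [nat_lit 1, nat_lit 3, nat_lit 0])) (.node (nat_lit 2718) (.leaf ((nat_lit 216), [nat_lit 3, nat_lit 1, nat_lit 3, nat_lit 1, nat_lit 2, nat_lit 0, nat_lit 1, nat_lit 0])) (.leaf ((nat_lit 388), [nat_lit 2, nat_lit 0, nat_lit 2, nat_lit 1])))))))))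
 (.node (nat_lit 2756) (.node (nat_lit 2737) (.node (nat_lit 2728) (.node (nat_lit 2723) (.node (nat_lit 2721) (.node (nat_lit 2720) (.leaf ((nat_lit 217), [nat_lit 0, nat_lit 1, nat_lit 3, nat_lit 1, nat_lit 0, nat_lit 2, nat_lit 1, nat_lit 0, nat_lit 1, nat_lit 0])) (.leaf ((nat_lit 132), [nat_lit 3, nat_lit 1, nat_lit 2, nat_lit 3, nat_lit 1, nat_lit 2, nat_lit 1, nat_lit 0, nat_lit 1, nat_lit 0]))) (.node (nat_lit 2722) (.leaf ((nat_lit 414), [nat_lit 3, nat_lit 2, nat_lit 3, nat_lit 2, nat_lit 0, nat_lit 2, nat_lit 1, nat_lit 0, nat_lit 1])) (.leaf ((nat_lit 236), [nat_lit 0, nat_lit 1, nat_lit 3, nat_lit 1, nat_lit 0, nat_lit 2, nat_lit 1, nat_lit 0, nat_lit 1]))))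
 (.node (nat_lit 2725) (.node (nat_lit 2724) (.leaf ((nat_lit 390), [nat_lit 3, nat_lit 1, nat_lit 2, nat_lit 3, nat_lit 1, nat_lit 2, nat_lit 0])) (.leaf ((nat_lit 135), [nat_lit 1, nat_lit 2, nat_lit 3, nat_lit 2, nat_lit 1]))) (.node (nat_lit 2726) (.leaf ((nat_lit 149), [nat_lit 0, nat_lit 1, nat_lit 3, nat_lit 1, nat_lit 0, nat_lit 2, nat_lit 0, nat_lit 1])) (.node (nat_lit 2727) (.leaf ((nat_lit 316), [nat_lit 0, nat_lit 1, nat_lit 2, nat_lit 3, nat_lit 2, nat_lit 0, nat_lit 2, nat_lit 0, nat_lit 1])) (.leaf ((nat_lit 424), [nat_lit 0, nat_lit 1, nat_lit 3, nat_lit 2, nat_lit 1, nat_lit 0, nat_lit 1, nat_lit 0]))))))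
 (.node (nat_lit 2732) (.node (nat_lit 2730) (.node (nat_lit 2729) (.leaf ((nat_lit 466), [nat_lit 3, nat_lit 1, nat_lit 2, nat_lit 3, nat_lit 0, nat_lit 1, nat_lit 0])) (.leaf ((nat_lit 151), [nat_lit 3, nat_lit 0]))) (.node (nat_lit 2731) (.leaf ((nat_lit 135), [nat_lit 1, nat_lit 3, nat_lit 0, nat_lit 2])) (.leaf ((nat_lit 389), [nat_lit 0, nat_lit 1, nat_lit 2, nat_lit 3, nat_lit 0, nat_lit 1, nat_lit 0, nat_lit 1, nat_lit 0]))))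
 (.node (nat_lit 2734) (.node (nat_lit 2733) (.leaf ((nat_lit 426), [nat_lit 1, nat_lit 2, nat_lit 3, nat_lit 1, nat_lit 0])) (.leaf ((nat_lit 397), [nat_lit 3, nat_lit 1, nat_lit 2, nat_lit 3, nat_lit 1, nat_lit 2, nat_lit 0, nat_lit 1, nat_lit 0]))) (.node (nat_lit 2735) (.leaf ((nat_lit 585), [nat_lit 3, nat_lit 1, nat_lit 2, nat_lit 3, nat_lit 1, nat_lit 2, nat_lit 1, nat_lit 0])) (.node (nat_lit 2736) (.leaf ((nat_lit 390), [nat_lit 0, nat_lit 1, nat_lit 0, nat_lit 1, nat_lit 0])) (.leaf ((nat_lit 627), [nat_lit 0, nat_lit 1, nat_lit 3, nat_lit 1, nat_lit 0, nat_lit 2, nat_lit 1, nat_lit 0])))))))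
 (.node (nat_lit 2746) (.node (nat_lit 2741) (.node (nat_lit 2739) (.node (nat_lit 2738) (.leaf ((nat_lit 136), [nat_lit 3, nat_lit 0, nat_lit 2, nat_lit 0, nat_lit 1, nat_lit 0, nat_lit 1])) (.leaf ((nat_lit 316), [nat_lit 3, nat_lit 2, nat_lit 3, nat_lit 0, nat_lit 1]))) (.node (nat_lit 2740) (.leaf ((nat_lit 397), [nat_lit 2, nat_lit 1, nat_lit 3, nat_lit 1, nat_lit 2, nat_lit 0, nat_lit 1, nat_lit 0])) (.leaf ((nat_lit 426), [nat_lit 1, nat_lit 3, nat_lit 1, nat_lit 2, nat_lit 0, nat_lit 1, nat_lit 0, nat_lit 1, nat_lit 0]))))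
 (.node (nat_lit 2743) (.node (nat_lit 2742) (.leaf ((nat_lit 630), [nat_lit 3, nat_lit 1, nat_lit 3, nat_lit 2, nat_lit 1, nat_lit 0, nat_lit 1])) (.leaf ((nat_lit 365), [nat_lit 2, nat_lit 1, nat_lit 3, nat_lit 0, nat_lit 2]))) (.node (nat_lit 2744) (.leaf ((nat_lit 437), [nat_lit 2, nat_lit 1, nat_lit 0])) (.node (nat_lit 2745) (.leaf ((nat_lit 503), [nat_lit 3, nat_lit 1, nat_lit 2, nat_lit 3])) (.leaf ((nat_lit 630), [nat_lit 3, nat_lit 2, nat_lit 3, nat_lit 1, nat_lit 0, nat_lit 2, nat_lit 0, nat_lit 1, nat_lit 0, nat_lit 1, nat_lit 0]))))))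
 (.node (nat_lit 2751) (.node (nat_lit 2748) (.node (nat_lit 2747) (.leaf ((nat_lit 207), [nat_lit 0, nat_lit 1, nat_lit 2, nat_lit 3, nat_lit 0, nat_lit 2, nat_lit 1])) (.leaf ((nat_lit 449), [nat_lit 3, nat_lit 1, nat_lit 0, nat_lit 2, nat_lit 1]))) (.node (nat_lit 2749) (.leaf ((nat_lit 136), [nat_lit 1, nat_lit 2, nat_lit 3])) (.node (nat_lit 2750) (.leaf ((nat_lit 199), [nat_lit 0, nat_lit 1, nat_lit 3, nat_lit 2, nat_lit 1, nat_lit 0, nat_lit 1])) (.leaf ((nat_lit 611), [nat_lit 2, nat_lit 0, nat_lit 2, nat_lit 0, nat_lit 1])))))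
 (.node (nat_lit 2753) (.node (nat_lit 2752) (.leaf ((nat_lit 631), [nat_lit 3, nat_lit 1, nat_lit 3, nat_lit 1, nat_lit 0])) (.leaf ((nat_lit 536), [nat_lit 2, nat_lit 1, nat_lit 3, nat_lit 1, nat_lit 0, nat_lit 1, nat_lit 0]))) (.node (nat_lit 2754) (.leaf ((nat_lit 305), [nat_lit 1, nat_lit 2, nat_lit 3, nat_lit 2, nat_lit 0, nat_lit 2, nat_lit 1])) (.node (nat_lit 2755) (.leaf ((nat_lit 632), [nat_lit 0, nat_lit 1, nat_lit 2, nat_lit 3, nat_lit 0, nat_lit 1, nat_lit 0, nat_lit 1, nat_lit 0])) (.leaf ((nat_lit 454), [nat_lit 0, nat_lit 1, nat_lit 3, nat_lit 2, nat_lit 0, nat_lit 2, nat_lit 1]))))))))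
 (.node (nat_lit 2774) (.node (nat_lit 2765) (.node (nat_lit 2760) (.node (nat_lit 2758) (.node (nat_lit 2757) (.leaf ((nat_lit 550), [nat_lit 3, nat_lit 1, nat_lit 2, nat_lit 3, nat_lit 1, nat_lit 0, nat_lit 2, nat_lit 0, nat_lit 1, nat_lit 0])) (.leaf ((nat_lit 136), [nat_lit 1, nat_lit 2, nat_lit 3, nat_lit 2, nat_lit 0]))) (.node (nat_lit 2759) (.leaf ((nat_lit 322), [nat_lit 0, nat_lit 1, nat_lit 3, nat_lit 2, nat_lit 0, nat_lit 2, nat_lit 1, nat_lit 0, nat_lit 1])) (.leaf ((nat_lit 448), [nat_lit 0, nat_lit 1, nat_lit 3, nat_lit 1, nat_lit 2, nat_lit 1, nat_lit 0, nat_lit 1]))))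
 (.node (nat_lit 2762) (.node (nat_lit 2761) (.leaf ((nat_lit 424), [nat_lit 2, nat_lit 3, nat_lit 0, nat_lit 2, nat_lit 0, nat_lit 1, nat_lit 0, nat_lit 1])) (.leaf ((nat_lit 138), [nat_lit 3, nat_lit 1, nat_lit 0, nat_lit 2, nat_lit 0, nat_lit 1, nat_lit 0]))) (.node (nat_lit 2763) (.leaf ((nat_lit 197), [nat_lit 1, nat_lit 3, nat_lit 1, nat_lit 2, nat_lit 1])) (.node (nat_lit 2764) (.leaf ((nat_lit 364), [nat_lit 1, nat_lit 2, nat_lit 0, nat_lit 1, nat_lit 0, nat_lit 1])) (.leaf ((nat_lit 538), [nat_lit 3, nat_lit 1, nat_lit 2, nat_lit 3, nat_lit 1, nat_lit 0, nat_lit 2, nat_lit 0, nat_lit 1, nat_lit 0, nat_lit 1, nat_lit 0]))))))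
 (.node (nat_lit 2769) (.node (nat_lit 2767) (.node (nat_lit 2766) (.leaf ((nat_lit 325), [nat_lit 3, nat_lit 1, nat_lit 3, nat_lit 1, nat_lit 2])) (.leaf ((nat_lit 321), [nat_lit 2, nat_lit 1, nat_lit 3, nat_lit 1, nat_lit 2, nat_lit 0, nat_lit 1]))) (.node (nat_lit 2768) (.leaf ((nat_lit 314), [nat_lit 2, nat_lit 1, nat_lit 3, nat_lit 1, nat_lit 0, nat_lit 2, nat_lit 0, nat_lit 1, nat_lit 0])) (.leaf ((nat_lit 313), [nat_lit 0, nat_lit 2, nat_lit 1, nat_lit 0, nat_lit 1]))))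
 (.node (nat_lit 2771) (.node (nat_lit 2770) (.leaf ((nat_lit 408), [nat_lit 0, nat_lit 1, nat_lit 2, nat_lit 3, nat_lit 0, nat_lit 2, nat_lit 0, nat_lit 1, nat_lit 0])) (.leaf ((nat_lit 138), [nat_lit 1, nat_lit 3, nat_lit 2, nat_lit 0, nat_lit 2, nat_lit 0, nat_lit 1]))) (.node (nat_lit 2772) (.leaf ((nat_lit 521), [nat_lit 3, nat_lit 2, nat_lit 3, nat_lit 1, nat_lit 2, nat_lit 0, nat_lit 1, nat_lit 0, nat_lit 1])) (.node (nat_lit 2773) (.leaf ((nat_lit 360), [nat_lit 2, nat_lit 0, nat_lit 2, nat_lit 0, nat_lit 1])) (.leaf ((nat_lit 617), [nat_lit 2, nat_lit 0, nat_lit 1, nat_lit 0])))))))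
 (.node (nat_lit 2783) (.node (nat_lit 2778) (.node (nat_lit 2776) (.node (nat_lit 2775) (.leaf ((nat_lit 285), [nat_lit 3, nat_lit 2, nat_lit 3, nat_lit 1, nat_lit 2, nat_lit 0, nat_lit 1])) (.leaf ((nat_lit 265), [nat_lit 1, nat_lit 2, nat_lit 3, nat_lit 2, nat_lit 0, nat_lit 1, nat_lit 0, nat_lit 1]))) (.node (nat_lit 2777) (.leaf ((nat_lit 593), [nat_lit 1, nat_lit 3, nat_lit 0, nat_lit 1, nat_lit 0, nat_lit 1])) (.leaf ((nat_lit 633), [nat_lit 2, nat_lit 1, nat_lit 3, nat_lit 0, nat_lit 2, nat_lit 0, nat_lit 1, nat_lit 0, nat_lit 1]))))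
 (.node (nat_lit 2780) (.node (nat_lit 2779) (.leaf ((nat_lit 138), [nat_lit 3, nat_lit 1, nat_lit 2, nat_lit 3, nat_lit 2, nat_lit 0, nat_lit 2, nat_lit 0, nat_lit 1, nat_lit 0, nat_lit 1])) (.leaf ((nat_lit 151), [nat_lit 1, nat_lit 2, nat_lit 0, nat_lit 1, nat_lit 0]))) (.node (nat_lit 2781) (.leaf ((nat_lit 139), [nat_lit 1, nat_lit 2, nat_lit 1, nat_lit 0, nat_lit 1, nat_lit 0])) (.node (nat_lit 2782) (.leaf ((nat_lit 391), [nat_lit 0, nat_lit 1, nat_lit 2, nat_lit 3, nat_lit 1, nat_lit 2, nat_lit 1, nat_lit 0, nat_lit 1])) (.leaf ((nat_lit 390), [nat_lit 1, nat_lit 2, nat_lit 3, nat_lit 1, nat_lit 0, nat_lit 2, nat_lit 1, nat_lit 0, nat_lit 1]))))))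
 (.node (nat_lit 2788) (.node (nat_lit 2785) (.node (nat_lit 2784) (.leaf ((nat_lit 500), [nat_lit 2, nat_lit 1, nat_lit 3, nat_lit 0])) (.leaf ((nat_lit 202), [nat_lit 3, nat_lit 2, nat_lit 3, nat_lit 2, nat_lit 0, nat_lit 2, nat_lit 0, nat_lit 1, nat_lit 0, nat_lit 1]))) (.node (nat_lit 2786) (.leaf ((nat_lit 160), [nat_lit 3, nat_lit 1, nat_lit 2, nat_lit 0, nat_lit 1, nat_lit 0])) (.node (nat_lit 2787) (.leaf ((nat_lit 426), [nat_lit 1, nat_lit 2, nat_lit 0, nat_lit 1, nat_lit 0, nat_lit 1, nat_lit 0])) (.leaf ((nat_lit 150), [nat_lit 2, nat_lit 1, nat_lit 3, nat_lit 1, nat_lit 0, nat_lit 2, nat_lit 0])))))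
 (.node (nat_lit 2790) (.node (nat_lit 2789) (.leaf ((nat_lit 140), [nat_lit 3, nat_lit 2, nat_lit 3, nat_lit 2, nat_lit 0, nat_lit 2, nat_lit 1, nat_lit 0, nat_lit 1])) (.leaf ((nat_lit 139), [nat_lit 1, nat_lit 3, nat_lit 1, nat_lit 0, nat_lit 2, nat_lit 0]))) (.node (nat_lit 2791) (.leaf ((nat_lit 221), [nat_lit 0, nat_lit 1, nat_lit 3, nat_lit 1, nat_lit 0, nat_lit 2])) (.node (nat_lit 2792) (.leaf ((nat_lit 366), [nat_lit 1, nat_lit 3, nat_lit 0, nat_lit 2, nat_lit 0, nat_lit 1, nat_lit 0, nat_lit 1, nat_lit 0])) (.leaf ((nat_lit 197), [nat_lit 0, nat_lit 1, nat_lit 2, nat_lit 3, nat_lit 0, nat_lit 1, nat_lit 0]))))))))))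
noncomputable def bWd_19 : Tr (ℕ × List ℕ) := (.node (nat_lit 2866) (.node (nat_lit 2829) (.node (nat_lit 2811) (.node (nat_lit 2802) (.node (nat_lit 2797) (.node (nat_lit 2795) (.node (nat_lit 2794) (.leaf ((nat_lit 248), [nat_lit 2, nat_lit 1])) (.leaf ((nat_lit 233), [nat_lit 0, nat_lit 1, nat_lit 3, nat_lit 2, nat_lit 0, nat_lit 2, nat_lit 0, nat_lit 1, nat_lit 0]))) (.node (nat_lit 2796) (.leaf ((nat_lit 541), [nat_lit 3, nat_lit 1, nat_lit 2, nat_lit 0, nat_lit 1, nat_lit 0])) (.leaf ((nat_lit 168), [nat_lit 2, nat_lit 1, nat_lit 3, nat_lit 1, nat_lit 0, nat_lit 1]))))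
 (.node (nat_lit 2799) (.node (nat_lit 2798) (.leaf ((nat_lit 139), [nat_lit 3, nat_lit 1, nat_lit 2, nat_lit 3, nat_lit 2, nat_lit 0])) (.leaf ((nat_lit 301), [nat_lit 0, nat_lit 1, nat_lit 2, nat_lit 3, nat_lit 0, nat_lit 2]))) (.node (nat_lit 2800) (.leaf ((nat_lit 598), [nat_lit 0, nat_lit 1, nat_lit 2, nat_lit 3, nat_lit 0, nat_lit 2, nat_lit 1, nat_lit 0, nat_lit 1, nat_lit 0])) (.node (nat_lit 2801) (.leaf ((nat_lit 443), [nat_lit 2])) (.leaf ((nat_lit 228), [nat_lit 3, nat_lit 1, nat_lit 2, nat_lit 3, nat_lit 2, nat_lit 0, nat_lit 2]))))))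
 (.node (nat_lit 2806) (.node (nat_lit 2804) (.node (nat_lit 2803) (.leaf ((nat_lit 141), [nat_lit 0, nat_lit 1, nat_lit 2, nat_lit 3, nat_lit 2, nat_lit 0, nat_lit 1])) (.leaf ((nat_lit 160), [nat_lit 3, nat_lit 1, nat_lit 2, nat_lit 3, nat_lit 1, nat_lit 0, nat_lit 2, nat_lit 0, nat_lit 1, nat_lit 0, nat_lit 1, nat_lit 0]))) (.node (nat_lit 2805) (.leaf ((nat_lit 490), [nat_lit 3, nat_lit 1, nat_lit 2, nat_lit 3, nat_lit 2, nat_lit 0, nat_lit 2, nat_lit 0, nat_lit 1])) (.leaf ((nat_lit 501), [nat_lit 1, nat_lit 0, nat_lit 2, nat_lit 1, nat_lit 0, nat_lit 1, nat_lit 0]))))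
 (.node (nat_lit 2808) (.node (nat_lit 2807) (.leaf ((nat_lit 634), [nat_lit 1, nat_lit 2, nat_lit 3, nat_lit 0, nat_lit 2])) (.leaf ((nat_lit 584), [nat_lit 0, nat_lit 1, nat_lit 3, nat_lit 0, nat_lit 1]))) (.node (nat_lit 2809) (.leaf ((nat_lit 635), [nat_lit 0, nat_lit 1, nat_lit 2, nat_lit 3, nat_lit 1, nat_lit 0, nat_lit 2, nat_lit 1])) (.node (nat_lit 2810) (.leaf ((nat_lit 636), [nat_lit 0, nat_lit 1, nat_lit 0, nat_lit 1, nat_lit 0])) (.leaf ((nat_lit 618), [nat_lit 3, nat_lit 2, nat_lit 0, nat_lit 1])))))))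
 (.node (nat_lit 2820) (.node (nat_lit 2815) (.node (nat_lit 2813) (.node (nat_lit 2812) (.leaf ((nat_lit 428), [nat_lit 3, nat_lit 1, nat_lit 3, nat_lit 1, nat_lit 2, nat_lit 1, nat_lit 0, nat_lit 1])) (.leaf ((nat_lit 587), [nat_lit 0, nat_lit 1, nat_lit 3, nat_lit 0]))) (.node (nat_lit 2814) (.leaf ((nat_lit 141), [nat_lit 0, nat_lit 1, nat_lit 3, nat_lit 1, nat_lit 0, nat_lit 2])) (.leaf ((nat_lit 161), [nat_lit 1, nat_lit 2, nat_lit 3, nat_lit 1, nat_lit 0, nat_lit 2, nat_lit 1]))))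
 (.node (nat_lit 2817) (.node (nat_lit 2816) (.leaf ((nat_lit 449), [nat_lit 2, nat_lit 1, nat_lit 0])) (.leaf ((nat_lit 171), [nat_lit 3, nat_lit 1, nat_lit 0, nat_lit 2, nat_lit 1, nat_lit 0, nat_lit 1, nat_lit 0]))) (.node (nat_lit 2818) (.leaf ((nat_lit 367), [nat_lit 3, nat_lit 1, nat_lit 0, nat_lit 1, nat_lit 0])) (.node (nat_lit 2819) (.leaf ((nat_lit 457), [nat_lit 3, nat_lit 0, nat_lit 2, nat_lit 1, nat_lit 0, nat_lit 1])) (.leaf ((nat_lit 176), [nat_lit 1, nat_lit 2, nat_lit 3, nat_lit 1, nat_lit 2, nat_lit 1, nat_lit 0, nat_lit 1, nat_lit 0]))))))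
 (.node (nat_lit 2824) (.node (nat_lit 2822) (.node (nat_lit 2821) (.leaf ((nat_lit 142), [nat_lit 2, nat_lit 1, nat_lit 3, nat_lit 1, nat_lit 2, nat_lit 0, nat_lit 1, nat_lit 0, nat_lit 1])) (.leaf ((nat_lit 404), [nat_lit 2, nat_lit 1, nat_lit 3, nat_lit 2, nat_lit 0, nat_lit 2, nat_lit 1, nat_lit 0]))) (.node (nat_lit 2823) (.leaf ((nat_lit 143), [nat_lit 3])) (.leaf ((nat_lit 157), [nat_lit 2, nat_lit 3, nat_lit 1, nat_lit 0, nat_lit 2, nat_lit 0, nat_lit 1]))))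
 (.node (nat_lit 2826) (.node (nat_lit 2825) (.leaf ((nat_lit 637), [nat_lit 3, nat_lit 2, nat_lit 3, nat_lit 2])) (.leaf ((nat_lit 143), [nat_lit 0, nat_lit 1, nat_lit 2, nat_lit 3, nat_lit 0, nat_lit 2, nat_lit 0, nat_lit 1]))) (.node (nat_lit 2827) (.leaf ((nat_lit 430), [nat_lit 3, nat_lit 2, nat_lit 3, nat_lit 1, nat_lit 2, nat_lit 0, nat_lit 1, nat_lit 0, nat_lit 1])) (.node (nat_lit 2828) (.leaf ((nat_lit 428), [nat_lit 0, nat_lit 1, nat_lit 3, nat_lit 0, nat_lit 2, nat_lit 1, nat_lit 0, nat_lit 1])) (.leaf ((nat_lit 143), [nat_lit 2, nat_lit 0, nat_lit 1, nat_lit 0, nat_lit 1]))))))))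
 (.node (nat_lit 2847) (.node (nat_lit 2838) (.node (nat_lit 2833) (.node (nat_lit 2831) (.node (nat_lit 2830) (.leaf ((nat_lit 403), [nat_lit 3, nat_lit 2, nat_lit 0, nat_lit 1, nat_lit 0, nat_lit 1])) (.leaf ((nat_lit 404), [nat_lit 3, nat_lit 2, nat_lit 3, nat_lit 1, nat_lit 2, nat_lit 1, nat_lit 0, nat_lit 1, nat_lit 0]))) (.node (nat_lit 2832) (.leaf ((nat_lit 346), [nat_lit 2, nat_lit 1, nat_lit 3, nat_lit 1, nat_lit 0, nat_lit 2, nat_lit 0, nat_lit 1, nat_lit 0, nat_lit 1, nat_lit 0])) (.leaf ((nat_lit 412), [nat_lit 2, nat_lit 3, nat_lit 1, nat_lit 2, nat_lit 0, nat_lit 1]))))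
 (.node (nat_lit 2835) (.node (nat_lit 2834) (.leaf ((nat_lit 429), [nat_lit 1, nat_lit 3, nat_lit 2, nat_lit 0, nat_lit 2, nat_lit 1, nat_lit 0, nat_lit 1, nat_lit 0])) (.leaf ((nat_lit 561), [nat_lit 1, nat_lit 3, nat_lit 1, nat_lit 2, nat_lit 1]))) (.node (nat_lit 2836) (.leaf ((nat_lit 157), [nat_lit 3, nat_lit 2, nat_lit 3, nat_lit 0, nat_lit 2, nat_lit 0, nat_lit 1, nat_lit 0])) (.node (nat_lit 2837) (.leaf ((nat_lit 440), [nat_lit 0, nat_lit 1, nat_lit 2, nat_lit 3, nat_lit 1, nat_lit 0, nat_lit 2, nat_lit 1])) (.leaf ((nat_lit 143), [nat_lit 1, nat_lit 2, nat_lit 3]))))))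
 (.node (nat_lit 2842) (.node (nat_lit 2840) (.node (nat_lit 2839) (.leaf ((nat_lit 526), [nat_lit 2, nat_lit 3, nat_lit 2, nat_lit 0, nat_lit 2, nat_lit 1, nat_lit 0, nat_lit 1])) (.leaf ((nat_lit 625), [nat_lit 3, nat_lit 2, nat_lit 3, nat_lit 0, nat_lit 2, nat_lit 0]))) (.node (nat_lit 2841) (.leaf ((nat_lit 385), [nat_lit 2, nat_lit 1, nat_lit 3, nat_lit 2, nat_lit 0])) (.leaf ((nat_lit 477), [nat_lit 2, nat_lit 3, nat_lit 1, nat_lit 0, nat_lit 2, nat_lit 1, nat_lit 0, nat_lit 1, nat_lit 0]))))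
 (.node (nat_lit 2844) (.node (nat_lit 2843) (.leaf ((nat_lit 529), [nat_lit 2, nat_lit 3, nat_lit 1, nat_lit 2, nat_lit 0, nat_lit 1, nat_lit 0])) (.leaf ((nat_lit 638), [nat_lit 2, nat_lit 1]))) (.node (nat_lit 2845) (.leaf ((nat_lit 526), [nat_lit 1, nat_lit 3, nat_lit 2, nat_lit 0, nat_lit 2])) (.node (nat_lit 2846) (.leaf ((nat_lit 143), [nat_lit 2, nat_lit 1, nat_lit 3, nat_lit 1, nat_lit 0, nat_lit 2, nat_lit 0, nat_lit 1])) (.leaf ((nat_lit 420), [nat_lit 3, nat_lit 1, nat_lit 2, nat_lit 0, nat_lit 1])))))))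
 (.node (nat_lit 2856) (.node (nat_lit 2851) (.node (nat_lit 2849) (.node (nat_lit 2848) (.leaf ((nat_lit 447), [nat_lit 1, nat_lit 3, nat_lit 1, nat_lit 2, nat_lit 0, nat_lit 1, nat_lit 0])) (.leaf ((nat_lit 406), [nat_lit 3, nat_lit 1, nat_lit 0, nat_lit 2, nat_lit 0, nat_lit 1]))) (.node (nat_lit 2850) (.leaf ((nat_lit 377), [nat_lit 2, nat_lit 1, nat_lit 3, nat_lit 1, nat_lit 2, nat_lit 0])) (.leaf ((nat_lit 329), [nat_lit 1, nat_lit 3, nat_lit 1, nat_lit 0, nat_lit 2, nat_lit 1, nat_lit 0, nat_lit 1, nat_lit 0]))))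
 (.node (nat_lit 2853) (.node (nat_lit 2852) (.leaf ((nat_lit 370), [nat_lit 2, nat_lit 1, nat_lit 3, nat_lit 1, nat_lit 0, nat_lit 2, nat_lit 1])) (.leaf ((nat_lit 606), [nat_lit 1, nat_lit 2, nat_lit 0, nat_lit 1]))) (.node (nat_lit 2854) (.leaf ((nat_lit 479), [nat_lit 3, nat_lit 2, nat_lit 3, nat_lit 2, nat_lit 0, nat_lit 2])) (.node (nat_lit 2855) (.leaf ((nat_lit 143), [nat_lit 2, nat_lit 1, nat_lit 3, nat_lit 2, nat_lit 1, nat_lit 0])) (.leaf ((nat_lit 176), [nat_lit 0, nat_lit 1, nat_lit 2, nat_lit 3, nat_lit 1, nat_lit 2, nat_lit 0, nat_lit 1, nat_lit 0, nat_lit 1, nat_lit 0]))))))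
 (.node (nat_lit 2861) (.node (nat_lit 2858) (.node (nat_lit 2857) (.leaf ((nat_lit 433), [nat_lit 1, nat_lit 2, nat_lit 0, nat_lit 1, nat_lit 0])) (.leaf ((nat_lit 414), [nat_lit 3, nat_lit 1, nat_lit 3, nat_lit 2, nat_lit 1, nat_lit 0, nat_lit 1]))) (.node (nat_lit 2859) (.leaf ((nat_lit 229), [nat_lit 1, nat_lit 2, nat_lit 3, nat_lit 2, nat_lit 0, nat_lit 1])) (.node (nat_lit 2860) (.leaf ((nat_lit 503), [nat_lit 3, nat_lit 2, nat_lit 0, nat_lit 1])) (.leaf ((nat_lit 395), [nat_lit 3, nat_lit 1, nat_lit 3, nat_lit 2, nat_lit 0])))))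
 (.node (nat_lit 2863) (.node (nat_lit 2862) (.leaf ((nat_lit 144), [nat_lit 2, nat_lit 3, nat_lit 1, nat_lit 2, nat_lit 0, nat_lit 1, nat_lit 0, nat_lit 1, nat_lit 0])) (.leaf ((nat_lit 408), [nat_lit 0, nat_lit 1, nat_lit 3, nat_lit 2, nat_lit 0, nat_lit 2, nat_lit 1, nat_lit 0, nat_lit 1, nat_lit 0]))) (.node (nat_lit 2864) (.leaf ((nat_lit 549), [nat_lit 0, nat_lit 2, nat_lit 0, nat_lit 1])) (.node (nat_lit 2865) (.leaf ((nat_lit 639), [nat_lit 0, nat_lit 1, nat_lit 3, nat_lit 0, nat_lit 2])) (.leaf ((nat_lit 429), [nat_lit 3, nat_lit 2, nat_lit 0, nat_lit 2, nat_lit 0, nat_lit 1, nat_lit 0, nat_lit 1, nat_lit 0])))))))))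
 (.node (nat_lit 2903) (.node (nat_lit 2884) (.node (nat_lit 2875) (.node (nat_lit 2870) (.node (nat_lit 2868) (.node (nat_lit 2867) (.leaf ((nat_lit 477), [nat_lit 2, nat_lit 3, nat_lit 1, nat_lit 0, nat_lit 2, nat_lit 1, nat_lit 0, nat_lit 1])) (.leaf ((nat_lit 547), [nat_lit 3, nat_lit 0, nat_lit 2, nat_lit 0, nat_lit 1, nat_lit 0, nat_lit 1, nat_lit 0]))) (.node (nat_lit 2869) (.leaf ((nat_lit 409), [nat_lit 2, nat_lit 3, nat_lit 0, nat_lit 2, nat_lit 0, nat_lit 1, nat_lit 0, nat_lit 1, nat_lit 0])) (.leaf ((nat_lit 144), [nat_lit 3, nat_lit 2, nat_lit 1, nat_lit 0, nat_lit 1]))))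
 (.node (nat_lit 2872) (.node (nat_lit 2871) (.leaf ((nat_lit 255), [nat_lit 3, nat_lit 1, nat_lit 0, nat_lit 2, nat_lit 1, nat_lit 0])) (.leaf ((nat_lit 318), [nat_lit 0, nat_lit 1, nat_lit 3, nat_lit 2, nat_lit 0, nat_lit 2, nat_lit 0, nat_lit 1, nat_lit 0, nat_lit 1, nat_lit 0]))) (.node (nat_lit 2873) (.leaf ((nat_lit 444), [nat_lit 2, nat_lit 3, nat_lit 1, nat_lit 0, nat_lit 2, nat_lit 0, nat_lit 1])) (.node (nat_lit 2874) (.leaf ((nat_lit 410), [nat_lit 0, nat_lit 1, nat_lit 3, nat_lit 1, nat_lit 0, nat_lit 2, nat_lit 0, nat_lit 1, nat_lit 0, nat_lit 1, nat_lit 0])) (.leaf ((nat_lit 145), [nat_lit 2, nat_lit 3, nat_lit 0, nat_lit 1, nat_lit 0]))))))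
 (.node (nat_lit 2879) (.node (nat_lit 2877) (.node (nat_lit 2876) (.leaf ((nat_lit 499), [nat_lit 0, nat_lit 1, nat_lit 2, nat_lit 3])) (.leaf ((nat_lit 602), [nat_lit 2, nat_lit 1, nat_lit 3, nat_lit 2, nat_lit 0, nat_lit 2, nat_lit 0, nat_lit 1, nat_lit 0, nat_lit 1, nat_lit 0]))) (.node (nat_lit 2878) (.leaf ((nat_lit 296), [nat_lit 1, nat_lit 3, nat_lit 0, nat_lit 1, nat_lit 0, nat_lit 1])) (.leaf ((nat_lit 311), [nat_lit 3, nat_lit 1, nat_lit 2, nat_lit 3, nat_lit 1, nat_lit 0, nat_lit 2]))))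
 (.node (nat_lit 2881) (.node (nat_lit 2880) (.leaf ((nat_lit 303), [nat_lit 2, nat_lit 1, nat_lit 3, nat_lit 2, nat_lit 0, nat_lit 2, nat_lit 1, nat_lit 0, nat_lit 1, nat_lit 0])) (.leaf ((nat_lit 302), [nat_lit 0, nat_lit 1, nat_lit 2, nat_lit 3, nat_lit 1, nat_lit 0, nat_lit 2, nat_lit 0, nat_lit 1, nat_lit 0]))) (.node (nat_lit 2882) (.leaf ((nat_lit 320), [nat_lit 2, nat_lit 3, nat_lit 1, nat_lit 0, nat_lit 2, nat_lit 0, nat_lit 1, nat_lit 0, nat_lit 1, nat_lit 0])) (.node (nat_lit 2883) (.leaf ((nat_lit 145), [nat_lit 1, nat_lit 2, nat_lit 3, nat_lit 1, nat_lit 0, nat_lit 2, nat_lit 1])) (.leaf ((nat_lit 596), [nat_lit 1, nat_lit 0, nat_lit 1, nat_lit 0])))))))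
 (.node (nat_lit 2893) (.node (nat_lit 2888) (.node (nat_lit 2886) (.node (nat_lit 2885) (.leaf ((nat_lit 412), [nat_lit 1, nat_lit 2, nat_lit 3, nat_lit 0, nat_lit 2, nat_lit 0])) (.leaf ((nat_lit 412), [nat_lit 2, nat_lit 1, nat_lit 3, nat_lit 1, nat_lit 2, nat_lit 0, nat_lit 1, nat_lit 0, nat_lit 1, nat_lit 0]))) (.node (nat_lit 2887) (.leaf ((nat_lit 498), [nat_lit 1, nat_lit 2, nat_lit 3, nat_lit 1, nat_lit 0, nat_lit 2, nat_lit 0, nat_lit 1, nat_lit 0])) (.leaf ((nat_lit 309), [nat_lit 2, nat_lit 3, nat_lit 2, nat_lit 0, nat_lit 2, nat_lit 0]))))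
 (.node (nat_lit 2890) (.node (nat_lit 2889) (.leaf ((nat_lit 404), [nat_lit 1, nat_lit 2, nat_lit 3, nat_lit 0, nat_lit 2])) (.leaf ((nat_lit 557), [nat_lit 3, nat_lit 2, nat_lit 3, nat_lit 2, nat_lit 0, nat_lit 2, nat_lit 1]))) (.node (nat_lit 2891) (.leaf ((nat_lit 145), [nat_lit 1, nat_lit 2, nat_lit 3, nat_lit 2])) (.node (nat_lit 2892) (.leaf ((nat_lit 146), [nat_lit 1, nat_lit 2])) (.leaf ((nat_lit 367), [nat_lit 3, nat_lit 1, nat_lit 2, nat_lit 3, nat_lit 1, nat_lit 0, nat_lit 2, nat_lit 1, nat_lit 0, nat_lit 1, nat_lit 0]))))))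
 (.node (nat_lit 2898) (.node (nat_lit 2895) (.node (nat_lit 2894) (.leaf ((nat_lit 521), [nat_lit 3, nat_lit 1, nat_lit 2, nat_lit 3, nat_lit 2, nat_lit 0, nat_lit 2, nat_lit 0, nat_lit 1])) (.leaf ((nat_lit 630), [nat_lit 0, nat_lit 1, nat_lit 2, nat_lit 3, nat_lit 1, nat_lit 0, nat_lit 2, nat_lit 0, nat_lit 1, nat_lit 0]))) (.node (nat_lit 2896) (.leaf ((nat_lit 343), [nat_lit 3, nat_lit 1, nat_lit 3, nat_lit 2, nat_lit 0, nat_lit 1, nat_lit 0, nat_lit 1])) (.node (nat_lit 2897) (.leaf ((nat_lit 468), [nat_lit 3, nat_lit 2, nat_lit 3, nat_lit 1, nat_lit 2, nat_lit 1, nat_lit 0, nat_lit 1, nat_lit 0])) (.leaf ((nat_lit 413), [nat_lit 2, nat_lit 1, nat_lit 3, nat_lit 0, nat_lit 2, nat_lit 0, nat_lit 1, nat_lit 0, nat_lit 1])))))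
 (.node (nat_lit 2900) (.node (nat_lit 2899) (.leaf ((nat_lit 408), [nat_lit 3, nat_lit 1, nat_lit 3, nat_lit 2, nat_lit 1, nat_lit 0, nat_lit 1])) (.leaf ((nat_lit 433), [nat_lit 1, nat_lit 3, nat_lit 1, nat_lit 2, nat_lit 1]))) (.node (nat_lit 2901) (.leaf ((nat_lit 437), [nat_lit 0])) (.node (nat_lit 2902) (.leaf ((nat_lit 146), [nat_lit 3, nat_lit 2, nat_lit 3, nat_lit 1, nat_lit 2, nat_lit 0, nat_lit 1, nat_lit 0, nat_lit 1])) (.leaf ((nat_lit 414), [nat_lit 2, nat_lit 1, nat_lit 3, nat_lit 1, nat_lit 2]))))))))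
 (.node (nat_lit 2921) (.node (nat_lit 2912) (.node (nat_lit 2907) (.node (nat_lit 2905) (.node (nat_lit 2904) (.leaf ((nat_lit 388), [nat_lit 1, nat_lit 2, nat_lit 3, nat_lit 1, nat_lit 0, nat_lit 1])) (.leaf ((nat_lit 419), [nat_lit 3, nat_lit 1, nat_lit 3, nat_lit 1, nat_lit 0, nat_lit 2]))) (.node (nat_lit 2906) (.leaf ((nat_lit 490), [nat_lit 1, nat_lit 3, nat_lit 2, nat_lit 0, nat_lit 2, nat_lit 0, nat_lit 1, nat_lit 0, nat_lit 1])) (.leaf ((nat_lit 314), [nat_lit 1, nat_lit 0, nat_lit 2, nat_lit 1, nat_lit 0, nat_lit 1, nat_lit 0]))))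
 (.node (nat_lit 2909) (.node (nat_lit 2908) (.leaf ((nat_lit 210), [nat_lit 1, nat_lit 2, nat_lit 3, nat_lit 1, nat_lit 2, nat_lit 0, nat_lit 1, nat_lit 0])) (.leaf ((nat_lit 210), [nat_lit 1, nat_lit 2, nat_lit 3, nat_lit 2, nat_lit 0, nat_lit 2, nat_lit 0]))) (.node (nat_lit 2910) (.leaf ((nat_lit 291), [nat_lit 1, nat_lit 3, nat_lit 1, nat_lit 0, nat_lit 2, nat_lit 0, nat_lit 1, nat_lit 0, nat_lit 1])) (.node (nat_lit 2911) (.leaf ((nat_lit 146), [nat_lit 3, nat_lit 1, nat_lit 2, nat_lit 3, nat_lit 1, nat_lit 2, nat_lit 0, nat_lit 1, nat_lit 0, nat_lit 1, nat_lit 0])) (.leaf ((nat_lit 640), [nat_lit 2, nat_lit 1, nat_lit 3, nat_lit 2, nat_lit 0, nat_lit 1, nat_lit 0, nat_lit 1, nat_lit 0]))))))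
 (.node (nat_lit 2916) (.node (nat_lit 2914) (.node (nat_lit 2913) (.leaf ((nat_lit 309), [nat_lit 3, nat_lit 1, nat_lit 3, nat_lit 2, nat_lit 0, nat_lit 2, nat_lit 0, nat_lit 1, nat_lit 0, nat_lit 1, nat_lit 0])) (.leaf ((nat_lit 419), [nat_lit 2, nat_lit 0, nat_lit 2]))) (.node (nat_lit 2915) (.leaf ((nat_lit 420), [nat_lit 3, nat_lit 1, nat_lit 3, nat_lit 2, nat_lit 0, nat_lit 1])) (.leaf ((nat_lit 419), [nat_lit 1, nat_lit 3, nat_lit 1, nat_lit 2, nat_lit 0, nat_lit 1]))))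
 (.node (nat_lit 2918) (.node (nat_lit 2917) (.leaf ((nat_lit 641), [nat_lit 2, nat_lit 3, nat_lit 1, nat_lit 0, nat_lit 2, nat_lit 1, nat_lit 0])) (.leaf ((nat_lit 642), [nat_lit 0, nat_lit 2, nat_lit 1, nat_lit 0]))) (.node (nat_lit 2919) (.leaf ((nat_lit 146), [nat_lit 1, nat_lit 3, nat_lit 1, nat_lit 0])) (.node (nat_lit 2920) (.leaf ((nat_lit 418), [nat_lit 0, nat_lit 1, nat_lit 2, nat_lit 3, nat_lit 0, nat_lit 2, nat_lit 0, nat_lit 1, nat_lit 0, nat_lit 1])) (.leaf ((nat_lit 147), [nat_lit 3, nat_lit 0, nat_lit 2, nat_lit 1, nat_lit 0, nat_lit 1, nat_lit 0])))))))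
 (.node (nat_lit 2930) (.node (nat_lit 2925) (.node (nat_lit 2923) (.node (nat_lit 2922) (.leaf ((nat_lit 602), [nat_lit 1, nat_lit 2, nat_lit 3, nat_lit 0, nat_lit 2, nat_lit 1, nat_lit 0, nat_lit 1, nat_lit 0])) (.leaf ((nat_lit 583), [nat_lit 0, nat_lit 1, nat_lit 2, nat_lit 3, nat_lit 2, nat_lit 1, nat_lit 0, nat_lit 1, nat_lit 0]))) (.node (nat_lit 2924) (.leaf ((nat_lit 526), [nat_lit 2, nat_lit 1, nat_lit 3, nat_lit 1, nat_lit 2, nat_lit 0, nat_lit 1, nat_lit 0, nat_lit 1, nat_lit 0])) (.leaf ((nat_lit 445), [nat_lit 1, nat_lit 2, nat_lit 3, nat_lit 2, nat_lit 0, nat_lit 1]))))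
 (.node (nat_lit 2927) (.node (nat_lit 2926) (.leaf ((nat_lit 549), [nat_lit 1, nat_lit 2, nat_lit 3, nat_lit 2, nat_lit 1, nat_lit 0, nat_lit 1, nat_lit 0])) (.leaf ((nat_lit 147), [nat_lit 1, nat_lit 2, nat_lit 3, nat_lit 1, nat_lit 0, nat_lit 2, nat_lit 0]))) (.node (nat_lit 2928) (.leaf ((nat_lit 417), [nat_lit 2, nat_lit 1, nat_lit 3, nat_lit 2, nat_lit 1, nat_lit 0, nat_lit 1])) (.node (nat_lit 2929) (.leaf ((nat_lit 588), [nat_lit 1, nat_lit 2, nat_lit 3, nat_lit 2, nat_lit 1, nat_lit 0, nat_lit 1])) (.leaf ((nat_lit 643), [nat_lit 0, nat_lit 1, nat_lit 3, nat_lit 2, nat_lit 1, nat_lit 0, nat_lit 1, nat_lit 0]))))))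
 (.node (nat_lit 2935) (.node (nat_lit 2932) (.node (nat_lit 2931) (.leaf ((nat_lit 631), [nat_lit 2, nat_lit 3, nat_lit 0, nat_lit 2, nat_lit 1, nat_lit 0])) (.leaf ((nat_lit 644), [nat_lit 1, nat_lit 2, nat_lit 3, nat_lit 0, nat_lit 1]))) (.node (nat_lit 2933) (.leaf ((nat_lit 540), [nat_lit 3, nat_lit 1, nat_lit 3])) (.node (nat_lit 2934) (.leaf ((nat_lit 416), [nat_lit 2, nat_lit 0, nat_lit 2])) (.leaf ((nat_lit 309), [nat_lit 3, nat_lit 1, nat_lit 3, nat_lit 1, nat_lit 2, nat_lit 1, nat_lit 0])))))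
 (.node (nat_lit 2937) (.node (nat_lit 2936) (.leaf ((nat_lit 147), [nat_lit 2, nat_lit 3, nat_lit 1, nat_lit 2, nat_lit 0])) (.leaf ((nat_lit 416), [nat_lit 1, nat_lit 2, nat_lit 3, nat_lit 0, nat_lit 1]))) (.node (nat_lit 2938) (.leaf ((nat_lit 645), [nat_lit 0, nat_lit 1, nat_lit 2, nat_lit 3, nat_lit 1, nat_lit 2, nat_lit 0, nat_lit 1])) (.node (nat_lit 2939) (.leaf ((nat_lit 272), [nat_lit 3, nat_lit 1, nat_lit 3, nat_lit 2, nat_lit 0, nat_lit 2, nat_lit 0, nat_lit 1, nat_lit 0, nat_lit 1])) (.leaf ((nat_lit 414), [nat_lit 3, nat_lit 2, nat_lit 0, nat_lit 1, nat_lit 0]))))))))))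
noncomputable def bWd_20 : Tr (ℕ × List ℕ) := (.node (nat_lit 3013) (.node (nat_lit 2976) (.node (nat_lit 2958) (.node (nat_lit 2949) (.node (nat_lit 2944) (.node (nat_lit 2942) (.node (nat_lit 2941) (.leaf ((nat_lit 588), [nat_lit 0, nat_lit 1, nat_lit 2, nat_lit 3, nat_lit 0, nat_lit 2, nat_lit 0, nat_lit 1, nat_lit 0, nat_lit 1, nat_lit 0])) (.leaf ((nat_lit 330), [nat_lit 2, nat_lit 0, nat_lit 1, nat_lit 0, nat_lit 1]))) (.node (nat_lit 2943) (.leaf ((nat_lit 416), [nat_lit 0, nat_lit 1, nat_lit 2, nat_lit 3, nat_lit 1, nat_lit 2, nat_lit 1])) (.leaf ((nat_lit 147), [nat_lit 0, nat_lit 1, nat_lit 2, nat_lit 3, nat_lit 1, nat_lit 0, nat_lit 2, nat_lit 1, nat_lit 0, nat_lit 1, nat_lit 0]))))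
 (.node (nat_lit 2946) (.node (nat_lit 2945) (.leaf ((nat_lit 406), [nat_lit 1, nat_lit 2, nat_lit 3, nat_lit 0])) (.leaf ((nat_lit 631), [nat_lit 1, nat_lit 3, nat_lit 0, nat_lit 2, nat_lit 0, nat_lit 1, nat_lit 0, nat_lit 1]))) (.node (nat_lit 2947) (.leaf ((nat_lit 636), [nat_lit 0, nat_lit 1, nat_lit 2, nat_lit 3, nat_lit 1, nat_lit 0, nat_lit 2, nat_lit 1, nat_lit 0, nat_lit 1, nat_lit 0])) (.node (nat_lit 2948) (.leaf ((nat_lit 454), [nat_lit 2, nat_lit 1, nat_lit 0, nat_lit 1, nat_lit 0])) (.leaf ((nat_lit 622), [nat_lit 1, nat_lit 3, nat_lit 0, nat_lit 2, nat_lit 1, nat_lit 0]))))))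
 (.node (nat_lit 2953) (.node (nat_lit 2951) (.node (nat_lit 2950) (.leaf ((nat_lit 645), [nat_lit 1, nat_lit 2, nat_lit 3, nat_lit 1, nat_lit 0])) (.leaf ((nat_lit 575), [nat_lit 1, nat_lit 3, nat_lit 0, nat_lit 2, nat_lit 0, nat_lit 1, nat_lit 0]))) (.node (nat_lit 2952) (.leaf ((nat_lit 147), [nat_lit 2, nat_lit 3, nat_lit 1, nat_lit 0, nat_lit 2, nat_lit 1, nat_lit 0, nat_lit 1])) (.leaf ((nat_lit 553), [nat_lit 0, nat_lit 1, nat_lit 3, nat_lit 0, nat_lit 2, nat_lit 0, nat_lit 1, nat_lit 0, nat_lit 1]))))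
 (.node (nat_lit 2955) (.node (nat_lit 2954) (.leaf ((nat_lit 641), [nat_lit 2, nat_lit 1, nat_lit 3, nat_lit 0, nat_lit 1])) (.leaf ((nat_lit 174), [nat_lit 2, nat_lit 1, nat_lit 3, nat_lit 1, nat_lit 0, nat_lit 2, nat_lit 1, nat_lit 0]))) (.node (nat_lit 2956) (.leaf ((nat_lit 436), [nat_lit 0, nat_lit 1, nat_lit 2, nat_lit 3, nat_lit 1, nat_lit 0, nat_lit 2, nat_lit 0, nat_lit 1, nat_lit 0, nat_lit 1, nat_lit 0])) (.node (nat_lit 2957) (.leaf ((nat_lit 158), [nat_lit 0, nat_lit 1, nat_lit 3, nat_lit 2, nat_lit 0])) (.leaf ((nat_lit 299), [nat_lit 3, nat_lit 2, nat_lit 0, nat_lit 2, nat_lit 1, nat_lit 0])))))))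
 (.node (nat_lit 2967) (.node (nat_lit 2962) (.node (nat_lit 2960) (.node (nat_lit 2959) (.leaf ((nat_lit 148), [nat_lit 0, nat_lit 1, nat_lit 3, nat_lit 0, nat_lit 2, nat_lit 0, nat_lit 1, nat_lit 0])) (.leaf ((nat_lit 293), [nat_lit 2, nat_lit 1, nat_lit 3, nat_lit 2, nat_lit 0, nat_lit 1, nat_lit 0]))) (.node (nat_lit 2961) (.leaf ((nat_lit 264), [nat_lit 3, nat_lit 1, nat_lit 2, nat_lit 3, nat_lit 0, nat_lit 1])) (.leaf ((nat_lit 252), [nat_lit 1, nat_lit 2, nat_lit 3, nat_lit 2, nat_lit 0, nat_lit 2, nat_lit 0, nat_lit 1, nat_lit 0]))))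
 (.node (nat_lit 2964) (.node (nat_lit 2963) (.leaf ((nat_lit 447), [nat_lit 1, nat_lit 0, nat_lit 2, nat_lit 0])) (.leaf ((nat_lit 544), [nat_lit 0, nat_lit 2, nat_lit 1]))) (.node (nat_lit 2965) (.leaf ((nat_lit 360), [nat_lit 0, nat_lit 1, nat_lit 3, nat_lit 1, nat_lit 2, nat_lit 0, nat_lit 1, nat_lit 0])) (.node (nat_lit 2966) (.leaf ((nat_lit 613), [nat_lit 0, nat_lit 1, nat_lit 2, nat_lit 3, nat_lit 0, nat_lit 2, nat_lit 1, nat_lit 0, nat_lit 1, nat_lit 0])) (.leaf ((nat_lit 589), [nat_lit 2, nat_lit 3, nat_lit 1, nat_lit 2, nat_lit 1, nat_lit 0, nat_lit 1, nat_lit 0]))))))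
 (.node (nat_lit 2971) (.node (nat_lit 2969) (.node (nat_lit 2968) (.leaf ((nat_lit 148), [nat_lit 0, nat_lit 1, nat_lit 2, nat_lit 3, nat_lit 2, nat_lit 0, nat_lit 2])) (.leaf ((nat_lit 376), [nat_lit 2, nat_lit 1, nat_lit 3, nat_lit 2, nat_lit 0, nat_lit 2, nat_lit 0, nat_lit 1]))) (.node (nat_lit 2970) (.leaf ((nat_lit 570), [nat_lit 2, nat_lit 3, nat_lit 1, nat_lit 2, nat_lit 1, nat_lit 0, nat_lit 1])) (.leaf ((nat_lit 394), [nat_lit 2, nat_lit 1, nat_lit 3, nat_lit 2, nat_lit 0, nat_lit 1, nat_lit 0, nat_lit 1, nat_lit 0]))))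
 (.node (nat_lit 2973) (.node (nat_lit 2972) (.leaf ((nat_lit 240), [nat_lit 1, nat_lit 2, nat_lit 3, nat_lit 2, nat_lit 0, nat_lit 2])) (.leaf ((nat_lit 389), [nat_lit 1, nat_lit 2, nat_lit 3, nat_lit 1, nat_lit 0, nat_lit 2]))) (.node (nat_lit 2974) (.leaf ((nat_lit 149), [nat_lit 3, nat_lit 2, nat_lit 3, nat_lit 1, nat_lit 0, nat_lit 2, nat_lit 1, nat_lit 0, nat_lit 1])) (.node (nat_lit 2975) (.leaf ((nat_lit 646), [nat_lit 1, nat_lit 3, nat_lit 2, nat_lit 0, nat_lit 2, nat_lit 0, nat_lit 1, nat_lit 0])) (.leaf ((nat_lit 445), [nat_lit 3, nat_lit 1, nat_lit 3, nat_lit 0]))))))))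
 (.node (nat_lit 2994) (.node (nat_lit 2985) (.node (nat_lit 2980) (.node (nat_lit 2978) (.node (nat_lit 2977) (.leaf ((nat_lit 561), [nat_lit 3, nat_lit 2, nat_lit 0, nat_lit 2, nat_lit 1])) (.leaf ((nat_lit 616), [nat_lit 0, nat_lit 1, nat_lit 3, nat_lit 0, nat_lit 2, nat_lit 0, nat_lit 1, nat_lit 0]))) (.node (nat_lit 2979) (.leaf ((nat_lit 582), [nat_lit 3, nat_lit 1, nat_lit 3, nat_lit 2, nat_lit 0, nat_lit 2, nat_lit 0, nat_lit 1, nat_lit 0, nat_lit 1])) (.leaf ((nat_lit 600), [nat_lit 2, nat_lit 3, nat_lit 2, nat_lit 1, nat_lit 0, nat_lit 1]))))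
 (.node (nat_lit 2982) (.node (nat_lit 2981) (.leaf ((nat_lit 483), [nat_lit 1, nat_lit 3, nat_lit 2, nat_lit 0, nat_lit 1])) (.leaf ((nat_lit 149), [nat_lit 0, nat_lit 1, nat_lit 3, nat_lit 2, nat_lit 0, nat_lit 1, nat_lit 0, nat_lit 1]))) (.node (nat_lit 2983) (.leaf ((nat_lit 150), [nat_lit 2, nat_lit 1, nat_lit 3, nat_lit 1, nat_lit 2, nat_lit 0, nat_lit 1, nat_lit 0, nat_lit 1])) (.node (nat_lit 2984) (.leaf ((nat_lit 398), [nat_lit 1, nat_lit 0, nat_lit 2, nat_lit 1, nat_lit 0])) (.leaf ((nat_lit 390), [nat_lit 0, nat_lit 1, nat_lit 3, nat_lit 2, nat_lit 1]))))))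
 (.node (nat_lit 2989) (.node (nat_lit 2987) (.node (nat_lit 2986) (.leaf ((nat_lit 391), [nat_lit 1, nat_lit 2, nat_lit 3, nat_lit 1, nat_lit 0, nat_lit 2, nat_lit 0, nat_lit 1, nat_lit 0, nat_lit 1])) (.leaf ((nat_lit 174), [nat_lit 0, nat_lit 1]))) (.node (nat_lit 2988) (.leaf ((nat_lit 178), [nat_lit 3, nat_lit 1, nat_lit 3, nat_lit 0, nat_lit 2, nat_lit 1, nat_lit 0, nat_lit 1])) (.leaf ((nat_lit 449), [nat_lit 1, nat_lit 3, nat_lit 1, nat_lit 0, nat_lit 2]))))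
 (.node (nat_lit 2991) (.node (nat_lit 2990) (.leaf ((nat_lit 518), [nat_lit 1, nat_lit 3, nat_lit 2, nat_lit 0, nat_lit 2, nat_lit 0])) (.leaf ((nat_lit 442), [nat_lit 3, nat_lit 1, nat_lit 3, nat_lit 1, nat_lit 2, nat_lit 0, nat_lit 1, nat_lit 0, nat_lit 1]))) (.node (nat_lit 2992) (.leaf ((nat_lit 625), [nat_lit 2, nat_lit 0, nat_lit 2])) (.node (nat_lit 2993) (.leaf ((nat_lit 566), [nat_lit 3, nat_lit 0, nat_lit 1, nat_lit 0, nat_lit 1])) (.leaf ((nat_lit 647), [nat_lit 1, nat_lit 3, nat_lit 2, nat_lit 1, nat_lit 0, nat_lit 1])))))))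
 (.node (nat_lit 3003) (.node (nat_lit 2998) (.node (nat_lit 2996) (.node (nat_lit 2995) (.leaf ((nat_lit 628), [nat_lit 1, nat_lit 2, nat_lit 3, nat_lit 0, nat_lit 2, nat_lit 1])) (.leaf ((nat_lit 150), [nat_lit 1, nat_lit 0, nat_lit 2, nat_lit 0, nat_lit 1, nat_lit 0]))) (.node (nat_lit 2997) (.leaf ((nat_lit 429), [nat_lit 2, nat_lit 3, nat_lit 0, nat_lit 2, nat_lit 0, nat_lit 1, nat_lit 0, nat_lit 1])) (.leaf ((nat_lit 152), [nat_lit 0, nat_lit 1, nat_lit 3, nat_lit 0, nat_lit 2]))))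
 (.node (nat_lit 3000) (.node (nat_lit 2999) (.leaf ((nat_lit 258), [nat_lit 2, nat_lit 3, nat_lit 1, nat_lit 2, nat_lit 0])) (.leaf ((nat_lit 610), [nat_lit 3, nat_lit 1, nat_lit 0, nat_lit 2]))) (.node (nat_lit 3001) (.leaf ((nat_lit 401), [nat_lit 1, nat_lit 3, nat_lit 0, nat_lit 2, nat_lit 0, nat_lit 1])) (.node (nat_lit 3002) (.leaf ((nat_lit 336), [nat_lit 3, nat_lit 2, nat_lit 0, nat_lit 2, nat_lit 1, nat_lit 0, nat_lit 1, nat_lit 0])) (.leaf ((nat_lit 403), [nat_lit 0, nat_lit 1, nat_lit 2, nat_lit 3, nat_lit 2, nat_lit 0, nat_lit 2, nat_lit 1, nat_lit 0, nat_lit 1, nat_lit 0]))))))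
 (.node (nat_lit 3008) (.node (nat_lit 3005) (.node (nat_lit 3004) (.leaf ((nat_lit 152), [nat_lit 3, nat_lit 1, nat_lit 2, nat_lit 3, nat_lit 1, nat_lit 0, nat_lit 1])) (.leaf ((nat_lit 428), [nat_lit 2, nat_lit 1, nat_lit 3, nat_lit 2, nat_lit 0, nat_lit 1, nat_lit 0, nat_lit 1, nat_lit 0]))) (.node (nat_lit 3006) (.leaf ((nat_lit 409), [nat_lit 3, nat_lit 2, nat_lit 3, nat_lit 1, nat_lit 2, nat_lit 0, nat_lit 1, nat_lit 0])) (.node (nat_lit 3007) (.leaf ((nat_lit 621), [nat_lit 1, nat_lit 0, nat_lit 2])) (.leaf ((nat_lit 648), [nat_lit 0, nat_lit 2, nat_lit 1, nat_lit 0, nat_lit 1, nat_lit 0])))))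
 (.node (nat_lit 3010) (.node (nat_lit 3009) (.leaf ((nat_lit 404), [nat_lit 0, nat_lit 1, nat_lit 3, nat_lit 2, nat_lit 0, nat_lit 2, nat_lit 1, nat_lit 0, nat_lit 1])) (.leaf ((nat_lit 320), [nat_lit 3, nat_lit 2, nat_lit 3, nat_lit 0, nat_lit 2, nat_lit 0, nat_lit 1, nat_lit 0, nat_lit 1]))) (.node (nat_lit 3011) (.leaf ((nat_lit 510), [nat_lit 2, nat_lit 3, nat_lit 1])) (.node (nat_lit 3012) (.leaf ((nat_lit 621), [nat_lit 2, nat_lit 0, nat_lit 2, nat_lit 1, nat_lit 0, nat_lit 1])) (.leaf ((nat_lit 152), [nat_lit 3, nat_lit 2, nat_lit 3, nat_lit 1, nat_lit 2, nat_lit 0, nat_lit 1, nat_lit 0])))))))))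
 (.node (nat_lit 3050) (.node (nat_lit 3031) (.node (nat_lit 3022) (.node (nat_lit 3017) (.node (nat_lit 3015) (.node (nat_lit 3014) (.leaf ((nat_lit 627), [nat_lit 3, nat_lit 1, nat_lit 3, nat_lit 2, nat_lit 0, nat_lit 1])) (.leaf ((nat_lit 649), [nat_lit 2, nat_lit 3, nat_lit 0, nat_lit 2, nat_lit 1, nat_lit 0, nat_lit 1]))) (.node (nat_lit 3016) (.leaf ((nat_lit 403), [nat_lit 1, nat_lit 3, nat_lit 2, nat_lit 0, nat_lit 2, nat_lit 0, nat_lit 1, nat_lit 0, nat_lit 1, nat_lit 0])) (.leaf ((nat_lit 650), [nat_lit 3, nat_lit 2, nat_lit 3, nat_lit 0, nat_lit 2, nat_lit 1]))))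
 (.node (nat_lit 3019) (.node (nat_lit 3018) (.leaf ((nat_lit 651), [nat_lit 2, nat_lit 0, nat_lit 2, nat_lit 0, nat_lit 1])) (.leaf ((nat_lit 629), [nat_lit 1, nat_lit 2, nat_lit 3, nat_lit 2, nat_lit 0, nat_lit 2, nat_lit 1, nat_lit 0, nat_lit 1]))) (.node (nat_lit 3020) (.leaf ((nat_lit 627), [nat_lit 2, nat_lit 3, nat_lit 2, nat_lit 0, nat_lit 2, nat_lit 1, nat_lit 0])) (.node (nat_lit 3021) (.leaf ((nat_lit 152), [nat_lit 1, nat_lit 0, nat_lit 2, nat_lit 0, nat_lit 1])) (.leaf ((nat_lit 477), [nat_lit 3, nat_lit 1, nat_lit 2, nat_lit 3, nat_lit 2, nat_lit 0, nat_lit 2, nat_lit 0]))))))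
 (.node (nat_lit 3026) (.node (nat_lit 3024) (.node (nat_lit 3023) (.leaf ((nat_lit 280), [nat_lit 2, nat_lit 3, nat_lit 2, nat_lit 0, nat_lit 2, nat_lit 0])) (.leaf ((nat_lit 618), [nat_lit 2, nat_lit 3, nat_lit 2, nat_lit 0, nat_lit 1]))) (.node (nat_lit 3025) (.leaf ((nat_lit 589), [nat_lit 3, nat_lit 1, nat_lit 3, nat_lit 2, nat_lit 0, nat_lit 2, nat_lit 1, nat_lit 0])) (.leaf ((nat_lit 319), [nat_lit 1, nat_lit 3, nat_lit 1, nat_lit 2, nat_lit 0, nat_lit 1]))))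
 (.node (nat_lit 3028) (.node (nat_lit 3027) (.leaf ((nat_lit 270), [nat_lit 3, nat_lit 1, nat_lit 2, nat_lit 3, nat_lit 2, nat_lit 0, nat_lit 2, nat_lit 1, nat_lit 0])) (.leaf ((nat_lit 545), [nat_lit 3, nat_lit 1, nat_lit 3, nat_lit 0, nat_lit 2, nat_lit 1, nat_lit 0]))) (.node (nat_lit 3029) (.leaf ((nat_lit 152), [nat_lit 0, nat_lit 1, nat_lit 2, nat_lit 3, nat_lit 1, nat_lit 2, nat_lit 0, nat_lit 1, nat_lit 0, nat_lit 1, nat_lit 0])) (.node (nat_lit 3030) (.leaf ((nat_lit 537), [nat_lit 3, nat_lit 1, nat_lit 3, nat_lit 1, nat_lit 2, nat_lit 0, nat_lit 1, nat_lit 0])) (.leaf ((nat_lit 647), [nat_lit 0, nat_lit 1, nat_lit 3, nat_lit 2, nat_lit 1, nat_lit 0, nat_lit 1])))))))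
 (.node (nat_lit 3040) (.node (nat_lit 3035) (.node (nat_lit 3033) (.node (nat_lit 3032) (.leaf ((nat_lit 414), [nat_lit 3, nat_lit 1, nat_lit 3, nat_lit 2, nat_lit 0, nat_lit 2, nat_lit 1, nat_lit 0])) (.leaf ((nat_lit 408), [nat_lit 2, nat_lit 0, nat_lit 2, nat_lit 0, nat_lit 1, nat_lit 0, nat_lit 1, nat_lit 0]))) (.node (nat_lit 3034) (.leaf ((nat_lit 153), [nat_lit 1, nat_lit 3, nat_lit 1, nat_lit 0, nat_lit 2, nat_lit 1, nat_lit 0, nat_lit 1])) (.leaf ((nat_lit 161), [nat_lit 2, nat_lit 0, nat_lit 2, nat_lit 0, nat_lit 1, nat_lit 0, nat_lit 1, nat_lit 0]))))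
 (.node (nat_lit 3037) (.node (nat_lit 3036) (.leaf ((nat_lit 325), [nat_lit 0, nat_lit 1, nat_lit 2, nat_lit 3, nat_lit 2, nat_lit 1])) (.leaf ((nat_lit 193), [nat_lit 0, nat_lit 1, nat_lit 2, nat_lit 3, nat_lit 1, nat_lit 2, nat_lit 0, nat_lit 1]))) (.node (nat_lit 3038) (.leaf ((nat_lit 520), [nat_lit 2, nat_lit 1, nat_lit 0])) (.node (nat_lit 3039) (.leaf ((nat_lit 491), [nat_lit 3, nat_lit 2, nat_lit 3, nat_lit 1, nat_lit 0, nat_lit 1])) (.leaf ((nat_lit 203), [nat_lit 3, nat_lit 1, nat_lit 3, nat_lit 2, nat_lit 0, nat_lit 2, nat_lit 0]))))))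
 (.node (nat_lit 3045) (.node (nat_lit 3042) (.node (nat_lit 3041) (.leaf ((nat_lit 195), [nat_lit 1, nat_lit 3, nat_lit 0, nat_lit 2])) (.leaf ((nat_lit 216), [nat_lit 1, nat_lit 3, nat_lit 2, nat_lit 0, nat_lit 2, nat_lit 0, nat_lit 1]))) (.node (nat_lit 3043) (.leaf ((nat_lit 300), [nat_lit 3, nat_lit 2, nat_lit 3, nat_lit 1, nat_lit 2, nat_lit 1, nat_lit 0])) (.node (nat_lit 3044) (.leaf ((nat_lit 153), [nat_lit 3, nat_lit 2, nat_lit 3, nat_lit 1, nat_lit 0, nat_lit 2, nat_lit 1, nat_lit 0, nat_lit 1])) (.leaf ((nat_lit 308), [nat_lit 3, nat_lit 1, nat_lit 2, nat_lit 3, nat_lit 1, nat_lit 2, nat_lit 1, nat_lit 0, nat_lit 1, nat_lit 0])))))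
 (.node (nat_lit 3047) (.node (nat_lit 3046) (.leaf ((nat_lit 240), [nat_lit 3, nat_lit 1, nat_lit 2, nat_lit 3, nat_lit 1])) (.leaf ((nat_lit 521), [nat_lit 3, nat_lit 1, nat_lit 3, nat_lit 1, nat_lit 0, nat_lit 2, nat_lit 1, nat_lit 0]))) (.node (nat_lit 3048) (.leaf ((nat_lit 231), [nat_lit 3, nat_lit 1, nat_lit 3, nat_lit 1, nat_lit 0, nat_lit 2, nat_lit 1, nat_lit 0, nat_lit 1])) (.node (nat_lit 3049) (.leaf ((nat_lit 154), [nat_lit 3, nat_lit 1, nat_lit 2, nat_lit 0, nat_lit 1])) (.leaf ((nat_lit 473), [nat_lit 2, nat_lit 1, nat_lit 3, nat_lit 0, nat_lit 2]))))))))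
 (.node (nat_lit 3068) (.node (nat_lit 3059) (.node (nat_lit 3054) (.node (nat_lit 3052) (.node (nat_lit 3051) (.leaf ((nat_lit 378), [nat_lit 1, nat_lit 3, nat_lit 2, nat_lit 0, nat_lit 2, nat_lit 1])) (.leaf ((nat_lit 623), [nat_lit 3, nat_lit 1, nat_lit 3, nat_lit 0, nat_lit 2, nat_lit 0, nat_lit 1, nat_lit 0, nat_lit 1, nat_lit 0]))) (.node (nat_lit 3053) (.leaf ((nat_lit 422), [nat_lit 0, nat_lit 1, nat_lit 3, nat_lit 1, nat_lit 2, nat_lit 0, nat_lit 1, nat_lit 0, nat_lit 1])) (.leaf ((nat_lit 174), [nat_lit 2, nat_lit 3, nat_lit 0, nat_lit 2, nat_lit 0, nat_lit 1]))))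
 (.node (nat_lit 3056) (.node (nat_lit 3055) (.leaf ((nat_lit 311), [nat_lit 2, nat_lit 3, nat_lit 0])) (.leaf ((nat_lit 294), [nat_lit 3, nat_lit 2, nat_lit 3, nat_lit 0, nat_lit 2, nat_lit 0, nat_lit 1]))) (.node (nat_lit 3057) (.leaf ((nat_lit 171), [nat_lit 1, nat_lit 3, nat_lit 1, nat_lit 2, nat_lit 0, nat_lit 1, nat_lit 0, nat_lit 1, nat_lit 0])) (.node (nat_lit 3058) (.leaf ((nat_lit 225), [nat_lit 1, nat_lit 0, nat_lit 2])) (.leaf ((nat_lit 154), [nat_lit 2, nat_lit 3, nat_lit 0, nat_lit 2, nat_lit 0, nat_lit 1, nat_lit 0, nat_lit 1]))))))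
 (.node (nat_lit 3063) (.node (nat_lit 3061) (.node (nat_lit 3060) (.leaf ((nat_lit 155), [nat_lit 3, nat_lit 1, nat_lit 3, nat_lit 1, nat_lit 2])) (.leaf ((nat_lit 256), [nat_lit 1, nat_lit 3, nat_lit 1]))) (.node (nat_lit 3062) (.leaf ((nat_lit 414), [nat_lit 0])) (.leaf ((nat_lit 304), [nat_lit 0, nat_lit 1, nat_lit 3, nat_lit 0, nat_lit 2, nat_lit 0, nat_lit 1, nat_lit 0]))))
 (.node (nat_lit 3065) (.node (nat_lit 3064) (.leaf ((nat_lit 289), [nat_lit 3, nat_lit 1, nat_lit 3, nat_lit 1, nat_lit 0, nat_lit 2, nat_lit 0, nat_lit 1, nat_lit 0])) (.leaf ((nat_lit 437), [nat_lit 0, nat_lit 1, nat_lit 3, nat_lit 1, nat_lit 0, nat_lit 2]))) (.node (nat_lit 3066) (.leaf ((nat_lit 391), [nat_lit 1, nat_lit 2, nat_lit 1, nat_lit 0, nat_lit 1])) (.node (nat_lit 3067) (.leaf ((nat_lit 496), [nat_lit 1, nat_lit 0, nat_lit 2, nat_lit 1, nat_lit 0, nat_lit 1, nat_lit 0])) (.leaf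 ((nat_lit 207), [nat_lit 3, nat_lit 2, nat_lit 3, nat_lit 1, nat_lit 0])))))))
 (.node (nat_lit 3077) (.node (nat_lit 3072) (.node (nat_lit 3070) (.node (nat_lit 3069) (.leaf ((nat_lit 156), [nat_lit 0, nat_lit 1, nat_lit 3, nat_lit 1, nat_lit 2, nat_lit 0, nat_lit 1])) (.leaf ((nat_lit 155), [nat_lit 0, nat_lit 1, nat_lit 2, nat_lit 3, nat_lit 1, nat_lit 0, nat_lit 2, nat_lit 1, nat_lit 0, nat_lit 1]))) (.node (nat_lit 3071) (.leaf ((nat_lit 502), [nat_lit 0, nat_lit 1, nat_lit 3, nat_lit 2, nat_lit 0, nat_lit 2, nat_lit 0, nat_lit 1, nat_lit 0, nat_lit 1])) (.leaf ((nat_lit 444), [nat_lit 0, nat_lit 1, nat_lit 3, nat_lit 2, nat_lit 1, nat_lit 0, nat_lit 1]))))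
 (.node (nat_lit 3074) (.node (nat_lit 3073) (.leaf ((nat_lit 255), [nat_lit 1, nat_lit 2, nat_lit 0, nat_lit 1, nat_lit 0, nat_lit 1, nat_lit 0])) (.leaf ((nat_lit 291), [nat_lit 3, nat_lit 2, nat_lit 0, nat_lit 1, nat_lit 0]))) (.node (nat_lit 3075) (.leaf ((nat_lit 156), [nat_lit 0, nat_lit 1, nat_lit 3, nat_lit 1, nat_lit 2])) (.node (nat_lit 3076) (.leaf ((nat_lit 630), [nat_lit 3, nat_lit 2, nat_lit 0, nat_lit 2, nat_lit 1])) (.leaf ((nat_lit 521), [nat_lit 2, nat_lit 3, nat_lit 1, nat_lit 0, nat_lit 2, nat_lit 0, nat_lit 1, nat_lit 0]))))))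
 (.node (nat_lit 3082) (.node (nat_lit 3079) (.node (nat_lit 3078) (.leaf ((nat_lit 443), [nat_lit 3, nat_lit 2, nat_lit 1, nat_lit 0, nat_lit 1])) (.leaf ((nat_lit 357), [nat_lit 3, nat_lit 1, nat_lit 2, nat_lit 3, nat_lit 0, nat_lit 2, nat_lit 1]))) (.node (nat_lit 3080) (.leaf ((nat_lit 652), [nat_lit 2, nat_lit 3, nat_lit 1, nat_lit 2, nat_lit 1, nat_lit 0, nat_lit 1, nat_lit 0])) (.node (nat_lit 3081) (.leaf ((nat_lit 405), [nat_lit 3, nat_lit 2, nat_lit 3, nat_lit 2, nat_lit 0, nat_lit 2, nat_lit 0, nat_lit 1, nat_lit 0, nat_lit 1, nat_lit 0])) (.leaf ((nat_lit 157), [nat_lit 1, nat_lit 2, nat_lit 3, nat_lit 0, nat_lit 2, nat_lit 0, nat_lit 1, nat_lit 0])))))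
 (.node (nat_lit 3084) (.node (nat_lit 3083) (.leaf ((nat_lit 440), [nat_lit 2, nat_lit 0, nat_lit 2])) (.leaf ((nat_lit 536), [nat_lit 3, nat_lit 1, nat_lit 0, nat_lit 2, nat_lit 1, nat_lit 0]))) (.node (nat_lit 3085) (.leaf ((nat_lit 498), [nat_lit 3, nat_lit 1])) (.node (nat_lit 3086) (.leaf ((nat_lit 464), [nat_lit 1, nat_lit 2, nat_lit 3, nat_lit 2, nat_lit 0, nat_lit 2, nat_lit 1, nat_lit 0, nat_lit 1])) (.leaf ((nat_lit 601), [nat_lit 3, nat_lit 0, nat_lit 2, nat_lit 0, nat_lit 1, nat_lit 0, nat_lit 1, nat_lit 0]))))))))))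
noncomputable def bWd_21 : Tr (ℕ × List ℕ) := (.node (nat_lit 3160) (.node (nat_lit 3123) (.node (nat_lit 3105) (.node (nat_lit 3096) (.node (nat_lit 3091) (.node (nat_lit 3089) (.node (nat_lit 3088) (.leaf ((nat_lit 512), [nat_lit 3, nat_lit 1, nat_lit 2, nat_lit 3, nat_lit 0, nat_lit 2, nat_lit 0, nat_lit 1])) (.leaf ((nat_lit 632), [nat_lit 1, nat_lit 3, nat_lit 0, nat_lit 2]))) (.node (nat_lit 3090) (.leaf ((nat_lit 637), [nat_lit 3, nat_lit 2, nat_lit 3, nat_lit 1, nat_lit 0, nat_lit 2, nat_lit 1, nat_lit 0, nat_lit 1])) (.leaf ((nat_lit 157), [nat_lit 2, nat_lit 3]))))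
 (.node (nat_lit 3093) (.node (nat_lit 3092) (.leaf ((nat_lit 534), [nat_lit 0, nat_lit 1, nat_lit 3, nat_lit 0, nat_lit 1, nat_lit 0, nat_lit 1])) (.leaf ((nat_lit 243), [nat_lit 0, nat_lit 1, nat_lit 2, nat_lit 3, nat_lit 2, nat_lit 0, nat_lit 2]))) (.node (nat_lit 3094) (.leaf ((nat_lit 500), [nat_lit 0, nat_lit 1, nat_lit 3, nat_lit 0, nat_lit 2, nat_lit 1, nat_lit 0, nat_lit 1])) (.node (nat_lit 3095) (.leaf ((nat_lit 427), [nat_lit 3, nat_lit 1, nat_lit 2, nat_lit 3, nat_lit 1, nat_lit 0, nat_lit 2, nat_lit 1, nat_lit 0, nat_lit 1, nat_lit 0])) (.leaf ((nat_lit 518), [nat_lit 3, nat_lit 0, nat_lit 2, nat_lit 1, nat_lit 0, nat_lit 1]))))))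
 (.node (nat_lit 3100) (.node (nat_lit 3098) (.node (nat_lit 3097) (.leaf ((nat_lit 647), [nat_lit 3, nat_lit 2, nat_lit 0, nat_lit 2, nat_lit 1, nat_lit 0, nat_lit 1, nat_lit 0])) (.leaf ((nat_lit 641), [nat_lit 3, nat_lit 1, nat_lit 2, nat_lit 0, nat_lit 1, nat_lit 0]))) (.node (nat_lit 3099) (.leaf ((nat_lit 157), [nat_lit 3, nat_lit 1, nat_lit 2, nat_lit 3, nat_lit 1])) (.leaf ((nat_lit 459), [nat_lit 0, nat_lit 1, nat_lit 2, nat_lit 3, nat_lit 0, nat_lit 2, nat_lit 0, nat_lit 1, nat_lit 0, nat_lit 1, nat_lit 0]))))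
 (.node (nat_lit 3102) (.node (nat_lit 3101) (.leaf ((nat_lit 161), [nat_lit 3, nat_lit 0, nat_lit 1, nat_lit 0, nat_lit 1])) (.leaf ((nat_lit 228), [nat_lit 3, nat_lit 1, nat_lit 2, nat_lit 3, nat_lit 2, nat_lit 0]))) (.node (nat_lit 3103) (.leaf ((nat_lit 400), [nat_lit 2])) (.node (nat_lit 3104) (.leaf ((nat_lit 299), [nat_lit 0, nat_lit 1, nat_lit 3, nat_lit 2, nat_lit 0, nat_lit 1])) (.leaf ((nat_lit 158), [nat_lit 3, nat_lit 2, nat_lit 3, nat_lit 0, nat_lit 2, nat_lit 0, nat_lit 1, nat_lit 0, nat_lit 1])))))))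
 (.node (nat_lit 3114) (.node (nat_lit 3109) (.node (nat_lit 3107) (.node (nat_lit 3106) (.leaf ((nat_lit 439), [nat_lit 0, nat_lit 1, nat_lit 2, nat_lit 3, nat_lit 1, nat_lit 0, nat_lit 2, nat_lit 0, nat_lit 1])) (.leaf ((nat_lit 457), [nat_lit 3, nat_lit 1, nat_lit 2, nat_lit 1, nat_lit 0, nat_lit 1, nat_lit 0]))) (.node (nat_lit 3108) (.leaf ((nat_lit 248), [nat_lit 0, nat_lit 1, nat_lit 2, nat_lit 3, nat_lit 2, nat_lit 0, nat_lit 2])) (.leaf ((nat_lit 457), [nat_lit 3, nat_lit 0, nat_lit 1]))))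
 (.node (nat_lit 3111) (.node (nat_lit 3110) (.leaf ((nat_lit 511), [nat_lit 3, nat_lit 2, nat_lit 3, nat_lit 2, nat_lit 0, nat_lit 2, nat_lit 1, nat_lit 0])) (.leaf ((nat_lit 410), [nat_lit 3, nat_lit 2, nat_lit 0, nat_lit 1, nat_lit 0, nat_lit 1, nat_lit 0]))) (.node (nat_lit 3112) (.leaf ((nat_lit 444), [nat_lit 0, nat_lit 1, nat_lit 2, nat_lit 3, nat_lit 2, nat_lit 1, nat_lit 0, nat_lit 1])) (.node (nat_lit 3113) (.leaf ((nat_lit 158), [nat_lit 1, nat_lit 2, nat_lit 3, nat_lit 2, nat_lit 0, nat_lit 2, nat_lit 0, nat_lit 1, nat_lit 0])) (.leaf ((nat_lit 438), [nat_lit 0, nat_lit 1, nat_lit 2, nat_lit 3, nat_lit 1, nat_lit 0, nat_lit 2]))))))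
 (.node (nat_lit 3118) (.node (nat_lit 3116) (.node (nat_lit 3115) (.leaf ((nat_lit 282), [nat_lit 0, nat_lit 1, nat_lit 2, nat_lit 3, nat_lit 0, nat_lit 2])) (.leaf ((nat_lit 561), [nat_lit 0, nat_lit 1, nat_lit 3, nat_lit 0]))) (.node (nat_lit 3117) (.leaf ((nat_lit 425), [nat_lit 3, nat_lit 1, nat_lit 3, nat_lit 0])) (.leaf ((nat_lit 445), [nat_lit 0, nat_lit 1, nat_lit 0]))))
 (.node (nat_lit 3120) (.node (nat_lit 3119) (.leaf ((nat_lit 532), [nat_lit 3, nat_lit 2, nat_lit 3, nat_lit 1, nat_lit 2, nat_lit 0, nat_lit 1])) (.leaf ((nat_lit 346), [nat_lit 0, nat_lit 1, nat_lit 3, nat_lit 0, nat_lit 1, nat_lit 0, nat_lit 1, nat_lit 0]))) (.node (nat_lit 3121) (.leaf ((nat_lit 417), [nat_lit 3, nat_lit 1, nat_lit 3, nat_lit 0, nat_lit 1, nat_lit 0, nat_lit 1])) (.node (nat_lit 3122) (.leaf ((nat_lit 158), [nat_lit 0, nat_lit 1, nat_lit 2, nat_lit 3, nat_lit 2, nat_lit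 0, nat_lit 1, nat_lit 0, nat_lit 1])) (.leaf ((nat_lit 456), [nat_lit 0, nat_lit 1, nat_lit 3, nat_lit 2, nat_lit 0, nat_lit 2, nat_lit 1]))))))))
 (.node (nat_lit 3141) (.node (nat_lit 3132) (.node (nat_lit 3127) (.node (nat_lit 3125) (.node (nat_lit 3124) (.leaf ((nat_lit 168), [nat_lit 1, nat_lit 3, nat_lit 1, nat_lit 0, nat_lit 1, nat_lit 0])) (.leaf ((nat_lit 318), [nat_lit 3, nat_lit 2, nat_lit 3, nat_lit 1, nat_lit 0, nat_lit 2, nat_lit 0, nat_lit 1, nat_lit 0, nat_lit 1]))) (.node (nat_lit 3126) (.leaf ((nat_lit 248), [nat_lit 3, nat_lit 1, nat_lit 3, nat_lit 1])) (.leaf ((nat_lit 159), [nat_lit 3, nat_lit 1, nat_lit 2, nat_lit 3, nat_lit 2, nat_lit 1, nat_lit 0]))))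
 (.node (nat_lit 3129) (.node (nat_lit 3128) (.leaf ((nat_lit 540), [nat_lit 2, nat_lit 3])) (.leaf ((nat_lit 324), [nat_lit 1, nat_lit 3, nat_lit 0, nat_lit 2]))) (.node (nat_lit 3130) (.leaf ((nat_lit 423), [nat_lit 0, nat_lit 2, nat_lit 0, nat_lit 1])) (.node (nat_lit 3131) (.leaf ((nat_lit 252), [nat_lit 1, nat_lit 2, nat_lit 3, nat_lit 1, nat_lit 2, nat_lit 1, nat_lit 0, nat_lit 1, nat_lit 0])) (.leaf ((nat_lit 543), [nat_lit 1, nat_lit 2, nat_lit 3, nat_lit 0, nat_lit 2, nat_lit 0]))))))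
 (.node (nat_lit 3136) (.node (nat_lit 3134) (.node (nat_lit 3133) (.leaf ((nat_lit 542), [nat_lit 3, nat_lit 2, nat_lit 1, nat_lit 0, nat_lit 1, nat_lit 0])) (.leaf ((nat_lit 644), [nat_lit 3, nat_lit 1, nat_lit 2, nat_lit 3, nat_lit 2, nat_lit 0, nat_lit 2, nat_lit 0, nat_lit 1, nat_lit 0, nat_lit 1, nat_lit 0]))) (.node (nat_lit 3135) (.leaf ((nat_lit 406), [nat_lit 0, nat_lit 1, nat_lit 2, nat_lit 3, nat_lit 0, nat_lit 1])) (.leaf ((nat_lit 159), [nat_lit 2, nat_lit 1, nat_lit 3, nat_lit 2, nat_lit 0, nat_lit 1, nat_lit 0, nat_lit 1, nat_lit 0]))))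
 (.node (nat_lit 3138) (.node (nat_lit 3137) (.leaf ((nat_lit 394), [nat_lit 2, nat_lit 1, nat_lit 3, nat_lit 2, nat_lit 0, nat_lit 2, nat_lit 0])) (.leaf ((nat_lit 322), [nat_lit 3, nat_lit 1, nat_lit 2, nat_lit 3, nat_lit 2, nat_lit 1]))) (.node (nat_lit 3139) (.leaf ((nat_lit 449), [nat_lit 0, nat_lit 1, nat_lit 3, nat_lit 2, nat_lit 1, nat_lit 0, nat_lit 1])) (.node (nat_lit 3140) (.leaf ((nat_lit 207), [nat_lit 0, nat_lit 1, nat_lit 3, nat_lit 2, nat_lit 0, nat_lit 2])) (.leaf ((nat_lit 311), [nat_lit 2, nat_lit 3, nat_lit 1, nat_lit 2, nat_lit 0, nat_lit 1])))))))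
 (.node (nat_lit 3150) (.node (nat_lit 3145) (.node (nat_lit 3143) (.node (nat_lit 3142) (.leaf ((nat_lit 160), [nat_lit 2, nat_lit 1, nat_lit 3, nat_lit 0])) (.leaf ((nat_lit 581), [nat_lit 3, nat_lit 1, nat_lit 3, nat_lit 0, nat_lit 1, nat_lit 0, nat_lit 1]))) (.node (nat_lit 3144) (.leaf ((nat_lit 402), [nat_lit 1, nat_lit 2, nat_lit 1, nat_lit 0, nat_lit 1])) (.leaf ((nat_lit 161), [nat_lit 1, nat_lit 2, nat_lit 3, nat_lit 0, nat_lit 1, nat_lit 0, nat_lit 1, nat_lit 0]))))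
 (.node (nat_lit 3147) (.node (nat_lit 3146) (.leaf ((nat_lit 448), [nat_lit 0, nat_lit 1, nat_lit 2, nat_lit 3, nat_lit 1, nat_lit 0, nat_lit 2])) (.leaf ((nat_lit 392), [nat_lit 3, nat_lit 2, nat_lit 3, nat_lit 1, nat_lit 0, nat_lit 1, nat_lit 0]))) (.node (nat_lit 3148) (.leaf ((nat_lit 168), [nat_lit 2, nat_lit 3, nat_lit 2, nat_lit 0])) (.node (nat_lit 3149) (.leaf ((nat_lit 297), [nat_lit 3, nat_lit 1, nat_lit 3, nat_lit 1, nat_lit 2, nat_lit 1, nat_lit 0])) (.leaf ((nat_lit 426), [nat_lit 0, nat_lit 1, nat_lit 3, nat_lit 1, nat_lit 0, nat_lit 2, nat_lit 0]))))))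
 (.node (nat_lit 3155) (.node (nat_lit 3152) (.node (nat_lit 3151) (.leaf ((nat_lit 220), [nat_lit 1, nat_lit 3, nat_lit 2, nat_lit 0, nat_lit 2, nat_lit 1, nat_lit 0])) (.leaf ((nat_lit 341), [nat_lit 3, nat_lit 1, nat_lit 3, nat_lit 0, nat_lit 2, nat_lit 0]))) (.node (nat_lit 3153) (.leaf ((nat_lit 181), [nat_lit 3, nat_lit 2, nat_lit 3, nat_lit 1, nat_lit 2, nat_lit 0, nat_lit 1, nat_lit 0, nat_lit 1])) (.node (nat_lit 3154) (.leaf ((nat_lit 450), [nat_lit 2, nat_lit 3, nat_lit 1, nat_lit 2, nat_lit 1, nat_lit 0, nat_lit 1, nat_lit 0])) (.leaf ((nat_lit 162), [nat_lit 3, nat_lit 1, nat_lit 3, nat_lit 0, nat_lit 2, nat_lit 1])))))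
 (.node (nat_lit 3157) (.node (nat_lit 3156) (.leaf ((nat_lit 177), [nat_lit 0, nat_lit 2])) (.leaf ((nat_lit 280), [nat_lit 0, nat_lit 1, nat_lit 2, nat_lit 3, nat_lit 1, nat_lit 2, nat_lit 0, nat_lit 1, nat_lit 0, nat_lit 1]))) (.node (nat_lit 3158) (.leaf ((nat_lit 471), [])) (.node (nat_lit 3159) (.leaf ((nat_lit 182), [nat_lit 3, nat_lit 2, nat_lit 3, nat_lit 0, nat_lit 1, nat_lit 0, nat_lit 1])) (.leaf ((nat_lit 164), [nat_lit 1, nat_lit 3, nat_lit 0, nat_lit 2, nat_lit 0, nat_lit 1, nat_lit 0, nat_lit 1, nat_lit 0])))))))))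
 (.node (nat_lit 3197) (.node (nat_lit 3178) (.node (nat_lit 3169) (.node (nat_lit 3164) (.node (nat_lit 3162) (.node (nat_lit 3161) (.leaf ((nat_lit 470), [nat_lit 1, nat_lit 3, nat_lit 0, nat_lit 2, nat_lit 0, nat_lit 1, nat_lit 0, nat_lit 1, nat_lit 0])) (.leaf ((nat_lit 382), [nat_lit 1, nat_lit 2, nat_lit 3, nat_lit 0, nat_lit 2, nat_lit 1, nat_lit 0, nat_lit 1]))) (.node (nat_lit 3163) (.leaf ((nat_lit 244), [nat_lit 0, nat_lit 1, nat_lit 3, nat_lit 2])) (.leaf ((nat_lit 187), [nat_lit 3, nat_lit 1, nat_lit 2, nat_lit 3, nat_lit 1, nat_lit 0, nat_lit 2, nat_lit 0, nat_lit 1, nat_lit 0, nat_lit 1, nat_lit 0]))))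
 (.node (nat_lit 3166) (.node (nat_lit 3165) (.leaf ((nat_lit 551), [nat_lit 3, nat_lit 2, nat_lit 3, nat_lit 1, nat_lit 0, nat_lit 1])) (.leaf ((nat_lit 619), [nat_lit 0, nat_lit 1, nat_lit 3, nat_lit 1, nat_lit 0, nat_lit 1, nat_lit 0]))) (.node (nat_lit 3167) (.leaf ((nat_lit 624), [nat_lit 0, nat_lit 1, nat_lit 2, nat_lit 3, nat_lit 2, nat_lit 1])) (.node (nat_lit 3168) (.leaf ((nat_lit 607), [nat_lit 0, nat_lit 1, nat_lit 3, nat_lit 2, nat_lit 0, nat_lit 1, nat_lit 0, nat_lit 1])) (.leaf ((nat_lit 507), [nat_lit 1, nat_lit 3]))))))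
 (.node (nat_lit 3173) (.node (nat_lit 3171) (.node (nat_lit 3170) (.leaf ((nat_lit 594), [nat_lit 2, nat_lit 1, nat_lit 3, nat_lit 2, nat_lit 0, nat_lit 2, nat_lit 0])) (.leaf ((nat_lit 164), [nat_lit 3, nat_lit 2, nat_lit 3, nat_lit 1, nat_lit 2, nat_lit 1]))) (.node (nat_lit 3172) (.leaf ((nat_lit 488), [nat_lit 1, nat_lit 2, nat_lit 3, nat_lit 1, nat_lit 2, nat_lit 0, nat_lit 1, nat_lit 0])) (.leaf ((nat_lit 492), [nat_lit 0, nat_lit 1, nat_lit 2, nat_lit 3, nat_lit 1, nat_lit 2, nat_lit 1, nat_lit 0, nat_lit 1, nat_lit 0]))))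
 (.node (nat_lit 3175) (.node (nat_lit 3174) (.leaf ((nat_lit 460), [nat_lit 2, nat_lit 3, nat_lit 1, nat_lit 2, nat_lit 0, nat_lit 1])) (.leaf ((nat_lit 165), [nat_lit 1, nat_lit 2, nat_lit 3, nat_lit 0, nat_lit 1, nat_lit 0]))) (.node (nat_lit 3176) (.leaf ((nat_lit 268), [nat_lit 1, nat_lit 3, nat_lit 2])) (.node (nat_lit 3177) (.leaf ((nat_lit 461), [nat_lit 1, nat_lit 2, nat_lit 3, nat_lit 1, nat_lit 0, nat_lit 2, nat_lit 0])) (.leaf ((nat_lit 465), [nat_lit 3, nat_lit 1, nat_lit 2, nat_lit 3, nat_lit 2, nat_lit 0, nat_lit 1, nat_lit 0, nat_lit 1])))))))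
 (.node (nat_lit 3187) (.node (nat_lit 3182) (.node (nat_lit 3180) (.node (nat_lit 3179) (.leaf ((nat_lit 622), [nat_lit 1, nat_lit 3, nat_lit 1, nat_lit 2, nat_lit 0, nat_lit 1, nat_lit 0, nat_lit 1, nat_lit 0])) (.leaf ((nat_lit 421), [nat_lit 0, nat_lit 2, nat_lit 1, nat_lit 0, nat_lit 1]))) (.node (nat_lit 3181) (.leaf ((nat_lit 467), [nat_lit 3, nat_lit 2, nat_lit 3, nat_lit 2, nat_lit 0, nat_lit 2, nat_lit 0, nat_lit 1, nat_lit 0])) (.leaf ((nat_lit 601), [nat_lit 0, nat_lit 1, nat_lit 3, nat_lit 0, nat_lit 1, nat_lit 0]))))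
 (.node (nat_lit 3184) (.node (nat_lit 3183) (.leaf ((nat_lit 393), [nat_lit 3, nat_lit 0, nat_lit 1, nat_lit 0])) (.leaf ((nat_lit 165), [nat_lit 3, nat_lit 1, nat_lit 2, nat_lit 0, nat_lit 1, nat_lit 0]))) (.node (nat_lit 3185) (.leaf ((nat_lit 594), [nat_lit 1, nat_lit 2, nat_lit 3, nat_lit 1, nat_lit 2, nat_lit 0, nat_lit 1])) (.node (nat_lit 3186) (.leaf ((nat_lit 626), [nat_lit 0, nat_lit 1, nat_lit 3, nat_lit 1, nat_lit 2, nat_lit 1, nat_lit 0, nat_lit 1])) (.leaf ((nat_lit 614), [nat_lit 1, nat_lit 2, nat_lit 3, nat_lit 0, nat_lit 2, nat_lit 0, nat_lit 1, nat_lit 0]))))))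
 (.node (nat_lit 3192) (.node (nat_lit 3189) (.node (nat_lit 3188) (.leaf ((nat_lit 237), [nat_lit 2, nat_lit 3, nat_lit 2])) (.leaf ((nat_lit 236), [nat_lit 3, nat_lit 2, nat_lit 3, nat_lit 2, nat_lit 1, nat_lit 0, nat_lit 1, nat_lit 0]))) (.node (nat_lit 3190) (.leaf ((nat_lit 551), [nat_lit 1, nat_lit 3, nat_lit 0, nat_lit 1, nat_lit 0])) (.node (nat_lit 3191) (.leaf ((nat_lit 455), [nat_lit 0, nat_lit 1, nat_lit 3, nat_lit 1, nat_lit 0, nat_lit 2])) (.leaf ((nat_lit 166), [nat_lit 3, nat_lit 2, nat_lit 3, nat_lit 2, nat_lit 0, nat_lit 2])))))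
 (.node (nat_lit 3194) (.node (nat_lit 3193) (.leaf ((nat_lit 168), [nat_lit 1, nat_lit 2, nat_lit 3, nat_lit 1, nat_lit 2, nat_lit 0, nat_lit 1, nat_lit 0, nat_lit 1, nat_lit 0])) (.leaf ((nat_lit 446), [nat_lit 3, nat_lit 0, nat_lit 1, nat_lit 0]))) (.node (nat_lit 3195) (.leaf ((nat_lit 374), [nat_lit 3, nat_lit 2, nat_lit 1, nat_lit 0, nat_lit 1])) (.node (nat_lit 3196) (.leaf ((nat_lit 456), [nat_lit 3, nat_lit 2, nat_lit 3, nat_lit 0, nat_lit 2, nat_lit 1, nat_lit 0])) (.leaf ((nat_lit 511), [nat_lit 3, nat_lit 1, nat_lit 3, nat_lit 1, nat_lit 0, nat_lit 2, nat_lit 1, nat_lit 0, nat_lit 1]))))))))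
 (.node (nat_lit 3215) (.node (nat_lit 3206) (.node (nat_lit 3201) (.node (nat_lit 3199) (.node (nat_lit 3198) (.leaf ((nat_lit 288), [nat_lit 3, nat_lit 1, nat_lit 3, nat_lit 2, nat_lit 0, nat_lit 1, nat_lit 0, nat_lit 1, nat_lit 0])) (.leaf ((nat_lit 589), [nat_lit 3, nat_lit 1, nat_lit 3, nat_lit 2, nat_lit 0, nat_lit 2, nat_lit 1, nat_lit 0, nat_lit 1, nat_lit 0]))) (.node (nat_lit 3200) (.leaf ((nat_lit 511), [nat_lit 2, nat_lit 1, nat_lit 3, nat_lit 2, nat_lit 1, nat_lit 0, nat_lit 1])) (.leaf ((nat_lit 444), [nat_lit 1, nat_lit 3, nat_lit 2, nat_lit 0, nat_lit 2, nat_lit 1]))))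
 (.node (nat_lit 3203) (.node (nat_lit 3202) (.leaf ((nat_lit 168), [nat_lit 2, nat_lit 1, nat_lit 3, nat_lit 1, nat_lit 0, nat_lit 2, nat_lit 0, nat_lit 1])) (.leaf ((nat_lit 541), [nat_lit 3, nat_lit 2, nat_lit 0, nat_lit 2, nat_lit 0, nat_lit 1, nat_lit 0, nat_lit 1]))) (.node (nat_lit 3204) (.leaf ((nat_lit 402), [nat_lit 0, nat_lit 1, nat_lit 2, nat_lit 3, nat_lit 2, nat_lit 0, nat_lit 2, nat_lit 1, nat_lit 0])) (.node (nat_lit 3205) (.leaf ((nat_lit 443), [nat_lit 2, nat_lit 3, nat_lit 1, nat_lit 0, nat_lit 2, nat_lit 0, nat_lit 1, nat_lit 0])) (.leaf ((nat_lit 211), [nat_lit 3, nat_lit 2, nat_lit 0, nat_lit 2, nat_lit 0, nat_lit 1, nat_lit 0]))))))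
 (.node (nat_lit 3210) (.node (nat_lit 3208) (.node (nat_lit 3207) (.leaf ((nat_lit 653), [nat_lit 3, nat_lit 1, nat_lit 2, nat_lit 3, nat_lit 2, nat_lit 0, nat_lit 2, nat_lit 0, nat_lit 1, nat_lit 0, nat_lit 1])) (.leaf ((nat_lit 654), [nat_lit 3, nat_lit 1, nat_lit 3, nat_lit 0, nat_lit 1, nat_lit 0]))) (.node (nat_lit 3209) (.leaf ((nat_lit 568), [nat_lit 3, nat_lit 2, nat_lit 3, nat_lit 0, nat_lit 2, nat_lit 1])) (.leaf ((nat_lit 642), [nat_lit 0, nat_lit 1, nat_lit 2, nat_lit 3, nat_lit 0, nat_lit 1, nat_lit 0, nat_lit 1]))))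
 (.node (nat_lit 3212) (.node (nat_lit 3211) (.leaf ((nat_lit 467), [nat_lit 1, nat_lit 2, nat_lit 3, nat_lit 1, nat_lit 2])) (.leaf ((nat_lit 577), [nat_lit 1, nat_lit 2, nat_lit 3, nat_lit 1, nat_lit 2, nat_lit 1, nat_lit 0, nat_lit 1]))) (.node (nat_lit 3213) (.leaf ((nat_lit 168), [nat_lit 3, nat_lit 2, nat_lit 1, nat_lit 0, nat_lit 1])) (.node (nat_lit 3214) (.leaf ((nat_lit 609), [nat_lit 3, nat_lit 0, nat_lit 1, nat_lit 0, nat_lit 1])) (.leaf ((nat_lit 606), [nat_lit 1, nat_lit 3, nat_lit 1, nat_lit 0, nat_lit 2, nat_lit 1, nat_lit 0, nat_lit 1])))))))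
 (.node (nat_lit 3224) (.node (nat_lit 3219) (.node (nat_lit 3217) (.node (nat_lit 3216) (.leaf ((nat_lit 462), [nat_lit 1, nat_lit 3, nat_lit 2, nat_lit 0, nat_lit 2, nat_lit 0, nat_lit 1, nat_lit 0, nat_lit 1, nat_lit 0])) (.leaf ((nat_lit 384), [nat_lit 0, nat_lit 1, nat_lit 2, nat_lit 3, nat_lit 2, nat_lit 0]))) (.node (nat_lit 3218) (.leaf ((nat_lit 169), [nat_lit 0, nat_lit 1, nat_lit 0, nat_lit 1, nat_lit 0])) (.leaf ((nat_lit 442), [nat_lit 2, nat_lit 3, nat_lit 0, nat_lit 2, nat_lit 1, nat_lit 0, nat_lit 1]))))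
 (.node (nat_lit 3221) (.node (nat_lit 3220) (.leaf ((nat_lit 269), [nat_lit 3, nat_lit 1, nat_lit 2, nat_lit 3, nat_lit 2, nat_lit 0, nat_lit 2, nat_lit 1, nat_lit 0, nat_lit 1, nat_lit 0])) (.leaf ((nat_lit 607), [nat_lit 1, nat_lit 0, nat_lit 1, nat_lit 0]))) (.node (nat_lit 3222) (.leaf ((nat_lit 339), [nat_lit 2, nat_lit 3, nat_lit 1, nat_lit 2, nat_lit 0, nat_lit 1, nat_lit 0, nat_lit 1, nat_lit 0])) (.node (nat_lit 3223) (.leaf ((nat_lit 453), [nat_lit 1, nat_lit 2, nat_lit 3, nat_lit 0, nat_lit 2])) (.leaf ((nat_lit 383), [nat_lit 1, nat_lit 2, nat_lit 3, nat_lit 2, nat_lit 0]))))))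
 (.node (nat_lit 3229) (.node (nat_lit 3226) (.node (nat_lit 3225) (.leaf ((nat_lit 234), [nat_lit 3, nat_lit 1, nat_lit 3, nat_lit 2, nat_lit 1, nat_lit 0])) (.leaf ((nat_lit 169), [nat_lit 0, nat_lit 1, nat_lit 2, nat_lit 3, nat_lit 0, nat_lit 2, nat_lit 0, nat_lit 1, nat_lit 0, nat_lit 1]))) (.node (nat_lit 3227) (.leaf ((nat_lit 577), [nat_lit 3, nat_lit 2, nat_lit 0, nat_lit 1, nat_lit 0, nat_lit 1, nat_lit 0])) (.node (nat_lit 3228) (.leaf ((nat_lit 601), [nat_lit 0, nat_lit 1, nat_lit 3, nat_lit 2, nat_lit 0, nat_lit 1])) (.leaf ((nat_lit 467), [nat_lit 1, nat_lit 3, nat_lit 2, nat_lit 0, nat_lit 2, nat_lit 1, nat_lit 0, nat_lit 1, nat_lit 0])))))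
 (.node (nat_lit 3231) (.node (nat_lit 3230) (.leaf ((nat_lit 599), [nat_lit 3, nat_lit 1, nat_lit 2, nat_lit 3, nat_lit 0, nat_lit 2, nat_lit 1, nat_lit 0, nat_lit 1, nat_lit 0])) (.leaf ((nat_lit 535), [nat_lit 0, nat_lit 1, nat_lit 3, nat_lit 1, nat_lit 2, nat_lit 0]))) (.node (nat_lit 3232) (.leaf ((nat_lit 529), [nat_lit 2, nat_lit 3, nat_lit 1, nat_lit 2])) (.node (nat_lit 3233) (.leaf ((nat_lit 453), [nat_lit 1, nat_lit 3, nat_lit 2, nat_lit 1, nat_lit 0, nat_lit 1, nat_lit 0])) (.leaf ((nat_lit 171), [nat_lit 3, nat_lit 2, nat_lit 3, nat_lit 2, nat_lit 0, nat_lit 1, nat_lit 0, nat_lit 1]))))))))))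
noncomputable def bWd_22 : Tr (ℕ × List ℕ) := (.node (nat_lit 3307) (.node (nat_lit 3270) (.node (nat_lit 3252) (.node (nat_lit 3243) (.node (nat_lit 3238) (.node (nat_lit 3236) (.node (nat_lit 3235) (.leaf ((nat_lit 172), [nat_lit 0, nat_lit 1, nat_lit 3, nat_lit 0, nat_lit 2, nat_lit 1, nat_lit 0])) (.leaf ((nat_lit 386), [nat_lit 3, nat_lit 1, nat_lit 2, nat_lit 3, nat_lit 0, nat_lit 1]))) (.node (nat_lit 3237) (.leaf ((nat_lit 459), [nat_lit 3, nat_lit 2, nat_lit 3, nat_lit 1, nat_lit 2, nat_lit 0, nat_lit 1, nat_lit 0, nat_lit 1])) (.leaf ((nat_lit 478), [nat_lit 3, nat_lit 1, nat_lit 0, nat_lit 2, nat_lit 0, nat_lit 1, nat_lit 0]))))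
 (.node (nat_lit 3240) (.node (nat_lit 3239) (.leaf ((nat_lit 280), [nat_lit 2, nat_lit 0, nat_lit 2, nat_lit 0, nat_lit 1, nat_lit 0, nat_lit 1])) (.leaf ((nat_lit 476), [nat_lit 3, nat_lit 1, nat_lit 3, nat_lit 0, nat_lit 1, nat_lit 0]))) (.node (nat_lit 3241) (.leaf ((nat_lit 178), [nat_lit 1, nat_lit 0, nat_lit 2, nat_lit 0, nat_lit 1, nat_lit 0])) (.node (nat_lit 3242) (.leaf ((nat_lit 620), [nat_lit 0, nat_lit 1, nat_lit 3, nat_lit 2, nat_lit 0, nat_lit 2, nat_lit 0, nat_lit 1])) (.leaf ((nat_lit 478), [nat_lit 0, nat_lit 1, nat_lit 2, nat_lit 3, nat_lit 0, nat_lit 2, nat_lit 0, nat_lit 1, nat_lit 0, nat_lit 1]))))))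
 (.node (nat_lit 3247) (.node (nat_lit 3245) (.node (nat_lit 3244) (.leaf ((nat_lit 172), [nat_lit 3, nat_lit 1])) (.leaf ((nat_lit 332), [nat_lit 0, nat_lit 2, nat_lit 0, nat_lit 1]))) (.node (nat_lit 3246) (.leaf ((nat_lit 463), [nat_lit 0, nat_lit 1, nat_lit 2, nat_lit 3, nat_lit 1, nat_lit 2, nat_lit 0, nat_lit 1, nat_lit 0, nat_lit 1])) (.leaf ((nat_lit 551), [nat_lit 1, nat_lit 2, nat_lit 3, nat_lit 1, nat_lit 0, nat_lit 2, nat_lit 1, nat_lit 0]))))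
 (.node (nat_lit 3249) (.node (nat_lit 3248) (.leaf ((nat_lit 471), [nat_lit 3, nat_lit 1, nat_lit 2, nat_lit 3])) (.leaf ((nat_lit 370), [nat_lit 1, nat_lit 2, nat_lit 3, nat_lit 1, nat_lit 0, nat_lit 1, nat_lit 0]))) (.node (nat_lit 3250) (.leaf ((nat_lit 356), [nat_lit 3, nat_lit 0, nat_lit 2, nat_lit 0, nat_lit 1])) (.node (nat_lit 3251) (.leaf ((nat_lit 332), [nat_lit 3, nat_lit 1, nat_lit 0, nat_lit 1, nat_lit 0])) (.leaf ((nat_lit 172), [nat_lit 2, nat_lit 1, nat_lit 3, nat_lit 2])))))))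
 (.node (nat_lit 3261) (.node (nat_lit 3256) (.node (nat_lit 3254) (.node (nat_lit 3253) (.leaf ((nat_lit 326), [nat_lit 2, nat_lit 1, nat_lit 3, nat_lit 0, nat_lit 2, nat_lit 0, nat_lit 1, nat_lit 0])) (.leaf ((nat_lit 440), [nat_lit 1, nat_lit 3, nat_lit 0, nat_lit 2, nat_lit 1, nat_lit 0, nat_lit 1, nat_lit 0]))) (.node (nat_lit 3255) (.leaf ((nat_lit 548), [nat_lit 3, nat_lit 2, nat_lit 3, nat_lit 1, nat_lit 0, nat_lit 1])) (.leaf ((nat_lit 655), [nat_lit 1, nat_lit 2, nat_lit 3, nat_lit 1, nat_lit 0, nat_lit 2, nat_lit 0, nat_lit 1, nat_lit 0]))))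
 (.node (nat_lit 3258) (.node (nat_lit 3257) (.leaf ((nat_lit 505), [nat_lit 2, nat_lit 0, nat_lit 1, nat_lit 0])) (.leaf ((nat_lit 552), [nat_lit 3, nat_lit 1, nat_lit 2, nat_lit 3, nat_lit 2, nat_lit 0, nat_lit 2, nat_lit 0, nat_lit 1, nat_lit 0, nat_lit 1, nat_lit 0]))) (.node (nat_lit 3259) (.leaf ((nat_lit 552), [nat_lit 3, nat_lit 2, nat_lit 3, nat_lit 0, nat_lit 1, nat_lit 0, nat_lit 1])) (.node (nat_lit 3260) (.leaf ((nat_lit 327), [nat_lit 3, nat_lit 2])) (.leaf ((nat_lit 172), [nat_lit 3, nat_lit 1, nat_lit 3, nat_lit 1, nat_lit 0, nat_lit 2, nat_lit 0, nat_lit 1]))))))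
 (.node (nat_lit 3265) (.node (nat_lit 3263) (.node (nat_lit 3262) (.leaf ((nat_lit 453), [nat_lit 3, nat_lit 1, nat_lit 2, nat_lit 3, nat_lit 2, nat_lit 0, nat_lit 1, nat_lit 0, nat_lit 1])) (.leaf ((nat_lit 173), [nat_lit 1, nat_lit 2, nat_lit 3, nat_lit 1, nat_lit 2, nat_lit 1, nat_lit 0]))) (.node (nat_lit 3264) (.leaf ((nat_lit 310), [nat_lit 3, nat_lit 1, nat_lit 2, nat_lit 3, nat_lit 1, nat_lit 2])) (.leaf ((nat_lit 364), [nat_lit 0, nat_lit 1, nat_lit 3, nat_lit 2, nat_lit 0, nat_lit 2, nat_lit 0, nat_lit 1]))))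
 (.node (nat_lit 3267) (.node (nat_lit 3266) (.leaf ((nat_lit 184), [nat_lit 2, nat_lit 3, nat_lit 1])) (.leaf ((nat_lit 352), [nat_lit 2, nat_lit 3, nat_lit 2, nat_lit 0, nat_lit 1]))) (.node (nat_lit 3268) (.leaf ((nat_lit 389), [nat_lit 0, nat_lit 1, nat_lit 2, nat_lit 3, nat_lit 1, nat_lit 0, nat_lit 1, nat_lit 0])) (.node (nat_lit 3269) (.leaf ((nat_lit 235), [nat_lit 0, nat_lit 1, nat_lit 2, nat_lit 3, nat_lit 0, nat_lit 2, nat_lit 0, nat_lit 1])) (.leaf ((nat_lit 461), [nat_lit 0, nat_lit 1, nat_lit 3, nat_lit 2, nat_lit 0, nat_lit 2, nat_lit 1, nat_lit 0, nat_lit 1]))))))))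
 (.node (nat_lit 3288) (.node (nat_lit 3279) (.node (nat_lit 3274) (.node (nat_lit 3272) (.node (nat_lit 3271) (.leaf ((nat_lit 601), [nat_lit 2, nat_lit 1, nat_lit 3, nat_lit 1, nat_lit 0, nat_lit 2, nat_lit 1, nat_lit 0])) (.leaf ((nat_lit 454), [nat_lit 2, nat_lit 3, nat_lit 1, nat_lit 0, nat_lit 2, nat_lit 1]))) (.node (nat_lit 3273) (.leaf ((nat_lit 328), [nat_lit 2, nat_lit 0, nat_lit 2, nat_lit 1, nat_lit 0, nat_lit 1, nat_lit 0])) (.leaf ((nat_lit 458), [nat_lit 2, nat_lit 1, nat_lit 3, nat_lit 2, nat_lit 1]))))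
 (.node (nat_lit 3276) (.node (nat_lit 3275) (.leaf ((nat_lit 531), [nat_lit 3, nat_lit 1, nat_lit 2, nat_lit 3, nat_lit 0, nat_lit 2, nat_lit 0])) (.leaf ((nat_lit 174), [nat_lit 3, nat_lit 2, nat_lit 3, nat_lit 1, nat_lit 0, nat_lit 2]))) (.node (nat_lit 3277) (.leaf ((nat_lit 333), [nat_lit 0, nat_lit 2])) (.node (nat_lit 3278) (.leaf ((nat_lit 603), [nat_lit 0, nat_lit 1, nat_lit 2, nat_lit 3, nat_lit 1, nat_lit 0])) (.leaf ((nat_lit 562), [nat_lit 2, nat_lit 3, nat_lit 1, nat_lit 2, nat_lit 1, nat_lit 0, nat_lit 1]))))))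
 (.node (nat_lit 3283) (.node (nat_lit 3281) (.node (nat_lit 3280) (.leaf ((nat_lit 471), [nat_lit 1, nat_lit 2, nat_lit 1, nat_lit 0, nat_lit 1, nat_lit 0])) (.leaf ((nat_lit 175), [nat_lit 2, nat_lit 1, nat_lit 3, nat_lit 0, nat_lit 1, nat_lit 0]))) (.node (nat_lit 3282) (.leaf ((nat_lit 413), [nat_lit 3, nat_lit 2, nat_lit 3, nat_lit 1, nat_lit 2, nat_lit 1, nat_lit 0, nat_lit 1, nat_lit 0])) (.leaf ((nat_lit 332), [nat_lit 3, nat_lit 1, nat_lit 2, nat_lit 3, nat_lit 1, nat_lit 0, nat_lit 2, nat_lit 1, nat_lit 0, nat_lit 1]))))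
 (.node (nat_lit 3285) (.node (nat_lit 3284) (.leaf ((nat_lit 178), [nat_lit 1, nat_lit 3, nat_lit 1, nat_lit 2, nat_lit 0, nat_lit 1, nat_lit 0, nat_lit 1, nat_lit 0])) (.leaf ((nat_lit 355), [nat_lit 1, nat_lit 3, nat_lit 1, nat_lit 0, nat_lit 1]))) (.node (nat_lit 3286) (.leaf ((nat_lit 227), [nat_lit 0, nat_lit 1, nat_lit 3, nat_lit 2, nat_lit 0, nat_lit 2, nat_lit 0, nat_lit 1, nat_lit 0])) (.node (nat_lit 3287) (.leaf ((nat_lit 223), [nat_lit 1, nat_lit 3, nat_lit 1, nat_lit 0, nat_lit 1])) (.leaf ((nat_lit 333), [nat_lit 1, nat_lit 2, nat_lit 1])))))))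
 (.node (nat_lit 3297) (.node (nat_lit 3292) (.node (nat_lit 3290) (.node (nat_lit 3289) (.leaf ((nat_lit 489), [nat_lit 2, nat_lit 1, nat_lit 3, nat_lit 2, nat_lit 0, nat_lit 2, nat_lit 0])) (.leaf ((nat_lit 175), [nat_lit 0, nat_lit 1, nat_lit 3, nat_lit 2, nat_lit 1, nat_lit 0, nat_lit 1, nat_lit 0]))) (.node (nat_lit 3291) (.leaf ((nat_lit 472), [nat_lit 3, nat_lit 1, nat_lit 2, nat_lit 1, nat_lit 0])) (.leaf ((nat_lit 562), [nat_lit 3, nat_lit 1, nat_lit 2, nat_lit 0, nat_lit 1, nat_lit 0, nat_lit 1, nat_lit 0]))))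
 (.node (nat_lit 3294) (.node (nat_lit 3293) (.leaf ((nat_lit 358), [nat_lit 2, nat_lit 1, nat_lit 3, nat_lit 1, nat_lit 0, nat_lit 2, nat_lit 1, nat_lit 0, nat_lit 1])) (.leaf ((nat_lit 451), [nat_lit 2, nat_lit 3, nat_lit 2, nat_lit 0, nat_lit 2, nat_lit 1, nat_lit 0, nat_lit 1]))) (.node (nat_lit 3295) (.leaf ((nat_lit 199), [nat_lit 2, nat_lit 1, nat_lit 3, nat_lit 0, nat_lit 2])) (.node (nat_lit 3296) (.leaf ((nat_lit 355), [nat_lit 3, nat_lit 2, nat_lit 3])) (.leaf ((nat_lit 181), [nat_lit 3, nat_lit 1, nat_lit 2, nat_lit 3, nat_lit 1, nat_lit 2, nat_lit 0]))))))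
 (.node (nat_lit 3302) (.node (nat_lit 3299) (.node (nat_lit 3298) (.leaf ((nat_lit 182), [nat_lit 3, nat_lit 2, nat_lit 3, nat_lit 0, nat_lit 1, nat_lit 0, nat_lit 1])) (.leaf ((nat_lit 451), []))) (.node (nat_lit 3300) (.leaf ((nat_lit 333), [nat_lit 1, nat_lit 2, nat_lit 3, nat_lit 2, nat_lit 0, nat_lit 2])) (.node (nat_lit 3301) (.leaf ((nat_lit 468), [nat_lit 0, nat_lit 2, nat_lit 1, nat_lit 0])) (.leaf ((nat_lit 227), [nat_lit 2, nat_lit 1, nat_lit 3, nat_lit 0, nat_lit 2, nat_lit 0])))))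
 (.node (nat_lit 3304) (.node (nat_lit 3303) (.leaf ((nat_lit 471), [nat_lit 0, nat_lit 1, nat_lit 3, nat_lit 1, nat_lit 0, nat_lit 2, nat_lit 0, nat_lit 1, nat_lit 0, nat_lit 1, nat_lit 0])) (.leaf ((nat_lit 463), [nat_lit 2, nat_lit 1, nat_lit 3, nat_lit 0, nat_lit 1, nat_lit 0, nat_lit 1, nat_lit 0]))) (.node (nat_lit 3305) (.leaf ((nat_lit 562), [nat_lit 0, nat_lit 1, nat_lit 3, nat_lit 2, nat_lit 0, nat_lit 2, nat_lit 1, nat_lit 0, nat_lit 1, nat_lit 0])) (.node (nat_lit 3306) (.leaf ((nat_lit 470), [nat_lit 3, nat_lit 1, nat_lit 3, nat_lit 1, nat_lit 0, nat_lit 2, nat_lit 0])) (.leaf ((nat_lit 182), [nat_lit 2, nat_lit 1, nat_lit 0, nat_lit 1])))))))))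
 (.node (nat_lit 3344) (.node (nat_lit 3325) (.node (nat_lit 3316) (.node (nat_lit 3311) (.node (nat_lit 3309) (.node (nat_lit 3308) (.leaf ((nat_lit 225), [nat_lit 0, nat_lit 1, nat_lit 2, nat_lit 3, nat_lit 1, nat_lit 0, nat_lit 2, nat_lit 0, nat_lit 1])) (.leaf ((nat_lit 491), [nat_lit 2, nat_lit 0, nat_lit 1]))) (.node (nat_lit 3310) (.leaf ((nat_lit 245), [nat_lit 3, nat_lit 1, nat_lit 3, nat_lit 2, nat_lit 0, nat_lit 1])) (.leaf ((nat_lit 307), [nat_lit 1, nat_lit 0, nat_lit 2]))))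
 (.node (nat_lit 3313) (.node (nat_lit 3312) (.leaf ((nat_lit 522), [nat_lit 3, nat_lit 1, nat_lit 2, nat_lit 3, nat_lit 1, nat_lit 0, nat_lit 1])) (.leaf ((nat_lit 262), [nat_lit 3, nat_lit 2, nat_lit 3, nat_lit 1, nat_lit 0, nat_lit 2, nat_lit 1, nat_lit 0, nat_lit 1]))) (.node (nat_lit 3314) (.leaf ((nat_lit 248), [nat_lit 3, nat_lit 1, nat_lit 3, nat_lit 2, nat_lit 0, nat_lit 2, nat_lit 0, nat_lit 1, nat_lit 0, nat_lit 1, nat_lit 0])) (.node (nat_lit 3315) (.leaf ((nat_lit 318), [nat_lit 3, nat_lit 2, nat_lit 3, nat_lit 1, nat_lit 0, nat_lit 1])) (.leaf ((nat_lit 435), [nat_lit 2, nat_lit 3, nat_lit 2, nat_lit 0]))))))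
 (.node (nat_lit 3320) (.node (nat_lit 3318) (.node (nat_lit 3317) (.leaf ((nat_lit 182), [nat_lit 0, nat_lit 1, nat_lit 2, nat_lit 3, nat_lit 2, nat_lit 0, nat_lit 2, nat_lit 1, nat_lit 0, nat_lit 1, nat_lit 0])) (.leaf ((nat_lit 616), [nat_lit 0, nat_lit 2, nat_lit 0, nat_lit 1, nat_lit 0, nat_lit 1]))) (.node (nat_lit 3319) (.leaf ((nat_lit 193), [nat_lit 1, nat_lit 2, nat_lit 3, nat_lit 1, nat_lit 0, nat_lit 1])) (.leaf ((nat_lit 206), [nat_lit 3, nat_lit 2, nat_lit 3, nat_lit 1, nat_lit 0, nat_lit 1, nat_lit 0]))))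
 (.node (nat_lit 3322) (.node (nat_lit 3321) (.leaf ((nat_lit 219), [nat_lit 1, nat_lit 2, nat_lit 3, nat_lit 2, nat_lit 1, nat_lit 0, nat_lit 1])) (.leaf ((nat_lit 214), [nat_lit 2, nat_lit 3, nat_lit 1, nat_lit 2, nat_lit 1, nat_lit 0, nat_lit 1, nat_lit 0]))) (.node (nat_lit 3323) (.leaf ((nat_lit 364), [nat_lit 3, nat_lit 0])) (.node (nat_lit 3324) (.leaf ((nat_lit 184), [nat_lit 0, nat_lit 1, nat_lit 3, nat_lit 2, nat_lit 0, nat_lit 2, nat_lit 0, nat_lit 1, nat_lit 0, nat_lit 1, nat_lit 0])) (.leaf ((nat_lit 506), [nat_lit 2, nat_lit 3, nat_lit 2, nat_lit 0])))))))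
 (.node (nat_lit 3334) (.node (nat_lit 3329) (.node (nat_lit 3327) (.node (nat_lit 3326) (.leaf ((nat_lit 276), [nat_lit 3, nat_lit 2, nat_lit 3, nat_lit 2, nat_lit 1])) (.leaf ((nat_lit 560), [nat_lit 0, nat_lit 1, nat_lit 2, nat_lit 3, nat_lit 0, nat_lit 1]))) (.node (nat_lit 3328) (.leaf ((nat_lit 655), [nat_lit 0, nat_lit 1, nat_lit 2, nat_lit 3, nat_lit 1, nat_lit 2, nat_lit 0, nat_lit 1, nat_lit 0, nat_lit 1])) (.leaf ((nat_lit 481), [nat_lit 2, nat_lit 3, nat_lit 0, nat_lit 2, nat_lit 0, nat_lit 1, nat_lit 0, nat_lit 1]))))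
 (.node (nat_lit 3331) (.node (nat_lit 3330) (.leaf ((nat_lit 475), [nat_lit 1, nat_lit 3, nat_lit 1, nat_lit 0, nat_lit 2, nat_lit 0, nat_lit 1, nat_lit 0, nat_lit 1])) (.leaf ((nat_lit 656), [nat_lit 2, nat_lit 1, nat_lit 3, nat_lit 0, nat_lit 2, nat_lit 0]))) (.node (nat_lit 3332) (.leaf ((nat_lit 185), [nat_lit 1, nat_lit 3, nat_lit 1, nat_lit 0, nat_lit 2])) (.node (nat_lit 3333) (.leaf ((nat_lit 514), [nat_lit 1, nat_lit 3, nat_lit 0, nat_lit 1, nat_lit 0, nat_lit 1])) (.leaf ((nat_lit 557), [nat_lit 3, nat_lit 1, nat_lit 3, nat_lit 1, nat_lit 2, nat_lit 0, nat_lit 1]))))))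
 (.node (nat_lit 3339) (.node (nat_lit 3336) (.node (nat_lit 3335) (.leaf ((nat_lit 614), [nat_lit 3, nat_lit 1, nat_lit 2, nat_lit 3, nat_lit 0, nat_lit 2, nat_lit 1, nat_lit 0])) (.leaf ((nat_lit 657), [nat_lit 3, nat_lit 1, nat_lit 0, nat_lit 2, nat_lit 0, nat_lit 1, nat_lit 0, nat_lit 1, nat_lit 0]))) (.node (nat_lit 3337) (.leaf ((nat_lit 186), [nat_lit 3, nat_lit 1, nat_lit 2, nat_lit 3, nat_lit 2])) (.node (nat_lit 3338) (.leaf ((nat_lit 462), [nat_lit 2, nat_lit 3, nat_lit 2, nat_lit 0, nat_lit 1])) (.leaf ((nat_lit 297), [nat_lit 3, nat_lit 1, nat_lit 2, nat_lit 1, nat_lit 0, nat_lit 1])))))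
 (.node (nat_lit 3341) (.node (nat_lit 3340) (.leaf ((nat_lit 537), [nat_lit 0, nat_lit 1, nat_lit 0, nat_lit 1, nat_lit 0])) (.leaf ((nat_lit 258), [nat_lit 0, nat_lit 1, nat_lit 2, nat_lit 3, nat_lit 2, nat_lit 0, nat_lit 1, nat_lit 0, nat_lit 1, nat_lit 0]))) (.node (nat_lit 3342) (.leaf ((nat_lit 621), [nat_lit 0, nat_lit 1, nat_lit 2, nat_lit 3, nat_lit 0, nat_lit 2, nat_lit 0, nat_lit 1, nat_lit 0, nat_lit 1])) (.node (nat_lit 3343) (.leaf ((nat_lit 409), [nat_lit 3, nat_lit 1, nat_lit 2, nat_lit 3, nat_lit 1, nat_lit 2, nat_lit 0, nat_lit 1, nat_lit 0, nat_lit 1])) (.leaf ((nat_lit 431), [nat_lit 1, nat_lit 3, nat_lit 1, nat_lit 0, nat_lit 2, nat_lit 1, nat_lit 0, nat_lit 1]))))))))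
 (.node (nat_lit 3362) (.node (nat_lit 3353) (.node (nat_lit 3348) (.node (nat_lit 3346) (.node (nat_lit 3345) (.leaf ((nat_lit 186), [nat_lit 2, nat_lit 1, nat_lit 3, nat_lit 0, nat_lit 2])) (.leaf ((nat_lit 405), [nat_lit 3, nat_lit 2, nat_lit 3, nat_lit 2, nat_lit 1, nat_lit 0, nat_lit 1]))) (.node (nat_lit 3347) (.leaf ((nat_lit 463), [nat_lit 2, nat_lit 1, nat_lit 3, nat_lit 2, nat_lit 1, nat_lit 0, nat_lit 1])) (.leaf ((nat_lit 620), [nat_lit 0, nat_lit 1, nat_lit 2, nat_lit 3, nat_lit 1, nat_lit 0, nat_lit 2, nat_lit 0, nat_lit 1, nat_lit 0]))))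
 (.node (nat_lit 3350) (.node (nat_lit 3349) (.leaf ((nat_lit 384), [nat_lit 3, nat_lit 1, nat_lit 2, nat_lit 3, nat_lit 2, nat_lit 0, nat_lit 1, nat_lit 0])) (.leaf ((nat_lit 462), [nat_lit 3, nat_lit 1, nat_lit 0, nat_lit 2, nat_lit 0, nat_lit 1, nat_lit 0]))) (.node (nat_lit 3351) (.leaf ((nat_lit 487), [nat_lit 1, nat_lit 3, nat_lit 1, nat_lit 0, nat_lit 2, nat_lit 1, nat_lit 0])) (.node (nat_lit 3352) (.leaf ((nat_lit 334), [nat_lit 3, nat_lit 0, nat_lit 1, nat_lit 0])) (.leaf ((nat_lit 186), [nat_lit 0, nat_lit 1, nat_lit 2, nat_lit 3, nat_lit 1, nat_lit 0, nat_lit 2, nat_lit 0, nat_lit 1]))))))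
 (.node (nat_lit 3357) (.node (nat_lit 3355) (.node (nat_lit 3354) (.leaf ((nat_lit 189), [nat_lit 2, nat_lit 1, nat_lit 3, nat_lit 2, nat_lit 0, nat_lit 2])) (.leaf ((nat_lit 218), [nat_lit 3, nat_lit 1, nat_lit 2, nat_lit 3, nat_lit 1, nat_lit 0, nat_lit 2, nat_lit 1, nat_lit 0]))) (.node (nat_lit 3356) (.leaf ((nat_lit 485), [nat_lit 3, nat_lit 1, nat_lit 2, nat_lit 0, nat_lit 1, nat_lit 0, nat_lit 1])) (.leaf ((nat_lit 479), [nat_lit 3, nat_lit 1, nat_lit 2, nat_lit 3, nat_lit 2, nat_lit 0, nat_lit 1, nat_lit 0, nat_lit 1]))))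
 (.node (nat_lit 3359) (.node (nat_lit 3358) (.leaf ((nat_lit 407), [nat_lit 3, nat_lit 1, nat_lit 3, nat_lit 2, nat_lit 0, nat_lit 2, nat_lit 0, nat_lit 1, nat_lit 0])) (.leaf ((nat_lit 649), [nat_lit 1, nat_lit 2, nat_lit 3, nat_lit 2, nat_lit 1, nat_lit 0, nat_lit 1]))) (.node (nat_lit 3360) (.leaf ((nat_lit 527), [nat_lit 3, nat_lit 1, nat_lit 3, nat_lit 1, nat_lit 2, nat_lit 1])) (.node (nat_lit 3361) (.leaf ((nat_lit 658), [nat_lit 1, nat_lit 2, nat_lit 3, nat_lit 2, nat_lit 1])) (.leaf ((nat_lit 538), [nat_lit 3, nat_lit 2, nat_lit 3, nat_lit 0, nat_lit 1])))))))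
 (.node (nat_lit 3371) (.node (nat_lit 3366) (.node (nat_lit 3364) (.node (nat_lit 3363) (.leaf ((nat_lit 629), [nat_lit 3, nat_lit 1, nat_lit 2, nat_lit 3, nat_lit 2, nat_lit 0, nat_lit 2, nat_lit 1])) (.leaf ((nat_lit 628), [nat_lit 1, nat_lit 2, nat_lit 3, nat_lit 1, nat_lit 0, nat_lit 2]))) (.node (nat_lit 3365) (.leaf ((nat_lit 533), [nat_lit 3, nat_lit 1, nat_lit 2, nat_lit 3, nat_lit 0, nat_lit 2])) (.leaf ((nat_lit 189), [nat_lit 2, nat_lit 3, nat_lit 2, nat_lit 1, nat_lit 0, nat_lit 1, nat_lit 0]))))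
 (.node (nat_lit 3368) (.node (nat_lit 3367) (.leaf ((nat_lit 318), [nat_lit 2, nat_lit 1, nat_lit 3, nat_lit 0, nat_lit 2, nat_lit 0, nat_lit 1])) (.leaf ((nat_lit 504), [nat_lit 3, nat_lit 1, nat_lit 2, nat_lit 3, nat_lit 0, nat_lit 2, nat_lit 0, nat_lit 1, nat_lit 0]))) (.node (nat_lit 3369) (.leaf ((nat_lit 550), [nat_lit 3, nat_lit 2, nat_lit 0, nat_lit 2, nat_lit 1])) (.node (nat_lit 3370) (.leaf ((nat_lit 516), [nat_lit 3, nat_lit 1, nat_lit 3, nat_lit 1, nat_lit 0, nat_lit 2, nat_lit 0])) (.leaf ((nat_lit 475), [nat_lit 2, nat_lit 1, nat_lit 3, nat_lit 2, nat_lit 0, nat_lit 1, nat_lit 0, nat_lit 1, nat_lit 0]))))))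
 (.node (nat_lit 3376) (.node (nat_lit 3373) (.node (nat_lit 3372) (.leaf ((nat_lit 312), [nat_lit 0, nat_lit 1, nat_lit 2, nat_lit 3, nat_lit 1, nat_lit 2, nat_lit 0])) (.leaf ((nat_lit 569), [nat_lit 3, nat_lit 1, nat_lit 3, nat_lit 2, nat_lit 0, nat_lit 2, nat_lit 0, nat_lit 1, nat_lit 0]))) (.node (nat_lit 3374) (.leaf ((nat_lit 189), [nat_lit 1, nat_lit 0, nat_lit 2, nat_lit 1])) (.node (nat_lit 3375) (.leaf ((nat_lit 483), [nat_lit 0, nat_lit 1, nat_lit 2, nat_lit 3, nat_lit 1, nat_lit 0, nat_lit 2, nat_lit 0, nat_lit 1, nat_lit 0, nat_lit 1, nat_lit 0])) (.leaf ((nat_lit 190), [nat_lit 2, nat_lit 1, nat_lit 3, nat_lit 1, nat_lit 2, nat_lit 1])))))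
 (.node (nat_lit 3378) (.node (nat_lit 3377) (.leaf ((nat_lit 505), [nat_lit 2, nat_lit 3, nat_lit 2, nat_lit 0, nat_lit 2, nat_lit 0, nat_lit 1, nat_lit 0, nat_lit 1, nat_lit 0])) (.leaf ((nat_lit 504), [nat_lit 2, nat_lit 3, nat_lit 0, nat_lit 2, nat_lit 0]))) (.node (nat_lit 3379) (.leaf ((nat_lit 337), [nat_lit 3, nat_lit 1, nat_lit 3, nat_lit 2, nat_lit 0, nat_lit 2, nat_lit 0, nat_lit 1, nat_lit 0])) (.node (nat_lit 3380) (.leaf ((nat_lit 645), [nat_lit 0, nat_lit 1, nat_lit 2, nat_lit 3, nat_lit 2, nat_lit 1, nat_lit 0, nat_lit 1, nat_lit 0])) (.leaf ((nat_lit 580), [nat_lit 3, nat_lit 2, nat_lit 3, nat_lit 0, nat_lit 2]))))))))))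
noncomputable def bWd_23 : Tr (ℕ × List ℕ) := (.node (nat_lit 3454) (.node (nat_lit 3417) (.node (nat_lit 3399) (.node (nat_lit 3390) (.node (nat_lit 3385) (.node (nat_lit 3383) (.node (nat_lit 3382) (.leaf ((nat_lit 190), [nat_lit 3, nat_lit 2, nat_lit 3, nat_lit 2, nat_lit 0, nat_lit 1])) (.leaf ((nat_lit 482), [nat_lit 0, nat_lit 1, nat_lit 3, nat_lit 1, nat_lit 2, nat_lit 0, nat_lit 1, nat_lit 0, nat_lit 1]))) (.node (nat_lit 3384) (.leaf ((nat_lit 560), [nat_lit 2, nat_lit 3, nat_lit 1, nat_lit 2, nat_lit 1])) (.leaf ((nat_lit 560), [nat_lit 2, nat_lit 3, nat_lit 2, nat_lit 0, nat_lit 2, nat_lit 0, nat_lit 1, nat_lit 0, nat_lit 1]))))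
 (.node (nat_lit 3387) (.node (nat_lit 3386) (.leaf ((nat_lit 514), [nat_lit 3, nat_lit 1, nat_lit 2, nat_lit 3, nat_lit 1, nat_lit 0, nat_lit 2, nat_lit 1, nat_lit 0])) (.leaf ((nat_lit 425), [nat_lit 3, nat_lit 1, nat_lit 3, nat_lit 2, nat_lit 0, nat_lit 2, nat_lit 0, nat_lit 1, nat_lit 0, nat_lit 1, nat_lit 0]))) (.node (nat_lit 3388) (.leaf ((nat_lit 657), [nat_lit 1, nat_lit 3, nat_lit 1, nat_lit 2, nat_lit 1])) (.node (nat_lit 3389) (.leaf ((nat_lit 495), [nat_lit 3, nat_lit 1, nat_lit 2, nat_lit 3, nat_lit 0, nat_lit 2, nat_lit 1, nat_lit 0, nat_lit 1])) (.leaf ((nat_lit 552), [nat_lit 1, nat_lit 2, nat_lit 3, nat_lit 1, nat_lit 0, nat_lit 2]))))))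
 (.node (nat_lit 3394) (.node (nat_lit 3392) (.node (nat_lit 3391) (.leaf ((nat_lit 190), [nat_lit 2, nat_lit 3, nat_lit 1, nat_lit 2, nat_lit 1, nat_lit 0, nat_lit 1, nat_lit 0])) (.leaf ((nat_lit 363), [nat_lit 2, nat_lit 1, nat_lit 3, nat_lit 2, nat_lit 0, nat_lit 2, nat_lit 0]))) (.node (nat_lit 3393) (.leaf ((nat_lit 609), [nat_lit 3, nat_lit 0, nat_lit 1, nat_lit 0])) (.leaf ((nat_lit 558), [nat_lit 0, nat_lit 2, nat_lit 0]))))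
 (.node (nat_lit 3396) (.node (nat_lit 3395) (.leaf ((nat_lit 295), [nat_lit 0, nat_lit 1, nat_lit 2, nat_lit 3, nat_lit 0, nat_lit 1])) (.leaf ((nat_lit 238), [nat_lit 3, nat_lit 2, nat_lit 3, nat_lit 1, nat_lit 0, nat_lit 2, nat_lit 0, nat_lit 1, nat_lit 0, nat_lit 1]))) (.node (nat_lit 3397) (.leaf ((nat_lit 191), [nat_lit 0, nat_lit 1, nat_lit 2, nat_lit 3, nat_lit 0, nat_lit 2])) (.node (nat_lit 3398) (.leaf ((nat_lit 479), [nat_lit 0, nat_lit 1, nat_lit 2, nat_lit 3, nat_lit 1, nat_lit 0, nat_lit 2, nat_lit 0, nat_lit 1, nat_lit 0])) (.leaf ((nat_lit 485), [nat_lit 3, nat_lit 1, nat_lit 2, nat_lit 3, nat_lit 2, nat_lit 0, nat_lit 2, nat_lit 1, nat_lit 0, nat_lit 1])))))))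
 (.node (nat_lit 3408) (.node (nat_lit 3403) (.node (nat_lit 3401) (.node (nat_lit 3400) (.leaf ((nat_lit 607), [nat_lit 0, nat_lit 1, nat_lit 2, nat_lit 3, nat_lit 2, nat_lit 0, nat_lit 1, nat_lit 0, nat_lit 1])) (.leaf ((nat_lit 659), [nat_lit 2, nat_lit 3, nat_lit 0, nat_lit 2, nat_lit 0, nat_lit 1]))) (.node (nat_lit 3402) (.leaf ((nat_lit 338), [nat_lit 2, nat_lit 1, nat_lit 3, nat_lit 1, nat_lit 2, nat_lit 1, nat_lit 0])) (.leaf ((nat_lit 516), [nat_lit 3, nat_lit 1, nat_lit 2, nat_lit 3, nat_lit 1, nat_lit 0, nat_lit 2]))))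
 (.node (nat_lit 3405) (.node (nat_lit 3404) (.leaf ((nat_lit 277), [nat_lit 2, nat_lit 3, nat_lit 1, nat_lit 2, nat_lit 0])) (.leaf ((nat_lit 371), [nat_lit 3, nat_lit 1, nat_lit 3, nat_lit 0, nat_lit 2, nat_lit 0, nat_lit 1, nat_lit 0, nat_lit 1]))) (.node (nat_lit 3406) (.leaf ((nat_lit 371), [nat_lit 3, nat_lit 1, nat_lit 3, nat_lit 0, nat_lit 2, nat_lit 0, nat_lit 1, nat_lit 0, nat_lit 1, nat_lit 0])) (.node (nat_lit 3407) (.leaf ((nat_lit 191), [nat_lit 3, nat_lit 1, nat_lit 0, nat_lit 2, nat_lit 1, nat_lit 0, nat_lit 1, nat_lit 0])) (.leaf ((nat_lit 345), [nat_lit 1, nat_lit 2, nat_lit 3, nat_lit 2, nat_lit 0, nat_lit 2]))))))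
 (.node (nat_lit 3412) (.node (nat_lit 3410) (.node (nat_lit 3409) (.leaf ((nat_lit 245), [nat_lit 2, nat_lit 1, nat_lit 3, nat_lit 2, nat_lit 0, nat_lit 2, nat_lit 0, nat_lit 1, nat_lit 0])) (.leaf ((nat_lit 657), [nat_lit 3, nat_lit 0, nat_lit 2, nat_lit 0, nat_lit 1, nat_lit 0, nat_lit 1]))) (.node (nat_lit 3411) (.leaf ((nat_lit 558), [nat_lit 3, nat_lit 2, nat_lit 0, nat_lit 2, nat_lit 0])) (.leaf ((nat_lit 514), [nat_lit 2, nat_lit 1, nat_lit 3, nat_lit 1, nat_lit 2, nat_lit 0, nat_lit 1]))))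
 (.node (nat_lit 3414) (.node (nat_lit 3413) (.leaf ((nat_lit 235), [nat_lit 1, nat_lit 3, nat_lit 0, nat_lit 1, nat_lit 0])) (.leaf ((nat_lit 478), [nat_lit 3, nat_lit 1, nat_lit 2, nat_lit 3, nat_lit 2, nat_lit 0, nat_lit 2, nat_lit 0, nat_lit 1, nat_lit 0, nat_lit 1]))) (.node (nat_lit 3415) (.leaf ((nat_lit 556), [nat_lit 3, nat_lit 1, nat_lit 3, nat_lit 0, nat_lit 2, nat_lit 0, nat_lit 1, nat_lit 0])) (.node (nat_lit 3416) (.leaf ((nat_lit 192), [nat_lit 3, nat_lit 1, nat_lit 3, nat_lit 0, nat_lit 1, nat_lit 0, nat_lit 1])) (.leaf ((nat_lit 492), [nat_lit 1, nat_lit 2, nat_lit 3, nat_lit 1, nat_lit 2, nat_lit 0, nat_lit 1, nat_lit 0, nat_lit 1]))))))))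
 (.node (nat_lit 3435) (.node (nat_lit 3426) (.node (nat_lit 3421) (.node (nat_lit 3419) (.node (nat_lit 3418) (.leaf ((nat_lit 453), [nat_lit 0, nat_lit 1, nat_lit 2, nat_lit 3, nat_lit 0, nat_lit 2, nat_lit 1])) (.leaf ((nat_lit 525), [nat_lit 3, nat_lit 1, nat_lit 2, nat_lit 3, nat_lit 1, nat_lit 2, nat_lit 0, nat_lit 1, nat_lit 0, nat_lit 1, nat_lit 0]))) (.node (nat_lit 3420) (.leaf ((nat_lit 559), [nat_lit 1, nat_lit 3, nat_lit 0, nat_lit 2])) (.leaf ((nat_lit 356), [nat_lit 1, nat_lit 3, nat_lit 0, nat_lit 2, nat_lit 1, nat_lit 0, nat_lit 1, nat_lit 0]))))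
 (.node (nat_lit 3423) (.node (nat_lit 3422) (.leaf ((nat_lit 529), [nat_lit 1, nat_lit 2, nat_lit 3, nat_lit 0, nat_lit 2, nat_lit 1])) (.leaf ((nat_lit 194), [nat_lit 1, nat_lit 2, nat_lit 3, nat_lit 0, nat_lit 1, nat_lit 0, nat_lit 1, nat_lit 0]))) (.node (nat_lit 3424) (.leaf ((nat_lit 313), [nat_lit 1, nat_lit 2, nat_lit 0, nat_lit 1])) (.node (nat_lit 3425) (.leaf ((nat_lit 585), [nat_lit 3, nat_lit 2, nat_lit 3, nat_lit 1, nat_lit 0, nat_lit 1])) (.leaf ((nat_lit 197), [nat_lit 3, nat_lit 1, nat_lit 2, nat_lit 3]))))))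
 (.node (nat_lit 3430) (.node (nat_lit 3428) (.node (nat_lit 3427) (.leaf ((nat_lit 324), [nat_lit 3, nat_lit 1, nat_lit 3, nat_lit 0, nat_lit 2, nat_lit 1, nat_lit 0, nat_lit 1, nat_lit 0])) (.leaf ((nat_lit 570), [nat_lit 3, nat_lit 2, nat_lit 3]))) (.node (nat_lit 3429) (.leaf ((nat_lit 469), [nat_lit 0, nat_lit 1, nat_lit 3, nat_lit 1, nat_lit 2, nat_lit 1, nat_lit 0, nat_lit 1])) (.leaf ((nat_lit 532), [nat_lit 0, nat_lit 1, nat_lit 2, nat_lit 3, nat_lit 0]))))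
 (.node (nat_lit 3432) (.node (nat_lit 3431) (.leaf ((nat_lit 314), [nat_lit 3, nat_lit 1, nat_lit 3, nat_lit 1, nat_lit 2])) (.leaf ((nat_lit 415), [nat_lit 3, nat_lit 1, nat_lit 2, nat_lit 3, nat_lit 2, nat_lit 1, nat_lit 0, nat_lit 1]))) (.node (nat_lit 3433) (.leaf ((nat_lit 324), [nat_lit 3, nat_lit 1, nat_lit 0, nat_lit 2, nat_lit 1, nat_lit 0, nat_lit 1])) (.node (nat_lit 3434) (.leaf ((nat_lit 197), [nat_lit 1, nat_lit 2, nat_lit 3, nat_lit 0])) (.leaf ((nat_lit 400), [nat_lit 3, nat_lit 1, nat_lit 0, nat_lit 2, nat_lit 1, nat_lit 0, nat_lit 1])))))))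
 (.node (nat_lit 3444) (.node (nat_lit 3439) (.node (nat_lit 3437) (.node (nat_lit 3436) (.leaf ((nat_lit 260), [nat_lit 1, nat_lit 0, nat_lit 2, nat_lit 0])) (.leaf ((nat_lit 574), [nat_lit 3, nat_lit 2, nat_lit 3, nat_lit 0, nat_lit 2, nat_lit 1, nat_lit 0, nat_lit 1, nat_lit 0]))) (.node (nat_lit 3438) (.leaf ((nat_lit 203), [nat_lit 2, nat_lit 1, nat_lit 3, nat_lit 0, nat_lit 1, nat_lit 0])) (.leaf ((nat_lit 434), [nat_lit 3, nat_lit 1, nat_lit 0, nat_lit 2, nat_lit 1, nat_lit 0, nat_lit 1, nat_lit 0]))))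
 (.node (nat_lit 3441) (.node (nat_lit 3440) (.leaf ((nat_lit 491), [nat_lit 1, nat_lit 0, nat_lit 2, nat_lit 0, nat_lit 1, nat_lit 0, nat_lit 1, nat_lit 0])) (.leaf ((nat_lit 200), [nat_lit 3, nat_lit 1, nat_lit 3, nat_lit 1, nat_lit 0, nat_lit 2, nat_lit 1, nat_lit 0]))) (.node (nat_lit 3442) (.leaf ((nat_lit 472), [nat_lit 1, nat_lit 0, nat_lit 2])) (.node (nat_lit 3443) (.leaf ((nat_lit 491), [nat_lit 3, nat_lit 1, nat_lit 2, nat_lit 3, nat_lit 2, nat_lit 0, nat_lit 1, nat_lit 0, nat_lit 1])) (.leaf ((nat_lit 382), [nat_lit 2, nat_lit 3, nat_lit 2, nat_lit 0, nat_lit 2, nat_lit 0, nat_lit 1, nat_lit 0]))))))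
 (.node (nat_lit 3449) (.node (nat_lit 3446) (.node (nat_lit 3445) (.leaf ((nat_lit 453), [nat_lit 2, nat_lit 3, nat_lit 1, nat_lit 2, nat_lit 0, nat_lit 1, nat_lit 0, nat_lit 1])) (.leaf ((nat_lit 488), [nat_lit 0, nat_lit 1, nat_lit 2, nat_lit 3, nat_lit 1, nat_lit 2, nat_lit 0, nat_lit 1, nat_lit 0, nat_lit 1, nat_lit 0]))) (.node (nat_lit 3447) (.leaf ((nat_lit 608), [nat_lit 2, nat_lit 3, nat_lit 0, nat_lit 1, nat_lit 0, nat_lit 1, nat_lit 0])) (.node (nat_lit 3448) (.leaf ((nat_lit 241), [nat_lit 0, nat_lit 1, nat_lit 2, nat_lit 3, nat_lit 0, nat_lit 1, nat_lit 0])) (.leaf ((nat_lit 493), [nat_lit 3, nat_lit 2, nat_lit 3, nat_lit 1, nat_lit 0, nat_lit 1])))))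
 (.node (nat_lit 3451) (.node (nat_lit 3450) (.leaf ((nat_lit 611), [nat_lit 0, nat_lit 1, nat_lit 2, nat_lit 3, nat_lit 1, nat_lit 2, nat_lit 0, nat_lit 1])) (.leaf ((nat_lit 201), [nat_lit 2, nat_lit 0, nat_lit 2, nat_lit 0, nat_lit 1, nat_lit 0, nat_lit 1]))) (.node (nat_lit 3452) (.leaf ((nat_lit 608), [nat_lit 1, nat_lit 3, nat_lit 1, nat_lit 2, nat_lit 0])) (.node (nat_lit 3453) (.leaf ((nat_lit 615), [nat_lit 0, nat_lit 1, nat_lit 2, nat_lit 3, nat_lit 1, nat_lit 2, nat_lit 0, nat_lit 1, nat_lit 0, nat_lit 1])) (.leaf ((nat_lit 607), [nat_lit 3, nat_lit 1, nat_lit 2, nat_lit 3, nat_lit 2, nat_lit 0, nat_lit 2, nat_lit 0, nat_lit 1, nat_lit 0])))))))))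
 (.node (nat_lit 3491) (.node (nat_lit 3472) (.node (nat_lit 3463) (.node (nat_lit 3458) (.node (nat_lit 3456) (.node (nat_lit 3455) (.leaf ((nat_lit 624), [nat_lit 1, nat_lit 2, nat_lit 3, nat_lit 1, nat_lit 0, nat_lit 2, nat_lit 0, nat_lit 1, nat_lit 0, nat_lit 1, nat_lit 0])) (.leaf ((nat_lit 492), [nat_lit 3, nat_lit 1, nat_lit 0, nat_lit 2, nat_lit 1, nat_lit 0, nat_lit 1, nat_lit 0]))) (.node (nat_lit 3457) (.leaf ((nat_lit 507), [nat_lit 3, nat_lit 1, nat_lit 3, nat_lit 1, nat_lit 0, nat_lit 2, nat_lit 0, nat_lit 1, nat_lit 0, nat_lit 1, nat_lit 0])) (.leaf ((nat_lit 204), [nat_lit 2, nat_lit 0, nat_lit 2, nat_lit 0, nat_lit 1, nat_lit 0, nat_lit 1]))))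
 (.node (nat_lit 3460) (.node (nat_lit 3459) (.leaf ((nat_lit 287), [nat_lit 0, nat_lit 1, nat_lit 2, nat_lit 3, nat_lit 2, nat_lit 0, nat_lit 2, nat_lit 1, nat_lit 0])) (.leaf ((nat_lit 567), [nat_lit 0, nat_lit 1]))) (.node (nat_lit 3461) (.leaf ((nat_lit 205), [nat_lit 2, nat_lit 1, nat_lit 3, nat_lit 0, nat_lit 2, nat_lit 1, nat_lit 0, nat_lit 1, nat_lit 0])) (.node (nat_lit 3462) (.leaf ((nat_lit 266), [nat_lit 2, nat_lit 1, nat_lit 3, nat_lit 0, nat_lit 2, nat_lit 0, nat_lit 1])) (.leaf ((nat_lit 284), [nat_lit 0, nat_lit 1, nat_lit 2, nat_lit 3, nat_lit 0, nat_lit 2, nat_lit 0, nat_lit 1]))))))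
 (.node (nat_lit 3467) (.node (nat_lit 3465) (.node (nat_lit 3464) (.leaf ((nat_lit 654), [nat_lit 0, nat_lit 1, nat_lit 3, nat_lit 2, nat_lit 0, nat_lit 2, nat_lit 0, nat_lit 1, nat_lit 0, nat_lit 1, nat_lit 0])) (.leaf ((nat_lit 247), [nat_lit 2, nat_lit 3, nat_lit 1, nat_lit 0, nat_lit 2, nat_lit 0, nat_lit 1, nat_lit 0]))) (.node (nat_lit 3466) (.leaf ((nat_lit 552), [nat_lit 0, nat_lit 1, nat_lit 2, nat_lit 3, nat_lit 0, nat_lit 2, nat_lit 0, nat_lit 1, nat_lit 0])) (.leaf ((nat_lit 484), [nat_lit 3, nat_lit 2, nat_lit 3, nat_lit 0, nat_lit 2, nat_lit 1]))))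
 (.node (nat_lit 3469) (.node (nat_lit 3468) (.leaf ((nat_lit 276), [nat_lit 0, nat_lit 1, nat_lit 2, nat_lit 3, nat_lit 1, nat_lit 0, nat_lit 2, nat_lit 0])) (.leaf ((nat_lit 277), [nat_lit 1, nat_lit 2, nat_lit 3, nat_lit 1, nat_lit 0, nat_lit 1, nat_lit 0]))) (.node (nat_lit 3470) (.leaf ((nat_lit 205), [nat_lit 3, nat_lit 2, nat_lit 3, nat_lit 2])) (.node (nat_lit 3471) (.leaf ((nat_lit 275), [nat_lit 2, nat_lit 3, nat_lit 0, nat_lit 1, nat_lit 0])) (.leaf ((nat_lit 215), [nat_lit 3, nat_lit 2, nat_lit 3, nat_lit 0, nat_lit 2, nat_lit 0, nat_lit 1, nat_lit 0])))))))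
 (.node (nat_lit 3481) (.node (nat_lit 3476) (.node (nat_lit 3474) (.node (nat_lit 3473) (.leaf ((nat_lit 207), [nat_lit 3, nat_lit 2, nat_lit 3, nat_lit 1, nat_lit 2, nat_lit 0, nat_lit 1, nat_lit 0, nat_lit 1, nat_lit 0])) (.leaf ((nat_lit 438), [nat_lit 0, nat_lit 2, nat_lit 0, nat_lit 1, nat_lit 0, nat_lit 1, nat_lit 0]))) (.node (nat_lit 3475) (.leaf ((nat_lit 290), [nat_lit 3, nat_lit 1, nat_lit 3, nat_lit 2, nat_lit 0, nat_lit 2, nat_lit 1, nat_lit 0, nat_lit 1, nat_lit 0])) (.leaf ((nat_lit 246), [nat_lit 1, nat_lit 2, nat_lit 3, nat_lit 2, nat_lit 0]))))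
 (.node (nat_lit 3478) (.node (nat_lit 3477) (.leaf ((nat_lit 211), [nat_lit 3, nat_lit 1, nat_lit 2, nat_lit 3, nat_lit 1, nat_lit 2, nat_lit 0, nat_lit 1, nat_lit 0])) (.leaf ((nat_lit 294), [nat_lit 0, nat_lit 1, nat_lit 3, nat_lit 1, nat_lit 0, nat_lit 2, nat_lit 0, nat_lit 1, nat_lit 0]))) (.node (nat_lit 3479) (.leaf ((nat_lit 296), [nat_lit 3, nat_lit 2, nat_lit 0, nat_lit 2, nat_lit 0, nat_lit 1])) (.node (nat_lit 3480) (.leaf ((nat_lit 541), [nat_lit 3, nat_lit 1, nat_lit 3, nat_lit 1, nat_lit 2, nat_lit 1, nat_lit 0])) (.leaf ((nat_lit 261), [nat_lit 3, nat_lit 1, nat_lit 3, nat_lit 1, nat_lit 0]))))))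
 (.node (nat_lit 3486) (.node (nat_lit 3483) (.node (nat_lit 3482) (.leaf ((nat_lit 522), [nat_lit 2, nat_lit 1, nat_lit 3, nat_lit 0, nat_lit 2])) (.leaf ((nat_lit 497), [nat_lit 1]))) (.node (nat_lit 3484) (.leaf ((nat_lit 207), [nat_lit 0, nat_lit 1, nat_lit 2, nat_lit 3, nat_lit 0, nat_lit 2, nat_lit 0, nat_lit 1])) (.node (nat_lit 3485) (.leaf ((nat_lit 522), [nat_lit 1, nat_lit 2, nat_lit 3, nat_lit 1, nat_lit 0, nat_lit 2, nat_lit 0, nat_lit 1, nat_lit 0, nat_lit 1, nat_lit 0])) (.leaf ((nat_lit 330), [nat_lit 0, nat_lit 1, nat_lit 2, nat_lit 3, nat_lit 1, nat_lit 2, nat_lit 1])))))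
 (.node (nat_lit 3488) (.node (nat_lit 3487) (.leaf ((nat_lit 660), [nat_lit 2, nat_lit 1, nat_lit 3, nat_lit 0, nat_lit 2, nat_lit 1])) (.leaf ((nat_lit 643), [nat_lit 1, nat_lit 0, nat_lit 2, nat_lit 0, nat_lit 1]))) (.node (nat_lit 3489) (.leaf ((nat_lit 412), [nat_lit 3, nat_lit 1, nat_lit 2, nat_lit 0, nat_lit 1, nat_lit 0, nat_lit 1, nat_lit 0])) (.node (nat_lit 3490) (.leaf ((nat_lit 581), [nat_lit 2, nat_lit 1, nat_lit 3, nat_lit 1, nat_lit 2, nat_lit 0, nat_lit 1, nat_lit 0, nat_lit 1])) (.leaf ((nat_lit 440), [nat_lit 1, nat_lit 3]))))))))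
 (.node (nat_lit 3509) (.node (nat_lit 3500) (.node (nat_lit 3495) (.node (nat_lit 3493) (.node (nat_lit 3492) (.leaf ((nat_lit 610), [nat_lit 1, nat_lit 3, nat_lit 2, nat_lit 1, nat_lit 0, nat_lit 1, nat_lit 0])) (.leaf ((nat_lit 207), [nat_lit 1, nat_lit 3, nat_lit 2, nat_lit 0, nat_lit 1]))) (.node (nat_lit 3494) (.leaf ((nat_lit 300), [nat_lit 3, nat_lit 2, nat_lit 3, nat_lit 1, nat_lit 0, nat_lit 1])) (.leaf ((nat_lit 209), [nat_lit 2, nat_lit 3, nat_lit 1, nat_lit 2, nat_lit 0, nat_lit 1, nat_lit 0]))))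
 (.node (nat_lit 3497) (.node (nat_lit 3496) (.leaf ((nat_lit 226), [nat_lit 3, nat_lit 2, nat_lit 3, nat_lit 2, nat_lit 0, nat_lit 2, nat_lit 1, nat_lit 0, nat_lit 1, nat_lit 0])) (.leaf ((nat_lit 331), [nat_lit 2, nat_lit 1, nat_lit 3, nat_lit 2, nat_lit 0, nat_lit 2, nat_lit 1]))) (.node (nat_lit 3498) (.leaf ((nat_lit 562), [nat_lit 3, nat_lit 1, nat_lit 2, nat_lit 3, nat_lit 0])) (.node (nat_lit 3499) (.leaf ((nat_lit 410), [nat_lit 3, nat_lit 2, nat_lit 1, nat_lit 0])) (.leaf ((nat_lit 499), [nat_lit 0, nat_lit 1, nat_lit 2, nat_lit 3, nat_lit 2, nat_lit 1, nat_lit 0]))))))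
 (.node (nat_lit 3504) (.node (nat_lit 3502) (.node (nat_lit 3501) (.leaf ((nat_lit 254), [nat_lit 3, nat_lit 1, nat_lit 0, nat_lit 2, nat_lit 0])) (.leaf ((nat_lit 232), [nat_lit 3, nat_lit 1, nat_lit 0, nat_lit 2, nat_lit 0, nat_lit 1, nat_lit 0, nat_lit 1]))) (.node (nat_lit 3503) (.leaf ((nat_lit 259), [nat_lit 0, nat_lit 1, nat_lit 3, nat_lit 2, nat_lit 0, nat_lit 1, nat_lit 0, nat_lit 1, nat_lit 0])) (.leaf ((nat_lit 502), [nat_lit 0, nat_lit 1, nat_lit 3, nat_lit 1, nat_lit 0, nat_lit 2, nat_lit 0, nat_lit 1]))))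
 (.node (nat_lit 3506) (.node (nat_lit 3505) (.leaf ((nat_lit 397), [nat_lit 3, nat_lit 2, nat_lit 0])) (.leaf ((nat_lit 210), [nat_lit 3, nat_lit 2, nat_lit 0, nat_lit 2, nat_lit 0, nat_lit 1]))) (.node (nat_lit 3507) (.leaf ((nat_lit 441), [nat_lit 0, nat_lit 1, nat_lit 2, nat_lit 3, nat_lit 2, nat_lit 0, nat_lit 2, nat_lit 1, nat_lit 0, nat_lit 1, nat_lit 0])) (.node (nat_lit 3508) (.leaf ((nat_lit 257), [nat_lit 0, nat_lit 1, nat_lit 3, nat_lit 2, nat_lit 0, nat_lit 2, nat_lit 1, nat_lit 0])) (.leaf ((nat_lit 502), [nat_lit 3, nat_lit 1, nat_lit 2, nat_lit 3, nat_lit 0, nat_lit 2, nat_lit 0, nat_lit 1, nat_lit 0, nat_lit 1, nat_lit 0])))))))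
 (.node (nat_lit 3518) (.node (nat_lit 3513) (.node (nat_lit 3511) (.node (nat_lit 3510) (.leaf ((nat_lit 212), [nat_lit 3, nat_lit 1, nat_lit 2, nat_lit 3, nat_lit 2, nat_lit 0, nat_lit 2])) (.leaf ((nat_lit 213), [nat_lit 2, nat_lit 1, nat_lit 3, nat_lit 0, nat_lit 1, nat_lit 0]))) (.node (nat_lit 3512) (.leaf ((nat_lit 261), [nat_lit 3, nat_lit 1, nat_lit 3, nat_lit 2, nat_lit 0, nat_lit 2, nat_lit 0, nat_lit 1, nat_lit 0])) (.leaf ((nat_lit 400), [nat_lit 0, nat_lit 2, nat_lit 0, nat_lit 1, nat_lit 0, nat_lit 1, nat_lit 0]))))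
 (.node (nat_lit 3515) (.node (nat_lit 3514) (.leaf ((nat_lit 661), [nat_lit 3, nat_lit 2, nat_lit 3, nat_lit 0, nat_lit 2, nat_lit 0, nat_lit 1, nat_lit 0, nat_lit 1, nat_lit 0])) (.leaf ((nat_lit 501), [nat_lit 3, nat_lit 1, nat_lit 2, nat_lit 3, nat_lit 2, nat_lit 0, nat_lit 1, nat_lit 0]))) (.node (nat_lit 3516) (.leaf ((nat_lit 257), [nat_lit 3, nat_lit 1, nat_lit 3, nat_lit 2, nat_lit 1, nat_lit 0, nat_lit 1, nat_lit 0])) (.node (nat_lit 3517) (.leaf ((nat_lit 232), [nat_lit 0, nat_lit 1, nat_lit 3, nat_lit 0, nat_lit 1, nat_lit 0, nat_lit 1])) (.leaf ((nat_lit 500), [nat_lit 3, nat_lit 1, nat_lit 0, nat_lit 2]))))))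
 (.node (nat_lit 3523) (.node (nat_lit 3520) (.node (nat_lit 3519) (.leaf ((nat_lit 438), [nat_lit 3, nat_lit 1, nat_lit 2, nat_lit 3, nat_lit 2, nat_lit 1, nat_lit 0, nat_lit 1, nat_lit 0])) (.leaf ((nat_lit 217), [nat_lit 1, nat_lit 2, nat_lit 3, nat_lit 2, nat_lit 1, nat_lit 0, nat_lit 1, nat_lit 0]))) (.node (nat_lit 3521) (.leaf ((nat_lit 301), [nat_lit 2, nat_lit 1, nat_lit 3, nat_lit 1, nat_lit 2, nat_lit 0, nat_lit 1, nat_lit 0, nat_lit 1])) (.node (nat_lit 3522) (.leaf ((nat_lit 630), [nat_lit 3, nat_lit 1, nat_lit 3, nat_lit 2])) (.leaf ((nat_lit 392), [nat_lit 2, nat_lit 1, nat_lit 3, nat_lit 0, nat_lit 1, nat_lit 0, nat_lit 1, nat_lit 0])))))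
 (.node (nat_lit 3525) (.node (nat_lit 3524) (.leaf ((nat_lit 289), [nat_lit 1, nat_lit 2, nat_lit 3, nat_lit 0, nat_lit 2, nat_lit 0, nat_lit 1, nat_lit 0])) (.leaf ((nat_lit 408), [nat_lit 3, nat_lit 1, nat_lit 3, nat_lit 2, nat_lit 0, nat_lit 2, nat_lit 1, nat_lit 0, nat_lit 1, nat_lit 0]))) (.node (nat_lit 3526) (.leaf ((nat_lit 503), [nat_lit 0, nat_lit 2, nat_lit 0])) (.node (nat_lit 3527) (.leaf ((nat_lit 219), [nat_lit 1, nat_lit 2, nat_lit 3, nat_lit 2, nat_lit 0, nat_lit 2, nat_lit 1])) (.leaf ((nat_lit 343), [nat_lit 2, nat_lit 1, nat_lit 3, nat_lit 1, nat_lit 0, nat_lit 2, nat_lit 1]))))))))))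
noncomputable def bWd_24 : Tr (ℕ × List ℕ) := (.node (nat_lit 3601) (.node (nat_lit 3564) (.node (nat_lit 3546) (.node (nat_lit 3537) (.node (nat_lit 3532) (.node (nat_lit 3530) (.node (nat_lit 3529) (.leaf ((nat_lit 550), [nat_lit 1, nat_lit 3, nat_lit 1, nat_lit 0, nat_lit 2, nat_lit 1, nat_lit 0, nat_lit 1, nat_lit 0])) (.leaf ((nat_lit 481), [nat_lit 0, nat_lit 1, nat_lit 3, nat_lit 2, nat_lit 0, nat_lit 2, nat_lit 0, nat_lit 1, nat_lit 0]))) (.node (nat_lit 3531) (.leaf ((nat_lit 222), [nat_lit 2, nat_lit 1, nat_lit 3, nat_lit 0, nat_lit 2, nat_lit 0, nat_lit 1, nat_lit 0, nat_lit 1, nat_lit 0])) (.leaf ((nat_lit 482), [nat_lit 2, nat_lit 1, nat_lit 3, nat_lit 1, nat_lit 2, nat_lit 1, nat_lit 0, nat_lit 1, nat_lit 0]))))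
 (.node (nat_lit 3534) (.node (nat_lit 3533) (.leaf ((nat_lit 371), [nat_lit 0, nat_lit 1, nat_lit 2, nat_lit 3, nat_lit 2, nat_lit 0, nat_lit 2, nat_lit 0])) (.leaf ((nat_lit 662), [nat_lit 0, nat_lit 1, nat_lit 2, nat_lit 3, nat_lit 0, nat_lit 2, nat_lit 0, nat_lit 1]))) (.node (nat_lit 3535) (.leaf ((nat_lit 504), [nat_lit 2, nat_lit 0, nat_lit 2])) (.node (nat_lit 3536) (.leaf ((nat_lit 465), [nat_lit 2, nat_lit 0, nat_lit 2, nat_lit 1, nat_lit 0, nat_lit 1, nat_lit 0])) (.leaf ((nat_lit 655), [nat_lit 1, nat_lit 2, nat_lit 3, nat_lit 1, nat_lit 0]))))))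
 (.node (nat_lit 3541) (.node (nat_lit 3539) (.node (nat_lit 3538) (.leaf ((nat_lit 482), [nat_lit 3, nat_lit 2, nat_lit 3, nat_lit 1, nat_lit 0, nat_lit 2, nat_lit 1, nat_lit 0, nat_lit 1, nat_lit 0])) (.leaf ((nat_lit 222), [nat_lit 3, nat_lit 1, nat_lit 3, nat_lit 0, nat_lit 1, nat_lit 0]))) (.node (nat_lit 3540) (.leaf ((nat_lit 614), [nat_lit 3, nat_lit 1, nat_lit 2, nat_lit 3, nat_lit 2, nat_lit 1, nat_lit 0])) (.leaf ((nat_lit 663), [nat_lit 1, nat_lit 3, nat_lit 2, nat_lit 0, nat_lit 2, nat_lit 1, nat_lit 0, nat_lit 1]))))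
 (.node (nat_lit 3543) (.node (nat_lit 3542) (.leaf ((nat_lit 516), [nat_lit 3, nat_lit 1, nat_lit 2, nat_lit 3, nat_lit 2, nat_lit 0, nat_lit 1, nat_lit 0, nat_lit 1])) (.leaf ((nat_lit 332), [nat_lit 3, nat_lit 1, nat_lit 2, nat_lit 0, nat_lit 1, nat_lit 0, nat_lit 1]))) (.node (nat_lit 3544) (.leaf ((nat_lit 350), [nat_lit 3, nat_lit 2, nat_lit 3, nat_lit 1, nat_lit 2, nat_lit 0, nat_lit 1])) (.node (nat_lit 3545) (.leaf ((nat_lit 377), [nat_lit 2, nat_lit 1, nat_lit 0])) (.leaf ((nat_lit 356), [nat_lit 1, nat_lit 2, nat_lit 3, nat_lit 1, nat_lit 0, nat_lit 2, nat_lit 1])))))))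
 (.node (nat_lit 3555) (.node (nat_lit 3550) (.node (nat_lit 3548) (.node (nat_lit 3547) (.leaf ((nat_lit 222), [nat_lit 2, nat_lit 3, nat_lit 2, nat_lit 0, nat_lit 2, nat_lit 1, nat_lit 0, nat_lit 1])) (.leaf ((nat_lit 660), [nat_lit 3, nat_lit 0]))) (.node (nat_lit 3549) (.leaf ((nat_lit 474), [nat_lit 2, nat_lit 1, nat_lit 3, nat_lit 0, nat_lit 2])) (.leaf ((nat_lit 327), [nat_lit 0, nat_lit 1, nat_lit 2, nat_lit 3, nat_lit 0, nat_lit 2, nat_lit 0]))))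
 (.node (nat_lit 3552) (.node (nat_lit 3551) (.leaf ((nat_lit 577), [nat_lit 1, nat_lit 2, nat_lit 3, nat_lit 0, nat_lit 1])) (.leaf ((nat_lit 334), [nat_lit 2, nat_lit 1, nat_lit 3, nat_lit 0, nat_lit 2, nat_lit 0]))) (.node (nat_lit 3553) (.leaf ((nat_lit 274), [nat_lit 3, nat_lit 1, nat_lit 3, nat_lit 0, nat_lit 2, nat_lit 1, nat_lit 0, nat_lit 1])) (.node (nat_lit 3554) (.leaf ((nat_lit 452), [nat_lit 3, nat_lit 1])) (.leaf ((nat_lit 493), [nat_lit 3, nat_lit 1, nat_lit 2, nat_lit 3, nat_lit 1, nat_lit 2, nat_lit 1, nat_lit 0, nat_lit 1, nat_lit 0]))))))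
 (.node (nat_lit 3559) (.node (nat_lit 3557) (.node (nat_lit 3556) (.leaf ((nat_lit 225), [nat_lit 2, nat_lit 1, nat_lit 3, nat_lit 2])) (.leaf ((nat_lit 379), [nat_lit 0, nat_lit 2, nat_lit 0, nat_lit 1]))) (.node (nat_lit 3558) (.leaf ((nat_lit 227), [nat_lit 0, nat_lit 2, nat_lit 1, nat_lit 0, nat_lit 1, nat_lit 0])) (.leaf ((nat_lit 508), [nat_lit 0, nat_lit 1, nat_lit 2, nat_lit 3, nat_lit 2, nat_lit 1, nat_lit 0]))))
 (.node (nat_lit 3561) (.node (nat_lit 3560) (.leaf ((nat_lit 380), [nat_lit 1, nat_lit 0, nat_lit 2, nat_lit 1, nat_lit 0, nat_lit 1])) (.leaf ((nat_lit 249), [nat_lit 0, nat_lit 2, nat_lit 1, nat_lit 0]))) (.node (nat_lit 3562) (.leaf ((nat_lit 375), [nat_lit 0, nat_lit 1, nat_lit 3, nat_lit 2, nat_lit 0, nat_lit 2, nat_lit 0, nat_lit 1, nat_lit 0, nat_lit 1])) (.node (nat_lit 3563) (.leaf ((nat_lit 284), [nat_lit 2, nat_lit 3, nat_lit 1, nat_lit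 2, nat_lit 0, nat_lit 1, nat_lit 0, nat_lit 1, nat_lit 0])) (.leaf ((nat_lit 634), [nat_lit 2, nat_lit 0, nat_lit 2]))))))))
 (.node (nat_lit 3582) (.node (nat_lit 3573) (.node (nat_lit 3568) (.node (nat_lit 3566) (.node (nat_lit 3565) (.leaf ((nat_lit 556), [nat_lit 3, nat_lit 1, nat_lit 2, nat_lit 3, nat_lit 2, nat_lit 0, nat_lit 1, nat_lit 0, nat_lit 1, nat_lit 0])) (.leaf ((nat_lit 565), [nat_lit 0, nat_lit 1, nat_lit 2, nat_lit 3, nat_lit 2, nat_lit 0]))) (.node (nat_lit 3567) (.leaf ((nat_lit 344), [nat_lit 2, nat_lit 1, nat_lit 3, nat_lit 1, nat_lit 0, nat_lit 2, nat_lit 1, nat_lit 0])) (.leaf ((nat_lit 652), [nat_lit 0, nat_lit 1, nat_lit 2, nat_lit 3, nat_lit 2, nat_lit 0, nat_lit 2, nat_lit 0, nat_lit 1]))))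
 (.node (nat_lit 3570) (.node (nat_lit 3569) (.leaf ((nat_lit 524), [nat_lit 2, nat_lit 3, nat_lit 0, nat_lit 2, nat_lit 1, nat_lit 0, nat_lit 1])) (.leaf ((nat_lit 229), [nat_lit 1, nat_lit 3, nat_lit 2, nat_lit 0, nat_lit 2, nat_lit 1, nat_lit 0, nat_lit 1, nat_lit 0]))) (.node (nat_lit 3571) (.leaf ((nat_lit 621), [nat_lit 3, nat_lit 1, nat_lit 2, nat_lit 1, nat_lit 0, nat_lit 1, nat_lit 0])) (.node (nat_lit 3572) (.leaf ((nat_lit 430), [nat_lit 1, nat_lit 3, nat_lit 2])) (.leaf ((nat_lit 639), [nat_lit 1, nat_lit 2, nat_lit 3, nat_lit 1, nat_lit 0, nat_lit 2, nat_lit 1, nat_lit 0, nat_lit 1, nat_lit 0]))))))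
 (.node (nat_lit 3577) (.node (nat_lit 3575) (.node (nat_lit 3574) (.leaf ((nat_lit 651), [nat_lit 1, nat_lit 2, nat_lit 3, nat_lit 2, nat_lit 1, nat_lit 0])) (.leaf ((nat_lit 646), [nat_lit 0, nat_lit 1, nat_lit 3, nat_lit 0]))) (.node (nat_lit 3576) (.leaf ((nat_lit 510), [nat_lit 1, nat_lit 2, nat_lit 1])) (.leaf ((nat_lit 230), [nat_lit 0, nat_lit 1, nat_lit 3, nat_lit 2, nat_lit 0, nat_lit 2, nat_lit 0, nat_lit 1, nat_lit 0]))))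
 (.node (nat_lit 3579) (.node (nat_lit 3578) (.leaf ((nat_lit 444), [nat_lit 2, nat_lit 3, nat_lit 1, nat_lit 0, nat_lit 1])) (.leaf ((nat_lit 457), [nat_lit 0, nat_lit 1, nat_lit 2, nat_lit 3, nat_lit 0, nat_lit 2, nat_lit 0, nat_lit 1, nat_lit 0, nat_lit 1]))) (.node (nat_lit 3580) (.leaf ((nat_lit 373), [nat_lit 2, nat_lit 1, nat_lit 3, nat_lit 1, nat_lit 2, nat_lit 0, nat_lit 1, nat_lit 0, nat_lit 1, nat_lit 0])) (.node (nat_lit 3581) (.leaf ((nat_lit 261), [nat_lit 0, nat_lit 1, nat_lit 2, nat_lit 3, nat_lit 2, nat_lit 0, nat_lit 2, nat_lit 0, nat_lit 1, nat_lit 0, nat_lit 1])) (.leaf ((nat_lit 456), [nat_lit 3, nat_lit 2, nat_lit 3, nat_lit 2, nat_lit 0, nat_lit 2, nat_lit 0])))))))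
 (.node (nat_lit 3591) (.node (nat_lit 3586) (.node (nat_lit 3584) (.node (nat_lit 3583) (.leaf ((nat_lit 231), [nat_lit 3, nat_lit 2, nat_lit 3, nat_lit 1, nat_lit 2, nat_lit 1, nat_lit 0, nat_lit 1])) (.leaf ((nat_lit 654), [nat_lit 2, nat_lit 1, nat_lit 3, nat_lit 0, nat_lit 2, nat_lit 1, nat_lit 0]))) (.node (nat_lit 3585) (.leaf ((nat_lit 632), [nat_lit 0, nat_lit 1, nat_lit 3, nat_lit 0, nat_lit 2, nat_lit 0, nat_lit 1, nat_lit 0, nat_lit 1])) (.leaf ((nat_lit 441), [nat_lit 1, nat_lit 3, nat_lit 2, nat_lit 0, nat_lit 2, nat_lit 0, nat_lit 1, nat_lit 0]))))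
 (.node (nat_lit 3588) (.node (nat_lit 3587) (.leaf ((nat_lit 512), [nat_lit 2, nat_lit 1, nat_lit 0, nat_lit 1])) (.leaf ((nat_lit 523), [nat_lit 3, nat_lit 1, nat_lit 0]))) (.node (nat_lit 3589) (.leaf ((nat_lit 535), [nat_lit 1, nat_lit 2, nat_lit 3, nat_lit 1, nat_lit 2])) (.node (nat_lit 3590) (.leaf ((nat_lit 238), [nat_lit 3, nat_lit 1, nat_lit 2, nat_lit 3, nat_lit 1, nat_lit 2, nat_lit 0])) (.leaf ((nat_lit 232), [nat_lit 0, nat_lit 2, nat_lit 1]))))))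
 (.node (nat_lit 3596) (.node (nat_lit 3593) (.node (nat_lit 3592) (.leaf ((nat_lit 375), [nat_lit 2, nat_lit 3, nat_lit 1, nat_lit 0, nat_lit 2, nat_lit 1, nat_lit 0, nat_lit 1])) (.leaf ((nat_lit 242), [nat_lit 1, nat_lit 0]))) (.node (nat_lit 3594) (.leaf ((nat_lit 233), [nat_lit 0, nat_lit 1, nat_lit 3, nat_lit 0, nat_lit 2, nat_lit 0, nat_lit 1, nat_lit 0])) (.node (nat_lit 3595) (.leaf ((nat_lit 513), [nat_lit 3, nat_lit 1, nat_lit 3, nat_lit 0])) (.leaf ((nat_lit 256), [nat_lit 3, nat_lit 1, nat_lit 2, nat_lit 3, nat_lit 1, nat_lit 2, nat_lit 0, nat_lit 1, nat_lit 0, nat_lit 1])))))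
 (.node (nat_lit 3598) (.node (nat_lit 3597) (.leaf ((nat_lit 331), [nat_lit 1, nat_lit 3, nat_lit 2, nat_lit 0, nat_lit 1, nat_lit 0, nat_lit 1])) (.leaf ((nat_lit 522), [nat_lit 0, nat_lit 1, nat_lit 2, nat_lit 3, nat_lit 0, nat_lit 2, nat_lit 1, nat_lit 0]))) (.node (nat_lit 3599) (.leaf ((nat_lit 557), [nat_lit 1, nat_lit 0, nat_lit 2, nat_lit 0, nat_lit 1])) (.node (nat_lit 3600) (.leaf ((nat_lit 476), [nat_lit 3, nat_lit 2, nat_lit 3, nat_lit 1, nat_lit 2, nat_lit 0])) (.leaf ((nat_lit 487), [nat_lit 1, nat_lit 2, nat_lit 3, nat_lit 1, nat_lit 2, nat_lit 1, nat_lit 0, nat_lit 1])))))))))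
 (.node (nat_lit 3638) (.node (nat_lit 3619) (.node (nat_lit 3610) (.node (nat_lit 3605) (.node (nat_lit 3603) (.node (nat_lit 3602) (.leaf ((nat_lit 234), [nat_lit 1, nat_lit 2, nat_lit 3, nat_lit 1, nat_lit 2, nat_lit 0])) (.leaf ((nat_lit 483), [nat_lit 2, nat_lit 1, nat_lit 3, nat_lit 1, nat_lit 0, nat_lit 2, nat_lit 1, nat_lit 0]))) (.node (nat_lit 3604) (.leaf ((nat_lit 590), [nat_lit 3, nat_lit 1, nat_lit 2, nat_lit 3, nat_lit 0, nat_lit 2, nat_lit 0, nat_lit 1])) (.leaf ((nat_lit 514), [nat_lit 3, nat_lit 1, nat_lit 2, nat_lit 3, nat_lit 2, nat_lit 0, nat_lit 2, nat_lit 1, nat_lit 0, nat_lit 1]))))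
 (.node (nat_lit 3607) (.node (nat_lit 3606) (.leaf ((nat_lit 267), [nat_lit 2, nat_lit 0, nat_lit 1, nat_lit 0, nat_lit 1, nat_lit 0])) (.leaf ((nat_lit 281), [nat_lit 2, nat_lit 3, nat_lit 1, nat_lit 0, nat_lit 1, nat_lit 0]))) (.node (nat_lit 3608) (.leaf ((nat_lit 531), [nat_lit 2, nat_lit 1, nat_lit 3])) (.node (nat_lit 3609) (.leaf ((nat_lit 578), [nat_lit 1, nat_lit 3, nat_lit 2, nat_lit 1, nat_lit 0, nat_lit 1])) (.leaf ((nat_lit 386), [nat_lit 3, nat_lit 2, nat_lit 3, nat_lit 1, nat_lit 2, nat_lit 0, nat_lit 1, nat_lit 0, nat_lit 1, nat_lit 0]))))))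
 (.node (nat_lit 3614) (.node (nat_lit 3612) (.node (nat_lit 3611) (.leaf ((nat_lit 383), [nat_lit 0, nat_lit 1, nat_lit 3, nat_lit 1, nat_lit 0, nat_lit 2, nat_lit 0, nat_lit 1])) (.leaf ((nat_lit 234), [nat_lit 3, nat_lit 1, nat_lit 3, nat_lit 1, nat_lit 2, nat_lit 0, nat_lit 1, nat_lit 0, nat_lit 1, nat_lit 0]))) (.node (nat_lit 3613) (.leaf ((nat_lit 277), [nat_lit 0, nat_lit 1, nat_lit 3, nat_lit 0, nat_lit 1, nat_lit 0, nat_lit 1])) (.leaf ((nat_lit 486), [nat_lit 1, nat_lit 2, nat_lit 3, nat_lit 2, nat_lit 0, nat_lit 2, nat_lit 0, nat_lit 1, nat_lit 0, nat_lit 1]))))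
 (.node (nat_lit 3616) (.node (nat_lit 3615) (.leaf ((nat_lit 481), [nat_lit 3, nat_lit 1, nat_lit 2, nat_lit 1, nat_lit 0])) (.leaf ((nat_lit 655), [nat_lit 2, nat_lit 3, nat_lit 2, nat_lit 1, nat_lit 0, nat_lit 1, nat_lit 0]))) (.node (nat_lit 3617) (.leaf ((nat_lit 235), [nat_lit 1, nat_lit 3, nat_lit 1, nat_lit 0, nat_lit 1])) (.node (nat_lit 3618) (.leaf ((nat_lit 651), [nat_lit 1, nat_lit 2, nat_lit 3])) (.leaf ((nat_lit 505), [nat_lit 3, nat_lit 1, nat_lit 2, nat_lit 3, nat_lit 2, nat_lit 0, nat_lit 1, nat_lit 0, nat_lit 1])))))))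
 (.node (nat_lit 3628) (.node (nat_lit 3623) (.node (nat_lit 3621) (.node (nat_lit 3620) (.leaf ((nat_lit 237), [nat_lit 1, nat_lit 3, nat_lit 0, nat_lit 1, nat_lit 0, nat_lit 1, nat_lit 0])) (.leaf ((nat_lit 271), [nat_lit 3, nat_lit 2, nat_lit 3, nat_lit 0, nat_lit 2]))) (.node (nat_lit 3622) (.leaf ((nat_lit 558), [nat_lit 3, nat_lit 2, nat_lit 3, nat_lit 1, nat_lit 2, nat_lit 0, nat_lit 1, nat_lit 0, nat_lit 1])) (.leaf ((nat_lit 557), [nat_lit 3, nat_lit 1, nat_lit 2, nat_lit 3, nat_lit 1, nat_lit 0, nat_lit 2, nat_lit 1]))))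
 (.node (nat_lit 3625) (.node (nat_lit 3624) (.leaf ((nat_lit 272), [nat_lit 3, nat_lit 2, nat_lit 3, nat_lit 1, nat_lit 2, nat_lit 0])) (.leaf ((nat_lit 337), [nat_lit 3, nat_lit 1, nat_lit 2, nat_lit 3, nat_lit 2, nat_lit 1]))) (.node (nat_lit 3626) (.leaf ((nat_lit 366), [nat_lit 1, nat_lit 2, nat_lit 0, nat_lit 1, nat_lit 0, nat_lit 1])) (.node (nat_lit 3627) (.leaf ((nat_lit 442), [nat_lit 0, nat_lit 1, nat_lit 2, nat_lit 3, nat_lit 2, nat_lit 0, nat_lit 2, nat_lit 1, nat_lit 0])) (.leaf ((nat_lit 427), [nat_lit 0, nat_lit 1, nat_lit 3, nat_lit 0, nat_lit 1]))))))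
 (.node (nat_lit 3633) (.node (nat_lit 3630) (.node (nat_lit 3629) (.leaf ((nat_lit 518), [nat_lit 1])) (.leaf ((nat_lit 654), [nat_lit 0, nat_lit 1, nat_lit 3, nat_lit 0, nat_lit 2, nat_lit 1]))) (.node (nat_lit 3631) (.leaf ((nat_lit 660), [nat_lit 3, nat_lit 1, nat_lit 3, nat_lit 1, nat_lit 0, nat_lit 1, nat_lit 0])) (.node (nat_lit 3632) (.leaf ((nat_lit 237), [nat_lit 2, nat_lit 0])) (.leaf ((nat_lit 518), [nat_lit 2, nat_lit 1, nat_lit 3, nat_lit 0, nat_lit 2, nat_lit 0])))))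
 (.node (nat_lit 3635) (.node (nat_lit 3634) (.leaf ((nat_lit 239), [nat_lit 3, nat_lit 1, nat_lit 3, nat_lit 1, nat_lit 0, nat_lit 2])) (.leaf ((nat_lit 285), [nat_lit 3, nat_lit 0, nat_lit 2, nat_lit 0]))) (.node (nat_lit 3636) (.leaf ((nat_lit 664), [nat_lit 1, nat_lit 3, nat_lit 1, nat_lit 0, nat_lit 1, nat_lit 0])) (.node (nat_lit 3637) (.leaf ((nat_lit 649), [nat_lit 0, nat_lit 1, nat_lit 3, nat_lit 1, nat_lit 0, nat_lit 2, nat_lit 1, nat_lit 0])) (.leaf ((nat_lit 639), [nat_lit 3, nat_lit 2]))))))))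
 (.node (nat_lit 3656) (.node (nat_lit 3647) (.node (nat_lit 3642) (.node (nat_lit 3640) (.node (nat_lit 3639) (.leaf ((nat_lit 665), [nat_lit 2, nat_lit 1, nat_lit 3, nat_lit 2, nat_lit 0, nat_lit 1, nat_lit 0])) (.leaf ((nat_lit 316), [nat_lit 3, nat_lit 2, nat_lit 3, nat_lit 1, nat_lit 0, nat_lit 2, nat_lit 0, nat_lit 1]))) (.node (nat_lit 3641) (.leaf ((nat_lit 576), [nat_lit 3, nat_lit 2, nat_lit 3, nat_lit 2, nat_lit 0, nat_lit 1, nat_lit 0, nat_lit 1])) (.leaf ((nat_lit 592), [nat_lit 0, nat_lit 1, nat_lit 2, nat_lit 3, nat_lit 1, nat_lit 0, nat_lit 1, nat_lit 0]))))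
 (.node (nat_lit 3644) (.node (nat_lit 3643) (.leaf ((nat_lit 648), [nat_lit 2, nat_lit 1, nat_lit 3, nat_lit 1, nat_lit 0, nat_lit 2, nat_lit 1, nat_lit 0, nat_lit 1])) (.leaf ((nat_lit 635), [nat_lit 2, nat_lit 0, nat_lit 1]))) (.node (nat_lit 3645) (.leaf ((nat_lit 239), [nat_lit 0, nat_lit 1, nat_lit 2, nat_lit 3, nat_lit 0, nat_lit 1, nat_lit 0, nat_lit 1, nat_lit 0])) (.node (nat_lit 3646) (.leaf ((nat_lit 535), [nat_lit 3, nat_lit 1, nat_lit 2, nat_lit 3, nat_lit 2, nat_lit 1, nat_lit 0])) (.leaf ((nat_lit 433), [nat_lit 1, nat_lit 2, nat_lit 1, nat_lit 0, nat_lit 1]))))))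
 (.node (nat_lit 3651) (.node (nat_lit 3649) (.node (nat_lit 3648) (.leaf ((nat_lit 435), [nat_lit 0, nat_lit 1, nat_lit 3, nat_lit 2, nat_lit 0, nat_lit 1, nat_lit 0])) (.leaf ((nat_lit 240), [nat_lit 3, nat_lit 1, nat_lit 3, nat_lit 2, nat_lit 0, nat_lit 2, nat_lit 0]))) (.node (nat_lit 3650) (.leaf ((nat_lit 413), [nat_lit 3, nat_lit 1, nat_lit 0, nat_lit 2, nat_lit 1, nat_lit 0, nat_lit 1])) (.leaf ((nat_lit 439), [nat_lit 3, nat_lit 1, nat_lit 2, nat_lit 1, nat_lit 0, nat_lit 1, nat_lit 0]))))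
 (.node (nat_lit 3653) (.node (nat_lit 3652) (.leaf ((nat_lit 521), [nat_lit 0, nat_lit 1, nat_lit 3, nat_lit 1, nat_lit 0, nat_lit 2, nat_lit 0, nat_lit 1, nat_lit 0, nat_lit 1, nat_lit 0])) (.leaf ((nat_lit 585), [nat_lit 1, nat_lit 3, nat_lit 0, nat_lit 2, nat_lit 1, nat_lit 0]))) (.node (nat_lit 3654) (.leaf ((nat_lit 395), [nat_lit 1, nat_lit 3, nat_lit 2, nat_lit 0, nat_lit 2, nat_lit 0, nat_lit 1, nat_lit 0, nat_lit 1, nat_lit 0])) (.node (nat_lit 3655) (.leaf ((nat_lit 262), [nat_lit 0, nat_lit 2])) (.leaf ((nat_lit 473), [nat_lit 2, nat_lit 1, nat_lit 3, nat_lit 2, nat_lit 0, nat_lit 2, nat_lit 0, nat_lit 1, nat_lit 0, nat_lit 1])))))))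
 (.node (nat_lit 3665) (.node (nat_lit 3660) (.node (nat_lit 3658) (.node (nat_lit 3657) (.leaf ((nat_lit 497), [nat_lit 2, nat_lit 3, nat_lit 2, nat_lit 0])) (.leaf ((nat_lit 522), [nat_lit 2, nat_lit 3, nat_lit 0, nat_lit 2, nat_lit 0, nat_lit 1, nat_lit 0, nat_lit 1, nat_lit 0]))) (.node (nat_lit 3659) (.leaf ((nat_lit 240), [nat_lit 0, nat_lit 1, nat_lit 3, nat_lit 1, nat_lit 2, nat_lit 0, nat_lit 1, nat_lit 0, nat_lit 1, nat_lit 0])) (.leaf ((nat_lit 497), [nat_lit 0, nat_lit 1, nat_lit 3, nat_lit 1, nat_lit 2, nat_lit 0, nat_lit 1, nat_lit 0, nat_lit 1, nat_lit 0]))))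
 (.node (nat_lit 3662) (.node (nat_lit 3661) (.leaf ((nat_lit 513), [nat_lit 0, nat_lit 1, nat_lit 2, nat_lit 3, nat_lit 1, nat_lit 2, nat_lit 0, nat_lit 1, nat_lit 0])) (.leaf ((nat_lit 526), [nat_lit 0, nat_lit 1, nat_lit 3, nat_lit 2, nat_lit 1, nat_lit 0, nat_lit 1, nat_lit 0]))) (.node (nat_lit 3663) (.leaf ((nat_lit 571), [nat_lit 1, nat_lit 3, nat_lit 0, nat_lit 2, nat_lit 1, nat_lit 0])) (.node (nat_lit 3664) (.leaf ((nat_lit 523), [nat_lit 0, nat_lit 1, nat_lit 3, nat_lit 2, nat_lit 0, nat_lit 2, nat_lit 1, nat_lit 0, nat_lit 1, nat_lit 0])) (.leaf ((nat_lit 512), [nat_lit 0, nat_lit 1, nat_lit 3]))))))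
 (.node (nat_lit 3670) (.node (nat_lit 3667) (.node (nat_lit 3666) (.leaf ((nat_lit 536), [nat_lit 3, nat_lit 2, nat_lit 3, nat_lit 1, nat_lit 2, nat_lit 0, nat_lit 1])) (.leaf ((nat_lit 582), [nat_lit 2, nat_lit 0, nat_lit 2, nat_lit 1]))) (.node (nat_lit 3668) (.leaf ((nat_lit 240), [nat_lit 1, nat_lit 3])) (.node (nat_lit 3669) (.leaf ((nat_lit 525), [nat_lit 2, nat_lit 1, nat_lit 3, nat_lit 0, nat_lit 2, nat_lit 0])) (.leaf ((nat_lit 241), [nat_lit 2, nat_lit 3, nat_lit 2, nat_lit 0, nat_lit 2])))))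
 (.node (nat_lit 3672) (.node (nat_lit 3671) (.leaf ((nat_lit 615), [nat_lit 2, nat_lit 3, nat_lit 0, nat_lit 2, nat_lit 0, nat_lit 1, nat_lit 0])) (.leaf ((nat_lit 579), [nat_lit 3, nat_lit 1, nat_lit 2, nat_lit 3, nat_lit 0, nat_lit 1]))) (.node (nat_lit 3673) (.leaf ((nat_lit 250), [nat_lit 1, nat_lit 3, nat_lit 1, nat_lit 2, nat_lit 1, nat_lit 0, nat_lit 1, nat_lit 0])) (.node (nat_lit 3674) (.leaf ((nat_lit 509), [nat_lit 0, nat_lit 1, nat_lit 2, nat_lit 3, nat_lit 0, nat_lit 2, nat_lit 0, nat_lit 1, nat_lit 0, nat_lit 1, nat_lit 0])) (.leaf ((nat_lit 605), [nat_lit 2, nat_lit 3, nat_lit 1, nat_lit 2, nat_lit 0, nat_lit 1, nat_lit 0, nat_lit 1]))))))))))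
noncomputable def bWd_25 : Tr (ℕ × List ℕ) := (.node (nat_lit 3748) (.node (nat_lit 3711) (.node (nat_lit 3693) (.node (nat_lit 3684) (.node (nat_lit 3679) (.node (nat_lit 3677) (.node (nat_lit 3676) (.leaf ((nat_lit 241), [nat_lit 0, nat_lit 1, nat_lit 3, nat_lit 1, nat_lit 0, nat_lit 2, nat_lit 0, nat_lit 1, nat_lit 0, nat_lit 1])) (.leaf ((nat_lit 524), [nat_lit 2, nat_lit 1, nat_lit 3, nat_lit 0, nat_lit 2, nat_lit 0]))) (.node (nat_lit 3678) (.leaf ((nat_lit 488), [nat_lit 2, nat_lit 1, nat_lit 3, nat_lit 2, nat_lit 0, nat_lit 2, nat_lit 0, nat_lit 1, nat_lit 0])) (.leaf ((nat_lit 272), [nat_lit 3, nat_lit 1, nat_lit 3, nat_lit 2, nat_lit 0, nat_lit 2, nat_lit 0, nat_lit 1, nat_lit 0]))))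
 (.node (nat_lit 3681) (.node (nat_lit 3680) (.leaf ((nat_lit 361), [nat_lit 0, nat_lit 1, nat_lit 3, nat_lit 0, nat_lit 1, nat_lit 0, nat_lit 1, nat_lit 0])) (.leaf ((nat_lit 306), [nat_lit 3, nat_lit 2, nat_lit 1]))) (.node (nat_lit 3682) (.leaf ((nat_lit 528), [nat_lit 2, nat_lit 3, nat_lit 1, nat_lit 2, nat_lit 0, nat_lit 1, nat_lit 0, nat_lit 1, nat_lit 0])) (.node (nat_lit 3683) (.leaf ((nat_lit 571), [nat_lit 2, nat_lit 3, nat_lit 2, nat_lit 0, nat_lit 2, nat_lit 0, nat_lit 1, nat_lit 0, nat_lit 1, nat_lit 0])) (.leaf ((nat_lit 523), [nat_lit 1, nat_lit 2, nat_lit 3, nat_lit 1, nat_lit 0, nat_lit 2]))))))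
 (.node (nat_lit 3688) (.node (nat_lit 3686) (.node (nat_lit 3685) (.leaf ((nat_lit 406), [nat_lit 1, nat_lit 3, nat_lit 0, nat_lit 1])) (.leaf ((nat_lit 405), [nat_lit 1, nat_lit 3, nat_lit 0, nat_lit 2, nat_lit 0, nat_lit 1, nat_lit 0, nat_lit 1, nat_lit 0]))) (.node (nat_lit 3687) (.leaf ((nat_lit 417), [nat_lit 1, nat_lit 2, nat_lit 3, nat_lit 0, nat_lit 2, nat_lit 0])) (.leaf ((nat_lit 241), [nat_lit 1, nat_lit 2, nat_lit 3, nat_lit 2, nat_lit 0, nat_lit 2, nat_lit 1, nat_lit 0]))))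
 (.node (nat_lit 3690) (.node (nat_lit 3689) (.leaf ((nat_lit 582), [nat_lit 0, nat_lit 1, nat_lit 3, nat_lit 1, nat_lit 0, nat_lit 2, nat_lit 0])) (.leaf ((nat_lit 326), [nat_lit 2, nat_lit 1, nat_lit 3, nat_lit 1, nat_lit 2, nat_lit 0]))) (.node (nat_lit 3691) (.leaf ((nat_lit 268), [nat_lit 2, nat_lit 3, nat_lit 1, nat_lit 0, nat_lit 2, nat_lit 1])) (.node (nat_lit 3692) (.leaf ((nat_lit 243), [nat_lit 3, nat_lit 1, nat_lit 2, nat_lit 3, nat_lit 2, nat_lit 0, nat_lit 2, nat_lit 0, nat_lit 1, nat_lit 0, nat_lit 1, nat_lit 0])) (.leaf ((nat_lit 280), [nat_lit 2, nat_lit 3, nat_lit 2, nat_lit 0, nat_lit 1, nat_lit 0, nat_lit 1])))))))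
 (.node (nat_lit 3702) (.node (nat_lit 3697) (.node (nat_lit 3695) (.node (nat_lit 3694) (.leaf ((nat_lit 615), [nat_lit 2, nat_lit 3, nat_lit 2])) (.leaf ((nat_lit 666), [nat_lit 3, nat_lit 1, nat_lit 2, nat_lit 3, nat_lit 0, nat_lit 2, nat_lit 1]))) (.node (nat_lit 3696) (.leaf ((nat_lit 479), [nat_lit 3, nat_lit 0, nat_lit 2, nat_lit 0, nat_lit 1, nat_lit 0])) (.leaf ((nat_lit 605), [nat_lit 3, nat_lit 1, nat_lit 3, nat_lit 0]))))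
 (.node (nat_lit 3699) (.node (nat_lit 3698) (.leaf ((nat_lit 530), [nat_lit 2, nat_lit 1, nat_lit 3, nat_lit 0, nat_lit 2, nat_lit 0, nat_lit 1, nat_lit 0, nat_lit 1, nat_lit 0])) (.leaf ((nat_lit 280), [nat_lit 1, nat_lit 0, nat_lit 2]))) (.node (nat_lit 3700) (.leaf ((nat_lit 243), [nat_lit 1, nat_lit 2, nat_lit 3, nat_lit 1, nat_lit 2, nat_lit 1, nat_lit 0, nat_lit 1])) (.node (nat_lit 3701) (.leaf ((nat_lit 552), [nat_lit 2, nat_lit 1, nat_lit 0, nat_lit 1])) (.leaf ((nat_lit 555), [nat_lit 3, nat_lit 1, nat_lit 0, nat_lit 2, nat_lit 0, nat_lit 1, nat_lit 0]))))))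
 (.node (nat_lit 3706) (.node (nat_lit 3704) (.node (nat_lit 3703) (.leaf ((nat_lit 525), [nat_lit 1, nat_lit 2, nat_lit 3, nat_lit 1, nat_lit 2, nat_lit 1, nat_lit 0, nat_lit 1, nat_lit 0])) (.leaf ((nat_lit 638), [nat_lit 3, nat_lit 2, nat_lit 3, nat_lit 1, nat_lit 0, nat_lit 2, nat_lit 0]))) (.node (nat_lit 3705) (.leaf ((nat_lit 406), [nat_lit 0, nat_lit 1, nat_lit 2, nat_lit 3, nat_lit 0, nat_lit 2])) (.leaf ((nat_lit 571), [nat_lit 2, nat_lit 1, nat_lit 3, nat_lit 2, nat_lit 0, nat_lit 2, nat_lit 1, nat_lit 0, nat_lit 1, nat_lit 0]))))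
 (.node (nat_lit 3708) (.node (nat_lit 3707) (.leaf ((nat_lit 573), [nat_lit 1, nat_lit 0, nat_lit 1])) (.leaf ((nat_lit 461), [nat_lit 2, nat_lit 1, nat_lit 3, nat_lit 2]))) (.node (nat_lit 3709) (.leaf ((nat_lit 488), [nat_lit 1, nat_lit 2, nat_lit 3, nat_lit 1, nat_lit 2, nat_lit 0, nat_lit 1])) (.node (nat_lit 3710) (.leaf ((nat_lit 246), [nat_lit 3, nat_lit 2, nat_lit 3, nat_lit 0, nat_lit 2, nat_lit 1, nat_lit 0, nat_lit 1])) (.leaf ((nat_lit 528), [nat_lit 2, nat_lit 3, nat_lit 2, nat_lit 0, nat_lit 1, nat_lit 0, nat_lit 1]))))))))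
 (.node (nat_lit 3729) (.node (nat_lit 3720) (.node (nat_lit 3715) (.node (nat_lit 3713) (.node (nat_lit 3712) (.leaf ((nat_lit 605), [nat_lit 1, nat_lit 3])) (.leaf ((nat_lit 306), [nat_lit 1, nat_lit 3, nat_lit 0, nat_lit 1, nat_lit 0, nat_lit 1, nat_lit 0]))) (.node (nat_lit 3714) (.leaf ((nat_lit 567), [nat_lit 3, nat_lit 1, nat_lit 3, nat_lit 2, nat_lit 0, nat_lit 2, nat_lit 1, nat_lit 0, nat_lit 1, nat_lit 0])) (.leaf ((nat_lit 606), [nat_lit 2, nat_lit 0, nat_lit 1, nat_lit 0, nat_lit 1]))))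
 (.node (nat_lit 3717) (.node (nat_lit 3716) (.leaf ((nat_lit 571), [nat_lit 1, nat_lit 2, nat_lit 3, nat_lit 2, nat_lit 1, nat_lit 0])) (.leaf ((nat_lit 250), [nat_lit 3, nat_lit 2, nat_lit 3, nat_lit 2, nat_lit 0, nat_lit 2, nat_lit 0]))) (.node (nat_lit 3718) (.leaf ((nat_lit 251), [nat_lit 0, nat_lit 1, nat_lit 3, nat_lit 0, nat_lit 2, nat_lit 0])) (.node (nat_lit 3719) (.leaf ((nat_lit 266), [nat_lit 0, nat_lit 1, nat_lit 2, nat_lit 3])) (.leaf ((nat_lit 515), [nat_lit 3, nat_lit 1, nat_lit 2]))))))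
 (.node (nat_lit 3724) (.node (nat_lit 3722) (.node (nat_lit 3721) (.leaf ((nat_lit 605), [nat_lit 2, nat_lit 3, nat_lit 0, nat_lit 1])) (.leaf ((nat_lit 624), [nat_lit 3, nat_lit 1, nat_lit 3, nat_lit 0, nat_lit 2, nat_lit 0, nat_lit 1, nat_lit 0]))) (.node (nat_lit 3723) (.leaf ((nat_lit 467), [nat_lit 3, nat_lit 2, nat_lit 0, nat_lit 2, nat_lit 0, nat_lit 1, nat_lit 0])) (.leaf ((nat_lit 379), [nat_lit 3, nat_lit 0, nat_lit 2, nat_lit 1, nat_lit 0]))))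
 (.node (nat_lit 3726) (.node (nat_lit 3725) (.leaf ((nat_lit 534), [nat_lit 3, nat_lit 1, nat_lit 2, nat_lit 3, nat_lit 1, nat_lit 0, nat_lit 2, nat_lit 0, nat_lit 1, nat_lit 0])) (.leaf ((nat_lit 633), [nat_lit 0, nat_lit 1, nat_lit 2, nat_lit 3, nat_lit 2, nat_lit 0, nat_lit 2, nat_lit 0, nat_lit 1, nat_lit 0]))) (.node (nat_lit 3727) (.leaf ((nat_lit 532), [nat_lit 1, nat_lit 3, nat_lit 1, nat_lit 0, nat_lit 2, nat_lit 0])) (.node (nat_lit 3728) (.leaf ((nat_lit 445), [nat_lit 3, nat_lit 0, nat_lit 1, nat_lit 0, nat_lit 1])) (.leaf ((nat_lit 659), [nat_lit 0, nat_lit 1, nat_lit 2, nat_lit 3, nat_lit 0, nat_lit 2, nat_lit 1, nat_lit 0, nat_lit 1])))))))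
 (.node (nat_lit 3738) (.node (nat_lit 3733) (.node (nat_lit 3731) (.node (nat_lit 3730) (.leaf ((nat_lit 251), [nat_lit 3, nat_lit 0, nat_lit 2, nat_lit 0])) (.leaf ((nat_lit 489), [nat_lit 3, nat_lit 1, nat_lit 2, nat_lit 0, nat_lit 1, nat_lit 0]))) (.node (nat_lit 3732) (.leaf ((nat_lit 265), [nat_lit 2, nat_lit 3, nat_lit 1, nat_lit 0, nat_lit 1, nat_lit 0])) (.leaf ((nat_lit 546), [nat_lit 2, nat_lit 1, nat_lit 3, nat_lit 0, nat_lit 2, nat_lit 0, nat_lit 1]))))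
 (.node (nat_lit 3735) (.node (nat_lit 3734) (.leaf ((nat_lit 252), [nat_lit 2, nat_lit 1, nat_lit 3, nat_lit 1, nat_lit 0])) (.leaf ((nat_lit 252), [nat_lit 3, nat_lit 1, nat_lit 3, nat_lit 1, nat_lit 0, nat_lit 1]))) (.node (nat_lit 3736) (.leaf ((nat_lit 480), [nat_lit 3, nat_lit 1, nat_lit 0, nat_lit 1, nat_lit 0])) (.node (nat_lit 3737) (.leaf ((nat_lit 583), [nat_lit 3, nat_lit 2, nat_lit 3, nat_lit 1, nat_lit 2, nat_lit 0])) (.leaf ((nat_lit 584), [nat_lit 3, nat_lit 1, nat_lit 2, nat_lit 3, nat_lit 1, nat_lit 0, nat_lit 2, nat_lit 1]))))))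
 (.node (nat_lit 3743) (.node (nat_lit 3740) (.node (nat_lit 3739) (.leaf ((nat_lit 633), [nat_lit 3, nat_lit 2, nat_lit 3, nat_lit 1, nat_lit 0, nat_lit 2, nat_lit 0, nat_lit 1])) (.leaf ((nat_lit 532), [nat_lit 1, nat_lit 2, nat_lit 3, nat_lit 2, nat_lit 0, nat_lit 2, nat_lit 0, nat_lit 1, nat_lit 0]))) (.node (nat_lit 3741) (.leaf ((nat_lit 642), [nat_lit 3, nat_lit 1, nat_lit 3, nat_lit 1, nat_lit 2, nat_lit 0])) (.node (nat_lit 3742) (.leaf ((nat_lit 568), [nat_lit 3, nat_lit 0, nat_lit 2, nat_lit 0, nat_lit 1, nat_lit 0, nat_lit 1])) (.leaf ((nat_lit 441), [nat_lit 3, nat_lit 2, nat_lit 3, nat_lit 1, nat_lit 2])))))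
 (.node (nat_lit 3745) (.node (nat_lit 3744) (.leaf ((nat_lit 573), [nat_lit 1, nat_lit 2, nat_lit 3, nat_lit 1, nat_lit 0, nat_lit 2])) (.leaf ((nat_lit 253), [nat_lit 3, nat_lit 1, nat_lit 2, nat_lit 3, nat_lit 1, nat_lit 0, nat_lit 2, nat_lit 0, nat_lit 1, nat_lit 0]))) (.node (nat_lit 3746) (.leaf ((nat_lit 659), [nat_lit 3, nat_lit 1, nat_lit 3, nat_lit 0, nat_lit 2, nat_lit 1, nat_lit 0, nat_lit 1])) (.node (nat_lit 3747) (.leaf ((nat_lit 667), [nat_lit 1, nat_lit 3, nat_lit 1, nat_lit 0])) (.leaf ((nat_lit 586), [nat_lit 1, nat_lit 2, nat_lit 3, nat_lit 1, nat_lit 0, nat_lit 2, nat_lit 0, nat_lit 1, nat_lit 0, nat_lit 1])))))))))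
 (.node (nat_lit 3785) (.node (nat_lit 3766) (.node (nat_lit 3757) (.node (nat_lit 3752) (.node (nat_lit 3750) (.node (nat_lit 3749) (.leaf ((nat_lit 461), [nat_lit 2, nat_lit 3, nat_lit 0, nat_lit 1, nat_lit 0])) (.leaf ((nat_lit 512), [nat_lit 2, nat_lit 1, nat_lit 3, nat_lit 2, nat_lit 1]))) (.node (nat_lit 3751) (.leaf ((nat_lit 520), [nat_lit 3, nat_lit 2, nat_lit 0, nat_lit 2, nat_lit 0, nat_lit 1, nat_lit 0, nat_lit 1])) (.leaf ((nat_lit 254), [nat_lit 2, nat_lit 3, nat_lit 2, nat_lit 0, nat_lit 2, nat_lit 1, nat_lit 0]))))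
 (.node (nat_lit 3754) (.node (nat_lit 3753) (.leaf ((nat_lit 393), [nat_lit 3, nat_lit 1, nat_lit 2, nat_lit 3, nat_lit 1, nat_lit 2, nat_lit 1, nat_lit 0])) (.leaf ((nat_lit 631), [nat_lit 2, nat_lit 3, nat_lit 0, nat_lit 2, nat_lit 1, nat_lit 0, nat_lit 1, nat_lit 0]))) (.node (nat_lit 3755) (.leaf ((nat_lit 536), [nat_lit 3, nat_lit 1, nat_lit 3])) (.node (nat_lit 3756) (.leaf ((nat_lit 440), [nat_lit 3, nat_lit 1, nat_lit 2, nat_lit 3, nat_lit 2, nat_lit 0, nat_lit 2, nat_lit 0, nat_lit 1, nat_lit 0])) (.leaf ((nat_lit 523), [nat_lit 3, nat_lit 0, nat_lit 1, nat_lit 0, nat_lit 1]))))))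
 (.node (nat_lit 3761) (.node (nat_lit 3759) (.node (nat_lit 3758) (.leaf ((nat_lit 308), [nat_lit 3, nat_lit 1, nat_lit 2, nat_lit 3, nat_lit 0, nat_lit 2, nat_lit 1, nat_lit 0, nat_lit 1])) (.leaf ((nat_lit 256), [nat_lit 2, nat_lit 1, nat_lit 3, nat_lit 1, nat_lit 2, nat_lit 1, nat_lit 0, nat_lit 1]))) (.node (nat_lit 3760) (.leaf ((nat_lit 258), [nat_lit 0, nat_lit 1, nat_lit 2, nat_lit 3, nat_lit 2])) (.leaf ((nat_lit 477), [nat_lit 0, nat_lit 1, nat_lit 0, nat_lit 1, nat_lit 0]))))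
 (.node (nat_lit 3763) (.node (nat_lit 3762) (.leaf ((nat_lit 549), [nat_lit 1, nat_lit 2, nat_lit 3, nat_lit 2, nat_lit 0, nat_lit 2, nat_lit 0])) (.leaf ((nat_lit 623), [nat_lit 1, nat_lit 3, nat_lit 0, nat_lit 1, nat_lit 0, nat_lit 1, nat_lit 0]))) (.node (nat_lit 3764) (.leaf ((nat_lit 651), [nat_lit 3, nat_lit 1, nat_lit 2, nat_lit 3, nat_lit 2, nat_lit 1])) (.node (nat_lit 3765) (.leaf ((nat_lit 432), [nat_lit 3, nat_lit 1, nat_lit 2, nat_lit 3, nat_lit 1, nat_lit 0, nat_lit 2, nat_lit 1, nat_lit 0, nat_lit 1])) (.leaf ((nat_lit 292), [nat_lit 1, nat_lit 2, nat_lit 3, nat_lit 1, nat_lit 0, nat_lit 2, nat_lit 1, nat_lit 0, nat_lit 1, nat_lit 0])))))))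
 (.node (nat_lit 3775) (.node (nat_lit 3770) (.node (nat_lit 3768) (.node (nat_lit 3767) (.leaf ((nat_lit 480), [nat_lit 3, nat_lit 1, nat_lit 2, nat_lit 3, nat_lit 2, nat_lit 0, nat_lit 2, nat_lit 1, nat_lit 0, nat_lit 1, nat_lit 0])) (.leaf ((nat_lit 658), [nat_lit 2, nat_lit 1, nat_lit 3, nat_lit 2, nat_lit 0, nat_lit 1]))) (.node (nat_lit 3769) (.leaf ((nat_lit 610), [nat_lit 1, nat_lit 0, nat_lit 2, nat_lit 0, nat_lit 1, nat_lit 0, nat_lit 1, nat_lit 0])) (.leaf ((nat_lit 258), [nat_lit 2, nat_lit 1, nat_lit 3, nat_lit 2, nat_lit 0, nat_lit 2, nat_lit 0, nat_lit 1, nat_lit 0, nat_lit 1]))))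
 (.node (nat_lit 3772) (.node (nat_lit 3771) (.leaf ((nat_lit 263), [nat_lit 1, nat_lit 2, nat_lit 3, nat_lit 2, nat_lit 1, nat_lit 0, nat_lit 1])) (.leaf ((nat_lit 271), [nat_lit 0, nat_lit 1, nat_lit 3, nat_lit 2, nat_lit 0, nat_lit 2, nat_lit 1, nat_lit 0]))) (.node (nat_lit 3773) (.leaf ((nat_lit 394), [nat_lit 2, nat_lit 1, nat_lit 3, nat_lit 1, nat_lit 0, nat_lit 2, nat_lit 1, nat_lit 0, nat_lit 1])) (.node (nat_lit 3774) (.leaf ((nat_lit 663), [nat_lit 1, nat_lit 2, nat_lit 3, nat_lit 2, nat_lit 0, nat_lit 1])) (.leaf ((nat_lit 590), [nat_lit 3, nat_lit 1, nat_lit 3, nat_lit 2, nat_lit 0]))))))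
 (.node (nat_lit 3780) (.node (nat_lit 3777) (.node (nat_lit 3776) (.leaf ((nat_lit 593), [nat_lit 1, nat_lit 2, nat_lit 3, nat_lit 1, nat_lit 2, nat_lit 0, nat_lit 1, nat_lit 0])) (.leaf ((nat_lit 646), [nat_lit 3, nat_lit 2, nat_lit 3, nat_lit 1, nat_lit 2, nat_lit 0]))) (.node (nat_lit 3778) (.leaf ((nat_lit 344), [nat_lit 1, nat_lit 2, nat_lit 3, nat_lit 1, nat_lit 0, nat_lit 2, nat_lit 0, nat_lit 1, nat_lit 0, nat_lit 1, nat_lit 0])) (.node (nat_lit 3779) (.leaf ((nat_lit 281), [nat_lit 3, nat_lit 1, nat_lit 0, nat_lit 2, nat_lit 0, nat_lit 1])) (.leaf ((nat_lit 259), [nat_lit 2, nat_lit 3, nat_lit 0, nat_lit 2, nat_lit 0, nat_lit 1, nat_lit 0, nat_lit 1])))))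
 (.node (nat_lit 3782) (.node (nat_lit 3781) (.leaf ((nat_lit 299), [nat_lit 2, nat_lit 3, nat_lit 0])) (.leaf ((nat_lit 260), [nat_lit 0, nat_lit 1, nat_lit 2, nat_lit 3, nat_lit 1]))) (.node (nat_lit 3783) (.leaf ((nat_lit 294), [nat_lit 3, nat_lit 1, nat_lit 2, nat_lit 3, nat_lit 1, nat_lit 2])) (.node (nat_lit 3784) (.leaf ((nat_lit 311), [])) (.leaf ((nat_lit 540), [nat_lit 2, nat_lit 1, nat_lit 0, nat_lit 1]))))))))
 (.node (nat_lit 3803) (.node (nat_lit 3794) (.node (nat_lit 3789) (.node (nat_lit 3787) (.node (nat_lit 3786) (.leaf ((nat_lit 446), [nat_lit 3, nat_lit 2])) (.leaf ((nat_lit 418), [nat_lit 3, nat_lit 1, nat_lit 3]))) (.node (nat_lit 3788) (.leaf ((nat_lit 261), [nat_lit 2, nat_lit 1, nat_lit 3, nat_lit 2, nat_lit 0, nat_lit 2, nat_lit 0])) (.leaf ((nat_lit 497), [nat_lit 3, nat_lit 0, nat_lit 2, nat_lit 0, nat_lit 1]))))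
 (.node (nat_lit 3791) (.node (nat_lit 3790) (.leaf ((nat_lit 399), [nat_lit 0, nat_lit 1, nat_lit 2, nat_lit 3, nat_lit 0])) (.leaf ((nat_lit 457), [nat_lit 3, nat_lit 1, nat_lit 2, nat_lit 3, nat_lit 2, nat_lit 1, nat_lit 0]))) (.node (nat_lit 3792) (.leaf ((nat_lit 324), [nat_lit 3, nat_lit 1, nat_lit 2])) (.node (nat_lit 3793) (.leaf ((nat_lit 324), [nat_lit 1, nat_lit 3, nat_lit 0])) (.leaf ((nat_lit 644), [nat_lit 2, nat_lit 1, nat_lit 3, nat_lit 0, nat_lit 2, nat_lit 1, nat_lit 0, nat_lit 1, nat_lit 0]))))))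
 (.node (nat_lit 3798) (.node (nat_lit 3796) (.node (nat_lit 3795) (.leaf ((nat_lit 664), [nat_lit 1])) (.leaf ((nat_lit 668), [nat_lit 1, nat_lit 3, nat_lit 2, nat_lit 0, nat_lit 1]))) (.node (nat_lit 3797) (.leaf ((nat_lit 263), [nat_lit 2, nat_lit 3, nat_lit 1, nat_lit 2, nat_lit 1])) (.leaf ((nat_lit 447), [nat_lit 1, nat_lit 2, nat_lit 3, nat_lit 1, nat_lit 0, nat_lit 2, nat_lit 0, nat_lit 1]))))
 (.node (nat_lit 3800) (.node (nat_lit 3799) (.leaf ((nat_lit 634), [nat_lit 3, nat_lit 1, nat_lit 2, nat_lit 3, nat_lit 1, nat_lit 0, nat_lit 2, nat_lit 0])) (.leaf ((nat_lit 634), [nat_lit 2, nat_lit 1, nat_lit 3, nat_lit 1, nat_lit 2, nat_lit 0, nat_lit 1, nat_lit 0]))) (.node (nat_lit 3801) (.leaf ((nat_lit 637), [nat_lit 0, nat_lit 1, nat_lit 3, nat_lit 2, nat_lit 0, nat_lit 1, nat_lit 0, nat_lit 1])) (.node (nat_lit 3802) (.leaf ((nat_lit 649), [nat_lit 3, nat_lit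 0, nat_lit 2, nat_lit 0, nat_lit 1])) (.leaf ((nat_lit 669), [nat_lit 2, nat_lit 3, nat_lit 2, nat_lit 0, nat_lit 2, nat_lit 1, nat_lit 0, nat_lit 1])))))))
 (.node (nat_lit 3812) (.node (nat_lit 3807) (.node (nat_lit 3805) (.node (nat_lit 3804) (.leaf ((nat_lit 447), [nat_lit 2, nat_lit 1, nat_lit 3, nat_lit 1, nat_lit 2, nat_lit 0, nat_lit 1, nat_lit 0, nat_lit 1, nat_lit 0])) (.leaf ((nat_lit 263), [nat_lit 1, nat_lit 3, nat_lit 1, nat_lit 0, nat_lit 2, nat_lit 1, nat_lit 0, nat_lit 1, nat_lit 0]))) (.node (nat_lit 3806) (.leaf ((nat_lit 563), [nat_lit 2, nat_lit 1, nat_lit 3, nat_lit 2, nat_lit 0, nat_lit 1])) (.leaf ((nat_lit 339), [nat_lit 1, nat_lit 3, nat_lit 1, nat_lit 0, nat_lit 2]))))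
 (.node (nat_lit 3809) (.node (nat_lit 3808) (.leaf ((nat_lit 659), [nat_lit 0, nat_lit 1, nat_lit 2, nat_lit 3, nat_lit 1, nat_lit 0, nat_lit 2, nat_lit 1])) (.leaf ((nat_lit 569), [nat_lit 1, nat_lit 3, nat_lit 1]))) (.node (nat_lit 3810) (.leaf ((nat_lit 547), [nat_lit 1, nat_lit 2, nat_lit 3, nat_lit 1, nat_lit 2, nat_lit 0, nat_lit 1, nat_lit 0, nat_lit 1])) (.node (nat_lit 3811) (.leaf ((nat_lit 423), [nat_lit 1, nat_lit 2, nat_lit 0])) (.leaf ((nat_lit 264), [nat_lit 3, nat_lit 0, nat_lit 2, nat_lit 1, nat_lit 0]))))))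
 (.node (nat_lit 3817) (.node (nat_lit 3814) (.node (nat_lit 3813) (.leaf ((nat_lit 285), [nat_lit 3, nat_lit 1, nat_lit 2, nat_lit 3, nat_lit 1, nat_lit 0, nat_lit 2, nat_lit 0, nat_lit 1, nat_lit 0, nat_lit 1, nat_lit 0])) (.leaf ((nat_lit 287), [nat_lit 1, nat_lit 3, nat_lit 0, nat_lit 2, nat_lit 0, nat_lit 1]))) (.node (nat_lit 3815) (.leaf ((nat_lit 321), [nat_lit 3, nat_lit 1, nat_lit 2, nat_lit 3, nat_lit 0, nat_lit 2, nat_lit 0, nat_lit 1, nat_lit 0])) (.node (nat_lit 3816) (.leaf ((nat_lit 665), [nat_lit 1, nat_lit 3, nat_lit 1, nat_lit 2, nat_lit 1, nat_lit 0, nat_lit 1, nat_lit 0])) (.leaf ((nat_lit 591), [nat_lit 0, nat_lit 1, nat_lit 2, nat_lit 3, nat_lit 2, nat_lit 1, nat_lit 0])))))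
 (.node (nat_lit 3819) (.node (nat_lit 3818) (.leaf ((nat_lit 317), [nat_lit 3, nat_lit 2, nat_lit 3, nat_lit 0, nat_lit 1, nat_lit 0, nat_lit 1])) (.leaf ((nat_lit 432), [nat_lit 2, nat_lit 1, nat_lit 3, nat_lit 2, nat_lit 0, nat_lit 1]))) (.node (nat_lit 3820) (.leaf ((nat_lit 264), [nat_lit 3, nat_lit 1, nat_lit 2, nat_lit 3, nat_lit 2, nat_lit 1, nat_lit 0, nat_lit 1])) (.node (nat_lit 3821) (.leaf ((nat_lit 652), [nat_lit 2, nat_lit 1, nat_lit 3, nat_lit 1, nat_lit 2, nat_lit 0, nat_lit 1, nat_lit 0, nat_lit 1, nat_lit 0])) (.leaf ((nat_lit 613), [nat_lit 3, nat_lit 1, nat_lit 3, nat_lit 0, nat_lit 2, nat_lit 0, nat_lit 1, nat_lit 0, nat_lit 1, nat_lit 0]))))))))))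
noncomputable def bWd_26 : Tr (ℕ × List ℕ) := (.node (nat_lit 3895) (.node (nat_lit 3858) (.node (nat_lit 3840) (.node (nat_lit 3831) (.node (nat_lit 3826) (.node (nat_lit 3824) (.node (nat_lit 3823) (.leaf ((nat_lit 533), [nat_lit 3, nat_lit 1, nat_lit 3, nat_lit 0, nat_lit 1])) (.leaf ((nat_lit 265), [nat_lit 3, nat_lit 1, nat_lit 2, nat_lit 3, nat_lit 2, nat_lit 0, nat_lit 2, nat_lit 1, nat_lit 0, nat_lit 1]))) (.node (nat_lit 3825) (.leaf ((nat_lit 649), [nat_lit 0, nat_lit 1, nat_lit 3, nat_lit 1, nat_lit 0, nat_lit 1, nat_lit 0])) (.leaf ((nat_lit 664), [nat_lit 1, nat_lit 3, nat_lit 1, nat_lit 0, nat_lit 2, nat_lit 1, nat_lit 0]))))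
 (.node (nat_lit 3828) (.node (nat_lit 3827) (.leaf ((nat_lit 591), [nat_lit 0, nat_lit 1, nat_lit 2, nat_lit 3, nat_lit 2, nat_lit 0])) (.leaf ((nat_lit 667), [nat_lit 1, nat_lit 2, nat_lit 3, nat_lit 1, nat_lit 0, nat_lit 1]))) (.node (nat_lit 3829) (.leaf ((nat_lit 629), [nat_lit 0, nat_lit 1, nat_lit 2, nat_lit 3, nat_lit 0, nat_lit 1])) (.node (nat_lit 3830) (.leaf ((nat_lit 544), [nat_lit 0, nat_lit 1, nat_lit 2, nat_lit 3, nat_lit 1, nat_lit 2, nat_lit 0, nat_lit 1, nat_lit 0, nat_lit 1, nat_lit 0])) (.leaf ((nat_lit 569), [nat_lit 0, nat_lit 1, nat_lit 2, nat_lit 3, nat_lit 1, nat_lit 0, nat_lit 2, nat_lit 0, nat_lit 1, nat_lit 0, nat_lit 1]))))))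
 (.node (nat_lit 3835) (.node (nat_lit 3833) (.node (nat_lit 3832) (.leaf ((nat_lit 265), [nat_lit 2, nat_lit 3, nat_lit 0, nat_lit 1, nat_lit 0])) (.leaf ((nat_lit 285), [nat_lit 3, nat_lit 1, nat_lit 3, nat_lit 2, nat_lit 1]))) (.node (nat_lit 3834) (.leaf ((nat_lit 409), [nat_lit 2, nat_lit 3, nat_lit 2, nat_lit 0, nat_lit 2, nat_lit 1, nat_lit 0])) (.leaf ((nat_lit 629), [nat_lit 3, nat_lit 1, nat_lit 3, nat_lit 1, nat_lit 0, nat_lit 2, nat_lit 1, nat_lit 0, nat_lit 1]))))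
 (.node (nat_lit 3837) (.node (nat_lit 3836) (.leaf ((nat_lit 597), [nat_lit 1, nat_lit 2, nat_lit 3, nat_lit 2, nat_lit 0, nat_lit 2, nat_lit 0, nat_lit 1])) (.leaf ((nat_lit 359), [nat_lit 2, nat_lit 3, nat_lit 0, nat_lit 1, nat_lit 0, nat_lit 1, nat_lit 0]))) (.node (nat_lit 3838) (.leaf ((nat_lit 345), [nat_lit 3, nat_lit 2, nat_lit 3, nat_lit 1, nat_lit 2, nat_lit 1, nat_lit 0, nat_lit 1])) (.node (nat_lit 3839) (.leaf ((nat_lit 283), [nat_lit 2, nat_lit 0, nat_lit 2, nat_lit 1, nat_lit 0, nat_lit 1])) (.leaf ((nat_lit 548), [nat_lit 2])))))))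
 (.node (nat_lit 3849) (.node (nat_lit 3844) (.node (nat_lit 3842) (.node (nat_lit 3841) (.leaf ((nat_lit 267), [nat_lit 3, nat_lit 2, nat_lit 0, nat_lit 1, nat_lit 0, nat_lit 1])) (.leaf ((nat_lit 575), [nat_lit 2, nat_lit 1, nat_lit 3, nat_lit 2, nat_lit 0, nat_lit 2, nat_lit 0]))) (.node (nat_lit 3843) (.leaf ((nat_lit 464), [nat_lit 3, nat_lit 1, nat_lit 0, nat_lit 2, nat_lit 1, nat_lit 0, nat_lit 1, nat_lit 0])) (.leaf ((nat_lit 639), [nat_lit 0, nat_lit 1, nat_lit 3, nat_lit 2, nat_lit 0, nat_lit 2, nat_lit 0, nat_lit 1, nat_lit 0, nat_lit 1]))))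
 (.node (nat_lit 3846) (.node (nat_lit 3845) (.leaf ((nat_lit 409), [nat_lit 1, nat_lit 0, nat_lit 2, nat_lit 0])) (.leaf ((nat_lit 537), [nat_lit 0, nat_lit 1, nat_lit 3, nat_lit 0, nat_lit 2, nat_lit 1]))) (.node (nat_lit 3847) (.leaf ((nat_lit 658), [nat_lit 3, nat_lit 2, nat_lit 3, nat_lit 0, nat_lit 2, nat_lit 1, nat_lit 0, nat_lit 1])) (.node (nat_lit 3848) (.leaf ((nat_lit 576), [nat_lit 1, nat_lit 2, nat_lit 3, nat_lit 0, nat_lit 2, nat_lit 0, nat_lit 1, nat_lit 0, nat_lit 1])) (.leaf ((nat_lit 267), [nat_lit 3, nat_lit 1, nat_lit 2, nat_lit 0, nat_lit 1, nat_lit 0, nat_lit 1, nat_lit 0]))))))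
 (.node (nat_lit 3853) (.node (nat_lit 3851) (.node (nat_lit 3850) (.leaf ((nat_lit 417), [nat_lit 1, nat_lit 2, nat_lit 3, nat_lit 2, nat_lit 1, nat_lit 0, nat_lit 1, nat_lit 0])) (.leaf ((nat_lit 481), [nat_lit 3, nat_lit 0]))) (.node (nat_lit 3852) (.leaf ((nat_lit 504), [nat_lit 3, nat_lit 2, nat_lit 3, nat_lit 1, nat_lit 0])) (.leaf ((nat_lit 361), [nat_lit 0, nat_lit 1, nat_lit 2, nat_lit 3, nat_lit 0, nat_lit 1, nat_lit 0, nat_lit 1]))))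
 (.node (nat_lit 3855) (.node (nat_lit 3854) (.leaf ((nat_lit 361), [nat_lit 3, nat_lit 2, nat_lit 3, nat_lit 1, nat_lit 2, nat_lit 0, nat_lit 1, nat_lit 0])) (.leaf ((nat_lit 350), [nat_lit 0, nat_lit 1, nat_lit 3, nat_lit 1, nat_lit 0]))) (.node (nat_lit 3856) (.leaf ((nat_lit 393), [nat_lit 1, nat_lit 2, nat_lit 3, nat_lit 2, nat_lit 0, nat_lit 2, nat_lit 0, nat_lit 1, nat_lit 0])) (.node (nat_lit 3857) (.leaf ((nat_lit 268), [nat_lit 3, nat_lit 1, nat_lit 2, nat_lit 3, nat_lit 2, nat_lit 0, nat_lit 1, nat_lit 0, nat_lit 1, nat_lit 0])) (.leaf ((nat_lit 619), [nat_lit 0, nat_lit 1, nat_lit 2, nat_lit 3, nat_lit 0, nat_lit 1, nat_lit 0]))))))))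
 (.node (nat_lit 3876) (.node (nat_lit 3867) (.node (nat_lit 3862) (.node (nat_lit 3860) (.node (nat_lit 3859) (.leaf ((nat_lit 452), [nat_lit 3, nat_lit 1, nat_lit 0, nat_lit 2, nat_lit 1, nat_lit 0, nat_lit 1, nat_lit 0])) (.leaf ((nat_lit 269), [nat_lit 3, nat_lit 2, nat_lit 0, nat_lit 2]))) (.node (nat_lit 3861) (.leaf ((nat_lit 580), [nat_lit 2, nat_lit 3, nat_lit 2, nat_lit 0, nat_lit 2, nat_lit 0, nat_lit 1, nat_lit 0])) (.leaf ((nat_lit 455), [nat_lit 0, nat_lit 1, nat_lit 3, nat_lit 2, nat_lit 0, nat_lit 2]))))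
 (.node (nat_lit 3864) (.node (nat_lit 3863) (.leaf ((nat_lit 463), [nat_lit 3, nat_lit 1, nat_lit 2, nat_lit 3, nat_lit 0, nat_lit 1, nat_lit 0, nat_lit 1, nat_lit 0])) (.leaf ((nat_lit 551), [nat_lit 3, nat_lit 2, nat_lit 3, nat_lit 1, nat_lit 2, nat_lit 1, nat_lit 0, nat_lit 1, nat_lit 0]))) (.node (nat_lit 3865) (.leaf ((nat_lit 484), [nat_lit 0, nat_lit 1, nat_lit 3, nat_lit 2, nat_lit 1, nat_lit 0, nat_lit 1, nat_lit 0])) (.node (nat_lit 3866) (.leaf ((nat_lit 495), [nat_lit 3, nat_lit 1, nat_lit 3, nat_lit 2, nat_lit 0])) (.leaf ((nat_lit 465), [nat_lit 0, nat_lit 1, nat_lit 3, nat_lit 1, nat_lit 0, nat_lit 2, nat_lit 1, nat_lit 0]))))))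
 (.node (nat_lit 3871) (.node (nat_lit 3869) (.node (nat_lit 3868) (.leaf ((nat_lit 465), [nat_lit 0, nat_lit 1, nat_lit 3, nat_lit 1, nat_lit 0, nat_lit 2, nat_lit 1])) (.leaf ((nat_lit 528), [nat_lit 2, nat_lit 1, nat_lit 0, nat_lit 1]))) (.node (nat_lit 3870) (.leaf ((nat_lit 269), [nat_lit 2, nat_lit 3, nat_lit 0, nat_lit 2, nat_lit 0, nat_lit 1, nat_lit 0, nat_lit 1])) (.leaf ((nat_lit 381), [nat_lit 3, nat_lit 1, nat_lit 2, nat_lit 3, nat_lit 2, nat_lit 0, nat_lit 2, nat_lit 1, nat_lit 0]))))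
 (.node (nat_lit 3873) (.node (nat_lit 3872) (.leaf ((nat_lit 554), [nat_lit 3, nat_lit 1, nat_lit 3, nat_lit 0, nat_lit 2, nat_lit 0])) (.leaf ((nat_lit 270), [nat_lit 3, nat_lit 2, nat_lit 3, nat_lit 1, nat_lit 0, nat_lit 2, nat_lit 0, nat_lit 1, nat_lit 0, nat_lit 1]))) (.node (nat_lit 3874) (.leaf ((nat_lit 663), [nat_lit 1, nat_lit 3, nat_lit 1, nat_lit 2])) (.node (nat_lit 3875) (.leaf ((nat_lit 553), [nat_lit 1, nat_lit 0, nat_lit 2, nat_lit 0, nat_lit 1, nat_lit 0, nat_lit 1, nat_lit 0])) (.leaf ((nat_lit 669), [nat_lit 0, nat_lit 1, nat_lit 3, nat_lit 0, nat_lit 2, nat_lit 1, nat_lit 0, nat_lit 1, nat_lit 0])))))))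
 (.node (nat_lit 3885) (.node (nat_lit 3880) (.node (nat_lit 3878) (.node (nat_lit 3877) (.leaf ((nat_lit 421), [nat_lit 2, nat_lit 1, nat_lit 3, nat_lit 1, nat_lit 0, nat_lit 2])) (.leaf ((nat_lit 291), [nat_lit 0, nat_lit 1, nat_lit 2, nat_lit 3, nat_lit 0, nat_lit 2]))) (.node (nat_lit 3879) (.leaf ((nat_lit 270), [nat_lit 2, nat_lit 0, nat_lit 1, nat_lit 0, nat_lit 1])) (.leaf ((nat_lit 553), [nat_lit 0, nat_lit 1, nat_lit 2, nat_lit 3, nat_lit 0, nat_lit 2, nat_lit 0, nat_lit 1]))))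
 (.node (nat_lit 3882) (.node (nat_lit 3881) (.leaf ((nat_lit 596), [nat_lit 3, nat_lit 2, nat_lit 3, nat_lit 2, nat_lit 0])) (.leaf ((nat_lit 564), [nat_lit 3, nat_lit 1, nat_lit 3, nat_lit 1, nat_lit 0, nat_lit 2, nat_lit 0, nat_lit 1, nat_lit 0]))) (.node (nat_lit 3883) (.leaf ((nat_lit 621), [nat_lit 3, nat_lit 2, nat_lit 3, nat_lit 0, nat_lit 2, nat_lit 0, nat_lit 1, nat_lit 0])) (.node (nat_lit 3884) (.leaf ((nat_lit 568), [nat_lit 3, nat_lit 1, nat_lit 3, nat_lit 0, nat_lit 2, nat_lit 1])) (.leaf ((nat_lit 621), [nat_lit 0, nat_lit 1, nat_lit 2, nat_lit 3, nat_lit 1, nat_lit 0, nat_lit 2, nat_lit 1]))))))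
 (.node (nat_lit 3890) (.node (nat_lit 3887) (.node (nat_lit 3886) (.leaf ((nat_lit 646), [nat_lit 1, nat_lit 3, nat_lit 0, nat_lit 2])) (.leaf ((nat_lit 563), [nat_lit 1, nat_lit 3, nat_lit 1, nat_lit 0, nat_lit 2]))) (.node (nat_lit 3888) (.leaf ((nat_lit 591), [nat_lit 1, nat_lit 2, nat_lit 3, nat_lit 1, nat_lit 0, nat_lit 2, nat_lit 0, nat_lit 1, nat_lit 0, nat_lit 1, nat_lit 0])) (.node (nat_lit 3889) (.leaf ((nat_lit 590), [nat_lit 1, nat_lit 3, nat_lit 2, nat_lit 0, nat_lit 1, nat_lit 0, nat_lit 1, nat_lit 0])) (.leaf ((nat_lit 270), [nat_lit 1, nat_lit 3, nat_lit 2, nat_lit 0])))))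
 (.node (nat_lit 3892) (.node (nat_lit 3891) (.leaf ((nat_lit 528), [nat_lit 3, nat_lit 1, nat_lit 0, nat_lit 2, nat_lit 0, nat_lit 1, nat_lit 0])) (.leaf ((nat_lit 373), [nat_lit 3, nat_lit 1, nat_lit 3, nat_lit 2, nat_lit 0, nat_lit 2]))) (.node (nat_lit 3893) (.leaf ((nat_lit 509), [nat_lit 3, nat_lit 2, nat_lit 3, nat_lit 1, nat_lit 2, nat_lit 1, nat_lit 0, nat_lit 1])) (.node (nat_lit 3894) (.leaf ((nat_lit 634), [nat_lit 3, nat_lit 1, nat_lit 3, nat_lit 1, nat_lit 0, nat_lit 2, nat_lit 0, nat_lit 1, nat_lit 0, nat_lit 1, nat_lit 0])) (.leaf ((nat_lit 592), [nat_lit 0, nat_lit 2, nat_lit 1, nat_lit 0, nat_lit 1, nat_lit 0])))))))))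
 (.node (nat_lit 3932) (.node (nat_lit 3913) (.node (nat_lit 3904) (.node (nat_lit 3899) (.node (nat_lit 3897) (.node (nat_lit 3896) (.leaf ((nat_lit 666), [nat_lit 3, nat_lit 1, nat_lit 3])) (.leaf ((nat_lit 387), [nat_lit 1, nat_lit 2, nat_lit 3, nat_lit 0, nat_lit 2, nat_lit 0, nat_lit 1, nat_lit 0, nat_lit 1, nat_lit 0]))) (.node (nat_lit 3898) (.leaf ((nat_lit 487), [nat_lit 1, nat_lit 2, nat_lit 3, nat_lit 1, nat_lit 2, nat_lit 1, nat_lit 0])) (.leaf ((nat_lit 270), [nat_lit 2, nat_lit 1, nat_lit 3, nat_lit 1, nat_lit 0, nat_lit 2, nat_lit 1]))))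
 (.node (nat_lit 3901) (.node (nat_lit 3900) (.leaf ((nat_lit 476), [nat_lit 3, nat_lit 2, nat_lit 3, nat_lit 1, nat_lit 0, nat_lit 2, nat_lit 1, nat_lit 0])) (.leaf ((nat_lit 514), [nat_lit 1, nat_lit 0, nat_lit 2, nat_lit 0, nat_lit 1]))) (.node (nat_lit 3902) (.leaf ((nat_lit 271), [nat_lit 1, nat_lit 2, nat_lit 3, nat_lit 2])) (.node (nat_lit 3903) (.leaf ((nat_lit 517), [nat_lit 2, nat_lit 3, nat_lit 2, nat_lit 0, nat_lit 2, nat_lit 0, nat_lit 1, nat_lit 0, nat_lit 1])) (.leaf ((nat_lit 578), [nat_lit 3, nat_lit 1, nat_lit 2, nat_lit 3, nat_lit 2, nat_lit 1, nat_lit 0, nat_lit 1]))))))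
 (.node (nat_lit 3908) (.node (nat_lit 3906) (.node (nat_lit 3905) (.leaf ((nat_lit 412), [nat_lit 2, nat_lit 1, nat_lit 3, nat_lit 0, nat_lit 1, nat_lit 0, nat_lit 1])) (.leaf ((nat_lit 567), [nat_lit 1, nat_lit 3, nat_lit 1, nat_lit 2, nat_lit 1, nat_lit 0]))) (.node (nat_lit 3907) (.leaf ((nat_lit 487), [nat_lit 0, nat_lit 1, nat_lit 3, nat_lit 0])) (.leaf ((nat_lit 657), [nat_lit 3, nat_lit 1, nat_lit 2, nat_lit 3, nat_lit 2, nat_lit 0, nat_lit 2, nat_lit 1]))))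
 (.node (nat_lit 3910) (.node (nat_lit 3909) (.leaf ((nat_lit 517), [nat_lit 1, nat_lit 3, nat_lit 2, nat_lit 0, nat_lit 2, nat_lit 0, nat_lit 1, nat_lit 0, nat_lit 1, nat_lit 0])) (.leaf ((nat_lit 271), [nat_lit 3, nat_lit 0, nat_lit 2, nat_lit 0, nat_lit 1, nat_lit 0, nat_lit 1]))) (.node (nat_lit 3911) (.leaf ((nat_lit 620), [nat_lit 3, nat_lit 1, nat_lit 2, nat_lit 3, nat_lit 2, nat_lit 0, nat_lit 2, nat_lit 0, nat_lit 1, nat_lit 0, nat_lit 1])) (.node (nat_lit 3912) (.leaf ((nat_lit 484), [nat_lit 0, nat_lit 2, nat_lit 0])) (.leaf ((nat_lit 579), [nat_lit 1, nat_lit 3, nat_lit 0, nat_lit 1, nat_lit 0])))))))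
 (.node (nat_lit 3922) (.node (nat_lit 3917) (.node (nat_lit 3915) (.node (nat_lit 3914) (.leaf ((nat_lit 308), [nat_lit 0, nat_lit 1, nat_lit 3, nat_lit 2, nat_lit 0, nat_lit 1, nat_lit 0, nat_lit 1])) (.leaf ((nat_lit 579), [nat_lit 1, nat_lit 2, nat_lit 1, nat_lit 0, nat_lit 1]))) (.node (nat_lit 3916) (.leaf ((nat_lit 272), [nat_lit 2, nat_lit 0, nat_lit 2])) (.leaf ((nat_lit 488), [nat_lit 2, nat_lit 3, nat_lit 2, nat_lit 0, nat_lit 2]))))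
 (.node (nat_lit 3919) (.node (nat_lit 3918) (.leaf ((nat_lit 306), [nat_lit 3, nat_lit 2, nat_lit 0, nat_lit 2, nat_lit 0, nat_lit 1, nat_lit 0])) (.leaf ((nat_lit 564), [nat_lit 1, nat_lit 3, nat_lit 0, nat_lit 2, nat_lit 0, nat_lit 1, nat_lit 0, nat_lit 1]))) (.node (nat_lit 3920) (.leaf ((nat_lit 624), [nat_lit 2, nat_lit 3, nat_lit 0, nat_lit 1])) (.node (nat_lit 3921) (.leaf ((nat_lit 475), [nat_lit 1, nat_lit 3, nat_lit 1, nat_lit 2, nat_lit 0, nat_lit 1, nat_lit 0])) (.leaf ((nat_lit 276), [nat_lit 0, nat_lit 1, nat_lit 2, nat_lit 3, nat_lit 2, nat_lit 0, nat_lit 2, nat_lit 0, nat_lit 1]))))))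
 (.node (nat_lit 3927) (.node (nat_lit 3924) (.node (nat_lit 3923) (.leaf ((nat_lit 483), [nat_lit 3, nat_lit 1, nat_lit 3, nat_lit 2, nat_lit 0, nat_lit 1, nat_lit 0, nat_lit 1])) (.leaf ((nat_lit 483), [nat_lit 3, nat_lit 1, nat_lit 2, nat_lit 3, nat_lit 1, nat_lit 0, nat_lit 2, nat_lit 1]))) (.node (nat_lit 3925) (.leaf ((nat_lit 273), [nat_lit 2, nat_lit 3, nat_lit 2, nat_lit 0, nat_lit 2, nat_lit 0, nat_lit 1, nat_lit 0, nat_lit 1, nat_lit 0])) (.node (nat_lit 3926) (.leaf ((nat_lit 286), [nat_lit 2, nat_lit 3, nat_lit 2, nat_lit 0, nat_lit 1, nat_lit 0])) (.leaf ((nat_lit 275), [nat_lit 0, nat_lit 1, nat_lit 2, nat_lit 3, nat_lit 0, nat_lit 1])))))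
 (.node (nat_lit 3929) (.node (nat_lit 3928) (.leaf ((nat_lit 425), [nat_lit 3, nat_lit 0])) (.leaf ((nat_lit 445), [nat_lit 3, nat_lit 2, nat_lit 0, nat_lit 2, nat_lit 0]))) (.node (nat_lit 3930) (.leaf ((nat_lit 641), [nat_lit 3, nat_lit 1, nat_lit 3, nat_lit 1, nat_lit 2, nat_lit 0])) (.node (nat_lit 3931) (.leaf ((nat_lit 647), [nat_lit 3, nat_lit 1, nat_lit 2, nat_lit 3, nat_lit 2])) (.leaf ((nat_lit 602), [nat_lit 2, nat_lit 3, nat_lit 1, nat_lit 0, nat_lit 1]))))))))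
 (.node (nat_lit 3950) (.node (nat_lit 3941) (.node (nat_lit 3936) (.node (nat_lit 3934) (.node (nat_lit 3933) (.leaf ((nat_lit 274), [nat_lit 1, nat_lit 2, nat_lit 3, nat_lit 0, nat_lit 2, nat_lit 1, nat_lit 0, nat_lit 1, nat_lit 0])) (.leaf ((nat_lit 404), [nat_lit 3, nat_lit 1, nat_lit 3, nat_lit 2, nat_lit 0, nat_lit 2, nat_lit 1, nat_lit 0]))) (.node (nat_lit 3935) (.leaf ((nat_lit 470), [nat_lit 1, nat_lit 2, nat_lit 3, nat_lit 1, nat_lit 0, nat_lit 2, nat_lit 0, nat_lit 1, nat_lit 0])) (.leaf ((nat_lit 472), [nat_lit 0, nat_lit 1, nat_lit 3, nat_lit 2, nat_lit 0, nat_lit 2, nat_lit 1, nat_lit 0, nat_lit 1, nat_lit 0]))))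
 (.node (nat_lit 3938) (.node (nat_lit 3937) (.leaf ((nat_lit 468), [nat_lit 2, nat_lit 1, nat_lit 3, nat_lit 1, nat_lit 2, nat_lit 0])) (.leaf ((nat_lit 333), [nat_lit 3, nat_lit 0, nat_lit 2, nat_lit 1, nat_lit 0, nat_lit 1]))) (.node (nat_lit 3939) (.leaf ((nat_lit 499), [nat_lit 2, nat_lit 3, nat_lit 1, nat_lit 0, nat_lit 1, nat_lit 0])) (.node (nat_lit 3940) (.leaf ((nat_lit 320), [nat_lit 2, nat_lit 3, nat_lit 2, nat_lit 0, nat_lit 2, nat_lit 1, nat_lit 0, nat_lit 1])) (.leaf ((nat_lit 274), [nat_lit 2, nat_lit 3, nat_lit 1, nat_lit 0, nat_lit 2, nat_lit 1, nat_lit 0, nat_lit 1]))))))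
 (.node (nat_lit 3945) (.node (nat_lit 3943) (.node (nat_lit 3942) (.leaf ((nat_lit 555), [nat_lit 0, nat_lit 1, nat_lit 3, nat_lit 1, nat_lit 0, nat_lit 2, nat_lit 0])) (.leaf ((nat_lit 646), [nat_lit 2, nat_lit 1, nat_lit 3, nat_lit 0, nat_lit 2, nat_lit 0, nat_lit 1, nat_lit 0, nat_lit 1]))) (.node (nat_lit 3944) (.leaf ((nat_lit 282), [nat_lit 3, nat_lit 2, nat_lit 3, nat_lit 0, nat_lit 2, nat_lit 0, nat_lit 1, nat_lit 0, nat_lit 1, nat_lit 0])) (.leaf ((nat_lit 563), [nat_lit 1, nat_lit 3, nat_lit 1]))))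
 (.node (nat_lit 3947) (.node (nat_lit 3946) (.leaf ((nat_lit 543), [nat_lit 3, nat_lit 1, nat_lit 3, nat_lit 0, nat_lit 2, nat_lit 1, nat_lit 0])) (.leaf ((nat_lit 276), [nat_lit 0, nat_lit 1, nat_lit 2, nat_lit 3, nat_lit 1, nat_lit 0, nat_lit 2, nat_lit 1]))) (.node (nat_lit 3948) (.leaf ((nat_lit 570), [nat_lit 1, nat_lit 3, nat_lit 0, nat_lit 2, nat_lit 0, nat_lit 1, nat_lit 0, nat_lit 1, nat_lit 0])) (.node (nat_lit 3949) (.leaf ((nat_lit 317), [nat_lit 3, nat_lit 1, nat_lit 2, nat_lit 3, nat_lit 0, nat_lit 1, nat_lit 0])) (.leaf ((nat_lit 282), [nat_lit 3, nat_lit 1, nat_lit 2, nat_lit 3, nat_lit 0, nat_lit 1])))))))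
 (.node (nat_lit 3959) (.node (nat_lit 3954) (.node (nat_lit 3952) (.node (nat_lit 3951) (.leaf ((nat_lit 323), [nat_lit 0, nat_lit 1, nat_lit 3, nat_lit 1, nat_lit 0])) (.leaf ((nat_lit 554), [nat_lit 0, nat_lit 1, nat_lit 3, nat_lit 1, nat_lit 2, nat_lit 1, nat_lit 0]))) (.node (nat_lit 3953) (.leaf ((nat_lit 618), [nat_lit 1, nat_lit 2, nat_lit 3, nat_lit 2, nat_lit 0])) (.leaf ((nat_lit 559), [nat_lit 2, nat_lit 1, nat_lit 3, nat_lit 1, nat_lit 0, nat_lit 2, nat_lit 0]))))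
 (.node (nat_lit 3956) (.node (nat_lit 3955) (.leaf ((nat_lit 625), [nat_lit 1, nat_lit 2, nat_lit 3])) (.leaf ((nat_lit 618), [nat_lit 2, nat_lit 3, nat_lit 1, nat_lit 2, nat_lit 0, nat_lit 1, nat_lit 0, nat_lit 1, nat_lit 0]))) (.node (nat_lit 3957) (.leaf ((nat_lit 661), [nat_lit 1, nat_lit 2, nat_lit 3, nat_lit 2, nat_lit 0, nat_lit 1, nat_lit 0])) (.node (nat_lit 3958) (.leaf ((nat_lit 509), [nat_lit 2, nat_lit 1, nat_lit 3, nat_lit 0, nat_lit 2, nat_lit 1, nat_lit 0])) (.leaf ((nat_lit 613), [nat_lit 1, nat_lit 3, nat_lit 1, nat_lit 2, nat_lit 1, nat_lit 0, nat_lit 1, nat_lit 0]))))))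
 (.node (nat_lit 3964) (.node (nat_lit 3961) (.node (nat_lit 3960) (.leaf ((nat_lit 282), [nat_lit 2, nat_lit 0, nat_lit 2, nat_lit 1, nat_lit 0, nat_lit 1])) (.leaf ((nat_lit 344), [nat_lit 3, nat_lit 1, nat_lit 2, nat_lit 3, nat_lit 2, nat_lit 0, nat_lit 2, nat_lit 1]))) (.node (nat_lit 3962) (.leaf ((nat_lit 346), [nat_lit 3, nat_lit 1, nat_lit 2, nat_lit 3, nat_lit 2])) (.node (nat_lit 3963) (.leaf ((nat_lit 640), [nat_lit 3, nat_lit 1, nat_lit 3, nat_lit 0])) (.leaf ((nat_lit 642), [nat_lit 2, nat_lit 1, nat_lit 3, nat_lit 1, nat_lit 0, nat_lit 2, nat_lit 0, nat_lit 1, nat_lit 0, nat_lit 1, nat_lit 0])))))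
 (.node (nat_lit 3966) (.node (nat_lit 3965) (.leaf ((nat_lit 633), [nat_lit 2, nat_lit 3, nat_lit 2, nat_lit 0, nat_lit 2, nat_lit 0, nat_lit 1])) (.leaf ((nat_lit 427), [nat_lit 3, nat_lit 2, nat_lit 3, nat_lit 1, nat_lit 2, nat_lit 0, nat_lit 1]))) (.node (nat_lit 3967) (.leaf ((nat_lit 632), [nat_lit 2, nat_lit 3, nat_lit 2, nat_lit 0, nat_lit 1, nat_lit 0, nat_lit 1])) (.node (nat_lit 3968) (.leaf ((nat_lit 284), [nat_lit 3, nat_lit 1, nat_lit 2, nat_lit 3, nat_lit 1, nat_lit 2, nat_lit 0, nat_lit 1, nat_lit 0])) (.leaf ((nat_lit 664), [nat_lit 3, nat_lit 1, nat_lit 2, nat_lit 0, nat_lit 1, nat_lit 0, nat_lit 1, nat_lit 0]))))))))))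
noncomputable def bWd_27 : Tr (ℕ × List ℕ) := (.node (nat_lit 4042) (.node (nat_lit 4005) (.node (nat_lit 3987) (.node (nat_lit 3978) (.node (nat_lit 3973) (.node (nat_lit 3971) (.node (nat_lit 3970) (.leaf ((nat_lit 494), [nat_lit 1, nat_lit 0])) (.leaf ((nat_lit 287), [nat_lit 0, nat_lit 1, nat_lit 2, nat_lit 3, nat_lit 2, nat_lit 0, nat_lit 2, nat_lit 1, nat_lit 0, nat_lit 1, nat_lit 0]))) (.node (nat_lit 3972) (.leaf ((nat_lit 577), [nat_lit 3, nat_lit 0, nat_lit 2, nat_lit 1, nat_lit 0])) (.leaf ((nat_lit 530), [nat_lit 3, nat_lit 2, nat_lit 0, nat_lit 1]))))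
 (.node (nat_lit 3975) (.node (nat_lit 3974) (.leaf ((nat_lit 567), [nat_lit 0, nat_lit 2, nat_lit 0])) (.leaf ((nat_lit 596), [nat_lit 0, nat_lit 1, nat_lit 2, nat_lit 3, nat_lit 1, nat_lit 2, nat_lit 1, nat_lit 0, nat_lit 1, nat_lit 0]))) (.node (nat_lit 3976) (.leaf ((nat_lit 557), [nat_lit 3, nat_lit 1, nat_lit 3, nat_lit 1, nat_lit 0, nat_lit 2, nat_lit 0, nat_lit 1])) (.node (nat_lit 3977) (.leaf ((nat_lit 582), [nat_lit 2, nat_lit 1, nat_lit 3, nat_lit 2, nat_lit 1])) (.leaf ((nat_lit 656), [nat_lit 2, nat_lit 1, nat_lit 3, nat_lit 1, nat_lit 0, nat_lit 2, nat_lit 0, nat_lit 1, nat_lit 0, nat_lit 1]))))))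
 (.node (nat_lit 3982) (.node (nat_lit 3980) (.node (nat_lit 3979) (.leaf ((nat_lit 458), [nat_lit 3, nat_lit 1, nat_lit 2, nat_lit 3, nat_lit 0, nat_lit 2, nat_lit 1, nat_lit 0, nat_lit 1])) (.leaf ((nat_lit 534), [nat_lit 2, nat_lit 1, nat_lit 3, nat_lit 1, nat_lit 0, nat_lit 2, nat_lit 0, nat_lit 1]))) (.node (nat_lit 3981) (.leaf ((nat_lit 662), [nat_lit 0, nat_lit 1, nat_lit 3, nat_lit 0, nat_lit 2, nat_lit 0, nat_lit 1, nat_lit 0])) (.leaf ((nat_lit 554), [nat_lit 2, nat_lit 3, nat_lit 0, nat_lit 2, nat_lit 0, nat_lit 1]))))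
 (.node (nat_lit 3984) (.node (nat_lit 3983) (.leaf ((nat_lit 289), [nat_lit 0, nat_lit 1, nat_lit 3, nat_lit 0, nat_lit 2, nat_lit 0, nat_lit 1, nat_lit 0, nat_lit 1, nat_lit 0])) (.leaf ((nat_lit 547), [nat_lit 1, nat_lit 3, nat_lit 1, nat_lit 2, nat_lit 0, nat_lit 1, nat_lit 0, nat_lit 1]))) (.node (nat_lit 3985) (.leaf ((nat_lit 544), [nat_lit 1, nat_lit 3, nat_lit 1])) (.node (nat_lit 3986) (.leaf ((nat_lit 669), [nat_lit 0, nat_lit 1, nat_lit 2, nat_lit 3, nat_lit 0, nat_lit 2, nat_lit 0, nat_lit 1])) (.leaf ((nat_lit 669), [nat_lit 3, nat_lit 1, nat_lit 3, nat_lit 1])))))))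
 (.node (nat_lit 3996) (.node (nat_lit 3991) (.node (nat_lit 3989) (.node (nat_lit 3988) (.leaf ((nat_lit 592), [nat_lit 0, nat_lit 1, nat_lit 2, nat_lit 3, nat_lit 0, nat_lit 2, nat_lit 0, nat_lit 1, nat_lit 0])) (.leaf ((nat_lit 481), [nat_lit 3, nat_lit 2, nat_lit 3, nat_lit 2, nat_lit 0, nat_lit 2]))) (.node (nat_lit 3990) (.leaf ((nat_lit 290), [nat_lit 2, nat_lit 1, nat_lit 3, nat_lit 0, nat_lit 1])) (.leaf ((nat_lit 424), [nat_lit 2, nat_lit 1, nat_lit 3, nat_lit 1, nat_lit 2, nat_lit 0]))))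
 (.node (nat_lit 3993) (.node (nat_lit 3992) (.leaf ((nat_lit 376), [nat_lit 3, nat_lit 1, nat_lit 3, nat_lit 1, nat_lit 0, nat_lit 2, nat_lit 0, nat_lit 1, nat_lit 0, nat_lit 1, nat_lit 0])) (.leaf ((nat_lit 292), [nat_lit 3, nat_lit 2, nat_lit 3, nat_lit 0, nat_lit 2, nat_lit 1, nat_lit 0, nat_lit 1, nat_lit 0]))) (.node (nat_lit 3994) (.leaf ((nat_lit 291), [nat_lit 1, nat_lit 0, nat_lit 1])) (.node (nat_lit 3995) (.leaf ((nat_lit 489), [nat_lit 3, nat_lit 2, nat_lit 3])) (.leaf ((nat_lit 603), [nat_lit 2, nat_lit 1, nat_lit 3, nat_lit 1, nat_lit 0, nat_lit 2, nat_lit 1]))))))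
 (.node (nat_lit 4000) (.node (nat_lit 3998) (.node (nat_lit 3997) (.leaf ((nat_lit 563), [nat_lit 2, nat_lit 3, nat_lit 2, nat_lit 0, nat_lit 2, nat_lit 1, nat_lit 0, nat_lit 1])) (.leaf ((nat_lit 523), [nat_lit 0, nat_lit 1, nat_lit 2, nat_lit 3, nat_lit 2, nat_lit 0, nat_lit 2]))) (.node (nat_lit 3999) (.leaf ((nat_lit 526), [nat_lit 3, nat_lit 2, nat_lit 3, nat_lit 1, nat_lit 0, nat_lit 2, nat_lit 1, nat_lit 0, nat_lit 1, nat_lit 0])) (.leaf ((nat_lit 529), [nat_lit 0, nat_lit 1, nat_lit 3, nat_lit 2, nat_lit 0, nat_lit 1, nat_lit 0, nat_lit 1]))))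
 (.node (nat_lit 4002) (.node (nat_lit 4001) (.leaf ((nat_lit 631), [nat_lit 1, nat_lit 2, nat_lit 0, nat_lit 1])) (.leaf ((nat_lit 622), [nat_lit 1, nat_lit 3, nat_lit 1, nat_lit 0, nat_lit 2, nat_lit 0, nat_lit 1, nat_lit 0, nat_lit 1, nat_lit 0]))) (.node (nat_lit 4003) (.leaf ((nat_lit 530), [nat_lit 0, nat_lit 1, nat_lit 2, nat_lit 3, nat_lit 2, nat_lit 1])) (.node (nat_lit 4004) (.leaf ((nat_lit 293), [nat_lit 0, nat_lit 1, nat_lit 2, nat_lit 3, nat_lit 0, nat_lit 1, nat_lit 0])) (.leaf ((nat_lit 666), [nat_lit 0, nat_lit 1, nat_lit 2, nat_lit 3, nat_lit 2, nat_lit 1]))))))))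
 (.node (nat_lit 4023) (.node (nat_lit 4014) (.node (nat_lit 4009) (.node (nat_lit 4007) (.node (nat_lit 4006) (.leaf ((nat_lit 648), [nat_lit 1, nat_lit 3, nat_lit 1, nat_lit 0, nat_lit 2, nat_lit 1])) (.leaf ((nat_lit 634), [nat_lit 3, nat_lit 2, nat_lit 3, nat_lit 2, nat_lit 0, nat_lit 2, nat_lit 1]))) (.node (nat_lit 4008) (.leaf ((nat_lit 611), [nat_lit 1, nat_lit 0, nat_lit 2, nat_lit 0, nat_lit 1])) (.leaf ((nat_lit 635), [nat_lit 1, nat_lit 0, nat_lit 2, nat_lit 0, nat_lit 1, nat_lit 0]))))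
 (.node (nat_lit 4011) (.node (nat_lit 4010) (.leaf ((nat_lit 329), [nat_lit 2, nat_lit 1, nat_lit 3, nat_lit 2, nat_lit 0, nat_lit 2, nat_lit 1, nat_lit 0])) (.leaf ((nat_lit 304), [nat_lit 1, nat_lit 3, nat_lit 1, nat_lit 2, nat_lit 0, nat_lit 1, nat_lit 0, nat_lit 1, nat_lit 0]))) (.node (nat_lit 4012) (.leaf ((nat_lit 346), [nat_lit 3, nat_lit 1, nat_lit 3, nat_lit 2, nat_lit 0, nat_lit 2, nat_lit 0, nat_lit 1, nat_lit 0, nat_lit 1])) (.node (nat_lit 4013) (.leaf ((nat_lit 305), [nat_lit 1, nat_lit 2])) (.leaf ((nat_lit 631), [nat_lit 2, nat_lit 3, nat_lit 1, nat_lit 0, nat_lit 1, nat_lit 0]))))))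
 (.node (nat_lit 4018) (.node (nat_lit 4016) (.node (nat_lit 4015) (.leaf ((nat_lit 529), [nat_lit 1, nat_lit 0, nat_lit 1])) (.leaf ((nat_lit 581), [nat_lit 3, nat_lit 1, nat_lit 2, nat_lit 3, nat_lit 0, nat_lit 2, nat_lit 1, nat_lit 0, nat_lit 1]))) (.node (nat_lit 4017) (.leaf ((nat_lit 534), [nat_lit 0, nat_lit 1, nat_lit 3, nat_lit 2, nat_lit 1, nat_lit 0, nat_lit 1, nat_lit 0])) (.leaf ((nat_lit 328), [nat_lit 2, nat_lit 1, nat_lit 3, nat_lit 2, nat_lit 0, nat_lit 2, nat_lit 0, nat_lit 1]))))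
 (.node (nat_lit 4020) (.node (nat_lit 4019) (.leaf ((nat_lit 637), [nat_lit 3, nat_lit 2, nat_lit 3, nat_lit 0, nat_lit 2, nat_lit 0, nat_lit 1, nat_lit 0, nat_lit 1, nat_lit 0])) (.leaf ((nat_lit 587), [nat_lit 1, nat_lit 2, nat_lit 3, nat_lit 2, nat_lit 0, nat_lit 2, nat_lit 1, nat_lit 0, nat_lit 1, nat_lit 0]))) (.node (nat_lit 4021) (.leaf ((nat_lit 632), [nat_lit 3, nat_lit 2, nat_lit 3, nat_lit 0, nat_lit 1, nat_lit 0, nat_lit 1])) (.node (nat_lit 4022) (.leaf ((nat_lit 305), [nat_lit 1, nat_lit 3, nat_lit 2, nat_lit 0, nat_lit 1, nat_lit 0])) (.leaf ((nat_lit 637), [nat_lit 2, nat_lit 1, nat_lit 3, nat_lit 1, nat_lit 2, nat_lit 1, nat_lit 0, nat_lit 1])))))))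
 (.node (nat_lit 4032) (.node (nat_lit 4027) (.node (nat_lit 4025) (.node (nat_lit 4024) (.leaf ((nat_lit 574), [nat_lit 2, nat_lit 3, nat_lit 2, nat_lit 0, nat_lit 1, nat_lit 0, nat_lit 1, nat_lit 0])) (.leaf ((nat_lit 490), [nat_lit 1, nat_lit 3, nat_lit 1, nat_lit 0, nat_lit 1]))) (.node (nat_lit 4026) (.leaf ((nat_lit 600), [nat_lit 2, nat_lit 1, nat_lit 3, nat_lit 0, nat_lit 2, nat_lit 0, nat_lit 1, nat_lit 0])) (.leaf ((nat_lit 328), [nat_lit 3, nat_lit 2, nat_lit 3, nat_lit 2, nat_lit 1]))))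
 (.node (nat_lit 4029) (.node (nat_lit 4028) (.leaf ((nat_lit 662), [nat_lit 3, nat_lit 1, nat_lit 3, nat_lit 1, nat_lit 0, nat_lit 2])) (.leaf ((nat_lit 421), [nat_lit 3, nat_lit 1, nat_lit 3, nat_lit 1, nat_lit 2]))) (.node (nat_lit 4030) (.leaf ((nat_lit 305), [nat_lit 3, nat_lit 0, nat_lit 2, nat_lit 0, nat_lit 1, nat_lit 0])) (.node (nat_lit 4031) (.leaf ((nat_lit 548), [nat_lit 0, nat_lit 1, nat_lit 3, nat_lit 1, nat_lit 2, nat_lit 1, nat_lit 0, nat_lit 1])) (.leaf ((nat_lit 635), [nat_lit 0, nat_lit 1, nat_lit 3, nat_lit 2, nat_lit 0, nat_lit 1, nat_lit 0, nat_lit 1]))))))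
 (.node (nat_lit 4037) (.node (nat_lit 4034) (.node (nat_lit 4033) (.leaf ((nat_lit 592), [nat_lit 3, nat_lit 2, nat_lit 3, nat_lit 2, nat_lit 0, nat_lit 1, nat_lit 0, nat_lit 1])) (.leaf ((nat_lit 520), [nat_lit 3, nat_lit 1, nat_lit 3, nat_lit 2, nat_lit 0, nat_lit 2]))) (.node (nat_lit 4035) (.leaf ((nat_lit 618), [nat_lit 2, nat_lit 3, nat_lit 1, nat_lit 2, nat_lit 0, nat_lit 1, nat_lit 0])) (.node (nat_lit 4036) (.leaf ((nat_lit 636), [nat_lit 2, nat_lit 3, nat_lit 2, nat_lit 0, nat_lit 2, nat_lit 1, nat_lit 0])) (.leaf ((nat_lit 549), [nat_lit 2, nat_lit 1, nat_lit 3, nat_lit 2, nat_lit 1, nat_lit 0, nat_lit 1, nat_lit 0])))))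
 (.node (nat_lit 4039) (.node (nat_lit 4038) (.leaf ((nat_lit 305), [nat_lit 0, nat_lit 1, nat_lit 2, nat_lit 3, nat_lit 1, nat_lit 0, nat_lit 1, nat_lit 0])) (.leaf ((nat_lit 309), [nat_lit 2, nat_lit 3, nat_lit 0, nat_lit 1, nat_lit 0, nat_lit 1, nat_lit 0]))) (.node (nat_lit 4040) (.leaf ((nat_lit 507), [nat_lit 1, nat_lit 3, nat_lit 1, nat_lit 2, nat_lit 0, nat_lit 1])) (.node (nat_lit 4041) (.leaf ((nat_lit 327), [nat_lit 2, nat_lit 1, nat_lit 3, nat_lit 1, nat_lit 2, nat_lit 1, nat_lit 0])) (.leaf ((nat_lit 567), [nat_lit 0, nat_lit 1, nat_lit 2, nat_lit 3, nat_lit 2, nat_lit 0, nat_lit 2, nat_lit 1])))))))))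
 (.node (nat_lit 4079) (.node (nat_lit 4060) (.node (nat_lit 4051) (.node (nat_lit 4046) (.node (nat_lit 4044) (.node (nat_lit 4043) (.leaf ((nat_lit 306), [nat_lit 1, nat_lit 2, nat_lit 3, nat_lit 1])) (.leaf ((nat_lit 626), [nat_lit 1, nat_lit 2, nat_lit 3, nat_lit 1, nat_lit 0, nat_lit 2, nat_lit 1, nat_lit 0]))) (.node (nat_lit 4045) (.leaf ((nat_lit 458), [nat_lit 2, nat_lit 1, nat_lit 3, nat_lit 1, nat_lit 2, nat_lit 0, nat_lit 1])) (.leaf ((nat_lit 460), [nat_lit 2, nat_lit 3, nat_lit 1, nat_lit 0, nat_lit 2, nat_lit 0, nat_lit 1]))))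
 (.node (nat_lit 4048) (.node (nat_lit 4047) (.leaf ((nat_lit 337), [nat_lit 3, nat_lit 1, nat_lit 2, nat_lit 1, nat_lit 0, nat_lit 1, nat_lit 0])) (.leaf ((nat_lit 307), [nat_lit 2, nat_lit 0, nat_lit 2, nat_lit 1]))) (.node (nat_lit 4049) (.leaf ((nat_lit 605), [nat_lit 1, nat_lit 2, nat_lit 3, nat_lit 2, nat_lit 0, nat_lit 1, nat_lit 0])) (.node (nat_lit 4050) (.leaf ((nat_lit 515), [nat_lit 0, nat_lit 1, nat_lit 2, nat_lit 3, nat_lit 1, nat_lit 0, nat_lit 2, nat_lit 0])) (.leaf ((nat_lit 557), [nat_lit 1, nat_lit 3, nat_lit 2, nat_lit 0, nat_lit 2, nat_lit 0, nat_lit 1, nat_lit 0, nat_lit 1]))))))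
 (.node (nat_lit 4055) (.node (nat_lit 4053) (.node (nat_lit 4052) (.leaf ((nat_lit 648), [nat_lit 0, nat_lit 1, nat_lit 3, nat_lit 2, nat_lit 0, nat_lit 1, nat_lit 0, nat_lit 1])) (.leaf ((nat_lit 578), [nat_lit 3, nat_lit 2, nat_lit 3, nat_lit 0, nat_lit 1, nat_lit 0]))) (.node (nat_lit 4054) (.leaf ((nat_lit 559), [nat_lit 2, nat_lit 1, nat_lit 0])) (.leaf ((nat_lit 308), [nat_lit 0, nat_lit 1, nat_lit 3, nat_lit 2, nat_lit 0, nat_lit 2, nat_lit 1]))))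
 (.node (nat_lit 4057) (.node (nat_lit 4056) (.leaf ((nat_lit 619), [nat_lit 3, nat_lit 1, nat_lit 0, nat_lit 2, nat_lit 1, nat_lit 0, nat_lit 1, nat_lit 0])) (.leaf ((nat_lit 524), [nat_lit 1, nat_lit 2, nat_lit 3, nat_lit 1, nat_lit 0, nat_lit 1, nat_lit 0]))) (.node (nat_lit 4058) (.leaf ((nat_lit 579), [nat_lit 0, nat_lit 1, nat_lit 0, nat_lit 1, nat_lit 0])) (.node (nat_lit 4059) (.leaf ((nat_lit 619), [nat_lit 0, nat_lit 1, nat_lit 2, nat_lit 3, nat_lit 2])) (.leaf ((nat_lit 558), [nat_lit 0, nat_lit 1, nat_lit 3, nat_lit 2, nat_lit 0, nat_lit 2])))))))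
 (.node (nat_lit 4069) (.node (nat_lit 4064) (.node (nat_lit 4062) (.node (nat_lit 4061) (.leaf ((nat_lit 383), [nat_lit 3, nat_lit 2, nat_lit 3, nat_lit 0, nat_lit 1])) (.leaf ((nat_lit 624), [nat_lit 1, nat_lit 2, nat_lit 3, nat_lit 0, nat_lit 2, nat_lit 1, nat_lit 0]))) (.node (nat_lit 4063) (.leaf ((nat_lit 308), [nat_lit 3, nat_lit 1, nat_lit 2, nat_lit 3, nat_lit 0, nat_lit 1])) (.leaf ((nat_lit 551), [nat_lit 3, nat_lit 1, nat_lit 2, nat_lit 3, nat_lit 1, nat_lit 0, nat_lit 2, nat_lit 0, nat_lit 1, nat_lit 0, nat_lit 1]))))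
 (.node (nat_lit 4066) (.node (nat_lit 4065) (.leaf ((nat_lit 335), [nat_lit 3, nat_lit 2, nat_lit 3, nat_lit 1, nat_lit 0, nat_lit 2, nat_lit 1])) (.leaf ((nat_lit 580), [nat_lit 2, nat_lit 1, nat_lit 3, nat_lit 0, nat_lit 2, nat_lit 0, nat_lit 1, nat_lit 0, nat_lit 1]))) (.node (nat_lit 4067) (.leaf ((nat_lit 482), [nat_lit 3, nat_lit 1, nat_lit 2, nat_lit 3, nat_lit 2, nat_lit 0, nat_lit 1])) (.node (nat_lit 4068) (.leaf ((nat_lit 583), [nat_lit 2, nat_lit 1])) (.leaf ((nat_lit 602), [nat_lit 2, nat_lit 3, nat_lit 2, nat_lit 0, nat_lit 2, nat_lit 0, nat_lit 1]))))))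
 (.node (nat_lit 4074) (.node (nat_lit 4071) (.node (nat_lit 4070) (.leaf ((nat_lit 309), [nat_lit 3, nat_lit 2, nat_lit 3, nat_lit 2, nat_lit 1])) (.leaf ((nat_lit 498), [nat_lit 0, nat_lit 1, nat_lit 2, nat_lit 3, nat_lit 0, nat_lit 2, nat_lit 0]))) (.node (nat_lit 4072) (.leaf ((nat_lit 573), [nat_lit 3, nat_lit 2, nat_lit 3, nat_lit 0, nat_lit 2, nat_lit 1])) (.node (nat_lit 4073) (.leaf ((nat_lit 362), [nat_lit 1, nat_lit 2, nat_lit 0, nat_lit 1, nat_lit 0])) (.leaf ((nat_lit 448), [nat_lit 1, nat_lit 2, nat_lit 3, nat_lit 2, nat_lit 0, nat_lit 1])))))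
 (.node (nat_lit 4076) (.node (nat_lit 4075) (.leaf ((nat_lit 656), [nat_lit 3, nat_lit 2, nat_lit 3, nat_lit 1])) (.leaf ((nat_lit 568), [nat_lit 1, nat_lit 2, nat_lit 3, nat_lit 1, nat_lit 2]))) (.node (nat_lit 4077) (.leaf ((nat_lit 653), [nat_lit 1, nat_lit 2, nat_lit 3, nat_lit 1, nat_lit 2, nat_lit 1, nat_lit 0])) (.node (nat_lit 4078) (.leaf ((nat_lit 425), [nat_lit 0, nat_lit 1, nat_lit 3, nat_lit 2, nat_lit 0, nat_lit 1])) (.leaf ((nat_lit 309), [nat_lit 3, nat_lit 2, nat_lit 3, nat_lit 1, nat_lit 2, nat_lit 0, nat_lit 1]))))))))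
 (.node (nat_lit 4097) (.node (nat_lit 4088) (.node (nat_lit 4083) (.node (nat_lit 4081) (.node (nat_lit 4080) (.leaf ((nat_lit 523), [nat_lit 2, nat_lit 0, nat_lit 2, nat_lit 1])) (.leaf ((nat_lit 526), [nat_lit 1, nat_lit 3, nat_lit 1, nat_lit 0, nat_lit 2]))) (.node (nat_lit 4082) (.leaf ((nat_lit 602), [nat_lit 2, nat_lit 3, nat_lit 1, nat_lit 0, nat_lit 2, nat_lit 0, nat_lit 1, nat_lit 0, nat_lit 1, nat_lit 0])) (.leaf ((nat_lit 581), [nat_lit 1, nat_lit 2]))))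
 (.node (nat_lit 4085) (.node (nat_lit 4084) (.leaf ((nat_lit 330), [nat_lit 3, nat_lit 1, nat_lit 2, nat_lit 3, nat_lit 2, nat_lit 1, nat_lit 0, nat_lit 1])) (.leaf ((nat_lit 417), [nat_lit 1, nat_lit 2, nat_lit 3, nat_lit 2, nat_lit 1, nat_lit 0, nat_lit 1]))) (.node (nat_lit 4086) (.leaf ((nat_lit 328), [nat_lit 2, nat_lit 1, nat_lit 3, nat_lit 0, nat_lit 2, nat_lit 0])) (.node (nat_lit 4087) (.leaf ((nat_lit 533), [nat_lit 1, nat_lit 3, nat_lit 0, nat_lit 1, nat_lit 0, nat_lit 1])) (.leaf ((nat_lit 311), [nat_lit 3, nat_lit 1, nat_lit 3, nat_lit 0, nat_lit 2, nat_lit 1, nat_lit 0]))))))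
 (.node (nat_lit 4092) (.node (nat_lit 4090) (.node (nat_lit 4089) (.leaf ((nat_lit 635), [nat_lit 3, nat_lit 1, nat_lit 3, nat_lit 2, nat_lit 1])) (.leaf ((nat_lit 401), [nat_lit 1, nat_lit 3, nat_lit 2, nat_lit 0, nat_lit 2, nat_lit 0]))) (.node (nat_lit 4091) (.leaf ((nat_lit 612), [nat_lit 3, nat_lit 1, nat_lit 2, nat_lit 3, nat_lit 2, nat_lit 0, nat_lit 2, nat_lit 1, nat_lit 0])) (.leaf ((nat_lit 644), [nat_lit 3, nat_lit 1, nat_lit 3, nat_lit 2, nat_lit 0, nat_lit 2, nat_lit 1, nat_lit 0]))))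
 (.node (nat_lit 4094) (.node (nat_lit 4093) (.leaf ((nat_lit 319), [nat_lit 2, nat_lit 3, nat_lit 1, nat_lit 2, nat_lit 0, nat_lit 1])) (.leaf ((nat_lit 312), [nat_lit 1, nat_lit 2, nat_lit 3, nat_lit 2, nat_lit 0, nat_lit 2, nat_lit 0, nat_lit 1, nat_lit 0, nat_lit 1, nat_lit 0]))) (.node (nat_lit 4095) (.leaf ((nat_lit 533), [nat_lit 2, nat_lit 3, nat_lit 2, nat_lit 0, nat_lit 2, nat_lit 0, nat_lit 1, nat_lit 0, nat_lit 1])) (.node (nat_lit 4096) (.leaf ((nat_lit 489), [nat_lit 3, nat_lit 1, nat_lit 0, nat_lit 2, nat_lit 1, nat_lit 0, nat_lit 1, nat_lit 0])) (.leaf ((nat_lit 313), [nat_lit 3, nat_lit 2, nat_lit 3, nat_lit 0, nat_lit 2, nat_lit 0])))))))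
 (.node (nat_lit 4106) (.node (nat_lit 4101) (.node (nat_lit 4099) (.node (nat_lit 4098) (.leaf ((nat_lit 320), [nat_lit 1, nat_lit 2, nat_lit 0])) (.leaf ((nat_lit 320), [nat_lit 3, nat_lit 1, nat_lit 2, nat_lit 3, nat_lit 2, nat_lit 0, nat_lit 1, nat_lit 0, nat_lit 1, nat_lit 0]))) (.node (nat_lit 4100) (.leaf ((nat_lit 390), [nat_lit 2, nat_lit 1, nat_lit 3, nat_lit 1, nat_lit 0, nat_lit 1, nat_lit 0])) (.leaf ((nat_lit 521), [nat_lit 0, nat_lit 1, nat_lit 2, nat_lit 3, nat_lit 2, nat_lit 0, nat_lit 2]))))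
 (.node (nat_lit 4103) (.node (nat_lit 4102) (.leaf ((nat_lit 633), [nat_lit 1, nat_lit 2, nat_lit 3, nat_lit 2, nat_lit 1, nat_lit 0, nat_lit 1])) (.leaf ((nat_lit 586), [nat_lit 0, nat_lit 2, nat_lit 0, nat_lit 1, nat_lit 0, nat_lit 1]))) (.node (nat_lit 4104) (.leaf ((nat_lit 586), [nat_lit 2, nat_lit 0, nat_lit 2, nat_lit 0, nat_lit 1])) (.node (nat_lit 4105) (.leaf ((nat_lit 535), [nat_lit 1, nat_lit 3, nat_lit 1, nat_lit 2, nat_lit 0, nat_lit 1, nat_lit 0, nat_lit 1, nat_lit 0])) (.leaf ((nat_lit 599), [nat_lit 1, nat_lit 3, nat_lit 2, nat_lit 0, nat_lit 2, nat_lit 0]))))))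
 (.node (nat_lit 4111) (.node (nat_lit 4108) (.node (nat_lit 4107) (.leaf ((nat_lit 587), [nat_lit 2, nat_lit 3, nat_lit 2, nat_lit 1])) (.leaf ((nat_lit 605), [nat_lit 3, nat_lit 1, nat_lit 0, nat_lit 2, nat_lit 0]))) (.node (nat_lit 4109) (.leaf ((nat_lit 313), [nat_lit 3, nat_lit 1, nat_lit 3, nat_lit 1, nat_lit 2, nat_lit 0, nat_lit 1, nat_lit 0, nat_lit 1, nat_lit 0])) (.node (nat_lit 4110) (.leaf ((nat_lit 574), [nat_lit 0, nat_lit 1, nat_lit 3, nat_lit 0, nat_lit 2, nat_lit 1, nat_lit 0, nat_lit 1, nat_lit 0])) (.leaf ((nat_lit 637), [nat_lit 3, nat_lit 1, nat_lit 2, nat_lit 3, nat_lit 1, nat_lit 0, nat_lit 2, nat_lit 1, nat_lit 0, nat_lit 1, nat_lit 0])))))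
 (.node (nat_lit 4113) (.node (nat_lit 4112) (.leaf ((nat_lit 587), [nat_lit 3, nat_lit 1, nat_lit 2, nat_lit 3, nat_lit 2, nat_lit 0, nat_lit 2, nat_lit 1, nat_lit 0, nat_lit 1])) (.leaf ((nat_lit 638), [nat_lit 0, nat_lit 2]))) (.node (nat_lit 4114) (.leaf ((nat_lit 586), [nat_lit 1, nat_lit 2, nat_lit 3, nat_lit 2])) (.node (nat_lit 4115) (.leaf ((nat_lit 401), [nat_lit 3, nat_lit 2, nat_lit 0, nat_lit 2, nat_lit 0])) (.leaf ((nat_lit 314), [nat_lit 3, nat_lit 0, nat_lit 2, nat_lit 0, nat_lit 1, nat_lit 0]))))))))))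
noncomputable def bWd_28 : Tr (ℕ × List ℕ) := (.node (nat_lit 4189) (.node (nat_lit 4152) (.node (nat_lit 4134) (.node (nat_lit 4125) (.node (nat_lit 4120) (.node (nat_lit 4118) (.node (nat_lit 4117) (.leaf ((nat_lit 330), [nat_lit 3, nat_lit 1, nat_lit 3, nat_lit 0, nat_lit 2, nat_lit 0, nat_lit 1])) (.leaf ((nat_lit 420), [nat_lit 2, nat_lit 3, nat_lit 0, nat_lit 2, nat_lit 1, nat_lit 0, nat_lit 1]))) (.node (nat_lit 4119) (.leaf ((nat_lit 418), [nat_lit 0, nat_lit 1, nat_lit 2, nat_lit 3, nat_lit 2, nat_lit 1, nat_lit 0, nat_lit 1, nat_lit 0])) (.leaf ((nat_lit 660), [nat_lit 0, nat_lit 1, nat_lit 3, nat_lit 2]))))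
 (.node (nat_lit 4122) (.node (nat_lit 4121) (.leaf ((nat_lit 653), [nat_lit 0, nat_lit 1, nat_lit 2, nat_lit 3, nat_lit 2, nat_lit 0, nat_lit 2, nat_lit 0, nat_lit 1])) (.leaf ((nat_lit 317), [nat_lit 0, nat_lit 1, nat_lit 3]))) (.node (nat_lit 4123) (.leaf ((nat_lit 665), [nat_lit 2, nat_lit 0, nat_lit 2, nat_lit 1, nat_lit 0, nat_lit 1])) (.node (nat_lit 4124) (.leaf ((nat_lit 319), [nat_lit 3, nat_lit 1, nat_lit 2, nat_lit 3, nat_lit 0, nat_lit 2, nat_lit 1, nat_lit 0, nat_lit 1])) (.leaf ((nat_lit 432), [nat_lit 1, nat_lit 3, nat_lit 1, nat_lit 2, nat_lit 1]))))))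
 (.node (nat_lit 4129) (.node (nat_lit 4127) (.node (nat_lit 4126) (.leaf ((nat_lit 604), [nat_lit 1, nat_lit 3, nat_lit 2, nat_lit 0, nat_lit 2, nat_lit 0, nat_lit 1, nat_lit 0])) (.leaf ((nat_lit 589), [nat_lit 1, nat_lit 2, nat_lit 3, nat_lit 0, nat_lit 2, nat_lit 1, nat_lit 0, nat_lit 1, nat_lit 0]))) (.node (nat_lit 4128) (.leaf ((nat_lit 666), [nat_lit 1, nat_lit 2, nat_lit 3, nat_lit 2, nat_lit 0, nat_lit 2, nat_lit 1])) (.leaf ((nat_lit 423), [nat_lit 2, nat_lit 3, nat_lit 1, nat_lit 2, nat_lit 1, nat_lit 0, nat_lit 1, nat_lit 0]))))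
 (.node (nat_lit 4131) (.node (nat_lit 4130) (.leaf ((nat_lit 456), [nat_lit 3, nat_lit 2, nat_lit 0, nat_lit 1])) (.leaf ((nat_lit 539), [nat_lit 0, nat_lit 1, nat_lit 2, nat_lit 3, nat_lit 0, nat_lit 2, nat_lit 0, nat_lit 1, nat_lit 0]))) (.node (nat_lit 4132) (.leaf ((nat_lit 663), [nat_lit 3, nat_lit 1, nat_lit 3, nat_lit 1, nat_lit 0, nat_lit 1])) (.node (nat_lit 4133) (.leaf ((nat_lit 319), [nat_lit 2, nat_lit 1, nat_lit 3, nat_lit 2, nat_lit 0, nat_lit 1, nat_lit 0, nat_lit 1, nat_lit 0])) (.leaf ((nat_lit 555), [nat_lit 2, nat_lit 3, nat_lit 1, nat_lit 0, nat_lit 2, nat_lit 0])))))))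
 (.node (nat_lit 4143) (.node (nat_lit 4138) (.node (nat_lit 4136) (.node (nat_lit 4135) (.leaf ((nat_lit 595), [nat_lit 1, nat_lit 3, nat_lit 2, nat_lit 0, nat_lit 2, nat_lit 1])) (.leaf ((nat_lit 514), [nat_lit 1, nat_lit 3, nat_lit 2, nat_lit 0, nat_lit 2, nat_lit 0, nat_lit 1, nat_lit 0]))) (.node (nat_lit 4137) (.leaf ((nat_lit 670), [nat_lit 3, nat_lit 0, nat_lit 2, nat_lit 1, nat_lit 0, nat_lit 1])) (.leaf ((nat_lit 545), [nat_lit 0, nat_lit 1, nat_lit 2, nat_lit 3, nat_lit 2, nat_lit 1, nat_lit 0]))))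
 (.node (nat_lit 4140) (.node (nat_lit 4139) (.leaf ((nat_lit 665), [nat_lit 0, nat_lit 1, nat_lit 3, nat_lit 1, nat_lit 0, nat_lit 1])) (.leaf ((nat_lit 555), [nat_lit 0, nat_lit 1, nat_lit 3, nat_lit 1, nat_lit 2, nat_lit 0, nat_lit 1, nat_lit 0, nat_lit 1, nat_lit 0]))) (.node (nat_lit 4141) (.leaf ((nat_lit 319), [nat_lit 1, nat_lit 2, nat_lit 3, nat_lit 2, nat_lit 0, nat_lit 2, nat_lit 0, nat_lit 1])) (.node (nat_lit 4142) (.leaf ((nat_lit 546), [nat_lit 2, nat_lit 1, nat_lit 3, nat_lit 0, nat_lit 2, nat_lit 1, nat_lit 0])) (.leaf ((nat_lit 627), [nat_lit 0, nat_lit 2, nat_lit 0, nat_lit 1, nat_lit 0]))))))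
 (.node (nat_lit 4147) (.node (nat_lit 4145) (.node (nat_lit 4144) (.leaf ((nat_lit 591), [nat_lit 1, nat_lit 3, nat_lit 1])) (.leaf ((nat_lit 520), [nat_lit 3, nat_lit 1, nat_lit 2, nat_lit 3, nat_lit 0, nat_lit 1, nat_lit 0]))) (.node (nat_lit 4146) (.leaf ((nat_lit 576), [nat_lit 3, nat_lit 1, nat_lit 3, nat_lit 2, nat_lit 0, nat_lit 2])) (.leaf ((nat_lit 556), [nat_lit 0, nat_lit 2, nat_lit 1, nat_lit 0, nat_lit 1, nat_lit 0]))))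
 (.node (nat_lit 4149) (.node (nat_lit 4148) (.leaf ((nat_lit 661), [nat_lit 0, nat_lit 1, nat_lit 2, nat_lit 3, nat_lit 1, nat_lit 0, nat_lit 2, nat_lit 0, nat_lit 1, nat_lit 0])) (.leaf ((nat_lit 569), [nat_lit 3, nat_lit 1, nat_lit 3, nat_lit 2, nat_lit 0]))) (.node (nat_lit 4150) (.leaf ((nat_lit 319), [nat_lit 0, nat_lit 1, nat_lit 3, nat_lit 2, nat_lit 0, nat_lit 2, nat_lit 0])) (.node (nat_lit 4151) (.leaf ((nat_lit 367), [nat_lit 2, nat_lit 3, nat_lit 2, nat_lit 0, nat_lit 1, nat_lit 0])) (.leaf ((nat_lit 604), [nat_lit 1, nat_lit 2, nat_lit 3, nat_lit 1, nat_lit 0, nat_lit 2, nat_lit 1, nat_lit 0]))))))))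
 (.node (nat_lit 4170) (.node (nat_lit 4161) (.node (nat_lit 4156) (.node (nat_lit 4154) (.node (nat_lit 4153) (.leaf ((nat_lit 596), [nat_lit 1, nat_lit 3, nat_lit 1, nat_lit 0, nat_lit 2, nat_lit 0, nat_lit 1, nat_lit 0])) (.leaf ((nat_lit 539), [nat_lit 0, nat_lit 1, nat_lit 2, nat_lit 3, nat_lit 0, nat_lit 2, nat_lit 1]))) (.node (nat_lit 4155) (.leaf ((nat_lit 594), [nat_lit 3, nat_lit 1, nat_lit 2, nat_lit 3, nat_lit 1, nat_lit 0, nat_lit 2])) (.leaf ((nat_lit 396), [nat_lit 3, nat_lit 2, nat_lit 3, nat_lit 1, nat_lit 2, nat_lit 0]))))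
 (.node (nat_lit 4158) (.node (nat_lit 4157) (.leaf ((nat_lit 641), [nat_lit 0, nat_lit 1, nat_lit 2, nat_lit 3, nat_lit 1, nat_lit 2, nat_lit 1, nat_lit 0, nat_lit 1, nat_lit 0])) (.leaf ((nat_lit 322), [nat_lit 1, nat_lit 2, nat_lit 3, nat_lit 1, nat_lit 0, nat_lit 2, nat_lit 0, nat_lit 1, nat_lit 0, nat_lit 1]))) (.node (nat_lit 4159) (.leaf ((nat_lit 595), [nat_lit 1, nat_lit 0, nat_lit 2, nat_lit 1, nat_lit 0])) (.node (nat_lit 4160) (.leaf ((nat_lit 323), [nat_lit 3, nat_lit 1, nat_lit 2, nat_lit 1])) (.leaf ((nat_lit 646), [nat_lit 3, nat_lit 2, nat_lit 3, nat_lit 2, nat_lit 0, nat_lit 1, nat_lit 0, nat_lit 1]))))))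
 (.node (nat_lit 4165) (.node (nat_lit 4163) (.node (nat_lit 4162) (.leaf ((nat_lit 593), [nat_lit 1, nat_lit 2, nat_lit 3, nat_lit 2, nat_lit 0, nat_lit 2, nat_lit 0, nat_lit 1, nat_lit 0, nat_lit 1])) (.leaf ((nat_lit 611), [nat_lit 1, nat_lit 2, nat_lit 3, nat_lit 2, nat_lit 0, nat_lit 1, nat_lit 0, nat_lit 1]))) (.node (nat_lit 4164) (.leaf ((nat_lit 452), [nat_lit 0, nat_lit 1, nat_lit 3, nat_lit 1, nat_lit 2, nat_lit 1, nat_lit 0, nat_lit 1])) (.leaf ((nat_lit 454), [nat_lit 1, nat_lit 2, nat_lit 3, nat_lit 0, nat_lit 2, nat_lit 1]))))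
 (.node (nat_lit 4167) (.node (nat_lit 4166) (.leaf ((nat_lit 323), [nat_lit 3, nat_lit 0, nat_lit 1, nat_lit 0, nat_lit 1])) (.leaf ((nat_lit 594), [nat_lit 1, nat_lit 2, nat_lit 0, nat_lit 1, nat_lit 0, nat_lit 1, nat_lit 0]))) (.node (nat_lit 4168) (.leaf ((nat_lit 665), [nat_lit 0, nat_lit 1, nat_lit 2, nat_lit 3, nat_lit 1, nat_lit 0, nat_lit 2, nat_lit 0, nat_lit 1, nat_lit 0])) (.node (nat_lit 4169) (.leaf ((nat_lit 595), [nat_lit 1, nat_lit 3, nat_lit 1, nat_lit 0, nat_lit 2, nat_lit 0, nat_lit 1, nat_lit 0, nat_lit 1])) (.leaf ((nat_lit 590), [nat_lit 3, nat_lit 0, nat_lit 1])))))))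
 (.node (nat_lit 4179) (.node (nat_lit 4174) (.node (nat_lit 4172) (.node (nat_lit 4171) (.leaf ((nat_lit 600), [nat_lit 0, nat_lit 1, nat_lit 2, nat_lit 3, nat_lit 2, nat_lit 0, nat_lit 2, nat_lit 0, nat_lit 1, nat_lit 0])) (.leaf ((nat_lit 663), [nat_lit 0, nat_lit 1, nat_lit 2, nat_lit 3, nat_lit 1, nat_lit 0, nat_lit 2, nat_lit 0, nat_lit 1]))) (.node (nat_lit 4173) (.leaf ((nat_lit 593), [nat_lit 3, nat_lit 1, nat_lit 0, nat_lit 2, nat_lit 0, nat_lit 1, nat_lit 0, nat_lit 1])) (.leaf ((nat_lit 604), [nat_lit 3, nat_lit 1, nat_lit 2, nat_lit 3, nat_lit 0, nat_lit 2, nat_lit 0, nat_lit 1, nat_lit 0, nat_lit 1, nat_lit 0]))))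
 (.node (nat_lit 4176) (.node (nat_lit 4175) (.leaf ((nat_lit 554), [nat_lit 1, nat_lit 2, nat_lit 3, nat_lit 0, nat_lit 1, nat_lit 0, nat_lit 1])) (.leaf ((nat_lit 323), [nat_lit 0, nat_lit 1, nat_lit 2, nat_lit 3, nat_lit 2, nat_lit 0, nat_lit 2]))) (.node (nat_lit 4177) (.leaf ((nat_lit 617), [nat_lit 1, nat_lit 2, nat_lit 3, nat_lit 1, nat_lit 0, nat_lit 2, nat_lit 0, nat_lit 1, nat_lit 0, nat_lit 1, nat_lit 0])) (.node (nat_lit 4178) (.leaf ((nat_lit 567), [nat_lit 2, nat_lit 3, nat_lit 1, nat_lit 2, nat_lit 0, nat_lit 1, nat_lit 0, nat_lit 1])) (.leaf ((nat_lit 411), [nat_lit 0, nat_lit 1, nat_lit 0, nat_lit 1]))))))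
 (.node (nat_lit 4184) (.node (nat_lit 4181) (.node (nat_lit 4180) (.leaf ((nat_lit 628), [nat_lit 0, nat_lit 1, nat_lit 2, nat_lit 3, nat_lit 2, nat_lit 0, nat_lit 1, nat_lit 0, nat_lit 1])) (.leaf ((nat_lit 623), [nat_lit 0, nat_lit 1, nat_lit 3, nat_lit 1, nat_lit 2, nat_lit 0]))) (.node (nat_lit 4182) (.leaf ((nat_lit 651), [nat_lit 0, nat_lit 2, nat_lit 0, nat_lit 1, nat_lit 0])) (.node (nat_lit 4183) (.leaf ((nat_lit 639), [nat_lit 0, nat_lit 1, nat_lit 3, nat_lit 2, nat_lit 0, nat_lit 2, nat_lit 0])) (.leaf ((nat_lit 323), [nat_lit 0, nat_lit 1, nat_lit 3])))))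
 (.node (nat_lit 4186) (.node (nat_lit 4185) (.leaf ((nat_lit 669), [nat_lit 3, nat_lit 1, nat_lit 3, nat_lit 1, nat_lit 0, nat_lit 1])) (.leaf ((nat_lit 547), [nat_lit 3, nat_lit 2, nat_lit 3, nat_lit 1, nat_lit 0, nat_lit 2, nat_lit 0, nat_lit 1]))) (.node (nat_lit 4187) (.leaf ((nat_lit 650), [nat_lit 3, nat_lit 1, nat_lit 0, nat_lit 2, nat_lit 1, nat_lit 0])) (.node (nat_lit 4188) (.leaf ((nat_lit 652), [nat_lit 1, nat_lit 2, nat_lit 1, nat_lit 0])) (.leaf ((nat_lit 635), [nat_lit 2, nat_lit 3, nat_lit 1, nat_lit 2, nat_lit 1])))))))))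
 (.node (nat_lit 4226) (.node (nat_lit 4207) (.node (nat_lit 4198) (.node (nat_lit 4193) (.node (nat_lit 4191) (.node (nat_lit 4190) (.leaf ((nat_lit 648), [nat_lit 3, nat_lit 1, nat_lit 2, nat_lit 3, nat_lit 1, nat_lit 0, nat_lit 2, nat_lit 0, nat_lit 1, nat_lit 0, nat_lit 1, nat_lit 0])) (.leaf ((nat_lit 610), [nat_lit 1, nat_lit 3, nat_lit 1, nat_lit 0, nat_lit 2, nat_lit 1, nat_lit 0]))) (.node (nat_lit 4192) (.leaf ((nat_lit 326), [nat_lit 2, nat_lit 1, nat_lit 3, nat_lit 0, nat_lit 1, nat_lit 0])) (.leaf ((nat_lit 399), [nat_lit 1, nat_lit 2, nat_lit 3, nat_lit 0, nat_lit 2, nat_lit 1, nat_lit 0, nat_lit 1]))))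
 (.node (nat_lit 4195) (.node (nat_lit 4194) (.leaf ((nat_lit 645), [nat_lit 3, nat_lit 1, nat_lit 2, nat_lit 3, nat_lit 2, nat_lit 0, nat_lit 1, nat_lit 0])) (.leaf ((nat_lit 662), [nat_lit 1, nat_lit 2, nat_lit 3]))) (.node (nat_lit 4196) (.leaf ((nat_lit 461), [nat_lit 3, nat_lit 1, nat_lit 2, nat_lit 3, nat_lit 0, nat_lit 2, nat_lit 1, nat_lit 0, nat_lit 1, nat_lit 0])) (.node (nat_lit 4197) (.leaf ((nat_lit 586), [nat_lit 0, nat_lit 1, nat_lit 3, nat_lit 0, nat_lit 1])) (.leaf ((nat_lit 616), [nat_lit 3, nat_lit 1, nat_lit 3, nat_lit 0, nat_lit 2, nat_lit 1, nat_lit 0, nat_lit 1]))))))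
 (.node (nat_lit 4202) (.node (nat_lit 4200) (.node (nat_lit 4199) (.leaf ((nat_lit 327), [nat_lit 2, nat_lit 0, nat_lit 2, nat_lit 0, nat_lit 1, nat_lit 0])) (.leaf ((nat_lit 612), [nat_lit 3, nat_lit 2, nat_lit 3, nat_lit 1, nat_lit 2, nat_lit 0, nat_lit 1, nat_lit 0]))) (.node (nat_lit 4201) (.leaf ((nat_lit 328), [nat_lit 3, nat_lit 1, nat_lit 2, nat_lit 3, nat_lit 1, nat_lit 2, nat_lit 0])) (.leaf ((nat_lit 575), [nat_lit 3, nat_lit 1, nat_lit 3, nat_lit 1]))))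
 (.node (nat_lit 4204) (.node (nat_lit 4203) (.leaf ((nat_lit 622), [nat_lit 1, nat_lit 3, nat_lit 0, nat_lit 2, nat_lit 1, nat_lit 0, nat_lit 1])) (.leaf ((nat_lit 659), [nat_lit 0, nat_lit 1, nat_lit 2, nat_lit 3, nat_lit 1, nat_lit 2, nat_lit 0, nat_lit 1, nat_lit 0, nat_lit 1, nat_lit 0]))) (.node (nat_lit 4205) (.leaf ((nat_lit 425), [nat_lit 0, nat_lit 1, nat_lit 2, nat_lit 3, nat_lit 2, nat_lit 0, nat_lit 1, nat_lit 0, nat_lit 1, nat_lit 0])) (.node (nat_lit 4206) (.leaf ((nat_lit 595), [nat_lit 3, nat_lit 1, nat_lit 2, nat_lit 3, nat_lit 1, nat_lit 0, nat_lit 2, nat_lit 0, nat_lit 1])) (.leaf ((nat_lit 651), [nat_lit 3, nat_lit 1, nat_lit 2, nat_lit 3, nat_lit 1, nat_lit 0, nat_lit 2, nat_lit 1, nat_lit 0, nat_lit 1])))))))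
 (.node (nat_lit 4216) (.node (nat_lit 4211) (.node (nat_lit 4209) (.node (nat_lit 4208) (.leaf ((nat_lit 467), [nat_lit 3, nat_lit 1, nat_lit 2, nat_lit 3, nat_lit 1, nat_lit 0, nat_lit 2, nat_lit 1, nat_lit 0])) (.leaf ((nat_lit 461), [nat_lit 3, nat_lit 1, nat_lit 3, nat_lit 2, nat_lit 0, nat_lit 2, nat_lit 0, nat_lit 1, nat_lit 0, nat_lit 1]))) (.node (nat_lit 4210) (.leaf ((nat_lit 328), [nat_lit 1, nat_lit 3, nat_lit 0])) (.leaf ((nat_lit 454), [nat_lit 0, nat_lit 1, nat_lit 3, nat_lit 2, nat_lit 0, nat_lit 2, nat_lit 0]))))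
 (.node (nat_lit 4213) (.node (nat_lit 4212) (.leaf ((nat_lit 330), [nat_lit 0, nat_lit 1, nat_lit 2, nat_lit 3, nat_lit 2, nat_lit 0, nat_lit 1, nat_lit 0, nat_lit 1, nat_lit 0])) (.leaf ((nat_lit 635), [nat_lit 0, nat_lit 1, nat_lit 2, nat_lit 3, nat_lit 2, nat_lit 0]))) (.node (nat_lit 4214) (.leaf ((nat_lit 440), [nat_lit 2, nat_lit 3, nat_lit 2, nat_lit 0, nat_lit 2, nat_lit 1, nat_lit 0])) (.node (nat_lit 4215) (.leaf ((nat_lit 581), [nat_lit 3, nat_lit 2, nat_lit 3, nat_lit 1, nat_lit 0, nat_lit 2, nat_lit 0])) (.leaf ((nat_lit 583), [nat_lit 0, nat_lit 1, nat_lit 3, nat_lit 1, nat_lit 2, nat_lit 1, nat_lit 0, nat_lit 1, nat_lit 0]))))))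
 (.node (nat_lit 4221) (.node (nat_lit 4218) (.node (nat_lit 4217) (.leaf ((nat_lit 417), [nat_lit 1, nat_lit 2, nat_lit 3, nat_lit 0, nat_lit 2, nat_lit 1, nat_lit 0, nat_lit 1, nat_lit 0])) (.leaf ((nat_lit 330), [nat_lit 3, nat_lit 1, nat_lit 2, nat_lit 3, nat_lit 0, nat_lit 2, nat_lit 1, nat_lit 0, nat_lit 1, nat_lit 0]))) (.node (nat_lit 4219) (.leaf ((nat_lit 561), [nat_lit 3, nat_lit 2, nat_lit 3, nat_lit 2, nat_lit 0, nat_lit 2, nat_lit 1, nat_lit 0])) (.node (nat_lit 4220) (.leaf ((nat_lit 602), [nat_lit 0, nat_lit 1, nat_lit 3, nat_lit 1, nat_lit 0])) (.leaf ((nat_lit 410), [nat_lit 3, nat_lit 2, nat_lit 3, nat_lit 2, nat_lit 0, nat_lit 2, nat_lit 0, nat_lit 1])))))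
 (.node (nat_lit 4223) (.node (nat_lit 4222) (.leaf ((nat_lit 468), [nat_lit 0, nat_lit 1, nat_lit 3, nat_lit 2, nat_lit 1, nat_lit 0])) (.leaf ((nat_lit 333), [nat_lit 1, nat_lit 3, nat_lit 2, nat_lit 1, nat_lit 0, nat_lit 1]))) (.node (nat_lit 4224) (.leaf ((nat_lit 369), [nat_lit 1, nat_lit 2, nat_lit 1, nat_lit 0, nat_lit 1, nat_lit 0])) (.node (nat_lit 4225) (.leaf ((nat_lit 353), [nat_lit 1, nat_lit 2, nat_lit 3, nat_lit 2, nat_lit 1, nat_lit 0])) (.leaf ((nat_lit 354), [nat_lit 3, nat_lit 0, nat_lit 2, nat_lit 1, nat_lit 0]))))))))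
 (.node (nat_lit 4244) (.node (nat_lit 4235) (.node (nat_lit 4230) (.node (nat_lit 4228) (.node (nat_lit 4227) (.leaf ((nat_lit 570), [nat_lit 3, nat_lit 2, nat_lit 3, nat_lit 1, nat_lit 0, nat_lit 2, nat_lit 1, nat_lit 0, nat_lit 1])) (.leaf ((nat_lit 607), [nat_lit 1, nat_lit 2, nat_lit 3, nat_lit 2, nat_lit 0, nat_lit 2]))) (.node (nat_lit 4229) (.leaf ((nat_lit 596), [nat_lit 3, nat_lit 1, nat_lit 2, nat_lit 3, nat_lit 2, nat_lit 0, nat_lit 1, nat_lit 0])) (.leaf ((nat_lit 593), [nat_lit 3, nat_lit 1, nat_lit 2, nat_lit 3, nat_lit 0, nat_lit 1, nat_lit 0, nat_lit 1, nat_lit 0]))))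
 (.node (nat_lit 4232) (.node (nat_lit 4231) (.leaf ((nat_lit 589), [nat_lit 3, nat_lit 1, nat_lit 2, nat_lit 3, nat_lit 0, nat_lit 2, nat_lit 0, nat_lit 1])) (.leaf ((nat_lit 604), [nat_lit 3, nat_lit 1, nat_lit 3, nat_lit 0, nat_lit 2, nat_lit 1, nat_lit 0, nat_lit 1, nat_lit 0]))) (.node (nat_lit 4233) (.leaf ((nat_lit 604), [nat_lit 3, nat_lit 1, nat_lit 2, nat_lit 3, nat_lit 2, nat_lit 0, nat_lit 1, nat_lit 0, nat_lit 1])) (.node (nat_lit 4234) (.leaf ((nat_lit 335), [nat_lit 0, nat_lit 1, nat_lit 3, nat_lit 0, nat_lit 1])) (.leaf ((nat_lit 660), [nat_lit 1, nat_lit 2, nat_lit 3, nat_lit 2, nat_lit 0, nat_lit 2, nat_lit 0, nat_lit 1, nat_lit 0, nat_lit 1, nat_lit 0]))))))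
 (.node (nat_lit 4239) (.node (nat_lit 4237) (.node (nat_lit 4236) (.leaf ((nat_lit 530), [nat_lit 3, nat_lit 1])) (.leaf ((nat_lit 528), [nat_lit 3, nat_lit 1, nat_lit 3, nat_lit 0]))) (.node (nat_lit 4238) (.leaf ((nat_lit 578), [nat_lit 3, nat_lit 1, nat_lit 3, nat_lit 1, nat_lit 0, nat_lit 1])) (.leaf ((nat_lit 531), [nat_lit 1, nat_lit 3, nat_lit 1, nat_lit 2, nat_lit 0]))))
 (.node (nat_lit 4241) (.node (nat_lit 4240) (.leaf ((nat_lit 336), [nat_lit 3, nat_lit 1, nat_lit 3, nat_lit 0, nat_lit 2, nat_lit 0, nat_lit 1])) (.leaf ((nat_lit 586), [nat_lit 1, nat_lit 3, nat_lit 1, nat_lit 0, nat_lit 2, nat_lit 0, nat_lit 1]))) (.node (nat_lit 4242) (.leaf ((nat_lit 524), [nat_lit 0, nat_lit 1, nat_lit 2, nat_lit 3, nat_lit 1, nat_lit 2, nat_lit 1, nat_lit 0, nat_lit 1, nat_lit 0])) (.node (nat_lit 4243) (.leaf ((nat_lit 459), [nat_lit 3, nat_lit 1, nat_lit 2, nat_lit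 3, nat_lit 2, nat_lit 0, nat_lit 2, nat_lit 0])) (.leaf ((nat_lit 609), [nat_lit 3, nat_lit 1, nat_lit 3, nat_lit 1, nat_lit 0, nat_lit 2, nat_lit 0])))))))
 (.node (nat_lit 4253) (.node (nat_lit 4248) (.node (nat_lit 4246) (.node (nat_lit 4245) (.leaf ((nat_lit 620), [nat_lit 0, nat_lit 1, nat_lit 3, nat_lit 0])) (.leaf ((nat_lit 407), [nat_lit 1, nat_lit 0, nat_lit 2, nat_lit 1]))) (.node (nat_lit 4247) (.leaf ((nat_lit 530), [nat_lit 2, nat_lit 0, nat_lit 2, nat_lit 0, nat_lit 1, nat_lit 0])) (.leaf ((nat_lit 650), [nat_lit 2, nat_lit 1, nat_lit 3, nat_lit 2, nat_lit 0, nat_lit 1]))))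
 (.node (nat_lit 4250) (.node (nat_lit 4249) (.leaf ((nat_lit 336), [nat_lit 2, nat_lit 3, nat_lit 0, nat_lit 2, nat_lit 0, nat_lit 1, nat_lit 0, nat_lit 1])) (.leaf ((nat_lit 339), [nat_lit 2, nat_lit 3, nat_lit 1, nat_lit 2, nat_lit 0]))) (.node (nat_lit 4251) (.leaf ((nat_lit 460), [nat_lit 0, nat_lit 1, nat_lit 0, nat_lit 1])) (.node (nat_lit 4252) (.leaf ((nat_lit 493), [nat_lit 3, nat_lit 1, nat_lit 0, nat_lit 2, nat_lit 1, nat_lit 0])) (.leaf ((nat_lit 452), [nat_lit 2, nat_lit 1, nat_lit 3, nat_lit 2, nat_lit 0, nat_lit 2, nat_lit 1, nat_lit 0, nat_lit 1, nat_lit 0]))))))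
 (.node (nat_lit 4258) (.node (nat_lit 4255) (.node (nat_lit 4254) (.leaf ((nat_lit 485), [nat_lit 2, nat_lit 1, nat_lit 3, nat_lit 0, nat_lit 2, nat_lit 1, nat_lit 0, nat_lit 1])) (.leaf ((nat_lit 384), [nat_lit 3, nat_lit 1, nat_lit 3, nat_lit 0, nat_lit 1, nat_lit 0, nat_lit 1, nat_lit 0]))) (.node (nat_lit 4256) (.leaf ((nat_lit 603), [nat_lit 1, nat_lit 3, nat_lit 0, nat_lit 2, nat_lit 1])) (.node (nat_lit 4257) (.leaf ((nat_lit 615), [nat_lit 3, nat_lit 1, nat_lit 2, nat_lit 1, nat_lit 0])) (.leaf ((nat_lit 493), [nat_lit 2, nat_lit 3, nat_lit 0, nat_lit 1])))))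
 (.node (nat_lit 4260) (.node (nat_lit 4259) (.leaf ((nat_lit 492), [nat_lit 3, nat_lit 1, nat_lit 2, nat_lit 3, nat_lit 1, nat_lit 2, nat_lit 1])) (.leaf ((nat_lit 339), [nat_lit 1, nat_lit 3, nat_lit 2, nat_lit 0, nat_lit 1, nat_lit 0, nat_lit 1]))) (.node (nat_lit 4261) (.leaf ((nat_lit 370), [nat_lit 2, nat_lit 3, nat_lit 2, nat_lit 0, nat_lit 2, nat_lit 1, nat_lit 0, nat_lit 1, nat_lit 0])) (.node (nat_lit 4262) (.leaf ((nat_lit 620), [nat_lit 3, nat_lit 1, nat_lit 2, nat_lit 3])) (.leaf ((nat_lit 655), [nat_lit 1, nat_lit 2, nat_lit 0, nat_lit 1]))))))))))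
noncomputable def bWd_29 : Tr (ℕ × List ℕ) := (.node (nat_lit 4336) (.node (nat_lit 4299) (.node (nat_lit 4281) (.node (nat_lit 4272) (.node (nat_lit 4267) (.node (nat_lit 4265) (.node (nat_lit 4264) (.leaf ((nat_lit 606), [nat_lit 3, nat_lit 1, nat_lit 2, nat_lit 1, nat_lit 0])) (.leaf ((nat_lit 459), [nat_lit 3, nat_lit 2, nat_lit 3, nat_lit 1, nat_lit 2, nat_lit 0, nat_lit 1]))) (.node (nat_lit 4266) (.leaf ((nat_lit 385), [nat_lit 1, nat_lit 3, nat_lit 1, nat_lit 0, nat_lit 1])) (.leaf ((nat_lit 349), [nat_lit 1, nat_lit 2, nat_lit 3, nat_lit 0, nat_lit 1]))))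
 (.node (nat_lit 4269) (.node (nat_lit 4268) (.leaf ((nat_lit 484), [nat_lit 0, nat_lit 1, nat_lit 3, nat_lit 2, nat_lit 0, nat_lit 2, nat_lit 1])) (.leaf ((nat_lit 370), [nat_lit 0, nat_lit 1, nat_lit 2, nat_lit 3, nat_lit 0, nat_lit 1, nat_lit 0, nat_lit 1]))) (.node (nat_lit 4270) (.leaf ((nat_lit 340), [nat_lit 1, nat_lit 0, nat_lit 2, nat_lit 0, nat_lit 1, nat_lit 0, nat_lit 1])) (.node (nat_lit 4271) (.leaf ((nat_lit 387), [nat_lit 3, nat_lit 2, nat_lit 3, nat_lit 1, nat_lit 0, nat_lit 2])) (.leaf ((nat_lit 627), [nat_lit 1, nat_lit 2, nat_lit 3, nat_lit 0, nat_lit 2, nat_lit 0, nat_lit 1, nat_lit 0, nat_lit 1]))))))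
 (.node (nat_lit 4276) (.node (nat_lit 4274) (.node (nat_lit 4273) (.leaf ((nat_lit 538), [nat_lit 1, nat_lit 0, nat_lit 2, nat_lit 0, nat_lit 1, nat_lit 0, nat_lit 1, nat_lit 0])) (.leaf ((nat_lit 428), [nat_lit 0, nat_lit 1, nat_lit 3, nat_lit 1, nat_lit 0, nat_lit 2, nat_lit 0, nat_lit 1]))) (.node (nat_lit 4275) (.leaf ((nat_lit 598), [nat_lit 3, nat_lit 1, nat_lit 2, nat_lit 3, nat_lit 2, nat_lit 0, nat_lit 2, nat_lit 0, nat_lit 1, nat_lit 0, nat_lit 1])) (.leaf ((nat_lit 498), [nat_lit 1, nat_lit 2, nat_lit 3, nat_lit 1, nat_lit 0, nat_lit 2, nat_lit 0]))))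
 (.node (nat_lit 4278) (.node (nat_lit 4277) (.leaf ((nat_lit 342), [nat_lit 3, nat_lit 2, nat_lit 3, nat_lit 0, nat_lit 2, nat_lit 0, nat_lit 1, nat_lit 0, nat_lit 1, nat_lit 0])) (.leaf ((nat_lit 612), [nat_lit 3, nat_lit 1, nat_lit 3]))) (.node (nat_lit 4279) (.leaf ((nat_lit 344), [nat_lit 1, nat_lit 2, nat_lit 0, nat_lit 1])) (.node (nat_lit 4280) (.leaf ((nat_lit 650), [nat_lit 2, nat_lit 3, nat_lit 1, nat_lit 0, nat_lit 2, nat_lit 1, nat_lit 0, nat_lit 1, nat_lit 0])) (.leaf ((nat_lit 572), [nat_lit 1, nat_lit 0, nat_lit 2, nat_lit 0, nat_lit 1])))))))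
 (.node (nat_lit 4290) (.node (nat_lit 4285) (.node (nat_lit 4283) (.node (nat_lit 4282) (.leaf ((nat_lit 594), [nat_lit 2, nat_lit 1, nat_lit 3, nat_lit 0, nat_lit 2, nat_lit 1, nat_lit 0, nat_lit 1, nat_lit 0])) (.leaf ((nat_lit 492), [nat_lit 1, nat_lit 2, nat_lit 3, nat_lit 0, nat_lit 2, nat_lit 1, nat_lit 0]))) (.node (nat_lit 4284) (.leaf ((nat_lit 392), [nat_lit 0, nat_lit 2, nat_lit 0, nat_lit 1, nat_lit 0, nat_lit 1])) (.leaf ((nat_lit 344), [nat_lit 1, nat_lit 3, nat_lit 2, nat_lit 0, nat_lit 1, nat_lit 0]))))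
 (.node (nat_lit 4287) (.node (nat_lit 4286) (.leaf ((nat_lit 611), [nat_lit 3, nat_lit 1, nat_lit 3])) (.leaf ((nat_lit 584), [nat_lit 3, nat_lit 1, nat_lit 2, nat_lit 3, nat_lit 2, nat_lit 0, nat_lit 2, nat_lit 1, nat_lit 0]))) (.node (nat_lit 4288) (.leaf ((nat_lit 652), [nat_lit 1, nat_lit 2, nat_lit 3, nat_lit 2, nat_lit 0, nat_lit 2, nat_lit 1, nat_lit 0])) (.node (nat_lit 4289) (.leaf ((nat_lit 623), [nat_lit 1, nat_lit 2, nat_lit 3, nat_lit 2, nat_lit 0, nat_lit 2, nat_lit 1, nat_lit 0, nat_lit 1])) (.leaf ((nat_lit 348), [nat_lit 3, nat_lit 2, nat_lit 3, nat_lit 0]))))))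
 (.node (nat_lit 4294) (.node (nat_lit 4292) (.node (nat_lit 4291) (.leaf ((nat_lit 599), [nat_lit 3, nat_lit 2, nat_lit 0, nat_lit 2, nat_lit 0, nat_lit 1, nat_lit 0, nat_lit 1, nat_lit 0])) (.leaf ((nat_lit 636), [nat_lit 1, nat_lit 0, nat_lit 2, nat_lit 0, nat_lit 1, nat_lit 0, nat_lit 1, nat_lit 0]))) (.node (nat_lit 4293) (.leaf ((nat_lit 644), [nat_lit 1, nat_lit 2, nat_lit 3, nat_lit 2, nat_lit 0, nat_lit 1, nat_lit 0, nat_lit 1])) (.leaf ((nat_lit 344), [nat_lit 0, nat_lit 1, nat_lit 2, nat_lit 3, nat_lit 0, nat_lit 2]))))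
 (.node (nat_lit 4296) (.node (nat_lit 4295) (.leaf ((nat_lit 565), [nat_lit 2, nat_lit 3, nat_lit 1, nat_lit 0, nat_lit 2, nat_lit 0, nat_lit 1, nat_lit 0, nat_lit 1])) (.leaf ((nat_lit 423), [nat_lit 1, nat_lit 2, nat_lit 3, nat_lit 0, nat_lit 2, nat_lit 1, nat_lit 0, nat_lit 1]))) (.node (nat_lit 4297) (.leaf ((nat_lit 615), [nat_lit 0, nat_lit 1, nat_lit 2, nat_lit 3, nat_lit 0, nat_lit 2, nat_lit 1])) (.node (nat_lit 4298) (.leaf ((nat_lit 545), [nat_lit 2, nat_lit 1, nat_lit 3, nat_lit 1, nat_lit 2, nat_lit 1])) (.leaf ((nat_lit 455), [nat_lit 3, nat_lit 1, nat_lit 3, nat_lit 2]))))))))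
 (.node (nat_lit 4317) (.node (nat_lit 4308) (.node (nat_lit 4303) (.node (nat_lit 4301) (.node (nat_lit 4300) (.leaf ((nat_lit 626), [nat_lit 3, nat_lit 1, nat_lit 3, nat_lit 1])) (.leaf ((nat_lit 476), [nat_lit 0, nat_lit 1, nat_lit 3, nat_lit 1, nat_lit 0, nat_lit 1, nat_lit 0]))) (.node (nat_lit 4302) (.leaf ((nat_lit 626), [nat_lit 3, nat_lit 1, nat_lit 2, nat_lit 1, nat_lit 0])) (.leaf ((nat_lit 505), [nat_lit 3, nat_lit 2, nat_lit 0, nat_lit 2, nat_lit 0, nat_lit 1, nat_lit 0, nat_lit 1]))))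
 (.node (nat_lit 4305) (.node (nat_lit 4304) (.leaf ((nat_lit 647), [nat_lit 1, nat_lit 3, nat_lit 0, nat_lit 1])) (.leaf ((nat_lit 352), [nat_lit 2, nat_lit 1, nat_lit 3, nat_lit 2, nat_lit 0, nat_lit 2, nat_lit 1]))) (.node (nat_lit 4306) (.leaf ((nat_lit 493), [nat_lit 0, nat_lit 1, nat_lit 2, nat_lit 3, nat_lit 1, nat_lit 2, nat_lit 0, nat_lit 1, nat_lit 0, nat_lit 1])) (.node (nat_lit 4307) (.leaf ((nat_lit 608), [nat_lit 3, nat_lit 1, nat_lit 3, nat_lit 1, nat_lit 0, nat_lit 2, nat_lit 0])) (.leaf ((nat_lit 524), [nat_lit 3, nat_lit 1, nat_lit 3, nat_lit 2, nat_lit 1]))))))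
 (.node (nat_lit 4312) (.node (nat_lit 4310) (.node (nat_lit 4309) (.leaf ((nat_lit 619), [nat_lit 0, nat_lit 1, nat_lit 2, nat_lit 3, nat_lit 1, nat_lit 0, nat_lit 2, nat_lit 1, nat_lit 0])) (.leaf ((nat_lit 527), [nat_lit 2, nat_lit 3, nat_lit 2]))) (.node (nat_lit 4311) (.leaf ((nat_lit 613), [nat_lit 1, nat_lit 2, nat_lit 3, nat_lit 1, nat_lit 2, nat_lit 0, nat_lit 1, nat_lit 0])) (.leaf ((nat_lit 357), [nat_lit 0, nat_lit 1, nat_lit 2, nat_lit 3, nat_lit 1, nat_lit 0, nat_lit 2, nat_lit 0]))))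
 (.node (nat_lit 4314) (.node (nat_lit 4313) (.leaf ((nat_lit 670), [nat_lit 3, nat_lit 2, nat_lit 3, nat_lit 1, nat_lit 2, nat_lit 0])) (.leaf ((nat_lit 641), [nat_lit 2, nat_lit 0, nat_lit 1, nat_lit 0, nat_lit 1, nat_lit 0]))) (.node (nat_lit 4315) (.leaf ((nat_lit 425), [nat_lit 3, nat_lit 1, nat_lit 3, nat_lit 1, nat_lit 2, nat_lit 0])) (.node (nat_lit 4316) (.leaf ((nat_lit 653), [nat_lit 2, nat_lit 1, nat_lit 3, nat_lit 1, nat_lit 0])) (.leaf ((nat_lit 599), [nat_lit 3, nat_lit 1, nat_lit 3, nat_lit 2, nat_lit 1, nat_lit 0, nat_lit 1, nat_lit 0])))))))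
 (.node (nat_lit 4326) (.node (nat_lit 4321) (.node (nat_lit 4319) (.node (nat_lit 4318) (.leaf ((nat_lit 359), [nat_lit 0, nat_lit 1, nat_lit 3, nat_lit 2, nat_lit 0, nat_lit 1, nat_lit 0, nat_lit 1])) (.leaf ((nat_lit 473), [nat_lit 2, nat_lit 0, nat_lit 2, nat_lit 0, nat_lit 1]))) (.node (nat_lit 4320) (.leaf ((nat_lit 396), [nat_lit 2, nat_lit 0, nat_lit 2, nat_lit 1, nat_lit 0, nat_lit 1, nat_lit 0])) (.leaf ((nat_lit 360), [nat_lit 0, nat_lit 2, nat_lit 1, nat_lit 0]))))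
 (.node (nat_lit 4323) (.node (nat_lit 4322) (.leaf ((nat_lit 668), [nat_lit 2, nat_lit 0, nat_lit 2, nat_lit 0])) (.leaf ((nat_lit 668), [nat_lit 1, nat_lit 2, nat_lit 3, nat_lit 0, nat_lit 2, nat_lit 1, nat_lit 0]))) (.node (nat_lit 4324) (.leaf ((nat_lit 596), [nat_lit 0, nat_lit 1, nat_lit 3, nat_lit 1, nat_lit 2, nat_lit 0, nat_lit 1, nat_lit 0, nat_lit 1, nat_lit 0])) (.node (nat_lit 4325) (.leaf ((nat_lit 617), [nat_lit 0, nat_lit 1, nat_lit 0, nat_lit 1, nat_lit 0])) (.leaf ((nat_lit 648), [nat_lit 3, nat_lit 2, nat_lit 3, nat_lit 2, nat_lit 1, nat_lit 0, nat_lit 1, nat_lit 0]))))))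
 (.node (nat_lit 4331) (.node (nat_lit 4328) (.node (nat_lit 4327) (.leaf ((nat_lit 661), [nat_lit 3, nat_lit 1, nat_lit 3, nat_lit 2, nat_lit 0, nat_lit 2, nat_lit 0, nat_lit 1, nat_lit 0, nat_lit 1])) (.leaf ((nat_lit 565), [nat_lit 1, nat_lit 2, nat_lit 3, nat_lit 1, nat_lit 2, nat_lit 1, nat_lit 0, nat_lit 1, nat_lit 0]))) (.node (nat_lit 4329) (.leaf ((nat_lit 576), [nat_lit 0, nat_lit 1, nat_lit 2, nat_lit 3, nat_lit 0, nat_lit 2])) (.node (nat_lit 4330) (.leaf ((nat_lit 401), [nat_lit 3, nat_lit 1, nat_lit 3, nat_lit 2, nat_lit 0, nat_lit 2, nat_lit 1, nat_lit 0, nat_lit 1, nat_lit 0])) (.leaf ((nat_lit 564), [nat_lit 2, nat_lit 1, nat_lit 3, nat_lit 0, nat_lit 2, nat_lit 1])))))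
 (.node (nat_lit 4333) (.node (nat_lit 4332) (.leaf ((nat_lit 361), [nat_lit 3, nat_lit 1, nat_lit 2, nat_lit 3, nat_lit 1, nat_lit 2, nat_lit 0, nat_lit 1, nat_lit 0])) (.leaf ((nat_lit 431), [nat_lit 3, nat_lit 1, nat_lit 3, nat_lit 0, nat_lit 1, nat_lit 0]))) (.node (nat_lit 4334) (.leaf ((nat_lit 452), [nat_lit 3, nat_lit 1, nat_lit 2, nat_lit 3, nat_lit 0, nat_lit 2, nat_lit 1, nat_lit 0])) (.node (nat_lit 4335) (.leaf ((nat_lit 551), [nat_lit 0, nat_lit 1, nat_lit 3, nat_lit 1, nat_lit 2, nat_lit 0, nat_lit 1, nat_lit 0])) (.leaf ((nat_lit 579), [nat_lit 3, nat_lit 2, nat_lit 3, nat_lit 1, nat_lit 0, nat_lit 1])))))))))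
 (.node (nat_lit 4373) (.node (nat_lit 4354) (.node (nat_lit 4345) (.node (nat_lit 4340) (.node (nat_lit 4338) (.node (nat_lit 4337) (.leaf ((nat_lit 615), [nat_lit 3, nat_lit 1, nat_lit 2, nat_lit 3, nat_lit 0, nat_lit 1, nat_lit 0, nat_lit 1])) (.leaf ((nat_lit 655), [nat_lit 2, nat_lit 3, nat_lit 2, nat_lit 0, nat_lit 2, nat_lit 1, nat_lit 0, nat_lit 1]))) (.node (nat_lit 4339) (.leaf ((nat_lit 579), [nat_lit 2, nat_lit 3, nat_lit 2, nat_lit 1, nat_lit 0])) (.leaf ((nat_lit 368), [nat_lit 1, nat_lit 2, nat_lit 3, nat_lit 2]))))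
 (.node (nat_lit 4342) (.node (nat_lit 4341) (.leaf ((nat_lit 478), [nat_lit 3, nat_lit 1, nat_lit 2, nat_lit 0, nat_lit 1, nat_lit 0, nat_lit 1])) (.leaf ((nat_lit 463), [nat_lit 3, nat_lit 2, nat_lit 3, nat_lit 0, nat_lit 2, nat_lit 0, nat_lit 1]))) (.node (nat_lit 4343) (.leaf ((nat_lit 606), [nat_lit 3, nat_lit 2, nat_lit 0, nat_lit 2, nat_lit 0])) (.node (nat_lit 4344) (.leaf ((nat_lit 370), [nat_lit 1, nat_lit 3, nat_lit 2, nat_lit 0, nat_lit 2, nat_lit 1, nat_lit 0])) (.leaf ((nat_lit 558), [nat_lit 1, nat_lit 3, nat_lit 1, nat_lit 0, nat_lit 2, nat_lit 1, nat_lit 0]))))))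
 (.node (nat_lit 4349) (.node (nat_lit 4347) (.node (nat_lit 4346) (.leaf ((nat_lit 608), [nat_lit 2, nat_lit 1, nat_lit 3, nat_lit 0, nat_lit 1, nat_lit 0, nat_lit 1, nat_lit 0])) (.leaf ((nat_lit 620), [nat_lit 1, nat_lit 0, nat_lit 1]))) (.node (nat_lit 4348) (.leaf ((nat_lit 430), [nat_lit 0, nat_lit 2, nat_lit 0, nat_lit 1, nat_lit 0])) (.leaf ((nat_lit 510), [nat_lit 2, nat_lit 3, nat_lit 1, nat_lit 0, nat_lit 2, nat_lit 0, nat_lit 1, nat_lit 0]))))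
 (.node (nat_lit 4351) (.node (nat_lit 4350) (.leaf ((nat_lit 477), [nat_lit 2, nat_lit 1, nat_lit 3, nat_lit 2, nat_lit 1, nat_lit 0, nat_lit 1])) (.leaf ((nat_lit 429), [nat_lit 2, nat_lit 0, nat_lit 1]))) (.node (nat_lit 4352) (.leaf ((nat_lit 554), [nat_lit 1, nat_lit 3, nat_lit 2, nat_lit 0, nat_lit 2, nat_lit 0, nat_lit 1])) (.node (nat_lit 4353) (.leaf ((nat_lit 371), [nat_lit 0, nat_lit 1, nat_lit 2, nat_lit 3, nat_lit 1, nat_lit 2, nat_lit 1, nat_lit 0, nat_lit 1, nat_lit 0])) (.leaf ((nat_lit 554), [nat_lit 3, nat_lit 2, nat_lit 3, nat_lit 2, nat_lit 0, nat_lit 2, nat_lit 0, nat_lit 1, nat_lit 0, nat_lit 1, nat_lit 0])))))))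
 (.node (nat_lit 4363) (.node (nat_lit 4358) (.node (nat_lit 4356) (.node (nat_lit 4355) (.leaf ((nat_lit 421), [nat_lit 0, nat_lit 1, nat_lit 2, nat_lit 3, nat_lit 2, nat_lit 0, nat_lit 2])) (.leaf ((nat_lit 454), [nat_lit 1, nat_lit 2, nat_lit 3, nat_lit 1, nat_lit 0, nat_lit 2, nat_lit 0, nat_lit 1, nat_lit 0, nat_lit 1]))) (.node (nat_lit 4357) (.leaf ((nat_lit 600), [nat_lit 0, nat_lit 1, nat_lit 2, nat_lit 3, nat_lit 2, nat_lit 0, nat_lit 2, nat_lit 1, nat_lit 0, nat_lit 1])) (.leaf ((nat_lit 667), [nat_lit 3, nat_lit 1, nat_lit 0, nat_lit 2, nat_lit 0]))))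
 (.node (nat_lit 4360) (.node (nat_lit 4359) (.leaf ((nat_lit 571), [nat_lit 0, nat_lit 1, nat_lit 3, nat_lit 1, nat_lit 0, nat_lit 2, nat_lit 0, nat_lit 1, nat_lit 0, nat_lit 1])) (.leaf ((nat_lit 664), [nat_lit 1, nat_lit 2, nat_lit 3, nat_lit 1, nat_lit 0, nat_lit 2, nat_lit 0, nat_lit 1, nat_lit 0]))) (.node (nat_lit 4361) (.leaf ((nat_lit 375), [nat_lit 1, nat_lit 2, nat_lit 3, nat_lit 0, nat_lit 2, nat_lit 1])) (.node (nat_lit 4362) (.leaf ((nat_lit 597), [nat_lit 2, nat_lit 3, nat_lit 0, nat_lit 1, nat_lit 0])) (.leaf ((nat_lit 628), [nat_lit 3, nat_lit 1, nat_lit 3, nat_lit 2, nat_lit 1]))))))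
 (.node (nat_lit 4368) (.node (nat_lit 4365) (.node (nat_lit 4364) (.leaf ((nat_lit 658), [nat_lit 2, nat_lit 1, nat_lit 3, nat_lit 1, nat_lit 2])) (.leaf ((nat_lit 537), [nat_lit 3, nat_lit 1, nat_lit 2, nat_lit 3, nat_lit 2]))) (.node (nat_lit 4366) (.leaf ((nat_lit 612), [nat_lit 1, nat_lit 3, nat_lit 0, nat_lit 2, nat_lit 1, nat_lit 0, nat_lit 1, nat_lit 0])) (.node (nat_lit 4367) (.leaf ((nat_lit 377), [nat_lit 1, nat_lit 3, nat_lit 1, nat_lit 0, nat_lit 2])) (.leaf ((nat_lit 435), [nat_lit 2, nat_lit 1, nat_lit 3, nat_lit 1, nat_lit 2, nat_lit 1])))))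
 (.node (nat_lit 4370) (.node (nat_lit 4369) (.leaf ((nat_lit 580), [nat_lit 0, nat_lit 1, nat_lit 2, nat_lit 3, nat_lit 1, nat_lit 2, nat_lit 0, nat_lit 1])) (.leaf ((nat_lit 383), [nat_lit 1, nat_lit 2, nat_lit 3, nat_lit 0, nat_lit 2, nat_lit 0, nat_lit 1, nat_lit 0, nat_lit 1, nat_lit 0]))) (.node (nat_lit 4371) (.leaf ((nat_lit 452), [nat_lit 1, nat_lit 2, nat_lit 3, nat_lit 2, nat_lit 1, nat_lit 0])) (.node (nat_lit 4372) (.leaf ((nat_lit 493), [nat_lit 0, nat_lit 1, nat_lit 3, nat_lit 1, nat_lit 2, nat_lit 0, nat_lit 1, nat_lit 0, nat_lit 1, nat_lit 0])) (.leaf ((nat_lit 531), [nat_lit 1, nat_lit 2, nat_lit 3, nat_lit 1, nat_lit 2, nat_lit 1, nat_lit 0]))))))))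
 (.node (nat_lit 4391) (.node (nat_lit 4382) (.node (nat_lit 4377) (.node (nat_lit 4375) (.node (nat_lit 4374) (.leaf ((nat_lit 626), [nat_lit 3, nat_lit 1, nat_lit 3, nat_lit 0, nat_lit 2, nat_lit 1])) (.leaf ((nat_lit 559), [nat_lit 1, nat_lit 3, nat_lit 1, nat_lit 2, nat_lit 0]))) (.node (nat_lit 4376) (.leaf ((nat_lit 671), [nat_lit 3, nat_lit 2, nat_lit 0, nat_lit 2])) (.leaf ((nat_lit 647), [nat_lit 3, nat_lit 2, nat_lit 0, nat_lit 2, nat_lit 0, nat_lit 1]))))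
 (.node (nat_lit 4379) (.node (nat_lit 4378) (.leaf ((nat_lit 427), [nat_lit 2, nat_lit 0, nat_lit 2])) (.leaf ((nat_lit 633), [nat_lit 1, nat_lit 3, nat_lit 1, nat_lit 0, nat_lit 2, nat_lit 0, nat_lit 1, nat_lit 0, nat_lit 1, nat_lit 0]))) (.node (nat_lit 4380) (.leaf ((nat_lit 405), [nat_lit 3, nat_lit 2, nat_lit 3, nat_lit 1, nat_lit 2, nat_lit 1])) (.node (nat_lit 4381) (.leaf ((nat_lit 386), [nat_lit 3, nat_lit 1, nat_lit 3, nat_lit 1, nat_lit 2, nat_lit 1, nat_lit 0, nat_lit 1, nat_lit 0])) (.leaf ((nat_lit 564), [nat_lit 3, nat_lit 2, nat_lit 1]))))))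
 (.node (nat_lit 4386) (.node (nat_lit 4384) (.node (nat_lit 4383) (.leaf ((nat_lit 614), [nat_lit 2, nat_lit 1, nat_lit 3, nat_lit 0, nat_lit 2, nat_lit 0, nat_lit 1, nat_lit 0])) (.leaf ((nat_lit 455), [nat_lit 2, nat_lit 1, nat_lit 3, nat_lit 2, nat_lit 0, nat_lit 2, nat_lit 0]))) (.node (nat_lit 4385) (.leaf ((nat_lit 657), [nat_lit 3, nat_lit 1, nat_lit 2, nat_lit 3, nat_lit 0, nat_lit 2])) (.leaf ((nat_lit 614), [nat_lit 3, nat_lit 1, nat_lit 3, nat_lit 1, nat_lit 0, nat_lit 2, nat_lit 0]))))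
 (.node (nat_lit 4388) (.node (nat_lit 4387) (.leaf ((nat_lit 577), [nat_lit 3, nat_lit 1, nat_lit 2, nat_lit 3, nat_lit 0, nat_lit 1, nat_lit 0, nat_lit 1, nat_lit 0])) (.leaf ((nat_lit 624), [nat_lit 2, nat_lit 3, nat_lit 0, nat_lit 2, nat_lit 0, nat_lit 1]))) (.node (nat_lit 4389) (.leaf ((nat_lit 386), [nat_lit 3, nat_lit 1, nat_lit 0, nat_lit 2, nat_lit 0])) (.node (nat_lit 4390) (.leaf ((nat_lit 610), [nat_lit 2, nat_lit 1, nat_lit 3, nat_lit 2, nat_lit 1, nat_lit 0, nat_lit 1, nat_lit 0])) (.leaf ((nat_lit 387), [nat_lit 2, nat_lit 0, nat_lit 2, nat_lit 0, nat_lit 1, nat_lit 0, nat_lit 1])))))))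
 (.node (nat_lit 4400) (.node (nat_lit 4395) (.node (nat_lit 4393) (.node (nat_lit 4392) (.leaf ((nat_lit 431), [nat_lit 3, nat_lit 0, nat_lit 2, nat_lit 0, nat_lit 1, nat_lit 0, nat_lit 1, nat_lit 0])) (.leaf ((nat_lit 430), [nat_lit 0, nat_lit 1, nat_lit 2, nat_lit 3, nat_lit 1, nat_lit 2, nat_lit 1]))) (.node (nat_lit 4394) (.leaf ((nat_lit 668), [nat_lit 2, nat_lit 1, nat_lit 3, nat_lit 1, nat_lit 2, nat_lit 1])) (.leaf ((nat_lit 591), [nat_lit 2, nat_lit 0, nat_lit 2, nat_lit 1, nat_lit 0, nat_lit 1]))))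
 (.node (nat_lit 4397) (.node (nat_lit 4396) (.leaf ((nat_lit 390), [nat_lit 3, nat_lit 1, nat_lit 2, nat_lit 3, nat_lit 2, nat_lit 0, nat_lit 2, nat_lit 0, nat_lit 1, nat_lit 0, nat_lit 1, nat_lit 0])) (.leaf ((nat_lit 623), [nat_lit 2, nat_lit 3, nat_lit 0, nat_lit 2, nat_lit 0, nat_lit 1, nat_lit 0]))) (.node (nat_lit 4398) (.leaf ((nat_lit 597), [nat_lit 2, nat_lit 1, nat_lit 3, nat_lit 0, nat_lit 2, nat_lit 1, nat_lit 0, nat_lit 1])) (.node (nat_lit 4399) (.leaf ((nat_lit 387), [nat_lit 0, nat_lit 1, nat_lit 2, nat_lit 3, nat_lit 2, nat_lit 0, nat_lit 2, nat_lit 1, nat_lit 0, nat_lit 1])) (.leaf ((nat_lit 480), [nat_lit 0, nat_lit 1, nat_lit 3, nat_lit 2, nat_lit 1, nat_lit 0, nat_lit 1, nat_lit 0]))))))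
 (.node (nat_lit 4405) (.node (nat_lit 4402) (.node (nat_lit 4401) (.leaf ((nat_lit 663), [nat_lit 0, nat_lit 1, nat_lit 2, nat_lit 3, nat_lit 0, nat_lit 1, nat_lit 0, nat_lit 1, nat_lit 0])) (.leaf ((nat_lit 427), [nat_lit 1, nat_lit 2, nat_lit 3, nat_lit 1, nat_lit 2, nat_lit 0, nat_lit 1]))) (.node (nat_lit 4403) (.leaf ((nat_lit 656), [nat_lit 1, nat_lit 3, nat_lit 1, nat_lit 2])) (.node (nat_lit 4404) (.leaf ((nat_lit 431), [nat_lit 1, nat_lit 3, nat_lit 0, nat_lit 2, nat_lit 1, nat_lit 0, nat_lit 1, nat_lit 0])) (.leaf ((nat_lit 651), [nat_lit 1, nat_lit 3, nat_lit 2, nat_lit 1])))))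
 (.node (nat_lit 4407) (.node (nat_lit 4406) (.leaf ((nat_lit 480), [nat_lit 3, nat_lit 2, nat_lit 3, nat_lit 0])) (.leaf ((nat_lit 387), [nat_lit 1, nat_lit 2, nat_lit 3, nat_lit 2, nat_lit 0, nat_lit 1]))) (.node (nat_lit 4408) (.leaf ((nat_lit 629), [nat_lit 2, nat_lit 1, nat_lit 3, nat_lit 1, nat_lit 2])) (.node (nat_lit 4409) (.leaf ((nat_lit 547), [nat_lit 3, nat_lit 2, nat_lit 3, nat_lit 2, nat_lit 0, nat_lit 2, nat_lit 0])) (.leaf ((nat_lit 546), [nat_lit 1, nat_lit 3, nat_lit 1, nat_lit 2, nat_lit 0, nat_lit 1, nat_lit 0]))))))))))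
noncomputable def bWd_30 : Tr (ℕ × List ℕ) := (.node (nat_lit 4483) (.node (nat_lit 4446) (.node (nat_lit 4428) (.node (nat_lit 4419) (.node (nat_lit 4414) (.node (nat_lit 4412) (.node (nat_lit 4411) (.leaf ((nat_lit 392), [nat_lit 1, nat_lit 2, nat_lit 3, nat_lit 2, nat_lit 0, nat_lit 2, nat_lit 0, nat_lit 1, nat_lit 0, nat_lit 1, nat_lit 0])) (.leaf ((nat_lit 503), [nat_lit 1, nat_lit 2, nat_lit 3, nat_lit 0, nat_lit 2, nat_lit 0, nat_lit 1, nat_lit 0]))) (.node (nat_lit 4413) (.leaf ((nat_lit 439), [nat_lit 3, nat_lit 0])) (.leaf ((nat_lit 413), [nat_lit 3, nat_lit 1, nat_lit 2, nat_lit 0, nat_lit 1, nat_lit 0, nat_lit 1]))))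
 (.node (nat_lit 4416) (.node (nat_lit 4415) (.leaf ((nat_lit 391), [nat_lit 3, nat_lit 1, nat_lit 3, nat_lit 2, nat_lit 1, nat_lit 0, nat_lit 1])) (.leaf ((nat_lit 630), [nat_lit 3, nat_lit 1, nat_lit 2, nat_lit 3, nat_lit 2, nat_lit 0, nat_lit 2, nat_lit 1, nat_lit 0, nat_lit 1]))) (.node (nat_lit 4417) (.leaf ((nat_lit 662), [nat_lit 3, nat_lit 1, nat_lit 3, nat_lit 1])) (.node (nat_lit 4418) (.leaf ((nat_lit 536), [nat_lit 1, nat_lit 2, nat_lit 3, nat_lit 0, nat_lit 2, nat_lit 0, nat_lit 1, nat_lit 0, nat_lit 1, nat_lit 0])) (.leaf ((nat_lit 393), [nat_lit 2, nat_lit 3, nat_lit 2, nat_lit 0, nat_lit 1, nat_lit 0]))))))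
 (.node (nat_lit 4423) (.node (nat_lit 4421) (.node (nat_lit 4420) (.leaf ((nat_lit 573), [nat_lit 3, nat_lit 1, nat_lit 2, nat_lit 3, nat_lit 0])) (.leaf ((nat_lit 571), [nat_lit 1, nat_lit 0, nat_lit 2, nat_lit 1]))) (.node (nat_lit 4422) (.leaf ((nat_lit 418), [nat_lit 0, nat_lit 1, nat_lit 2, nat_lit 3, nat_lit 1, nat_lit 2, nat_lit 0])) (.leaf ((nat_lit 420), [nat_lit 2, nat_lit 1, nat_lit 3, nat_lit 1, nat_lit 0, nat_lit 2, nat_lit 0]))))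
 (.node (nat_lit 4425) (.node (nat_lit 4424) (.leaf ((nat_lit 631), [nat_lit 0, nat_lit 1, nat_lit 2, nat_lit 3, nat_lit 0, nat_lit 2, nat_lit 1, nat_lit 0, nat_lit 1])) (.leaf ((nat_lit 441), [nat_lit 2, nat_lit 3, nat_lit 2, nat_lit 0, nat_lit 2]))) (.node (nat_lit 4426) (.leaf ((nat_lit 512), [nat_lit 2, nat_lit 1, nat_lit 3, nat_lit 1, nat_lit 0, nat_lit 2])) (.node (nat_lit 4427) (.leaf ((nat_lit 574), [nat_lit 0, nat_lit 1, nat_lit 3, nat_lit 1, nat_lit 0, nat_lit 2, nat_lit 1])) (.leaf ((nat_lit 393), [nat_lit 3, nat_lit 1, nat_lit 2, nat_lit 3, nat_lit 1, nat_lit 2, nat_lit 0])))))))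
 (.node (nat_lit 4437) (.node (nat_lit 4432) (.node (nat_lit 4430) (.node (nat_lit 4429) (.leaf ((nat_lit 566), [nat_lit 2, nat_lit 1, nat_lit 3, nat_lit 0, nat_lit 2, nat_lit 0, nat_lit 1, nat_lit 0, nat_lit 1, nat_lit 0])) (.leaf ((nat_lit 638), [nat_lit 1, nat_lit 3, nat_lit 2, nat_lit 1]))) (.node (nat_lit 4431) (.leaf ((nat_lit 649), [nat_lit 3, nat_lit 1, nat_lit 2])) (.leaf ((nat_lit 532), [nat_lit 3, nat_lit 1, nat_lit 2, nat_lit 3, nat_lit 1, nat_lit 0, nat_lit 2, nat_lit 0, nat_lit 1]))))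
 (.node (nat_lit 4434) (.node (nat_lit 4433) (.leaf ((nat_lit 534), [nat_lit 1, nat_lit 2, nat_lit 3, nat_lit 2, nat_lit 0, nat_lit 2, nat_lit 0, nat_lit 1])) (.leaf ((nat_lit 566), [nat_lit 3, nat_lit 2, nat_lit 3, nat_lit 1, nat_lit 0, nat_lit 2, nat_lit 0]))) (.node (nat_lit 4435) (.leaf ((nat_lit 625), [nat_lit 0, nat_lit 1, nat_lit 3, nat_lit 1, nat_lit 0, nat_lit 2, nat_lit 0, nat_lit 1, nat_lit 0, nat_lit 1])) (.node (nat_lit 4436) (.leaf ((nat_lit 642), [nat_lit 3, nat_lit 1, nat_lit 2, nat_lit 3])) (.leaf ((nat_lit 396), [nat_lit 2, nat_lit 1, nat_lit 3, nat_lit 0, nat_lit 2, nat_lit 0, nat_lit 1, nat_lit 0, nat_lit 1]))))))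
 (.node (nat_lit 4441) (.node (nat_lit 4439) (.node (nat_lit 4438) (.leaf ((nat_lit 585), [nat_lit 0, nat_lit 1, nat_lit 2, nat_lit 3, nat_lit 2, nat_lit 1, nat_lit 0, nat_lit 1, nat_lit 0])) (.leaf ((nat_lit 556), [nat_lit 3, nat_lit 1, nat_lit 2, nat_lit 3, nat_lit 1, nat_lit 2, nat_lit 1, nat_lit 0, nat_lit 1, nat_lit 0]))) (.node (nat_lit 4440) (.leaf ((nat_lit 509), [nat_lit 2, nat_lit 0, nat_lit 2])) (.leaf ((nat_lit 572), [nat_lit 2, nat_lit 1, nat_lit 3, nat_lit 0, nat_lit 1, nat_lit 0, nat_lit 1]))))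
 (.node (nat_lit 4443) (.node (nat_lit 4442) (.leaf ((nat_lit 650), [nat_lit 3, nat_lit 2, nat_lit 3, nat_lit 2])) (.leaf ((nat_lit 542), [nat_lit 0, nat_lit 1, nat_lit 2, nat_lit 3, nat_lit 2, nat_lit 0, nat_lit 2, nat_lit 0, nat_lit 1, nat_lit 0, nat_lit 1]))) (.node (nat_lit 4444) (.leaf ((nat_lit 542), [nat_lit 0, nat_lit 1, nat_lit 2, nat_lit 3, nat_lit 1, nat_lit 2, nat_lit 1, nat_lit 0, nat_lit 1])) (.node (nat_lit 4445) (.leaf ((nat_lit 400), [nat_lit 2, nat_lit 3, nat_lit 1, nat_lit 2, nat_lit 0, nat_lit 1])) (.leaf ((nat_lit 401), [nat_lit 3, nat_lit 2, nat_lit 3, nat_lit 2, nat_lit 0, nat_lit 2, nat_lit 0, nat_lit 1, nat_lit 0, nat_lit 1, nat_lit 0]))))))))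
 (.node (nat_lit 4464) (.node (nat_lit 4455) (.node (nat_lit 4450) (.node (nat_lit 4448) (.node (nat_lit 4447) (.leaf ((nat_lit 584), [nat_lit 2, nat_lit 3, nat_lit 0, nat_lit 2, nat_lit 0, nat_lit 1, nat_lit 0])) (.leaf ((nat_lit 598), [nat_lit 3, nat_lit 1, nat_lit 3, nat_lit 2, nat_lit 0, nat_lit 1, nat_lit 0, nat_lit 1]))) (.node (nat_lit 4449) (.leaf ((nat_lit 520), [nat_lit 1, nat_lit 0, nat_lit 2])) (.leaf ((nat_lit 572), [nat_lit 2, nat_lit 0, nat_lit 2, nat_lit 1, nat_lit 0]))))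
 (.node (nat_lit 4452) (.node (nat_lit 4451) (.leaf ((nat_lit 601), [nat_lit 2, nat_lit 1, nat_lit 3, nat_lit 0, nat_lit 2, nat_lit 1, nat_lit 0])) (.leaf ((nat_lit 575), [nat_lit 2, nat_lit 1, nat_lit 3, nat_lit 2, nat_lit 0, nat_lit 2, nat_lit 1, nat_lit 0, nat_lit 1, nat_lit 0]))) (.node (nat_lit 4453) (.leaf ((nat_lit 644), [nat_lit 1, nat_lit 2, nat_lit 3, nat_lit 1, nat_lit 2, nat_lit 1, nat_lit 0, nat_lit 1])) (.node (nat_lit 4454) (.leaf ((nat_lit 613), [nat_lit 1, nat_lit 0, nat_lit 2, nat_lit 0, nat_lit 1, nat_lit 0, nat_lit 1, nat_lit 0])) (.leaf ((nat_lit 401), [nat_lit 0, nat_lit 1, nat_lit 0, nat_lit 1, nat_lit 0]))))))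
 (.node (nat_lit 4459) (.node (nat_lit 4457) (.node (nat_lit 4456) (.leaf ((nat_lit 576), [nat_lit 3, nat_lit 0, nat_lit 2, nat_lit 0, nat_lit 1, nat_lit 0, nat_lit 1, nat_lit 0])) (.leaf ((nat_lit 636), [nat_lit 2, nat_lit 3, nat_lit 0, nat_lit 2, nat_lit 0, nat_lit 1, nat_lit 0, nat_lit 1, nat_lit 0]))) (.node (nat_lit 4458) (.leaf ((nat_lit 636), [nat_lit 0])) (.leaf ((nat_lit 420), [nat_lit 3, nat_lit 2, nat_lit 3, nat_lit 2, nat_lit 1]))))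
 (.node (nat_lit 4461) (.node (nat_lit 4460) (.leaf ((nat_lit 587), [nat_lit 3, nat_lit 1, nat_lit 3, nat_lit 1, nat_lit 2, nat_lit 0, nat_lit 1, nat_lit 0, nat_lit 1])) (.leaf ((nat_lit 574), [nat_lit 3, nat_lit 1, nat_lit 0, nat_lit 1]))) (.node (nat_lit 4462) (.leaf ((nat_lit 441), [nat_lit 2, nat_lit 1, nat_lit 3, nat_lit 1, nat_lit 0, nat_lit 2, nat_lit 1])) (.node (nat_lit 4463) (.leaf ((nat_lit 403), [nat_lit 0, nat_lit 1, nat_lit 2, nat_lit 3, nat_lit 0, nat_lit 1, nat_lit 0, nat_lit 1])) (.leaf ((nat_lit 574), [nat_lit 2, nat_lit 1, nat_lit 3, nat_lit 2, nat_lit 0])))))))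
 (.node (nat_lit 4473) (.node (nat_lit 4468) (.node (nat_lit 4466) (.node (nat_lit 4465) (.leaf ((nat_lit 661), [nat_lit 3, nat_lit 1, nat_lit 2, nat_lit 3, nat_lit 0, nat_lit 1, nat_lit 0, nat_lit 1, nat_lit 0])) (.leaf ((nat_lit 542), [nat_lit 2, nat_lit 1, nat_lit 3, nat_lit 2, nat_lit 0, nat_lit 2, nat_lit 1, nat_lit 0, nat_lit 1, nat_lit 0]))) (.node (nat_lit 4467) (.leaf ((nat_lit 406), [nat_lit 1, nat_lit 2])) (.leaf ((nat_lit 529), [nat_lit 2, nat_lit 3, nat_lit 2, nat_lit 0, nat_lit 2, nat_lit 0, nat_lit 1]))))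
 (.node (nat_lit 4470) (.node (nat_lit 4469) (.leaf ((nat_lit 638), [nat_lit 3, nat_lit 2, nat_lit 3, nat_lit 0, nat_lit 1, nat_lit 0])) (.leaf ((nat_lit 587), [nat_lit 2, nat_lit 0]))) (.node (nat_lit 4471) (.leaf ((nat_lit 654), [nat_lit 3, nat_lit 1, nat_lit 0, nat_lit 2, nat_lit 1])) (.node (nat_lit 4472) (.leaf ((nat_lit 632), [nat_lit 1, nat_lit 2, nat_lit 3, nat_lit 1])) (.leaf ((nat_lit 666), [nat_lit 2, nat_lit 1, nat_lit 3, nat_lit 0, nat_lit 1, nat_lit 0]))))))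
 (.node (nat_lit 4478) (.node (nat_lit 4475) (.node (nat_lit 4474) (.leaf ((nat_lit 409), [nat_lit 2, nat_lit 3, nat_lit 2, nat_lit 0, nat_lit 2, nat_lit 0])) (.leaf ((nat_lit 549), [nat_lit 3, nat_lit 1, nat_lit 2, nat_lit 3, nat_lit 2, nat_lit 1, nat_lit 0, nat_lit 1, nat_lit 0]))) (.node (nat_lit 4476) (.leaf ((nat_lit 510), [nat_lit 3, nat_lit 2, nat_lit 3, nat_lit 2, nat_lit 1, nat_lit 0])) (.node (nat_lit 4477) (.leaf ((nat_lit 597), [nat_lit 0, nat_lit 1, nat_lit 3, nat_lit 0, nat_lit 1, nat_lit 0])) (.leaf ((nat_lit 519), [nat_lit 2, nat_lit 3])))))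
 (.node (nat_lit 4480) (.node (nat_lit 4479) (.leaf ((nat_lit 671), [nat_lit 2, nat_lit 3, nat_lit 1, nat_lit 2, nat_lit 0, nat_lit 1, nat_lit 0, nat_lit 1])) (.leaf ((nat_lit 639), [nat_lit 1, nat_lit 2, nat_lit 3, nat_lit 2, nat_lit 1]))) (.node (nat_lit 4481) (.leaf ((nat_lit 642), [nat_lit 3, nat_lit 1, nat_lit 2, nat_lit 1, nat_lit 0, nat_lit 1])) (.node (nat_lit 4482) (.leaf ((nat_lit 566), [nat_lit 3, nat_lit 1, nat_lit 3, nat_lit 0])) (.leaf ((nat_lit 640), [nat_lit 3, nat_lit 1, nat_lit 0, nat_lit 2, nat_lit 0, nat_lit 1])))))))))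
 (.node (nat_lit 4520) (.node (nat_lit 4501) (.node (nat_lit 4492) (.node (nat_lit 4487) (.node (nat_lit 4485) (.node (nat_lit 4484) (.leaf ((nat_lit 670), [nat_lit 3, nat_lit 0, nat_lit 2, nat_lit 1, nat_lit 0, nat_lit 1])) (.leaf ((nat_lit 667), [nat_lit 3, nat_lit 1, nat_lit 0, nat_lit 2, nat_lit 0, nat_lit 1, nat_lit 0]))) (.node (nat_lit 4486) (.leaf ((nat_lit 668), [nat_lit 2, nat_lit 1, nat_lit 3, nat_lit 0, nat_lit 1, nat_lit 0])) (.leaf ((nat_lit 415), [nat_lit 2, nat_lit 3, nat_lit 0, nat_lit 2, nat_lit 0, nat_lit 1, nat_lit 0, nat_lit 1]))))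
 (.node (nat_lit 4489) (.node (nat_lit 4488) (.leaf ((nat_lit 616), [nat_lit 1, nat_lit 0, nat_lit 2, nat_lit 1, nat_lit 0, nat_lit 1])) (.leaf ((nat_lit 670), [nat_lit 3, nat_lit 2, nat_lit 3, nat_lit 1, nat_lit 0, nat_lit 2, nat_lit 0, nat_lit 1, nat_lit 0]))) (.node (nat_lit 4490) (.leaf ((nat_lit 561), [nat_lit 0, nat_lit 1, nat_lit 3, nat_lit 0, nat_lit 2, nat_lit 0, nat_lit 1, nat_lit 0])) (.node (nat_lit 4491) (.leaf ((nat_lit 442), [nat_lit 0, nat_lit 1, nat_lit 2, nat_lit 3, nat_lit 0])) (.leaf ((nat_lit 416), [nat_lit 3, nat_lit 1, nat_lit 2, nat_lit 3, nat_lit 1, nat_lit 0, nat_lit 1, nat_lit 0]))))))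
 (.node (nat_lit 4496) (.node (nat_lit 4494) (.node (nat_lit 4493) (.leaf ((nat_lit 593), [nat_lit 2, nat_lit 3, nat_lit 1, nat_lit 2, nat_lit 0, nat_lit 1, nat_lit 0, nat_lit 1])) (.leaf ((nat_lit 421), [nat_lit 1, nat_lit 3, nat_lit 2, nat_lit 0]))) (.node (nat_lit 4495) (.leaf ((nat_lit 566), [nat_lit 0, nat_lit 1, nat_lit 3, nat_lit 0, nat_lit 2, nat_lit 0])) (.leaf ((nat_lit 640), [nat_lit 2, nat_lit 1, nat_lit 3, nat_lit 2, nat_lit 0, nat_lit 2, nat_lit 1]))))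
 (.node (nat_lit 4498) (.node (nat_lit 4497) (.leaf ((nat_lit 534), [nat_lit 0, nat_lit 1, nat_lit 3, nat_lit 0, nat_lit 2, nat_lit 0, nat_lit 1, nat_lit 0])) (.leaf ((nat_lit 458), [nat_lit 3, nat_lit 2, nat_lit 3, nat_lit 2]))) (.node (nat_lit 4499) (.leaf ((nat_lit 633), [nat_lit 2, nat_lit 1, nat_lit 3, nat_lit 0, nat_lit 1, nat_lit 0, nat_lit 1, nat_lit 0])) (.node (nat_lit 4500) (.leaf ((nat_lit 416), [nat_lit 1, nat_lit 2, nat_lit 1, nat_lit 0, nat_lit 1, nat_lit 0])) (.leaf ((nat_lit 668), [nat_lit 3, nat_lit 1, nat_lit 2, nat_lit 3, nat_lit 1, nat_lit 2, nat_lit 0, nat_lit 1, nat_lit 0])))))))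
 (.node (nat_lit 4510) (.node (nat_lit 4505) (.node (nat_lit 4503) (.node (nat_lit 4502) (.leaf ((nat_lit 498), [nat_lit 1, nat_lit 0, nat_lit 2, nat_lit 0, nat_lit 1])) (.leaf ((nat_lit 660), [nat_lit 2, nat_lit 1, nat_lit 3, nat_lit 1, nat_lit 0, nat_lit 2, nat_lit 1, nat_lit 0, nat_lit 1, nat_lit 0]))) (.node (nat_lit 4504) (.leaf ((nat_lit 660), [nat_lit 2, nat_lit 1, nat_lit 3, nat_lit 2, nat_lit 1, nat_lit 0, nat_lit 1])) (.leaf ((nat_lit 418), [nat_lit 1, nat_lit 2, nat_lit 3, nat_lit 1, nat_lit 0, nat_lit 2]))))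
 (.node (nat_lit 4507) (.node (nat_lit 4506) (.leaf ((nat_lit 671), [nat_lit 3, nat_lit 1, nat_lit 3])) (.leaf ((nat_lit 658), [nat_lit 1, nat_lit 0, nat_lit 2, nat_lit 1, nat_lit 0]))) (.node (nat_lit 4508) (.leaf ((nat_lit 658), [nat_lit 1])) (.node (nat_lit 4509) (.leaf ((nat_lit 613), [nat_lit 2, nat_lit 1, nat_lit 3, nat_lit 0, nat_lit 2, nat_lit 1, nat_lit 0, nat_lit 1, nat_lit 0])) (.leaf ((nat_lit 636), [nat_lit 2, nat_lit 1, nat_lit 3, nat_lit 1, nat_lit 2, nat_lit 0, nat_lit 1]))))))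
 (.node (nat_lit 4515) (.node (nat_lit 4512) (.node (nat_lit 4511) (.leaf ((nat_lit 652), [nat_lit 3, nat_lit 1, nat_lit 3, nat_lit 1, nat_lit 2, nat_lit 1])) (.leaf ((nat_lit 584), [nat_lit 1, nat_lit 3, nat_lit 1, nat_lit 2, nat_lit 1]))) (.node (nat_lit 4513) (.leaf ((nat_lit 447), [nat_lit 0, nat_lit 1, nat_lit 3, nat_lit 1, nat_lit 0, nat_lit 2, nat_lit 1, nat_lit 0])) (.node (nat_lit 4514) (.leaf ((nat_lit 418), [nat_lit 1, nat_lit 3, nat_lit 1, nat_lit 2, nat_lit 0, nat_lit 1])) (.leaf ((nat_lit 541), [nat_lit 1, nat_lit 2, nat_lit 3, nat_lit 2, nat_lit 0, nat_lit 1, nat_lit 0, nat_lit 1])))))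
 (.node (nat_lit 4517) (.node (nat_lit 4516) (.leaf ((nat_lit 662), [nat_lit 2, nat_lit 1, nat_lit 3, nat_lit 0, nat_lit 2, nat_lit 0, nat_lit 1, nat_lit 0, nat_lit 1, nat_lit 0])) (.leaf ((nat_lit 599), [nat_lit 3, nat_lit 1, nat_lit 2, nat_lit 3, nat_lit 0, nat_lit 2, nat_lit 0, nat_lit 1, nat_lit 0, nat_lit 1, nat_lit 0]))) (.node (nat_lit 4518) (.leaf ((nat_lit 421), [nat_lit 0, nat_lit 1, nat_lit 3, nat_lit 2, nat_lit 1])) (.node (nat_lit 4519) (.leaf ((nat_lit 662), [nat_lit 0, nat_lit 1, nat_lit 2, nat_lit 3, nat_lit 2, nat_lit 0, nat_lit 2, nat_lit 1, nat_lit 0, nat_lit 1, nat_lit 0])) (.leaf ((nat_lit 419), [nat_lit 1, nat_lit 2, nat_lit 3, nat_lit 0, nat_lit 2, nat_lit 1, nat_lit 0]))))))))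
 (.node (nat_lit 4538) (.node (nat_lit 4529) (.node (nat_lit 4524) (.node (nat_lit 4522) (.node (nat_lit 4521) (.leaf ((nat_lit 482), [nat_lit 1, nat_lit 2, nat_lit 3, nat_lit 2, nat_lit 1, nat_lit 0, nat_lit 1])) (.leaf ((nat_lit 645), [nat_lit 1, nat_lit 2, nat_lit 3, nat_lit 2, nat_lit 1, nat_lit 0, nat_lit 1, nat_lit 0]))) (.node (nat_lit 4523) (.leaf ((nat_lit 563), [nat_lit 2, nat_lit 1, nat_lit 3, nat_lit 0, nat_lit 2, nat_lit 0, nat_lit 1, nat_lit 0, nat_lit 1])) (.leaf ((nat_lit 555), [nat_lit 2, nat_lit 3, nat_lit 2, nat_lit 0, nat_lit 2]))))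
 (.node (nat_lit 4526) (.node (nat_lit 4525) (.leaf ((nat_lit 594), [nat_lit 3, nat_lit 1, nat_lit 3, nat_lit 2, nat_lit 0, nat_lit 2])) (.leaf ((nat_lit 539), [nat_lit 1, nat_lit 3, nat_lit 0, nat_lit 1, nat_lit 0, nat_lit 1]))) (.node (nat_lit 4527) (.leaf ((nat_lit 510), [nat_lit 3, nat_lit 2, nat_lit 0, nat_lit 2, nat_lit 0])) (.node (nat_lit 4528) (.leaf ((nat_lit 657), [nat_lit 2, nat_lit 1, nat_lit 3, nat_lit 2, nat_lit 1])) (.leaf ((nat_lit 424), [nat_lit 3, nat_lit 1, nat_lit 2, nat_lit 3, nat_lit 0, nat_lit 2, nat_lit 0, nat_lit 1]))))))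
 (.node (nat_lit 4533) (.node (nat_lit 4531) (.node (nat_lit 4530) (.leaf ((nat_lit 625), [nat_lit 3, nat_lit 2, nat_lit 3, nat_lit 0, nat_lit 2, nat_lit 0, nat_lit 1, nat_lit 0, nat_lit 1])) (.leaf ((nat_lit 671), [nat_lit 1, nat_lit 3, nat_lit 1, nat_lit 2, nat_lit 1, nat_lit 0]))) (.node (nat_lit 4532) (.leaf ((nat_lit 442), [nat_lit 0, nat_lit 1, nat_lit 3, nat_lit 2, nat_lit 0, nat_lit 2, nat_lit 1, nat_lit 0])) (.leaf ((nat_lit 561), [nat_lit 1, nat_lit 3, nat_lit 0, nat_lit 1, nat_lit 0, nat_lit 1, nat_lit 0]))))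
 (.node (nat_lit 4535) (.node (nat_lit 4534) (.leaf ((nat_lit 427), [nat_lit 0, nat_lit 1, nat_lit 2, nat_lit 3, nat_lit 1, nat_lit 0, nat_lit 2, nat_lit 0])) (.leaf ((nat_lit 614), [nat_lit 1, nat_lit 3, nat_lit 2, nat_lit 0, nat_lit 2]))) (.node (nat_lit 4536) (.leaf ((nat_lit 432), [nat_lit 0, nat_lit 1, nat_lit 2, nat_lit 3, nat_lit 1, nat_lit 0, nat_lit 2])) (.node (nat_lit 4537) (.leaf ((nat_lit 572), [nat_lit 3, nat_lit 2, nat_lit 3, nat_lit 0, nat_lit 1, nat_lit 0, nat_lit 1, nat_lit 0])) (.leaf ((nat_lit 666), [nat_lit 3, nat_lit 1, nat_lit 2, nat_lit 3, nat_lit 1, nat_lit 0, nat_lit 2, nat_lit 1, nat_lit 0])))))))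
 (.node (nat_lit 4547) (.node (nat_lit 4542) (.node (nat_lit 4540) (.node (nat_lit 4539) (.leaf ((nat_lit 520), [nat_lit 3, nat_lit 1, nat_lit 2, nat_lit 3, nat_lit 1, nat_lit 0, nat_lit 2, nat_lit 0, nat_lit 1, nat_lit 0, nat_lit 1, nat_lit 0])) (.leaf ((nat_lit 598), [nat_lit 2, nat_lit 1, nat_lit 3, nat_lit 1, nat_lit 0, nat_lit 2, nat_lit 1, nat_lit 0, nat_lit 1]))) (.node (nat_lit 4541) (.leaf ((nat_lit 429), [nat_lit 0, nat_lit 2, nat_lit 1, nat_lit 0, nat_lit 1, nat_lit 0])) (.leaf ((nat_lit 578), [nat_lit 2, nat_lit 1, nat_lit 3, nat_lit 2, nat_lit 0, nat_lit 2, nat_lit 1, nat_lit 0, nat_lit 1, nat_lit 0]))))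
 (.node (nat_lit 4544) (.node (nat_lit 4543) (.leaf ((nat_lit 617), [nat_lit 2, nat_lit 1, nat_lit 3, nat_lit 2, nat_lit 0, nat_lit 2, nat_lit 0, nat_lit 1])) (.leaf ((nat_lit 669), [nat_lit 3, nat_lit 1, nat_lit 2, nat_lit 3, nat_lit 1, nat_lit 0, nat_lit 2, nat_lit 0, nat_lit 1, nat_lit 0, nat_lit 1, nat_lit 0]))) (.node (nat_lit 4545) (.leaf ((nat_lit 543), [nat_lit 3, nat_lit 1, nat_lit 3, nat_lit 1, nat_lit 2, nat_lit 1, nat_lit 0])) (.node (nat_lit 4546) (.leaf ((nat_lit 546), [nat_lit 3, nat_lit 1, nat_lit 2, nat_lit 3, nat_lit 0, nat_lit 2, nat_lit 1, nat_lit 0])) (.leaf ((nat_lit 519), [nat_lit 3, nat_lit 1, nat_lit 2, nat_lit 3, nat_lit 2, nat_lit 0, nat_lit 2, nat_lit 0, nat_lit 1, nat_lit 0, nat_lit 1, nat_lit 0]))))))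
 (.node (nat_lit 4552) (.node (nat_lit 4549) (.node (nat_lit 4548) (.leaf ((nat_lit 430), [nat_lit 0, nat_lit 1, nat_lit 2, nat_lit 3, nat_lit 0, nat_lit 2, nat_lit 0, nat_lit 1, nat_lit 0, nat_lit 1, nat_lit 0])) (.leaf ((nat_lit 479), [nat_lit 0, nat_lit 1, nat_lit 2, nat_lit 3, nat_lit 2, nat_lit 1, nat_lit 0, nat_lit 1, nat_lit 0]))) (.node (nat_lit 4550) (.leaf ((nat_lit 632), [nat_lit 2, nat_lit 1, nat_lit 3])) (.node (nat_lit 4551) (.leaf ((nat_lit 652), [nat_lit 3, nat_lit 2, nat_lit 3, nat_lit 0, nat_lit 2, nat_lit 0, nat_lit 1, nat_lit 0, nat_lit 1, nat_lit 0])) (.leaf ((nat_lit 598), [nat_lit 3, nat_lit 1, nat_lit 2, nat_lit 3, nat_lit 2, nat_lit 0, nat_lit 2, nat_lit 0, nat_lit 1, nat_lit 0])))))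
 (.node (nat_lit 4554) (.node (nat_lit 4553) (.leaf ((nat_lit 611), [nat_lit 3, nat_lit 2, nat_lit 3, nat_lit 2, nat_lit 1, nat_lit 0, nat_lit 1])) (.leaf ((nat_lit 634), [nat_lit 0, nat_lit 1, nat_lit 2, nat_lit 3, nat_lit 0, nat_lit 1, nat_lit 0, nat_lit 1]))) (.node (nat_lit 4555) (.leaf ((nat_lit 664), [nat_lit 1, nat_lit 2])) (.node (nat_lit 4556) (.leaf ((nat_lit 606), [nat_lit 3, nat_lit 1, nat_lit 3, nat_lit 0, nat_lit 2, nat_lit 1, nat_lit 0])) (.leaf ((nat_lit 430), [nat_lit 3, nat_lit 1, nat_lit 2, nat_lit 3, nat_lit 0, nat_lit 2, nat_lit 1, nat_lit 0, nat_lit 1]))))))))))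
noncomputable def bWd_31 : Tr (ℕ × List ℕ) := (.node (nat_lit 4630) (.node (nat_lit 4593) (.node (nat_lit 4575) (.node (nat_lit 4566) (.node (nat_lit 4561) (.node (nat_lit 4559) (.node (nat_lit 4558) (.leaf ((nat_lit 629), [nat_lit 1, nat_lit 2, nat_lit 3, nat_lit 1])) (.leaf ((nat_lit 431), [nat_lit 0, nat_lit 2, nat_lit 0, nat_lit 1, nat_lit 0, nat_lit 1]))) (.node (nat_lit 4560) (.leaf ((nat_lit 597), [nat_lit 2, nat_lit 0, nat_lit 2, nat_lit 1, nat_lit 0, nat_lit 1])) (.leaf ((nat_lit 510), [nat_lit 0, nat_lit 1, nat_lit 2, nat_lit 3, nat_lit 2, nat_lit 1]))))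
 (.node (nat_lit 4563) (.node (nat_lit 4562) (.leaf ((nat_lit 537), [nat_lit 3, nat_lit 0, nat_lit 1, nat_lit 0, nat_lit 1, nat_lit 0])) (.leaf ((nat_lit 516), [nat_lit 3, nat_lit 2, nat_lit 1]))) (.node (nat_lit 4564) (.leaf ((nat_lit 600), [nat_lit 3, nat_lit 1, nat_lit 3, nat_lit 1, nat_lit 2, nat_lit 0, nat_lit 1, nat_lit 0])) (.node (nat_lit 4565) (.leaf ((nat_lit 598), [nat_lit 1, nat_lit 2, nat_lit 1, nat_lit 0])) (.leaf ((nat_lit 650), [nat_lit 3, nat_lit 1, nat_lit 0, nat_lit 1]))))))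
 (.node (nat_lit 4570) (.node (nat_lit 4568) (.node (nat_lit 4567) (.leaf ((nat_lit 644), [nat_lit 3, nat_lit 0, nat_lit 2, nat_lit 0, nat_lit 1, nat_lit 0])) (.leaf ((nat_lit 612), [nat_lit 3, nat_lit 0, nat_lit 2, nat_lit 1, nat_lit 0, nat_lit 1, nat_lit 0]))) (.node (nat_lit 4569) (.leaf ((nat_lit 509), [nat_lit 3, nat_lit 2, nat_lit 3, nat_lit 1, nat_lit 0, nat_lit 2, nat_lit 0, nat_lit 1, nat_lit 0])) (.leaf ((nat_lit 545), [nat_lit 1, nat_lit 2, nat_lit 3, nat_lit 0, nat_lit 2, nat_lit 0]))))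
 (.node (nat_lit 4572) (.node (nat_lit 4571) (.leaf ((nat_lit 439), [nat_lit 2, nat_lit 3, nat_lit 1, nat_lit 2, nat_lit 1, nat_lit 0, nat_lit 1, nat_lit 0])) (.leaf ((nat_lit 654), [nat_lit 3, nat_lit 2, nat_lit 3, nat_lit 2, nat_lit 0, nat_lit 2, nat_lit 1, nat_lit 0, nat_lit 1]))) (.node (nat_lit 4573) (.leaf ((nat_lit 458), [nat_lit 1, nat_lit 3, nat_lit 1, nat_lit 0, nat_lit 2, nat_lit 1, nat_lit 0])) (.node (nat_lit 4574) (.leaf ((nat_lit 582), [nat_lit 3, nat_lit 1, nat_lit 3, nat_lit 0, nat_lit 2, nat_lit 0, nat_lit 1, nat_lit 0])) (.leaf ((nat_lit 616), [nat_lit 0, nat_lit 1, nat_lit 3, nat_lit 1, nat_lit 2])))))))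
 (.node (nat_lit 4584) (.node (nat_lit 4579) (.node (nat_lit 4577) (.node (nat_lit 4576) (.leaf ((nat_lit 588), [nat_lit 3, nat_lit 2, nat_lit 3, nat_lit 1, nat_lit 0, nat_lit 2, nat_lit 0, nat_lit 1, nat_lit 0])) (.leaf ((nat_lit 653), [nat_lit 1, nat_lit 2, nat_lit 3, nat_lit 0, nat_lit 2, nat_lit 1, nat_lit 0, nat_lit 1, nat_lit 0]))) (.node (nat_lit 4578) (.leaf ((nat_lit 671), [nat_lit 2, nat_lit 1, nat_lit 0, nat_lit 1, nat_lit 0])) (.leaf ((nat_lit 458), [nat_lit 2, nat_lit 3, nat_lit 2, nat_lit 0, nat_lit 1]))))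
 (.node (nat_lit 4581) (.node (nat_lit 4580) (.leaf ((nat_lit 653), [nat_lit 1, nat_lit 2, nat_lit 3, nat_lit 1, nat_lit 0, nat_lit 1])) (.leaf ((nat_lit 654), [nat_lit 3]))) (.node (nat_lit 4582) (.leaf ((nat_lit 518), [nat_lit 1, nat_lit 2, nat_lit 3, nat_lit 2, nat_lit 0, nat_lit 2, nat_lit 0])) (.node (nat_lit 4583) (.leaf ((nat_lit 638), [nat_lit 3, nat_lit 2, nat_lit 3, nat_lit 1, nat_lit 0, nat_lit 1, nat_lit 0])) (.leaf ((nat_lit 494), [nat_lit 3, nat_lit 2, nat_lit 3, nat_lit 1, nat_lit 2, nat_lit 0, nat_lit 1, nat_lit 0, nat_lit 1, nat_lit 0]))))))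
 (.node (nat_lit 4588) (.node (nat_lit 4586) (.node (nat_lit 4585) (.leaf ((nat_lit 511), [nat_lit 0, nat_lit 1, nat_lit 2, nat_lit 3, nat_lit 2, nat_lit 0])) (.leaf ((nat_lit 505), [nat_lit 0, nat_lit 1, nat_lit 3, nat_lit 2, nat_lit 1]))) (.node (nat_lit 4587) (.leaf ((nat_lit 465), [nat_lit 3, nat_lit 1, nat_lit 2, nat_lit 0, nat_lit 1, nat_lit 0, nat_lit 1, nat_lit 0])) (.leaf ((nat_lit 475), [nat_lit 0, nat_lit 1, nat_lit 2, nat_lit 3, nat_lit 1, nat_lit 2, nat_lit 0, nat_lit 1, nat_lit 0, nat_lit 1]))))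
 (.node (nat_lit 4590) (.node (nat_lit 4589) (.leaf ((nat_lit 516), [nat_lit 1, nat_lit 2, nat_lit 3, nat_lit 2, nat_lit 0, nat_lit 1, nat_lit 0, nat_lit 1, nat_lit 0])) (.leaf ((nat_lit 619), [nat_lit 1, nat_lit 3, nat_lit 0, nat_lit 2, nat_lit 0, nat_lit 1, nat_lit 0, nat_lit 1, nat_lit 0]))) (.node (nat_lit 4591) (.leaf ((nat_lit 655), [nat_lit 2, nat_lit 1, nat_lit 3, nat_lit 0, nat_lit 2, nat_lit 0, nat_lit 1, nat_lit 0, nat_lit 1])) (.node (nat_lit 4592) (.leaf ((nat_lit 608), [nat_lit 1, nat_lit 0, nat_lit 2, nat_lit 1])) (.leaf ((nat_lit 568), [nat_lit 1, nat_lit 3, nat_lit 0, nat_lit 2, nat_lit 0]))))))))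
 (.node (nat_lit 4611) (.node (nat_lit 4602) (.node (nat_lit 4597) (.node (nat_lit 4595) (.node (nat_lit 4594) (.leaf ((nat_lit 582), [nat_lit 0, nat_lit 1, nat_lit 3, nat_lit 1, nat_lit 0, nat_lit 2, nat_lit 1, nat_lit 0, nat_lit 1, nat_lit 0])) (.leaf ((nat_lit 656), [nat_lit 2, nat_lit 3, nat_lit 2, nat_lit 0, nat_lit 1, nat_lit 0, nat_lit 1, nat_lit 0]))) (.node (nat_lit 4596) (.leaf ((nat_lit 671), [nat_lit 3, nat_lit 1, nat_lit 0, nat_lit 2, nat_lit 1, nat_lit 0, nat_lit 1])) (.leaf ((nat_lit 670), [nat_lit 1, nat_lit 3, nat_lit 1, nat_lit 0, nat_lit 2, nat_lit 1, nat_lit 0, nat_lit 1]))))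
 (.node (nat_lit 4599) (.node (nat_lit 4598) (.leaf ((nat_lit 475), [nat_lit 2, nat_lit 1, nat_lit 3, nat_lit 0, nat_lit 2, nat_lit 0])) (.leaf ((nat_lit 628), [nat_lit 2, nat_lit 1, nat_lit 3, nat_lit 1]))) (.node (nat_lit 4600) (.leaf ((nat_lit 558), [nat_lit 3, nat_lit 2, nat_lit 3, nat_lit 0])) (.node (nat_lit 4601) (.leaf ((nat_lit 487), [nat_lit 2, nat_lit 1, nat_lit 3, nat_lit 1, nat_lit 0, nat_lit 2, nat_lit 0, nat_lit 1])) (.leaf ((nat_lit 626), [nat_lit 3, nat_lit 1, nat_lit 0, nat_lit 1, nat_lit 0]))))))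
 (.node (nat_lit 4606) (.node (nat_lit 4604) (.node (nat_lit 4603) (.leaf ((nat_lit 476), [nat_lit 0, nat_lit 1, nat_lit 3, nat_lit 1, nat_lit 0, nat_lit 2, nat_lit 0, nat_lit 1, nat_lit 0])) (.leaf ((nat_lit 657), [nat_lit 3, nat_lit 1, nat_lit 0, nat_lit 2, nat_lit 0, nat_lit 1, nat_lit 0]))) (.node (nat_lit 4605) (.leaf ((nat_lit 646), [nat_lit 1, nat_lit 2, nat_lit 3, nat_lit 1, nat_lit 2])) (.leaf ((nat_lit 483), [nat_lit 3, nat_lit 1, nat_lit 3, nat_lit 2, nat_lit 0, nat_lit 2, nat_lit 1, nat_lit 0]))))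
 (.node (nat_lit 4608) (.node (nat_lit 4607) (.leaf ((nat_lit 538), [nat_lit 3, nat_lit 1, nat_lit 3, nat_lit 0, nat_lit 2, nat_lit 1, nat_lit 0])) (.leaf ((nat_lit 480), [nat_lit 1, nat_lit 2, nat_lit 3, nat_lit 2, nat_lit 1]))) (.node (nat_lit 4609) (.leaf ((nat_lit 623), [nat_lit 2, nat_lit 1, nat_lit 3, nat_lit 1, nat_lit 2])) (.node (nat_lit 4610) (.leaf ((nat_lit 549), [nat_lit 0, nat_lit 1, nat_lit 3, nat_lit 1, nat_lit 0, nat_lit 1])) (.leaf ((nat_lit 665), [nat_lit 2, nat_lit 1, nat_lit 3, nat_lit 2])))))))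
 (.node (nat_lit 4620) (.node (nat_lit 4615) (.node (nat_lit 4613) (.node (nat_lit 4612) (.leaf ((nat_lit 643), [nat_lit 1, nat_lit 2, nat_lit 0, nat_lit 1, nat_lit 0, nat_lit 1, nat_lit 0])) (.leaf ((nat_lit 643), [nat_lit 1]))) (.node (nat_lit 4614) (.leaf ((nat_lit 667), [nat_lit 3, nat_lit 1, nat_lit 3, nat_lit 1, nat_lit 0, nat_lit 2, nat_lit 1, nat_lit 0, nat_lit 1, nat_lit 0])) (.leaf ((nat_lit 535), [nat_lit 3, nat_lit 1, nat_lit 3, nat_lit 2, nat_lit 1, nat_lit 0, nat_lit 1, nat_lit 0]))))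
 (.node (nat_lit 4617) (.node (nat_lit 4616) (.leaf ((nat_lit 667), [nat_lit 2, nat_lit 1, nat_lit 3, nat_lit 0, nat_lit 2, nat_lit 1, nat_lit 0])) (.leaf ((nat_lit 600), [nat_lit 1, nat_lit 2, nat_lit 3, nat_lit 1, nat_lit 2, nat_lit 0, nat_lit 1, nat_lit 0, nat_lit 1]))) (.node (nat_lit 4618) (.leaf ((nat_lit 532), [nat_lit 0, nat_lit 1, nat_lit 2, nat_lit 3, nat_lit 0, nat_lit 2, nat_lit 1, nat_lit 0, nat_lit 1])) (.node (nat_lit 4619) (.leaf ((nat_lit 485), [nat_lit 3, nat_lit 1, nat_lit 3, nat_lit 0, nat_lit 2, nat_lit 1])) (.leaf ((nat_lit 543), [nat_lit 3, nat_lit 2, nat_lit 3, nat_lit 2, nat_lit 0, nat_lit 2, nat_lit 0, nat_lit 1, nat_lit 0, nat_lit 1, nat_lit 0]))))))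
 (.node (nat_lit 4625) (.node (nat_lit 4622) (.node (nat_lit 4621) (.leaf ((nat_lit 643), [nat_lit 3, nat_lit 2, nat_lit 3, nat_lit 1, nat_lit 0, nat_lit 2])) (.leaf ((nat_lit 498), [nat_lit 1, nat_lit 2, nat_lit 3, nat_lit 2, nat_lit 0]))) (.node (nat_lit 4623) (.leaf ((nat_lit 643), [nat_lit 0, nat_lit 1, nat_lit 2, nat_lit 3, nat_lit 0, nat_lit 2, nat_lit 0, nat_lit 1, nat_lit 0, nat_lit 1])) (.node (nat_lit 4624) (.leaf ((nat_lit 588), [nat_lit 2, nat_lit 3, nat_lit 1, nat_lit 0])) (.leaf ((nat_lit 518), [nat_lit 0, nat_lit 1, nat_lit 2, nat_lit 3, nat_lit 2, nat_lit 0, nat_lit 1, nat_lit 0])))))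
 (.node (nat_lit 4627) (.node (nat_lit 4626) (.leaf ((nat_lit 506), [nat_lit 3, nat_lit 2, nat_lit 0, nat_lit 2, nat_lit 1])) (.leaf ((nat_lit 604), [nat_lit 3, nat_lit 2, nat_lit 3, nat_lit 1, nat_lit 0, nat_lit 2, nat_lit 0, nat_lit 1, nat_lit 0, nat_lit 1, nat_lit 0]))) (.node (nat_lit 4628) (.leaf ((nat_lit 565), [nat_lit 3, nat_lit 1, nat_lit 3, nat_lit 1, nat_lit 0, nat_lit 1])) (.node (nat_lit 4629) (.leaf ((nat_lit 618), [nat_lit 0, nat_lit 1, nat_lit 3, nat_lit 2, nat_lit 0, nat_lit 1])) (.leaf ((nat_lit 666), [nat_lit 1, nat_lit 2, nat_lit 3, nat_lit 0, nat_lit 2, nat_lit 0])))))))))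
 (.node (nat_lit 4667) (.node (nat_lit 4648) (.node (nat_lit 4639) (.node (nat_lit 4634) (.node (nat_lit 4632) (.node (nat_lit 4631) (.leaf ((nat_lit 592), [nat_lit 3, nat_lit 1, nat_lit 2, nat_lit 0, nat_lit 1, nat_lit 0, nat_lit 1])) (.leaf ((nat_lit 661), [nat_lit 3, nat_lit 2, nat_lit 3, nat_lit 0, nat_lit 2, nat_lit 1, nat_lit 0]))) (.node (nat_lit 4633) (.leaf ((nat_lit 637), [nat_lit 1, nat_lit 2, nat_lit 3, nat_lit 1, nat_lit 0, nat_lit 2, nat_lit 1, nat_lit 0])) (.leaf ((nat_lit 501), [nat_lit 3, nat_lit 1, nat_lit 0, nat_lit 1]))))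
 (.node (nat_lit 4636) (.node (nat_lit 4635) (.leaf ((nat_lit 599), [nat_lit 3, nat_lit 2, nat_lit 1])) (.leaf ((nat_lit 645), [nat_lit 2, nat_lit 3, nat_lit 2, nat_lit 0, nat_lit 1, nat_lit 0, nat_lit 1]))) (.node (nat_lit 4637) (.leaf ((nat_lit 575), [nat_lit 3, nat_lit 2, nat_lit 0, nat_lit 1, nat_lit 0])) (.node (nat_lit 4638) (.leaf ((nat_lit 645), [nat_lit 0, nat_lit 1, nat_lit 3, nat_lit 0, nat_lit 2, nat_lit 1, nat_lit 0, nat_lit 1])) (.leaf ((nat_lit 568), [nat_lit 3, nat_lit 1, nat_lit 3, nat_lit 1, nat_lit 2, nat_lit 0]))))))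
 (.node (nat_lit 4643) (.node (nat_lit 4641) (.node (nat_lit 4640) (.leaf ((nat_lit 504), [nat_lit 3, nat_lit 1, nat_lit 3, nat_lit 0, nat_lit 2, nat_lit 0])) (.leaf ((nat_lit 630), [nat_lit 2, nat_lit 1, nat_lit 3, nat_lit 0, nat_lit 2, nat_lit 0, nat_lit 1, nat_lit 0]))) (.node (nat_lit 4642) (.leaf ((nat_lit 590), [nat_lit 1, nat_lit 2, nat_lit 3, nat_lit 2, nat_lit 0, nat_lit 1, nat_lit 0])) (.leaf ((nat_lit 539), [nat_lit 3, nat_lit 1, nat_lit 3, nat_lit 0, nat_lit 1, nat_lit 0, nat_lit 1]))))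
 (.node (nat_lit 4645) (.node (nat_lit 4644) (.leaf ((nat_lit 553), [nat_lit 2, nat_lit 1, nat_lit 3, nat_lit 1])) (.leaf ((nat_lit 663), [nat_lit 0, nat_lit 2, nat_lit 0]))) (.node (nat_lit 4646) (.leaf ((nat_lit 628), [nat_lit 3, nat_lit 1, nat_lit 2, nat_lit 3, nat_lit 1, nat_lit 2, nat_lit 0])) (.node (nat_lit 4647) (.leaf ((nat_lit 505), [nat_lit 1, nat_lit 3, nat_lit 2, nat_lit 0, nat_lit 2, nat_lit 1, nat_lit 0, nat_lit 1])) (.leaf ((nat_lit 595), [nat_lit 3, nat_lit 2, nat_lit 1, nat_lit 0, nat_lit 1])))))))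
 (.node (nat_lit 4657) (.node (nat_lit 4652) (.node (nat_lit 4650) (.node (nat_lit 4649) (.leaf ((nat_lit 668), [nat_lit 1, nat_lit 3, nat_lit 2, nat_lit 0])) (.leaf ((nat_lit 542), [nat_lit 1]))) (.node (nat_lit 4651) (.leaf ((nat_lit 519), [nat_lit 3, nat_lit 1, nat_lit 2, nat_lit 3, nat_lit 0, nat_lit 2, nat_lit 1])) (.leaf ((nat_lit 546), [nat_lit 3, nat_lit 1, nat_lit 2, nat_lit 3, nat_lit 2, nat_lit 0, nat_lit 2, nat_lit 0, nat_lit 1, nat_lit 0, nat_lit 1]))))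
 (.node (nat_lit 4654) (.node (nat_lit 4653) (.leaf ((nat_lit 650), [nat_lit 2, nat_lit 1])) (.leaf ((nat_lit 622), [nat_lit 3, nat_lit 1, nat_lit 2, nat_lit 0, nat_lit 1, nat_lit 0, nat_lit 1, nat_lit 0]))) (.node (nat_lit 4655) (.leaf ((nat_lit 566), [nat_lit 1, nat_lit 2, nat_lit 3, nat_lit 1, nat_lit 0, nat_lit 2, nat_lit 0, nat_lit 1, nat_lit 0])) (.node (nat_lit 4656) (.leaf ((nat_lit 591), [nat_lit 3, nat_lit 2, nat_lit 3, nat_lit 0, nat_lit 2, nat_lit 1, nat_lit 0, nat_lit 1])) (.leaf ((nat_lit 545), [nat_lit 2, nat_lit 3, nat_lit 1, nat_lit 0, nat_lit 2, nat_lit 0, nat_lit 1, nat_lit 0, nat_lit 1]))))))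
 (.node (nat_lit 4662) (.node (nat_lit 4659) (.node (nat_lit 4658) (.leaf ((nat_lit 595), [nat_lit 3, nat_lit 1, nat_lit 2, nat_lit 0, nat_lit 1, nat_lit 0, nat_lit 1])) (.leaf ((nat_lit 665), [nat_lit 1, nat_lit 2, nat_lit 3, nat_lit 2, nat_lit 1, nat_lit 0, nat_lit 1, nat_lit 0]))) (.node (nat_lit 4660) (.leaf ((nat_lit 658), [nat_lit 2, nat_lit 3, nat_lit 1, nat_lit 2])) (.node (nat_lit 4661) (.leaf ((nat_lit 519), [nat_lit 3, nat_lit 1, nat_lit 3, nat_lit 2, nat_lit 1, nat_lit 0])) (.leaf ((nat_lit 588), [nat_lit 0, nat_lit 2, nat_lit 0, nat_lit 1, nat_lit 0])))))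
 (.node (nat_lit 4664) (.node (nat_lit 4663) (.leaf ((nat_lit 648), [nat_lit 2, nat_lit 1, nat_lit 3, nat_lit 1, nat_lit 0, nat_lit 2, nat_lit 1, nat_lit 0])) (.leaf ((nat_lit 572), [nat_lit 1, nat_lit 2, nat_lit 3, nat_lit 2, nat_lit 1, nat_lit 0]))) (.node (nat_lit 4665) (.leaf ((nat_lit 661), [nat_lit 2, nat_lit 1, nat_lit 3, nat_lit 1, nat_lit 2, nat_lit 0, nat_lit 1, nat_lit 0, nat_lit 1, nat_lit 0])) (.node (nat_lit 4666) (.leaf ((nat_lit 556), [nat_lit 3, nat_lit 1, nat_lit 3])) (.leaf ((nat_lit 589), [nat_lit 3, nat_lit 0, nat_lit 2, nat_lit 1]))))))))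
 (.node (nat_lit 4685) (.node (nat_lit 4676) (.node (nat_lit 4671) (.node (nat_lit 4669) (.node (nat_lit 4668) (.leaf ((nat_lit 527), [nat_lit 1, nat_lit 3, nat_lit 1, nat_lit 0, nat_lit 1, nat_lit 0])) (.leaf ((nat_lit 638), [nat_lit 0, nat_lit 1, nat_lit 3, nat_lit 2, nat_lit 0]))) (.node (nat_lit 4670) (.leaf ((nat_lit 535), [nat_lit 0, nat_lit 1, nat_lit 3, nat_lit 1])) (.leaf ((nat_lit 659), [nat_lit 3, nat_lit 1, nat_lit 2, nat_lit 3, nat_lit 1, nat_lit 0]))))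
 (.node (nat_lit 4673) (.node (nat_lit 4672) (.leaf ((nat_lit 659), [nat_lit 0, nat_lit 1, nat_lit 2, nat_lit 3, nat_lit 2, nat_lit 0])) (.leaf ((nat_lit 622), [nat_lit 1, nat_lit 3, nat_lit 1, nat_lit 0, nat_lit 2, nat_lit 0, nat_lit 1]))) (.node (nat_lit 4674) (.leaf ((nat_lit 640), [nat_lit 3, nat_lit 1, nat_lit 0, nat_lit 2, nat_lit 0, nat_lit 1, nat_lit 0])) (.node (nat_lit 4675) (.leaf ((nat_lit 546), [nat_lit 3, nat_lit 2, nat_lit 3, nat_lit 2, nat_lit 0, nat_lit 2, nat_lit 1, nat_lit 0, nat_lit 1])) (.leaf ((nat_lit 669), [nat_lit 2, nat_lit 3, nat_lit 1, nat_lit 0, nat_lit 2, nat_lit 0, nat_lit 1]))))))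
 (.node (nat_lit 4680) (.node (nat_lit 4678) (.node (nat_lit 4677) (.leaf ((nat_lit 542), [nat_lit 3, nat_lit 1, nat_lit 3, nat_lit 2, nat_lit 0, nat_lit 2, nat_lit 0, nat_lit 1, nat_lit 0, nat_lit 1, nat_lit 0])) (.leaf ((nat_lit 664), [nat_lit 2, nat_lit 1, nat_lit 3, nat_lit 0, nat_lit 1]))) (.node (nat_lit 4679) (.leaf ((nat_lit 617), [nat_lit 1, nat_lit 0, nat_lit 2, nat_lit 0, nat_lit 1, nat_lit 0, nat_lit 1])) (.leaf ((nat_lit 617), [nat_lit 0, nat_lit 1, nat_lit 2, nat_lit 3, nat_lit 1, nat_lit 2, nat_lit 0, nat_lit 1]))))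
 (.node (nat_lit 4682) (.node (nat_lit 4681) (.leaf ((nat_lit 627), [nat_lit 3, nat_lit 1, nat_lit 3, nat_lit 0, nat_lit 2, nat_lit 0, nat_lit 1, nat_lit 0, nat_lit 1, nat_lit 0])) (.leaf ((nat_lit 640), [nat_lit 0, nat_lit 1, nat_lit 3, nat_lit 2, nat_lit 0]))) (.node (nat_lit 4683) (.leaf ((nat_lit 642), [nat_lit 1, nat_lit 2, nat_lit 3, nat_lit 1, nat_lit 0, nat_lit 2, nat_lit 1, nat_lit 0, nat_lit 1])) (.node (nat_lit 4684) (.leaf ((nat_lit 543), [nat_lit 1, nat_lit 3, nat_lit 0, nat_lit 2, nat_lit 0, nat_lit 1, nat_lit 0, nat_lit 1, nat_lit 0])) (.leaf ((nat_lit 649), [nat_lit 2, nat_lit 1, nat_lit 3, nat_lit 1, nat_lit 0, nat_lit 2, nat_lit 1, nat_lit 0, nat_lit 1])))))))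
 (.node (nat_lit 4694) (.node (nat_lit 4689) (.node (nat_lit 4687) (.node (nat_lit 4686) (.leaf ((nat_lit 569), [nat_lit 3, nat_lit 1, nat_lit 3, nat_lit 0, nat_lit 2, nat_lit 0])) (.leaf ((nat_lit 569), [nat_lit 2, nat_lit 1, nat_lit 3, nat_lit 0, nat_lit 2, nat_lit 0, nat_lit 1, nat_lit 0]))) (.node (nat_lit 4688) (.leaf ((nat_lit 553), [nat_lit 1, nat_lit 2, nat_lit 3, nat_lit 2, nat_lit 0, nat_lit 2, nat_lit 1, nat_lit 0, nat_lit 1, nat_lit 0])) (.leaf ((nat_lit 597), [nat_lit 1, nat_lit 2, nat_lit 3, nat_lit 2, nat_lit 0, nat_lit 1, nat_lit 0]))))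
 (.node (nat_lit 4691) (.node (nat_lit 4690) (.leaf ((nat_lit 667), [nat_lit 3, nat_lit 2, nat_lit 0, nat_lit 1, nat_lit 0, nat_lit 1, nat_lit 0])) (.leaf ((nat_lit 641), [nat_lit 0, nat_lit 1, nat_lit 2, nat_lit 3, nat_lit 2, nat_lit 0, nat_lit 2, nat_lit 0, nat_lit 1]))) (.node (nat_lit 4692) (.leaf ((nat_lit 616), [nat_lit 1, nat_lit 3, nat_lit 0, nat_lit 1, nat_lit 0, nat_lit 1])) (.node (nat_lit 4693) (.leaf ((nat_lit 670), [nat_lit 0, nat_lit 1, nat_lit 3, nat_lit 1, nat_lit 0, nat_lit 2, nat_lit 0, nat_lit 1, nat_lit 0, nat_lit 1, nat_lit 0])) (.leaf ((nat_lit 640), [nat_lit 0, nat_lit 1, nat_lit 2, nat_lit 3, nat_lit 2, nat_lit 0, nat_lit 2, nat_lit 1, nat_lit 0]))))))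
 (.node (nat_lit 4699) (.node (nat_lit 4696) (.node (nat_lit 4695) (.leaf ((nat_lit 656), [nat_lit 3, nat_lit 1, nat_lit 2, nat_lit 3, nat_lit 2, nat_lit 0, nat_lit 2, nat_lit 0])) (.leaf ((nat_lit 670), [nat_lit 0, nat_lit 2, nat_lit 0]))) (.node (nat_lit 4697) (.leaf ((nat_lit 590), [nat_lit 0, nat_lit 1, nat_lit 2, nat_lit 3, nat_lit 2, nat_lit 0, nat_lit 2, nat_lit 1, nat_lit 0])) (.node (nat_lit 4698) (.leaf ((nat_lit 647), [nat_lit 3, nat_lit 1, nat_lit 3, nat_lit 1, nat_lit 0, nat_lit 2, nat_lit 0, nat_lit 1])) (.leaf ((nat_lit 625), [nat_lit 1, nat_lit 3, nat_lit 0])))))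
 (.node (nat_lit 4701) (.node (nat_lit 4700) (.leaf ((nat_lit 671), [nat_lit 3, nat_lit 1, nat_lit 3, nat_lit 0, nat_lit 2, nat_lit 1, nat_lit 0, nat_lit 1, nat_lit 0])) (.leaf ((nat_lit 656), [nat_lit 3, nat_lit 1, nat_lit 2, nat_lit 3, nat_lit 2, nat_lit 0, nat_lit 2, nat_lit 0, nat_lit 1]))) (.node (nat_lit 4702) (.leaf ((nat_lit 643), [nat_lit 3, nat_lit 1, nat_lit 3])) (.node (nat_lit 4703) (.leaf ((nat_lit 639), [nat_lit 0, nat_lit 1, nat_lit 2, nat_lit 3, nat_lit 1, nat_lit 2, nat_lit 1, nat_lit 0, nat_lit 1, nat_lit 0])) (.leaf ((nat_lit 653), [nat_lit 0, nat_lit 2, nat_lit 1, nat_lit 0, nat_lit 1]))))))))))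
noncomputable def bWd : Tr (ℕ × List ℕ) := (.node (nat_lit 2352) (.node (nat_lit 1176) (.node (nat_lit 588) (.node (nat_lit 294) (.node (nat_lit 147) bWd_0 bWd_1) (.node (nat_lit 441) bWd_2 bWd_3)) (.node (nat_lit 882) (.node (nat_lit 735) bWd_4 bWd_5) (.node (nat_lit 1029) bWd_6 bWd_7))) (.node (nat_lit 1764) (.node (nat_lit 1470) (.node (nat_lit 1323) bWd_8 bWd_9) (.node (nat_lit 1617) bWd_10 bWd_11)) (.node (nat_lit 2058) (.node (nat_lit 1911) bWd_12 bWd_13) (.node (nat_lit 2205) bWd_14 bWd_15)))) (.node (nat_lit 3528) (.node (nat_lit 2940) (.node (nat_lit 2646) (.node (nat_lit 2499) bWd_16 bWd_17) (.node (nat_lit 2793) bWd_18 bWd_19)) (.node (nat_lit 3234) (.node (nat_lit 3087) bWd_20 bWd_21) (.node (nat_lit 3381) bWd_22 bWd_23))) (.node (nat_lit 4116) (.node (nat_lit 3822) (.node (nat_lit 3675) bWd_24 bWd_25) (.node (nat_lit 3969) bWd_26 bWd_27)) (.node (nat_lit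 4410) (.node (nat_lit 4263) bWd_28 bWd_29) (.node (nat_lit 4557) bWd_30 bWd_31)))))
theorem bq_0 : allR 0 223 (dbl2Chk (nat_lit 5) (nat_lit 31) (aL.map Lev.b) aT uT mT bDd (topN aL) 672 14 bPA bWd) = true := by decide +kernel
theorem bq_1 : allR 223 221 (dbl2Chk (nat_lit 5) (nat_lit 31) (aL.map Lev.b) aT uT mT bDd (topN aL) 672 14 bPA bWd) = true := by decide +kernel
theorem bq_2 : allR 444 219 (dbl2Chk (nat_lit 5) (nat_lit 31) (aL.map Lev.b) aT uT mT bDd (topN aL) 672 14 bPA bWd) = true := by decide +kernel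
theorem bq_3 : allR 663 9 (dbl2Chk (nat_lit 5) (nat_lit 31) (aL.map Lev.b) aT uT mT bDd (topN aL) 672 14 bPA bWd) = true := by decide +kernel
theorem bq : allR 0 672 (dbl2Chk (nat_lit 5) (nat_lit 31) (aL.map Lev.b) aT uT mT bDd (topN aL) 672 14 bPA bWd) = true := (allR_add (allR_add (allR_add bq_0 bq_1) bq_2) bq_3)
noncomputable def cR : Tr ℕ := (.node (nat_lit 30) (.node (nat_lit 15) (.node (nat_lit 7) (.node (nat_lit 3) (.node (nat_lit 1) (.leaf (nat_lit 0xbdab49ca307b9ac5a928398a418820)) (.node (nat_lit 2) (.leaf (nat_lit 0x7d6c971a11bcd6c6aa853c90418820)) (.leaf (nat_lit 0x691c59c6507d6e9399885aa9618820))))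
 (.node (nat_lit 5) (.node (nat_lit 4) (.leaf (nat_lit 0xba6a49c64a6a1e51c2ce3999458820)) (.leaf (nat_lit 0x1b2ae2c9677d1568b52881a62b9020))) (.node (nat_lit 6) (.leaf (nat_lit 0x7b88caaa126cce9b98b45c51618820)) (.leaf (nat_lit 0x6d53641952bcc657c08c3c5d458820)))))
 (.node (nat_lit 11) (.node (nat_lit 9) (.node (nat_lit 8) (.leaf (nat_lit 0x7d589a18eb19636535d384902b9020)) (.leaf (nat_lit 0x59268740d1bd9f43c9856a93518820))) (.node (nat_lit 10) (.leaf (nat_lit 0x7d10c9ca2a6d6f6398ae1c08958820)) (.leaf (nat_lit 0x50a932ae477d46981ac88b5ccb9020))))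
 (.node (nat_lit 13) (.node (nat_lit 12) (.leaf (nat_lit 0x7d2c4740ca596e81c6b33c98968820)) (.leaf (nat_lit 0x6b1d69ca26ba1f41c0955a92538820))) (.node (nat_lit 14) (.leaf (nat_lit 0x1a6a22ae4d521f3b9d9481ace89020)) (.leaf (nat_lit 0x1a5d5a44eb794c495d8882a626d820))))))
 (.node (nat_lit 22) (.node (nat_lit 18) (.node (nat_lit 16) (.leaf (nat_lit 0x596a8644676920993ece51a62bd020)) (.node (nat_lit 17) (.leaf (nat_lit 0xbcc8cb2a265b8f47c9096c0b518820)) (.leaf (nat_lit 0x6a285ac1517ccf6b99841c9c958820))))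
 (.node (nat_lit 20) (.node (nat_lit 19) (.leaf (nat_lit 0x5da952c9467b868bc48c3c26968820)) (.leaf (nat_lit 0xbb984428d16cc747c2c95caa538820))) (.node (nat_lit 21) (.leaf (nat_lit 0x5552c419b2196f379c5682e8e89020)) (.leaf (nat_lit 0xbd9944c8ed1a21552e6e898a279020)))))
 (.node (nat_lit 26) (.node (nat_lit 24) (.node (nat_lit 23) (.leaf (nat_lit 0x7b92c2a9671d24435eb3845026d820)) (.leaf (nat_lit 0x6d4b6218e35b24983d13545c2bd020))) (.node (nat_lit 25) (.leaf (nat_lit 0x3da68ac152691e55c534b998e18820)) (.leaf (nat_lit 0x1d26e428d2ba5a43c4ac7c2d558820))))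
 (.node (nat_lit 28) (.node (nat_lit 27) (.leaf (nat_lit 0x795099c646bb9a45aa951c2cc38820)) (.leaf (nat_lit 0x5092e434c7bd8748caa582e6c79020))) (.node (nat_lit 29) (.leaf (nat_lit 0x308b3a1e2b7b86c8288895ea96d820)) (.leaf (nat_lit 0x79496ac1463d1a81c9d35c52cb8820)))))))
 (.node (nat_lit 45) (.node (nat_lit 37) (.node (nat_lit 33) (.node (nat_lit 31) (.leaf (nat_lit 0x69134428d01b2ee5cab33c4b678820)) (.node (nat_lit 32) (.leaf (nat_lit 0x7b982a1ccd8cc68baea584ac951020)) (.leaf (nat_lit 0x5b27571a12796e91c4966aa8838820))))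
 (.node (nat_lit 35) (.node (nat_lit 34) (.leaf (nat_lit 0x1d2c2434cb516ee79d898cab381020)) (.leaf (nat_lit 0x5daa260e2f839b3b9ca45192895020))) (.node (nat_lit 36) (.leaf (nat_lit 0x1d2764c0edba24433d858a9c25d420)) (.leaf (nat_lit 0xba69572e117ccc290ec83b4a453020)))))
 (.node (nat_lit 41) (.node (nat_lit 39) (.node (nat_lit 38) (.leaf (nat_lit 0x6a2c5640675923435eb3549c27a420)) (.leaf (nat_lit 0xbce854c2461a0e46c5d67a99558820))) (.node (nat_lit 40) (.leaf (nat_lit 0x19456635668d20e7c90951e75b9020)) (.leaf (nat_lit 0xba0b4740d27cd646a9361c6ac38820))))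
 (.node (nat_lit 43) (.node (nat_lit 42) (.leaf (nat_lit 0x390aea44ca7d4686cac95c26cb8820)) (.leaf (nat_lit 0x7cd842aa505b869bc6b469ac838820))) (.node (nat_lit 44) (.leaf (nat_lit 0x3398942af11d1b37ac4481cb595820)) (.leaf (nat_lit 0x856c5719f15b2f369c4950c8895020))))))
 (.node (nat_lit 52) (.node (nat_lit 48) (.node (nat_lit 46) (.leaf (nat_lit 0x3d5c5b4546592e86c2897c99318820)) (.node (nat_lit 47) (.leaf (nat_lit 0x3a66eaaa117d1ac1cac4b98a858820)) (.leaf (nat_lit 0x830a8a9db2509f38ad2e19ad4b9020))))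
 (.node (nat_lit 50) (.node (nat_lit 49) (.leaf (nat_lit 0x19675419516b2f65ca897c08e38820)) (.leaf (nat_lit 0x3099545d4b69065945d481e697d820))) (.node (nat_lit 51) (.leaf (nat_lit 0x80ac873cc7ba564946ac50e656d020)) (.leaf (nat_lit 0xbcd8249e4b838657b6c889ab451020)))))
 (.node (nat_lit 56) (.node (nat_lit 54) (.node (nat_lit 53) (.leaf (nat_lit 0x1948245d47351b57ad2c945d385820)) (.leaf (nat_lit 0x19664641776a23653d3491aa23b820))) (.node (nat_lit 55) (.leaf (nat_lit 0x6b0aea9e127cd4288c885de9632420)) (.leaf (nat_lit 0x6ccb46422a1a176bcaa47992e38820))))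
 (.node (nat_lit 58) (.node (nat_lit 57) (.leaf (nat_lit 0x195d349e46ba20252e8c7b6d589020)) (.leaf (nat_lit 0x1a26ea1cd2796225352cbaeb681020))) (.node (nat_lit 59) (.leaf (nat_lit 0x352c94346bbb9457c4823c27593020)) (.leaf (nat_lit 0x909962bd4d590683426989dd4bd420))))))))
noncomputable def crE : Tr (List ℕ) := (.node (nat_lit 30) (.node (nat_lit 15) (.node (nat_lit 7) (.node (nat_lit 3) (.node (nat_lit 1) (.leaf []) (.node (nat_lit 2) (.leaf [nat_lit 5, nat_lit 6, nat_lit 0, nat_lit 2, nat_lit 1, nat_lit 5, nat_lit 3, nat_lit 1, nat_lit 4, nat_lit 0, nat_lit 2]) (.leaf [nat_lit 4, nat_lit 1, nat_lit 6, nat_lit 0, nat_lit 5, nat_lit 1, nat_lit 4, nat_lit 2, nat_lit 4, nat_lit 0, nat_lit 3, nat_lit 2, nat_lit 0])))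
 (.node (nat_lit 5) (.node (nat_lit 4) (.leaf [nat_lit 1, nat_lit 4, nat_lit 1, nat_lit 5, nat_lit 2, nat_lit 0, nat_lit 4, nat_lit 1, nat_lit 3, nat_lit 2, nat_lit 0]) (.leaf [nat_lit 1, nat_lit 2, nat_lit 5, nat_lit 2, nat_lit 0])) (.node (nat_lit 6) (.leaf [nat_lit 6, nat_lit 1, nat_lit 2, nat_lit 5, nat_lit 4, nat_lit 3, nat_lit 4, nat_lit 0, nat_lit 3, nat_lit 0, nat_lit 2]) (.leaf [nat_lit 6, nat_lit 3, nat_lit 2, nat_lit 0, nat_lit 5, nat_lit 3, nat_lit 4, nat_lit 0, nat_lit 3]))))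
 (.node (nat_lit 11) (.node (nat_lit 9) (.node (nat_lit 8) (.leaf [nat_lit 5, nat_lit 6, nat_lit 0, nat_lit 2, nat_lit 1, nat_lit 5, nat_lit 1, nat_lit 2, nat_lit 4, nat_lit 0, nat_lit 2]) (.leaf [nat_lit 4, nat_lit 1, nat_lit 6, nat_lit 2, nat_lit 1, nat_lit 5, nat_lit 1, nat_lit 4, nat_lit 1, nat_lit 2, nat_lit 1])) (.node (nat_lit 10) (.leaf [nat_lit 1, nat_lit 3, nat_lit 1, nat_lit 6, nat_lit 1, nat_lit 5, nat_lit 1, nat_lit 3, nat_lit 4, nat_lit 1, nat_lit 3, nat_lit 1, nat_lit 2, nat_lit 1]) (.leaf [nat_lit 6, nat_lit 3, nat_lit 6, nat_lit 3, nat_lit 4, nat_lit 5, nat_lit 2, nat_lit 1, nat_lit 4, nat_lit 3, nat_lit 1, nat_lit 2, nat_lit 0])))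
 (.node (nat_lit 13) (.node (nat_lit 12) (.leaf [nat_lit 5, nat_lit 6, nat_lit 2, nat_lit 4, nat_lit 5, nat_lit 4, nat_lit 1, nat_lit 3, nat_lit 1, nat_lit 2, nat_lit 0]) (.leaf [nat_lit 4, nat_lit 1, nat_lit 6, nat_lit 2, nat_lit 1, nat_lit 5, nat_lit 1, nat_lit 4, nat_lit 2, nat_lit 1, nat_lit 3, nat_lit 1])) (.node (nat_lit 14) (.leaf [nat_lit 2, nat_lit 4, nat_lit 5, nat_lit 4, nat_lit 3, nat_lit 4, nat_lit 3, nat_lit 1]) (.leaf [nat_lit 4, nat_lit 1, nat_lit 6, nat_lit 0, nat_lit 2, nat_lit 1, nat_lit 5, nat_lit 1, nat_lit 4, nat_lit 2, nat_lit 4, nat_lit 2, nat_lit 1, nat_lit 3])))))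
 (.node (nat_lit 22) (.node (nat_lit 18) (.node (nat_lit 16) (.leaf [nat_lit 1, nat_lit 2, nat_lit 5, nat_lit 1, nat_lit 2, nat_lit 4, nat_lit 1, nat_lit 2]) (.node (nat_lit 17) (.leaf [nat_lit 1, nat_lit 3, nat_lit 1, nat_lit 6, nat_lit 3, nat_lit 1, nat_lit 4, nat_lit 2, nat_lit 1, nat_lit 3, nat_lit 0]) (.leaf [nat_lit 5, nat_lit 6, nat_lit 4, nat_lit 1, nat_lit 5, nat_lit 2, nat_lit 0, nat_lit 4, nat_lit 2, nat_lit 1])))
 (.node (nat_lit 20) (.node (nat_lit 19) (.leaf [nat_lit 1, nat_lit 3, nat_lit 1, nat_lit 6, nat_lit 4, nat_lit 1, nat_lit 5, nat_lit 1, nat_lit 3, nat_lit 4, nat_lit 0, nat_lit 3, nat_lit 0, nat_lit 2, nat_lit 0]) (.leaf [nat_lit 5, nat_lit 6, nat_lit 2, nat_lit 0, nat_lit 5, nat_lit 3, nat_lit 1, nat_lit 4, nat_lit 3, nat_lit 0, nat_lit 2, nat_lit 0])) (.node (nat_lit 21) (.leaf [nat_lit 1, nat_lit 3, nat_lit 6, nat_lit 3, nat_lit 2, nat_lit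 0, nat_lit 5, nat_lit 4, nat_lit 3, nat_lit 0, nat_lit 4, nat_lit 3, nat_lit 0]) (.leaf [nat_lit 0, nat_lit 3, nat_lit 1, nat_lit 4, nat_lit 0, nat_lit 3, nat_lit 2, nat_lit 0]))))
 (.node (nat_lit 26) (.node (nat_lit 24) (.node (nat_lit 23) (.leaf [nat_lit 6, nat_lit 1, nat_lit 2, nat_lit 5, nat_lit 2, nat_lit 4, nat_lit 1, nat_lit 3, nat_lit 1, nat_lit 2, nat_lit 1]) (.leaf [nat_lit 6, nat_lit 3, nat_lit 2, nat_lit 0, nat_lit 5, nat_lit 4, nat_lit 3, nat_lit 0, nat_lit 4, nat_lit 1])) (.node (nat_lit 25) (.leaf [nat_lit 1, nat_lit 4, nat_lit 1, nat_lit 5, nat_lit 2, nat_lit 0, nat_lit 4, nat_lit 3, nat_lit 0, nat_lit 2, nat_lit 1]) (.leaf [nat_lit 1, nat_lit 3, nat_lit 1, nat_lit 6, nat_lit 5, nat_lit 0, nat_lit 3, nat_lit 0, nat_lit 2, nat_lit 1])))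
 (.node (nat_lit 28) (.node (nat_lit 27) (.leaf [nat_lit 1, nat_lit 3, nat_lit 1, nat_lit 6, nat_lit 5, nat_lit 3, nat_lit 2, nat_lit 0]) (.leaf [nat_lit 1, nat_lit 3, nat_lit 6, nat_lit 2, nat_lit 1, nat_lit 5, nat_lit 2, nat_lit 1, nat_lit 4, nat_lit 0])) (.node (nat_lit 29) (.leaf [nat_lit 1, nat_lit 6, nat_lit 4, nat_lit 2, nat_lit 1, nat_lit 5, nat_lit 3, nat_lit 1, nat_lit 4, nat_lit 3, nat_lit 1, nat_lit 2]) (.leaf [nat_lit 6, nat_lit 4, nat_lit 1, nat_lit 5, nat_lit 1, nat_lit 3, nat_lit 4, nat_lit 2, nat_lit 0, nat_lit 3]))))))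
 (.node (nat_lit 45) (.node (nat_lit 37) (.node (nat_lit 33) (.node (nat_lit 31) (.leaf [nat_lit 6, nat_lit 3, nat_lit 1, nat_lit 4, nat_lit 0, nat_lit 3, nat_lit 0, nat_lit 2]) (.node (nat_lit 32) (.leaf [nat_lit 5, nat_lit 6, nat_lit 0, nat_lit 4, nat_lit 1, nat_lit 5, nat_lit 3, nat_lit 1, nat_lit 2, nat_lit 4, nat_lit 2, nat_lit 1, nat_lit 3, nat_lit 1]) (.leaf [nat_lit 4, nat_lit 1, nat_lit 6, nat_lit 0, nat_lit 5, nat_lit 1, nat_lit 4, nat_lit 2, nat_lit 4, nat_lit 2, nat_lit 1, nat_lit 3])))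
 (.node (nat_lit 35) (.node (nat_lit 34) (.leaf [nat_lit 5, nat_lit 6, nat_lit 2, nat_lit 0, nat_lit 5, nat_lit 4, nat_lit 3, nat_lit 0, nat_lit 4, nat_lit 0, nat_lit 3, nat_lit 2, nat_lit 0]) (.leaf [nat_lit 0, nat_lit 2, nat_lit 1, nat_lit 5, nat_lit 3, nat_lit 0, nat_lit 4, nat_lit 2])) (.node (nat_lit 36) (.leaf [nat_lit 4, nat_lit 1, nat_lit 6, nat_lit 1, nat_lit 2, nat_lit 5, nat_lit 3, nat_lit 1, nat_lit 4, nat_lit 0, nat_lit 2, nat_lit 0]) (.leaf [nat_lit 6, nat_lit 3, nat_lit 6, nat_lit 2, nat_lit 0, nat_lit 3, nat_lit 1]))))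
 (.node (nat_lit 41) (.node (nat_lit 39) (.node (nat_lit 38) (.leaf [nat_lit 5, nat_lit 6, nat_lit 4, nat_lit 1, nat_lit 5, nat_lit 3, nat_lit 2, nat_lit 1, nat_lit 4, nat_lit 3, nat_lit 0, nat_lit 2]) (.leaf [nat_lit 4, nat_lit 1, nat_lit 6, nat_lit 2, nat_lit 5, nat_lit 2, nat_lit 4, nat_lit 1, nat_lit 2, nat_lit 0])) (.node (nat_lit 40) (.leaf [nat_lit 1, nat_lit 5, nat_lit 6, nat_lit 2, nat_lit 5, nat_lit 3, nat_lit 0, nat_lit 4, nat_lit 3, nat_lit 0, nat_lit 2, nat_lit 0]) (.leaf [nat_lit 6, nat_lit 2, nat_lit 0, nat_lit 5, nat_lit 1, nat_lit 3, nat_lit 4, nat_lit 2, nat_lit 1])))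
 (.node (nat_lit 43) (.node (nat_lit 42) (.leaf [nat_lit 1, nat_lit 3, nat_lit 1, nat_lit 6, nat_lit 4, nat_lit 1, nat_lit 5, nat_lit 1, nat_lit 3, nat_lit 4, nat_lit 0, nat_lit 2, nat_lit 1]) (.leaf [nat_lit 2, nat_lit 4, nat_lit 5, nat_lit 4, nat_lit 1])) (.node (nat_lit 44) (.leaf [nat_lit 1, nat_lit 5, nat_lit 6, nat_lit 4, nat_lit 5, nat_lit 3, nat_lit 1, nat_lit 4, nat_lit 0, nat_lit 3, nat_lit 0, nat_lit 2, nat_lit 1]) (.leaf [nat_lit 5, nat_lit 1, nat_lit 6, nat_lit 2, nat_lit 5, nat_lit 4, nat_lit 2, nat_lit 1, nat_lit 3])))))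
 (.node (nat_lit 52) (.node (nat_lit 48) (.node (nat_lit 46) (.leaf [nat_lit 5, nat_lit 6, nat_lit 2, nat_lit 4, nat_lit 5, nat_lit 4, nat_lit 2, nat_lit 0, nat_lit 3, nat_lit 0]) (.node (nat_lit 47) (.leaf [nat_lit 2, nat_lit 0, nat_lit 3, nat_lit 1]) (.leaf [nat_lit 2, nat_lit 4, nat_lit 5, nat_lit 4, nat_lit 3, nat_lit 4, nat_lit 1, nat_lit 2])))
 (.node (nat_lit 50) (.node (nat_lit 49) (.leaf [nat_lit 1, nat_lit 3, nat_lit 1, nat_lit 6, nat_lit 1, nat_lit 5, nat_lit 1, nat_lit 3, nat_lit 4, nat_lit 3, nat_lit 1, nat_lit 2, nat_lit 0]) (.leaf [nat_lit 1, nat_lit 5, nat_lit 6, nat_lit 2, nat_lit 5, nat_lit 4, nat_lit 2, nat_lit 4, nat_lit 3, nat_lit 2])) (.node (nat_lit 51) (.leaf [nat_lit 5, nat_lit 1, nat_lit 6, nat_lit 2, nat_lit 0, nat_lit 5, nat_lit 4, nat_lit 3, nat_lit 0, nat_lit 4, nat_lit 0]) (.leaf [nat_lit 3, nat_lit 4, nat_lit 5, nat_lit 3, nat_lit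 4, nat_lit 1, nat_lit 3, nat_lit 1, nat_lit 2]))))
 (.node (nat_lit 56) (.node (nat_lit 54) (.node (nat_lit 53) (.leaf [nat_lit 6, nat_lit 3, nat_lit 2, nat_lit 0, nat_lit 5, nat_lit 1, nat_lit 4, nat_lit 2, nat_lit 1]) (.leaf [nat_lit 3, nat_lit 4, nat_lit 5, nat_lit 1, nat_lit 4, nat_lit 2, nat_lit 4, nat_lit 1, nat_lit 3, nat_lit 1, nat_lit 2])) (.node (nat_lit 55) (.leaf [nat_lit 1, nat_lit 6, nat_lit 1, nat_lit 5, nat_lit 2, nat_lit 4, nat_lit 3, nat_lit 1]) (.leaf [nat_lit 0, nat_lit 2, nat_lit 1, nat_lit 5, nat_lit 3, nat_lit 1, nat_lit 4, nat_lit 3, nat_lit 2, nat_lit 0])))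
 (.node (nat_lit 58) (.node (nat_lit 57) (.leaf [nat_lit 6, nat_lit 3, nat_lit 6, nat_lit 2, nat_lit 4, nat_lit 5, nat_lit 3, nat_lit 1, nat_lit 4, nat_lit 0, nat_lit 3, nat_lit 0]) (.leaf [nat_lit 1, nat_lit 3, nat_lit 6, nat_lit 1, nat_lit 4, nat_lit 1, nat_lit 5, nat_lit 3, nat_lit 1, nat_lit 2, nat_lit 4, nat_lit 1, nat_lit 3, nat_lit 2])) (.node (nat_lit 59) (.leaf [nat_lit 1, nat_lit 3, nat_lit 1, nat_lit 6, nat_lit 4, nat_lit 1, nat_lit 5, nat_lit 0, nat_lit 4, nat_lit 0]) (.leaf [nat_lit 1, nat_lit 5, nat_lit 6, nat_lit 3, nat_lit 0, nat_lit 5, nat_lit 2, nat_lit 0, nat_lit 4, nat_lit 3, nat_lit 0, nat_lit 2, nat_lit 1])))))))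
theorem crw_0 : cR.all2 (fun c w => isProd 24 (nat_lit 5) (nat_lit 31) aT c w) crE = true := by decide +kernel
theorem crw : cR.all2 (fun c w => isProd 24 (nat_lit 5) (nat_lit 31) aT c w) crE = true := crw_0
noncomputable def cW : Tr (ℕ × List ℕ) := (.node (nat_lit 120) (.node (nat_lit 60) (.node (nat_lit 30) (.node (nat_lit 15) (.node (nat_lit 7) (.node (nat_lit 3) (.node (nat_lit 1) (.leaf ((nat_lit 1), [])) (.node (nat_lit 2) (.leaf ((nat_lit 2), [])) (.leaf ((nat_lit 3), []))))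
 (.node (nat_lit 5) (.node (nat_lit 4) (.leaf ((nat_lit 4), [])) (.leaf ((nat_lit 0), []))) (.node (nat_lit 6) (.leaf ((nat_lit 5), [])) (.leaf ((nat_lit 6), [])))))
 (.node (nat_lit 11) (.node (nat_lit 9) (.node (nat_lit 8) (.leaf ((nat_lit 7), [])) (.leaf ((nat_lit 8), []))) (.node (nat_lit 10) (.leaf ((nat_lit 0), [])) (.leaf ((nat_lit 9), []))))
 (.node (nat_lit 13) (.node (nat_lit 12) (.leaf ((nat_lit 10), [])) (.leaf ((nat_lit 11), []))) (.node (nat_lit 14) (.leaf ((nat_lit 12), [])) (.leaf ((nat_lit 0), []))))))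
 (.node (nat_lit 22) (.node (nat_lit 18) (.node (nat_lit 16) (.leaf ((nat_lit 13), [])) (.node (nat_lit 17) (.leaf ((nat_lit 9), [nat_lit 1, nat_lit 1, nat_lit 1])) (.leaf ((nat_lit 14), []))))
 (.node (nat_lit 20) (.node (nat_lit 19) (.leaf ((nat_lit 15), [])) (.leaf ((nat_lit 0), []))) (.node (nat_lit 21) (.leaf ((nat_lit 16), [])) (.leaf ((nat_lit 1), [])))))
 (.node (nat_lit 26) (.node (nat_lit 24) (.node (nat_lit 23) (.leaf ((nat_lit 17), [])) (.leaf ((nat_lit 8), [nat_lit 1]))) (.node (nat_lit 25) (.leaf ((nat_lit 18), [])) (.leaf ((nat_lit 19), []))))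
 (.node (nat_lit 28) (.node (nat_lit 27) (.leaf ((nat_lit 1), [])) (.leaf ((nat_lit 20), []))) (.node (nat_lit 29) (.leaf ((nat_lit 21), [])) (.leaf ((nat_lit 22), [])))))))
 (.node (nat_lit 45) (.node (nat_lit 37) (.node (nat_lit 33) (.node (nat_lit 31) (.leaf ((nat_lit 23), [])) (.node (nat_lit 32) (.leaf ((nat_lit 1), [])) (.leaf ((nat_lit 2), []))))
 (.node (nat_lit 35) (.node (nat_lit 34) (.leaf ((nat_lit 24), [])) (.leaf ((nat_lit 25), []))) (.node (nat_lit 36) (.leaf ((nat_lit 5), [nat_lit 0])) (.leaf ((nat_lit 4), [nat_lit 0, nat_lit 0, nat_lit 0])))))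
 (.node (nat_lit 41) (.node (nat_lit 39) (.node (nat_lit 38) (.leaf ((nat_lit 26), [])) (.leaf ((nat_lit 2), []))) (.node (nat_lit 40) (.leaf ((nat_lit 15), [nat_lit 1, nat_lit 1, nat_lit 1, nat_lit 1, nat_lit 1])) (.leaf ((nat_lit 27), []))))
 (.node (nat_lit 43) (.node (nat_lit 42) (.leaf ((nat_lit 28), [])) (.leaf ((nat_lit 18), [nat_lit 0]))) (.node (nat_lit 44) (.leaf ((nat_lit 2), [])) (.leaf ((nat_lit 3), []))))))
 (.node (nat_lit 52) (.node (nat_lit 48) (.node (nat_lit 46) (.leaf ((nat_lit 29), [])) (.node (nat_lit 47) (.leaf ((nat_lit 30), [])) (.leaf ((nat_lit 31), []))))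
 (.node (nat_lit 50) (.node (nat_lit 49) (.leaf ((nat_lit 32), [])) (.leaf ((nat_lit 3), []))) (.node (nat_lit 51) (.leaf ((nat_lit 26), [])) (.leaf ((nat_lit 25), [nat_lit 1, nat_lit 1])))))
 (.node (nat_lit 56) (.node (nat_lit 54) (.node (nat_lit 53) (.leaf ((nat_lit 33), [])) (.leaf ((nat_lit 23), [nat_lit 1, nat_lit 1, nat_lit 1, nat_lit 1]))) (.node (nat_lit 55) (.leaf ((nat_lit 34), [])) (.leaf ((nat_lit 3), []))))
 (.node (nat_lit 58) (.node (nat_lit 57) (.leaf ((nat_lit 35), [])) (.leaf ((nat_lit 4), []))) (.node (nat_lit 59) (.leaf ((nat_lit 29), [nat_lit 1, nat_lit 1, nat_lit 1])) (.leaf ((nat_lit 36), []))))))))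
 (.node (nat_lit 90) (.node (nat_lit 75) (.node (nat_lit 67) (.node (nat_lit 63) (.node (nat_lit 61) (.leaf ((nat_lit 37), [])) (.node (nat_lit 62) (.leaf ((nat_lit 30), [nat_lit 1, nat_lit 1, nat_lit 1])) (.leaf ((nat_lit 4), []))))
 (.node (nat_lit 65) (.node (nat_lit 64) (.leaf ((nat_lit 9), [nat_lit 0, nat_lit 0, nat_lit 0, nat_lit 0, nat_lit 0])) (.leaf ((nat_lit 5), []))) (.node (nat_lit 66) (.leaf ((nat_lit 31), [nat_lit 1, nat_lit 1, nat_lit 1, nat_lit 1])) (.leaf ((nat_lit 38), [])))))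
 (.node (nat_lit 71) (.node (nat_lit 69) (.node (nat_lit 68) (.leaf ((nat_lit 39), [])) (.leaf ((nat_lit 36), [nat_lit 1, nat_lit 1]))) (.node (nat_lit 70) (.leaf ((nat_lit 40), [])) (.leaf ((nat_lit 5), []))))
 (.node (nat_lit 73) (.node (nat_lit 72) (.leaf ((nat_lit 22), [nat_lit 1, nat_lit 1])) (.leaf ((nat_lit 6), []))) (.node (nat_lit 74) (.leaf ((nat_lit 41), [])) (.leaf ((nat_lit 10), [nat_lit 1]))))))
 (.node (nat_lit 82) (.node (nat_lit 78) (.node (nat_lit 76) (.leaf ((nat_lit 34), [nat_lit 0, nat_lit 0, nat_lit 0, nat_lit 0, nat_lit 0])) (.node (nat_lit 77) (.leaf ((nat_lit 42), [])) (.leaf ((nat_lit 6), []))))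
 (.node (nat_lit 80) (.node (nat_lit 79) (.leaf ((nat_lit 40), [])) (.leaf ((nat_lit 33), []))) (.node (nat_lit 81) (.leaf ((nat_lit 25), [nat_lit 1, nat_lit 1])) (.leaf ((nat_lit 43), [])))))
 (.node (nat_lit 86) (.node (nat_lit 84) (.node (nat_lit 83) (.leaf ((nat_lit 44), [])) (.leaf ((nat_lit 6), []))) (.node (nat_lit 85) (.leaf ((nat_lit 7), [])) (.leaf ((nat_lit 42), [nat_lit 1, nat_lit 1, nat_lit 1]))))
 (.node (nat_lit 88) (.node (nat_lit 87) (.leaf ((nat_lit 31), [nat_lit 0, nat_lit 0, nat_lit 0, nat_lit 0])) (.leaf ((nat_lit 28), [nat_lit 1]))) (.node (nat_lit 89) (.leaf ((nat_lit 44), [nat_lit 1])) (.leaf ((nat_lit 7), [])))))))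
 (.node (nat_lit 105) (.node (nat_lit 97) (.node (nat_lit 93) (.node (nat_lit 91) (.leaf ((nat_lit 37), [])) (.node (nat_lit 92) (.leaf ((nat_lit 17), [nat_lit 0, nat_lit 0])) (.leaf ((nat_lit 29), [nat_lit 1, nat_lit 1, nat_lit 1]))))
 (.node (nat_lit 95) (.node (nat_lit 94) (.leaf ((nat_lit 13), [nat_lit 0, nat_lit 0, nat_lit 0, nat_lit 0])) (.leaf ((nat_lit 7), []))) (.node (nat_lit 96) (.leaf ((nat_lit 41), [nat_lit 1, nat_lit 1, nat_lit 1, nat_lit 1])) (.leaf ((nat_lit 45), [])))))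
 (.node (nat_lit 101) (.node (nat_lit 99) (.node (nat_lit 98) (.leaf ((nat_lit 8), [])) (.leaf ((nat_lit 46), []))) (.node (nat_lit 100) (.leaf ((nat_lit 47), [])) (.leaf ((nat_lit 20), [nat_lit 0, nat_lit 0]))))
 (.node (nat_lit 103) (.node (nat_lit 102) (.leaf ((nat_lit 48), [])) (.leaf ((nat_lit 8), []))) (.node (nat_lit 104) (.leaf ((nat_lit 12), [nat_lit 0, nat_lit 0])) (.leaf ((nat_lit 40), []))))))
 (.node (nat_lit 112) (.node (nat_lit 108) (.node (nat_lit 106) (.leaf ((nat_lit 9), [])) (.node (nat_lit 107) (.leaf ((nat_lit 12), [])) (.leaf ((nat_lit 32), [nat_lit 0, nat_lit 0]))))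
 (.node (nat_lit 110) (.node (nat_lit 109) (.leaf ((nat_lit 10), [])) (.leaf ((nat_lit 49), []))) (.node (nat_lit 111) (.leaf ((nat_lit 50), [])) (.leaf ((nat_lit 30), [])))))
 (.node (nat_lit 116) (.node (nat_lit 114) (.node (nat_lit 113) (.leaf ((nat_lit 43), [nat_lit 0, nat_lit 0, nat_lit 0])) (.leaf ((nat_lit 10), []))) (.node (nat_lit 115) (.leaf ((nat_lit 36), [nat_lit 1])) (.leaf ((nat_lit 21), [nat_lit 0]))))
 (.node (nat_lit 118) (.node (nat_lit 117) (.leaf ((nat_lit 23), [nat_lit 0, nat_lit 0, nat_lit 0])) (.leaf ((nat_lit 11), []))) (.node (nat_lit 119) (.leaf ((nat_lit 14), [nat_lit 0, nat_lit 0, nat_lit 0])) (.leaf ((nat_lit 50), [nat_lit 1, nat_lit 1])))))))))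
 (.node (nat_lit 180) (.node (nat_lit 150) (.node (nat_lit 135) (.node (nat_lit 127) (.node (nat_lit 123) (.node (nat_lit 121) (.leaf ((nat_lit 50), [nat_lit 1])) (.node (nat_lit 122) (.leaf ((nat_lit 15), [nat_lit 0, nat_lit 0, nat_lit 0])) (.leaf ((nat_lit 11), []))))
 (.node (nat_lit 125) (.node (nat_lit 124) (.leaf ((nat_lit 27), [])) (.leaf ((nat_lit 51), []))) (.node (nat_lit 126) (.leaf ((nat_lit 16), [nat_lit 0, nat_lit 0, nat_lit 0, nat_lit 0])) (.leaf ((nat_lit 21), [nat_lit 1, nat_lit 1, nat_lit 1, nat_lit 1])))))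
 (.node (nat_lit 131) (.node (nat_lit 129) (.node (nat_lit 128) (.leaf ((nat_lit 11), [])) (.leaf ((nat_lit 12), []))) (.node (nat_lit 130) (.leaf ((nat_lit 46), [])) (.leaf ((nat_lit 48), []))))
 (.node (nat_lit 133) (.node (nat_lit 132) (.leaf ((nat_lit 26), [nat_lit 1, nat_lit 1])) (.leaf ((nat_lit 13), []))) (.node (nat_lit 134) (.leaf ((nat_lit 52), [])) (.leaf ((nat_lit 43), [nat_lit 1, nat_lit 1, nat_lit 1, nat_lit 1, nat_lit 1]))))))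
 (.node (nat_lit 142) (.node (nat_lit 138) (.node (nat_lit 136) (.leaf ((nat_lit 19), [])) (.node (nat_lit 137) (.leaf ((nat_lit 38), [nat_lit 0, nat_lit 0, nat_lit 0, nat_lit 0])) (.leaf ((nat_lit 37), [nat_lit 1, nat_lit 1, nat_lit 1, nat_lit 1]))))
 (.node (nat_lit 140) (.node (nat_lit 139) (.leaf ((nat_lit 13), [])) (.leaf ((nat_lit 18), [nat_lit 1, nat_lit 1, nat_lit 1, nat_lit 1, nat_lit 1]))) (.node (nat_lit 141) (.leaf ((nat_lit 14), [])) (.leaf ((nat_lit 53), [])))))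
 (.node (nat_lit 146) (.node (nat_lit 144) (.node (nat_lit 143) (.leaf ((nat_lit 49), [nat_lit 1, nat_lit 1, nat_lit 1, nat_lit 1])) (.leaf ((nat_lit 52), [nat_lit 1, nat_lit 1]))) (.node (nat_lit 145) (.leaf ((nat_lit 17), [nat_lit 0, nat_lit 0])) (.leaf ((nat_lit 54), []))))
 (.node (nat_lit 148) (.node (nat_lit 147) (.leaf ((nat_lit 28), [nat_lit 0])) (.leaf ((nat_lit 14), []))) (.node (nat_lit 149) (.leaf ((nat_lit 15), [])) (.leaf ((nat_lit 34), [nat_lit 0, nat_lit 0, nat_lit 0, nat_lit 0])))))))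
 (.node (nat_lit 165) (.node (nat_lit 157) (.node (nat_lit 153) (.node (nat_lit 151) (.leaf ((nat_lit 22), [])) (.node (nat_lit 152) (.leaf ((nat_lit 48), [nat_lit 0, nat_lit 0, nat_lit 0, nat_lit 0, nat_lit 0])) (.leaf ((nat_lit 34), [nat_lit 1, nat_lit 1, nat_lit 1, nat_lit 1]))))
 (.node (nat_lit 155) (.node (nat_lit 154) (.leaf ((nat_lit 55), [])) (.leaf ((nat_lit 16), []))) (.node (nat_lit 156) (.leaf ((nat_lit 56), [])) (.leaf ((nat_lit 41), [nat_lit 1])))))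
 (.node (nat_lit 161) (.node (nat_lit 159) (.node (nat_lit 158) (.leaf ((nat_lit 44), [nat_lit 0])) (.leaf ((nat_lit 52), [nat_lit 1, nat_lit 1, nat_lit 1, nat_lit 1, nat_lit 1]))) (.node (nat_lit 160) (.leaf ((nat_lit 16), [])) (.leaf ((nat_lit 26), []))))
 (.node (nat_lit 163) (.node (nat_lit 162) (.leaf ((nat_lit 17), [])) (.leaf ((nat_lit 19), []))) (.node (nat_lit 164) (.leaf ((nat_lit 57), [])) (.leaf ((nat_lit 39), [nat_lit 0]))))))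
 (.node (nat_lit 172) (.node (nat_lit 168) (.node (nat_lit 166) (.leaf ((nat_lit 18), [])) (.node (nat_lit 167) (.leaf ((nat_lit 54), [nat_lit 1, nat_lit 1])) (.leaf ((nat_lit 23), [nat_lit 0, nat_lit 0, nat_lit 0, nat_lit 0]))))
 (.node (nat_lit 170) (.node (nat_lit 169) (.leaf ((nat_lit 19), [])) (.leaf ((nat_lit 21), [nat_lit 0, nat_lit 0, nat_lit 0]))) (.node (nat_lit 171) (.leaf ((nat_lit 55), [])) (.leaf ((nat_lit 54), [nat_lit 0, nat_lit 0])))))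
 (.node (nat_lit 176) (.node (nat_lit 174) (.node (nat_lit 173) (.leaf ((nat_lit 28), [nat_lit 1, nat_lit 1, nat_lit 1])) (.leaf ((nat_lit 20), []))) (.node (nat_lit 175) (.leaf ((nat_lit 33), [nat_lit 0, nat_lit 0, nat_lit 0, nat_lit 0, nat_lit 0])) (.leaf ((nat_lit 58), []))))
 (.node (nat_lit 178) (.node (nat_lit 177) (.leaf ((nat_lit 22), [nat_lit 0])) (.leaf ((nat_lit 39), [nat_lit 1]))) (.node (nat_lit 179) (.leaf ((nat_lit 20), [])) (.leaf ((nat_lit 55), [nat_lit 0, nat_lit 0, nat_lit 0]))))))))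
 (.node (nat_lit 210) (.node (nat_lit 195) (.node (nat_lit 187) (.node (nat_lit 183) (.node (nat_lit 181) (.leaf ((nat_lit 24), [])) (.node (nat_lit 182) (.leaf ((nat_lit 51), [nat_lit 1, nat_lit 1, nat_lit 1, nat_lit 1])) (.leaf ((nat_lit 57), [nat_lit 1, nat_lit 1]))))
 (.node (nat_lit 185) (.node (nat_lit 184) (.leaf ((nat_lit 46), [nat_lit 0, nat_lit 0, nat_lit 0, nat_lit 0, nat_lit 0])) (.leaf ((nat_lit 52), [nat_lit 1, nat_lit 1, nat_lit 1, nat_lit 1]))) (.node (nat_lit 186) (.leaf ((nat_lit 32), [])) (.leaf ((nat_lit 24), [])))))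
 (.node (nat_lit 191) (.node (nat_lit 189) (.node (nat_lit 188) (.leaf ((nat_lit 45), [nat_lit 1, nat_lit 1, nat_lit 1, nat_lit 1, nat_lit 1])) (.leaf ((nat_lit 55), [nat_lit 0, nat_lit 0, nat_lit 0, nat_lit 0, nat_lit 0]))) (.node (nat_lit 190) (.leaf ((nat_lit 57), [nat_lit 0, nat_lit 0, nat_lit 0])) (.leaf ((nat_lit 58), [nat_lit 1]))))
 (.node (nat_lit 193) (.node (nat_lit 192) (.leaf ((nat_lit 24), [])) (.leaf ((nat_lit 58), [nat_lit 0, nat_lit 0, nat_lit 0, nat_lit 0, nat_lit 0]))) (.node (nat_lit 194) (.leaf ((nat_lit 25), [])) (.leaf ((nat_lit 32), []))))))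
 (.node (nat_lit 202) (.node (nat_lit 198) (.node (nat_lit 196) (.leaf ((nat_lit 37), [nat_lit 1, nat_lit 1, nat_lit 1, nat_lit 1, nat_lit 1])) (.node (nat_lit 197) (.leaf ((nat_lit 59), [])) (.leaf ((nat_lit 27), []))))
 (.node (nat_lit 200) (.node (nat_lit 199) (.leaf ((nat_lit 35), [nat_lit 0, nat_lit 0, nat_lit 0, nat_lit 0])) (.leaf ((nat_lit 51), [nat_lit 0]))) (.node (nat_lit 201) (.leaf ((nat_lit 30), [nat_lit 0])) (.leaf ((nat_lit 56), [nat_lit 1])))))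
 (.node (nat_lit 206) (.node (nat_lit 204) (.node (nat_lit 203) (.leaf ((nat_lit 27), [])) (.leaf ((nat_lit 29), [nat_lit 0, nat_lit 0]))) (.node (nat_lit 205) (.leaf ((nat_lit 31), [])) (.leaf ((nat_lit 45), [nat_lit 0, nat_lit 0, nat_lit 0, nat_lit 0]))))
 (.node (nat_lit 208) (.node (nat_lit 207) (.leaf ((nat_lit 59), [nat_lit 0, nat_lit 0, nat_lit 0])) (.leaf ((nat_lit 49), [nat_lit 1]))) (.node (nat_lit 209) (.leaf ((nat_lit 46), [nat_lit 0, nat_lit 0, nat_lit 0, nat_lit 0])) (.leaf ((nat_lit 33), [])))))))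
 (.node (nat_lit 225) (.node (nat_lit 217) (.node (nat_lit 213) (.node (nat_lit 211) (.leaf ((nat_lit 39), [nat_lit 0, nat_lit 0, nat_lit 0, nat_lit 0, nat_lit 0])) (.node (nat_lit 212) (.leaf ((nat_lit 35), [nat_lit 0, nat_lit 0])) (.leaf ((nat_lit 54), [nat_lit 1, nat_lit 1, nat_lit 1, nat_lit 1, nat_lit 1]))))
 (.node (nat_lit 215) (.node (nat_lit 214) (.leaf ((nat_lit 35), [])) (.leaf ((nat_lit 56), [nat_lit 1, nat_lit 1, nat_lit 1, nat_lit 1, nat_lit 1]))) (.node (nat_lit 216) (.leaf ((nat_lit 59), [nat_lit 0, nat_lit 0, nat_lit 0])) (.leaf ((nat_lit 53), [nat_lit 0, nat_lit 0, nat_lit 0, nat_lit 0, nat_lit 0])))))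
 (.node (nat_lit 221) (.node (nat_lit 219) (.node (nat_lit 218) (.leaf ((nat_lit 36), [])) (.leaf ((nat_lit 41), [nat_lit 0, nat_lit 0]))) (.node (nat_lit 220) (.leaf ((nat_lit 42), [nat_lit 1, nat_lit 1])) (.leaf ((nat_lit 47), [nat_lit 1, nat_lit 1, nat_lit 1, nat_lit 1, nat_lit 1]))))
 (.node (nat_lit 223) (.node (nat_lit 222) (.leaf ((nat_lit 38), [])) (.leaf ((nat_lit 42), []))) (.node (nat_lit 224) (.leaf ((nat_lit 44), [nat_lit 1, nat_lit 1, nat_lit 1])) (.leaf ((nat_lit 57), []))))))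
 (.node (nat_lit 232) (.node (nat_lit 228) (.node (nat_lit 226) (.leaf ((nat_lit 50), [nat_lit 0])) (.node (nat_lit 227) (.leaf ((nat_lit 53), [nat_lit 0, nat_lit 0, nat_lit 0, nat_lit 0, nat_lit 0])) (.leaf ((nat_lit 38), []))))
 (.node (nat_lit 230) (.node (nat_lit 229) (.leaf ((nat_lit 56), [])) (.leaf ((nat_lit 47), [nat_lit 1, nat_lit 1, nat_lit 1]))) (.node (nat_lit 231) (.leaf ((nat_lit 45), [nat_lit 0, nat_lit 0])) (.leaf ((nat_lit 40), [])))))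
 (.node (nat_lit 236) (.node (nat_lit 234) (.node (nat_lit 233) (.leaf ((nat_lit 48), [nat_lit 1, nat_lit 1, nat_lit 1, nat_lit 1, nat_lit 1])) (.leaf ((nat_lit 59), [nat_lit 0, nat_lit 0, nat_lit 0, nat_lit 0, nat_lit 0]))) (.node (nat_lit 235) (.leaf ((nat_lit 47), [nat_lit 0])) (.leaf ((nat_lit 43), []))))
 (.node (nat_lit 238) (.node (nat_lit 237) (.leaf ((nat_lit 49), [])) (.leaf ((nat_lit 58), [nat_lit 1, nat_lit 1, nat_lit 1, nat_lit 1, nat_lit 1]))) (.node (nat_lit 239) (.leaf ((nat_lit 51), [nat_lit 1, nat_lit 1, nat_lit 1])) (.leaf ((nat_lit 53), [nat_lit 1, nat_lit 1, nat_lit 1]))))))))))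
theorem cc : allR 0 60 (cosChk (nat_lit 5) (nat_lit 31) (aL.map Lev.b) mT nT cR (topN mL) 60 cW) = true := by decide +kernel
noncomputable def eCE_0 : Tr (ℕ × List ℕ × List (List ℕ)) := (.node (nat_lit 105) (.node (nat_lit 52) (.node (nat_lit 26) (.node (nat_lit 13) (.node (nat_lit 6) (.node (nat_lit 3) (.node (nat_lit 1) (.leaf ((nat_lit 0), [], [])) (.node (nat_lit 2) (.leaf ((nat_lit 0), [nat_lit 0], [])) (.leaf ((nat_lit 0), [nat_lit 1], [])))) (.node (nat_lit 4) (.leaf ((nat_lit 0), [nat_lit 2], [])) (.node (nat_lit 5) (.leaf ((nat_lit 0), [nat_lit 3], [])) (.leaf ((nat_lit 0), [nat_lit 1, nat_lit 0], [])))))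
 (.node (nat_lit 9) (.node (nat_lit 7) (.leaf ((nat_lit 0), [nat_lit 2, nat_lit 0], [])) (.node (nat_lit 8) (.leaf ((nat_lit 0), [nat_lit 3, nat_lit 0], [])) (.leaf ((nat_lit 0), [nat_lit 0, nat_lit 1], []))))
 (.node (nat_lit 11) (.node (nat_lit 10) (.leaf ((nat_lit 0), [nat_lit 2, nat_lit 1], [])) (.leaf ((nat_lit 0), [nat_lit 3, nat_lit 1], []))) (.node (nat_lit 12) (.leaf ((nat_lit 0), [nat_lit 0, nat_lit 2], [])) (.leaf ((nat_lit 0), [nat_lit 1, nat_lit 2], []))))))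
 (.node (nat_lit 19) (.node (nat_lit 16) (.node (nat_lit 14) (.leaf ((nat_lit 0), [nat_lit 3, nat_lit 2], [])) (.node (nat_lit 15) (.leaf ((nat_lit 0), [nat_lit 1, nat_lit 3], [])) (.leaf ((nat_lit 0), [nat_lit 2, nat_lit 3], [])))) (.node (nat_lit 17) (.leaf ((nat_lit 0), [nat_lit 0, nat_lit 1, nat_lit 0], [])) (.node (nat_lit 18) (.leaf ((nat_lit 0), [nat_lit 2, nat_lit 1, nat_lit 0], [])) (.leaf ((nat_lit 0), [nat_lit 0, nat_lit 2, nat_lit 0], [])))))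
 (.node (nat_lit 22) (.node (nat_lit 20) (.leaf ((nat_lit 0), [nat_lit 1, nat_lit 2, nat_lit 0], [])) (.node (nat_lit 21) (.leaf ((nat_lit 0), [nat_lit 3, nat_lit 2, nat_lit 0], [])) (.leaf ((nat_lit 0), [nat_lit 3, nat_lit 2, nat_lit 0, nat_lit 2, nat_lit 1, nat_lit 0], []))))
 (.node (nat_lit 24) (.node (nat_lit 23) (.leaf ((nat_lit 0), [nat_lit 1, nat_lit 3, nat_lit 0], [])) (.leaf ((nat_lit 0), [nat_lit 2, nat_lit 3, nat_lit 0], []))) (.node (nat_lit 25) (.leaf ((nat_lit 0), [nat_lit 1, nat_lit 0, nat_lit 1], [])) (.leaf ((nat_lit 0), [nat_lit 2, nat_lit 0, nat_lit 1], [])))))))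
 (.node (nat_lit 39) (.node (nat_lit 32) (.node (nat_lit 29) (.node (nat_lit 27) (.leaf ((nat_lit 0), [nat_lit 1, nat_lit 2, nat_lit 1], [])) (.node (nat_lit 28) (.leaf ((nat_lit 0), [nat_lit 3, nat_lit 2, nat_lit 0, nat_lit 2], [])) (.leaf ((nat_lit 0), [nat_lit 1, nat_lit 3, nat_lit 1], [])))) (.node (nat_lit 30) (.leaf ((nat_lit 0), [nat_lit 1, nat_lit 0, nat_lit 2], [])) (.node (nat_lit 31) (.leaf ((nat_lit 0), [nat_lit 2, nat_lit 0, nat_lit 2], [])) (.leaf ((nat_lit 0), [nat_lit 3, nat_lit 0, nat_lit 2], [])))))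
 (.node (nat_lit 35) (.node (nat_lit 33) (.leaf ((nat_lit 0), [nat_lit 1, nat_lit 2, nat_lit 1, nat_lit 0, nat_lit 1], [])) (.node (nat_lit 34) (.leaf ((nat_lit 0), [nat_lit 3, nat_lit 1, nat_lit 2, nat_lit 0], [])) (.leaf ((nat_lit 0), [nat_lit 2, nat_lit 3, nat_lit 2], []))))
 (.node (nat_lit 37) (.node (nat_lit 36) (.leaf ((nat_lit 0), [nat_lit 0, nat_lit 1, nat_lit 3], [])) (.leaf ((nat_lit 0), [nat_lit 3, nat_lit 1, nat_lit 3], []))) (.node (nat_lit 38) (.leaf ((nat_lit 0), [nat_lit 2, nat_lit 1, nat_lit 3, nat_lit 0], [])) (.leaf ((nat_lit 0), [nat_lit 2, nat_lit 0, nat_lit 1, nat_lit 0], []))))))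
 (.node (nat_lit 45) (.node (nat_lit 42) (.node (nat_lit 40) (.leaf ((nat_lit 0), [nat_lit 3, nat_lit 0, nat_lit 1, nat_lit 0], [])) (.node (nat_lit 41) (.leaf ((nat_lit 0), [nat_lit 1, nat_lit 2, nat_lit 1, nat_lit 0], [])) (.leaf ((nat_lit 0), [nat_lit 1, nat_lit 0, nat_lit 2, nat_lit 0], [])))) (.node (nat_lit 43) (.leaf ((nat_lit 0), [nat_lit 1, nat_lit 2, nat_lit 1, nat_lit 0, nat_lit 1, nat_lit 0], [])) (.node (nat_lit 44) (.leaf ((nat_lit 0), [nat_lit 1, nat_lit 3, nat_lit 2, nat_lit 0], [])) (.leaf ((nat_lit 0), [nat_lit 2, nat_lit 3, nat_lit 2, nat_lit 0], [])))))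
 (.node (nat_lit 48) (.node (nat_lit 46) (.leaf ((nat_lit 0), [nat_lit 0, nat_lit 1, nat_lit 0, nat_lit 1], [])) (.node (nat_lit 47) (.leaf ((nat_lit 0), [nat_lit 2, nat_lit 1, nat_lit 0, nat_lit 1], [])) (.leaf ((nat_lit 0), [nat_lit 3, nat_lit 1, nat_lit 0, nat_lit 1], []))))
 (.node (nat_lit 50) (.node (nat_lit 49) (.leaf ((nat_lit 0), [nat_lit 1, nat_lit 2, nat_lit 0, nat_lit 1], [])) (.leaf ((nat_lit 0), [nat_lit 1, nat_lit 3, nat_lit 2, nat_lit 0, nat_lit 2], []))) (.node (nat_lit 51) (.leaf ((nat_lit 0), [nat_lit 2, nat_lit 3, nat_lit 2, nat_lit 0, nat_lit 2], [])) (.leaf ((nat_lit 0), [nat_lit 3, nat_lit 0, nat_lit 2, nat_lit 0, nat_lit 1, nat_lit 0, nat_lit 1, nat_lit 0], []))))))))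
 (.node (nat_lit 78) (.node (nat_lit 65) (.node (nat_lit 58) (.node (nat_lit 55) (.node (nat_lit 53) (.leaf ((nat_lit 0), [nat_lit 1, nat_lit 3, nat_lit 1, nat_lit 2, nat_lit 0], [])) (.node (nat_lit 54) (.leaf ((nat_lit 0), [nat_lit 3, nat_lit 2, nat_lit 3, nat_lit 0, nat_lit 2, nat_lit 0, nat_lit 1, nat_lit 0, nat_lit 1, nat_lit 0], [])) (.leaf ((nat_lit 0), [nat_lit 2, nat_lit 1, nat_lit 3, nat_lit 0, nat_lit 2, nat_lit 0, nat_lit 1, nat_lit 0], [])))) (.node (nat_lit 56) (.leaf ((nat_lit 0), [nat_lit 1, nat_lit 2, nat_lit 0, nat_lit 1, nat_lit 0], [])) (.node (nat_lit 57) (.leaf ((nat_lit 0), [nat_lit 3, nat_lit 2, nat_lit 0, nat_lit 1, nat_lit 0], [])) (.leaf ((nat_lit 0), [nat_lit 3, nat_lit 1, nat_lit 2, nat_lit 1, nat_lit 0], [])))))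
 (.node (nat_lit 61) (.node (nat_lit 59) (.leaf ((nat_lit 0), [nat_lit 3, nat_lit 1, nat_lit 3, nat_lit 2, nat_lit 0], [])) (.node (nat_lit 60) (.leaf ((nat_lit 0), [nat_lit 0, nat_lit 1, nat_lit 3, nat_lit 2, nat_lit 0, nat_lit 2], [])) (.leaf ((nat_lit 1), [nat_lit 0, nat_lit 2, nat_lit 5, nat_lit 2, nat_lit 1], [[nat_lit 99, nat_lit 1]]))))
 (.node (nat_lit 63) (.node (nat_lit 62) (.leaf ((nat_lit 1), [nat_lit 1, nat_lit 4, nat_lit 3, nat_lit 4, nat_lit 0], [[nat_lit 99, nat_lit 1]])) (.leaf ((nat_lit 1), [nat_lit 4, nat_lit 5, nat_lit 0, nat_lit 6, nat_lit 4, nat_lit 5], [[nat_lit 99, nat_lit 0, nat_lit 0, nat_lit 0, nat_lit 0]]))) (.node (nat_lit 64) (.leaf ((nat_lit 1), [nat_lit 5, nat_lit 6, nat_lit 2, nat_lit 0, nat_lit 6, nat_lit 4], [[nat_lit 99, nat_lit 99, nat_lit 0, nat_lit 99, nat_lit 0, nat_lit 0]])) (.leaf ((nat_lit 1), [nat_lit 2, nat_lit 4, nat_lit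 6, nat_lit 0, nat_lit 4, nat_lit 2, nat_lit 1], [[nat_lit 99, nat_lit 99, nat_lit 99]]))))))
 (.node (nat_lit 71) (.node (nat_lit 68) (.node (nat_lit 66) (.leaf ((nat_lit 1), [nat_lit 5, nat_lit 3, nat_lit 6, nat_lit 4, nat_lit 3, nat_lit 5, nat_lit 1], [[nat_lit 99, nat_lit 0, nat_lit 99, nat_lit 99, nat_lit 0, nat_lit 0]])) (.node (nat_lit 67) (.leaf ((nat_lit 1), [nat_lit 0, nat_lit 4, nat_lit 5, nat_lit 2, nat_lit 0], [[nat_lit 99]])) (.leaf ((nat_lit 1), [nat_lit 1, nat_lit 3, nat_lit 5, nat_lit 6, nat_lit 3, nat_lit 6, nat_lit 2, nat_lit 1], [[nat_lit 99, nat_lit 99, nat_lit 99]])))) (.node (nat_lit 69) (.leaf ((nat_lit 1), [nat_lit 3, nat_lit 6, nat_lit 2, nat_lit 1, nat_lit 6, nat_lit 1, nat_lit 3], [[nat_lit 99, nat_lit 0, nat_lit 0, nat_lit 0, nat_lit 0, nat_lit 0]])) (.node (nat_lit 70) (.leaf ((nat_lit 1), [nat_lit 3, nat_lit 0, nat_lit 6, nat_lit 3,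 nat_lit 5, nat_lit 2, nat_lit 0], [[nat_lit 99, nat_lit 99, nat_lit 0]])) (.leaf ((nat_lit 1), [nat_lit 6, nat_lit 2, nat_lit 6, nat_lit 2, nat_lit 5, nat_lit 3, nat_lit 5], [[nat_lit 99, nat_lit 1, nat_lit 99, nat_lit 0]])))))
 (.node (nat_lit 74) (.node (nat_lit 72) (.leaf ((nat_lit 1), [nat_lit 4, nat_lit 2, nat_lit 4, nat_lit 3, nat_lit 4, nat_lit 0], [[nat_lit 99]])) (.node (nat_lit 73) (.leaf ((nat_lit 1), [nat_lit 6, nat_lit 3, nat_lit 6, nat_lit 2, nat_lit 1, nat_lit 4, nat_lit 0], [[nat_lit 99, nat_lit 99, nat_lit 99]])) (.leaf ((nat_lit 1), [nat_lit 3, nat_lit 6, nat_lit 2, nat_lit 4, nat_lit 1, nat_lit 3, nat_lit 1], [[nat_lit 99, nat_lit 99, nat_lit 1]]))))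
 (.node (nat_lit 76) (.node (nat_lit 75) (.leaf ((nat_lit 1), [nat_lit 3, nat_lit 4, nat_lit 6, nat_lit 0, nat_lit 4, nat_lit 5, nat_lit 4], [[nat_lit 99, nat_lit 0, nat_lit 0, nat_lit 0]])) (.leaf ((nat_lit 1), [nat_lit 0, nat_lit 5, nat_lit 3, nat_lit 6, nat_lit 5, nat_lit 4, nat_lit 6, nat_lit 0], [[nat_lit 99, nat_lit 0, nat_lit 0, nat_lit 0]]))) (.node (nat_lit 77) (.leaf ((nat_lit 1), [nat_lit 4, nat_lit 5, nat_lit 3, nat_lit 2, nat_lit 6, nat_lit 0], [[nat_lit 99, nat_lit 0]])) (.leaf ((nat_lit 1), [nat_lit 1, nat_lit 5, nat_lit 3, nat_lit 2, nat_lit 5, nat_lit 1, nat_lit 6, nat_lit 0], [[nat_lit 99, nat_lit 99, nat_lit 99]])))))))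
 (.node (nat_lit 91) (.node (nat_lit 84) (.node (nat_lit 81) (.node (nat_lit 79) (.leaf ((nat_lit 1), [nat_lit 5, nat_lit 0, nat_lit 6, nat_lit 0, nat_lit 4, nat_lit 6, nat_lit 1], [[nat_lit 99, nat_lit 99, nat_lit 1]])) (.node (nat_lit 80) (.leaf ((nat_lit 1), [nat_lit 4, nat_lit 5, nat_lit 6, nat_lit 3, nat_lit 0, nat_lit 2, nat_lit 0], [[nat_lit 99, nat_lit 99, nat_lit 1]])) (.leaf ((nat_lit 1), [nat_lit 3, nat_lit 6, nat_lit 1, nat_lit 6, nat_lit 1, nat_lit 2, nat_lit 0], [[nat_lit 99, nat_lit 0, nat_lit 0, nat_lit 0]])))) (.node (nat_lit 82) (.leaf ((nat_lit 1), [nat_lit 0, nat_lit 2, nat_lit 6, nat_lit 1, nat_lit 6, nat_lit 0], [[nat_lit 99, nat_lit 99, nat_lit 0, nat_lit 0, nat_lit 0]])) (.node (nat_lit 83) (.leaf ((nat_lit 1), [nat_lit 3, nat_lit 5, nat_lit 3, nat_lit 0, nat_lit 5, nat_lit 2, nat_lit 0], [[nat_lit 99, nat_lit 1]])) (.leaf ((nat_lit 1), [nat_lit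 6, nat_lit 1, nat_lit 6, nat_lit 2, nat_lit 1, nat_lit 5, nat_lit 3], [[nat_lit 99, nat_lit 1]])))))
 (.node (nat_lit 87) (.node (nat_lit 85) (.leaf ((nat_lit 1), [nat_lit 3, nat_lit 6, nat_lit 3, nat_lit 4, nat_lit 1, nat_lit 2, nat_lit 5, nat_lit 0], [[nat_lit 99, nat_lit 99, nat_lit 1, nat_lit 1]])) (.node (nat_lit 86) (.leaf ((nat_lit 1), [nat_lit 2, nat_lit 6, nat_lit 0, nat_lit 4, nat_lit 6, nat_lit 2], [[nat_lit 99]])) (.leaf ((nat_lit 1), [nat_lit 4, nat_lit 1, nat_lit 6, nat_lit 0, nat_lit 2, nat_lit 0], [[nat_lit 99, nat_lit 1, nat_lit 1]]))))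
 (.node (nat_lit 89) (.node (nat_lit 88) (.leaf ((nat_lit 1), [nat_lit 5, nat_lit 2, nat_lit 1, nat_lit 3, nat_lit 1, nat_lit 4, nat_lit 0], [[nat_lit 99, nat_lit 99, nat_lit 1, nat_lit 99, nat_lit 0]])) (.leaf ((nat_lit 1), [nat_lit 0, nat_lit 4, nat_lit 3, nat_lit 5, nat_lit 2, nat_lit 4], [[nat_lit 99, nat_lit 99, nat_lit 0, nat_lit 99, nat_lit 0]]))) (.node (nat_lit 90) (.leaf ((nat_lit 1), [nat_lit 2, nat_lit 1, nat_lit 5, nat_lit 3, nat_lit 4, nat_lit 3, nat_lit 4], [[nat_lit 99, nat_lit 1, nat_lit 1, nat_lit 1]])) (.leaf ((nat_lit 1), [nat_lit 2, nat_lit 1, nat_lit 3, nat_lit 6, nat_lit 3, nat_lit 2], [[nat_lit 99, nat_lit 0, nat_lit 0]]))))))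
 (.node (nat_lit 98) (.node (nat_lit 94) (.node (nat_lit 92) (.leaf ((nat_lit 1), [nat_lit 1, nat_lit 3, nat_lit 6, nat_lit 4, nat_lit 2, nat_lit 4, nat_lit 1], [[nat_lit 99, nat_lit 99, nat_lit 0]])) (.node (nat_lit 93) (.leaf ((nat_lit 1), [nat_lit 3, nat_lit 6, nat_lit 3, nat_lit 0, nat_lit 2, nat_lit 4], [[nat_lit 99]])) (.leaf ((nat_lit 1), [nat_lit 6, nat_lit 4, nat_lit 5, nat_lit 6, nat_lit 1, nat_lit 4, nat_lit 1], [[nat_lit 99, nat_lit 1]]))))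
 (.node (nat_lit 96) (.node (nat_lit 95) (.leaf ((nat_lit 1), [nat_lit 0, nat_lit 2, nat_lit 6, nat_lit 3, nat_lit 2, nat_lit 6, nat_lit 5], [[nat_lit 99, nat_lit 99, nat_lit 0]])) (.leaf ((nat_lit 1), [nat_lit 5, nat_lit 0, nat_lit 6, nat_lit 5, nat_lit 1, nat_lit 3, nat_lit 4], [[nat_lit 99, nat_lit 99, nat_lit 0, nat_lit 0]]))) (.node (nat_lit 97) (.leaf ((nat_lit 1), [nat_lit 5, nat_lit 0, nat_lit 4, nat_lit 0, nat_lit 5, nat_lit 4, nat_lit 2, nat_lit 0], [[nat_lit 99, nat_lit 0, nat_lit 0]])) (.leaf ((nat_lit 1), [nat_lit 3, nat_lit 4, nat_lit 0, nat_lit 5, nat_lit 1, nat_lit 6], [[nat_lit 99, nat_lit 1]])))))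
 (.node (nat_lit 101) (.node (nat_lit 99) (.leaf ((nat_lit 1), [nat_lit 5, nat_lit 6, nat_lit 4, nat_lit 5, nat_lit 2, nat_lit 0], [[nat_lit 99, nat_lit 99, nat_lit 99]])) (.node (nat_lit 100) (.leaf ((nat_lit 1), [nat_lit 2, nat_lit 5, nat_lit 3, nat_lit 2, nat_lit 6], [[nat_lit 99, nat_lit 1, nat_lit 1]])) (.leaf ((nat_lit 1), [nat_lit 1, nat_lit 2, nat_lit 1, nat_lit 5, nat_lit 0, nat_lit 6, nat_lit 2], [[nat_lit 99]]))))
 (.node (nat_lit 103) (.node (nat_lit 102) (.leaf ((nat_lit 1), [nat_lit 1, nat_lit 2, nat_lit 6, nat_lit 2, nat_lit 6, nat_lit 5], [[nat_lit 99, nat_lit 99, nat_lit 1]])) (.leaf ((nat_lit 1), [nat_lit 1, nat_lit 2, nat_lit 4, nat_lit 6, nat_lit 1], [[nat_lit 99, nat_lit 0]]))) (.node (nat_lit 104) (.leaf ((nat_lit 1), [nat_lit 6, nat_lit 0, nat_lit 5, nat_lit 3, nat_lit 0, nat_lit 2, nat_lit 5, nat_lit 1], [[nat_lit 99, nat_lit 0, nat_lit 0,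 nat_lit 0]])) (.leaf ((nat_lit 1), [nat_lit 2, nat_lit 4, nat_lit 2, nat_lit 5, nat_lit 1], [[nat_lit 99, nat_lit 1]])))))))))
 (.node (nat_lit 157) (.node (nat_lit 131) (.node (nat_lit 118) (.node (nat_lit 111) (.node (nat_lit 108) (.node (nat_lit 106) (.leaf ((nat_lit 1), [nat_lit 2, nat_lit 5, nat_lit 4, nat_lit 3, nat_lit 1, nat_lit 2, nat_lit 1], [[nat_lit 99, nat_lit 1, nat_lit 1]])) (.node (nat_lit 107) (.leaf ((nat_lit 1), [nat_lit 2, nat_lit 5, nat_lit 6, nat_lit 0, nat_lit 6, nat_lit 2, nat_lit 0], [[nat_lit 99, nat_lit 99, nat_lit 1]])) (.leaf ((nat_lit 1), [nat_lit 3, nat_lit 5, nat_lit 6, nat_lit 4, nat_lit 1, nat_lit 6, nat_lit 2], [[nat_lit 99, nat_lit 1, nat_lit 1]])))) (.node (nat_lit 109) (.leaf ((nat_lit 1), [nat_lit 2, nat_lit 6, nat_lit 4, nat_lit 3, nat_lit 1, nat_lit 5, nat_lit 1], [[nat_lit 99, nat_lit 0, nat_lit 0]])) (.node (nat_lit 110)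 (.leaf ((nat_lit 1), [nat_lit 0, nat_lit 5, nat_lit 6, nat_lit 1, nat_lit 6, nat_lit 4], [[nat_lit 99, nat_lit 99, nat_lit 0]])) (.leaf ((nat_lit 1), [nat_lit 3, nat_lit 0, nat_lit 6, nat_lit 4, nat_lit 0, nat_lit 3, nat_lit 5], [[nat_lit 99, nat_lit 0]])))))
 (.node (nat_lit 114) (.node (nat_lit 112) (.leaf ((nat_lit 1), [nat_lit 6, nat_lit 3, nat_lit 5, nat_lit 6, nat_lit 1, nat_lit 3, nat_lit 4], [[nat_lit 99, nat_lit 0]])) (.node (nat_lit 113) (.leaf ((nat_lit 1), [nat_lit 6, nat_lit 4, nat_lit 2, nat_lit 5, nat_lit 4, nat_lit 1, nat_lit 5, nat_lit 1], [[nat_lit 99, nat_lit 99, nat_lit 99]])) (.leaf ((nat_lit 1), [nat_lit 4, nat_lit 6, nat_lit 4, nat_lit 5, nat_lit 4, nat_lit 1, nat_lit 2, nat_lit 0], [[nat_lit 99, nat_lit 99, nat_lit 99, nat_lit 1]]))))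
 (.node (nat_lit 116) (.node (nat_lit 115) (.leaf ((nat_lit 1), [nat_lit 5, nat_lit 2, nat_lit 6, nat_lit 2, nat_lit 1, nat_lit 4], [[nat_lit 99, nat_lit 99, nat_lit 0]])) (.leaf ((nat_lit 1), [nat_lit 6, nat_lit 2, nat_lit 1, nat_lit 6, nat_lit 2, nat_lit 4, nat_lit 0], [[nat_lit 99, nat_lit 0, nat_lit 0, nat_lit 0]]))) (.node (nat_lit 117) (.leaf ((nat_lit 1), [nat_lit 1, nat_lit 3, nat_lit 5, nat_lit 0, nat_lit 6, nat_lit 0, nat_lit 5, nat_lit 1], [[nat_lit 99]])) (.leaf ((nat_lit 1), [nat_lit 0, nat_lit 6, nat_lit 1, nat_lit 4, nat_lit 5, nat_lit 3, nat_lit 2, nat_lit 0], [[nat_lit 99, nat_lit 1]]))))))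
 (.node (nat_lit 124) (.node (nat_lit 121) (.node (nat_lit 119) (.leaf ((nat_lit 1), [nat_lit 6, nat_lit 3, nat_lit 6, nat_lit 1, nat_lit 6, nat_lit 0], [[nat_lit 99, nat_lit 1, nat_lit 99, nat_lit 0]])) (.node (nat_lit 120) (.leaf ((nat_lit 1), [nat_lit 0, nat_lit 2, nat_lit 4, nat_lit 2, nat_lit 5, nat_lit 4], [[nat_lit 99, nat_lit 1, nat_lit 1]])) (.leaf ((nat_lit 1), [nat_lit 0, nat_lit 2, nat_lit 5, nat_lit 2, nat_lit 1], [[nat_lit 99, nat_lit 99, nat_lit 1]])))) (.node (nat_lit 122) (.leaf ((nat_lit 1), [nat_lit 1, nat_lit 4, nat_lit 5], [[nat_lit 99, nat_lit 0]])) (.node (nat_lit 123) (.leaf ((nat_lit 1), [nat_lit 0, nat_lit 4, nat_lit 2, nat_lit 4, nat_lit 5, nat_lit 2, nat_lit 0], [[nat_lit 99, nat_lit 0]])) (.leaf ((nat_lit 1), [nat_lit 4, nat_lit 2, nat_lit 0, nat_lit 3, nat_lit 6], [[nat_lit 99, nat_lit 99, nat_lit 0, nat_lit 99, nat_lit 0, nat_lit 0]])))))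
 (.node (nat_lit 127) (.node (nat_lit 125) (.leaf ((nat_lit 1), [nat_lit 6, nat_lit 3, nat_lit 5, nat_lit 4, nat_lit 2, nat_lit 0, nat_lit 4], [[nat_lit 99]])) (.node (nat_lit 126) (.leaf ((nat_lit 1), [nat_lit 6, nat_lit 4, nat_lit 5, nat_lit 3, nat_lit 2, nat_lit 1], [[nat_lit 99, nat_lit 1, nat_lit 1, nat_lit 99, nat_lit 99, nat_lit 0, nat_lit 0]])) (.leaf ((nat_lit 1), [nat_lit 0, nat_lit 4, nat_lit 5, nat_lit 1, nat_lit 2, nat_lit 4], [[nat_lit 99, nat_lit 99, nat_lit 99]]))))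
 (.node (nat_lit 129) (.node (nat_lit 128) (.leaf ((nat_lit 1), [nat_lit 5, nat_lit 4, nat_lit 2, nat_lit 6, nat_lit 0, nat_lit 4], [[nat_lit 99, nat_lit 99, nat_lit 1]])) (.leaf ((nat_lit 1), [nat_lit 6, nat_lit 0, nat_lit 2, nat_lit 6, nat_lit 4, nat_lit 1], [[nat_lit 99, nat_lit 1, nat_lit 1]]))) (.node (nat_lit 130) (.leaf ((nat_lit 1), [nat_lit 1, nat_lit 2, nat_lit 6, nat_lit 3, nat_lit 2, nat_lit 4, nat_lit 3, nat_lit 0], [[nat_lit 99]])) (.leaf ((nat_lit 1), [nat_lit 5, nat_lit 6, nat_lit 0, nat_lit 6, nat_lit 0, nat_lit 3, nat_lit 5, nat_lit 0], [[nat_lit 99, nat_lit 99, nat_lit 99, nat_lit 0]])))))))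
 (.node (nat_lit 144) (.node (nat_lit 137) (.node (nat_lit 134) (.node (nat_lit 132) (.leaf ((nat_lit 1), [nat_lit 5, nat_lit 1, nat_lit 2, nat_lit 6, nat_lit 3], [[nat_lit 99, nat_lit 99, nat_lit 99]])) (.node (nat_lit 133) (.leaf ((nat_lit 1), [nat_lit 1, nat_lit 6, nat_lit 2, nat_lit 0, nat_lit 3, nat_lit 0], [[nat_lit 99, nat_lit 0, nat_lit 0]])) (.leaf ((nat_lit 1), [nat_lit 5, nat_lit 6, nat_lit 5, nat_lit 0, nat_lit 5, nat_lit 1], [[nat_lit 99, nat_lit 0, nat_lit 0]])))) (.node (nat_lit 135) (.leaf ((nat_lit 1), [nat_lit 0, nat_lit 5, nat_lit 3, nat_lit 6, nat_lit 1, nat_lit 6, nat_lit 1, nat_lit 4], [[nat_lit 99, nat_lit 1, nat_lit 99, nat_lit 0, nat_lit 0]])) (.node (nat_lit 136) (.leaf ((nat_lit 1), [nat_lit 5, nat_lit 3, nat_lit 6, nat_lit 5, nat_lit 2, nat_lit 6, nat_lit 4], [[nat_lit 99, nat_lit 0]])) (.leaf ((nat_lit 1), [nat_lit 2, nat_lit 5, nat_lit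 2, nat_lit 0, nat_lit 5, nat_lit 6], [[nat_lit 99, nat_lit 0, nat_lit 0]])))))
 (.node (nat_lit 140) (.node (nat_lit 138) (.leaf ((nat_lit 1), [nat_lit 4, nat_lit 6, nat_lit 2, nat_lit 5, nat_lit 1, nat_lit 2], [[nat_lit 99, nat_lit 0]])) (.node (nat_lit 139) (.leaf ((nat_lit 1), [nat_lit 6, nat_lit 4, nat_lit 0, nat_lit 5, nat_lit 3, nat_lit 4, nat_lit 1], [[nat_lit 99]])) (.leaf ((nat_lit 1), [nat_lit 5, nat_lit 3, nat_lit 2, nat_lit 4, nat_lit 2, nat_lit 6, nat_lit 2], [[nat_lit 99, nat_lit 1]]))))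
 (.node (nat_lit 142) (.node (nat_lit 141) (.leaf ((nat_lit 1), [nat_lit 3, nat_lit 0, nat_lit 6, nat_lit 4, nat_lit 1, nat_lit 5, nat_lit 1], [[nat_lit 99, nat_lit 1, nat_lit 1]])) (.leaf ((nat_lit 1), [nat_lit 6, nat_lit 5, nat_lit 0, nat_lit 4, nat_lit 5, nat_lit 3, nat_lit 6], [[nat_lit 99, nat_lit 0]]))) (.node (nat_lit 143) (.leaf ((nat_lit 1), [nat_lit 2, nat_lit 5, nat_lit 6, nat_lit 3, nat_lit 1, nat_lit 4, nat_lit 5], [[nat_lit 99, nat_lit 99, nat_lit 0]])) (.leaf ((nat_lit 1), [nat_lit 6, nat_lit 1, nat_lit 6, nat_lit 4, nat_lit 0, nat_lit 3, nat_lit 0], [[nat_lit 99, nat_lit 0, nat_lit 0, nat_lit 0]]))))))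
 (.node (nat_lit 150) (.node (nat_lit 147) (.node (nat_lit 145) (.leaf ((nat_lit 1), [nat_lit 0, nat_lit 6, nat_lit 4, nat_lit 5, nat_lit 2, nat_lit 1], [[nat_lit 99, nat_lit 99, nat_lit 0]])) (.node (nat_lit 146) (.leaf ((nat_lit 1), [nat_lit 3, nat_lit 5, nat_lit 3, nat_lit 6, nat_lit 2, nat_lit 4], [[nat_lit 99, nat_lit 1]])) (.leaf ((nat_lit 1), [nat_lit 4, nat_lit 6, nat_lit 5, nat_lit 3, nat_lit 6, nat_lit 2, nat_lit 1], [[nat_lit 99]])))) (.node (nat_lit 148) (.leaf ((nat_lit 1), [nat_lit 2, nat_lit 1, nat_lit 4, nat_lit 3, nat_lit 0], [[nat_lit 99, nat_lit 1, nat_lit 1]])) (.node (nat_lit 149) (.leaf ((nat_lit 1), [nat_lit 5, nat_lit 3, nat_lit 5, nat_lit 3, nat_lit 4, nat_lit 6], [[nat_lit 99, nat_lit 99, nat_lit 1]])) (.leaf ((nat_lit 1), [nat_lit 6, nat_lit 2, nat_lit 5, nat_lit 6, nat_lit 4, nat_lit 1], [[nat_lit 99, nat_lit 0, nat_lit 0]])))))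
 (.node (nat_lit 153) (.node (nat_lit 151) (.leaf ((nat_lit 1), [nat_lit 4, nat_lit 1, nat_lit 6, nat_lit 1, nat_lit 3, nat_lit 4, nat_lit 0], [[nat_lit 99, nat_lit 99, nat_lit 0, nat_lit 0]])) (.node (nat_lit 152) (.leaf ((nat_lit 1), [nat_lit 0, nat_lit 6, nat_lit 4, nat_lit 0, nat_lit 3, nat_lit 4, nat_lit 2], [[nat_lit 99, nat_lit 0]])) (.leaf ((nat_lit 1), [nat_lit 0, nat_lit 4, nat_lit 3, nat_lit 6, nat_lit 5, nat_lit 2, nat_lit 1], [[nat_lit 99]]))))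
 (.node (nat_lit 155) (.node (nat_lit 154) (.leaf ((nat_lit 1), [nat_lit 4, nat_lit 5, nat_lit 3, nat_lit 0, nat_lit 6, nat_lit 2, nat_lit 5, nat_lit 0], [[nat_lit 99, nat_lit 99, nat_lit 0, nat_lit 0]])) (.leaf ((nat_lit 1), [nat_lit 0, nat_lit 4, nat_lit 6, nat_lit 0, nat_lit 2, nat_lit 6], [[nat_lit 99]]))) (.node (nat_lit 156) (.leaf ((nat_lit 1), [nat_lit 0, nat_lit 6, nat_lit 1, nat_lit 3, nat_lit 2, nat_lit 0], [[nat_lit 99, nat_lit 0, nat_lit 0]])) (.leaf ((nat_lit 1), [nat_lit 1, nat_lit 2, nat_lit 5, nat_lit 4, nat_lit 3, nat_lit 6, nat_lit 0], [[nat_lit 99, nat_lit 1]]))))))))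
 (.node (nat_lit 183) (.node (nat_lit 170) (.node (nat_lit 163) (.node (nat_lit 160) (.node (nat_lit 158) (.leaf ((nat_lit 1), [nat_lit 0, nat_lit 6, nat_lit 5, nat_lit 0, nat_lit 2, nat_lit 5, nat_lit 4], [[nat_lit 99, nat_lit 0, nat_lit 0]])) (.node (nat_lit 159) (.leaf ((nat_lit 1), [nat_lit 4, nat_lit 0, nat_lit 6, nat_lit 1, nat_lit 6, nat_lit 2, nat_lit 5], [[nat_lit 99, nat_lit 1, nat_lit 1]])) (.leaf ((nat_lit 1), [nat_lit 4, nat_lit 5, nat_lit 3, nat_lit 6, nat_lit 3, nat_lit 2], [[nat_lit 99, nat_lit 99, nat_lit 99]])))) (.node (nat_lit 161) (.leaf ((nat_lit 1), [nat_lit 3, nat_lit 6, nat_lit 5, nat_lit 0, nat_lit 6, nat_lit 2, nat_lit 0], [[nat_lit 99, nat_lit 0]])) (.node (nat_lit 162) (.leaf ((nat_lit 1), [nat_lit 0, nat_lit 4, nat_lit 3, nat_lit 1, nat_lit 6, nat_lit 2, nat_lit 5], [[nat_lit 99, nat_lit 99, nat_lit 1]])) (.leaf ((nat_lit 1), [nat_lit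 0, nat_lit 4, nat_lit 1, nat_lit 5, nat_lit 6, nat_lit 3, nat_lit 1], [[nat_lit 99, nat_lit 1]])))))
 (.node (nat_lit 166) (.node (nat_lit 164) (.leaf ((nat_lit 1), [nat_lit 2, nat_lit 1, nat_lit 4, nat_lit 2], [[nat_lit 99, nat_lit 99, nat_lit 0]])) (.node (nat_lit 165) (.leaf ((nat_lit 1), [nat_lit 0, nat_lit 3, nat_lit 1, nat_lit 6, nat_lit 5, nat_lit 3], [[nat_lit 99, nat_lit 1, nat_lit 99, nat_lit 0]])) (.leaf ((nat_lit 1), [nat_lit 1, nat_lit 2, nat_lit 4, nat_lit 3, nat_lit 5, nat_lit 1], [[nat_lit 99, nat_lit 1]]))))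
 (.node (nat_lit 168) (.node (nat_lit 167) (.leaf ((nat_lit 1), [nat_lit 5, nat_lit 0, nat_lit 6, nat_lit 3, nat_lit 4, nat_lit 5, nat_lit 1], [[nat_lit 99, nat_lit 1, nat_lit 1]])) (.leaf ((nat_lit 1), [nat_lit 6, nat_lit 0, nat_lit 2, nat_lit 6, nat_lit 0], [[nat_lit 99, nat_lit 0]]))) (.node (nat_lit 169) (.leaf ((nat_lit 1), [nat_lit 0, nat_lit 3, nat_lit 5, nat_lit 0, nat_lit 3, nat_lit 1], [[nat_lit 99, nat_lit 0, nat_lit 0]])) (.leaf ((nat_lit 1), [nat_lit 5, nat_lit 6, nat_lit 3, nat_lit 4, nat_lit 2, nat_lit 1], [[nat_lit 99, nat_lit 1, nat_lit 1]]))))))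
 (.node (nat_lit 176) (.node (nat_lit 173) (.node (nat_lit 171) (.leaf ((nat_lit 1), [nat_lit 5, nat_lit 6, nat_lit 3, nat_lit 2, nat_lit 4, nat_lit 1, nat_lit 3, nat_lit 0], [[nat_lit 99, nat_lit 99, nat_lit 1]])) (.node (nat_lit 172) (.leaf ((nat_lit 1), [nat_lit 4, nat_lit 5, nat_lit 1, nat_lit 4, nat_lit 6, nat_lit 2], [[nat_lit 99, nat_lit 99, nat_lit 99, nat_lit 1]])) (.leaf ((nat_lit 1), [nat_lit 1, nat_lit 5, nat_lit 0, nat_lit 4, nat_lit 5, nat_lit 4, nat_lit 2], [[nat_lit 99]])))) (.node (nat_lit 174) (.leaf ((nat_lit 1), [nat_lit 4, nat_lit 5, nat_lit 1, nat_lit 2, nat_lit 6, nat_lit 3, nat_lit 2], [[nat_lit 99, nat_lit 0, nat_lit 0, nat_lit 0]])) (.node (nat_lit 175) (.leaf ((nat_lit 1), [nat_lit 6, nat_lit 1, nat_lit 3, nat_lit 2, nat_lit 0, nat_lit 5, nat_lit 3], [[nat_lit 99, nat_lit 0, nat_lit 0]])) (.leaf ((nat_lit 1), [nat_lit 3, nat_lit 6, nat_lit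 3, nat_lit 1, nat_lit 5], [[nat_lit 99, nat_lit 99, nat_lit 0]])))))
 (.node (nat_lit 179) (.node (nat_lit 177) (.leaf ((nat_lit 1), [nat_lit 2, nat_lit 4, nat_lit 6, nat_lit 1, nat_lit 5, nat_lit 3, nat_lit 1], [[nat_lit 99, nat_lit 99, nat_lit 1]])) (.node (nat_lit 178) (.leaf ((nat_lit 1), [nat_lit 6, nat_lit 0, nat_lit 6, nat_lit 0, nat_lit 2, nat_lit 4], [[nat_lit 99, nat_lit 0]])) (.leaf ((nat_lit 1), [nat_lit 3, nat_lit 6, nat_lit 3, nat_lit 5, nat_lit 3, nat_lit 6, nat_lit 2], [[nat_lit 99]]))))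
 (.node (nat_lit 181) (.node (nat_lit 180) (.leaf ((nat_lit 1), [nat_lit 4, nat_lit 2, nat_lit 1, nat_lit 6, nat_lit 1, nat_lit 2, nat_lit 5], [[nat_lit 99, nat_lit 99, nat_lit 99, nat_lit 0]])) (.leaf ((nat_lit 1), [nat_lit 1, nat_lit 4, nat_lit 0, nat_lit 5, nat_lit 2, nat_lit 6, nat_lit 1], [[nat_lit 99, nat_lit 0, nat_lit 0, nat_lit 0]]))) (.node (nat_lit 182) (.leaf ((nat_lit 1), [nat_lit 5, nat_lit 3, nat_lit 4, nat_lit 1, nat_lit 6, nat_lit 4], [[nat_lit 99, nat_lit 99, nat_lit 1]])) (.leaf ((nat_lit 1), [nat_lit 1, nat_lit 6, nat_lit 0, nat_lit 3, nat_lit 1, nat_lit 5], [[nat_lit 99, nat_lit 0, nat_lit 0, nat_lit 0]])))))))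
 (.node (nat_lit 196) (.node (nat_lit 189) (.node (nat_lit 186) (.node (nat_lit 184) (.leaf ((nat_lit 1), [nat_lit 4, nat_lit 3, nat_lit 4, nat_lit 3, nat_lit 5, nat_lit 3, nat_lit 0], [[nat_lit 99, nat_lit 0]])) (.node (nat_lit 185) (.leaf ((nat_lit 1), [nat_lit 6, nat_lit 4, nat_lit 5, nat_lit 6, nat_lit 5, nat_lit 3], [[nat_lit 99, nat_lit 1, nat_lit 1]])) (.leaf ((nat_lit 1), [nat_lit 2, nat_lit 4, nat_lit 5, nat_lit 1, nat_lit 3, nat_lit 5], [[nat_lit 99]])))) (.node (nat_lit 187) (.leaf ((nat_lit 1), [nat_lit 2, nat_lit 6, nat_lit 3, nat_lit 6, nat_lit 0, nat_lit 4], [[nat_lit 99, nat_lit 99, nat_lit 1]])) (.node (nat_lit 188) (.leaf ((nat_lit 1), [nat_lit 0, nat_lit 5, nat_lit 2, nat_lit 6, nat_lit 2, nat_lit 5], [[nat_lit 99]])) (.leaf ((nat_lit 1), [nat_lit 6, nat_lit 1, nat_lit 3, nat_lit 5, nat_lit 0, nat_lit 4, nat_lit 3], [[nat_lit 99, nat_lit 99, nat_lit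 99]])))))
 (.node (nat_lit 192) (.node (nat_lit 190) (.leaf ((nat_lit 1), [nat_lit 1, nat_lit 3, nat_lit 1, nat_lit 2], [[nat_lit 99, nat_lit 0, nat_lit 0]])) (.node (nat_lit 191) (.leaf ((nat_lit 1), [nat_lit 5, nat_lit 1, nat_lit 3, nat_lit 6, nat_lit 4, nat_lit 1, nat_lit 5], [[nat_lit 99]])) (.leaf ((nat_lit 1), [nat_lit 5, nat_lit 3, nat_lit 2, nat_lit 4, nat_lit 3, nat_lit 6, nat_lit 1], [[nat_lit 99, nat_lit 99, nat_lit 1]]))))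
 (.node (nat_lit 194) (.node (nat_lit 193) (.leaf ((nat_lit 1), [nat_lit 5, nat_lit 0, nat_lit 5, nat_lit 4, nat_lit 6], [[nat_lit 99, nat_lit 99, nat_lit 1, nat_lit 1]])) (.leaf ((nat_lit 1), [nat_lit 0, nat_lit 6, nat_lit 0, nat_lit 5, nat_lit 4, nat_lit 3, nat_lit 0], [[nat_lit 99, nat_lit 99, nat_lit 0, nat_lit 0]]))) (.node (nat_lit 195) (.leaf ((nat_lit 1), [nat_lit 1, nat_lit 6, nat_lit 4, nat_lit 5, nat_lit 1, nat_lit 2], [[nat_lit 99, nat_lit 99, nat_lit 99]])) (.leaf ((nat_lit 1), [nat_lit 5, nat_lit 6, nat_lit 0, nat_lit 2, nat_lit 0], [[nat_lit 99, nat_lit 99, nat_lit 0, nat_lit 99, nat_lit 0]]))))))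
 (.node (nat_lit 203) (.node (nat_lit 199) (.node (nat_lit 197) (.leaf ((nat_lit 1), [nat_lit 5, nat_lit 0, nat_lit 6, nat_lit 1, nat_lit 5, nat_lit 1], [[nat_lit 99, nat_lit 0]])) (.node (nat_lit 198) (.leaf ((nat_lit 1), [nat_lit 0, nat_lit 4, nat_lit 6, nat_lit 2, nat_lit 5, nat_lit 3, nat_lit 0], [[nat_lit 99, nat_lit 1]])) (.leaf ((nat_lit 1), [nat_lit 3, nat_lit 4, nat_lit 3, nat_lit 5, nat_lit 3], [[nat_lit 99, nat_lit 1, nat_lit 1]]))))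
 (.node (nat_lit 201) (.node (nat_lit 200) (.leaf ((nat_lit 1), [nat_lit 3, nat_lit 6, nat_lit 0, nat_lit 5, nat_lit 0, nat_lit 6, nat_lit 4], [[nat_lit 99]])) (.leaf ((nat_lit 1), [nat_lit 3, nat_lit 1, nat_lit 6, nat_lit 5, nat_lit 1, nat_lit 3, nat_lit 0], [[nat_lit 99, nat_lit 99, nat_lit 99]]))) (.node (nat_lit 202) (.leaf ((nat_lit 1), [nat_lit 4, nat_lit 5, nat_lit 0, nat_lit 4, nat_lit 6, nat_lit 1], [[nat_lit 99, nat_lit 0]])) (.leaf ((nat_lit 1), [nat_lit 6, nat_lit 3, nat_lit 4, nat_lit 3, nat_lit 6, nat_lit 5, nat_lit 0], [[nat_lit 99, nat_lit 99, nat_lit 99, nat_lit 0]])))))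
 (.node (nat_lit 206) (.node (nat_lit 204) (.leaf ((nat_lit 1), [nat_lit 1, nat_lit 3, nat_lit 4, nat_lit 0, nat_lit 5, nat_lit 2, nat_lit 0], [[nat_lit 99, nat_lit 99, nat_lit 0]])) (.node (nat_lit 205) (.leaf ((nat_lit 1), [nat_lit 0, nat_lit 6, nat_lit 2, nat_lit 4, nat_lit 0, nat_lit 5], [[nat_lit 99, nat_lit 99, nat_lit 1]])) (.leaf ((nat_lit 1), [nat_lit 5, nat_lit 3, nat_lit 4, nat_lit 1, nat_lit 5], [[nat_lit 99, nat_lit 99, nat_lit 0, nat_lit 0]]))))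
 (.node (nat_lit 208) (.node (nat_lit 207) (.leaf ((nat_lit 1), [nat_lit 4, nat_lit 5, nat_lit 4, nat_lit 2, nat_lit 6, nat_lit 0, nat_lit 2], [[nat_lit 99, nat_lit 1, nat_lit 1, nat_lit 99, nat_lit 0]])) (.leaf ((nat_lit 1), [nat_lit 5, nat_lit 6, nat_lit 4, nat_lit 1, nat_lit 6], [[nat_lit 99, nat_lit 1, nat_lit 1, nat_lit 1]]))) (.node (nat_lit 209) (.leaf ((nat_lit 1), [nat_lit 3, nat_lit 5, nat_lit 4, nat_lit 1, nat_lit 5, nat_lit 0], [[nat_lit 99, nat_lit 1, nat_lit 99, nat_lit 0]])) (.leaf ((nat_lit 1), [nat_lit 1, nat_lit 5, nat_lit 2, nat_lit 0, nat_lit 5, nat_lit 2, nat_lit 6, nat_lit 1], [[nat_lit 99, nat_lit 1, nat_lit 1]]))))))))))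
noncomputable def eCE_1 : Tr (ℕ × List ℕ × List (List ℕ)) := (.node (nat_lit 315) (.node (nat_lit 262) (.node (nat_lit 236) (.node (nat_lit 223) (.node (nat_lit 216) (.node (nat_lit 213) (.node (nat_lit 211) (.leaf ((nat_lit 1), [nat_lit 4, nat_lit 5, nat_lit 6, nat_lit 2, nat_lit 5, nat_lit 6, nat_lit 0], [[nat_lit 99, nat_lit 0, nat_lit 0]])) (.node (nat_lit 212) (.leaf ((nat_lit 1), [nat_lit 3, nat_lit 5, nat_lit 2, nat_lit 0, nat_lit 3, nat_lit 6, nat_lit 2, nat_lit 0], [[nat_lit 99, nat_lit 99, nat_lit 1]])) (.leaf ((nat_lit 1), [nat_lit 1, nat_lit 3, nat_lit 5, nat_lit 4, nat_lit 3, nat_lit 4, nat_lit 2], [[nat_lit 99, nat_lit 0, nat_lit 0]])))) (.node (nat_lit 214) (.leaf ((nat_lit 1), [nat_lit 0, nat_lit 3, nat_lit 5, nat_lit 0, nat_lit 6], [[nat_lit 99, nat_lit 0, nat_lit 0]])) (.node (nat_lit 215) (.leaf ((nat_lit 1), [nat_lit 6, nat_lit 5, nat_lit 4, nat_lit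 0, nat_lit 6, nat_lit 1, nat_lit 6], [[nat_lit 99, nat_lit 0]])) (.leaf ((nat_lit 1), [nat_lit 5, nat_lit 2, nat_lit 1, nat_lit 3, nat_lit 0, nat_lit 4, nat_lit 0], [[nat_lit 99, nat_lit 1, nat_lit 99, nat_lit 0]])))))
 (.node (nat_lit 219) (.node (nat_lit 217) (.leaf ((nat_lit 1), [nat_lit 5, nat_lit 0, nat_lit 2, nat_lit 6, nat_lit 1, nat_lit 5, nat_lit 1], [[nat_lit 99, nat_lit 99, nat_lit 1, nat_lit 1, nat_lit 99, nat_lit 0]])) (.node (nat_lit 218) (.leaf ((nat_lit 1), [nat_lit 5, nat_lit 1, nat_lit 3, nat_lit 4, nat_lit 1, nat_lit 6, nat_lit 5, nat_lit 1], [[nat_lit 99]])) (.leaf ((nat_lit 1), [nat_lit 6, nat_lit 2, nat_lit 4, nat_lit 5, nat_lit 1, nat_lit 6, nat_lit 0], [[nat_lit 99, nat_lit 1, nat_lit 1, nat_lit 99, nat_lit 0]]))))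
 (.node (nat_lit 221) (.node (nat_lit 220) (.leaf ((nat_lit 1), [nat_lit 2, nat_lit 5, nat_lit 0, nat_lit 5, nat_lit 3, nat_lit 5, nat_lit 0], [[nat_lit 99, nat_lit 99, nat_lit 1, nat_lit 1]])) (.leaf ((nat_lit 1), [nat_lit 6, nat_lit 5, nat_lit 0, nat_lit 4, nat_lit 0, nat_lit 3, nat_lit 2], [[nat_lit 99, nat_lit 1, nat_lit 99, nat_lit 99, nat_lit 0]]))) (.node (nat_lit 222) (.leaf ((nat_lit 1), [nat_lit 5, nat_lit 3, nat_lit 5, nat_lit 1, nat_lit 4, nat_lit 3, nat_lit 2], [[nat_lit 99, nat_lit 99, nat_lit 0, nat_lit 99, nat_lit 0, nat_lit 0]])) (.leaf ((nat_lit 1), [nat_lit 6, nat_lit 3, nat_lit 4, nat_lit 2, nat_lit 0, nat_lit 5, nat_lit 2], [[nat_lit 99, nat_lit 99, nat_lit 0]]))))))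
 (.node (nat_lit 229) (.node (nat_lit 226) (.node (nat_lit 224) (.leaf ((nat_lit 1), [nat_lit 3, nat_lit 4, nat_lit 1, nat_lit 3, nat_lit 4, nat_lit 3], [[nat_lit 99, nat_lit 0, nat_lit 99, nat_lit 0, nat_lit 0]])) (.node (nat_lit 225) (.leaf ((nat_lit 1), [nat_lit 5, nat_lit 1, nat_lit 5, nat_lit 3, nat_lit 6, nat_lit 0, nat_lit 2], [[nat_lit 99, nat_lit 99, nat_lit 1, nat_lit 1]])) (.leaf ((nat_lit 1), [nat_lit 4, nat_lit 6, nat_lit 1, nat_lit 2, nat_lit 0, nat_lit 5], [[nat_lit 99]])))) (.node (nat_lit 227) (.leaf ((nat_lit 1), [nat_lit 3, nat_lit 1, nat_lit 6, nat_lit 0, nat_lit 4, nat_lit 3], [[nat_lit 99, nat_lit 1]])) (.node (nat_lit 228) (.leaf ((nat_lit 1), [nat_lit 4, nat_lit 5, nat_lit 0, nat_lit 4, nat_lit 6, nat_lit 1, nat_lit 4], [[nat_lit 99, nat_lit 99, nat_lit 99]])) (.leaf ((nat_lit 1), [nat_lit 6, nat_lit 1, nat_lit 3, nat_lit 5, nat_lit 0, nat_lit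 3], [[nat_lit 99]])))))
 (.node (nat_lit 232) (.node (nat_lit 230) (.leaf ((nat_lit 1), [nat_lit 6, nat_lit 3, nat_lit 4, nat_lit 5, nat_lit 6, nat_lit 2, nat_lit 0], [[nat_lit 99, nat_lit 99, nat_lit 1, nat_lit 99, nat_lit 0]])) (.node (nat_lit 231) (.leaf ((nat_lit 1), [nat_lit 1, nat_lit 3, nat_lit 6, nat_lit 2, nat_lit 4, nat_lit 1], [[nat_lit 99, nat_lit 1, nat_lit 99, nat_lit 0]])) (.leaf ((nat_lit 1), [nat_lit 2, nat_lit 4, nat_lit 5, nat_lit 2, nat_lit 4, nat_lit 5, nat_lit 3], [[nat_lit 99, nat_lit 0]]))))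
 (.node (nat_lit 234) (.node (nat_lit 233) (.leaf ((nat_lit 1), [nat_lit 6, nat_lit 4, nat_lit 0, nat_lit 5, nat_lit 0, nat_lit 4, nat_lit 2, nat_lit 0], [[nat_lit 99, nat_lit 99, nat_lit 0, nat_lit 0]])) (.leaf ((nat_lit 1), [nat_lit 3, nat_lit 5, nat_lit 3, nat_lit 4, nat_lit 6, nat_lit 1, nat_lit 4], [[nat_lit 99]]))) (.node (nat_lit 235) (.leaf ((nat_lit 1), [nat_lit 4, nat_lit 0, nat_lit 6, nat_lit 4, nat_lit 5, nat_lit 6, nat_lit 2], [[nat_lit 99, nat_lit 99, nat_lit 99]])) (.leaf ((nat_lit 1), [nat_lit 3, nat_lit 6, nat_lit 4, nat_lit 0, nat_lit 5, nat_lit 2, nat_lit 0], [[nat_lit 99, nat_lit 99, nat_lit 99, nat_lit 0]])))))))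
 (.node (nat_lit 249) (.node (nat_lit 242) (.node (nat_lit 239) (.node (nat_lit 237) (.leaf ((nat_lit 1), [nat_lit 1, nat_lit 6, nat_lit 0, nat_lit 6, nat_lit 4, nat_lit 1, nat_lit 2], [[nat_lit 99, nat_lit 0]])) (.node (nat_lit 238) (.leaf ((nat_lit 1), [nat_lit 5, nat_lit 4, nat_lit 1, nat_lit 6, nat_lit 4, nat_lit 3, nat_lit 4], [[nat_lit 99, nat_lit 99, nat_lit 99]])) (.leaf ((nat_lit 1), [nat_lit 4, nat_lit 1, nat_lit 3, nat_lit 0, nat_lit 6, nat_lit 5, nat_lit 3], [[nat_lit 99]])))) (.node (nat_lit 240) (.leaf ((nat_lit 1), [nat_lit 3, nat_lit 6, nat_lit 0, nat_lit 3, nat_lit 5, nat_lit 6, nat_lit 2, nat_lit 0], [[nat_lit 99, nat_lit 1, nat_lit 99, nat_lit 0]])) (.node (nat_lit 241) (.leaf ((nat_lit 1), [nat_lit 2, nat_lit 4, nat_lit 0, nat_lit 5, nat_lit 4, nat_lit 3, nat_lit 1], [[nat_lit 99, nat_lit 0, nat_lit 99, nat_lit 1, nat_lit 99, nat_lit 0, nat_lit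 0, nat_lit 0]])) (.leaf ((nat_lit 1), [nat_lit 6, nat_lit 5, nat_lit 2, nat_lit 6, nat_lit 0, nat_lit 5, nat_lit 6], [[nat_lit 99, nat_lit 0]])))))
 (.node (nat_lit 245) (.node (nat_lit 243) (.leaf ((nat_lit 1), [nat_lit 3, nat_lit 2, nat_lit 4, nat_lit 3, nat_lit 6, nat_lit 2], [[nat_lit 99, nat_lit 99, nat_lit 0, nat_lit 0]])) (.node (nat_lit 244) (.leaf ((nat_lit 1), [nat_lit 4, nat_lit 2, nat_lit 1, nat_lit 3, nat_lit 6, nat_lit 5, nat_lit 4, nat_lit 1], [[nat_lit 99, nat_lit 1, nat_lit 99, nat_lit 0]])) (.leaf ((nat_lit 1), [nat_lit 0, nat_lit 4, nat_lit 2, nat_lit 1, nat_lit 6, nat_lit 2, nat_lit 1], [[nat_lit 99, nat_lit 0]]))))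
 (.node (nat_lit 247) (.node (nat_lit 246) (.leaf ((nat_lit 1), [nat_lit 3, nat_lit 5, nat_lit 4, nat_lit 6, nat_lit 1, nat_lit 3, nat_lit 2, nat_lit 1], [[nat_lit 99, nat_lit 1, nat_lit 99, nat_lit 0]])) (.leaf ((nat_lit 1), [nat_lit 0, nat_lit 2, nat_lit 4, nat_lit 0, nat_lit 5, nat_lit 2, nat_lit 1], [[nat_lit 99, nat_lit 0, nat_lit 0, nat_lit 0]]))) (.node (nat_lit 248) (.leaf ((nat_lit 1), [nat_lit 3, nat_lit 4, nat_lit 1, nat_lit 5, nat_lit 6], [[nat_lit 99]])) (.leaf ((nat_lit 1), [nat_lit 3, nat_lit 6, nat_lit 3, nat_lit 0, nat_lit 4, nat_lit 5, nat_lit 2], [[nat_lit 99, nat_lit 0, nat_lit 0, nat_lit 0]]))))))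
 (.node (nat_lit 255) (.node (nat_lit 252) (.node (nat_lit 250) (.leaf ((nat_lit 1), [nat_lit 3, nat_lit 4, nat_lit 1, nat_lit 3, nat_lit 2, nat_lit 6, nat_lit 0], [[nat_lit 99, nat_lit 99, nat_lit 99]])) (.node (nat_lit 251) (.leaf ((nat_lit 1), [nat_lit 4, nat_lit 2, nat_lit 1, nat_lit 3, nat_lit 1, nat_lit 6, nat_lit 2, nat_lit 0], [[nat_lit 99, nat_lit 99, nat_lit 0]])) (.leaf ((nat_lit 1), [nat_lit 5, nat_lit 1, nat_lit 5, nat_lit 0, nat_lit 5, nat_lit 6, nat_lit 2], [[nat_lit 99, nat_lit 99, nat_lit 99, nat_lit 0, nat_lit 0]])))) (.node (nat_lit 253) (.leaf ((nat_lit 1), [nat_lit 3, nat_lit 2, nat_lit 5, nat_lit 1, nat_lit 6, nat_lit 0, nat_lit 5], [[nat_lit 99]])) (.node (nat_lit 254) (.leaf ((nat_lit 1), [nat_lit 5, nat_lit 6, nat_lit 5, nat_lit 2, nat_lit 0, nat_lit 5], [[nat_lit 99, nat_lit 1]])) (.leaf ((nat_lit 1), [nat_lit 1, nat_lit 6, nat_lit 4, nat_lit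 1, nat_lit 3], [[nat_lit 99, nat_lit 99, nat_lit 1, nat_lit 1]])))))
 (.node (nat_lit 258) (.node (nat_lit 256) (.leaf ((nat_lit 1), [nat_lit 6, nat_lit 5, nat_lit 2, nat_lit 4, nat_lit 0, nat_lit 6, nat_lit 0], [[nat_lit 99]])) (.node (nat_lit 257) (.leaf ((nat_lit 1), [nat_lit 3, nat_lit 2, nat_lit 6, nat_lit 3, nat_lit 4, nat_lit 1], [[nat_lit 99, nat_lit 0, nat_lit 0, nat_lit 0]])) (.leaf ((nat_lit 1), [nat_lit 1, nat_lit 6, nat_lit 0, nat_lit 4, nat_lit 0, nat_lit 3], [[nat_lit 99, nat_lit 1, nat_lit 1]]))))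
 (.node (nat_lit 260) (.node (nat_lit 259) (.leaf ((nat_lit 1), [nat_lit 6, nat_lit 1, nat_lit 2, nat_lit 5, nat_lit 0, nat_lit 4, nat_lit 2], [[nat_lit 99, nat_lit 0, nat_lit 0, nat_lit 0, nat_lit 0]])) (.leaf ((nat_lit 1), [nat_lit 6, nat_lit 5, nat_lit 3, nat_lit 5, nat_lit 6, nat_lit 0], [[nat_lit 99, nat_lit 99, nat_lit 0, nat_lit 0]]))) (.node (nat_lit 261) (.leaf ((nat_lit 1), [nat_lit 3, nat_lit 1, nat_lit 5, nat_lit 6, nat_lit 1, nat_lit 5, nat_lit 2], [[nat_lit 99, nat_lit 1]])) (.leaf ((nat_lit 1), [nat_lit 5, nat_lit 3, nat_lit 1, nat_lit 2, nat_lit 5, nat_lit 4, nat_lit 3], [[nat_lit 99, nat_lit 1, nat_lit 1, nat_lit 1]]))))))))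
 (.node (nat_lit 288) (.node (nat_lit 275) (.node (nat_lit 268) (.node (nat_lit 265) (.node (nat_lit 263) (.leaf ((nat_lit 1), [nat_lit 5, nat_lit 4, nat_lit 0, nat_lit 3, nat_lit 6, nat_lit 5], [[nat_lit 99, nat_lit 99, nat_lit 99, nat_lit 0]])) (.node (nat_lit 264) (.leaf ((nat_lit 1), [nat_lit 6, nat_lit 5, nat_lit 1, nat_lit 5, nat_lit 3], [[nat_lit 99, nat_lit 0]])) (.leaf ((nat_lit 1), [nat_lit 5, nat_lit 0, nat_lit 5, nat_lit 2, nat_lit 0, nat_lit 3], [[nat_lit 99, nat_lit 1, nat_lit 1]])))) (.node (nat_lit 266) (.leaf ((nat_lit 1), [nat_lit 4, nat_lit 1, nat_lit 3, nat_lit 5, nat_lit 4], [[nat_lit 99, nat_lit 99, nat_lit 0]])) (.node (nat_lit 267) (.leaf ((nat_lit 1), [nat_lit 4, nat_lit 5, nat_lit 4, nat_lit 6, nat_lit 0, nat_lit 3, nat_lit 2, nat_lit 0], [[nat_lit 99, nat_lit 99, nat_lit 99, nat_lit 0]])) (.leaf ((nat_lit 1), [nat_lit 4, nat_lit 3, nat_lit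 5, nat_lit 4, nat_lit 1, nat_lit 6], [[nat_lit 99, nat_lit 99, nat_lit 0, nat_lit 0]])))))
 (.node (nat_lit 271) (.node (nat_lit 269) (.leaf ((nat_lit 1), [nat_lit 5, nat_lit 2, nat_lit 0, nat_lit 6, nat_lit 5, nat_lit 1, nat_lit 3], [[nat_lit 99, nat_lit 0, nat_lit 0, nat_lit 0]])) (.node (nat_lit 270) (.leaf ((nat_lit 1), [nat_lit 0, nat_lit 2, nat_lit 5, nat_lit 4, nat_lit 1, nat_lit 6], [[nat_lit 99, nat_lit 0]])) (.leaf ((nat_lit 1), [nat_lit 4, nat_lit 2, nat_lit 4, nat_lit 5, nat_lit 6, nat_lit 5, nat_lit 0], [[nat_lit 99, nat_lit 1, nat_lit 1]]))))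
 (.node (nat_lit 273) (.node (nat_lit 272) (.leaf ((nat_lit 1), [nat_lit 1, nat_lit 5, nat_lit 0, nat_lit 6, nat_lit 2, nat_lit 0, nat_lit 3], [[nat_lit 99, nat_lit 99, nat_lit 99, nat_lit 99, nat_lit 0]])) (.leaf ((nat_lit 1), [nat_lit 5, nat_lit 0, nat_lit 5, nat_lit 4, nat_lit 2, nat_lit 4], [[nat_lit 99, nat_lit 0]]))) (.node (nat_lit 274) (.leaf ((nat_lit 1), [nat_lit 6, nat_lit 1, nat_lit 3, nat_lit 2, nat_lit 5, nat_lit 3, nat_lit 4], [[nat_lit 99, nat_lit 99, nat_lit 1]])) (.leaf ((nat_lit 1), [nat_lit 3, nat_lit 5, nat_lit 4, nat_lit 2, nat_lit 4, nat_lit 5, nat_lit 3], [[nat_lit 99, nat_lit 1]]))))))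
 (.node (nat_lit 281) (.node (nat_lit 278) (.node (nat_lit 276) (.leaf ((nat_lit 1), [nat_lit 0, nat_lit 4, nat_lit 5, nat_lit 3, nat_lit 6, nat_lit 2], [[nat_lit 99, nat_lit 0, nat_lit 0]])) (.node (nat_lit 277) (.leaf ((nat_lit 1), [nat_lit 4, nat_lit 6, nat_lit 1, nat_lit 4, nat_lit 3, nat_lit 2, nat_lit 6], [[nat_lit 99, nat_lit 1]])) (.leaf ((nat_lit 1), [nat_lit 6, nat_lit 3, nat_lit 6, nat_lit 5, nat_lit 3, nat_lit 1, nat_lit 4], [[nat_lit 99, nat_lit 1, nat_lit 1, nat_lit 1]])))) (.node (nat_lit 279) (.leaf ((nat_lit 1), [nat_lit 4, nat_lit 5, nat_lit 2, nat_lit 6, nat_lit 0, nat_lit 3, nat_lit 0], [[nat_lit 99, nat_lit 0, nat_lit 0]])) (.node (nat_lit 280) (.leaf ((nat_lit 1), [nat_lit 1, nat_lit 2, nat_lit 4, nat_lit 3, nat_lit 0, nat_lit 2, nat_lit 0], [[nat_lit 99, nat_lit 99, nat_lit 0]])) (.leaf ((nat_lit 1), [nat_lit 6, nat_lit 2, nat_lit 5, nat_lit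 0, nat_lit 3], [[nat_lit 99, nat_lit 1]])))))
 (.node (nat_lit 284) (.node (nat_lit 282) (.leaf ((nat_lit 1), [nat_lit 6, nat_lit 2, nat_lit 0, nat_lit 5, nat_lit 6, nat_lit 4, nat_lit 0], [[nat_lit 99, nat_lit 0]])) (.node (nat_lit 283) (.leaf ((nat_lit 1), [nat_lit 4, nat_lit 1, nat_lit 5, nat_lit 6, nat_lit 2, nat_lit 6, nat_lit 4], [[nat_lit 99, nat_lit 0]])) (.leaf ((nat_lit 1), [nat_lit 6, nat_lit 3, nat_lit 5, nat_lit 1, nat_lit 5, nat_lit 3], [[nat_lit 99, nat_lit 1]]))))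
 (.node (nat_lit 286) (.node (nat_lit 285) (.leaf ((nat_lit 1), [nat_lit 1, nat_lit 3, nat_lit 4, nat_lit 0, nat_lit 5, nat_lit 0], [[nat_lit 99, nat_lit 0, nat_lit 0, nat_lit 0, nat_lit 0]])) (.leaf ((nat_lit 1), [nat_lit 4, nat_lit 3, nat_lit 0, nat_lit 2, nat_lit 5], [[nat_lit 99]]))) (.node (nat_lit 287) (.leaf ((nat_lit 1), [nat_lit 0, nat_lit 5, nat_lit 2, nat_lit 6, nat_lit 3, nat_lit 5], [[nat_lit 99, nat_lit 1, nat_lit 1, nat_lit 99, nat_lit 0, nat_lit 99, nat_lit 0, nat_lit 0]])) (.leaf ((nat_lit 1), [nat_lit 4, nat_lit 0, nat_lit 5, nat_lit 1, nat_lit 6, nat_lit 5, nat_lit 0], [[nat_lit 99, nat_lit 99, nat_lit 0]])))))))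
 (.node (nat_lit 301) (.node (nat_lit 294) (.node (nat_lit 291) (.node (nat_lit 289) (.leaf ((nat_lit 1), [nat_lit 6, nat_lit 5, nat_lit 0, nat_lit 2, nat_lit 4, nat_lit 3, nat_lit 0], [[nat_lit 99, nat_lit 99, nat_lit 99, nat_lit 1]])) (.node (nat_lit 290) (.leaf ((nat_lit 1), [nat_lit 5, nat_lit 6, nat_lit 0, nat_lit 4, nat_lit 6, nat_lit 3, nat_lit 1], [[nat_lit 99, nat_lit 0, nat_lit 0]])) (.leaf ((nat_lit 1), [nat_lit 1, nat_lit 5, nat_lit 0, nat_lit 6, nat_lit 4, nat_lit 1, nat_lit 3], [[nat_lit 99, nat_lit 0, nat_lit 0]])))) (.node (nat_lit 292) (.leaf ((nat_lit 1), [nat_lit 1, nat_lit 5, nat_lit 3, nat_lit 0, nat_lit 6, nat_lit 1, nat_lit 4], [[nat_lit 99]])) (.node (nat_lit 293) (.leaf ((nat_lit 1), [nat_lit 6, nat_lit 3, nat_lit 5, nat_lit 1, nat_lit 5, nat_lit 3, nat_lit 0], [[nat_lit 99, nat_lit 0, nat_lit 0, nat_lit 0, nat_lit 0]])) (.leaf ((nat_lit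 1), [nat_lit 5, nat_lit 2, nat_lit 6, nat_lit 2, nat_lit 4, nat_lit 2, nat_lit 5], [[nat_lit 99, nat_lit 0]])))))
 (.node (nat_lit 297) (.node (nat_lit 295) (.leaf ((nat_lit 1), [nat_lit 4, nat_lit 0, nat_lit 3, nat_lit 4, nat_lit 2, nat_lit 6, nat_lit 0], [[nat_lit 99, nat_lit 0, nat_lit 0, nat_lit 0]])) (.node (nat_lit 296) (.leaf ((nat_lit 1), [nat_lit 3, nat_lit 5, nat_lit 0, nat_lit 3, nat_lit 6, nat_lit 5, nat_lit 2], [[nat_lit 99, nat_lit 0]])) (.leaf ((nat_lit 1), [nat_lit 1, nat_lit 2, nat_lit 6, nat_lit 5, nat_lit 2, nat_lit 4, nat_lit 2, nat_lit 0], [[nat_lit 99, nat_lit 1, nat_lit 1]]))))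
 (.node (nat_lit 299) (.node (nat_lit 298) (.leaf ((nat_lit 1), [nat_lit 0, nat_lit 2, nat_lit 0, nat_lit 6, nat_lit 4, nat_lit 5, nat_lit 0], [[nat_lit 99, nat_lit 0, nat_lit 0]])) (.leaf ((nat_lit 1), [nat_lit 3, nat_lit 1, nat_lit 4, nat_lit 2, nat_lit 5, nat_lit 4], [[nat_lit 99, nat_lit 99, nat_lit 1]]))) (.node (nat_lit 300) (.leaf ((nat_lit 1), [nat_lit 5, nat_lit 4, nat_lit 1, nat_lit 6, nat_lit 1, nat_lit 2, nat_lit 6], [[nat_lit 99, nat_lit 1]])) (.leaf ((nat_lit 1), [nat_lit 3, nat_lit 1, nat_lit 4, nat_lit 5, nat_lit 6, nat_lit 0, nat_lit 3], [[nat_lit 99, nat_lit 1, nat_lit 1, nat_lit 1]]))))))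
 (.node (nat_lit 308) (.node (nat_lit 304) (.node (nat_lit 302) (.leaf ((nat_lit 1), [nat_lit 5, nat_lit 0, nat_lit 2, nat_lit 0, nat_lit 4, nat_lit 3, nat_lit 2], [[nat_lit 99, nat_lit 99, nat_lit 0]])) (.node (nat_lit 303) (.leaf ((nat_lit 1), [nat_lit 5, nat_lit 4, nat_lit 1, nat_lit 3, nat_lit 4, nat_lit 6], [[nat_lit 99, nat_lit 0, nat_lit 99, nat_lit 0, nat_lit 0]])) (.leaf ((nat_lit 1), [nat_lit 2, nat_lit 4, nat_lit 5, nat_lit 3, nat_lit 1, nat_lit 2], [[nat_lit 99, nat_lit 99, nat_lit 99, nat_lit 0]]))))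
 (.node (nat_lit 306) (.node (nat_lit 305) (.leaf ((nat_lit 1), [nat_lit 3, nat_lit 0, nat_lit 5, nat_lit 1, nat_lit 4, nat_lit 2, nat_lit 0], [[nat_lit 99, nat_lit 99, nat_lit 0, nat_lit 0, nat_lit 0]])) (.leaf ((nat_lit 1), [nat_lit 5, nat_lit 0, nat_lit 5, nat_lit 6, nat_lit 2, nat_lit 1], [[nat_lit 99, nat_lit 99, nat_lit 0, nat_lit 0]]))) (.node (nat_lit 307) (.leaf ((nat_lit 1), [nat_lit 6, nat_lit 5, nat_lit 0, nat_lit 6, nat_lit 5, nat_lit 0], [[nat_lit 99, nat_lit 0, nat_lit 0]])) (.leaf ((nat_lit 1), [nat_lit 1, nat_lit 2, nat_lit 6, nat_lit 2, nat_lit 1, nat_lit 4], [[nat_lit 99, nat_lit 0, nat_lit 0]])))))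
 (.node (nat_lit 311) (.node (nat_lit 309) (.leaf ((nat_lit 1), [nat_lit 5, nat_lit 6, nat_lit 0, nat_lit 4, nat_lit 5, nat_lit 2, nat_lit 4], [[nat_lit 99, nat_lit 0]])) (.node (nat_lit 310) (.leaf ((nat_lit 1), [nat_lit 1, nat_lit 6, nat_lit 4, nat_lit 5, nat_lit 2, nat_lit 1], [[nat_lit 99, nat_lit 99, nat_lit 0]])) (.leaf ((nat_lit 1), [nat_lit 6, nat_lit 4, nat_lit 3, nat_lit 4, nat_lit 0, nat_lit 3, nat_lit 5], [[nat_lit 99, nat_lit 99, nat_lit 99]]))))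
 (.node (nat_lit 313) (.node (nat_lit 312) (.leaf ((nat_lit 1), [nat_lit 2, nat_lit 6, nat_lit 4, nat_lit 5, nat_lit 2, nat_lit 6, nat_lit 0], [[nat_lit 99, nat_lit 99, nat_lit 1, nat_lit 99, nat_lit 0]])) (.leaf ((nat_lit 1), [nat_lit 6, nat_lit 0, nat_lit 4, nat_lit 1, nat_lit 5, nat_lit 1, nat_lit 4], [[nat_lit 99, nat_lit 99, nat_lit 0]]))) (.node (nat_lit 314) (.leaf ((nat_lit 1), [nat_lit 4, nat_lit 3, nat_lit 5, nat_lit 6, nat_lit 3, nat_lit 4, nat_lit 0], [[nat_lit 99, nat_lit 1]])) (.leaf ((nat_lit 1), [nat_lit 6, nat_lit 0, nat_lit 2, nat_lit 6, nat_lit 5, nat_lit 1, nat_lit 2], [[nat_lit 99]])))))))))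
 (.node (nat_lit 367) (.node (nat_lit 341) (.node (nat_lit 328) (.node (nat_lit 321) (.node (nat_lit 318) (.node (nat_lit 316) (.leaf ((nat_lit 1), [nat_lit 0, nat_lit 6, nat_lit 5, nat_lit 1, nat_lit 3, nat_lit 6, nat_lit 5], [[nat_lit 99]])) (.node (nat_lit 317) (.leaf ((nat_lit 1), [nat_lit 2, nat_lit 6, nat_lit 1, nat_lit 2, nat_lit 6, nat_lit 5, nat_lit 3, nat_lit 1], [[nat_lit 99, nat_lit 0, nat_lit 0, nat_lit 0, nat_lit 0]])) (.leaf ((nat_lit 1), [nat_lit 5, nat_lit 1, nat_lit 6, nat_lit 3, nat_lit 2, nat_lit 6, nat_lit 2, nat_lit 0], [[nat_lit 99, nat_lit 0, nat_lit 99, nat_lit 99, nat_lit 0, nat_lit 0]])))) (.node (nat_lit 319) (.leaf ((nat_lit 1), [nat_lit 3, nat_lit 4, nat_lit 5, nat_lit 1, nat_lit 3, nat_lit 6, nat_lit 1], [[nat_lit 99, nat_lit 0]])) (.node (nat_lit 320) (.leaf ((nat_lit 1), [nat_lit 4, nat_lit 5, nat_lit 4, nat_lit 6, nat_lit 4, nat_lit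 1, nat_lit 3, nat_lit 1], [[nat_lit 99, nat_lit 1, nat_lit 99, nat_lit 0]])) (.leaf ((nat_lit 1), [nat_lit 1, nat_lit 6, nat_lit 0, nat_lit 5, nat_lit 4, nat_lit 3, nat_lit 2, nat_lit 0], [[nat_lit 99, nat_lit 1]])))))
 (.node (nat_lit 324) (.node (nat_lit 322) (.leaf ((nat_lit 1), [nat_lit 3, nat_lit 0, nat_lit 5, nat_lit 4, nat_lit 3, nat_lit 5, nat_lit 1], [[nat_lit 99, nat_lit 1]])) (.node (nat_lit 323) (.leaf ((nat_lit 1), [nat_lit 5, nat_lit 4, nat_lit 0, nat_lit 6, nat_lit 1], [[nat_lit 99, nat_lit 0, nat_lit 0]])) (.leaf ((nat_lit 1), [nat_lit 1, nat_lit 4, nat_lit 2, nat_lit 5, nat_lit 0], [[nat_lit 99, nat_lit 0]]))))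
 (.node (nat_lit 326) (.node (nat_lit 325) (.leaf ((nat_lit 1), [nat_lit 0, nat_lit 3, nat_lit 2, nat_lit 4, nat_lit 6, nat_lit 5, nat_lit 2], [[nat_lit 99, nat_lit 99, nat_lit 0]])) (.leaf ((nat_lit 1), [nat_lit 6, nat_lit 2, nat_lit 5, nat_lit 0, nat_lit 3, nat_lit 6, nat_lit 5, nat_lit 1], [[nat_lit 99, nat_lit 99, nat_lit 0]]))) (.node (nat_lit 327) (.leaf ((nat_lit 1), [nat_lit 4, nat_lit 5, nat_lit 3, nat_lit 4, nat_lit 6, nat_lit 3], [[nat_lit 99, nat_lit 1, nat_lit 1]])) (.leaf ((nat_lit 1), [nat_lit 5, nat_lit 6, nat_lit 5, nat_lit 0, nat_lit 4, nat_lit 3, nat_lit 2], [[nat_lit 99, nat_lit 99, nat_lit 99, nat_lit 1]]))))))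
 (.node (nat_lit 334) (.node (nat_lit 331) (.node (nat_lit 329) (.leaf ((nat_lit 1), [nat_lit 6, nat_lit 3, nat_lit 2, nat_lit 1, nat_lit 4, nat_lit 0], [[nat_lit 99, nat_lit 99, nat_lit 0]])) (.node (nat_lit 330) (.leaf ((nat_lit 1), [nat_lit 0, nat_lit 3, nat_lit 6, nat_lit 4, nat_lit 0, nat_lit 5], [[nat_lit 99, nat_lit 0]])) (.leaf ((nat_lit 1), [nat_lit 1, nat_lit 2, nat_lit 1, nat_lit 6, nat_lit 3, nat_lit 5], [[nat_lit 99, nat_lit 0]])))) (.node (nat_lit 332) (.leaf ((nat_lit 1), [nat_lit 1, nat_lit 6, nat_lit 3, nat_lit 5, nat_lit 0, nat_lit 4, nat_lit 3], [[nat_lit 99]])) (.node (nat_lit 333) (.leaf ((nat_lit 1), [nat_lit 1, nat_lit 4, nat_lit 3, nat_lit 1, nat_lit 6, nat_lit 0, nat_lit 4], [[nat_lit 99, nat_lit 1]])) (.leaf ((nat_lit 1), [nat_lit 6, nat_lit 1, nat_lit 3, nat_lit 6, nat_lit 4, nat_lit 5, nat_lit 4], [[nat_lit 99, nat_lit 0, nat_lit 0]])))))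
 (.node (nat_lit 337) (.node (nat_lit 335) (.leaf ((nat_lit 1), [nat_lit 0, nat_lit 6, nat_lit 5, nat_lit 3, nat_lit 1, nat_lit 2, nat_lit 0], [[nat_lit 99, nat_lit 0, nat_lit 0, nat_lit 0]])) (.node (nat_lit 336) (.leaf ((nat_lit 1), [nat_lit 4, nat_lit 3, nat_lit 6, nat_lit 0, nat_lit 3, nat_lit 5], [[nat_lit 99, nat_lit 0, nat_lit 0]])) (.leaf ((nat_lit 1), [nat_lit 5, nat_lit 2, nat_lit 6, nat_lit 3, nat_lit 6, nat_lit 3], [[nat_lit 99, nat_lit 0, nat_lit 0, nat_lit 0]]))))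
 (.node (nat_lit 339) (.node (nat_lit 338) (.leaf ((nat_lit 1), [nat_lit 4, nat_lit 3, nat_lit 1, nat_lit 6, nat_lit 0, nat_lit 4, nat_lit 1], [[nat_lit 99, nat_lit 99, nat_lit 99, nat_lit 1]])) (.leaf ((nat_lit 1), [nat_lit 5, nat_lit 6, nat_lit 1, nat_lit 4, nat_lit 5, nat_lit 3, nat_lit 2], [[nat_lit 99, nat_lit 1, nat_lit 1]]))) (.node (nat_lit 340) (.leaf ((nat_lit 1), [nat_lit 0, nat_lit 4, nat_lit 5, nat_lit 3, nat_lit 5, nat_lit 2], [[nat_lit 99, nat_lit 0, nat_lit 99, nat_lit 0, nat_lit 0]])) (.leaf ((nat_lit 1), [nat_lit 5, nat_lit 6, nat_lit 3, nat_lit 6, nat_lit 2, nat_lit 4], [[nat_lit 99, nat_lit 0, nat_lit 0, nat_lit 0]])))))))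
 (.node (nat_lit 354) (.node (nat_lit 347) (.node (nat_lit 344) (.node (nat_lit 342) (.leaf ((nat_lit 1), [nat_lit 1, nat_lit 3, nat_lit 0, nat_lit 5], [[nat_lit 99, nat_lit 99, nat_lit 1]])) (.node (nat_lit 343) (.leaf ((nat_lit 1), [nat_lit 3, nat_lit 5, nat_lit 1, nat_lit 4, nat_lit 0, nat_lit 6, nat_lit 0], [[nat_lit 99, nat_lit 99, nat_lit 0]])) (.leaf ((nat_lit 1), [nat_lit 0, nat_lit 4, nat_lit 2, nat_lit 5, nat_lit 6, nat_lit 0], [[nat_lit 99, nat_lit 99, nat_lit 0]])))) (.node (nat_lit 345) (.leaf ((nat_lit 1), [nat_lit 4, nat_lit 5, nat_lit 3, nat_lit 4, nat_lit 5, nat_lit 1, nat_lit 4], [[nat_lit 99, nat_lit 0]])) (.node (nat_lit 346) (.leaf ((nat_lit 1), [nat_lit 6, nat_lit 0, nat_lit 5, nat_lit 1, nat_lit 5, nat_lit 6, nat_lit 5], [[nat_lit 99, nat_lit 0, nat_lit 0]])) (.leaf ((nat_lit 1), [nat_lit 0, nat_lit 5, nat_lit 3, nat_lit 6, nat_lit 5, nat_lit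 1], [[nat_lit 99, nat_lit 1, nat_lit 1, nat_lit 1]])))))
 (.node (nat_lit 350) (.node (nat_lit 348) (.leaf ((nat_lit 1), [nat_lit 3, nat_lit 2, nat_lit 0, nat_lit 5, nat_lit 0, nat_lit 6, nat_lit 1], [[nat_lit 99]])) (.node (nat_lit 349) (.leaf ((nat_lit 1), [nat_lit 4, nat_lit 5, nat_lit 6, nat_lit 0, nat_lit 3], [[nat_lit 99, nat_lit 1]])) (.leaf ((nat_lit 1), [nat_lit 2, nat_lit 5, nat_lit 1, nat_lit 6, nat_lit 4, nat_lit 3], [[nat_lit 99, nat_lit 99, nat_lit 1, nat_lit 1]]))))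
 (.node (nat_lit 352) (.node (nat_lit 351) (.leaf ((nat_lit 1), [nat_lit 3, nat_lit 4, nat_lit 5, nat_lit 1, nat_lit 5, nat_lit 6, nat_lit 1], [[nat_lit 99, nat_lit 0]])) (.leaf ((nat_lit 1), [nat_lit 4, nat_lit 0, nat_lit 6, nat_lit 5, nat_lit 3], [[nat_lit 99, nat_lit 99, nat_lit 0, nat_lit 0]]))) (.node (nat_lit 353) (.leaf ((nat_lit 1), [nat_lit 3, nat_lit 1, nat_lit 5, nat_lit 6, nat_lit 3, nat_lit 0], [[nat_lit 99, nat_lit 99, nat_lit 0]])) (.leaf ((nat_lit 1), [nat_lit 6, nat_lit 0, nat_lit 5, nat_lit 3, nat_lit 2], [[nat_lit 99, nat_lit 99, nat_lit 1]]))))))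
 (.node (nat_lit 360) (.node (nat_lit 357) (.node (nat_lit 355) (.leaf ((nat_lit 1), [nat_lit 0, nat_lit 4, nat_lit 6, nat_lit 4, nat_lit 1, nat_lit 5], [[nat_lit 99, nat_lit 99, nat_lit 0]])) (.node (nat_lit 356) (.leaf ((nat_lit 1), [nat_lit 6, nat_lit 5, nat_lit 3, nat_lit 6, nat_lit 2, nat_lit 0], [[nat_lit 99, nat_lit 0]])) (.leaf ((nat_lit 1), [nat_lit 6, nat_lit 3, nat_lit 0, nat_lit 4, nat_lit 6, nat_lit 5, nat_lit 3], [[nat_lit 99, nat_lit 1]])))) (.node (nat_lit 358) (.leaf ((nat_lit 1), [nat_lit 6, nat_lit 1, nat_lit 4, nat_lit 0, nat_lit 5, nat_lit 0, nat_lit 2], [[nat_lit 99, nat_lit 99, nat_lit 0, nat_lit 0]])) (.node (nat_lit 359) (.leaf ((nat_lit 1), [nat_lit 6, nat_lit 1, nat_lit 5, nat_lit 3, nat_lit 4, nat_lit 5, nat_lit 1], [[nat_lit 99]])) (.leaf ((nat_lit 1), [nat_lit 2, nat_lit 1, nat_lit 5, nat_lit 6, nat_lit 0, nat_lit 4, nat_lit 0], [[nat_lit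 99, nat_lit 99, nat_lit 99]])))))
 (.node (nat_lit 363) (.node (nat_lit 361) (.leaf ((nat_lit 1), [nat_lit 5, nat_lit 2, nat_lit 1, nat_lit 3, nat_lit 1, nat_lit 5, nat_lit 6, nat_lit 0], [[nat_lit 99, nat_lit 1, nat_lit 1, nat_lit 99, nat_lit 0]])) (.node (nat_lit 362) (.leaf ((nat_lit 1), [nat_lit 3, nat_lit 6, nat_lit 1, nat_lit 4, nat_lit 1, nat_lit 3, nat_lit 1], [[nat_lit 99, nat_lit 99, nat_lit 99, nat_lit 0]])) (.leaf ((nat_lit 1), [nat_lit 5, nat_lit 4, nat_lit 2, nat_lit 5, nat_lit 6, nat_lit 0, nat_lit 4], [[nat_lit 99]]))))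
 (.node (nat_lit 365) (.node (nat_lit 364) (.leaf ((nat_lit 1), [nat_lit 4, nat_lit 6, nat_lit 0, nat_lit 2, nat_lit 6, nat_lit 5, nat_lit 3], [[nat_lit 99, nat_lit 99, nat_lit 1, nat_lit 1, nat_lit 99, nat_lit 0, nat_lit 0]])) (.leaf ((nat_lit 1), [nat_lit 0, nat_lit 6, nat_lit 3, nat_lit 4, nat_lit 5, nat_lit 4], [[nat_lit 99, nat_lit 0, nat_lit 0, nat_lit 0]]))) (.node (nat_lit 366) (.leaf ((nat_lit 1), [nat_lit 0, nat_lit 3, nat_lit 2, nat_lit 6, nat_lit 1, nat_lit 2], [[nat_lit 99, nat_lit 1, nat_lit 1]])) (.leaf ((nat_lit 1), [nat_lit 4, nat_lit 5, nat_lit 2, nat_lit 6, nat_lit 3, nat_lit 1, nat_lit 2], [[nat_lit 99]]))))))))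
 (.node (nat_lit 393) (.node (nat_lit 380) (.node (nat_lit 373) (.node (nat_lit 370) (.node (nat_lit 368) (.leaf ((nat_lit 1), [nat_lit 4, nat_lit 5, nat_lit 4, nat_lit 1, nat_lit 5, nat_lit 1], [[nat_lit 99]])) (.node (nat_lit 369) (.leaf ((nat_lit 1), [nat_lit 4, nat_lit 3, nat_lit 5, nat_lit 2, nat_lit 0, nat_lit 3, nat_lit 1], [[nat_lit 99]])) (.leaf ((nat_lit 1), [nat_lit 2, nat_lit 0, nat_lit 5, nat_lit 6, nat_lit 4, nat_lit 1, nat_lit 3], [[nat_lit 99, nat_lit 99, nat_lit 99, nat_lit 1]])))) (.node (nat_lit 371) (.leaf ((nat_lit 1), [nat_lit 1, nat_lit 4, nat_lit 0, nat_lit 6, nat_lit 4, nat_lit 0, nat_lit 2], [[nat_lit 99, nat_lit 0, nat_lit 0]])) (.node (nat_lit 372) (.leaf ((nat_lit 1), [nat_lit 2, nat_lit 5, nat_lit 4, nat_lit 6, nat_lit 3, nat_lit 0], [[nat_lit 99, nat_lit 1, nat_lit 1]])) (.leaf ((nat_lit 1), [nat_lit 4, nat_lit 2, nat_lit 5, nat_lit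 0, nat_lit 6, nat_lit 0], [[nat_lit 99, nat_lit 0]])))))
 (.node (nat_lit 376) (.node (nat_lit 374) (.leaf ((nat_lit 1), [nat_lit 0, nat_lit 5, nat_lit 6, nat_lit 4, nat_lit 0, nat_lit 2], [[nat_lit 99, nat_lit 0]])) (.node (nat_lit 375) (.leaf ((nat_lit 1), [nat_lit 0, nat_lit 3, nat_lit 6, nat_lit 2, nat_lit 4, nat_lit 5, nat_lit 2, nat_lit 0], [[nat_lit 99, nat_lit 99, nat_lit 99]])) (.leaf ((nat_lit 1), [nat_lit 4, nat_lit 6, nat_lit 5, nat_lit 4], [[nat_lit 99, nat_lit 1, nat_lit 1, nat_lit 1]]))))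
 (.node (nat_lit 378) (.node (nat_lit 377) (.leaf ((nat_lit 1), [nat_lit 2, nat_lit 6, nat_lit 2, nat_lit 6, nat_lit 5, nat_lit 4, nat_lit 1], [[nat_lit 99, nat_lit 99, nat_lit 0]])) (.leaf ((nat_lit 1), [nat_lit 4, nat_lit 2, nat_lit 0, nat_lit 5, nat_lit 1, nat_lit 6, nat_lit 0], [[nat_lit 99, nat_lit 1, nat_lit 1]]))) (.node (nat_lit 379) (.leaf ((nat_lit 1), [nat_lit 4, nat_lit 3, nat_lit 6, nat_lit 5, nat_lit 0, nat_lit 3, nat_lit 4], [[nat_lit 99, nat_lit 99, nat_lit 99]])) (.leaf ((nat_lit 1), [nat_lit 0, nat_lit 3, nat_lit 2, nat_lit 6, nat_lit 5, nat_lit 1, nat_lit 3], [[nat_lit 99, nat_lit 99, nat_lit 0]]))))))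
 (.node (nat_lit 386) (.node (nat_lit 383) (.node (nat_lit 381) (.leaf ((nat_lit 1), [nat_lit 0, nat_lit 3, nat_lit 6, nat_lit 1, nat_lit 3, nat_lit 0, nat_lit 4], [[nat_lit 99, nat_lit 0, nat_lit 0]])) (.node (nat_lit 382) (.leaf ((nat_lit 1), [nat_lit 4, nat_lit 1, nat_lit 5, nat_lit 1, nat_lit 3], [[nat_lit 99, nat_lit 0, nat_lit 99, nat_lit 0, nat_lit 0]])) (.leaf ((nat_lit 1), [nat_lit 3, nat_lit 1, nat_lit 4, nat_lit 6, nat_lit 1, nat_lit 5, nat_lit 0], [[nat_lit 99, nat_lit 1, nat_lit 99, nat_lit 99, nat_lit 0]])))) (.node (nat_lit 384) (.leaf ((nat_lit 1), [nat_lit 2, nat_lit 4, nat_lit 0, nat_lit 5, nat_lit 0, nat_lit 4], [[nat_lit 99, nat_lit 99, nat_lit 0]])) (.node (nat_lit 385) (.leaf ((nat_lit 1), [nat_lit 6, nat_lit 1, nat_lit 6, nat_lit 2, nat_lit 4, nat_lit 2, nat_lit 5, nat_lit 0], [[nat_lit 99, nat_lit 99, nat_lit 1]])) (.leaf ((nat_lit 1), [nat_lit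 4, nat_lit 5, nat_lit 3, nat_lit 5, nat_lit 0, nat_lit 6, nat_lit 3, nat_lit 0], [[nat_lit 99, nat_lit 1, nat_lit 1]])))))
 (.node (nat_lit 389) (.node (nat_lit 387) (.leaf ((nat_lit 1), [nat_lit 4, nat_lit 5, nat_lit 4, nat_lit 1, nat_lit 3, nat_lit 5, nat_lit 3], [[nat_lit 99, nat_lit 0]])) (.node (nat_lit 388) (.leaf ((nat_lit 1), [nat_lit 2, nat_lit 6, nat_lit 1, nat_lit 4, nat_lit 3, nat_lit 0, nat_lit 4], [[nat_lit 99, nat_lit 1]])) (.leaf ((nat_lit 1), [nat_lit 6, nat_lit 2, nat_lit 1, nat_lit 6, nat_lit 0, nat_lit 2, nat_lit 0], [[nat_lit 99, nat_lit 99, nat_lit 99, nat_lit 0]]))))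
 (.node (nat_lit 391) (.node (nat_lit 390) (.leaf ((nat_lit 1), [nat_lit 1, nat_lit 6, nat_lit 3, nat_lit 0, nat_lit 6, nat_lit 5, nat_lit 0], [[nat_lit 99]])) (.leaf ((nat_lit 1), [nat_lit 5, nat_lit 3, nat_lit 6, nat_lit 1, nat_lit 6], [[nat_lit 99, nat_lit 0]]))) (.node (nat_lit 392) (.leaf ((nat_lit 1), [nat_lit 2, nat_lit 0, nat_lit 6, nat_lit 4, nat_lit 1, nat_lit 6, nat_lit 1], [[nat_lit 99, nat_lit 0]])) (.leaf ((nat_lit 1), [nat_lit 1, nat_lit 4, nat_lit 2, nat_lit 4, nat_lit 5, nat_lit 2], [[nat_lit 99, nat_lit 99, nat_lit 1]])))))))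
 (.node (nat_lit 406) (.node (nat_lit 399) (.node (nat_lit 396) (.node (nat_lit 394) (.leaf ((nat_lit 1), [nat_lit 4, nat_lit 6, nat_lit 1, nat_lit 4, nat_lit 3, nat_lit 6], [[nat_lit 99, nat_lit 99, nat_lit 99]])) (.node (nat_lit 395) (.leaf ((nat_lit 1), [nat_lit 4, nat_lit 0, nat_lit 5, nat_lit 6, nat_lit 5, nat_lit 0, nat_lit 2], [[nat_lit 99, nat_lit 99, nat_lit 0, nat_lit 0]])) (.leaf ((nat_lit 1), [nat_lit 3, nat_lit 1, nat_lit 5, nat_lit 1, nat_lit 3, nat_lit 6, nat_lit 1], [[nat_lit 99, nat_lit 1]])))) (.node (nat_lit 397) (.leaf ((nat_lit 1), [nat_lit 6, nat_lit 5, nat_lit 1, nat_lit 3, nat_lit 2, nat_lit 1], [[nat_lit 99, nat_lit 1]])) (.node (nat_lit 398) (.leaf ((nat_lit 1), [nat_lit 2, nat_lit 4, nat_lit 1, nat_lit 6, nat_lit 4], [[nat_lit 99, nat_lit 0]])) (.leaf ((nat_lit 1), [nat_lit 4, nat_lit 3, nat_lit 5, nat_lit 2, nat_lit 6, nat_lit 0, nat_lit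 4], [[nat_lit 99, nat_lit 0]])))))
 (.node (nat_lit 402) (.node (nat_lit 400) (.leaf ((nat_lit 1), [nat_lit 4, nat_lit 1, nat_lit 6], [[nat_lit 99, nat_lit 1, nat_lit 1]])) (.node (nat_lit 401) (.leaf ((nat_lit 1), [nat_lit 3, nat_lit 4, nat_lit 2, nat_lit 5, nat_lit 2, nat_lit 0], [[nat_lit 99, nat_lit 0, nat_lit 99, nat_lit 0, nat_lit 0]])) (.leaf ((nat_lit 1), [nat_lit 1, nat_lit 6, nat_lit 5, nat_lit 0, nat_lit 4, nat_lit 2, nat_lit 6], [[nat_lit 99, nat_lit 1, nat_lit 1, nat_lit 1]]))))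
 (.node (nat_lit 404) (.node (nat_lit 403) (.leaf ((nat_lit 1), [nat_lit 3, nat_lit 0, nat_lit 5, nat_lit 6, nat_lit 2, nat_lit 5, nat_lit 3], [[nat_lit 99, nat_lit 1, nat_lit 99, nat_lit 0]])) (.leaf ((nat_lit 1), [nat_lit 0, nat_lit 5, nat_lit 2, nat_lit 0, nat_lit 3, nat_lit 6, nat_lit 4, nat_lit 0], [[nat_lit 99, nat_lit 0]]))) (.node (nat_lit 405) (.leaf ((nat_lit 1), [nat_lit 2, nat_lit 5, nat_lit 6, nat_lit 1, nat_lit 5, nat_lit 3, nat_lit 5, nat_lit 2], [[nat_lit 99, nat_lit 1, nat_lit 99, nat_lit 1, nat_lit 1]])) (.leaf ((nat_lit 1), [nat_lit 5, nat_lit 4, nat_lit 3, nat_lit 4, nat_lit 0, nat_lit 5, nat_lit 0], [[nat_lit 99, nat_lit 0, nat_lit 0]]))))))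
 (.node (nat_lit 413) (.node (nat_lit 409) (.node (nat_lit 407) (.leaf ((nat_lit 1), [nat_lit 5, nat_lit 6, nat_lit 2, nat_lit 5, nat_lit 4, nat_lit 3, nat_lit 4, nat_lit 1], [[nat_lit 99, nat_lit 99, nat_lit 1, nat_lit 1, nat_lit 99, nat_lit 0]])) (.node (nat_lit 408) (.leaf ((nat_lit 1), [nat_lit 0, nat_lit 4, nat_lit 6, nat_lit 5, nat_lit 2, nat_lit 6, nat_lit 0], [[nat_lit 99, nat_lit 1, nat_lit 1]])) (.leaf ((nat_lit 1), [nat_lit 0, nat_lit 4, nat_lit 5, nat_lit 1, nat_lit 3, nat_lit 6, nat_lit 0], [[nat_lit 99, nat_lit 99, nat_lit 0]]))))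
 (.node (nat_lit 411) (.node (nat_lit 410) (.leaf ((nat_lit 1), [nat_lit 6, nat_lit 5, nat_lit 4, nat_lit 2, nat_lit 4, nat_lit 5], [[nat_lit 99, nat_lit 1, nat_lit 99, nat_lit 0]])) (.leaf ((nat_lit 1), [nat_lit 2, nat_lit 6, nat_lit 0, nat_lit 5, nat_lit 0, nat_lit 4, nat_lit 2], [[nat_lit 99]]))) (.node (nat_lit 412) (.leaf ((nat_lit 1), [nat_lit 3, nat_lit 1, nat_lit 6, nat_lit 0, nat_lit 4, nat_lit 2, nat_lit 1], [[nat_lit 99]])) (.leaf ((nat_lit 1), [nat_lit 5, nat_lit 2, nat_lit 4, nat_lit 1, nat_lit 5, nat_lit 3], [[nat_lit 99]])))))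
 (.node (nat_lit 416) (.node (nat_lit 414) (.leaf ((nat_lit 1), [nat_lit 3, nat_lit 6, nat_lit 3, nat_lit 5, nat_lit 3, nat_lit 0, nat_lit 6], [[nat_lit 99, nat_lit 0, nat_lit 0]])) (.node (nat_lit 415) (.leaf ((nat_lit 1), [nat_lit 4, nat_lit 0, nat_lit 3, nat_lit 2, nat_lit 4, nat_lit 6, nat_lit 5], [[nat_lit 99, nat_lit 99, nat_lit 0, nat_lit 0, nat_lit 0, nat_lit 0]])) (.leaf ((nat_lit 1), [nat_lit 3, nat_lit 0, nat_lit 5, nat_lit 2, nat_lit 0, nat_lit 4, nat_lit 3], [[nat_lit 99, nat_lit 0, nat_lit 0]]))))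
 (.node (nat_lit 418) (.node (nat_lit 417) (.leaf ((nat_lit 1), [nat_lit 5, nat_lit 4, nat_lit 0, nat_lit 5, nat_lit 6, nat_lit 3, nat_lit 2, nat_lit 1], [[nat_lit 99, nat_lit 1]])) (.leaf ((nat_lit 1), [nat_lit 0, nat_lit 6, nat_lit 2, nat_lit 6, nat_lit 1, nat_lit 2], [[nat_lit 99, nat_lit 99, nat_lit 99]]))) (.node (nat_lit 419) (.leaf ((nat_lit 1), [nat_lit 4, nat_lit 0, nat_lit 3, nat_lit 6, nat_lit 0, nat_lit 5, nat_lit 1], [[nat_lit 99, nat_lit 0]])) (.leaf ((nat_lit 1), [nat_lit 1, nat_lit 4, nat_lit 1, nat_lit 6, nat_lit 1, nat_lit 2, nat_lit 0], [[nat_lit 99, nat_lit 0]]))))))))))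
noncomputable def eCE_2 : Tr (ℕ × List ℕ × List (List ℕ)) := (.node (nat_lit 525) (.node (nat_lit 472) (.node (nat_lit 446) (.node (nat_lit 433) (.node (nat_lit 426) (.node (nat_lit 423) (.node (nat_lit 421) (.leaf ((nat_lit 1), [nat_lit 4, nat_lit 5, nat_lit 1, nat_lit 5, nat_lit 2, nat_lit 0], [[nat_lit 99, nat_lit 0]])) (.node (nat_lit 422) (.leaf ((nat_lit 1), [nat_lit 4, nat_lit 5, nat_lit 0, nat_lit 6, nat_lit 5, nat_lit 1], [[nat_lit 99, nat_lit 1, nat_lit 99, nat_lit 0]])) (.leaf ((nat_lit 1), [nat_lit 0, nat_lit 3, nat_lit 2, nat_lit 4, nat_lit 0, nat_lit 5], [[nat_lit 99, nat_lit 1, nat_lit 1]])))) (.node (nat_lit 424) (.leaf ((nat_lit 1), [nat_lit 1, nat_lit 5, nat_lit 0, nat_lit 4, nat_lit 6, nat_lit 4, nat_lit 5, nat_lit 0], [[nat_lit 99, nat_lit 1, nat_lit 99, nat_lit 0]])) (.node (nat_lit 425) (.leaf ((nat_lit 1), [nat_lit 4, nat_lit 6, nat_lit 0,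 nat_lit 4], [[nat_lit 99, nat_lit 1]])) (.leaf ((nat_lit 1), [nat_lit 3, nat_lit 5, nat_lit 1, nat_lit 5, nat_lit 2], [[nat_lit 99, nat_lit 99, nat_lit 0]])))))
 (.node (nat_lit 429) (.node (nat_lit 427) (.leaf ((nat_lit 1), [nat_lit 4, nat_lit 5, nat_lit 6, nat_lit 1, nat_lit 3, nat_lit 2], [[nat_lit 99, nat_lit 1]])) (.node (nat_lit 428) (.leaf ((nat_lit 1), [nat_lit 0, nat_lit 3, nat_lit 5, nat_lit 3, nat_lit 6, nat_lit 4], [[nat_lit 99, nat_lit 0, nat_lit 0]])) (.leaf ((nat_lit 1), [nat_lit 3, nat_lit 4, nat_lit 5, nat_lit 4, nat_lit 1, nat_lit 6], [[nat_lit 99, nat_lit 0, nat_lit 0, nat_lit 0]]))))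
 (.node (nat_lit 431) (.node (nat_lit 430) (.leaf ((nat_lit 1), [nat_lit 0, nat_lit 2, nat_lit 4, nat_lit 5, nat_lit 3, nat_lit 6, nat_lit 0], [[nat_lit 99, nat_lit 99, nat_lit 1, nat_lit 99, nat_lit 0]])) (.leaf ((nat_lit 1), [nat_lit 5, nat_lit 3, nat_lit 1, nat_lit 6, nat_lit 0, nat_lit 4, nat_lit 1], [[nat_lit 99, nat_lit 99, nat_lit 99, nat_lit 0]]))) (.node (nat_lit 432) (.leaf ((nat_lit 1), [nat_lit 1, nat_lit 6, nat_lit 0, nat_lit 4, nat_lit 1], [[nat_lit 99, nat_lit 1, nat_lit 1, nat_lit 1]])) (.leaf ((nat_lit 1), [nat_lit 5, nat_lit 1, nat_lit 6, nat_lit 2, nat_lit 4, nat_lit 5, nat_lit 3], [[nat_lit 99, nat_lit 99, nat_lit 1]]))))))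
 (.node (nat_lit 439) (.node (nat_lit 436) (.node (nat_lit 434) (.leaf ((nat_lit 1), [nat_lit 2, nat_lit 5, nat_lit 6, nat_lit 0, nat_lit 4], [[nat_lit 99, nat_lit 0]])) (.node (nat_lit 435) (.leaf ((nat_lit 1), [nat_lit 5, nat_lit 1, nat_lit 5, nat_lit 6, nat_lit 2, nat_lit 5, nat_lit 0], [[nat_lit 99]])) (.leaf ((nat_lit 1), [nat_lit 3, nat_lit 5, nat_lit 1, nat_lit 4, nat_lit 6, nat_lit 3, nat_lit 2], [[nat_lit 99, nat_lit 0, nat_lit 0]])))) (.node (nat_lit 437) (.leaf ((nat_lit 1), [nat_lit 2, nat_lit 0, nat_lit 5, nat_lit 6, nat_lit 0, nat_lit 3], [[nat_lit 99, nat_lit 0, nat_lit 0]])) (.node (nat_lit 438) (.leaf ((nat_lit 1), [nat_lit 1, nat_lit 3, nat_lit 6, nat_lit 0, nat_lit 3, nat_lit 2, nat_lit 6], [[nat_lit 99, nat_lit 0, nat_lit 0]])) (.leaf ((nat_lit 1), [nat_lit 3, nat_lit 6, nat_lit 5, nat_lit 0, nat_lit 4, nat_lit 3, nat_lit 5, nat_lit 1], [[nat_lit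 99, nat_lit 0]])))))
 (.node (nat_lit 442) (.node (nat_lit 440) (.leaf ((nat_lit 1), [nat_lit 4, nat_lit 5, nat_lit 6, nat_lit 5, nat_lit 2, nat_lit 6], [[nat_lit 99, nat_lit 99, nat_lit 1]])) (.node (nat_lit 441) (.leaf ((nat_lit 1), [nat_lit 0, nat_lit 3, nat_lit 5, nat_lit 0, nat_lit 3, nat_lit 6, nat_lit 3], [[nat_lit 99, nat_lit 99, nat_lit 1]])) (.leaf ((nat_lit 1), [nat_lit 5, nat_lit 3, nat_lit 6, nat_lit 0], [[nat_lit 99, nat_lit 99, nat_lit 0, nat_lit 99, nat_lit 0, nat_lit 0]]))))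
 (.node (nat_lit 444) (.node (nat_lit 443) (.leaf ((nat_lit 1), [nat_lit 6, nat_lit 1, nat_lit 5, nat_lit 3, nat_lit 4, nat_lit 5, nat_lit 1], [[nat_lit 99, nat_lit 99, nat_lit 0]])) (.leaf ((nat_lit 1), [nat_lit 4, nat_lit 2, nat_lit 1, nat_lit 3, nat_lit 1, nat_lit 6, nat_lit 2, nat_lit 0], [[nat_lit 99, nat_lit 99, nat_lit 99, nat_lit 0]]))) (.node (nat_lit 445) (.leaf ((nat_lit 1), [nat_lit 0, nat_lit 4, nat_lit 2, nat_lit 6, nat_lit 5, nat_lit 3, nat_lit 2, nat_lit 0], [[nat_lit 99, nat_lit 1]])) (.leaf ((nat_lit 1), [nat_lit 1, nat_lit 5, nat_lit 0, nat_lit 2, nat_lit 4], [[nat_lit 99, nat_lit 1, nat_lit 1]])))))))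
 (.node (nat_lit 459) (.node (nat_lit 452) (.node (nat_lit 449) (.node (nat_lit 447) (.leaf ((nat_lit 1), [nat_lit 4, nat_lit 3, nat_lit 5, nat_lit 0, nat_lit 3], [[nat_lit 99, nat_lit 99, nat_lit 1]])) (.node (nat_lit 448) (.leaf ((nat_lit 1), [nat_lit 0, nat_lit 6, nat_lit 5, nat_lit 2, nat_lit 6, nat_lit 0, nat_lit 5], [[nat_lit 99, nat_lit 0]])) (.leaf ((nat_lit 1), [nat_lit 3, nat_lit 0, nat_lit 2, nat_lit 0, nat_lit 4, nat_lit 0], [[nat_lit 99, nat_lit 99, nat_lit 1]])))) (.node (nat_lit 450) (.leaf ((nat_lit 1), [nat_lit 2, nat_lit 4, nat_lit 5, nat_lit 6, nat_lit 1, nat_lit 6, nat_lit 3], [[nat_lit 99, nat_lit 99, nat_lit 1, nat_lit 1, nat_lit 99, nat_lit 0, nat_lit 0]])) (.node (nat_lit 451) (.leaf ((nat_lit 1), [nat_lit 0, nat_lit 3, nat_lit 5, nat_lit 6, nat_lit 5, nat_lit 1, nat_lit 2], [[nat_lit 99, nat_lit 0, nat_lit 0, nat_lit 0]])) (.leaf ((nat_lit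 1), [nat_lit 5, nat_lit 6, nat_lit 4, nat_lit 0, nat_lit 3, nat_lit 0, nat_lit 5], [[nat_lit 99, nat_lit 1]])))))
 (.node (nat_lit 455) (.node (nat_lit 453) (.leaf ((nat_lit 1), [nat_lit 6, nat_lit 3, nat_lit 1, nat_lit 6, nat_lit 5, nat_lit 0, nat_lit 4], [[nat_lit 99, nat_lit 99, nat_lit 1, nat_lit 1]])) (.node (nat_lit 454) (.leaf ((nat_lit 1), [nat_lit 1, nat_lit 3, nat_lit 0, nat_lit 6, nat_lit 0, nat_lit 3, nat_lit 0], [[nat_lit 99]])) (.leaf ((nat_lit 1), [nat_lit 6, nat_lit 5, nat_lit 0, nat_lit 2, nat_lit 4, nat_lit 5], [[nat_lit 99, nat_lit 1]]))))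
 (.node (nat_lit 457) (.node (nat_lit 456) (.leaf ((nat_lit 1), [nat_lit 6, nat_lit 0, nat_lit 3, nat_lit 5, nat_lit 0, nat_lit 3, nat_lit 0], [[nat_lit 99, nat_lit 1, nat_lit 99, nat_lit 0]])) (.leaf ((nat_lit 1), [nat_lit 1, nat_lit 6, nat_lit 0, nat_lit 3, nat_lit 2, nat_lit 5, nat_lit 0], [[nat_lit 99, nat_lit 0, nat_lit 0, nat_lit 0]]))) (.node (nat_lit 458) (.leaf ((nat_lit 1), [nat_lit 6, nat_lit 1, nat_lit 3, nat_lit 2, nat_lit 1, nat_lit 4, nat_lit 1], [[nat_lit 99, nat_lit 0]])) (.leaf ((nat_lit 1), [nat_lit 0, nat_lit 6, nat_lit 2, nat_lit 6, nat_lit 0, nat_lit 2], [[nat_lit 99, nat_lit 99, nat_lit 1, nat_lit 1]]))))))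
 (.node (nat_lit 465) (.node (nat_lit 462) (.node (nat_lit 460) (.leaf ((nat_lit 1), [nat_lit 6, nat_lit 1, nat_lit 5, nat_lit 2, nat_lit 4, nat_lit 2, nat_lit 1], [[nat_lit 99, nat_lit 1]])) (.node (nat_lit 461) (.leaf ((nat_lit 1), [nat_lit 5, nat_lit 1, nat_lit 2, nat_lit 0, nat_lit 4], [[nat_lit 99, nat_lit 99, nat_lit 0]])) (.leaf ((nat_lit 1), [nat_lit 1, nat_lit 6, nat_lit 3, nat_lit 6, nat_lit 3, nat_lit 4, nat_lit 1], [[nat_lit 99, nat_lit 0, nat_lit 0]])))) (.node (nat_lit 463) (.leaf ((nat_lit 1), [nat_lit 0, nat_lit 6, nat_lit 3, nat_lit 5, nat_lit 1, nat_lit 3], [[nat_lit 99, nat_lit 99, nat_lit 1]])) (.node (nat_lit 464) (.leaf ((nat_lit 1), [nat_lit 3, nat_lit 4, nat_lit 2, nat_lit 4, nat_lit 1, nat_lit 6, nat_lit 2], [[nat_lit 99, nat_lit 1, nat_lit 1]])) (.leaf ((nat_lit 1), [nat_lit 6, nat_lit 5, nat_lit 1, nat_lit 2, nat_lit 6, nat_lit 2], [[nat_lit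 99, nat_lit 99, nat_lit 0]])))))
 (.node (nat_lit 468) (.node (nat_lit 466) (.leaf ((nat_lit 1), [nat_lit 3, nat_lit 4, nat_lit 2, nat_lit 0, nat_lit 5, nat_lit 6, nat_lit 4, nat_lit 0], [[nat_lit 99, nat_lit 1, nat_lit 1, nat_lit 1]])) (.node (nat_lit 467) (.leaf ((nat_lit 1), [nat_lit 1, nat_lit 5, nat_lit 4, nat_lit 2, nat_lit 0], [[nat_lit 99, nat_lit 1, nat_lit 99, nat_lit 0]])) (.leaf ((nat_lit 1), [nat_lit 1, nat_lit 6, nat_lit 5, nat_lit 4, nat_lit 0, nat_lit 6, nat_lit 1], [[nat_lit 99, nat_lit 99, nat_lit 0, nat_lit 0]]))))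
 (.node (nat_lit 470) (.node (nat_lit 469) (.leaf ((nat_lit 1), [nat_lit 1, nat_lit 5, nat_lit 4, nat_lit 6, nat_lit 0, nat_lit 5, nat_lit 2], [[nat_lit 99, nat_lit 0, nat_lit 0, nat_lit 0]])) (.leaf ((nat_lit 1), [nat_lit 3, nat_lit 6, nat_lit 5, nat_lit 4, nat_lit 6, nat_lit 0, nat_lit 2, nat_lit 0], [[nat_lit 99, nat_lit 99, nat_lit 99]]))) (.node (nat_lit 471) (.leaf ((nat_lit 1), [nat_lit 2, nat_lit 5, nat_lit 0, nat_lit 6, nat_lit 5, nat_lit 4, nat_lit 1], [[nat_lit 99]])) (.leaf ((nat_lit 1), [nat_lit 0, nat_lit 6, nat_lit 5, nat_lit 2, nat_lit 4, nat_lit 5, nat_lit 3], [[nat_lit 99, nat_lit 0]]))))))))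
 (.node (nat_lit 498) (.node (nat_lit 485) (.node (nat_lit 478) (.node (nat_lit 475) (.node (nat_lit 473) (.leaf ((nat_lit 1), [nat_lit 3, nat_lit 6, nat_lit 5, nat_lit 0, nat_lit 3, nat_lit 0], [[nat_lit 99, nat_lit 0]])) (.node (nat_lit 474) (.leaf ((nat_lit 1), [nat_lit 1, nat_lit 3, nat_lit 2, nat_lit 6, nat_lit 3, nat_lit 5, nat_lit 2, nat_lit 0], [[nat_lit 99, nat_lit 0]])) (.leaf ((nat_lit 1), [nat_lit 1, nat_lit 6, nat_lit 1, nat_lit 2, nat_lit 0, nat_lit 5, nat_lit 2, nat_lit 0], [[nat_lit 99, nat_lit 0, nat_lit 0]])))) (.node (nat_lit 476) (.leaf ((nat_lit 1), [nat_lit 1, nat_lit 6, nat_lit 2, nat_lit 5, nat_lit 1, nat_lit 5, nat_lit 2], [[nat_lit 99, nat_lit 99, nat_lit 0, nat_lit 0]])) (.node (nat_lit 477) (.leaf ((nat_lit 1), [nat_lit 5, nat_lit 4, nat_lit 3, nat_lit 1, nat_lit 5, nat_lit 6, nat_lit 1], [[nat_lit 99, nat_lit 99, nat_lit 0]])) (.leaf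 ((nat_lit 1), [nat_lit 2, nat_lit 1, nat_lit 5, nat_lit 4, nat_lit 6, nat_lit 4], [[nat_lit 99, nat_lit 0, nat_lit 0]])))))
 (.node (nat_lit 481) (.node (nat_lit 479) (.leaf ((nat_lit 1), [nat_lit 3, nat_lit 2, nat_lit 1, nat_lit 4, nat_lit 0, nat_lit 6, nat_lit 5], [[nat_lit 99, nat_lit 1]])) (.node (nat_lit 480) (.leaf ((nat_lit 1), [nat_lit 4, nat_lit 3, nat_lit 5, nat_lit 4, nat_lit 1, nat_lit 6, nat_lit 1], [[nat_lit 99, nat_lit 0]])) (.leaf ((nat_lit 1), [nat_lit 1, nat_lit 4, nat_lit 3, nat_lit 2, nat_lit 6, nat_lit 2], [[nat_lit 99, nat_lit 99, nat_lit 0, nat_lit 0, nat_lit 0]]))))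
 (.node (nat_lit 483) (.node (nat_lit 482) (.leaf ((nat_lit 1), [nat_lit 5, nat_lit 1, nat_lit 3, nat_lit 2, nat_lit 6, nat_lit 3], [[nat_lit 99, nat_lit 0, nat_lit 0]])) (.leaf ((nat_lit 1), [nat_lit 1, nat_lit 4, nat_lit 5, nat_lit 6, nat_lit 1, nat_lit 5, nat_lit 0], [[nat_lit 99, nat_lit 99, nat_lit 0]]))) (.node (nat_lit 484) (.leaf ((nat_lit 1), [nat_lit 2, nat_lit 0, nat_lit 4, nat_lit 0, nat_lit 2, nat_lit 6], [[nat_lit 99, nat_lit 99, nat_lit 1]])) (.leaf ((nat_lit 1), [nat_lit 0, nat_lit 2, nat_lit 6, nat_lit 5, nat_lit 1, nat_lit 6, nat_lit 2, nat_lit 1], [[nat_lit 99, nat_lit 0]]))))))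
 (.node (nat_lit 491) (.node (nat_lit 488) (.node (nat_lit 486) (.leaf ((nat_lit 1), [nat_lit 2, nat_lit 0, nat_lit 4, nat_lit 1, nat_lit 5, nat_lit 4], [[nat_lit 99]])) (.node (nat_lit 487) (.leaf ((nat_lit 1), [nat_lit 0, nat_lit 5, nat_lit 1, nat_lit 6, nat_lit 0, nat_lit 3, nat_lit 2], [[nat_lit 99, nat_lit 0, nat_lit 0, nat_lit 0]])) (.leaf ((nat_lit 1), [nat_lit 0, nat_lit 3, nat_lit 6, nat_lit 4, nat_lit 1, nat_lit 2, nat_lit 4], [[nat_lit 99, nat_lit 99, nat_lit 1]])))) (.node (nat_lit 489) (.leaf ((nat_lit 1), [nat_lit 3, nat_lit 2, nat_lit 4, nat_lit 2, nat_lit 5, nat_lit 3, nat_lit 0], [[nat_lit 99, nat_lit 1, nat_lit 1, nat_lit 1]])) (.node (nat_lit 490) (.leaf ((nat_lit 1), [nat_lit 3, nat_lit 4, nat_lit 3, nat_lit 4, nat_lit 5, nat_lit 6, nat_lit 3], [[nat_lit 99, nat_lit 99, nat_lit 99]])) (.leaf ((nat_lit 1), [nat_lit 6, nat_lit 5, nat_lit 1, nat_lit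 5, nat_lit 3, nat_lit 4], [[nat_lit 99, nat_lit 0, nat_lit 0]])))))
 (.node (nat_lit 494) (.node (nat_lit 492) (.leaf ((nat_lit 1), [nat_lit 6, nat_lit 3, nat_lit 6, nat_lit 1, nat_lit 6, nat_lit 5], [[nat_lit 99, nat_lit 0]])) (.node (nat_lit 493) (.leaf ((nat_lit 1), [nat_lit 4, nat_lit 1, nat_lit 2, nat_lit 4, nat_lit 5, nat_lit 0], [[nat_lit 99, nat_lit 1]])) (.leaf ((nat_lit 1), [nat_lit 6, nat_lit 0, nat_lit 5, nat_lit 0, nat_lit 2, nat_lit 5], [[nat_lit 99, nat_lit 1, nat_lit 1]]))))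
 (.node (nat_lit 496) (.node (nat_lit 495) (.leaf ((nat_lit 1), [nat_lit 5, nat_lit 2, nat_lit 4, nat_lit 6, nat_lit 3, nat_lit 1, nat_lit 2], [[nat_lit 99, nat_lit 99, nat_lit 1]])) (.leaf ((nat_lit 1), [nat_lit 6, nat_lit 2, nat_lit 4, nat_lit 5, nat_lit 1, nat_lit 5, nat_lit 0], [[nat_lit 99]]))) (.node (nat_lit 497) (.leaf ((nat_lit 1), [nat_lit 5, nat_lit 0, nat_lit 6, nat_lit 5, nat_lit 3, nat_lit 0, nat_lit 2], [[nat_lit 99, nat_lit 1, nat_lit 1]])) (.leaf ((nat_lit 1), [nat_lit 1, nat_lit 5, nat_lit 1, nat_lit 6, nat_lit 1, nat_lit 2], [[nat_lit 99, nat_lit 99, nat_lit 99]])))))))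
 (.node (nat_lit 511) (.node (nat_lit 504) (.node (nat_lit 501) (.node (nat_lit 499) (.leaf ((nat_lit 1), [nat_lit 2, nat_lit 1, nat_lit 5, nat_lit 6, nat_lit 5, nat_lit 0, nat_lit 2], [[nat_lit 99, nat_lit 0]])) (.node (nat_lit 500) (.leaf ((nat_lit 1), [nat_lit 6, nat_lit 1, nat_lit 3, nat_lit 4, nat_lit 0, nat_lit 6, nat_lit 0], [[nat_lit 99]])) (.leaf ((nat_lit 1), [nat_lit 2, nat_lit 5, nat_lit 1, nat_lit 2, nat_lit 6, nat_lit 5, nat_lit 2], [[nat_lit 99, nat_lit 0, nat_lit 0]])))) (.node (nat_lit 502) (.leaf ((nat_lit 1), [nat_lit 5, nat_lit 2, nat_lit 1, nat_lit 3, nat_lit 6, nat_lit 0, nat_lit 3], [[nat_lit 99, nat_lit 99, nat_lit 99, nat_lit 99, nat_lit 0]])) (.node (nat_lit 503) (.leaf ((nat_lit 1), [nat_lit 4, nat_lit 0, nat_lit 6, nat_lit 5, nat_lit 2, nat_lit 6, nat_lit 0], [[nat_lit 99, nat_lit 0]])) (.leaf ((nat_lit 1), [nat_lit 6, nat_lit 4, nat_lit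 2, nat_lit 5, nat_lit 0, nat_lit 5, nat_lit 2, nat_lit 0], [[nat_lit 99, nat_lit 99, nat_lit 0]])))))
 (.node (nat_lit 507) (.node (nat_lit 505) (.leaf ((nat_lit 1), [nat_lit 5, nat_lit 4, nat_lit 6, nat_lit 4, nat_lit 0, nat_lit 5, nat_lit 1], [[nat_lit 99, nat_lit 0, nat_lit 0, nat_lit 0]])) (.node (nat_lit 506) (.leaf ((nat_lit 1), [nat_lit 4, nat_lit 6, nat_lit 4, nat_lit 2, nat_lit 1, nat_lit 3], [[nat_lit 99, nat_lit 0, nat_lit 0]])) (.leaf ((nat_lit 1), [nat_lit 5, nat_lit 6, nat_lit 5, nat_lit 0, nat_lit 5, nat_lit 6, nat_lit 2], [[nat_lit 99]]))))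
 (.node (nat_lit 509) (.node (nat_lit 508) (.leaf ((nat_lit 1), [nat_lit 3, nat_lit 6, nat_lit 3, nat_lit 0, nat_lit 6, nat_lit 0, nat_lit 3], [[nat_lit 99, nat_lit 99, nat_lit 99, nat_lit 99, nat_lit 0]])) (.leaf ((nat_lit 1), [nat_lit 3, nat_lit 0, nat_lit 6, nat_lit 3, nat_lit 4, nat_lit 0], [[nat_lit 99]]))) (.node (nat_lit 510) (.leaf ((nat_lit 1), [nat_lit 5, nat_lit 4, nat_lit 1, nat_lit 2, nat_lit 6, nat_lit 1], [[nat_lit 99, nat_lit 99, nat_lit 1]])) (.leaf ((nat_lit 1), [nat_lit 2, nat_lit 0, nat_lit 3, nat_lit 6, nat_lit 3], [[nat_lit 99, nat_lit 99, nat_lit 0, nat_lit 0, nat_lit 0]]))))))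
 (.node (nat_lit 518) (.node (nat_lit 514) (.node (nat_lit 512) (.leaf ((nat_lit 1), [nat_lit 2, nat_lit 5, nat_lit 0, nat_lit 2, nat_lit 4, nat_lit 6], [[nat_lit 99, nat_lit 99, nat_lit 99, nat_lit 0]])) (.node (nat_lit 513) (.leaf ((nat_lit 1), [nat_lit 3, nat_lit 6, nat_lit 0, nat_lit 5, nat_lit 0, nat_lit 6, nat_lit 1, nat_lit 4], [[nat_lit 99, nat_lit 0, nat_lit 0]])) (.leaf ((nat_lit 1), [nat_lit 2, nat_lit 6, nat_lit 5, nat_lit 0, nat_lit 3], [[nat_lit 99]]))))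
 (.node (nat_lit 516) (.node (nat_lit 515) (.leaf ((nat_lit 1), [nat_lit 3, nat_lit 2, nat_lit 4, nat_lit 5, nat_lit 2, nat_lit 6], [[nat_lit 99, nat_lit 99, nat_lit 99, nat_lit 1]])) (.leaf ((nat_lit 1), [nat_lit 6, nat_lit 3, nat_lit 1, nat_lit 6, nat_lit 5, nat_lit 0, nat_lit 3], [[nat_lit 99, nat_lit 99, nat_lit 99]]))) (.node (nat_lit 517) (.leaf ((nat_lit 1), [nat_lit 5, nat_lit 3, nat_lit 2, nat_lit 6, nat_lit 2, nat_lit 6, nat_lit 3], [[nat_lit 99, nat_lit 1, nat_lit 1, nat_lit 1]])) (.leaf ((nat_lit 1), [nat_lit 4, nat_lit 3, nat_lit 4, nat_lit 1, nat_lit 6, nat_lit 4, nat_lit 2], [[nat_lit 99, nat_lit 99, nat_lit 1, nat_lit 99, nat_lit 0]])))))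
 (.node (nat_lit 521) (.node (nat_lit 519) (.leaf ((nat_lit 1), [nat_lit 0, nat_lit 4, nat_lit 6, nat_lit 3, nat_lit 5], [[nat_lit 99, nat_lit 0, nat_lit 0]])) (.node (nat_lit 520) (.leaf ((nat_lit 1), [nat_lit 0, nat_lit 6, nat_lit 3, nat_lit 2, nat_lit 6, nat_lit 5, nat_lit 2], [[nat_lit 99, nat_lit 1, nat_lit 1]])) (.leaf ((nat_lit 1), [nat_lit 2, nat_lit 0, nat_lit 3, nat_lit 5, nat_lit 3, nat_lit 1], [[nat_lit 99, nat_lit 99, nat_lit 1]]))))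
 (.node (nat_lit 523) (.node (nat_lit 522) (.leaf ((nat_lit 1), [nat_lit 3, nat_lit 6, nat_lit 3, nat_lit 0, nat_lit 6, nat_lit 0, nat_lit 3], [[nat_lit 99, nat_lit 99, nat_lit 0]])) (.leaf ((nat_lit 1), [nat_lit 5, nat_lit 6, nat_lit 3, nat_lit 6, nat_lit 2, nat_lit 4, nat_lit 2], [[nat_lit 99, nat_lit 1, nat_lit 99, nat_lit 0]]))) (.node (nat_lit 524) (.leaf ((nat_lit 1), [nat_lit 3, nat_lit 6, nat_lit 0, nat_lit 5, nat_lit 3, nat_lit 0], [[nat_lit 99]])) (.leaf ((nat_lit 1), [nat_lit 2, nat_lit 4, nat_lit 2, nat_lit 1, nat_lit 5, nat_lit 1, nat_lit 6], [[nat_lit 99, nat_lit 1]])))))))))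
 (.node (nat_lit 577) (.node (nat_lit 551) (.node (nat_lit 538) (.node (nat_lit 531) (.node (nat_lit 528) (.node (nat_lit 526) (.leaf ((nat_lit 1), [nat_lit 4, nat_lit 3, nat_lit 5, nat_lit 1, nat_lit 6, nat_lit 1], [[nat_lit 99]])) (.node (nat_lit 527) (.leaf ((nat_lit 1), [nat_lit 3, nat_lit 5, nat_lit 2, nat_lit 6, nat_lit 4, nat_lit 0, nat_lit 2], [[nat_lit 99, nat_lit 1, nat_lit 1, nat_lit 1, nat_lit 1]])) (.leaf ((nat_lit 1), [nat_lit 5, nat_lit 1, nat_lit 3, nat_lit 6, nat_lit 2, nat_lit 4], [[nat_lit 99, nat_lit 99, nat_lit 1]])))) (.node (nat_lit 529) (.leaf ((nat_lit 1), [nat_lit 1, nat_lit 5, nat_lit 0, nat_lit 4, nat_lit 3, nat_lit 1], [[nat_lit 99, nat_lit 0]])) (.node (nat_lit 530) (.leaf ((nat_lit 1), [nat_lit 0, nat_lit 4, nat_lit 3, nat_lit 0, nat_lit 6, nat_lit 0, nat_lit 2], [[nat_lit 99, nat_lit 0, nat_lit 99, nat_lit 0, nat_lit 0]])) (.leaf ((nat_lit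 1), [nat_lit 2, nat_lit 6, nat_lit 2, nat_lit 1, nat_lit 3], [[nat_lit 99, nat_lit 0, nat_lit 0]])))))
 (.node (nat_lit 534) (.node (nat_lit 532) (.leaf ((nat_lit 1), [nat_lit 2, nat_lit 5, nat_lit 6, nat_lit 0, nat_lit 4, nat_lit 6, nat_lit 2], [[nat_lit 99, nat_lit 1, nat_lit 1]])) (.node (nat_lit 533) (.leaf ((nat_lit 1), [nat_lit 0, nat_lit 4, nat_lit 2, nat_lit 5, nat_lit 0, nat_lit 6], [[nat_lit 99, nat_lit 99, nat_lit 1, nat_lit 1]])) (.leaf ((nat_lit 1), [nat_lit 2, nat_lit 5, nat_lit 2, nat_lit 6, nat_lit 5, nat_lit 3], [[nat_lit 99, nat_lit 0, nat_lit 0, nat_lit 0]]))))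
 (.node (nat_lit 536) (.node (nat_lit 535) (.leaf ((nat_lit 1), [nat_lit 4, nat_lit 3, nat_lit 4, nat_lit 5, nat_lit 6], [[nat_lit 99, nat_lit 99, nat_lit 1]])) (.leaf ((nat_lit 1), [nat_lit 3, nat_lit 1, nat_lit 5, nat_lit 2, nat_lit 6, nat_lit 5, nat_lit 1], [[nat_lit 99, nat_lit 99, nat_lit 99, nat_lit 1]]))) (.node (nat_lit 537) (.leaf ((nat_lit 1), [nat_lit 1, nat_lit 6, nat_lit 3, nat_lit 0, nat_lit 4, nat_lit 5, nat_lit 2], [[nat_lit 99, nat_lit 1, nat_lit 99, nat_lit 99, nat_lit 0]])) (.leaf ((nat_lit 1), [nat_lit 1, nat_lit 4, nat_lit 2, nat_lit 6, nat_lit 2, nat_lit 6, nat_lit 2], [[nat_lit 99, nat_lit 99, nat_lit 1]]))))))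
 (.node (nat_lit 544) (.node (nat_lit 541) (.node (nat_lit 539) (.leaf ((nat_lit 1), [nat_lit 3, nat_lit 6, nat_lit 4, nat_lit 3, nat_lit 2, nat_lit 5, nat_lit 1], [[nat_lit 99, nat_lit 0]])) (.node (nat_lit 540) (.leaf ((nat_lit 1), [nat_lit 2, nat_lit 6, nat_lit 2, nat_lit 1, nat_lit 6], [[nat_lit 99, nat_lit 0, nat_lit 0, nat_lit 0, nat_lit 0]])) (.leaf ((nat_lit 1), [nat_lit 4, nat_lit 5, nat_lit 2, nat_lit 0, nat_lit 6], [[nat_lit 99, nat_lit 0, nat_lit 0, nat_lit 0]])))) (.node (nat_lit 542) (.leaf ((nat_lit 1), [nat_lit 4, nat_lit 0, nat_lit 6, nat_lit 5, nat_lit 2, nat_lit 4], [[nat_lit 99, nat_lit 99, nat_lit 1]])) (.node (nat_lit 543) (.leaf ((nat_lit 1), [nat_lit 2, nat_lit 5, nat_lit 6, nat_lit 5, nat_lit 3, nat_lit 0], [[nat_lit 99, nat_lit 99, nat_lit 99, nat_lit 1]])) (.leaf ((nat_lit 1), [nat_lit 0, nat_lit 4, nat_lit 6, nat_lit 3, nat_lit 0, nat_lit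 5, nat_lit 6], [[nat_lit 99, nat_lit 1, nat_lit 99, nat_lit 99, nat_lit 0, nat_lit 0]])))))
 (.node (nat_lit 547) (.node (nat_lit 545) (.leaf ((nat_lit 1), [nat_lit 1, nat_lit 5, nat_lit 6, nat_lit 1, nat_lit 4, nat_lit 5, nat_lit 2, nat_lit 0], [[nat_lit 99, nat_lit 99, nat_lit 99]])) (.node (nat_lit 546) (.leaf ((nat_lit 1), [nat_lit 0, nat_lit 4, nat_lit 5, nat_lit 4, nat_lit 0, nat_lit 6, nat_lit 0], [[nat_lit 99]])) (.leaf ((nat_lit 1), [nat_lit 6, nat_lit 2, nat_lit 1, nat_lit 5, nat_lit 1], [[nat_lit 99, nat_lit 0]]))))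
 (.node (nat_lit 549) (.node (nat_lit 548) (.leaf ((nat_lit 1), [nat_lit 1, nat_lit 2, nat_lit 5, nat_lit 2, nat_lit 6, nat_lit 5, nat_lit 4, nat_lit 3], [[nat_lit 99]])) (.leaf ((nat_lit 1), [nat_lit 3, nat_lit 4, nat_lit 1, nat_lit 6, nat_lit 2], [[nat_lit 99, nat_lit 1, nat_lit 1]]))) (.node (nat_lit 550) (.leaf ((nat_lit 1), [nat_lit 0, nat_lit 6, nat_lit 5, nat_lit 1, nat_lit 6, nat_lit 1, nat_lit 4], [[nat_lit 99, nat_lit 99, nat_lit 99]])) (.leaf ((nat_lit 1), [nat_lit 5, nat_lit 3, nat_lit 6, nat_lit 5, nat_lit 2], [[nat_lit 99, nat_lit 0]])))))))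
 (.node (nat_lit 564) (.node (nat_lit 557) (.node (nat_lit 554) (.node (nat_lit 552) (.leaf ((nat_lit 1), [nat_lit 5, nat_lit 3, nat_lit 1, nat_lit 4, nat_lit 3], [[nat_lit 99, nat_lit 99, nat_lit 99]])) (.node (nat_lit 553) (.leaf ((nat_lit 1), [nat_lit 1, nat_lit 5, nat_lit 1, nat_lit 6, nat_lit 0, nat_lit 4, nat_lit 3], [[nat_lit 99, nat_lit 1]])) (.leaf ((nat_lit 1), [nat_lit 0, nat_lit 4, nat_lit 6, nat_lit 1, nat_lit 2, nat_lit 0, nat_lit 5], [[nat_lit 99]])))) (.node (nat_lit 555) (.leaf ((nat_lit 1), [nat_lit 6, nat_lit 1, nat_lit 3, nat_lit 2, nat_lit 1, nat_lit 4, nat_lit 3], [[nat_lit 99, nat_lit 99, nat_lit 0]])) (.node (nat_lit 556) (.leaf ((nat_lit 1), [nat_lit 6, nat_lit 3, nat_lit 5, nat_lit 4, nat_lit 1, nat_lit 3, nat_lit 6], [[nat_lit 99, nat_lit 99, nat_lit 99, nat_lit 0]])) (.leaf ((nat_lit 1), [nat_lit 4, nat_lit 5, nat_lit 1, nat_lit 6, nat_lit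 3, nat_lit 5, nat_lit 3], [[nat_lit 99, nat_lit 1, nat_lit 1, nat_lit 1]])))))
 (.node (nat_lit 560) (.node (nat_lit 558) (.leaf ((nat_lit 1), [nat_lit 0, nat_lit 4, nat_lit 6, nat_lit 0, nat_lit 6, nat_lit 5, nat_lit 1], [[nat_lit 99, nat_lit 1]])) (.node (nat_lit 559) (.leaf ((nat_lit 1), [nat_lit 5, nat_lit 0, nat_lit 4, nat_lit 5, nat_lit 2, nat_lit 4], [[nat_lit 99, nat_lit 0, nat_lit 99, nat_lit 99, nat_lit 0, nat_lit 0]])) (.leaf ((nat_lit 1), [nat_lit 0, nat_lit 2, nat_lit 0, nat_lit 5, nat_lit 0, nat_lit 2, nat_lit 1], [[nat_lit 99, nat_lit 0, nat_lit 0]]))))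
 (.node (nat_lit 562) (.node (nat_lit 561) (.leaf ((nat_lit 1), [nat_lit 5, nat_lit 1, nat_lit 6, nat_lit 3, nat_lit 0, nat_lit 6, nat_lit 5], [[nat_lit 99, nat_lit 1]])) (.leaf ((nat_lit 1), [nat_lit 5, nat_lit 2, nat_lit 4, nat_lit 0, nat_lit 3, nat_lit 0, nat_lit 6], [[nat_lit 99, nat_lit 0, nat_lit 0, nat_lit 0]]))) (.node (nat_lit 563) (.leaf ((nat_lit 1), [nat_lit 4, nat_lit 3, nat_lit 6, nat_lit 1, nat_lit 5], [[nat_lit 99, nat_lit 99, nat_lit 0]])) (.leaf ((nat_lit 1), [nat_lit 3, nat_lit 5, nat_lit 6, nat_lit 1, nat_lit 6, nat_lit 3, nat_lit 0], [[nat_lit 99, nat_lit 1, nat_lit 1, nat_lit 99, nat_lit 99, nat_lit 0]]))))))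
 (.node (nat_lit 570) (.node (nat_lit 567) (.node (nat_lit 565) (.leaf ((nat_lit 1), [nat_lit 4, nat_lit 3, nat_lit 6, nat_lit 0, nat_lit 3, nat_lit 0], [[nat_lit 99, nat_lit 99, nat_lit 99]])) (.node (nat_lit 566) (.leaf ((nat_lit 1), [nat_lit 4, nat_lit 1, nat_lit 6, nat_lit 4, nat_lit 0, nat_lit 2, nat_lit 0], [[nat_lit 99]])) (.leaf ((nat_lit 1), [nat_lit 4, nat_lit 6, nat_lit 3, nat_lit 0, nat_lit 6, nat_lit 0], [[nat_lit 99, nat_lit 1, nat_lit 1]])))) (.node (nat_lit 568) (.leaf ((nat_lit 1), [nat_lit 0, nat_lit 6, nat_lit 4, nat_lit 3, nat_lit 5, nat_lit 0], [[nat_lit 99, nat_lit 1, nat_lit 99, nat_lit 99, nat_lit 99, nat_lit 0]])) (.node (nat_lit 569) (.leaf ((nat_lit 1), [nat_lit 5, nat_lit 0, nat_lit 4, nat_lit 2, nat_lit 0, nat_lit 3], [[nat_lit 99, nat_lit 0, nat_lit 99, nat_lit 0, nat_lit 0]])) (.leaf ((nat_lit 1), [nat_lit 6, nat_lit 0, nat_lit 2, nat_lit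 5, nat_lit 0, nat_lit 5, nat_lit 3], [[nat_lit 99, nat_lit 1, nat_lit 99, nat_lit 99, nat_lit 0, nat_lit 0, nat_lit 0]])))))
 (.node (nat_lit 573) (.node (nat_lit 571) (.leaf ((nat_lit 1), [nat_lit 2, nat_lit 6, nat_lit 0, nat_lit 6, nat_lit 5, nat_lit 4, nat_lit 0], [[nat_lit 99, nat_lit 99, nat_lit 99, nat_lit 1, nat_lit 99, nat_lit 0]])) (.node (nat_lit 572) (.leaf ((nat_lit 1), [nat_lit 6, nat_lit 1, nat_lit 6, nat_lit 0, nat_lit 4], [[nat_lit 99, nat_lit 99, nat_lit 0, nat_lit 99, nat_lit 0, nat_lit 0]])) (.leaf ((nat_lit 1), [nat_lit 4, nat_lit 5, nat_lit 2, nat_lit 6, nat_lit 0, nat_lit 6, nat_lit 0], [[nat_lit 99, nat_lit 1, nat_lit 1]]))))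
 (.node (nat_lit 575) (.node (nat_lit 574) (.leaf ((nat_lit 1), [nat_lit 0, nat_lit 4, nat_lit 2, nat_lit 4, nat_lit 5], [[nat_lit 99, nat_lit 0, nat_lit 0]])) (.leaf ((nat_lit 1), [nat_lit 6, nat_lit 0, nat_lit 4, nat_lit 2, nat_lit 6, nat_lit 3], [[nat_lit 99, nat_lit 0, nat_lit 0]]))) (.node (nat_lit 576) (.leaf ((nat_lit 1), [nat_lit 1, nat_lit 3, nat_lit 0, nat_lit 6, nat_lit 1], [[nat_lit 99, nat_lit 1]])) (.leaf ((nat_lit 1), [nat_lit 6, nat_lit 0, nat_lit 4, nat_lit 1, nat_lit 5, nat_lit 3, nat_lit 0], [[nat_lit 99]]))))))))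
 (.node (nat_lit 603) (.node (nat_lit 590) (.node (nat_lit 583) (.node (nat_lit 580) (.node (nat_lit 578) (.leaf ((nat_lit 1), [nat_lit 5, nat_lit 0, nat_lit 2, nat_lit 5, nat_lit 4, nat_lit 1, nat_lit 5, nat_lit 0], [[nat_lit 99, nat_lit 1, nat_lit 1]])) (.node (nat_lit 579) (.leaf ((nat_lit 1), [nat_lit 4, nat_lit 3, nat_lit 2, nat_lit 6, nat_lit 0, nat_lit 4, nat_lit 0], [[nat_lit 99, nat_lit 0, nat_lit 0]])) (.leaf ((nat_lit 1), [nat_lit 6, nat_lit 5, nat_lit 0, nat_lit 6, nat_lit 5, nat_lit 4, nat_lit 2, nat_lit 0], [[nat_lit 99]])))) (.node (nat_lit 581) (.leaf ((nat_lit 1), [nat_lit 5, nat_lit 0, nat_lit 4, nat_lit 0, nat_lit 3, nat_lit 2, nat_lit 0], [[nat_lit 99]])) (.node (nat_lit 582) (.leaf ((nat_lit 1), [nat_lit 3, nat_lit 0, nat_lit 6, nat_lit 5, nat_lit 0, nat_lit 6, nat_lit 2], [[nat_lit 99, nat_lit 0]])) (.leaf ((nat_lit 1), [nat_lit 2, nat_lit 5,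 nat_lit 1, nat_lit 5, nat_lit 1, nat_lit 6], [[nat_lit 99, nat_lit 1, nat_lit 99, nat_lit 99, nat_lit 99, nat_lit 0]])))))
 (.node (nat_lit 586) (.node (nat_lit 584) (.leaf ((nat_lit 1), [nat_lit 5, nat_lit 2, nat_lit 6, nat_lit 1, nat_lit 4, nat_lit 3, nat_lit 0], [[nat_lit 99]])) (.node (nat_lit 585) (.leaf ((nat_lit 1), [nat_lit 5, nat_lit 1, nat_lit 3, nat_lit 6], [[nat_lit 99, nat_lit 99, nat_lit 99]])) (.leaf ((nat_lit 1), [nat_lit 4, nat_lit 5, nat_lit 3, nat_lit 2, nat_lit 0, nat_lit 5, nat_lit 2], [[nat_lit 99]]))))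
 (.node (nat_lit 588) (.node (nat_lit 587) (.leaf ((nat_lit 1), [nat_lit 1, nat_lit 4, nat_lit 2, nat_lit 6, nat_lit 5, nat_lit 1], [[nat_lit 99]])) (.leaf ((nat_lit 1), [nat_lit 6, nat_lit 2, nat_lit 0, nat_lit 6, nat_lit 4, nat_lit 3], [[nat_lit 99, nat_lit 1, nat_lit 1]]))) (.node (nat_lit 589) (.leaf ((nat_lit 1), [nat_lit 5, nat_lit 4, nat_lit 6, nat_lit 1, nat_lit 6, nat_lit 1, nat_lit 2], [[nat_lit 99, nat_lit 99, nat_lit 0]])) (.leaf ((nat_lit 1), [nat_lit 0, nat_lit 3, nat_lit 5, nat_lit 4, nat_lit 6, nat_lit 1, nat_lit 2], [[nat_lit 99, nat_lit 1, nat_lit 1, nat_lit 1]]))))))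
 (.node (nat_lit 596) (.node (nat_lit 593) (.node (nat_lit 591) (.leaf ((nat_lit 1), [nat_lit 6, nat_lit 5, nat_lit 0, nat_lit 5, nat_lit 1, nat_lit 4, nat_lit 1], [[nat_lit 99, nat_lit 99, nat_lit 0, nat_lit 99, nat_lit 0]])) (.node (nat_lit 592) (.leaf ((nat_lit 1), [nat_lit 3, nat_lit 6, nat_lit 0, nat_lit 6, nat_lit 5, nat_lit 0, nat_lit 3], [[nat_lit 99]])) (.leaf ((nat_lit 1), [nat_lit 4, nat_lit 2, nat_lit 5, nat_lit 0], [[nat_lit 99, nat_lit 1, nat_lit 99, nat_lit 0]])))) (.node (nat_lit 594) (.leaf ((nat_lit 1), [nat_lit 0, nat_lit 4, nat_lit 2, nat_lit 5, nat_lit 6, nat_lit 5, nat_lit 4], [[nat_lit 99, nat_lit 99, nat_lit 99, nat_lit 0]])) (.node (nat_lit 595) (.leaf ((nat_lit 1), [nat_lit 3, nat_lit 4, nat_lit 1, nat_lit 3, nat_lit 5], [[nat_lit 99, nat_lit 0, nat_lit 0]])) (.leaf ((nat_lit 1), [nat_lit 5, nat_lit 0, nat_lit 4, nat_lit 0, nat_lit 6, nat_lit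 0, nat_lit 3], [[nat_lit 99, nat_lit 1, nat_lit 1]])))))
 (.node (nat_lit 599) (.node (nat_lit 597) (.leaf ((nat_lit 1), [nat_lit 0, nat_lit 6, nat_lit 2, nat_lit 1, nat_lit 6, nat_lit 0, nat_lit 3], [[nat_lit 99, nat_lit 1]])) (.node (nat_lit 598) (.leaf ((nat_lit 1), [nat_lit 3, nat_lit 4, nat_lit 1, nat_lit 6, nat_lit 0, nat_lit 6, nat_lit 2], [[nat_lit 99, nat_lit 0, nat_lit 99, nat_lit 0, nat_lit 0]])) (.leaf ((nat_lit 1), [nat_lit 3, nat_lit 6, nat_lit 1, nat_lit 6, nat_lit 0], [[nat_lit 99, nat_lit 1, nat_lit 99, nat_lit 99, nat_lit 0]]))))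
 (.node (nat_lit 601) (.node (nat_lit 600) (.leaf ((nat_lit 1), [nat_lit 6, nat_lit 1, nat_lit 5, nat_lit 2, nat_lit 4, nat_lit 3, nat_lit 2], [[nat_lit 99, nat_lit 1, nat_lit 99, nat_lit 0, nat_lit 0]])) (.leaf ((nat_lit 1), [nat_lit 3, nat_lit 0, nat_lit 2, nat_lit 4, nat_lit 6], [[nat_lit 99, nat_lit 99, nat_lit 1, nat_lit 1]]))) (.node (nat_lit 602) (.leaf ((nat_lit 1), [nat_lit 1, nat_lit 3, nat_lit 1, nat_lit 2, nat_lit 6, nat_lit 1], [[nat_lit 99, nat_lit 1]])) (.leaf ((nat_lit 1), [nat_lit 0, nat_lit 6, nat_lit 0, nat_lit 5, nat_lit 0, nat_lit 4, nat_lit 0], [[nat_lit 99, nat_lit 99, nat_lit 0]])))))))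
 (.node (nat_lit 616) (.node (nat_lit 609) (.node (nat_lit 606) (.node (nat_lit 604) (.leaf ((nat_lit 1), [nat_lit 1, nat_lit 6, nat_lit 0, nat_lit 5, nat_lit 1, nat_lit 6], [[nat_lit 99, nat_lit 0]])) (.node (nat_lit 605) (.leaf ((nat_lit 1), [nat_lit 2, nat_lit 5, nat_lit 1, nat_lit 2, nat_lit 4, nat_lit 6, nat_lit 5], [[nat_lit 99, nat_lit 99, nat_lit 99]])) (.leaf ((nat_lit 1), [nat_lit 3, nat_lit 0, nat_lit 2, nat_lit 5, nat_lit 1, nat_lit 4, nat_lit 0], [[nat_lit 99, nat_lit 99, nat_lit 99]])))) (.node (nat_lit 607) (.leaf ((nat_lit 1), [nat_lit 5, nat_lit 6, nat_lit 3, nat_lit 4, nat_lit 1, nat_lit 6, nat_lit 2], [[nat_lit 99, nat_lit 0, nat_lit 0]])) (.node (nat_lit 608) (.leaf ((nat_lit 1), [nat_lit 6, nat_lit 1, nat_lit 3, nat_lit 6, nat_lit 4, nat_lit 3], [[nat_lit 99, nat_lit 0]])) (.leaf ((nat_lit 1), [nat_lit 4, nat_lit 3, nat_lit 2, nat_lit 0, nat_lit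 5, nat_lit 2, nat_lit 1], [[nat_lit 99, nat_lit 99, nat_lit 99, nat_lit 1]])))))
 (.node (nat_lit 612) (.node (nat_lit 610) (.leaf ((nat_lit 1), [nat_lit 2, nat_lit 4, nat_lit 1, nat_lit 6, nat_lit 4, nat_lit 2], [[nat_lit 99, nat_lit 1, nat_lit 1, nat_lit 1, nat_lit 1]])) (.node (nat_lit 611) (.leaf ((nat_lit 1), [nat_lit 2, nat_lit 0, nat_lit 5, nat_lit 0, nat_lit 4, nat_lit 3, nat_lit 2], [[nat_lit 99]])) (.leaf ((nat_lit 1), [nat_lit 0, nat_lit 3, nat_lit 2, nat_lit 5, nat_lit 6, nat_lit 2], [[nat_lit 99, nat_lit 1, nat_lit 99, nat_lit 99, nat_lit 0, nat_lit 0]]))))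
 (.node (nat_lit 614) (.node (nat_lit 613) (.leaf ((nat_lit 1), [nat_lit 1, nat_lit 6, nat_lit 3, nat_lit 6, nat_lit 5, nat_lit 1, nat_lit 2, nat_lit 0], [[nat_lit 99, nat_lit 99, nat_lit 1]])) (.leaf ((nat_lit 1), [nat_lit 4, nat_lit 2, nat_lit 6, nat_lit 2, nat_lit 5, nat_lit 3, nat_lit 2], [[nat_lit 99]]))) (.node (nat_lit 615) (.leaf ((nat_lit 1), [nat_lit 4, nat_lit 5, nat_lit 4, nat_lit 3, nat_lit 1, nat_lit 4, nat_lit 6], [[nat_lit 99, nat_lit 1, nat_lit 1, nat_lit 1]])) (.leaf ((nat_lit 1), [nat_lit 1, nat_lit 3, nat_lit 4, nat_lit 5, nat_lit 3, nat_lit 6, nat_lit 0], [[nat_lit 99, nat_lit 1]]))))))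
 (.node (nat_lit 623) (.node (nat_lit 619) (.node (nat_lit 617) (.leaf ((nat_lit 1), [nat_lit 3, nat_lit 5, nat_lit 3, nat_lit 0, nat_lit 6, nat_lit 1], [[nat_lit 99, nat_lit 1]])) (.node (nat_lit 618) (.leaf ((nat_lit 1), [nat_lit 4, nat_lit 0, nat_lit 6, nat_lit 0, nat_lit 5, nat_lit 0, nat_lit 4], [[nat_lit 99, nat_lit 99, nat_lit 0, nat_lit 0, nat_lit 0]])) (.leaf ((nat_lit 1), [nat_lit 5, nat_lit 0, nat_lit 3, nat_lit 4, nat_lit 5, nat_lit 1, nat_lit 2], [[nat_lit 99, nat_lit 0]]))))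
 (.node (nat_lit 621) (.node (nat_lit 620) (.leaf ((nat_lit 1), [nat_lit 2, nat_lit 5, nat_lit 0, nat_lit 5, nat_lit 4, nat_lit 2, nat_lit 0], [[nat_lit 99, nat_lit 1]])) (.leaf ((nat_lit 1), [nat_lit 2, nat_lit 5, nat_lit 4, nat_lit 2, nat_lit 4, nat_lit 5], [[nat_lit 99, nat_lit 0]]))) (.node (nat_lit 622) (.leaf ((nat_lit 1), [nat_lit 5, nat_lit 3, nat_lit 6, nat_lit 4, nat_lit 0, nat_lit 2, nat_lit 0], [[nat_lit 99, nat_lit 99, nat_lit 99, nat_lit 0]])) (.leaf ((nat_lit 1), [nat_lit 5, nat_lit 1, nat_lit 4, nat_lit 5, nat_lit 6, nat_lit 5, nat_lit 0], [[nat_lit 99, nat_lit 99, nat_lit 1]])))))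
 (.node (nat_lit 626) (.node (nat_lit 624) (.leaf ((nat_lit 1), [nat_lit 1, nat_lit 6, nat_lit 3, nat_lit 4, nat_lit 1, nat_lit 2, nat_lit 0], [[nat_lit 99, nat_lit 1, nat_lit 1, nat_lit 1]])) (.node (nat_lit 625) (.leaf ((nat_lit 1), [nat_lit 1, nat_lit 2, nat_lit 5, nat_lit 4, nat_lit 6, nat_lit 4, nat_lit 3], [[nat_lit 99, nat_lit 1, nat_lit 99, nat_lit 99, nat_lit 99, nat_lit 0]])) (.leaf ((nat_lit 1), [nat_lit 5, nat_lit 0, nat_lit 5, nat_lit 0, nat_lit 5, nat_lit 0, nat_lit 2], [[nat_lit 99, nat_lit 99, nat_lit 1]]))))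
 (.node (nat_lit 628) (.node (nat_lit 627) (.leaf ((nat_lit 1), [nat_lit 6, nat_lit 3, nat_lit 4, nat_lit 1, nat_lit 3, nat_lit 4, nat_lit 6], [[nat_lit 99, nat_lit 1]])) (.leaf ((nat_lit 1), [nat_lit 0, nat_lit 4, nat_lit 5, nat_lit 4, nat_lit 2, nat_lit 1], [[nat_lit 99, nat_lit 0, nat_lit 0, nat_lit 0]]))) (.node (nat_lit 629) (.leaf ((nat_lit 1), [nat_lit 1, nat_lit 4, nat_lit 1, nat_lit 6, nat_lit 3, nat_lit 4, nat_lit 2], [[nat_lit 99, nat_lit 1, nat_lit 99, nat_lit 0, nat_lit 0]])) (.leaf ((nat_lit 1), [nat_lit 5, nat_lit 6, nat_lit 0, nat_lit 3, nat_lit 0, nat_lit 6, nat_lit 1], [[nat_lit 99, nat_lit 1, nat_lit 99, nat_lit 99, nat_lit 0]]))))))))))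
noncomputable def eCE_3 : Tr (ℕ × List ℕ × List (List ℕ)) := (.node (nat_lit 735) (.node (nat_lit 682) (.node (nat_lit 656) (.node (nat_lit 643) (.node (nat_lit 636) (.node (nat_lit 633) (.node (nat_lit 631) (.leaf ((nat_lit 1), [nat_lit 1, nat_lit 4, nat_lit 2, nat_lit 6, nat_lit 1, nat_lit 5, nat_lit 0, nat_lit 3], [[nat_lit 99, nat_lit 0, nat_lit 0, nat_lit 0]])) (.node (nat_lit 632) (.leaf ((nat_lit 1), [nat_lit 2, nat_lit 5, nat_lit 0, nat_lit 5, nat_lit 2, nat_lit 6, nat_lit 1], [[nat_lit 99, nat_lit 0]])) (.leaf ((nat_lit 1), [nat_lit 6, nat_lit 4, nat_lit 3, nat_lit 2, nat_lit 5, nat_lit 3, nat_lit 0], [[nat_lit 99, nat_lit 1, nat_lit 1]])))) (.node (nat_lit 634) (.leaf ((nat_lit 1), [nat_lit 6, nat_lit 3, nat_lit 5, nat_lit 2, nat_lit 4, nat_lit 2, nat_lit 0], [[nat_lit 99]])) (.node (nat_lit 635) (.leaf ((nat_lit 1), [nat_lit 5, nat_lit 3, nat_lit 4, nat_lit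 6, nat_lit 5, nat_lit 4, nat_lit 1], [[nat_lit 99, nat_lit 1]])) (.leaf ((nat_lit 1), [nat_lit 3, nat_lit 0, nat_lit 5, nat_lit 2, nat_lit 6, nat_lit 2, nat_lit 5], [[nat_lit 99, nat_lit 0]])))))
 (.node (nat_lit 639) (.node (nat_lit 637) (.leaf ((nat_lit 1), [nat_lit 3, nat_lit 2, nat_lit 4, nat_lit 5, nat_lit 6, nat_lit 0, nat_lit 6, nat_lit 0], [[nat_lit 99, nat_lit 0]])) (.node (nat_lit 638) (.leaf ((nat_lit 1), [nat_lit 1, nat_lit 5, nat_lit 3, nat_lit 2, nat_lit 0, nat_lit 6], [[nat_lit 99]])) (.leaf ((nat_lit 1), [nat_lit 0, nat_lit 5, nat_lit 0, nat_lit 6, nat_lit 1, nat_lit 4, nat_lit 5], [[nat_lit 99, nat_lit 99, nat_lit 99, nat_lit 0]]))))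
 (.node (nat_lit 641) (.node (nat_lit 640) (.leaf ((nat_lit 1), [nat_lit 6, nat_lit 1, nat_lit 6, nat_lit 5, nat_lit 3, nat_lit 5, nat_lit 2], [[nat_lit 99, nat_lit 1]])) (.leaf ((nat_lit 1), [nat_lit 3, nat_lit 4, nat_lit 6, nat_lit 1, nat_lit 4], [[nat_lit 99, nat_lit 99, nat_lit 0]]))) (.node (nat_lit 642) (.leaf ((nat_lit 1), [nat_lit 0, nat_lit 4, nat_lit 5, nat_lit 3, nat_lit 6, nat_lit 5, nat_lit 1], [[nat_lit 99, nat_lit 1]])) (.leaf ((nat_lit 1), [nat_lit 0, nat_lit 3, nat_lit 5, nat_lit 6, nat_lit 4, nat_lit 0, nat_lit 5, nat_lit 0], [[nat_lit 99, nat_lit 99, nat_lit 99]]))))))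
 (.node (nat_lit 649) (.node (nat_lit 646) (.node (nat_lit 644) (.leaf ((nat_lit 1), [nat_lit 0, nat_lit 2, nat_lit 0, nat_lit 5, nat_lit 0], [[nat_lit 99, nat_lit 0]])) (.node (nat_lit 645) (.leaf ((nat_lit 1), [nat_lit 1, nat_lit 4, nat_lit 6, nat_lit 1, nat_lit 4, nat_lit 6, nat_lit 0], [[nat_lit 99, nat_lit 1, nat_lit 99, nat_lit 0, nat_lit 0, nat_lit 0]])) (.leaf ((nat_lit 1), [nat_lit 3, nat_lit 2, nat_lit 5, nat_lit 0, nat_lit 6, nat_lit 0, nat_lit 3], [[nat_lit 99, nat_lit 1, nat_lit 1]])))) (.node (nat_lit 647) (.leaf ((nat_lit 1), [nat_lit 1, nat_lit 4, nat_lit 3, nat_lit 5, nat_lit 4], [[nat_lit 99, nat_lit 0]])) (.node (nat_lit 648) (.leaf ((nat_lit 1), [nat_lit 0, nat_lit 5, nat_lit 2, nat_lit 6, nat_lit 0, nat_lit 5, nat_lit 4], [[nat_lit 99, nat_lit 1]])) (.leaf ((nat_lit 1), [nat_lit 6, nat_lit 3, nat_lit 2, nat_lit 1, nat_lit 6, nat_lit 3], [[nat_lit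 99, nat_lit 0]])))))
 (.node (nat_lit 652) (.node (nat_lit 650) (.leaf ((nat_lit 1), [nat_lit 3, nat_lit 6, nat_lit 4, nat_lit 3, nat_lit 4, nat_lit 5], [[nat_lit 99, nat_lit 1]])) (.node (nat_lit 651) (.leaf ((nat_lit 1), [nat_lit 4, nat_lit 3, nat_lit 1, nat_lit 5, nat_lit 6, nat_lit 5, nat_lit 1], [[nat_lit 99]])) (.leaf ((nat_lit 1), [nat_lit 0, nat_lit 4, nat_lit 5, nat_lit 1, nat_lit 3], [[nat_lit 99, nat_lit 1, nat_lit 1]]))))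
 (.node (nat_lit 654) (.node (nat_lit 653) (.leaf ((nat_lit 1), [nat_lit 1, nat_lit 6, nat_lit 0, nat_lit 6, nat_lit 5, nat_lit 1], [[nat_lit 99, nat_lit 0, nat_lit 0]])) (.leaf ((nat_lit 1), [nat_lit 3, nat_lit 1, nat_lit 4, nat_lit 6, nat_lit 2, nat_lit 4, nat_lit 1], [[nat_lit 99, nat_lit 99, nat_lit 99, nat_lit 0]]))) (.node (nat_lit 655) (.leaf ((nat_lit 1), [nat_lit 0, nat_lit 2, nat_lit 0, nat_lit 5, nat_lit 1, nat_lit 2, nat_lit 0], [[nat_lit 99, nat_lit 1]])) (.leaf ((nat_lit 1), [nat_lit 6, nat_lit 2, nat_lit 6, nat_lit 1, nat_lit 5, nat_lit 6, nat_lit 1], [[nat_lit 99, nat_lit 99, nat_lit 99, nat_lit 0]])))))))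
 (.node (nat_lit 669) (.node (nat_lit 662) (.node (nat_lit 659) (.node (nat_lit 657) (.leaf ((nat_lit 1), [nat_lit 4, nat_lit 3, nat_lit 6, nat_lit 4, nat_lit 5, nat_lit 1, nat_lit 2], [[nat_lit 99, nat_lit 1, nat_lit 1, nat_lit 99, nat_lit 0, nat_lit 0]])) (.node (nat_lit 658) (.leaf ((nat_lit 1), [nat_lit 2, nat_lit 0, nat_lit 5, nat_lit 6, nat_lit 0, nat_lit 5, nat_lit 4, nat_lit 0], [[nat_lit 99, nat_lit 1, nat_lit 1, nat_lit 1]])) (.leaf ((nat_lit 1), [nat_lit 6, nat_lit 3, nat_lit 0, nat_lit 2, nat_lit 6, nat_lit 2, nat_lit 1], [[nat_lit 99]])))) (.node (nat_lit 660) (.leaf ((nat_lit 1), [nat_lit 5, nat_lit 2, nat_lit 4, nat_lit 5, nat_lit 3, nat_lit 0, nat_lit 4], [[nat_lit 99, nat_lit 1]])) (.node (nat_lit 661) (.leaf ((nat_lit 1), [nat_lit 4, nat_lit 3, nat_lit 2, nat_lit 1, nat_lit 4, nat_lit 3], [[nat_lit 99, nat_lit 99, nat_lit 0, nat_lit 99, nat_lit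 0]])) (.leaf ((nat_lit 1), [nat_lit 2, nat_lit 5, nat_lit 3, nat_lit 6, nat_lit 2, nat_lit 0], [[nat_lit 99, nat_lit 99, nat_lit 1]])))))
 (.node (nat_lit 665) (.node (nat_lit 663) (.leaf ((nat_lit 1), [nat_lit 5, nat_lit 6, nat_lit 2, nat_lit 4, nat_lit 3, nat_lit 5], [[nat_lit 99, nat_lit 1]])) (.node (nat_lit 664) (.leaf ((nat_lit 1), [nat_lit 2, nat_lit 6, nat_lit 1, nat_lit 6, nat_lit 3, nat_lit 5, nat_lit 3], [[nat_lit 99, nat_lit 99, nat_lit 99]])) (.leaf ((nat_lit 1), [nat_lit 0, nat_lit 5, nat_lit 2, nat_lit 4, nat_lit 3, nat_lit 4, nat_lit 1], [[nat_lit 99, nat_lit 99, nat_lit 1]]))))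
 (.node (nat_lit 667) (.node (nat_lit 666) (.leaf ((nat_lit 1), [nat_lit 4, nat_lit 6, nat_lit 5, nat_lit 0, nat_lit 5, nat_lit 6, nat_lit 5], [[nat_lit 99, nat_lit 1]])) (.leaf ((nat_lit 1), [nat_lit 5, nat_lit 3, nat_lit 0, nat_lit 4, nat_lit 6, nat_lit 2], [[nat_lit 99, nat_lit 1]]))) (.node (nat_lit 668) (.leaf ((nat_lit 1), [nat_lit 1, nat_lit 3, nat_lit 1, nat_lit 2, nat_lit 6], [[nat_lit 99]])) (.leaf ((nat_lit 1), [nat_lit 6, nat_lit 0, nat_lit 3, nat_lit 5, nat_lit 0, nat_lit 5, nat_lit 0], [[nat_lit 99]]))))))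
 (.node (nat_lit 675) (.node (nat_lit 672) (.node (nat_lit 670) (.leaf ((nat_lit 1), [nat_lit 2, nat_lit 4, nat_lit 5, nat_lit 2, nat_lit 6, nat_lit 3, nat_lit 5], [[nat_lit 99, nat_lit 99, nat_lit 0, nat_lit 0]])) (.node (nat_lit 671) (.leaf ((nat_lit 1), [nat_lit 5, nat_lit 0, nat_lit 5, nat_lit 2, nat_lit 4, nat_lit 5, nat_lit 2], [[nat_lit 99, nat_lit 99, nat_lit 1, nat_lit 1]])) (.leaf ((nat_lit 1), [nat_lit 5, nat_lit 1, nat_lit 2, nat_lit 5, nat_lit 6, nat_lit 4, nat_lit 0], [[nat_lit 99, nat_lit 1]])))) (.node (nat_lit 673) (.leaf ((nat_lit 1), [nat_lit 1, nat_lit 3, nat_lit 4, nat_lit 5, nat_lit 3, nat_lit 5, nat_lit 0], [[nat_lit 99, nat_lit 1, nat_lit 99, nat_lit 0, nat_lit 0]])) (.node (nat_lit 674) (.leaf ((nat_lit 1), [nat_lit 4, nat_lit 6, nat_lit 5, nat_lit 4, nat_lit 2, nat_lit 6, nat_lit 2], [[nat_lit 99, nat_lit 99, nat_lit 0]])) (.leaf ((nat_lit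 1), [nat_lit 1, nat_lit 3, nat_lit 4, nat_lit 5, nat_lit 4, nat_lit 3, nat_lit 0], [[nat_lit 99, nat_lit 99, nat_lit 0]])))))
 (.node (nat_lit 678) (.node (nat_lit 676) (.leaf ((nat_lit 1), [nat_lit 0, nat_lit 5, nat_lit 6, nat_lit 1, nat_lit 3, nat_lit 6, nat_lit 0], [[nat_lit 99]])) (.node (nat_lit 677) (.leaf ((nat_lit 1), [nat_lit 3, nat_lit 5, nat_lit 2, nat_lit 4, nat_lit 6, nat_lit 1], [[nat_lit 99, nat_lit 0, nat_lit 0, nat_lit 0, nat_lit 0]])) (.leaf ((nat_lit 1), [nat_lit 1, nat_lit 3, nat_lit 5, nat_lit 6, nat_lit 2, nat_lit 0], [[nat_lit 99, nat_lit 1, nat_lit 99, nat_lit 0]]))))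
 (.node (nat_lit 680) (.node (nat_lit 679) (.leaf ((nat_lit 1), [nat_lit 4, nat_lit 2, nat_lit 0, nat_lit 5, nat_lit 1, nat_lit 4, nat_lit 2], [[nat_lit 99, nat_lit 99, nat_lit 0, nat_lit 99, nat_lit 0, nat_lit 0]])) (.leaf ((nat_lit 1), [nat_lit 3, nat_lit 2, nat_lit 6, nat_lit 5, nat_lit 0, nat_lit 5, nat_lit 2, nat_lit 0], [[nat_lit 99, nat_lit 99, nat_lit 99]]))) (.node (nat_lit 681) (.leaf ((nat_lit 1), [nat_lit 4, nat_lit 2, nat_lit 6, nat_lit 1, nat_lit 6, nat_lit 0, nat_lit 2], [[nat_lit 99]])) (.leaf ((nat_lit 1), [nat_lit 5, nat_lit 0, nat_lit 5, nat_lit 6, nat_lit 2, nat_lit 1, nat_lit 3], [[nat_lit 99, nat_lit 1, nat_lit 99, nat_lit 0, nat_lit 0]]))))))))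
 (.node (nat_lit 708) (.node (nat_lit 695) (.node (nat_lit 688) (.node (nat_lit 685) (.node (nat_lit 683) (.leaf ((nat_lit 1), [nat_lit 3, nat_lit 6, nat_lit 0, nat_lit 4, nat_lit 6, nat_lit 3], [[nat_lit 99]])) (.node (nat_lit 684) (.leaf ((nat_lit 1), [nat_lit 4, nat_lit 2, nat_lit 5, nat_lit 3, nat_lit 4, nat_lit 1, nat_lit 2], [[nat_lit 99, nat_lit 0]])) (.leaf ((nat_lit 1), [nat_lit 6, nat_lit 4, nat_lit 0, nat_lit 3, nat_lit 5, nat_lit 1], [[nat_lit 99, nat_lit 0]])))) (.node (nat_lit 686) (.leaf ((nat_lit 1), [nat_lit 0, nat_lit 2, nat_lit 4, nat_lit 0, nat_lit 5, nat_lit 6, nat_lit 4, nat_lit 0], [[nat_lit 99, nat_lit 99, nat_lit 99]])) (.node (nat_lit 687) (.leaf ((nat_lit 1), [nat_lit 2, nat_lit 6, nat_lit 4, nat_lit 2, nat_lit 1, nat_lit 4], [[nat_lit 99]])) (.leaf ((nat_lit 1), [nat_lit 6, nat_lit 5, nat_lit 4, nat_lit 0, nat_lit 5, nat_lit 3], [[nat_lit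 99, nat_lit 1]])))))
 (.node (nat_lit 691) (.node (nat_lit 689) (.leaf ((nat_lit 1), [nat_lit 0, nat_lit 3, nat_lit 5, nat_lit 0, nat_lit 5, nat_lit 1, nat_lit 2], [[nat_lit 99, nat_lit 1, nat_lit 1]])) (.node (nat_lit 690) (.leaf ((nat_lit 1), [nat_lit 2, nat_lit 4, nat_lit 1, nat_lit 2, nat_lit 0, nat_lit 5, nat_lit 2, nat_lit 0], [[nat_lit 99, nat_lit 1]])) (.leaf ((nat_lit 1), [nat_lit 3, nat_lit 4, nat_lit 0, nat_lit 3, nat_lit 2, nat_lit 6, nat_lit 3], [[nat_lit 99, nat_lit 1]]))))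
 (.node (nat_lit 693) (.node (nat_lit 692) (.leaf ((nat_lit 1), [nat_lit 5, nat_lit 1, nat_lit 2, nat_lit 6, nat_lit 2, nat_lit 5], [[nat_lit 99, nat_lit 99, nat_lit 99]])) (.leaf ((nat_lit 1), [nat_lit 4, nat_lit 6, nat_lit 3, nat_lit 1, nat_lit 6, nat_lit 3], [[nat_lit 99, nat_lit 1]]))) (.node (nat_lit 694) (.leaf ((nat_lit 1), [nat_lit 1, nat_lit 4, nat_lit 1, nat_lit 2, nat_lit 0, nat_lit 5, nat_lit 0], [[nat_lit 99, nat_lit 99, nat_lit 99, nat_lit 0]])) (.leaf ((nat_lit 1), [nat_lit 5, nat_lit 3, nat_lit 1, nat_lit 4, nat_lit 2, nat_lit 6, nat_lit 2], [[nat_lit 99, nat_lit 0]]))))))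
 (.node (nat_lit 701) (.node (nat_lit 698) (.node (nat_lit 696) (.leaf ((nat_lit 1), [nat_lit 6, nat_lit 0, nat_lit 5, nat_lit 6, nat_lit 0, nat_lit 5], [[nat_lit 99, nat_lit 99, nat_lit 1]])) (.node (nat_lit 697) (.leaf ((nat_lit 1), [nat_lit 6, nat_lit 2, nat_lit 5, nat_lit 2, nat_lit 6, nat_lit 2, nat_lit 1], [[nat_lit 99, nat_lit 99, nat_lit 99]])) (.leaf ((nat_lit 1), [nat_lit 1, nat_lit 5, nat_lit 6, nat_lit 0, nat_lit 4, nat_lit 6], [[nat_lit 99, nat_lit 99, nat_lit 0]])))) (.node (nat_lit 699) (.leaf ((nat_lit 1), [nat_lit 2, nat_lit 5, nat_lit 4, nat_lit 6, nat_lit 3, nat_lit 1], [[nat_lit 99, nat_lit 0]])) (.node (nat_lit 700) (.leaf ((nat_lit 1), [nat_lit 5, nat_lit 0, nat_lit 5, nat_lit 1, nat_lit 6, nat_lit 5, nat_lit 0], [[nat_lit 99, nat_lit 0]])) (.leaf ((nat_lit 1), [nat_lit 0, nat_lit 5, nat_lit 4, nat_lit 3, nat_lit 5, nat_lit 1, nat_lit 2], [[nat_lit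 99]])))))
 (.node (nat_lit 704) (.node (nat_lit 702) (.leaf ((nat_lit 1), [nat_lit 3, nat_lit 4, nat_lit 3, nat_lit 5, nat_lit 0, nat_lit 4, nat_lit 1], [[nat_lit 99]])) (.node (nat_lit 703) (.leaf ((nat_lit 1), [nat_lit 3, nat_lit 6, nat_lit 0, nat_lit 3, nat_lit 5], [[nat_lit 99, nat_lit 0]])) (.leaf ((nat_lit 1), [nat_lit 1, nat_lit 5, nat_lit 6, nat_lit 3, nat_lit 6, nat_lit 3], [[nat_lit 99, nat_lit 99, nat_lit 0]]))))
 (.node (nat_lit 706) (.node (nat_lit 705) (.leaf ((nat_lit 1), [nat_lit 3, nat_lit 5, nat_lit 4, nat_lit 3, nat_lit 6, nat_lit 1], [[nat_lit 99, nat_lit 1, nat_lit 1]])) (.leaf ((nat_lit 1), [nat_lit 6, nat_lit 2, nat_lit 0, nat_lit 5, nat_lit 0, nat_lit 5], [[nat_lit 99, nat_lit 0, nat_lit 0]]))) (.node (nat_lit 707) (.leaf ((nat_lit 1), [nat_lit 3, nat_lit 1, nat_lit 5, nat_lit 6, nat_lit 4, nat_lit 0], [[nat_lit 99, nat_lit 1, nat_lit 99,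 nat_lit 0, nat_lit 0]])) (.leaf ((nat_lit 1), [nat_lit 0, nat_lit 4, nat_lit 6, nat_lit 4, nat_lit 2, nat_lit 5, nat_lit 0], [[nat_lit 99, nat_lit 1, nat_lit 99, nat_lit 99, nat_lit 0]])))))))
 (.node (nat_lit 721) (.node (nat_lit 714) (.node (nat_lit 711) (.node (nat_lit 709) (.leaf ((nat_lit 1), [nat_lit 3, nat_lit 4, nat_lit 6, nat_lit 1, nat_lit 3, nat_lit 1, nat_lit 2], [[nat_lit 99, nat_lit 0, nat_lit 99, nat_lit 0, nat_lit 0]])) (.node (nat_lit 710) (.leaf ((nat_lit 1), [nat_lit 3, nat_lit 5, nat_lit 6, nat_lit 2, nat_lit 6, nat_lit 4], [[nat_lit 99, nat_lit 99, nat_lit 0]])) (.leaf ((nat_lit 1), [nat_lit 0, nat_lit 3, nat_lit 2, nat_lit 5, nat_lit 3, nat_lit 4, nat_lit 5], [[nat_lit 99, nat_lit 1, nat_lit 1, nat_lit 99, nat_lit 99, nat_lit 0]])))) (.node (nat_lit 712) (.leaf ((nat_lit 1), [nat_lit 4, nat_lit 5, nat_lit 2, nat_lit 6, nat_lit 1, nat_lit 4],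 [[nat_lit 99]])) (.node (nat_lit 713) (.leaf ((nat_lit 1), [nat_lit 1, nat_lit 6, nat_lit 2, nat_lit 1, nat_lit 6, nat_lit 0], [[nat_lit 99, nat_lit 1]])) (.leaf ((nat_lit 1), [nat_lit 2, nat_lit 6, nat_lit 2, nat_lit 4, nat_lit 1, nat_lit 6, nat_lit 0], [[nat_lit 99, nat_lit 1]])))))
 (.node (nat_lit 717) (.node (nat_lit 715) (.leaf ((nat_lit 1), [nat_lit 4, nat_lit 3, nat_lit 2, nat_lit 6, nat_lit 2, nat_lit 6], [[nat_lit 99, nat_lit 99, nat_lit 0, nat_lit 0]])) (.node (nat_lit 716) (.leaf ((nat_lit 1), [nat_lit 6, nat_lit 2, nat_lit 0, nat_lit 4, nat_lit 5, nat_lit 0, nat_lit 2], [[nat_lit 99, nat_lit 1, nat_lit 1]])) (.leaf ((nat_lit 1), [nat_lit 6, nat_lit 0, nat_lit 6, nat_lit 4, nat_lit 2, nat_lit 4, nat_lit 1], [[nat_lit 99, nat_lit 0]]))))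
 (.node (nat_lit 719) (.node (nat_lit 718) (.leaf ((nat_lit 1), [nat_lit 6, nat_lit 4, nat_lit 2, nat_lit 4, nat_lit 5, nat_lit 3, nat_lit 6], [[nat_lit 99]])) (.leaf ((nat_lit 1), [nat_lit 3, nat_lit 1, nat_lit 6, nat_lit 4, nat_lit 0], [[nat_lit 99, nat_lit 1, nat_lit 99, nat_lit 0]]))) (.node (nat_lit 720) (.leaf ((nat_lit 1), [nat_lit 6, nat_lit 0, nat_lit 4, nat_lit 3, nat_lit 1, nat_lit 2, nat_lit 0], [[nat_lit 99, nat_lit 99, nat_lit 1]])) (.leaf ((nat_lit 1), [nat_lit 4, nat_lit 2, nat_lit 6, nat_lit 0, nat_lit 5, nat_lit 3], [[nat_lit 99]]))))))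
 (.node (nat_lit 728) (.node (nat_lit 724) (.node (nat_lit 722) (.leaf ((nat_lit 1), [nat_lit 1, nat_lit 4, nat_lit 2, nat_lit 4, nat_lit 3, nat_lit 5, nat_lit 3], [[nat_lit 99, nat_lit 0, nat_lit 0]])) (.node (nat_lit 723) (.leaf ((nat_lit 1), [nat_lit 4, nat_lit 3, nat_lit 0, nat_lit 6, nat_lit 0, nat_lit 3, nat_lit 1], [[nat_lit 99, nat_lit 1]])) (.leaf ((nat_lit 1), [nat_lit 6, nat_lit 3, nat_lit 5, nat_lit 3, nat_lit 1, nat_lit 2], [[nat_lit 99, nat_lit 99, nat_lit 1]]))))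
 (.node (nat_lit 726) (.node (nat_lit 725) (.leaf ((nat_lit 1), [nat_lit 0, nat_lit 5, nat_lit 2, nat_lit 4, nat_lit 2, nat_lit 6, nat_lit 5], [[nat_lit 99, nat_lit 99, nat_lit 99]])) (.leaf ((nat_lit 1), [nat_lit 5, nat_lit 3, nat_lit 1, nat_lit 6, nat_lit 1, nat_lit 4, nat_lit 1], [[nat_lit 99, nat_lit 0, nat_lit 0, nat_lit 0]]))) (.node (nat_lit 727) (.leaf ((nat_lit 1), [nat_lit 2, nat_lit 6, nat_lit 2, nat_lit 6, nat_lit 2, nat_lit 5], [[nat_lit 99]])) (.leaf ((nat_lit 1), [nat_lit 6, nat_lit 1, nat_lit 4, nat_lit 1, nat_lit 3, nat_lit 6, nat_lit 0], [[nat_lit 99, nat_lit 0, nat_lit 0]])))))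
 (.node (nat_lit 731) (.node (nat_lit 729) (.leaf ((nat_lit 1), [nat_lit 5, nat_lit 2, nat_lit 6, nat_lit 1, nat_lit 3, nat_lit 6], [[nat_lit 99]])) (.node (nat_lit 730) (.leaf ((nat_lit 1), [nat_lit 4, nat_lit 6, nat_lit 5, nat_lit 1, nat_lit 6, nat_lit 5], [[nat_lit 99, nat_lit 99, nat_lit 0, nat_lit 99, nat_lit 0]])) (.leaf ((nat_lit 1), [nat_lit 3, nat_lit 2, nat_lit 1, nat_lit 6, nat_lit 2, nat_lit 6], [[nat_lit 99]]))))
 (.node (nat_lit 733) (.node (nat_lit 732) (.leaf ((nat_lit 1), [nat_lit 4, nat_lit 0, nat_lit 3, nat_lit 4, nat_lit 6], [[nat_lit 99, nat_lit 1, nat_lit 99, nat_lit 0, nat_lit 0]])) (.leaf ((nat_lit 1), [nat_lit 1, nat_lit 3, nat_lit 5, nat_lit 0, nat_lit 3, nat_lit 6, nat_lit 2], [[nat_lit 99, nat_lit 99, nat_lit 1]]))) (.node (nat_lit 734) (.leaf ((nat_lit 1), [nat_lit 0, nat_lit 2, nat_lit 5, nat_lit 0, nat_lit 4, nat_lit 1, nat_lit 6, nat_lit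 0], [[nat_lit 99, nat_lit 99, nat_lit 1]])) (.leaf ((nat_lit 1), [nat_lit 1, nat_lit 5, nat_lit 6, nat_lit 4, nat_lit 3, nat_lit 1, nat_lit 4], [[nat_lit 99, nat_lit 99, nat_lit 1, nat_lit 99, nat_lit 0]])))))))))
 (.node (nat_lit 787) (.node (nat_lit 761) (.node (nat_lit 748) (.node (nat_lit 741) (.node (nat_lit 738) (.node (nat_lit 736) (.leaf ((nat_lit 1), [nat_lit 6, nat_lit 0, nat_lit 3, nat_lit 4, nat_lit 2, nat_lit 4, nat_lit 0], [[nat_lit 99, nat_lit 0, nat_lit 0]])) (.node (nat_lit 737) (.leaf ((nat_lit 1), [nat_lit 3, nat_lit 1, nat_lit 6, nat_lit 4, nat_lit 2, nat_lit 1], [[nat_lit 99, nat_lit 1]])) (.leaf ((nat_lit 1), [nat_lit 3, nat_lit 4, nat_lit 1, nat_lit 3, nat_lit 6, nat_lit 3, nat_lit 4], [[nat_lit 99, nat_lit 99, nat_lit 0]])))) (.node (nat_lit 739) (.leaf ((nat_lit 1), [nat_lit 3, nat_lit 2, nat_lit 0, nat_lit 5, nat_lit 3, nat_lit 0, nat_lit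 4], [[nat_lit 99]])) (.node (nat_lit 740) (.leaf ((nat_lit 1), [nat_lit 5, nat_lit 6, nat_lit 0, nat_lit 6, nat_lit 2, nat_lit 5], [[nat_lit 99]])) (.leaf ((nat_lit 1), [nat_lit 1, nat_lit 2, nat_lit 5, nat_lit 2, nat_lit 6, nat_lit 5, nat_lit 3], [[nat_lit 99, nat_lit 0]])))))
 (.node (nat_lit 744) (.node (nat_lit 742) (.leaf ((nat_lit 1), [nat_lit 0, nat_lit 4, nat_lit 6, nat_lit 3, nat_lit 5, nat_lit 4], [[nat_lit 99, nat_lit 99, nat_lit 99]])) (.node (nat_lit 743) (.leaf ((nat_lit 1), [nat_lit 1, nat_lit 4, nat_lit 0, nat_lit 6, nat_lit 0, nat_lit 2], [[nat_lit 99, nat_lit 0, nat_lit 0, nat_lit 0]])) (.leaf ((nat_lit 1), [nat_lit 4, nat_lit 1, nat_lit 3, nat_lit 2, nat_lit 6, nat_lit 3, nat_lit 0], [[nat_lit 99, nat_lit 0, nat_lit 99, nat_lit 0, nat_lit 0]]))))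
 (.node (nat_lit 746) (.node (nat_lit 745) (.leaf ((nat_lit 1), [nat_lit 6, nat_lit 1, nat_lit 2, nat_lit 5, nat_lit 2], [[nat_lit 99, nat_lit 0, nat_lit 0]])) (.leaf ((nat_lit 1), [nat_lit 5, nat_lit 3, nat_lit 6, nat_lit 5, nat_lit 3], [[nat_lit 99, nat_lit 0, nat_lit 0]]))) (.node (nat_lit 747) (.leaf ((nat_lit 1), [nat_lit 3, nat_lit 0, nat_lit 4, nat_lit 1, nat_lit 6, nat_lit 3, nat_lit 0], [[nat_lit 99, nat_lit 99, nat_lit 99]])) (.leaf ((nat_lit 1), [nat_lit 6, nat_lit 5, nat_lit 1, nat_lit 5, nat_lit 6, nat_lit 2], [[nat_lit 99, nat_lit 1, nat_lit 1]]))))))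
 (.node (nat_lit 754) (.node (nat_lit 751) (.node (nat_lit 749) (.leaf ((nat_lit 1), [nat_lit 0, nat_lit 6, nat_lit 3, nat_lit 0, nat_lit 5, nat_lit 3, nat_lit 4, nat_lit 2], [[nat_lit 99, nat_lit 1]])) (.node (nat_lit 750) (.leaf ((nat_lit 1), [nat_lit 6, nat_lit 3, nat_lit 1, nat_lit 4, nat_lit 3], [[nat_lit 99, nat_lit 99, nat_lit 99, nat_lit 0]])) (.leaf ((nat_lit 1), [nat_lit 3, nat_lit 5, nat_lit 3, nat_lit 1, nat_lit 2, nat_lit 0, nat_lit 4], [[nat_lit 99, nat_lit 0, nat_lit 99, nat_lit 0, nat_lit 0]])))) (.node (nat_lit 752) (.leaf ((nat_lit 1), [nat_lit 5, nat_lit 0, nat_lit 3, nat_lit 4, nat_lit 2, nat_lit 6, nat_lit 1], [[nat_lit 99, nat_lit 0, nat_lit 0]])) (.node (nat_lit 753) (.leaf ((nat_lit 1), [nat_lit 5, nat_lit 2, nat_lit 6, nat_lit 5, nat_lit 3, nat_lit 4, nat_lit 1], [[nat_lit 99, nat_lit 1]])) (.leaf ((nat_lit 1), [nat_lit 6, nat_lit 3, nat_lit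 6, nat_lit 2, nat_lit 5, nat_lit 4, nat_lit 3], [[nat_lit 99]])))))
 (.node (nat_lit 757) (.node (nat_lit 755) (.leaf ((nat_lit 1), [nat_lit 4, nat_lit 5, nat_lit 3, nat_lit 6, nat_lit 0, nat_lit 5, nat_lit 3], [[nat_lit 99, nat_lit 99, nat_lit 99]])) (.node (nat_lit 756) (.leaf ((nat_lit 1), [nat_lit 1, nat_lit 5, nat_lit 6, nat_lit 0, nat_lit 3, nat_lit 0, nat_lit 2, nat_lit 0], [[nat_lit 99, nat_lit 0, nat_lit 0]])) (.leaf ((nat_lit 1), [nat_lit 5, nat_lit 6, nat_lit 1, nat_lit 6, nat_lit 2, nat_lit 5], [[nat_lit 99, nat_lit 0]]))))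
 (.node (nat_lit 759) (.node (nat_lit 758) (.leaf ((nat_lit 1), [nat_lit 5, nat_lit 2, nat_lit 6, nat_lit 2, nat_lit 5, nat_lit 3], [[nat_lit 99, nat_lit 99, nat_lit 1]])) (.leaf ((nat_lit 1), [nat_lit 2, nat_lit 4, nat_lit 6, nat_lit 5, nat_lit 2, nat_lit 4, nat_lit 1], [[nat_lit 99, nat_lit 1, nat_lit 1]]))) (.node (nat_lit 760) (.leaf ((nat_lit 1), [nat_lit 6, nat_lit 0, nat_lit 6, nat_lit 1, nat_lit 5, nat_lit 6, nat_lit 3], [[nat_lit 99, nat_lit 0]])) (.leaf ((nat_lit 1), [nat_lit 3, nat_lit 6, nat_lit 1, nat_lit 6, nat_lit 0, nat_lit 4], [[nat_lit 99]])))))))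
 (.node (nat_lit 774) (.node (nat_lit 767) (.node (nat_lit 764) (.node (nat_lit 762) (.leaf ((nat_lit 1), [nat_lit 5, nat_lit 0, nat_lit 2, nat_lit 4, nat_lit 2, nat_lit 5, nat_lit 4], [[nat_lit 99, nat_lit 1]])) (.node (nat_lit 763) (.leaf ((nat_lit 1), [nat_lit 1, nat_lit 6, nat_lit 2, nat_lit 5, nat_lit 0, nat_lit 3], [[nat_lit 99, nat_lit 1, nat_lit 99, nat_lit 99, nat_lit 0]])) (.leaf ((nat_lit 1), [nat_lit 5, nat_lit 6, nat_lit 1, nat_lit 4, nat_lit 0, nat_lit 3, nat_lit 0], [[nat_lit 99, nat_lit 1]])))) (.node (nat_lit 765) (.leaf ((nat_lit 1), [nat_lit 6, nat_lit 3, nat_lit 0, nat_lit 6, nat_lit 5, nat_lit 3, nat_lit 2], [[nat_lit 99]])) (.node (nat_lit 766) (.leaf ((nat_lit 1), [nat_lit 0, nat_lit 2, nat_lit 0, nat_lit 4, nat_lit 6, nat_lit 1], [[nat_lit 99, nat_lit 1, nat_lit 1]])) (.leaf ((nat_lit 1), [nat_lit 4, nat_lit 6, nat_lit 2, nat_lit 1, nat_lit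 6, nat_lit 2], [[nat_lit 99, nat_lit 0, nat_lit 0]])))))
 (.node (nat_lit 770) (.node (nat_lit 768) (.leaf ((nat_lit 1), [nat_lit 0, nat_lit 2, nat_lit 0, nat_lit 5, nat_lit 4, nat_lit 6, nat_lit 3], [[nat_lit 99, nat_lit 99, nat_lit 0]])) (.node (nat_lit 769) (.leaf ((nat_lit 1), [nat_lit 3, nat_lit 4, nat_lit 5, nat_lit 0, nat_lit 5, nat_lit 2, nat_lit 0], [[nat_lit 99, nat_lit 1, nat_lit 1]])) (.leaf ((nat_lit 1), [nat_lit 5, nat_lit 3, nat_lit 5, nat_lit 1, nat_lit 3, nat_lit 6, nat_lit 3, nat_lit 1], [[nat_lit 99, nat_lit 0]]))))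
 (.node (nat_lit 772) (.node (nat_lit 771) (.leaf ((nat_lit 1), [nat_lit 0, nat_lit 6, nat_lit 1, nat_lit 6, nat_lit 5, nat_lit 3, nat_lit 5, nat_lit 0], [[nat_lit 99, nat_lit 0]])) (.leaf ((nat_lit 1), [nat_lit 2, nat_lit 6, nat_lit 5, nat_lit 2, nat_lit 0, nat_lit 5, nat_lit 3], [[nat_lit 99, nat_lit 0]]))) (.node (nat_lit 773) (.leaf ((nat_lit 1), [nat_lit 1, nat_lit 6, nat_lit 0, nat_lit 4, nat_lit 5, nat_lit 2, nat_lit 1], [[nat_lit 99, nat_lit 0]])) (.leaf ((nat_lit 1), [nat_lit 5, nat_lit 1, nat_lit 6, nat_lit 0, nat_lit 5, nat_lit 3, nat_lit 1], [[nat_lit 99, nat_lit 1]]))))))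
 (.node (nat_lit 780) (.node (nat_lit 777) (.node (nat_lit 775) (.leaf ((nat_lit 1), [nat_lit 6, nat_lit 1, nat_lit 5, nat_lit 0, nat_lit 6, nat_lit 1, nat_lit 6], [[nat_lit 99]])) (.node (nat_lit 776) (.leaf ((nat_lit 1), [nat_lit 1, nat_lit 5, nat_lit 2, nat_lit 6, nat_lit 0, nat_lit 2, nat_lit 0], [[nat_lit 99, nat_lit 0]])) (.leaf ((nat_lit 1), [nat_lit 2, nat_lit 6, nat_lit 3, nat_lit 0, nat_lit 6, nat_lit 1, nat_lit 3], [[nat_lit 99, nat_lit 1, nat_lit 1]])))) (.node (nat_lit 778) (.leaf ((nat_lit 1), [nat_lit 2, nat_lit 6, nat_lit 5, nat_lit 3, nat_lit 6, nat_lit 4, nat_lit 0], [[nat_lit 99, nat_lit 1, nat_lit 1]])) (.node (nat_lit 779) (.leaf ((nat_lit 1), [nat_lit 6, nat_lit 5, nat_lit 3, nat_lit 6, nat_lit 0, nat_lit 5, nat_lit 3], [[nat_lit 99, nat_lit 99, nat_lit 99]])) (.leaf ((nat_lit 1), [nat_lit 2, nat_lit 5, nat_lit 2, nat_lit 0, nat_lit 4, nat_lit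 2, nat_lit 4], [[nat_lit 99, nat_lit 99, nat_lit 1]])))))
 (.node (nat_lit 783) (.node (nat_lit 781) (.leaf ((nat_lit 1), [nat_lit 2, nat_lit 5, nat_lit 3, nat_lit 0, nat_lit 6, nat_lit 0, nat_lit 5, nat_lit 0], [[nat_lit 99, nat_lit 0]])) (.node (nat_lit 782) (.leaf ((nat_lit 1), [nat_lit 0, nat_lit 6, nat_lit 2, nat_lit 4, nat_lit 1], [[nat_lit 99]])) (.leaf ((nat_lit 1), [nat_lit 2, nat_lit 4, nat_lit 0, nat_lit 6, nat_lit 0, nat_lit 5], [[nat_lit 99]]))))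
 (.node (nat_lit 785) (.node (nat_lit 784) (.leaf ((nat_lit 1), [nat_lit 4, nat_lit 1, nat_lit 3, nat_lit 2, nat_lit 5, nat_lit 3], [[nat_lit 99, nat_lit 0, nat_lit 0]])) (.leaf ((nat_lit 1), [nat_lit 3, nat_lit 4, nat_lit 1, nat_lit 5, nat_lit 4, nat_lit 2], [[nat_lit 99]]))) (.node (nat_lit 786) (.leaf ((nat_lit 1), [nat_lit 5, nat_lit 1, nat_lit 2, nat_lit 5, nat_lit 6, nat_lit 2], [[nat_lit 99, nat_lit 1]])) (.leaf ((nat_lit 1), [nat_lit 0, nat_lit 3, nat_lit 0, nat_lit 2, nat_lit 6, nat_lit 0, nat_lit 2], [[nat_lit 99, nat_lit 99, nat_lit 99]]))))))))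
 (.node (nat_lit 813) (.node (nat_lit 800) (.node (nat_lit 793) (.node (nat_lit 790) (.node (nat_lit 788) (.leaf ((nat_lit 1), [nat_lit 0, nat_lit 2, nat_lit 6, nat_lit 0, nat_lit 5, nat_lit 0], [[nat_lit 99]])) (.node (nat_lit 789) (.leaf ((nat_lit 1), [nat_lit 3, nat_lit 0, nat_lit 4, nat_lit 1, nat_lit 5, nat_lit 1, nat_lit 2], [[nat_lit 99, nat_lit 99, nat_lit 99, nat_lit 0]])) (.leaf ((nat_lit 1), [nat_lit 4, nat_lit 6, nat_lit 3, nat_lit 2, nat_lit 4, nat_lit 3], [[nat_lit 99, nat_lit 1]])))) (.node (nat_lit 791) (.leaf ((nat_lit 1), [nat_lit 1, nat_lit 6, nat_lit 1, nat_lit 4, nat_lit 2, nat_lit 5], [[nat_lit 99, nat_lit 1]])) (.node (nat_lit 792) (.leaf ((nat_lit 1), [nat_lit 0, nat_lit 3, nat_lit 0, nat_lit 5, nat_lit 1, nat_lit 4, nat_lit 3, nat_lit 0], [[nat_lit 99, nat_lit 0, nat_lit 0]])) (.leaf ((nat_lit 1), [nat_lit 5, nat_lit 0, nat_lit 6, nat_lit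 4, nat_lit 5, nat_lit 4, nat_lit 0], [[nat_lit 99, nat_lit 0]])))))
 (.node (nat_lit 796) (.node (nat_lit 794) (.leaf ((nat_lit 1), [nat_lit 6, nat_lit 3, nat_lit 4, nat_lit 3, nat_lit 6, nat_lit 2, nat_lit 1], [[nat_lit 99, nat_lit 0]])) (.node (nat_lit 795) (.leaf ((nat_lit 1), [nat_lit 1, nat_lit 3, nat_lit 5, nat_lit 3, nat_lit 4, nat_lit 2], [[nat_lit 99, nat_lit 1, nat_lit 99, nat_lit 99, nat_lit 0]])) (.leaf ((nat_lit 1), [nat_lit 6, nat_lit 4, nat_lit 3, nat_lit 4, nat_lit 0, nat_lit 6, nat_lit 0], [[nat_lit 99, nat_lit 99, nat_lit 99]]))))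
 (.node (nat_lit 798) (.node (nat_lit 797) (.leaf ((nat_lit 1), [nat_lit 5, nat_lit 0, nat_lit 5, nat_lit 1, nat_lit 3, nat_lit 2, nat_lit 0], [[nat_lit 99, nat_lit 1]])) (.leaf ((nat_lit 1), [nat_lit 3, nat_lit 1, nat_lit 6, nat_lit 3, nat_lit 5, nat_lit 4, nat_lit 1, nat_lit 2], [[nat_lit 99, nat_lit 99, nat_lit 99]]))) (.node (nat_lit 799) (.leaf ((nat_lit 1), [nat_lit 1, nat_lit 5, nat_lit 2, nat_lit 4, nat_lit 3, nat_lit 1, nat_lit 6, nat_lit 1], [[nat_lit 99, nat_lit 1]])) (.leaf ((nat_lit 1), [nat_lit 1, nat_lit 6, nat_lit 5, nat_lit 4, nat_lit 6, nat_lit 1, nat_lit 2], [[nat_lit 99, nat_lit 99, nat_lit 0]]))))))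
 (.node (nat_lit 806) (.node (nat_lit 803) (.node (nat_lit 801) (.leaf ((nat_lit 1), [nat_lit 2, nat_lit 4, nat_lit 6, nat_lit 3, nat_lit 4, nat_lit 3, nat_lit 1], [[nat_lit 99, nat_lit 99, nat_lit 99]])) (.node (nat_lit 802) (.leaf ((nat_lit 1), [nat_lit 1, nat_lit 3, nat_lit 4, nat_lit 6, nat_lit 5, nat_lit 0], [[nat_lit 99, nat_lit 0, nat_lit 0]])) (.leaf ((nat_lit 1), [nat_lit 4, nat_lit 3, nat_lit 2, nat_lit 5, nat_lit 3, nat_lit 6, nat_lit 2], [[nat_lit 99, nat_lit 0]])))) (.node (nat_lit 804) (.leaf ((nat_lit 1), [nat_lit 4, nat_lit 3, nat_lit 2, nat_lit 6, nat_lit 0, nat_lit 2], [[nat_lit 99]])) (.node (nat_lit 805) (.leaf ((nat_lit 1), [nat_lit 2, nat_lit 6, nat_lit 4, nat_lit 0, nat_lit 5, nat_lit 0, nat_lit 4, nat_lit 0], [[nat_lit 99, nat_lit 1]])) (.leaf ((nat_lit 1), [nat_lit 3, nat_lit 5, nat_lit 2, nat_lit 0, nat_lit 5, nat_lit 1], [[nat_lit 99, nat_lit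 0]])))))
 (.node (nat_lit 809) (.node (nat_lit 807) (.leaf ((nat_lit 1), [nat_lit 5, nat_lit 1, nat_lit 3, nat_lit 4, nat_lit 2, nat_lit 5], [[nat_lit 99, nat_lit 99, nat_lit 99, nat_lit 1]])) (.node (nat_lit 808) (.leaf ((nat_lit 1), [nat_lit 0, nat_lit 3, nat_lit 4, nat_lit 6, nat_lit 5, nat_lit 4], [[nat_lit 99, nat_lit 99, nat_lit 0]])) (.leaf ((nat_lit 1), [nat_lit 3, nat_lit 6, nat_lit 2, nat_lit 5, nat_lit 2, nat_lit 0, nat_lit 3], [[nat_lit 99, nat_lit 0, nat_lit 0, nat_lit 0, nat_lit 0]]))))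
 (.node (nat_lit 811) (.node (nat_lit 810) (.leaf ((nat_lit 1), [nat_lit 1, nat_lit 3, nat_lit 2, nat_lit 6, nat_lit 1], [[nat_lit 99, nat_lit 1]])) (.leaf ((nat_lit 1), [nat_lit 3, nat_lit 4, nat_lit 3, nat_lit 4, nat_lit 3, nat_lit 1], [[nat_lit 99, nat_lit 99, nat_lit 0]]))) (.node (nat_lit 812) (.leaf ((nat_lit 1), [nat_lit 0, nat_lit 3, nat_lit 1, nat_lit 4, nat_lit 0, nat_lit 6, nat_lit 1], [[nat_lit 99, nat_lit 1]])) (.leaf ((nat_lit 1), [nat_lit 2, nat_lit 1, nat_lit 6, nat_lit 1, nat_lit 4, nat_lit 3, nat_lit 2, nat_lit 0], [[nat_lit 99, nat_lit 1]])))))))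
 (.node (nat_lit 826) (.node (nat_lit 819) (.node (nat_lit 816) (.node (nat_lit 814) (.leaf ((nat_lit 1), [nat_lit 1, nat_lit 3, nat_lit 6, nat_lit 1, nat_lit 4, nat_lit 2], [[nat_lit 99]])) (.node (nat_lit 815) (.leaf ((nat_lit 1), [nat_lit 0, nat_lit 6, nat_lit 1, nat_lit 4, nat_lit 1, nat_lit 3], [[nat_lit 99, nat_lit 99, nat_lit 99]])) (.leaf ((nat_lit 1), [nat_lit 0, nat_lit 2, nat_lit 6, nat_lit 0, nat_lit 6, nat_lit 4], [[nat_lit 99, nat_lit 1]])))) (.node (nat_lit 817) (.leaf ((nat_lit 1), [nat_lit 0, nat_lit 6, nat_lit 2, nat_lit 6], [[nat_lit 99, nat_lit 1, nat_lit 1]])) (.node (nat_lit 818) (.leaf ((nat_lit 1), [nat_lit 0, nat_lit 6, nat_lit 5, nat_lit 2, nat_lit 0, nat_lit 6, nat_lit 5], [[nat_lit 99]])) (.leaf ((nat_lit 1), [nat_lit 0, nat_lit 2, nat_lit 0, nat_lit 4, nat_lit 1, nat_lit 6], [[nat_lit 99, nat_lit 99, nat_lit 1]])))))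
 (.node (nat_lit 822) (.node (nat_lit 820) (.leaf ((nat_lit 1), [nat_lit 5, nat_lit 2, nat_lit 4, nat_lit 1, nat_lit 6], [[nat_lit 99, nat_lit 1]])) (.node (nat_lit 821) (.leaf ((nat_lit 1), [nat_lit 6, nat_lit 4, nat_lit 0, nat_lit 3, nat_lit 4, nat_lit 6], [[nat_lit 99, nat_lit 1]])) (.leaf ((nat_lit 1), [nat_lit 1, nat_lit 5, nat_lit 1, nat_lit 6, nat_lit 5, nat_lit 1], [[nat_lit 99, nat_lit 99, nat_lit 99]]))))
 (.node (nat_lit 824) (.node (nat_lit 823) (.leaf ((nat_lit 1), [nat_lit 5, nat_lit 1, nat_lit 6, nat_lit 1, nat_lit 3, nat_lit 0, nat_lit 4], [[nat_lit 99]])) (.leaf ((nat_lit 1), [nat_lit 3, nat_lit 5, nat_lit 2, nat_lit 6, nat_lit 2, nat_lit 6, nat_lit 2], [[nat_lit 99, nat_lit 99, nat_lit 1]]))) (.node (nat_lit 825) (.leaf ((nat_lit 1), [nat_lit 6, nat_lit 1, nat_lit 2, nat_lit 5, nat_lit 1, nat_lit 3], [[nat_lit 99, nat_lit 1]])) (.leaf ((nat_lit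 1), [nat_lit 2, nat_lit 0, nat_lit 5, nat_lit 6, nat_lit 2, nat_lit 1, nat_lit 3], [[nat_lit 99, nat_lit 0]]))))))
 (.node (nat_lit 833) (.node (nat_lit 829) (.node (nat_lit 827) (.leaf ((nat_lit 1), [nat_lit 5, nat_lit 3, nat_lit 6, nat_lit 4, nat_lit 3, nat_lit 1], [[nat_lit 99, nat_lit 99, nat_lit 0, nat_lit 0, nat_lit 0]])) (.node (nat_lit 828) (.leaf ((nat_lit 1), [nat_lit 5, nat_lit 6, nat_lit 1, nat_lit 6, nat_lit 1, nat_lit 4], [[nat_lit 99, nat_lit 99, nat_lit 99, nat_lit 0]])) (.leaf ((nat_lit 1), [nat_lit 6, nat_lit 2, nat_lit 5, nat_lit 2, nat_lit 6], [[nat_lit 99, nat_lit 0, nat_lit 0]]))))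
 (.node (nat_lit 831) (.node (nat_lit 830) (.leaf ((nat_lit 1), [nat_lit 5, nat_lit 0, nat_lit 6, nat_lit 1, nat_lit 5, nat_lit 4], [[nat_lit 99]])) (.leaf ((nat_lit 1), [nat_lit 1, nat_lit 6, nat_lit 5, nat_lit 1, nat_lit 2, nat_lit 0], [[nat_lit 99]]))) (.node (nat_lit 832) (.leaf ((nat_lit 1), [nat_lit 6, nat_lit 2, nat_lit 5, nat_lit 0], [[nat_lit 99, nat_lit 99, nat_lit 0]])) (.leaf ((nat_lit 1), [nat_lit 4, nat_lit 0, nat_lit 6, nat_lit 0, nat_lit 4, nat_lit 2, nat_lit 1], [[nat_lit 99]])))))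
 (.node (nat_lit 836) (.node (nat_lit 834) (.leaf ((nat_lit 1), [nat_lit 6, nat_lit 0, nat_lit 3, nat_lit 2, nat_lit 6, nat_lit 1, nat_lit 4], [[nat_lit 99, nat_lit 99, nat_lit 1]])) (.node (nat_lit 835) (.leaf ((nat_lit 1), [nat_lit 0, nat_lit 4, nat_lit 1, nat_lit 3, nat_lit 6, nat_lit 5, nat_lit 3], [[nat_lit 99, nat_lit 99, nat_lit 0]])) (.leaf ((nat_lit 1), [nat_lit 3, nat_lit 4, nat_lit 0, nat_lit 2], [[nat_lit 99, nat_lit 0]]))))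
 (.node (nat_lit 838) (.node (nat_lit 837) (.leaf ((nat_lit 1), [nat_lit 2, nat_lit 6, nat_lit 5, nat_lit 4, nat_lit 2, nat_lit 5], [[nat_lit 99, nat_lit 1, nat_lit 1]])) (.leaf ((nat_lit 1), [nat_lit 1, nat_lit 3, nat_lit 4, nat_lit 6, nat_lit 3, nat_lit 5, nat_lit 3], [[nat_lit 99, nat_lit 0, nat_lit 0, nat_lit 0, nat_lit 0]]))) (.node (nat_lit 839) (.leaf ((nat_lit 1), [nat_lit 3, nat_lit 4, nat_lit 5, nat_lit 6, nat_lit 3, nat_lit 5, nat_lit 0], [[nat_lit 99]])) (.leaf ((nat_lit 1), [nat_lit 3, nat_lit 6, nat_lit 2, nat_lit 1, nat_lit 5, nat_lit 3], [[nat_lit 99, nat_lit 0, nat_lit 0, nat_lit 0]]))))))))))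
noncomputable def eCE : Tr (ℕ × List ℕ × List (List ℕ)) := (.node (nat_lit 420) (.node (nat_lit 210) eCE_0 eCE_1) (.node (nat_lit 630) eCE_2 eCE_3))
theorem es_0 : allR 0 523 (step2Chk (nat_lit 5) (nat_lit 31) (aL.map Lev.b) aT nT mT bDd cR AW [nat_lit 1] 60 eCE) = true := by decide +kernel
theorem es_1 : allR 523 317 (step2Chk (nat_lit 5) (nat_lit 31) (aL.map Lev.b) aT nT mT bDd cR AW [nat_lit 1] 60 eCE) = true := by decide +kernel
theorem es : allR 0 840 (step2Chk (nat_lit 5) (nat_lit 31) (aL.map Lev.b) aT nT mT bDd cR AW [nat_lit 1] 60 eCE) = true := (allR_add es_0 es_1)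
noncomputable def uxE : Tr (List ℕ) := (.node (nat_lit 2) (.node (nat_lit 1) (.leaf [nat_lit 2, nat_lit 0, nat_lit 1]) (.leaf [nat_lit 1, nat_lit 0, nat_lit 2])) (.node (nat_lit 3) (.leaf [nat_lit 0, nat_lit 1, nat_lit 3, nat_lit 1, nat_lit 0, nat_lit 2, nat_lit 1]) (.leaf [nat_lit 3, nat_lit 2, nat_lit 3, nat_lit 0, nat_lit 1, nat_lit 0, nat_lit 1])))
theorem uxw_0 : uT.all2 (fun c w => isProd 24 (nat_lit 5) (nat_lit 31) mT c w) uxE = true := by decide +kernel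
theorem uxw : uT.all2 (fun c w => isProd 24 (nat_lit 5) (nat_lit 31) mT c w) uxE = true := uxw_0
noncomputable def unW : Tr (List ℕ) := (.node (nat_lit 4) (.node (nat_lit 2) (.node (nat_lit 1) (.leaf [nat_lit 0, nat_lit 0, nat_lit 0, nat_lit 0]) (.leaf [nat_lit 1, nat_lit 1, nat_lit 1, nat_lit 1])) (.node (nat_lit 3) (.leaf [nat_lit 0, nat_lit 0, nat_lit 0]) (.leaf [nat_lit 1, nat_lit 1, nat_lit 1])))
 (.node (nat_lit 6) (.node (nat_lit 5) (.leaf [nat_lit 1, nat_lit 1]) (.leaf [nat_lit 0, nat_lit 0])) (.node (nat_lit 7) (.leaf [nat_lit 0, nat_lit 0, nat_lit 0, nat_lit 0, nat_lit 0]) (.leaf [nat_lit 1, nat_lit 1, nat_lit 1, nat_lit 1, nat_lit 1]))))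
theorem un : nrmChk (nat_lit 5) (nat_lit 31) (aL.map Lev.b) uT nT (topN uL) (topN nL) unW = true := by decide +kernel
noncomputable def nxE : Tr (List ℕ) := (.node (nat_lit 1) (.leaf [nat_lit 0, nat_lit 1, nat_lit 3, nat_lit 0, nat_lit 1]) (.leaf [nat_lit 1, nat_lit 3, nat_lit 2, nat_lit 0, nat_lit 2, nat_lit 0]))
theorem nxw_0 : nT.all2 (fun c w => isProd 24 (nat_lit 5) (nat_lit 31) mT c w) nxE = true := by decide +kernel
theorem nxw : nT.all2 (fun c w => isProd 24 (nat_lit 5) (nat_lit 31) mT c w) nxE = true := nxw_0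
theorem main {G : Type*} [Group G] [Finite G] {X : Type*} [MulAction G X] {pt : ℕ → X} (C : Ch G 24 (nat_lit 5) (nat_lit 31) pt aT aL) (H : Subgroup G)
    (h : 11 ∣ Nat.card H) : Nat.card H ∣ 660 ∨ 7 ∣ Nat.card H := by
  obtain ⟨c, hK⟩ := (PJ.of_prime C (AW := AW) (j := 0) (by norm_num) h (by decide +kernel) rfl (by decide +kernel)).conj'
  rw [← card_comap_conj H c]
  obtain ⟨N, D, -⟩ := (C.gen (lets_words C.lets nE nw) nchain nsd ntc)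
  obtain ⟨U, F, -⟩ := (C.gen (lets_words C.lets uE uw) uchain usd utc)
  obtain ⟨M, E, -⟩ := (C.gen (lets_words C.lets mE mw) mchain msd mtc)
  have UM := F.le_lets C.base (lets_words E.lets uxE uxw)
  have hD := (lets_words C.lets bdE bdw)
  have hR := (lets_words C.lets crE crw)
  refine (C.step2 D.lets E.lets hD hR (C.le_nor F D un) UM (D.le_lets C.base (lets_words E.lets nxE nxw)) UM (C.dbl2 F.lets E.lets hD bq (by decide +kernel)) (C.cos2 E D.lets hR cc (by decide +kernel)) (by decide +kernel) es (C.le_AW D hK nslp na)).imp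
    (fun h => (card_dvd_of_le h).trans (E.card.trans (by decide +kernel)).dvd) fun ⟨j, hj, h⟩ => ?_
  rw [List.mem_singleton.1 hj] at h
  exact h.dvd C (by norm_num) rfl (by decide +kernel)
theorem ch {p q : GolayPt} (h : p ≠ q) : ∃ pt : ℕ → GolayPt, Ch ↥(MulAction.stabilizer M24 p ⊓ MulAction.stabilizer M24 q) 24 (nat_lit 5) (nat_lit 31) pt aT aL := by
  obtain ⟨g, rfl, rfl⟩ := H7.two_trans (fun e => absurd (H7.gC.inj 0 (by decide) 1 (by decide) e) (by decide)) h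
  have hC := GC.std.tw g
  have e : SM M24 (twist H7.gC g) [0, 1] [] [] = MulAction.stabilizer M24 (g • H7.gC.dec 0) ⊓ MulAction.stabilizer M24 (g • H7.gC.dec 1) := by
    ext x; simp [mem_SM, tw_dec]
  exact ⟨_, e ▸ hC.sm ae, (twist H7.gC g).inj, atc, (H7.card_stab2 h).trans_le (by decide +kernel)⟩

end H8.M22i
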