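import Cfsg.Agent.H8.Ree
import Cfsg.Agent.H8.ZA
import Cfsg.Agent.H8.GM23
import Cfsg.Agent.H8.SpecC

/-! H8.M23g: generation of M23 by two elements of prime order (generated certificate) -/

set_option autoImplicit false
set_option maxRecDepth 200000

set_option linter.all false
open Subgroup 

namespace H8.M23g

theorem C : Ch M23.P 24 (nat_lit 5) (nat_lit 31) (Fin.ofNat 24) M23.T M23.L := M23.std.ch0 (by decide +kernel)
noncomputable def y2t0 : ℕ := (nat_lit 0xbbea7a14d3b264372d428208d64420)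
noncomputable def y2t1 : ℕ := (nat_lit 0xbbeb383447b2c83525c6a464562020)
noncomputable def y2t2 : ℕ := (nat_lit 0xbbeb134a88b38a34a97014da461c20)
noncomputable def y2t3 : ℕ := (nat_lit 0xbc50d7c2d29ba8c5a935094c2190e0)
noncomputable def y2T : Tr ℕ := (.node (nat_lit 2) (.node (nat_lit 1) (.leaf y2t0) (.leaf y2t1)) (.node (nat_lit 3) (.leaf y2t2) (.leaf y2t3)))
noncomputable def y2R : Tr (List ℕ) := (.node (nat_lit 4) (.node (nat_lit 2) (.node (nat_lit 1) (.leaf [nat_lit 0, nat_lit 2, nat_lit 0, nat_lit 2]) (.leaf [nat_lit 0, nat_lit 1])) (.node (nat_lit 3) (.leaf [nat_lit 0, nat_lit 0, nat_lit 0, nat_lit 0]) (.leaf [nat_lit 0, nat_lit 0, nat_lit 2, nat_lit 3, nat_lit 2, nat_lit 3, nat_lit 1, nat_lit 3, nat_lit 1, nat_lit 3])))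
 (.node (nat_lit 6) (.node (nat_lit 5) (.leaf [nat_lit 3, nat_lit 0, nat_lit 3, nat_lit 1, nat_lit 3, nat_lit 0, nat_lit 3, nat_lit 1]) (.leaf [nat_lit 3, nat_lit 2, nat_lit 3, nat_lit 2, nat_lit 3, nat_lit 2, nat_lit 3, nat_lit 2])) (.node (nat_lit 7) (.leaf [nat_lit 2, nat_lit 2]) (.leaf [nat_lit 3, nat_lit 3]))))
noncomputable def y2L0 : Lev := ⟨(nat_lit 1), (nat_lit 4), (nat_lit 0x404010104030204000400000000030403030400030000), (nat_lit 0x404020303030204000300000000030104040300020000),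
 (.node (nat_lit 2) (.node (nat_lit 1) (.leaf (nat_lit 0xb0008000000000005000200040004000000030000000000000000000200010003000400030000000200000000))
 (.leaf (nat_lit 0x3000700010005000200030000000a000000020000000000000000000400010003000600050000000300000000)))
 (.node (nat_lit 3) (.leaf (nat_lit 0xa000700010001000600000001000b000000010000000000000000000000010000000000020000000000000000))
 (.leaf (nat_lit 0x100010000000100010000000000000000000000000000000100000009000a00000000000100010000)))),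
 (.node (nat_lit 2) (.node (nat_lit 1) (.leaf (nat_lit 0x100000100000000000000000201000000000002000100000000000100000000000000000000000000000000000100000201000000000100000000000002000000000000))
 (.leaf (nat_lit 0x403000306000101000101000403000101000000000403000000000306000000000000000000000000000101000101000101000101000101000000000101000000000000)))
 (.node (nat_lit 3) (.leaf (nat_lit 0x503000501000600000600000001000000000600000601000000000600000000000000000000000000000000000600000000000000000503000000000000000000000000))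
 (.leaf (nat_lit 0x700000700000000000701000701000000000000000000000000000000000000000000000701000000000402000701000000000000000701000701000000))))⟩
noncomputable def y2L1 : Lev := ⟨(nat_lit 2), (nat_lit 3), (nat_lit 0x30300020300000000000000010301000000000000), (nat_lit 0x20300010200000000000000010102000000000000),
 (.node (nat_lit 1) (.leaf (nat_lit 0x200030000000200020000000000000000000000000000000000020000000000000000000100000000))
 (.node (nat_lit 2) (.leaf (nat_lit 0x400030000000000030000000000000000000000000000000100030003000000000000000100000000))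
 (.leaf (nat_lit 0x100000000000000000000000000000000000100000001000000000000000100000000)))),
 (.node (nat_lit 1) (.leaf (nat_lit 0x2000000000202000002000000000000000000000000000000000000000000000000000002000000000000000000000000000100000000000000))
 (.node (nat_lit 2) (.leaf (nat_lit 0x101000101000000000000000101000000000000000000000000000000000000000000000101000101000101000000000000000000000101000000000000))
 (.leaf (nat_lit 0x601000000000000000000000000000000000000000000000000000601000000000601000000000000000000000601000000000000))))⟩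
noncomputable def y2L : List Lev := [y2L0, y2L1]
noncomputable def y2E : Tr (List ℕ) := (.node (nat_lit 2) (.node (nat_lit 1) (.leaf [nat_lit 4, nat_lit 1, nat_lit 5, nat_lit 0, nat_lit 3, nat_lit 1, nat_lit 4]) (.leaf [nat_lit 2, nat_lit 1, nat_lit 5, nat_lit 0, nat_lit 3, nat_lit 4, nat_lit 0, nat_lit 3])) (.node (nat_lit 3) (.leaf [nat_lit 0, nat_lit 5, nat_lit 4, nat_lit 3, nat_lit 4, nat_lit 2, nat_lit 1, nat_lit 3, nat_lit 1]) (.leaf [nat_lit 4, nat_lit 3, nat_lit 6, nat_lit 0, nat_lit 2, nat_lit 1, nat_lit 5, nat_lit 1, nat_lit 3, nat_lit 1, nat_lit 4, nat_lit 0, nat_lit 3, nat_lit 2])))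
theorem y2w_0 : y2T.all2 (fun c w => isProd 24 (nat_lit 5) (nat_lit 31) M23.T c w) y2E = true := by decide +kernel
theorem y2w : y2T.all2 (fun c w => isProd 24 (nat_lit 5) (nat_lit 31) M23.T c w) y2E = true := y2w_0
theorem y2lev0 : levChk 24 (nat_lit 5) (nat_lit 31) y2T y2R y2L0 y2L1.N = true := by decide +kernel
theorem y2lev1 : levChk 24 (nat_lit 5) (nat_lit 31) y2T y2R y2L1 0 = true := by decide +kernel
theorem y2chain : Chain 24 (nat_lit 5) (nat_lit 31) y2T y2R y2L := chain_cons y2lev0 <| chain_one y2lev1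
theorem y2sd : band (selChk y2T y2T (topN y2L)) (y2R.all fun w => eqB (M23.L.map Lev.b) (apL (nat_lit 5) (nat_lit 31) y2T w) fun a => a) = true := by decide +kernel
theorem y2tc : tchainChk 24 (nat_lit 5) (nat_lit 31) y2T y2L = true := by decide +kernel
noncomputable def k2z0 : ℕ := (nat_lit 0xbb0d428230439565b42f3d66219132)
noncomputable def k2Z : Tr ℕ := (.leaf k2z0)
noncomputable def k2W : Tr (ℕ × List ℕ) := (.node (nat_lit 109529064) (.node (nat_lit 41191440) (.node (nat_lit 33554832) (.node (nat_lit 17960664) (.node (nat_lit 15313080) (.leaf ((nat_lit 0), [nat_lit 6, nat_lit 4, nat_lit 7, nat_lit 3, nat_lit 1, nat_lit 2, nat_lit 6, nat_lit 2, nat_lit 5, nat_lit 1, nat_lit 4, nat_lit 3, nat_lit 4, nat_lit 0])) (.leaf ((nat_lit 0), [nat_lit 3, nat_lit 7, nat_lit 3, nat_lit 6, nat_lit 3, nat_lit 5, nat_lit 4, nat_lit 3, nat_lit 4, nat_lit 1]))) (.node (nat_lit 33552504) (.leaf ((nat_lit 0), [nat_lit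 3, nat_lit 7, nat_lit 6, nat_lit 5, nat_lit 4, nat_lit 1, nat_lit 3, nat_lit 4, nat_lit 3, nat_lit 1, nat_lit 2, nat_lit 0])) (.leaf ((nat_lit 0), [nat_lit 5, nat_lit 1, nat_lit 7, nat_lit 3, nat_lit 0, nat_lit 5, nat_lit 0, nat_lit 4, nat_lit 0, nat_lit 2, nat_lit 0]))))
 (.node (nat_lit 33562392) (.node (nat_lit 33560424) (.leaf ((nat_lit 0), [nat_lit 5, nat_lit 7, nat_lit 0, nat_lit 2, nat_lit 6, nat_lit 3, nat_lit 1, nat_lit 5, nat_lit 0, nat_lit 3, nat_lit 0, nat_lit 4])) (.leaf ((nat_lit 0), [nat_lit 5, nat_lit 1, nat_lit 7, nat_lit 1, nat_lit 6, nat_lit 2, nat_lit 6, nat_lit 1, nat_lit 3, nat_lit 0]))) (.node (nat_lit 41185512) (.leaf ((nat_lit 0), [nat_lit 5, nat_lit 3, nat_lit 7, nat_lit 1, nat_lit 2, nat_lit 6, nat_lit 1, nat_lit 5, nat_lit 1, nat_lit 4, nat_lit 0, nat_lit 3])) (.leaf ((nat_lit 0), [nat_lit 5, nat_lit 1, nat_lit 7, nat_lit 6, nat_lit 2, nat_lit 6, nat_lit 3, nat_lit 2,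 nat_lit 1, nat_lit 4, nat_lit 0])))))
 (.node (nat_lit 48483240) (.node (nat_lit 45956088) (.node (nat_lit 41193720) (.leaf ((nat_lit 0), [nat_lit 2, nat_lit 1, nat_lit 7, nat_lit 0, nat_lit 6, nat_lit 2, nat_lit 6, nat_lit 4, nat_lit 3, nat_lit 1, nat_lit 5, nat_lit 3, nat_lit 0, nat_lit 4])) (.leaf ((nat_lit 0), [nat_lit 0, nat_lit 7, nat_lit 0, nat_lit 3, nat_lit 6, nat_lit 5, nat_lit 2, nat_lit 0, nat_lit 5, nat_lit 3, nat_lit 4]))) (.node (nat_lit 45961944) (.leaf ((nat_lit 0), [nat_lit 5, nat_lit 3, nat_lit 7, nat_lit 6, nat_lit 5, nat_lit 1, nat_lit 3, nat_lit 4, nat_lit 0, nat_lit 3, nat_lit 2])) (.leaf ((nat_lit 0), [nat_lit 5, nat_lit 7, nat_lit 5, nat_lit 2, nat_lit 5, nat_lit 0, nat_lit 3, nat_lit 1, nat_lit 4, nat_lit 0]))))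
 (.node (nat_lit 70055328) (.node (nat_lit 61432848) (.leaf ((nat_lit 0), [nat_lit 4, nat_lit 7, nat_lit 3, nat_lit 5, nat_lit 4, nat_lit 1, nat_lit 3, nat_lit 4])) (.leaf ((nat_lit 0), [nat_lit 6, nat_lit 3, nat_lit 7, nat_lit 6, nat_lit 5, nat_lit 1, nat_lit 5, nat_lit 1, nat_lit 3, nat_lit 4]))) (.node (nat_lit 105011160) (.leaf ((nat_lit 0), [nat_lit 5, nat_lit 0, nat_lit 7, nat_lit 1, nat_lit 5, nat_lit 6, nat_lit 4, nat_lit 0, nat_lit 3, nat_lit 2, nat_lit 0])) (.node (nat_lit 105017400) (.leaf ((nat_lit 0), [nat_lit 0, nat_lit 3, nat_lit 7, nat_lit 3, nat_lit 1, nat_lit 2, nat_lit 6, nat_lit 5, nat_lit 2, nat_lit 5, nat_lit 1, nat_lit 3, nat_lit 1])) (.leaf ((nat_lit 0), [nat_lit 3, nat_lit 7, nat_lit 6, nat_lit 4, nat_lit 1, nat_lit 5, nat_lit 0, nat_lit 3, nat_lit 2])))))))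
 (.node (nat_lit 147685752) (.node (nat_lit 119938272) (.node (nat_lit 109537272) (.node (nat_lit 109531032) (.leaf ((nat_lit 0), [nat_lit 6, nat_lit 5, nat_lit 7, nat_lit 3, nat_lit 1, nat_lit 2, nat_lit 6, nat_lit 1, nat_lit 5, nat_lit 3, nat_lit 4, nat_lit 0, nat_lit 3])) (.leaf ((nat_lit 0), [nat_lit 2, nat_lit 4, nat_lit 7, nat_lit 3, nat_lit 0, nat_lit 5, nat_lit 0, nat_lit 3, nat_lit 4, nat_lit 2, nat_lit 0]))) (.node (nat_lit 109539600) (.leaf ((nat_lit 0), [nat_lit 5, nat_lit 0, nat_lit 7, nat_lit 4, nat_lit 5, nat_lit 2, nat_lit 6, nat_lit 0, nat_lit 5, nat_lit 0, nat_lit 4, nat_lit 1])) (.leaf ((nat_lit 0), [nat_lit 0, nat_lit 2, nat_lit 7, nat_lit 0, nat_lit 3, nat_lit 6, nat_lit 0, nat_lit 5, nat_lit 4, nat_lit 3, nat_lit 4, nat_lit 2, nat_lit 0, nat_lit 3]))))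
 (.node (nat_lit 134086920) (.node (nat_lit 126453168) (.leaf ((nat_lit 0), [nat_lit 5, nat_lit 7, nat_lit 3, nat_lit 1, nat_lit 2, nat_lit 6, nat_lit 0, nat_lit 3, nat_lit 4, nat_lit 3, nat_lit 0, nat_lit 2])) (.leaf ((nat_lit 0), [nat_lit 7, nat_lit 6, nat_lit 0, nat_lit 5, nat_lit 4, nat_lit 1, nat_lit 3, nat_lit 4, nat_lit 1, nat_lit 3, nat_lit 2, nat_lit 0]))) (.node (nat_lit 137729136) (.leaf ((nat_lit 0), [nat_lit 4, nat_lit 7, nat_lit 4, nat_lit 3, nat_lit 6, nat_lit 0, nat_lit 5, nat_lit 2, nat_lit 1, nat_lit 4, nat_lit 1, nat_lit 2])) (.node (nat_lit 147683472) (.leaf ((nat_lit 0), [nat_lit 7, nat_lit 3, nat_lit 6, nat_lit 5, nat_lit 2, nat_lit 1, nat_lit 4, nat_lit 3, nat_lit 0, nat_lit 2, nat_lit 1])) (.leaf ((nat_lit 0), [nat_lit 5, nat_lit 1, nat_lit 7, nat_lit 6, nat_lit 5, nat_lit 2, nat_lit 5, nat_lit 1, nat_lit 3, nat_lit 4, nat_lit 0, nat_lit 3, nat_lit 1]))))))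
 (.node (nat_lit 164612928) (.node (nat_lit 147693672) (.node (nat_lit 147691032) (.leaf ((nat_lit 0), [nat_lit 7, nat_lit 3, nat_lit 6, nat_lit 3, nat_lit 2, nat_lit 5, nat_lit 1, nat_lit 3, nat_lit 0, nat_lit 4])) (.leaf ((nat_lit 0), [nat_lit 0, nat_lit 3, nat_lit 7, nat_lit 6, nat_lit 1, nat_lit 5, nat_lit 3, nat_lit 1, nat_lit 4, nat_lit 2]))) (.node (nat_lit 153998016) (.leaf ((nat_lit 0), [nat_lit 2, nat_lit 7, nat_lit 2, nat_lit 6, nat_lit 5, nat_lit 2, nat_lit 5, nat_lit 4, nat_lit 1, nat_lit 3, nat_lit 2, nat_lit 1])) (.leaf ((nat_lit 0), [nat_lit 2, nat_lit 7, nat_lit 6, nat_lit 3, nat_lit 4, nat_lit 0, nat_lit 5, nat_lit 0, nat_lit 4, nat_lit 3, nat_lit 4, nat_lit 1, nat_lit 2, nat_lit 0]))))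
 (.node (nat_lit 174681528) (.node (nat_lit 172244472) (.leaf ((nat_lit 0), [nat_lit 7, nat_lit 0, nat_lit 3, nat_lit 6, nat_lit 3, nat_lit 1, nat_lit 5, nat_lit 4, nat_lit 3, nat_lit 4, nat_lit 0, nat_lit 3])) (.leaf ((nat_lit 0), [nat_lit 5, nat_lit 0, nat_lit 7, nat_lit 3, nat_lit 0, nat_lit 5, nat_lit 3, nat_lit 0, nat_lit 4, nat_lit 1, nat_lit 3]))) (.node (nat_lit 175555104) (.leaf ((nat_lit 0), [nat_lit 5, nat_lit 7, nat_lit 3, nat_lit 6, nat_lit 0, nat_lit 5, nat_lit 1, nat_lit 4, nat_lit 3, nat_lit 4, nat_lit 2, nat_lit 1])) (.node (nat_lit 182320560) (.leaf ((nat_lit 0), [nat_lit 4, nat_lit 0, nat_lit 7, nat_lit 1, nat_lit 3, nat_lit 6, nat_lit 0, nat_lit 2, nat_lit 5, nat_lit 1, nat_lit 3])) (.leaf ((nat_lit 0), [nat_lit 0, nat_lit 2, nat_lit 1, nat_lit 7, nat_lit 3, nat_lit 1, nat_lit 4, nat_lit 0, nat_lit 3, nat_lit 0, nat_lit 2, nat_lit 1]))))))))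
theorem k2 : allR 0 24 (refu 24 (nat_lit 5) (nat_lit 31) y2T ⟨fun _ _ => 0, fun _ _ _ => true, leafK 24 (nat_lit 5) (nat_lit 31) (M23.L.map Lev.b) M23.T 2 k2Z k2W⟩ y2L0 [y2L1] []) = true := by decide +kernel
noncomputable def z2 : ℕ := (nat_lit 0xbb0d428230439565b42f3d66219132)
noncomputable def z2w : List ℕ := [nat_lit 3, nat_lit 1, nat_lit 7, nat_lit 6, nat_lit 1, nat_lit 3, nat_lit 6, nat_lit 4, nat_lit 0, nat_lit 5, nat_lit 2, nat_lit 1, nat_lit 4, nat_lit 0, nat_lit 3, nat_lit 2, nat_lit 0]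
theorem z2p : isProd 24 (nat_lit 5) (nat_lit 31) M23.T z2 z2w = true := by decide +kernel
theorem c2 {x : M23.P} (h : orderOf x = 2) : Cyc (Fin 24) x 16 := by
  obtain ⟨N, D, -⟩ := (C.gen (lets_words C.lets y2E y2w) y2chain y2sd y2tc)
  obtain ⟨c, e⟩ := isConj_iff.1 (C.conj1 D (by norm_num) (by decide +kernel) (rep_word C.lets z2w z2p) k2 x h)
  exact (cyc_of (rep_word C.lets z2w z2p) 16 (nat_lit 0xf0a050e04000d0c070b080a090801070605040203020100) (by decide +kernel)).conj (c := c) (by rw [e]; exact mem_zpowers x)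
noncomputable def y3t0 : ℕ := (nat_lit 0xbb1239be478a9a6588b045ab423820)
noncomputable def y3t1 : ℕ := (nat_lit 0xb98a49c5e8909b65baa783123a2820)
noncomputable def y3t2 : ℕ := (nat_lit 0xb9a4959067a3a766a9f04323528820)
noncomputable def y3t3 : ℕ := (nat_lit 0xbb08f6d4a84b9669aa878587288820)
noncomputable def y3T : Tr ℕ := (.node (nat_lit 2) (.node (nat_lit 1) (.leaf y3t0) (.leaf y3t1)) (.node (nat_lit 3) (.leaf y3t2) (.leaf y3t3)))
noncomputable def y3R : Tr (List ℕ) := (.node (nat_lit 2) (.node (nat_lit 1) (.leaf [nat_lit 0, nat_lit 1]) (.leaf [nat_lit 0, nat_lit 0, nat_lit 0])) (.node (nat_lit 3) (.leaf [nat_lit 0, nat_lit 2, nat_lit 1, nat_lit 3]) (.node (nat_lit 4) (.leaf [nat_lit 2, nat_lit 3]) (.leaf [nat_lit 2, nat_lit 2, nat_lit 2]))))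
noncomputable def y3L0 : Lev := ⟨(nat_lit 3), (nat_lit 4), (nat_lit 0x4010003030003000000000004000000040200000000), (nat_lit 0x2010002010002000000000002000000010100000000),
 (.node (nat_lit 2) (.node (nat_lit 1) (.leaf (nat_lit 0x4000000000004000300000003000000000000000000000002000000000000000500020001000000000000))
 (.leaf (nat_lit 0x6000300000002000200000005000000000000000000000005000000000000000300000001000000000000)))
 (.node (nat_lit 3) (.leaf (nat_lit 0x2000100000000000000000000000000000000000000000002000000000000000200010001000000000000))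
 (.leaf (nat_lit 0x100000003000300000003000000000000000000000000000000000000000000010001000000000000)))),
 (.node (nat_lit 2) (.node (nat_lit 1) (.leaf (nat_lit 0x200000000000000000100000000000000000000000000000000000000000000000000000200000000000000000000000102000101000000000000000000000000))
 (.leaf (nat_lit 0x1000001000000000202000202000000000001000000000000000000000000000000000001000000000000000000000001000000000001000000000000000000)))
 (.node (nat_lit 3) (.leaf (nat_lit 0x401000300000000000000000000000000000000000000000000000000000000000000000402000000000000000000000401000300000300000000000000000000))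
 (.leaf (nat_lit 0x301000000000301000301000000000301000000000000000000000000000000000000000000000000000000000000000301000301000000000000000000))))⟩
noncomputable def y3L : List Lev := [y3L0]
noncomputable def y3E : Tr (List ℕ) := (.node (nat_lit 2) (.node (nat_lit 1) (.leaf [nat_lit 5, nat_lit 1, nat_lit 5, nat_lit 0, nat_lit 3, nat_lit 0, nat_lit 4, nat_lit 3, nat_lit 0]) (.leaf [nat_lit 1, nat_lit 5, nat_lit 1, nat_lit 3, nat_lit 1, nat_lit 4, nat_lit 3, nat_lit 2])) (.node (nat_lit 3) (.leaf [nat_lit 1, nat_lit 4, nat_lit 3, nat_lit 4, nat_lit 0, nat_lit 3, nat_lit 2, nat_lit 0]) (.leaf [nat_lit 0, nat_lit 4, nat_lit 3, nat_lit 4, nat_lit 3, nat_lit 0, nat_lit 2])))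
theorem y3w_0 : y3T.all2 (fun c w => isProd 24 (nat_lit 5) (nat_lit 31) M23.T c w) y3E = true := by decide +kernel
theorem y3w : y3T.all2 (fun c w => isProd 24 (nat_lit 5) (nat_lit 31) M23.T c w) y3E = true := y3w_0
theorem y3lev0 : levChk 24 (nat_lit 5) (nat_lit 31) y3T y3R y3L0 0 = true := by decide +kernel
theorem y3chain : Chain 24 (nat_lit 5) (nat_lit 31) y3T y3R y3L := chain_one y3lev0
theorem y3sd : band (selChk y3T y3T (topN y3L)) (y3R.all fun w => eqB (M23.L.map Lev.b) (apL (nat_lit 5) (nat_lit 31) y3T w) fun a => a) = true := by decide +kernel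
theorem y3tc : tchainChk 24 (nat_lit 5) (nat_lit 31) y3T y3L = true := by decide +kernel
noncomputable def k3z0 : ℕ := (nat_lit 0xb8aa30a588b460e9a8cd3c8a403d74)
noncomputable def k3Z : Tr ℕ := (.leaf k3z0)
noncomputable def k3W : Tr (ℕ × List ℕ) := (.node (nat_lit 142402200) (.node (nat_lit 72941208) (.node (nat_lit 37084056) (.leaf ((nat_lit 0), [nat_lit 5, nat_lit 3, nat_lit 7, nat_lit 3, nat_lit 6, nat_lit 0, nat_lit 5, nat_lit 3, nat_lit 2, nat_lit 1, nat_lit 4, nat_lit 1, nat_lit 3])) (.leaf ((nat_lit 0), [nat_lit 5, nat_lit 7, nat_lit 6, nat_lit 3, nat_lit 0, nat_lit 5, nat_lit 1, nat_lit 4, nat_lit 3, nat_lit 2, nat_lit 1]))) (.node (nat_lit 121228440) (.leaf ((nat_lit 0), [nat_lit 7, nat_lit 4, nat_lit 5, nat_lit 2, nat_lit 6, nat_lit 2, nat_lit 0, nat_lit 5, nat_lit 2, nat_lit 0, nat_lit 3])) (.leaf ((nat_lit 0), [nat_lit 3, nat_lit 7, nat_lit 2, nat_lit 6, nat_lit 0, nat_lit 5, nat_lit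 3, nat_lit 1, nat_lit 4, nat_lit 1, nat_lit 2]))))
 (.node (nat_lit 165105816) (.node (nat_lit 146611608) (.leaf ((nat_lit 0), [nat_lit 2, nat_lit 7, nat_lit 0, nat_lit 2, nat_lit 6, nat_lit 2, nat_lit 1, nat_lit 5, nat_lit 3, nat_lit 0, nat_lit 4, nat_lit 3, nat_lit 2, nat_lit 0])) (.leaf ((nat_lit 0), [nat_lit 0, nat_lit 7, nat_lit 0, nat_lit 6, nat_lit 2, nat_lit 6, nat_lit 0, nat_lit 3, nat_lit 4, nat_lit 1, nat_lit 3]))) (.node (nat_lit 173914008) (.leaf ((nat_lit 0), [nat_lit 3, nat_lit 1, nat_lit 7, nat_lit 6, nat_lit 3, nat_lit 2, nat_lit 1, nat_lit 4, nat_lit 1, nat_lit 3, nat_lit 2, nat_lit 1])) (.leaf ((nat_lit 0), [nat_lit 4, nat_lit 0, nat_lit 7, nat_lit 6, nat_lit 3, nat_lit 2, nat_lit 5, nat_lit 4, nat_lit 0, nat_lit 2])))))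
theorem k3 : allR 0 24 (refu 24 (nat_lit 5) (nat_lit 31) y3T ⟨fun _ _ => 0, fun _ _ _ => true, leafK 24 (nat_lit 5) (nat_lit 31) (M23.L.map Lev.b) M23.T 3 k3Z k3W⟩ y3L0 [] []) = true := by decide +kernel
noncomputable def z3 : ℕ := (nat_lit 0xb8aa30a588b460e9a8cd3c8a403d74)
noncomputable def z3w : List ℕ := [nat_lit 0, nat_lit 3, nat_lit 7, nat_lit 6, nat_lit 2, nat_lit 6, nat_lit 2, nat_lit 1, nat_lit 5, nat_lit 0, nat_lit 3, nat_lit 0, nat_lit 4, nat_lit 0, nat_lit 3]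
theorem z3p : isProd 24 (nat_lit 5) (nat_lit 31) M23.T z3 z3w = true := by decide +kernel
theorem c3 {x : M23.P} (h : orderOf x = 3) : Cyc (Fin 24) x 12 := by
  obtain ⟨N, D, -⟩ := (C.gen (lets_words C.lets y3E y3w) y3chain y3sd y3tc)
  obtain ⟨c, e⟩ := isConj_iff.1 (C.conj1 D (by norm_num) (by decide +kernel) (rep_word C.lets z3w z3p) k3 x h)
  exact (cyc_of (rep_word C.lets z3w z3p) 12 (nat_lit 0xb020a000105090702090709010805070605040300020100) (by decide +kernel)).conj (c := c) (by rw [e]; exact mem_zpowers x)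
noncomputable def z5 : ℕ := (nat_lit 0xbac14232453d66a70d066c12f88836)
noncomputable def z5w : List ℕ := [nat_lit 2, nat_lit 7, nat_lit 0, nat_lit 3, nat_lit 6, nat_lit 3, nat_lit 1, nat_lit 5, nat_lit 2, nat_lit 1, nat_lit 4, nat_lit 3]
theorem z5p : isProd 24 (nat_lit 5) (nat_lit 31) M23.T z5 z5w = true := by decide +kernel
theorem c5 {x : M23.P} (h : orderOf x = 5) : Cyc (Fin 24) x 8 :=
  let ⟨_, e⟩ := conj_zpowers (by norm_num) (by rw [M23.card]; norm_num) h ((ordF_spec C.inj C.base (rep_word C.lets z5w z5p) (fuel := 30) (by decide +kernel)).trans (by decide +kernel))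
  (cyc_of (rep_word C.lets z5w z5p) 8 (nat_lit 0x70000060403030504000403000305050405050403020100) (by decide +kernel)).conj e
noncomputable def z7 : ℕ := (nat_lit 0xb88042d68383cd162ac13c9a84b973)
noncomputable def z7w : List ℕ := [nat_lit 3, nat_lit 7, nat_lit 6, nat_lit 1, nat_lit 3, nat_lit 6, nat_lit 5, nat_lit 1, nat_lit 5, nat_lit 0, nat_lit 4, nat_lit 3, nat_lit 4, nat_lit 2, nat_lit 1, nat_lit 3, nat_lit 1]
theorem z7p : isProd 24 (nat_lit 5) (nat_lit 31) M23.T z7 z7w = true := by decide +kernel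
theorem c7 {x : M23.P} (h : orderOf x = 7) : Cyc (Fin 24) x 6 :=
  let ⟨_, e⟩ := conj_zpowers (by norm_num) (by rw [M23.card]; norm_num) h ((ordF_spec C.inj C.base (rep_word C.lets z7w z7p) (fuel := 30) (by decide +kernel)).trans (by decide +kernel))
  (cyc_of (rep_word C.lets z7w z7p) 6 (nat_lit 0x50200010000010202020001010402010300000102020100) (by decide +kernel)).conj e
noncomputable def oW : Tr (List ℕ) := (.node (nat_lit 12) (.node (nat_lit 6) (.node (nat_lit 3) (.node (nat_lit 1) (.leaf []) (.node (nat_lit 2) (.leaf [nat_lit 6, nat_lit 5, nat_lit 7, nat_lit 0, nat_lit 5, nat_lit 2, nat_lit 6, nat_lit 4, nat_lit 1, nat_lit 3, nat_lit 4, nat_lit 0, nat_lit 3, nat_lit 2, nat_lit 0]) (.leaf [nat_lit 6, nat_lit 4, nat_lit 7, nat_lit 3, nat_lit 6, nat_lit 3, nat_lit 0, nat_lit 5, nat_lit 0, nat_lit 4, nat_lit 1, nat_lit 2, nat_lit 0]))) (.node (nat_lit 4) (.leaf [nat_lit 6, nat_lit 4, nat_lit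 0, nat_lit 7, nat_lit 4, nat_lit 0, nat_lit 2, nat_lit 6, nat_lit 1, nat_lit 5, nat_lit 4, nat_lit 3, nat_lit 1, nat_lit 4, nat_lit 0, nat_lit 2]) (.node (nat_lit 5) (.leaf [nat_lit 5, nat_lit 7, nat_lit 6, nat_lit 0, nat_lit 5, nat_lit 1, nat_lit 4, nat_lit 3, nat_lit 2]) (.leaf [nat_lit 4, nat_lit 0, nat_lit 7]))))
 (.node (nat_lit 9) (.node (nat_lit 7) (.leaf [nat_lit 2, nat_lit 4, nat_lit 7, nat_lit 0, nat_lit 5, nat_lit 1, nat_lit 4, nat_lit 3, nat_lit 4, nat_lit 1, nat_lit 2, nat_lit 1]) (.node (nat_lit 8) (.leaf [nat_lit 5, nat_lit 0, nat_lit 7, nat_lit 2, nat_lit 6, nat_lit 4, nat_lit 1, nat_lit 5, nat_lit 0, nat_lit 3, nat_lit 4, nat_lit 3, nat_lit 2, nat_lit 1]) (.leaf [nat_lit 1, nat_lit 7]))) (.node (nat_lit 10) (.leaf [nat_lit 0, nat_lit 7]) (.node (nat_lit 11) (.leaf [nat_lit 2, nat_lit 1, nat_lit 7, nat_lit 4, nat_lit 5, nat_lit 2, nat_lit 6, nat_lit 3, nat_lit 1, nat_lit 5, nat_lit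 2, nat_lit 1, nat_lit 4, nat_lit 1, nat_lit 2, nat_lit 0]) (.leaf [nat_lit 5, nat_lit 1, nat_lit 7, nat_lit 4, nat_lit 5, nat_lit 2, nat_lit 6, nat_lit 3, nat_lit 1, nat_lit 5, nat_lit 2, nat_lit 1, nat_lit 4, nat_lit 1, nat_lit 2, nat_lit 0])))))
 (.node (nat_lit 18) (.node (nat_lit 15) (.node (nat_lit 13) (.leaf [nat_lit 0, nat_lit 2, nat_lit 1, nat_lit 7, nat_lit 0, nat_lit 6, nat_lit 2, nat_lit 6, nat_lit 4, nat_lit 0, nat_lit 5, nat_lit 0, nat_lit 4, nat_lit 3, nat_lit 4]) (.node (nat_lit 14) (.leaf [nat_lit 4, nat_lit 7]) (.leaf [nat_lit 7, nat_lit 0, nat_lit 7, nat_lit 5, nat_lit 2, nat_lit 6, nat_lit 3, nat_lit 0, nat_lit 5, nat_lit 4, nat_lit 1, nat_lit 3, nat_lit 4, nat_lit 0, nat_lit 3, nat_lit 0, nat_lit 2]))) (.node (nat_lit 16) (.leaf [nat_lit 6, nat_lit 3, nat_lit 7, nat_lit 6, nat_lit 1, nat_lit 5, nat_lit 4, nat_lit 1, nat_lit 3, nat_lit 4, nat_lit 0, nat_lit 3, nat_lit 2, nat_lit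 0]) (.node (nat_lit 17) (.leaf [nat_lit 0, nat_lit 2, nat_lit 7]) (.leaf [nat_lit 5, nat_lit 3, nat_lit 7, nat_lit 5, nat_lit 2, nat_lit 6, nat_lit 0, nat_lit 5, nat_lit 0, nat_lit 4, nat_lit 3, nat_lit 4, nat_lit 0, nat_lit 3, nat_lit 2, nat_lit 1]))))
 (.node (nat_lit 21) (.node (nat_lit 19) (.leaf [nat_lit 3, nat_lit 1, nat_lit 7, nat_lit 0, nat_lit 6, nat_lit 2, nat_lit 6, nat_lit 3, nat_lit 4, nat_lit 0, nat_lit 5, nat_lit 1, nat_lit 3, nat_lit 1, nat_lit 4, nat_lit 1, nat_lit 2, nat_lit 1]) (.node (nat_lit 20) (.leaf [nat_lit 3, nat_lit 7]) (.leaf [nat_lit 0, nat_lit 3, nat_lit 7, nat_lit 1, nat_lit 3, nat_lit 6, nat_lit 3, nat_lit 0]))) (.node (nat_lit 22) (.leaf [nat_lit 7]) (.node (nat_lit 23) (.leaf [nat_lit 2, nat_lit 7]) (.leaf []))))))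
theorem orb (a : Fin 24) : ∃ (g : M23.P) (j : Fin 2), a = g • (![Fin.ofNat 24 0, Fin.ofNat 24 23] : Fin 2 → Fin 24) j := by
  have h := allB_iff.1 (show (allB 24 fun a => bor (Nat.beq (apL (nat_lit 5) (nat_lit 31) M23.T (oW.get a) 0) a) (Nat.beq a 23)) = true by decide +kernel) a a.2
  rw [bor_eq_true, Nat.beq_eq, Nat.beq_eq] at h
  rcases h with h | h
  · exact ⟨_, 0, by rw [← ofNat_coe a, ← h]; exact (apL_rep C.lets.rep _ 0 (by norm_num)).2⟩
  · exact ⟨1, 1, Fin.ext h⟩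
theorem c1 (x : M23.P) : Cyc (Fin 24) x 1 := ⟨fun _ => 0, fun j => ⟨0, Subsingleton.elim _ _⟩, fun _ => rfl⟩
def PQR (G : Type*) [Group G] (p q r : ℕ) : Prop :=
  ∃ x y z : G, orderOf x = p ∧ orderOf y = q ∧ orderOf z = r ∧ x * y * z = 1 ∧ closure {x, y} = ⊤
theorem PQR.congr {G H : Type*} [Group G] [Group H] (e : G ≃* H) {p q r : ℕ} (h : PQR G p q r) : PQR H p q r :=
  let ⟨x, y, z, h1, h2, h3, h4, h5⟩ := h
  ⟨e x, e y, e z, (e.orderOf_eq x).trans h1, (e.orderOf_eq y).trans h2, (e.orderOf_eq z).trans h3, by rw [← map_mul, ← map_mul, h4, map_one],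
    by
      have := congrArg (map e.toMonoidHom) h5
      rwa [MonoidHom.map_closure, Set.image_pair, map_top_of_surjective e.toMonoidHom e.surjective] at this⟩
theorem pos {S : Tr ℕ} {D : Tr (List ℕ)} {len p q r : ℕ} (u v : List ℕ) (h1 : slpChk 24 (nat_lit 5) (nat_lit 31) S D 2 len = true)
    (h : band (band (isProd 24 (nat_lit 5) (nat_lit 31) M23.T (S.get 0) u) (band (isProd 24 (nat_lit 5) (nat_lit 31) M23.T (S.get 1) v) (selChk M23.T S (2 + len))))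
      (band (Nat.ble 1 (p * q * r)) (band (Nat.beq (ordF (M23.L.map Lev.b) 30 (ap (nat_lit 5) (nat_lit 31) (S.get 0))) p) (band (Nat.beq (ordF (M23.L.map Lev.b) 30 (ap (nat_lit 5) (nat_lit 31) (S.get 1))) q)
      (Nat.beq (ordF (M23.L.map Lev.b) 30 fun a => ap (nat_lit 5) (nat_lit 31) (S.get 0) (ap (nat_lit 5) (nat_lit 31) (S.get 1) a)) r)))) = true) : PQR M23.P p q r := by
  simp only [band_eq_true, Nat.beq_eq, Nat.ble_eq] at h
  obtain ⟨⟨a, b, c⟩, d, e, f, g⟩ := h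
  have ra := rep_word C.lets u a
  have rb := rep_word C.lets v b
  have n : p ≠ 0 ∧ q ≠ 0 ∧ r ≠ 0 := by simpa [Nat.one_le_iff_ne_zero, and_assoc] using d
  exact ⟨_, _, _, (ordF_spec C.inj C.base ra (e ▸ n.1)).trans e, (ordF_spec C.inj C.base rb (f ▸ n.2.1)).trans f,
    (orderOf_inv _).trans ((ordF_spec C.inj C.base (ra.comp rb) (g ▸ n.2.2)).trans g), mul_inv_cancel _, C.gen2 ra rb h1 c⟩
noncomputable def g2_5_11s0 : ℕ := (nat_lit 0xbbab4285463d9ac5c4887c26918242)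
noncomputable def g2_5_11s1 : ℕ := (nat_lit 0xbd848a315393c6901dc45b4b0a9831)
noncomputable def g2_5_11s2 : ℕ := (nat_lit 0xbd87383c04724d23c594508a86d42b)
noncomputable def g2_5_11s3 : ℕ := (nat_lit 0xb9d4b44e143588f08ead495c264640)
noncomputable def g2_5_11s4 : ℕ := (nat_lit 0xbb9309045161503a54f3b3ccd51160)
noncomputable def g2_5_11s5 : ℕ := (nat_lit 0xba48ca21d39047689d42ab605599e0)
noncomputable def g2_5_11s6 : ℕ := (nat_lit 0xbb0f383d650c4d41a6d2508956a1c0)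
noncomputable def g2_5_11s7 : ℕ := (nat_lit 0xba6cd79490450ee899426557298c20)
noncomputable def g2_5_11s8 : ℕ := (nat_lit 0xbd4ce191709b2872a6cf6aa5112020)
noncomputable def g2_5_11s9 : ℕ := (nat_lit 0xb9ca658a544458480d564d66e7b420)
noncomputable def g2_5_11s10 : ℕ := (nat_lit 0xba0d02c5cb1904d9a4efb52ac54820)
noncomputable def g2_5_11s11 : ℕ := (nat_lit 0xba6c5256547315338e268356f40820)
noncomputable def g2_5_11s12 : ℕ := (nat_lit 0xbd6506452723cce2b6c35a29350820)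
noncomputable def g2_5_11s13 : ℕ := (nat_lit 0xbb52e5327629a0b944687d0e4a8820)
noncomputable def g2_5_11s14 : ℕ := (nat_lit 0xbc0668ad4d3d2d264ea82b9e448820)
noncomputable def g2_5_11s15 : ℕ := (nat_lit 0xbb2ad350abb464f5408999dc818820)
noncomputable def g2_5_11s16 : ℕ := (nat_lit 0xbbeb23b5ca6169682d0434e2918820)
noncomputable def g2_5_11s17 : ℕ := (nat_lit 0xba8cb9d9cf4152d24990a9e3418820)
noncomputable def g2_5_11s18 : ℕ := (nat_lit 0xbc8e49a8a884589a59af355cb18820)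
noncomputable def g2_5_11s19 : ℕ := (nat_lit 0xbd58a410b37c4f66a6905c9c618820)
noncomputable def g2_5_11s20 : ℕ := (nat_lit 0xbb2c9819c8795753d1536923218820)
noncomputable def g2_5_11s21 : ℕ := (nat_lit 0xbb5135bdd63160aa1ea964a2418820)
noncomputable def g2_5_11s22 : ℕ := (nat_lit 0xbc12ba18ad946c79b11553dc418820)
noncomputable def g2_5_11s23 : ℕ := (nat_lit 0xbd6cb22627638cfa224a834b318820)
noncomputable def g2_5_11s24 : ℕ := (nat_lit 0xb926faa22da3a0b6255231cb618820)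
noncomputable def g2_5_11s25 : ℕ := (nat_lit 0xb9da32494673eac5c4a8b4133a0820)
noncomputable def g2_5_11s26 : ℕ := (nat_lit 0xbd8948ca636a9e2438eb498b583020)
noncomputable def g2_5_11s27 : ℕ := (nat_lit 0xbdaa77b9909c8514292ba18612b480)
noncomputable def g2_5_11s28 : ℕ := (nat_lit 0xbc8145da217a5a29a9c8390662b215)
noncomputable def g2_5_11S : Tr ℕ := (.node (nat_lit 14) (.node (nat_lit 7) (.node (nat_lit 3) (.node (nat_lit 1) (.leaf g2_5_11s0) (.node (nat_lit 2) (.leaf g2_5_11s1) (.leaf g2_5_11s2)))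
 (.node (nat_lit 5) (.node (nat_lit 4) (.leaf g2_5_11s3) (.leaf g2_5_11s4)) (.node (nat_lit 6) (.leaf g2_5_11s5) (.leaf g2_5_11s6))))
 (.node (nat_lit 10) (.node (nat_lit 8) (.leaf g2_5_11s7) (.node (nat_lit 9) (.leaf g2_5_11s8) (.leaf g2_5_11s9)))
 (.node (nat_lit 12) (.node (nat_lit 11) (.leaf g2_5_11s10) (.leaf g2_5_11s11)) (.node (nat_lit 13) (.leaf g2_5_11s12) (.leaf g2_5_11s13)))))
 (.node (nat_lit 21) (.node (nat_lit 17) (.node (nat_lit 15) (.leaf g2_5_11s14) (.node (nat_lit 16) (.leaf g2_5_11s15) (.leaf g2_5_11s16)))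
 (.node (nat_lit 19) (.node (nat_lit 18) (.leaf g2_5_11s17) (.leaf g2_5_11s18)) (.node (nat_lit 20) (.leaf g2_5_11s19) (.leaf g2_5_11s20))))
 (.node (nat_lit 25) (.node (nat_lit 23) (.node (nat_lit 22) (.leaf g2_5_11s21) (.leaf g2_5_11s22)) (.node (nat_lit 24) (.leaf g2_5_11s23) (.leaf g2_5_11s24)))
 (.node (nat_lit 27) (.node (nat_lit 26) (.leaf g2_5_11s25) (.leaf g2_5_11s26)) (.node (nat_lit 28) (.leaf g2_5_11s27) (.leaf g2_5_11s28))))))
noncomputable def g2_5_11D : Tr (List ℕ) := (.node (nat_lit 14) (.node (nat_lit 7) (.node (nat_lit 3) (.node (nat_lit 1) (.leaf []) (.node (nat_lit 2) (.leaf []) (.leaf [nat_lit 1, nat_lit 1, nat_lit 1, nat_lit 1])))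
 (.node (nat_lit 5) (.node (nat_lit 4) (.leaf [nat_lit 0, nat_lit 2, nat_lit 0, nat_lit 1, nat_lit 1, nat_lit 0, nat_lit 2, nat_lit 0, nat_lit 2, nat_lit 2, nat_lit 0, nat_lit 2, nat_lit 2]) (.leaf [nat_lit 1, nat_lit 1, nat_lit 0, nat_lit 1, nat_lit 1, nat_lit 0, nat_lit 1, nat_lit 0, nat_lit 2, nat_lit 2, nat_lit 0, nat_lit 1, nat_lit 0])) (.node (nat_lit 6) (.leaf [nat_lit 2, nat_lit 0, nat_lit 2, nat_lit 2, nat_lit 2]) (.leaf [nat_lit 1, nat_lit 1, nat_lit 1, nat_lit 0, nat_lit 1]))))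
 (.node (nat_lit 10) (.node (nat_lit 8) (.leaf [nat_lit 6, nat_lit 6, nat_lit 3]) (.node (nat_lit 9) (.leaf [nat_lit 4, nat_lit 5, nat_lit 5]) (.leaf [nat_lit 3, nat_lit 6, nat_lit 3, nat_lit 6, nat_lit 3, nat_lit 5])))
 (.node (nat_lit 12) (.node (nat_lit 11) (.leaf [nat_lit 6, nat_lit 4, nat_lit 5, nat_lit 4, nat_lit 5, nat_lit 4]) (.leaf [nat_lit 10, nat_lit 10, nat_lit 10, nat_lit 8, nat_lit 10])) (.node (nat_lit 13) (.leaf [nat_lit 9, nat_lit 7, nat_lit 9, nat_lit 9, nat_lit 9]) (.leaf [nat_lit 9, nat_lit 7, nat_lit 7, nat_lit 10, nat_lit 10])))))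
 (.node (nat_lit 21) (.node (nat_lit 17) (.node (nat_lit 15) (.leaf [nat_lit 9, nat_lit 9, nat_lit 8, nat_lit 8, nat_lit 10]) (.node (nat_lit 16) (.leaf [nat_lit 11, nat_lit 13, nat_lit 12, nat_lit 12, nat_lit 13, nat_lit 12, nat_lit 13, nat_lit 13, nat_lit 12, nat_lit 12, nat_lit 12, nat_lit 12, nat_lit 14, nat_lit 14]) (.leaf [nat_lit 15, nat_lit 15])))
 (.node (nat_lit 19) (.node (nat_lit 18) (.leaf [nat_lit 12, nat_lit 14, nat_lit 14, nat_lit 11]) (.leaf [nat_lit 12, nat_lit 13, nat_lit 13, nat_lit 11])) (.node (nat_lit 20) (.leaf [nat_lit 14, nat_lit 14, nat_lit 11, nat_lit 11, nat_lit 13]) (.leaf [nat_lit 14, nat_lit 12, nat_lit 12, nat_lit 13, nat_lit 13]))))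
 (.node (nat_lit 25) (.node (nat_lit 23) (.node (nat_lit 22) (.leaf [nat_lit 18, nat_lit 16, nat_lit 19, nat_lit 18]) (.leaf [nat_lit 17, nat_lit 20, nat_lit 15, nat_lit 17])) (.node (nat_lit 24) (.leaf [nat_lit 20, nat_lit 15]) (.leaf [nat_lit 17, nat_lit 20, nat_lit 21])))
 (.node (nat_lit 27) (.node (nat_lit 26) (.leaf [nat_lit 20, nat_lit 12, nat_lit 19, nat_lit 21]) (.leaf [nat_lit 13, nat_lit 10, nat_lit 22, nat_lit 12, nat_lit 18, nat_lit 16, nat_lit 21])) (.node (nat_lit 28) (.leaf [nat_lit 17, nat_lit 4, nat_lit 18, nat_lit 8, nat_lit 11, nat_lit 11, nat_lit 21, nat_lit 16, nat_lit 21]) (.leaf [nat_lit 2, nat_lit 0, nat_lit 12, nat_lit 4, nat_lit 11, nat_lit 8, nat_lit 19, nat_lit 22]))))))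
theorem g2_5_11slp : slpChk 24 (nat_lit 5) (nat_lit 31) g2_5_11S g2_5_11D 2 27 = true := by decide +kernel
theorem g2_5_11 : PQR M23.P 2 5 11 := pos (S := g2_5_11S) [nat_lit 6, nat_lit 4, nat_lit 7, nat_lit 6, nat_lit 2, nat_lit 6, nat_lit 4, nat_lit 0, nat_lit 5, nat_lit 1, nat_lit 4, nat_lit 0, nat_lit 3, nat_lit 2] [nat_lit 5, nat_lit 3, nat_lit 7, nat_lit 0, nat_lit 3, nat_lit 6, nat_lit 2, nat_lit 1, nat_lit 5, nat_lit 3, nat_lit 4, nat_lit 1, nat_lit 3, nat_lit 2, nat_lit 0] g2_5_11slp (by decide +kernel)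
noncomputable def g2_5_23s0 : ℕ := (nat_lit 0xbdaab799419b9aca45232c8e440202)
noncomputable def g2_5_23s1 : ℕ := (nat_lit 0xbd64e522d0a0893185b1798ab49c0c)
noncomputable def g2_5_23s2 : ℕ := (nat_lit 0xbc6cf655103d12024c72118ad5b941)
noncomputable def g2_5_23s3 : ℕ := (nat_lit 0xb988b7da81814f254523731b540a60)
noncomputable def g2_5_23s4 : ℕ := (nat_lit 0xbc8910b14f99ca6a2d236d9d540a00)
noncomputable def g2_5_23s5 : ℕ := (nat_lit 0xbc256a19a77c48570c289a54b132a0)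
noncomputable def g2_5_23s6 : ℕ := (nat_lit 0xbd0333d5d67ae22214c88498d50d20)
noncomputable def g2_5_23s7 : ℕ := (nat_lit 0xb9cc32a5aaa9173731e8a4a1115820)
noncomputable def g2_5_23s8 : ℕ := (nat_lit 0xb89e7618854ae2a6c248b566ea0c20)
noncomputable def g2_5_23s9 : ℕ := (nat_lit 0xbba8f8ad4938ecc910a2ac0d36a020)
noncomputable def g2_5_23s10 : ℕ := (nat_lit 0xbb4f522e66a586c946027952a72020)
noncomputable def g2_5_23s11 : ℕ := (nat_lit 0xb8dabb4d2543dc63c9958129150820)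
noncomputable def g2_5_23s12 : ℕ := (nat_lit 0xbcd0592887736a9a0e2f5b206b0820)
noncomputable def g2_5_23s13 : ℕ := (nat_lit 0xbbd934460aa9283718e55c9a9b0820)
noncomputable def g2_5_23s14 : ℕ := (nat_lit 0xb8deda1a51b2cb53c0934a90e60820)
noncomputable def g2_5_23s15 : ℕ := (nat_lit 0xbc0ea332364b892451ebaccad18820)
noncomputable def g2_5_23s16 : ℕ := (nat_lit 0xba0d6aa4b26c56a792143cdcc18820)
noncomputable def g2_5_23s17 : ℕ := (nat_lit 0xbd268341c9595e46b2563d62a18820)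
noncomputable def g2_5_23s18 : ℕ := (nat_lit 0xb9e545b4a64c6b023d56431d318820)
noncomputable def g2_5_23s19 : ℕ := (nat_lit 0xba1b4255cc516469a5e7b422b18820)
noncomputable def g2_5_23s20 : ℕ := (nat_lit 0xbc12ba18ad946c79b11553dc418820)
noncomputable def g2_5_23s21 : ℕ := (nat_lit 0xbb5135bdd63160aa1ea964a2418820)
noncomputable def g2_5_23s22 : ℕ := (nat_lit 0xbd6cb22627638cfa224a834b318820)
noncomputable def g2_5_23s23 : ℕ := (nat_lit 0xb926faa22da3a0b6255231cb618820)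
noncomputable def g2_5_23s24 : ℕ := (nat_lit 0xb9da32494673eac5c4a8b4133a0820)
noncomputable def g2_5_23s25 : ℕ := (nat_lit 0xbd8948ca636a9e2438eb498b583020)
noncomputable def g2_5_23s26 : ℕ := (nat_lit 0xbdaa77b9909c8514292ba18612b480)
noncomputable def g2_5_23s27 : ℕ := (nat_lit 0xbc8145da217a5a29a9c8390662b215)
noncomputable def g2_5_23S : Tr ℕ := (.node (nat_lit 14) (.node (nat_lit 7) (.node (nat_lit 3) (.node (nat_lit 1) (.leaf g2_5_23s0) (.node (nat_lit 2) (.leaf g2_5_23s1) (.leaf g2_5_23s2)))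
 (.node (nat_lit 5) (.node (nat_lit 4) (.leaf g2_5_23s3) (.leaf g2_5_23s4)) (.node (nat_lit 6) (.leaf g2_5_23s5) (.leaf g2_5_23s6))))
 (.node (nat_lit 10) (.node (nat_lit 8) (.leaf g2_5_23s7) (.node (nat_lit 9) (.leaf g2_5_23s8) (.leaf g2_5_23s9)))
 (.node (nat_lit 12) (.node (nat_lit 11) (.leaf g2_5_23s10) (.leaf g2_5_23s11)) (.node (nat_lit 13) (.leaf g2_5_23s12) (.leaf g2_5_23s13)))))
 (.node (nat_lit 21) (.node (nat_lit 17) (.node (nat_lit 15) (.leaf g2_5_23s14) (.node (nat_lit 16) (.leaf g2_5_23s15) (.leaf g2_5_23s16)))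
 (.node (nat_lit 19) (.node (nat_lit 18) (.leaf g2_5_23s17) (.leaf g2_5_23s18)) (.node (nat_lit 20) (.leaf g2_5_23s19) (.leaf g2_5_23s20))))
 (.node (nat_lit 24) (.node (nat_lit 22) (.leaf g2_5_23s21) (.node (nat_lit 23) (.leaf g2_5_23s22) (.leaf g2_5_23s23)))
 (.node (nat_lit 26) (.node (nat_lit 25) (.leaf g2_5_23s24) (.leaf g2_5_23s25)) (.node (nat_lit 27) (.leaf g2_5_23s26) (.leaf g2_5_23s27))))))
noncomputable def g2_5_23D : Tr (List ℕ) := (.node (nat_lit 14) (.node (nat_lit 7) (.node (nat_lit 3) (.node (nat_lit 1) (.leaf []) (.node (nat_lit 2) (.leaf []) (.leaf [nat_lit 1, nat_lit 1, nat_lit 1, nat_lit 1])))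
 (.node (nat_lit 5) (.node (nat_lit 4) (.leaf [nat_lit 2, nat_lit 2, nat_lit 0, nat_lit 1, nat_lit 1, nat_lit 0]) (.leaf [nat_lit 0, nat_lit 2, nat_lit 2, nat_lit 0, nat_lit 1, nat_lit 1])) (.node (nat_lit 6) (.leaf [nat_lit 2, nat_lit 2, nat_lit 2, nat_lit 2, nat_lit 0, nat_lit 1, nat_lit 0, nat_lit 2]) (.leaf [nat_lit 1, nat_lit 0, nat_lit 2, nat_lit 0, nat_lit 1, nat_lit 1, nat_lit 1, nat_lit 1]))))
 (.node (nat_lit 10) (.node (nat_lit 8) (.leaf [nat_lit 3, nat_lit 3, nat_lit 5, nat_lit 3, nat_lit 3]) (.node (nat_lit 9) (.leaf [nat_lit 4, nat_lit 4, nat_lit 6, nat_lit 4, nat_lit 4]) (.leaf [nat_lit 5, nat_lit 3, nat_lit 6])))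
 (.node (nat_lit 12) (.node (nat_lit 11) (.leaf [nat_lit 5, nat_lit 4, nat_lit 6]) (.leaf [nat_lit 9, nat_lit 7, nat_lit 7, nat_lit 10])) (.node (nat_lit 13) (.leaf [nat_lit 9, nat_lit 8, nat_lit 8, nat_lit 10]) (.leaf [nat_lit 7, nat_lit 7, nat_lit 9, nat_lit 8, nat_lit 9, nat_lit 7, nat_lit 9, nat_lit 7, nat_lit 10, nat_lit 8])))))
 (.node (nat_lit 21) (.node (nat_lit 17) (.node (nat_lit 15) (.leaf [nat_lit 7, nat_lit 9, nat_lit 8, nat_lit 10, nat_lit 8, nat_lit 10, nat_lit 7, nat_lit 10, nat_lit 8, nat_lit 8]) (.node (nat_lit 16) (.leaf [nat_lit 13, nat_lit 11, nat_lit 14, nat_lit 12, nat_lit 14, nat_lit 11]) (.leaf [nat_lit 11, nat_lit 13])))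
 (.node (nat_lit 19) (.node (nat_lit 18) (.leaf [nat_lit 14, nat_lit 12]) (.leaf [nat_lit 12, nat_lit 14, nat_lit 11, nat_lit 14])) (.node (nat_lit 20) (.leaf [nat_lit 13, nat_lit 12, nat_lit 13, nat_lit 11]) (.leaf [nat_lit 15, nat_lit 19, nat_lit 16, nat_lit 18]))))
 (.node (nat_lit 24) (.node (nat_lit 22) (.leaf [nat_lit 19, nat_lit 17, nat_lit 18, nat_lit 15]) (.node (nat_lit 23) (.leaf [nat_lit 18, nat_lit 21]) (.leaf [nat_lit 20, nat_lit 15, nat_lit 21])))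
 (.node (nat_lit 26) (.node (nat_lit 25) (.leaf [nat_lit 17, nat_lit 12, nat_lit 15]) (.leaf [nat_lit 14, nat_lit 8, nat_lit 14, nat_lit 15, nat_lit 19, nat_lit 21])) (.node (nat_lit 27) (.leaf [nat_lit 19, nat_lit 3, nat_lit 16, nat_lit 11, nat_lit 8, nat_lit 11, nat_lit 21, nat_lit 12, nat_lit 16]) (.leaf [nat_lit 5, nat_lit 2, nat_lit 5, nat_lit 20, nat_lit 7, nat_lit 11, nat_lit 17, nat_lit 21]))))))
theorem g2_5_23slp : slpChk 24 (nat_lit 5) (nat_lit 31) g2_5_23S g2_5_23D 2 26 = true := by decide +kernel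
theorem g2_5_23 : PQR M23.P 2 5 23 := pos (S := g2_5_23S) [nat_lit 6, nat_lit 4, nat_lit 7, nat_lit 6, nat_lit 0, nat_lit 2, nat_lit 1, nat_lit 5, nat_lit 3, nat_lit 2, nat_lit 1, nat_lit 4, nat_lit 2, nat_lit 0, nat_lit 3] [nat_lit 0, nat_lit 2, nat_lit 1, nat_lit 7, nat_lit 5, nat_lit 6, nat_lit 4, nat_lit 0, nat_lit 5, nat_lit 1, nat_lit 3, nat_lit 1, nat_lit 4, nat_lit 3, nat_lit 1] g2_5_23slp (by decide +kernel)
noncomputable def g2_7_7s0 : ℕ := (nat_lit 0xba1cc686307d6742a8f64896419a40)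
noncomputable def g2_7_7s1 : ℕ := (nat_lit 0xbbc0a9ca8c8b5622d4644860733916)
noncomputable def g2_7_7s2 : ℕ := (nat_lit 0xb81519c9e5b09d06d0e120d684b0d5)
noncomputable def g2_7_7s3 : ℕ := (nat_lit 0xb91a2938b43c169b54c88bd8350660)
noncomputable def g2_7_7s4 : ℕ := (nat_lit 0xbad500ccee34aa568d887a63625040)
noncomputable def g2_7_7s5 : ℕ := (nat_lit 0xbaeb462611789b3b0e41298e453900)
noncomputable def g2_7_7s6 : ℕ := (nat_lit 0xbd8cc10e292b5d45aa043d5e894c20)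
noncomputable def g2_7_7s7 : ℕ := (nat_lit 0xbd56641dee2c4891da9060a6a6c820)
noncomputable def g2_7_7s8 : ℕ := (nat_lit 0xbaac9289c88c067a9193951ed59820)
noncomputable def g2_7_7s9 : ℕ := (nat_lit 0xbade98d6828590e20cea9b4ac34820)
noncomputable def g2_7_7s10 : ℕ := (nat_lit 0xbba5138a6fab0c4b228d48cab54020)
noncomputable def g2_7_7s11 : ℕ := (nat_lit 0xbcac36a6ac2cd7453a2f240e830820)
noncomputable def g2_7_7s12 : ℕ := (nat_lit 0xbd62c7592642a706ae4428de7a0820)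
noncomputable def g2_7_7s13 : ℕ := (nat_lit 0xbacaa75a6c4990d251f01c4f2a8820)
noncomputable def g2_7_7s14 : ℕ := (nat_lit 0xbc86a890c84cd90b51ed2baab38820)
noncomputable def g2_7_7s15 : ℕ := (nat_lit 0xb92924d4b65c5b33a1867a9d018820)
noncomputable def g2_7_7s16 : ℕ := (nat_lit 0xbc255651c4395a979a6a5a23618820)
noncomputable def g2_7_7s17 : ℕ := (nat_lit 0xb926faa22da3a0b6255231cb618820)
noncomputable def g2_7_7s18 : ℕ := (nat_lit 0xbae703bcac245144b6caa99d218820)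
noncomputable def g2_7_7s19 : ℕ := (nat_lit 0xbb5135bdd63160aa1ea964a2418820)
noncomputable def g2_7_7s20 : ℕ := (nat_lit 0xbc12ba18ad946c79b11553dc418820)
noncomputable def g2_7_7s21 : ℕ := (nat_lit 0xbd6cb22627638cfa224a834b318820)
noncomputable def g2_7_7s22 : ℕ := (nat_lit 0xb9da32494673eac5c4a8b4133a0820)
noncomputable def g2_7_7s23 : ℕ := (nat_lit 0xbd8948ca636a9e2438eb498b583020)
noncomputable def g2_7_7s24 : ℕ := (nat_lit 0xbdaa77b9909c8514292ba18612b480)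
noncomputable def g2_7_7s25 : ℕ := (nat_lit 0xbc8145da217a5a29a9c8390662b215)
noncomputable def g2_7_7S : Tr ℕ := (.node (nat_lit 13) (.node (nat_lit 6) (.node (nat_lit 3) (.node (nat_lit 1) (.leaf g2_7_7s0) (.node (nat_lit 2) (.leaf g2_7_7s1) (.leaf g2_7_7s2))) (.node (nat_lit 4) (.leaf g2_7_7s3) (.node (nat_lit 5) (.leaf g2_7_7s4) (.leaf g2_7_7s5))))
 (.node (nat_lit 9) (.node (nat_lit 7) (.leaf g2_7_7s6) (.node (nat_lit 8) (.leaf g2_7_7s7) (.leaf g2_7_7s8)))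
 (.node (nat_lit 11) (.node (nat_lit 10) (.leaf g2_7_7s9) (.leaf g2_7_7s10)) (.node (nat_lit 12) (.leaf g2_7_7s11) (.leaf g2_7_7s12)))))
 (.node (nat_lit 19) (.node (nat_lit 16) (.node (nat_lit 14) (.leaf g2_7_7s13) (.node (nat_lit 15) (.leaf g2_7_7s14) (.leaf g2_7_7s15))) (.node (nat_lit 17) (.leaf g2_7_7s16) (.node (nat_lit 18) (.leaf g2_7_7s17) (.leaf g2_7_7s18))))
 (.node (nat_lit 22) (.node (nat_lit 20) (.leaf g2_7_7s19) (.node (nat_lit 21) (.leaf g2_7_7s20) (.leaf g2_7_7s21)))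
 (.node (nat_lit 24) (.node (nat_lit 23) (.leaf g2_7_7s22) (.leaf g2_7_7s23)) (.node (nat_lit 25) (.leaf g2_7_7s24) (.leaf g2_7_7s25))))))
noncomputable def g2_7_7D : Tr (List ℕ) := (.node (nat_lit 13) (.node (nat_lit 6) (.node (nat_lit 3) (.node (nat_lit 1) (.leaf []) (.node (nat_lit 2) (.leaf []) (.leaf [nat_lit 1, nat_lit 1, nat_lit 1, nat_lit 1, nat_lit 1, nat_lit 1]))) (.node (nat_lit 4) (.leaf [nat_lit 1, nat_lit 0, nat_lit 1, nat_lit 0, nat_lit 2, nat_lit 2, nat_lit 0, nat_lit 1]) (.node (nat_lit 5) (.leaf [nat_lit 2, nat_lit 0, nat_lit 1, nat_lit 1, nat_lit 0, nat_lit 2, nat_lit 0, nat_lit 2]) (.leaf [nat_lit 1, nat_lit 1, nat_lit 1, nat_lit 1, nat_lit 0, nat_lit 1, nat_lit 1, nat_lit 1]))))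
 (.node (nat_lit 9) (.node (nat_lit 7) (.leaf [nat_lit 2, nat_lit 2, nat_lit 0, nat_lit 1, nat_lit 1]) (.node (nat_lit 8) (.leaf [nat_lit 4, nat_lit 4, nat_lit 4, nat_lit 5, nat_lit 4]) (.leaf [nat_lit 3, nat_lit 5, nat_lit 3, nat_lit 3, nat_lit 3])))
 (.node (nat_lit 11) (.node (nat_lit 10) (.leaf [nat_lit 5, nat_lit 3, nat_lit 5, nat_lit 6]) (.leaf [nat_lit 6, nat_lit 5, nat_lit 4, nat_lit 5])) (.node (nat_lit 12) (.leaf [nat_lit 10, nat_lit 7]) (.leaf [nat_lit 8, nat_lit 9])))))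
 (.node (nat_lit 19) (.node (nat_lit 16) (.node (nat_lit 14) (.leaf [nat_lit 7, nat_lit 10, nat_lit 10, nat_lit 8, nat_lit 10]) (.node (nat_lit 15) (.leaf [nat_lit 9, nat_lit 7, nat_lit 9, nat_lit 9, nat_lit 8]) (.leaf [nat_lit 14, nat_lit 11, nat_lit 13, nat_lit 11]))) (.node (nat_lit 17) (.leaf [nat_lit 12, nat_lit 14, nat_lit 12, nat_lit 13]) (.node (nat_lit 18) (.leaf [nat_lit 11, nat_lit 13, nat_lit 13, nat_lit 12]) (.leaf [nat_lit 13, nat_lit 11, nat_lit 14, nat_lit 14, nat_lit 11, nat_lit 11, nat_lit 13, nat_lit 11, nat_lit 11]))))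
 (.node (nat_lit 22) (.node (nat_lit 20) (.leaf [nat_lit 17, nat_lit 16]) (.node (nat_lit 21) (.leaf [nat_lit 15, nat_lit 17]) (.leaf [nat_lit 20, nat_lit 18, nat_lit 16, nat_lit 19])))
 (.node (nat_lit 24) (.node (nat_lit 23) (.leaf [nat_lit 12, nat_lit 19, nat_lit 16, nat_lit 20]) (.leaf [nat_lit 18, nat_lit 10, nat_lit 20, nat_lit 13, nat_lit 16])) (.node (nat_lit 25) (.leaf [nat_lit 12, nat_lit 5, nat_lit 12, nat_lit 7, nat_lit 15, nat_lit 12, nat_lit 20, nat_lit 18, nat_lit 16]) (.leaf [nat_lit 2, nat_lit 16, nat_lit 3, nat_lit 8, nat_lit 8, nat_lit 12, nat_lit 20, nat_lit 12, nat_lit 17, nat_lit 18, nat_lit 20]))))))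
theorem g2_7_7slp : slpChk 24 (nat_lit 5) (nat_lit 31) g2_7_7S g2_7_7D 2 24 = true := by decide +kernel
theorem g2_7_7 : PQR M23.P 2 7 7 := pos (S := g2_7_7S) [nat_lit 0, nat_lit 6, nat_lit 2, nat_lit 6, nat_lit 0, nat_lit 2, nat_lit 5, nat_lit 4, nat_lit 1, nat_lit 3, nat_lit 4, nat_lit 1, nat_lit 2, nat_lit 1] [nat_lit 2, nat_lit 7, nat_lit 4, nat_lit 5, nat_lit 2, nat_lit 6, nat_lit 5, nat_lit 2, nat_lit 0, nat_lit 5, nat_lit 0, nat_lit 3, nat_lit 4, nat_lit 3, nat_lit 1] g2_7_7slp (by decide +kernel)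
noncomputable def g2_7_11s0 : ℕ := (nat_lit 0xbb59494c7053ad53bd265a0a488440)
noncomputable def g2_7_11s1 : ℕ := (nat_lit 0xb804b79824b45ac80eae9228a2cce9)
noncomputable def g2_7_11s2 : ℕ := (nat_lit 0xbbd2511dcb9a1aca10060c87055636)
noncomputable def g2_7_11s3 : ℕ := (nat_lit 0xb858b810af7212795ab130e6a68a80)
noncomputable def g2_7_11s4 : ℕ := (nat_lit 0xba9212ad1383c75a11ae61e3230ac0)
noncomputable def g2_7_11s5 : ℕ := (nat_lit 0xbd12334cf015aaf6b8b26116854420)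
noncomputable def g2_7_11s6 : ℕ := (nat_lit 0xbb9b6920506296728ea48cd26a3c20)
noncomputable def g2_7_11s7 : ℕ := (nat_lit 0xbc58239512229e9ac2cba387333420)
noncomputable def g2_7_11s8 : ℕ := (nat_lit 0xba567242ca698554399198e4f2d020)
noncomputable def g2_7_11s9 : ℕ := (nat_lit 0xb954449e4e82c73359b5a3d1160820)
noncomputable def g2_7_11s10 : ℕ := (nat_lit 0xba9076448f341237566592ed468820)
noncomputable def g2_7_11s11 : ℕ := (nat_lit 0xb9e84520736c4cc942cb4bcb570820)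
noncomputable def g2_7_11s12 : ℕ := (nat_lit 0xba49582dca30dec44cf2b34b488820)
noncomputable def g2_7_11s13 : ℕ := (nat_lit 0xb9166425d0996d4554ef9322d18820)
noncomputable def g2_7_11s14 : ℕ := (nat_lit 0xbb54c79cb044486aae534d1d618820)
noncomputable def g2_7_11s15 : ℕ := (nat_lit 0xb9e086be3593a6952d94b10a618820)
noncomputable def g2_7_11s16 : ℕ := (nat_lit 0xba64d4562f83a87312d362caa18820)
noncomputable def g2_7_11s17 : ℕ := (nat_lit 0xbb5135bdd63160aa1ea964a2418820)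
noncomputable def g2_7_11s18 : ℕ := (nat_lit 0xbc12ba18ad946c79b11553dc418820)
noncomputable def g2_7_11s19 : ℕ := (nat_lit 0xbd6cb22627638cfa224a834b318820)
noncomputable def g2_7_11s20 : ℕ := (nat_lit 0xb926faa22da3a0b6255231cb618820)
noncomputable def g2_7_11s21 : ℕ := (nat_lit 0xb9da32494673eac5c4a8b4133a0820)
noncomputable def g2_7_11s22 : ℕ := (nat_lit 0xbd8948ca636a9e2438eb498b583020)
noncomputable def g2_7_11s23 : ℕ := (nat_lit 0xbdaa77b9909c8514292ba18612b480)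
noncomputable def g2_7_11s24 : ℕ := (nat_lit 0xbc8145da217a5a29a9c8390662b215)
noncomputable def g2_7_11S : Tr ℕ := (.node (nat_lit 12) (.node (nat_lit 6) (.node (nat_lit 3) (.node (nat_lit 1) (.leaf g2_7_11s0) (.node (nat_lit 2) (.leaf g2_7_11s1) (.leaf g2_7_11s2))) (.node (nat_lit 4) (.leaf g2_7_11s3) (.node (nat_lit 5) (.leaf g2_7_11s4) (.leaf g2_7_11s5))))
 (.node (nat_lit 9) (.node (nat_lit 7) (.leaf g2_7_11s6) (.node (nat_lit 8) (.leaf g2_7_11s7) (.leaf g2_7_11s8))) (.node (nat_lit 10) (.leaf g2_7_11s9) (.node (nat_lit 11) (.leaf g2_7_11s10) (.leaf g2_7_11s11)))))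
 (.node (nat_lit 18) (.node (nat_lit 15) (.node (nat_lit 13) (.leaf g2_7_11s12) (.node (nat_lit 14) (.leaf g2_7_11s13) (.leaf g2_7_11s14))) (.node (nat_lit 16) (.leaf g2_7_11s15) (.node (nat_lit 17) (.leaf g2_7_11s16) (.leaf g2_7_11s17))))
 (.node (nat_lit 21) (.node (nat_lit 19) (.leaf g2_7_11s18) (.node (nat_lit 20) (.leaf g2_7_11s19) (.leaf g2_7_11s20)))
 (.node (nat_lit 23) (.node (nat_lit 22) (.leaf g2_7_11s21) (.leaf g2_7_11s22)) (.node (nat_lit 24) (.leaf g2_7_11s23) (.leaf g2_7_11s24))))))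
noncomputable def g2_7_11D : Tr (List ℕ) := (.node (nat_lit 12) (.node (nat_lit 6) (.node (nat_lit 3) (.node (nat_lit 1) (.leaf []) (.node (nat_lit 2) (.leaf []) (.leaf [nat_lit 1, nat_lit 1, nat_lit 1, nat_lit 1, nat_lit 1, nat_lit 1]))) (.node (nat_lit 4) (.leaf [nat_lit 1, nat_lit 0, nat_lit 1, nat_lit 0, nat_lit 2]) (.node (nat_lit 5) (.leaf [nat_lit 1, nat_lit 0, nat_lit 2, nat_lit 0, nat_lit 2]) (.leaf [nat_lit 3, nat_lit 0, nat_lit 4, nat_lit 4, nat_lit 0, nat_lit 4, nat_lit 0, nat_lit 3, nat_lit 3]))))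
 (.node (nat_lit 9) (.node (nat_lit 7) (.leaf [nat_lit 4, nat_lit 4, nat_lit 0, nat_lit 3, nat_lit 0, nat_lit 3, nat_lit 3, nat_lit 0, nat_lit 4]) (.node (nat_lit 8) (.leaf [nat_lit 0, nat_lit 4, nat_lit 0]) (.leaf [nat_lit 0, nat_lit 3, nat_lit 0]))) (.node (nat_lit 10) (.leaf [nat_lit 5, nat_lit 5, nat_lit 8, nat_lit 5, nat_lit 5, nat_lit 7]) (.node (nat_lit 11) (.leaf [nat_lit 8, nat_lit 6, nat_lit 6, nat_lit 7, nat_lit 6, nat_lit 6]) (.leaf [nat_lit 6, nat_lit 7, nat_lit 6, nat_lit 8])))))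
 (.node (nat_lit 18) (.node (nat_lit 15) (.node (nat_lit 13) (.leaf [nat_lit 7, nat_lit 5, nat_lit 8, nat_lit 5]) (.node (nat_lit 14) (.leaf [nat_lit 12, nat_lit 12, nat_lit 10, nat_lit 11, nat_lit 11, nat_lit 10, nat_lit 11, nat_lit 10, nat_lit 12]) (.leaf [nat_lit 11, nat_lit 9, nat_lit 12, nat_lit 9, nat_lit 12, nat_lit 12, nat_lit 9, nat_lit 11, nat_lit 11]))) (.node (nat_lit 16) (.leaf [nat_lit 12, nat_lit 9, nat_lit 9, nat_lit 12, nat_lit 12, nat_lit 10, nat_lit 11, nat_lit 11, nat_lit 10]) (.node (nat_lit 17) (.leaf [nat_lit 11, nat_lit 9, nat_lit 12, nat_lit 12, nat_lit 12, nat_lit 9, nat_lit 9, nat_lit 12, nat_lit 9, nat_lit 11, nat_lit 10, nat_lit 12, nat_lit 12]) (.leaf [nat_lit 13, nat_lit 15, nat_lit 14, nat_lit 14, nat_lit 16, nat_lit 13, nat_lit 13]))))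
 (.node (nat_lit 21) (.node (nat_lit 19) (.leaf [nat_lit 14, nat_lit 14, nat_lit 16, nat_lit 13, nat_lit 13, nat_lit 15, nat_lit 14]) (.node (nat_lit 20) (.leaf [nat_lit 15, nat_lit 13, nat_lit 18]) (.leaf [nat_lit 14, nat_lit 17])))
 (.node (nat_lit 23) (.node (nat_lit 22) (.leaf [nat_lit 16, nat_lit 10, nat_lit 13, nat_lit 16, nat_lit 18]) (.leaf [nat_lit 6, nat_lit 6, nat_lit 17, nat_lit 10, nat_lit 16, nat_lit 15])) (.node (nat_lit 24) (.leaf [nat_lit 13, nat_lit 4, nat_lit 11, nat_lit 13, nat_lit 6, nat_lit 9, nat_lit 18, nat_lit 14]) (.leaf [nat_lit 17, nat_lit 1, nat_lit 7, nat_lit 0, nat_lit 18]))))))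
theorem g2_7_11slp : slpChk 24 (nat_lit 5) (nat_lit 31) g2_7_11S g2_7_11D 2 23 = true := by decide +kernel
theorem g2_7_11 : PQR M23.P 2 7 11 := pos (S := g2_7_11S) [nat_lit 6, nat_lit 1, nat_lit 3, nat_lit 6, nat_lit 4, nat_lit 0, nat_lit 5, nat_lit 3, nat_lit 2, nat_lit 1, nat_lit 4, nat_lit 1, nat_lit 3, nat_lit 2, nat_lit 0] [nat_lit 0, nat_lit 7, nat_lit 6, nat_lit 1, nat_lit 3, nat_lit 6, nat_lit 3, nat_lit 5, nat_lit 0, nat_lit 3, nat_lit 1, nat_lit 4, nat_lit 3] g2_7_11slp (by decide +kernel)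
noncomputable def g2_7_23s0 : ℕ := (nat_lit 0xb90d4809f38b8e05a8686d4b64c82c)
noncomputable def g2_7_23s1 : ℕ := (nat_lit 0xbd2b361905b45247814171dab80a43)
noncomputable def g2_7_23s2 : ℕ := (nat_lit 0xbbeb6a05c359cb3225b134a0c0090a)
noncomputable def g2_7_23s3 : ℕ := (nat_lit 0xb924e644b37d69651a07121a348560)
noncomputable def g2_7_23s4 : ℕ := (nat_lit 0xbb1cd856497d0b30ac6642a3621c40)
noncomputable def g2_7_23s5 : ℕ := (nat_lit 0xbd06ab4da861562abe4123a2981cc0)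
noncomputable def g2_7_23s6 : ℕ := (nat_lit 0xbcd76924a351a2f6d090105c7ab100)
noncomputable def g2_7_23s7 : ℕ := (nat_lit 0xb964e48944a2de69b1b580e28b1c20)
noncomputable def g2_7_23s8 : ℕ := (nat_lit 0xb8d0f5d4a76d12a74664132d034820)
noncomputable def g2_7_23s9 : ℕ := (nat_lit 0xb91096b1d338a8faca1651a2b28c20)
noncomputable def g2_7_23s10 : ℕ := (nat_lit 0xba16d828a96467221e957987613820)
noncomputable def g2_7_23s11 : ℕ := (nat_lit 0xbc0742d5644b1a733d537451690820)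
noncomputable def g2_7_23s12 : ℕ := (nat_lit 0xb925440cd651dae8a5e562e70a8820)
noncomputable def g2_7_23s13 : ℕ := (nat_lit 0xbaa633a0942d9ec93a2ba99a980820)
noncomputable def g2_7_23s14 : ℕ := (nat_lit 0xbb8f0aad236a8ac45892999f1a0820)
noncomputable def g2_7_23s15 : ℕ := (nat_lit 0xba1b4255cc516469a5e7b422b18820)
noncomputable def g2_7_23s16 : ℕ := (nat_lit 0xb9e545b4a64c6b023d56431d318820)
noncomputable def g2_7_23s17 : ℕ := (nat_lit 0xbd58a410b37c4f66a6905c9c618820)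
noncomputable def g2_7_23s18 : ℕ := (nat_lit 0xbb2c9819c8795753d1536923218820)
noncomputable def g2_7_23s19 : ℕ := (nat_lit 0xbb54c79cb044486aae534d1d618820)
noncomputable def g2_7_23s20 : ℕ := (nat_lit 0xb9166425d0996d4554ef9322d18820)
noncomputable def g2_7_23s21 : ℕ := (nat_lit 0xbb5135bdd63160aa1ea964a2418820)
noncomputable def g2_7_23s22 : ℕ := (nat_lit 0xbc12ba18ad946c79b11553dc418820)
noncomputable def g2_7_23s23 : ℕ := (nat_lit 0xbd6cb22627638cfa224a834b318820)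
noncomputable def g2_7_23s24 : ℕ := (nat_lit 0xb926faa22da3a0b6255231cb618820)
noncomputable def g2_7_23s25 : ℕ := (nat_lit 0xb9da32494673eac5c4a8b4133a0820)
noncomputable def g2_7_23s26 : ℕ := (nat_lit 0xbd8948ca636a9e2438eb498b583020)
noncomputable def g2_7_23s27 : ℕ := (nat_lit 0xbdaa77b9909c8514292ba18612b480)
noncomputable def g2_7_23s28 : ℕ := (nat_lit 0xbc8145da217a5a29a9c8390662b215)
noncomputable def g2_7_23S : Tr ℕ := (.node (nat_lit 14) (.node (nat_lit 7) (.node (nat_lit 3) (.node (nat_lit 1) (.leaf g2_7_23s0) (.node (nat_lit 2) (.leaf g2_7_23s1) (.leaf g2_7_23s2)))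
 (.node (nat_lit 5) (.node (nat_lit 4) (.leaf g2_7_23s3) (.leaf g2_7_23s4)) (.node (nat_lit 6) (.leaf g2_7_23s5) (.leaf g2_7_23s6))))
 (.node (nat_lit 10) (.node (nat_lit 8) (.leaf g2_7_23s7) (.node (nat_lit 9) (.leaf g2_7_23s8) (.leaf g2_7_23s9)))
 (.node (nat_lit 12) (.node (nat_lit 11) (.leaf g2_7_23s10) (.leaf g2_7_23s11)) (.node (nat_lit 13) (.leaf g2_7_23s12) (.leaf g2_7_23s13)))))
 (.node (nat_lit 21) (.node (nat_lit 17) (.node (nat_lit 15) (.leaf g2_7_23s14) (.node (nat_lit 16) (.leaf g2_7_23s15) (.leaf g2_7_23s16)))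
 (.node (nat_lit 19) (.node (nat_lit 18) (.leaf g2_7_23s17) (.leaf g2_7_23s18)) (.node (nat_lit 20) (.leaf g2_7_23s19) (.leaf g2_7_23s20))))
 (.node (nat_lit 25) (.node (nat_lit 23) (.node (nat_lit 22) (.leaf g2_7_23s21) (.leaf g2_7_23s22)) (.node (nat_lit 24) (.leaf g2_7_23s23) (.leaf g2_7_23s24)))
 (.node (nat_lit 27) (.node (nat_lit 26) (.leaf g2_7_23s25) (.leaf g2_7_23s26)) (.node (nat_lit 28) (.leaf g2_7_23s27) (.leaf g2_7_23s28))))))
noncomputable def g2_7_23D : Tr (List ℕ) := (.node (nat_lit 14) (.node (nat_lit 7) (.node (nat_lit 3) (.node (nat_lit 1) (.leaf []) (.node (nat_lit 2) (.leaf []) (.leaf [nat_lit 1, nat_lit 1, nat_lit 1, nat_lit 1, nat_lit 1, nat_lit 1])))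
 (.node (nat_lit 5) (.node (nat_lit 4) (.leaf [nat_lit 2, nat_lit 0, nat_lit 2, nat_lit 2]) (.leaf [nat_lit 1, nat_lit 1, nat_lit 0, nat_lit 1])) (.node (nat_lit 6) (.leaf [nat_lit 1, nat_lit 1, nat_lit 1, nat_lit 0, nat_lit 2, nat_lit 2, nat_lit 0, nat_lit 2, nat_lit 0, nat_lit 1, nat_lit 0]) (.leaf [nat_lit 0, nat_lit 2, nat_lit 0, nat_lit 1, nat_lit 0, nat_lit 1, nat_lit 1, nat_lit 0, nat_lit 2, nat_lit 2, nat_lit 2]))))
 (.node (nat_lit 10) (.node (nat_lit 8) (.leaf [nat_lit 5, nat_lit 3, nat_lit 5]) (.node (nat_lit 9) (.leaf [nat_lit 6, nat_lit 4, nat_lit 6]) (.leaf [nat_lit 3, nat_lit 3, nat_lit 3, nat_lit 6])))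
 (.node (nat_lit 12) (.node (nat_lit 11) (.leaf [nat_lit 5, nat_lit 4, nat_lit 4, nat_lit 4]) (.leaf [nat_lit 7, nat_lit 10, nat_lit 7, nat_lit 9, nat_lit 7])) (.node (nat_lit 13) (.leaf [nat_lit 8, nat_lit 10, nat_lit 8, nat_lit 9, nat_lit 8]) (.leaf [nat_lit 7, nat_lit 7, nat_lit 7, nat_lit 9, nat_lit 9, nat_lit 7, nat_lit 10])))))
 (.node (nat_lit 21) (.node (nat_lit 17) (.node (nat_lit 15) (.leaf [nat_lit 9, nat_lit 8, nat_lit 10, nat_lit 10, nat_lit 8, nat_lit 8, nat_lit 8]) (.node (nat_lit 16) (.leaf [nat_lit 14, nat_lit 11, nat_lit 11, nat_lit 14, nat_lit 12, nat_lit 13, nat_lit 11, nat_lit 11, nat_lit 13]) (.leaf [nat_lit 14, nat_lit 12, nat_lit 12, nat_lit 14, nat_lit 11, nat_lit 13, nat_lit 12, nat_lit 12, nat_lit 13])))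
 (.node (nat_lit 19) (.node (nat_lit 18) (.leaf [nat_lit 13, nat_lit 12, nat_lit 13, nat_lit 13]) (.leaf [nat_lit 14, nat_lit 14, nat_lit 11, nat_lit 14])) (.node (nat_lit 20) (.leaf [nat_lit 12, nat_lit 14, nat_lit 12, nat_lit 12, nat_lit 12, nat_lit 12, nat_lit 14, nat_lit 14, nat_lit 11, nat_lit 11]) (.leaf [nat_lit 12, nat_lit 12, nat_lit 13, nat_lit 13, nat_lit 11, nat_lit 11, nat_lit 11, nat_lit 11, nat_lit 13, nat_lit 11]))))
 (.node (nat_lit 25) (.node (nat_lit 23) (.node (nat_lit 22) (.leaf [nat_lit 17, nat_lit 16, nat_lit 20, nat_lit 20, nat_lit 15]) (.leaf [nat_lit 16, nat_lit 19, nat_lit 19, nat_lit 15, nat_lit 18])) (.node (nat_lit 24) (.leaf [nat_lit 16, nat_lit 21]) (.leaf [nat_lit 19, nat_lit 21])))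
 (.node (nat_lit 27) (.node (nat_lit 26) (.leaf [nat_lit 14, nat_lit 18, nat_lit 15, nat_lit 22]) (.leaf [nat_lit 9, nat_lit 8, nat_lit 15, nat_lit 12, nat_lit 17])) (.node (nat_lit 28) (.leaf [nat_lit 16, nat_lit 3, nat_lit 15, nat_lit 8, nat_lit 21, nat_lit 11, nat_lit 20, nat_lit 18, nat_lit 21]) (.leaf [nat_lit 18, nat_lit 0, nat_lit 17, nat_lit 6, nat_lit 14, nat_lit 7, nat_lit 13, nat_lit 18, nat_lit 21]))))))
theorem g2_7_23slp : slpChk 24 (nat_lit 5) (nat_lit 31) g2_7_23S g2_7_23D 2 27 = true := by decide +kernel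
theorem g2_7_23 : PQR M23.P 2 7 23 := pos (S := g2_7_23S) [nat_lit 0, nat_lit 2, nat_lit 1, nat_lit 7, nat_lit 0, nat_lit 3, nat_lit 6, nat_lit 2, nat_lit 1, nat_lit 5, nat_lit 4, nat_lit 1, nat_lit 3, nat_lit 1, nat_lit 2, nat_lit 0] [nat_lit 6, nat_lit 4, nat_lit 0, nat_lit 7, nat_lit 6, nat_lit 3, nat_lit 5, nat_lit 3, nat_lit 1, nat_lit 4, nat_lit 3] g2_7_23slp (by decide +kernel)
noncomputable def g2_11_11s0 : ℕ := (nat_lit 0xbb6aa995707b2ce8d12331e4440022)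
noncomputable def g2_11_11s1 : ℕ := (nat_lit 0xbc9641cd358310071c31b3ca269954)
noncomputable def g2_11_11s2 : ℕ := (nat_lit 0xb9e009590f32c6ea862d508b49912c)
noncomputable def g2_11_11s3 : ℕ := (nat_lit 0xba04a2ae8989d8670c819566db41e0)
noncomputable def g2_11_11s4 : ℕ := (nat_lit 0xb8cd129de20ac8d952167326955500)
noncomputable def g2_11_11s5 : ℕ := (nat_lit 0xbb56ead923844d421c4c9bca192140)
noncomputable def g2_11_11s6 : ℕ := (nat_lit 0xbca6c38dcf352c8a8622534ab82480)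
noncomputable def g2_11_11s7 : ℕ := (nat_lit 0xbc0a643ad29c52c68ab423d6351c20)
noncomputable def g2_11_11s8 : ℕ := (nat_lit 0xbc5287c1d63496c28db3152a722820)
noncomputable def g2_11_11s9 : ℕ := (nat_lit 0xb99c794dac7da2b1a0b45544981020)
noncomputable def g2_11_11s10 : ℕ := (nat_lit 0xbb8c894da37d63061c8aa592259420)
noncomputable def g2_11_11s11 : ℕ := (nat_lit 0xbd489815865226e1be91b356790820)
noncomputable def g2_11_11s12 : ℕ := (nat_lit 0xb9ec968d13530d12be8e2425558820)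
noncomputable def g2_11_11s13 : ℕ := (nat_lit 0xb95b322a51aa1c9a18efb418358820)
noncomputable def g2_11_11s14 : ℕ := (nat_lit 0xb9deba4606436a51c98e4aad320820)
noncomputable def g2_11_11s15 : ℕ := (nat_lit 0xb990f640a75466db512492dd518820)
noncomputable def g2_11_11s16 : ℕ := (nat_lit 0xbac8a69dd2a159333d3585a2818820)
noncomputable def g2_11_11s17 : ℕ := (nat_lit 0xba4eca91d491550b216d99a2f18820)
noncomputable def g2_11_11s18 : ℕ := (nat_lit 0xbae703bcac245144b6caa99d218820)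
noncomputable def g2_11_11s19 : ℕ := (nat_lit 0xbd268341c9595e46b2563d62a18820)
noncomputable def g2_11_11s20 : ℕ := (nat_lit 0xba0d6aa4b26c56a792143cdcc18820)
noncomputable def g2_11_11s21 : ℕ := (nat_lit 0xbb5135bdd63160aa1ea964a2418820)
noncomputable def g2_11_11s22 : ℕ := (nat_lit 0xbc12ba18ad946c79b11553dc418820)
noncomputable def g2_11_11s23 : ℕ := (nat_lit 0xbd6cb22627638cfa224a834b318820)
noncomputable def g2_11_11s24 : ℕ := (nat_lit 0xb926faa22da3a0b6255231cb618820)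
noncomputable def g2_11_11s25 : ℕ := (nat_lit 0xb9da32494673eac5c4a8b4133a0820)
noncomputable def g2_11_11s26 : ℕ := (nat_lit 0xbd8948ca636a9e2438eb498b583020)
noncomputable def g2_11_11s27 : ℕ := (nat_lit 0xbdaa77b9909c8514292ba18612b480)
noncomputable def g2_11_11s28 : ℕ := (nat_lit 0xbc8145da217a5a29a9c8390662b215)
noncomputable def g2_11_11S : Tr ℕ := (.node (nat_lit 14) (.node (nat_lit 7) (.node (nat_lit 3) (.node (nat_lit 1) (.leaf g2_11_11s0) (.node (nat_lit 2) (.leaf g2_11_11s1) (.leaf g2_11_11s2)))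
 (.node (nat_lit 5) (.node (nat_lit 4) (.leaf g2_11_11s3) (.leaf g2_11_11s4)) (.node (nat_lit 6) (.leaf g2_11_11s5) (.leaf g2_11_11s6))))
 (.node (nat_lit 10) (.node (nat_lit 8) (.leaf g2_11_11s7) (.node (nat_lit 9) (.leaf g2_11_11s8) (.leaf g2_11_11s9)))
 (.node (nat_lit 12) (.node (nat_lit 11) (.leaf g2_11_11s10) (.leaf g2_11_11s11)) (.node (nat_lit 13) (.leaf g2_11_11s12) (.leaf g2_11_11s13)))))
 (.node (nat_lit 21) (.node (nat_lit 17) (.node (nat_lit 15) (.leaf g2_11_11s14) (.node (nat_lit 16) (.leaf g2_11_11s15) (.leaf g2_11_11s16)))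
 (.node (nat_lit 19) (.node (nat_lit 18) (.leaf g2_11_11s17) (.leaf g2_11_11s18)) (.node (nat_lit 20) (.leaf g2_11_11s19) (.leaf g2_11_11s20))))
 (.node (nat_lit 25) (.node (nat_lit 23) (.node (nat_lit 22) (.leaf g2_11_11s21) (.leaf g2_11_11s22)) (.node (nat_lit 24) (.leaf g2_11_11s23) (.leaf g2_11_11s24)))
 (.node (nat_lit 27) (.node (nat_lit 26) (.leaf g2_11_11s25) (.leaf g2_11_11s26)) (.node (nat_lit 28) (.leaf g2_11_11s27) (.leaf g2_11_11s28))))))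
noncomputable def g2_11_11D : Tr (List ℕ) := (.node (nat_lit 14) (.node (nat_lit 7) (.node (nat_lit 3) (.node (nat_lit 1) (.leaf []) (.node (nat_lit 2) (.leaf []) (.leaf [nat_lit 1, nat_lit 1, nat_lit 1, nat_lit 1, nat_lit 1, nat_lit 1, nat_lit 1, nat_lit 1, nat_lit 1, nat_lit 1])))
 (.node (nat_lit 5) (.node (nat_lit 4) (.leaf [nat_lit 0, nat_lit 1, nat_lit 0, nat_lit 1, nat_lit 1]) (.leaf [nat_lit 2, nat_lit 2, nat_lit 0, nat_lit 2, nat_lit 0])) (.node (nat_lit 6) (.leaf [nat_lit 0, nat_lit 2, nat_lit 0, nat_lit 1, nat_lit 0, nat_lit 1]) (.leaf [nat_lit 2, nat_lit 0, nat_lit 2, nat_lit 0, nat_lit 1, nat_lit 0]))))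
 (.node (nat_lit 10) (.node (nat_lit 8) (.leaf [nat_lit 3, nat_lit 3, nat_lit 6, nat_lit 3, nat_lit 6]) (.node (nat_lit 9) (.leaf [nat_lit 5, nat_lit 4, nat_lit 5, nat_lit 4, nat_lit 4]) (.leaf [nat_lit 4, nat_lit 5, nat_lit 5, nat_lit 4, nat_lit 5, nat_lit 4])))
 (.node (nat_lit 12) (.node (nat_lit 11) (.leaf [nat_lit 3, nat_lit 6, nat_lit 3, nat_lit 6, nat_lit 6, nat_lit 3]) (.leaf [nat_lit 8, nat_lit 9, nat_lit 7, nat_lit 9, nat_lit 8])) (.node (nat_lit 13) (.leaf [nat_lit 7, nat_lit 10, nat_lit 8, nat_lit 10, nat_lit 7]) (.leaf [nat_lit 9, nat_lit 8, nat_lit 9, nat_lit 8, nat_lit 10, nat_lit 10, nat_lit 7, nat_lit 9])))))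
 (.node (nat_lit 21) (.node (nat_lit 17) (.node (nat_lit 15) (.leaf [nat_lit 10, nat_lit 8, nat_lit 9, nat_lit 9, nat_lit 7, nat_lit 10, nat_lit 7, nat_lit 10]) (.node (nat_lit 16) (.leaf [nat_lit 12, nat_lit 14, nat_lit 11, nat_lit 13, nat_lit 11, nat_lit 11, nat_lit 13, nat_lit 11, nat_lit 11]) (.leaf [nat_lit 12, nat_lit 12, nat_lit 14, nat_lit 12, nat_lit 12, nat_lit 14, nat_lit 12, nat_lit 13, nat_lit 11])))
 (.node (nat_lit 19) (.node (nat_lit 18) (.leaf [nat_lit 11, nat_lit 13, nat_lit 11, nat_lit 13]) (.leaf [nat_lit 14, nat_lit 12, nat_lit 14, nat_lit 12])) (.node (nat_lit 20) (.leaf [nat_lit 13, nat_lit 13, nat_lit 13, nat_lit 12, nat_lit 12, nat_lit 13, nat_lit 12]) (.leaf [nat_lit 11, nat_lit 14, nat_lit 11, nat_lit 11, nat_lit 14, nat_lit 14, nat_lit 14]))))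
 (.node (nat_lit 25) (.node (nat_lit 23) (.node (nat_lit 22) (.leaf [nat_lit 18, nat_lit 16, nat_lit 19]) (.leaf [nat_lit 20, nat_lit 15, nat_lit 17])) (.node (nat_lit 24) (.leaf [nat_lit 18, nat_lit 15, nat_lit 22]) (.leaf [nat_lit 19, nat_lit 16, nat_lit 21])))
 (.node (nat_lit 27) (.node (nat_lit 26) (.leaf [nat_lit 21, nat_lit 12, nat_lit 21, nat_lit 16, nat_lit 22]) (.leaf [nat_lit 22, nat_lit 8, nat_lit 15, nat_lit 11, nat_lit 17, nat_lit 22])) (.node (nat_lit 28) (.leaf [nat_lit 6, nat_lit 13, nat_lit 8, nat_lit 15, nat_lit 11, nat_lit 18, nat_lit 21]) (.leaf [nat_lit 4, nat_lit 0, nat_lit 21, nat_lit 4, nat_lit 8, nat_lit 8, nat_lit 16, nat_lit 11, nat_lit 21, nat_lit 16, nat_lit 21]))))))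
theorem g2_11_11slp : slpChk 24 (nat_lit 5) (nat_lit 31) g2_11_11S g2_11_11D 2 27 = true := by decide +kernel
theorem g2_11_11 : PQR M23.P 2 11 11 := pos (S := g2_11_11S) [nat_lit 6, nat_lit 4, nat_lit 7, nat_lit 1, nat_lit 2, nat_lit 6, nat_lit 5, nat_lit 1, nat_lit 5, nat_lit 0, nat_lit 4, nat_lit 3, nat_lit 4, nat_lit 3, nat_lit 1] [nat_lit 0, nat_lit 3, nat_lit 7, nat_lit 6, nat_lit 3, nat_lit 5, nat_lit 3, nat_lit 0, nat_lit 4, nat_lit 1, nat_lit 3, nat_lit 2, nat_lit 1] g2_11_11slp (by decide +kernel)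
noncomputable def g2_11_23s0 : ℕ := (nat_lit 0xbd8d494e227b8074146b655444c02d)
noncomputable def g2_11_23s1 : ℕ := (nat_lit 0xbc50d125f37320a2c9643d006a8476)
noncomputable def g2_11_23s2 : ℕ := (nat_lit 0xb806682acd8be8e4b255391680cc45)
noncomputable def g2_11_23s3 : ℕ := (nat_lit 0xbbe49a4dc25122c5c2ad094683d8c0)
noncomputable def g2_11_23s4 : ℕ := (nat_lit 0xb8933955aab450c5be84184ce2c0e0)
noncomputable def g2_11_23s5 : ℕ := (nat_lit 0xbdab098e343a58d309c17aca492900)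
noncomputable def g2_11_23s6 : ℕ := (nat_lit 0xbaab46be3090e643d8c85a44c71420)
noncomputable def g2_11_23s7 : ℕ := (nat_lit 0xbc98f4b6b659ca853a032467411820)
noncomputable def g2_11_23s8 : ℕ := (nat_lit 0xbc2242d8c9a2a557ae6c709a740c20)
noncomputable def g2_11_23s9 : ℕ := (nat_lit 0xbb97441c837d8a6aa933931b180820)
noncomputable def g2_11_23s10 : ℕ := (nat_lit 0xbb4b374950ad08b418ec1c5f648820)
noncomputable def g2_11_23s11 : ℕ := (nat_lit 0xb91eea48d02cec86446b4aaad38820)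
noncomputable def g2_11_23s12 : ℕ := (nat_lit 0xbd5b1221f32a8eb60dd2b428648820)
noncomputable def g2_11_23s13 : ℕ := (nat_lit 0xb9ec5822868a6ab63872691f350820)
noncomputable def g2_11_23s14 : ℕ := (nat_lit 0xba1b4255cc516469a5e7b422b18820)
noncomputable def g2_11_23s15 : ℕ := (nat_lit 0xb9e545b4a64c6b023d56431d318820)
noncomputable def g2_11_23s16 : ℕ := (nat_lit 0xbbec66acb4ac52c41e72241ca18820)
noncomputable def g2_11_23s17 : ℕ := (nat_lit 0xbd5f04a1c6b166c911ab5522718820)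
noncomputable def g2_11_23s18 : ℕ := (nat_lit 0xbb5135bdd63160aa1ea964a2418820)
noncomputable def g2_11_23s19 : ℕ := (nat_lit 0xbc12ba18ad946c79b11553dc418820)
noncomputable def g2_11_23s20 : ℕ := (nat_lit 0xbd6cb22627638cfa224a834b318820)
noncomputable def g2_11_23s21 : ℕ := (nat_lit 0xb926faa22da3a0b6255231cb618820)
noncomputable def g2_11_23s22 : ℕ := (nat_lit 0xb9da32494673eac5c4a8b4133a0820)
noncomputable def g2_11_23s23 : ℕ := (nat_lit 0xbd8948ca636a9e2438eb498b583020)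
noncomputable def g2_11_23s24 : ℕ := (nat_lit 0xbdaa77b9909c8514292ba18612b480)
noncomputable def g2_11_23s25 : ℕ := (nat_lit 0xbc8145da217a5a29a9c8390662b215)
noncomputable def g2_11_23S : Tr ℕ := (.node (nat_lit 13) (.node (nat_lit 6) (.node (nat_lit 3) (.node (nat_lit 1) (.leaf g2_11_23s0) (.node (nat_lit 2) (.leaf g2_11_23s1) (.leaf g2_11_23s2))) (.node (nat_lit 4) (.leaf g2_11_23s3) (.node (nat_lit 5) (.leaf g2_11_23s4) (.leaf g2_11_23s5))))
 (.node (nat_lit 9) (.node (nat_lit 7) (.leaf g2_11_23s6) (.node (nat_lit 8) (.leaf g2_11_23s7) (.leaf g2_11_23s8)))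
 (.node (nat_lit 11) (.node (nat_lit 10) (.leaf g2_11_23s9) (.leaf g2_11_23s10)) (.node (nat_lit 12) (.leaf g2_11_23s11) (.leaf g2_11_23s12)))))
 (.node (nat_lit 19) (.node (nat_lit 16) (.node (nat_lit 14) (.leaf g2_11_23s13) (.node (nat_lit 15) (.leaf g2_11_23s14) (.leaf g2_11_23s15))) (.node (nat_lit 17) (.leaf g2_11_23s16) (.node (nat_lit 18) (.leaf g2_11_23s17) (.leaf g2_11_23s18))))
 (.node (nat_lit 22) (.node (nat_lit 20) (.leaf g2_11_23s19) (.node (nat_lit 21) (.leaf g2_11_23s20) (.leaf g2_11_23s21)))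
 (.node (nat_lit 24) (.node (nat_lit 23) (.leaf g2_11_23s22) (.leaf g2_11_23s23)) (.node (nat_lit 25) (.leaf g2_11_23s24) (.leaf g2_11_23s25))))))
noncomputable def g2_11_23D : Tr (List ℕ) := (.node (nat_lit 13) (.node (nat_lit 6) (.node (nat_lit 3) (.node (nat_lit 1) (.leaf []) (.node (nat_lit 2) (.leaf []) (.leaf [nat_lit 1, nat_lit 1, nat_lit 1, nat_lit 1, nat_lit 1, nat_lit 1, nat_lit 1, nat_lit 1, nat_lit 1, nat_lit 1]))) (.node (nat_lit 4) (.leaf [nat_lit 1, nat_lit 0, nat_lit 2, nat_lit 0, nat_lit 1, nat_lit 1, nat_lit 0]) (.node (nat_lit 5) (.leaf [nat_lit 0, nat_lit 2, nat_lit 2, nat_lit 0, nat_lit 1, nat_lit 0, nat_lit 2]) (.leaf [nat_lit 2, nat_lit 2, nat_lit 0, nat_lit 1, nat_lit 1]))))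
 (.node (nat_lit 9) (.node (nat_lit 7) (.leaf [nat_lit 4, nat_lit 4, nat_lit 5, nat_lit 3, nat_lit 3]) (.node (nat_lit 8) (.leaf [nat_lit 3, nat_lit 5, nat_lit 4, nat_lit 4, nat_lit 4, nat_lit 5, nat_lit 3, nat_lit 5, nat_lit 4]) (.leaf [nat_lit 3, nat_lit 5, nat_lit 4, nat_lit 5, nat_lit 3, nat_lit 3, nat_lit 3, nat_lit 5, nat_lit 4])))
 (.node (nat_lit 11) (.node (nat_lit 10) (.leaf [nat_lit 7, nat_lit 7, nat_lit 7, nat_lit 6, nat_lit 7, nat_lit 7, nat_lit 6, nat_lit 8]) (.leaf [nat_lit 7, nat_lit 6, nat_lit 7, nat_lit 6, nat_lit 8, nat_lit 8, nat_lit 8, nat_lit 6])) (.node (nat_lit 12) (.leaf [nat_lit 6, nat_lit 7, nat_lit 7, nat_lit 7, nat_lit 6, nat_lit 8, nat_lit 6, nat_lit 8]) (.leaf [nat_lit 7, nat_lit 6, nat_lit 8, nat_lit 8, nat_lit 8, nat_lit 8, nat_lit 6, nat_lit 7, nat_lit 7, nat_lit 7, nat_lit 6, nat_lit 7])))))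
 (.node (nat_lit 19) (.node (nat_lit 16) (.node (nat_lit 14) (.leaf [nat_lit 12, nat_lit 12, nat_lit 12]) (.node (nat_lit 15) (.leaf [nat_lit 10, nat_lit 12, nat_lit 9, nat_lit 11, nat_lit 13, nat_lit 9, nat_lit 10, nat_lit 12, nat_lit 11, nat_lit 13, nat_lit 10]) (.leaf [nat_lit 14, nat_lit 14]))) (.node (nat_lit 17) (.leaf [nat_lit 10, nat_lit 10, nat_lit 12]) (.node (nat_lit 18) (.leaf [nat_lit 13, nat_lit 11, nat_lit 11]) (.leaf [nat_lit 9, nat_lit 13, nat_lit 9, nat_lit 13, nat_lit 9, nat_lit 10, nat_lit 10]))))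
 (.node (nat_lit 22) (.node (nat_lit 20) (.leaf [nat_lit 11, nat_lit 11, nat_lit 9, nat_lit 12, nat_lit 9, nat_lit 12, nat_lit 9]) (.node (nat_lit 21) (.leaf [nat_lit 15, nat_lit 18]) (.leaf [nat_lit 14, nat_lit 17, nat_lit 18])))
 (.node (nat_lit 24) (.node (nat_lit 23) (.leaf [nat_lit 16, nat_lit 9, nat_lit 17, nat_lit 15]) (.leaf [nat_lit 15, nat_lit 7, nat_lit 18, nat_lit 10, nat_lit 16, nat_lit 18])) (.node (nat_lit 25) (.leaf [nat_lit 16, nat_lit 4, nat_lit 12, nat_lit 6, nat_lit 15, nat_lit 9, nat_lit 18, nat_lit 17, nat_lit 19]) (.leaf [nat_lit 15, nat_lit 0, nat_lit 4, nat_lit 18, nat_lit 7, nat_lit 15, nat_lit 9, nat_lit 15, nat_lit 16]))))))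
theorem g2_11_23slp : slpChk 24 (nat_lit 5) (nat_lit 31) g2_11_23S g2_11_23D 2 24 = true := by decide +kernel
theorem g2_11_23 : PQR M23.P 2 11 23 := pos (S := g2_11_23S) [nat_lit 4, nat_lit 7, nat_lit 0, nat_lit 3, nat_lit 6, nat_lit 4, nat_lit 0, nat_lit 5, nat_lit 2, nat_lit 1, nat_lit 4, nat_lit 2, nat_lit 1, nat_lit 3, nat_lit 1] [nat_lit 2, nat_lit 7, nat_lit 0, nat_lit 5, nat_lit 2, nat_lit 6, nat_lit 0, nat_lit 2, nat_lit 1, nat_lit 5, nat_lit 0, nat_lit 4, nat_lit 1, nat_lit 3, nat_lit 1, nat_lit 2] g2_11_23slp (by decide +kernel)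
noncomputable def g2_23_23s0 : ℕ := (nat_lit 0xb85748023373d8daa548118a419ed2)
noncomputable def g2_23_23s1 : ℕ := (nat_lit 0xbb9f5a44a0b05436b272590c74a202)
noncomputable def g2_23_23s2 : ℕ := (nat_lit 0xb802eb10f2809341cde66356aa9511)
noncomputable def g2_23_23s3 : ℕ := (nat_lit 0xbbe934a241ad96a3b46221626601d0)
noncomputable def g2_23_23s4 : ℕ := (nat_lit 0xba9224123073da30dab3398b265160)
noncomputable def g2_23_23s5 : ℕ := (nat_lit 0xbbe76618950d12d829651a04e91e20)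
noncomputable def g2_23_23s6 : ℕ := (nat_lit 0xbd20ea8c2bb11934a9a614911395e0)
noncomputable def g2_23_23s7 : ℕ := (nat_lit 0xb90ca3c86d4960c5d1e89d5d688820)
noncomputable def g2_23_23s8 : ℕ := (nat_lit 0xb8a4d54271624ab31e8fa92c343820)
noncomputable def g2_23_23s9 : ℕ := (nat_lit 0xb94e98d61240a8f64dc352da625820)
noncomputable def g2_23_23s10 : ℕ := (nat_lit 0xb8d287b66e9563022d96a28c538820)
noncomputable def g2_23_23s11 : ℕ := (nat_lit 0xba1c78bdac9c24951ab41948bb0820)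
noncomputable def g2_23_23s12 : ℕ := (nat_lit 0xbb1e4544e8b4d6373605a24d2a8820)
noncomputable def g2_23_23s13 : ℕ := (nat_lit 0xbbc6771249aad566ccd08951460820)
noncomputable def g2_23_23s14 : ℕ := (nat_lit 0xbcd69958b5a44c4829ed621c718820)
noncomputable def g2_23_23s15 : ℕ := (nat_lit 0xbca0fb4dcb49507aaa862362c18820)
noncomputable def g2_23_23s16 : ℕ := (nat_lit 0xbbeb23b5ca6169682d0434e2918820)
noncomputable def g2_23_23s17 : ℕ := (nat_lit 0xbb2ad350abb464f5408999dc818820)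
noncomputable def g2_23_23s18 : ℕ := (nat_lit 0xbb4c93ae2453ac893e8c9d4b018820)
noncomputable def g2_23_23s19 : ℕ := (nat_lit 0xbb5135bdd63160aa1ea964a2418820)
noncomputable def g2_23_23s20 : ℕ := (nat_lit 0xbc12ba18ad946c79b11553dc418820)
noncomputable def g2_23_23s21 : ℕ := (nat_lit 0xbd6cb22627638cfa224a834b318820)
noncomputable def g2_23_23s22 : ℕ := (nat_lit 0xb926faa22da3a0b6255231cb618820)
noncomputable def g2_23_23s23 : ℕ := (nat_lit 0xb9da32494673eac5c4a8b4133a0820)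
noncomputable def g2_23_23s24 : ℕ := (nat_lit 0xbd8948ca636a9e2438eb498b583020)
noncomputable def g2_23_23s25 : ℕ := (nat_lit 0xbdaa77b9909c8514292ba18612b480)
noncomputable def g2_23_23s26 : ℕ := (nat_lit 0xbc8145da217a5a29a9c8390662b215)
noncomputable def g2_23_23S : Tr ℕ := (.node (nat_lit 13) (.node (nat_lit 6) (.node (nat_lit 3) (.node (nat_lit 1) (.leaf g2_23_23s0) (.node (nat_lit 2) (.leaf g2_23_23s1) (.leaf g2_23_23s2))) (.node (nat_lit 4) (.leaf g2_23_23s3) (.node (nat_lit 5) (.leaf g2_23_23s4) (.leaf g2_23_23s5))))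
 (.node (nat_lit 9) (.node (nat_lit 7) (.leaf g2_23_23s6) (.node (nat_lit 8) (.leaf g2_23_23s7) (.leaf g2_23_23s8)))
 (.node (nat_lit 11) (.node (nat_lit 10) (.leaf g2_23_23s9) (.leaf g2_23_23s10)) (.node (nat_lit 12) (.leaf g2_23_23s11) (.leaf g2_23_23s12)))))
 (.node (nat_lit 20) (.node (nat_lit 16) (.node (nat_lit 14) (.leaf g2_23_23s13) (.node (nat_lit 15) (.leaf g2_23_23s14) (.leaf g2_23_23s15)))
 (.node (nat_lit 18) (.node (nat_lit 17) (.leaf g2_23_23s16) (.leaf g2_23_23s17)) (.node (nat_lit 19) (.leaf g2_23_23s18) (.leaf g2_23_23s19))))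
 (.node (nat_lit 23) (.node (nat_lit 21) (.leaf g2_23_23s20) (.node (nat_lit 22) (.leaf g2_23_23s21) (.leaf g2_23_23s22)))
 (.node (nat_lit 25) (.node (nat_lit 24) (.leaf g2_23_23s23) (.leaf g2_23_23s24)) (.node (nat_lit 26) (.leaf g2_23_23s25) (.leaf g2_23_23s26))))))
noncomputable def g2_23_23D : Tr (List ℕ) := (.node (nat_lit 13) (.node (nat_lit 6) (.node (nat_lit 3) (.node (nat_lit 1) (.leaf []) (.node (nat_lit 2) (.leaf []) (.leaf [nat_lit 1, nat_lit 1, nat_lit 1, nat_lit 1]))) (.node (nat_lit 4) (.leaf [nat_lit 2, nat_lit 2, nat_lit 2, nat_lit 2, nat_lit 2, nat_lit 1, nat_lit 1]) (.node (nat_lit 5) (.leaf [nat_lit 0, nat_lit 3, nat_lit 0, nat_lit 1, nat_lit 0]) (.leaf [nat_lit 0, nat_lit 1, nat_lit 0, nat_lit 1, nat_lit 1]))))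
 (.node (nat_lit 9) (.node (nat_lit 7) (.leaf [nat_lit 3, nat_lit 3, nat_lit 0, nat_lit 3, nat_lit 0]) (.node (nat_lit 8) (.leaf [nat_lit 6, nat_lit 4, nat_lit 5]) (.leaf [nat_lit 4, nat_lit 5, nat_lit 4, nat_lit 5, nat_lit 4, nat_lit 5, nat_lit 4])))
 (.node (nat_lit 11) (.node (nat_lit 10) (.leaf [nat_lit 4, nat_lit 6, nat_lit 4, nat_lit 6, nat_lit 4, nat_lit 6, nat_lit 4]) (.leaf [nat_lit 8, nat_lit 7, nat_lit 9, nat_lit 7, nat_lit 9, nat_lit 9, nat_lit 7, nat_lit 8, nat_lit 8, nat_lit 8, nat_lit 7])) (.node (nat_lit 12) (.leaf [nat_lit 7, nat_lit 9, nat_lit 9, nat_lit 9, nat_lit 7, nat_lit 8, nat_lit 8, nat_lit 7, nat_lit 8, nat_lit 7, nat_lit 9]) (.leaf [nat_lit 9, nat_lit 7, nat_lit 9, nat_lit 9, nat_lit 7])))))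
 (.node (nat_lit 20) (.node (nat_lit 16) (.node (nat_lit 14) (.leaf [nat_lit 7, nat_lit 8, nat_lit 8, nat_lit 7, nat_lit 8]) (.node (nat_lit 15) (.leaf [nat_lit 12, nat_lit 10, nat_lit 10, nat_lit 12]) (.leaf [nat_lit 13, nat_lit 11, nat_lit 11, nat_lit 13])))
 (.node (nat_lit 18) (.node (nat_lit 17) (.leaf [nat_lit 10, nat_lit 12, nat_lit 10, nat_lit 12, nat_lit 11, nat_lit 12]) (.leaf [nat_lit 13, nat_lit 10, nat_lit 13, nat_lit 11, nat_lit 13, nat_lit 11])) (.node (nat_lit 19) (.leaf [nat_lit 12, nat_lit 10, nat_lit 12, nat_lit 12, nat_lit 10, nat_lit 12, nat_lit 10, nat_lit 10]) (.leaf [nat_lit 18, nat_lit 17, nat_lit 15, nat_lit 17, nat_lit 17, nat_lit 18]))))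
 (.node (nat_lit 23) (.node (nat_lit 21) (.leaf [nat_lit 18, nat_lit 16, nat_lit 16, nat_lit 14, nat_lit 16, nat_lit 18]) (.node (nat_lit 22) (.leaf [nat_lit 17, nat_lit 14, nat_lit 20]) (.leaf [nat_lit 16, nat_lit 15, nat_lit 19])))
 (.node (nat_lit 25) (.node (nat_lit 24) (.leaf [nat_lit 10, nat_lit 10, nat_lit 14, nat_lit 17, nat_lit 19]) (.leaf [nat_lit 17, nat_lit 9, nat_lit 10, nat_lit 17, nat_lit 15, nat_lit 19])) (.node (nat_lit 26) (.leaf [nat_lit 10, nat_lit 4, nat_lit 7, nat_lit 9, nat_lit 20, nat_lit 11, nat_lit 14, nat_lit 17, nat_lit 19]) (.leaf [nat_lit 9, nat_lit 0, nat_lit 5, nat_lit 20, nat_lit 9, nat_lit 15, nat_lit 10, nat_lit 17, nat_lit 14, nat_lit 19]))))))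
theorem g2_23_23slp : slpChk 24 (nat_lit 5) (nat_lit 31) g2_23_23S g2_23_23D 2 25 = true := by decide +kernel
theorem g2_23_23 : PQR M23.P 2 23 23 := pos (S := g2_23_23S) [nat_lit 3, nat_lit 1, nat_lit 7, nat_lit 1, nat_lit 6, nat_lit 2, nat_lit 6, nat_lit 0, nat_lit 2, nat_lit 5, nat_lit 3, nat_lit 2, nat_lit 1, nat_lit 4, nat_lit 1] [nat_lit 6, nat_lit 4, nat_lit 7, nat_lit 6, nat_lit 2, nat_lit 5, nat_lit 1, nat_lit 4, nat_lit 3, nat_lit 4, nat_lit 1] g2_23_23slp (by decide +kernel)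
noncomputable def g3_3_11s0 : ℕ := (nat_lit 0xbb6b3950e18b88c1ad267951654040)
noncomputable def g3_3_11s1 : ℕ := (nat_lit 0xba675a1230158085b1ca698a178e47)
noncomputable def g3_3_11s2 : ℕ := (nat_lit 0xb92b2a4de23bacc50d258a0cd58600)
noncomputable def g3_3_11s3 : ℕ := (nat_lit 0xbba93a86301a4ea5a2cc018b213c8d)
noncomputable def g3_3_11s4 : ℕ := (nat_lit 0xbda6413a506c52c2d1e809c6a5d4c0)
noncomputable def g3_3_11s5 : ℕ := (nat_lit 0xbd84aac5d04c9ec191a8305742cce0)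
noncomputable def g3_3_11s6 : ℕ := (nat_lit 0xbb221ac1af1a5c832e92b154239260)
noncomputable def g3_3_11s7 : ℕ := (nat_lit 0xb9e690a2b283636515cc1acc279280)
noncomputable def g3_3_11s8 : ℕ := (nat_lit 0xbb247b360913c8854ea32d1d159820)
noncomputable def g3_3_11s9 : ℕ := (nat_lit 0xbcd2655491716561ae0ca08ed43c20)
noncomputable def g3_3_11s10 : ℕ := (nat_lit 0xbca0b889c61b4a95126faa1963d020)
noncomputable def g3_3_11s11 : ℕ := (nat_lit 0xb90e24da75445c5a2d861c1aa7c820)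
noncomputable def g3_3_11s12 : ℕ := (nat_lit 0xbd9746166455611725e3448cd38820)
noncomputable def g3_3_11s13 : ℕ := (nat_lit 0xbd9d48998d4ac93abd471965040820)
noncomputable def g3_3_11s14 : ℕ := (nat_lit 0xba4886b8ef656911c96585a6a30820)
noncomputable def g3_3_11s15 : ℕ := (nat_lit 0xb99cd2a98784a6f492d488d1558820)
noncomputable def g3_3_11s16 : ℕ := (nat_lit 0xbd5f04a1c6b166c911ab5522718820)
noncomputable def g3_3_11s17 : ℕ := (nat_lit 0xbbec66acb4ac52c41e72241ca18820)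
noncomputable def g3_3_11s18 : ℕ := (nat_lit 0xbb5135bdd63160aa1ea964a2418820)
noncomputable def g3_3_11s19 : ℕ := (nat_lit 0xbc12ba18ad946c79b11553dc418820)
noncomputable def g3_3_11s20 : ℕ := (nat_lit 0xbd987929cda948f4ccd442e3018820)
noncomputable def g3_3_11s21 : ℕ := (nat_lit 0xbd9e854ca46461534967a25cd18820)
noncomputable def g3_3_11s22 : ℕ := (nat_lit 0xbd6cb22627638cfa224a834b318820)
noncomputable def g3_3_11s23 : ℕ := (nat_lit 0xb926faa22da3a0b6255231cb618820)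
noncomputable def g3_3_11s24 : ℕ := (nat_lit 0xb9da32494673eac5c4a8b4133a0820)
noncomputable def g3_3_11s25 : ℕ := (nat_lit 0xbd8948ca636a9e2438eb498b583020)
noncomputable def g3_3_11s26 : ℕ := (nat_lit 0xbdaa77b9909c8514292ba18612b480)
noncomputable def g3_3_11s27 : ℕ := (nat_lit 0xbc8145da217a5a29a9c8390662b215)
noncomputable def g3_3_11S : Tr ℕ := (.node (nat_lit 14) (.node (nat_lit 7) (.node (nat_lit 3) (.node (nat_lit 1) (.leaf g3_3_11s0) (.node (nat_lit 2) (.leaf g3_3_11s1) (.leaf g3_3_11s2)))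
 (.node (nat_lit 5) (.node (nat_lit 4) (.leaf g3_3_11s3) (.leaf g3_3_11s4)) (.node (nat_lit 6) (.leaf g3_3_11s5) (.leaf g3_3_11s6))))
 (.node (nat_lit 10) (.node (nat_lit 8) (.leaf g3_3_11s7) (.node (nat_lit 9) (.leaf g3_3_11s8) (.leaf g3_3_11s9)))
 (.node (nat_lit 12) (.node (nat_lit 11) (.leaf g3_3_11s10) (.leaf g3_3_11s11)) (.node (nat_lit 13) (.leaf g3_3_11s12) (.leaf g3_3_11s13)))))
 (.node (nat_lit 21) (.node (nat_lit 17) (.node (nat_lit 15) (.leaf g3_3_11s14) (.node (nat_lit 16) (.leaf g3_3_11s15) (.leaf g3_3_11s16)))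
 (.node (nat_lit 19) (.node (nat_lit 18) (.leaf g3_3_11s17) (.leaf g3_3_11s18)) (.node (nat_lit 20) (.leaf g3_3_11s19) (.leaf g3_3_11s20))))
 (.node (nat_lit 24) (.node (nat_lit 22) (.leaf g3_3_11s21) (.node (nat_lit 23) (.leaf g3_3_11s22) (.leaf g3_3_11s23)))
 (.node (nat_lit 26) (.node (nat_lit 25) (.leaf g3_3_11s24) (.leaf g3_3_11s25)) (.node (nat_lit 27) (.leaf g3_3_11s26) (.leaf g3_3_11s27))))))
noncomputable def g3_3_11D : Tr (List ℕ) := (.node (nat_lit 14) (.node (nat_lit 7) (.node (nat_lit 3) (.node (nat_lit 1) (.leaf []) (.node (nat_lit 2) (.leaf []) (.leaf [nat_lit 0, nat_lit 0])))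
 (.node (nat_lit 5) (.node (nat_lit 4) (.leaf [nat_lit 1, nat_lit 1]) (.leaf [nat_lit 0, nat_lit 3, nat_lit 0, nat_lit 1, nat_lit 2, nat_lit 1, nat_lit 2])) (.node (nat_lit 6) (.leaf [nat_lit 0, nat_lit 3, nat_lit 0, nat_lit 3, nat_lit 2, nat_lit 1, nat_lit 2]) (.leaf [nat_lit 1, nat_lit 2, nat_lit 3, nat_lit 0, nat_lit 0, nat_lit 1, nat_lit 0, nat_lit 3, nat_lit 3, nat_lit 2]))))
 (.node (nat_lit 10) (.node (nat_lit 8) (.leaf [nat_lit 0, nat_lit 1, nat_lit 1, nat_lit 2, nat_lit 3, nat_lit 2, nat_lit 2, nat_lit 1, nat_lit 0, nat_lit 3]) (.node (nat_lit 9) (.leaf [nat_lit 6, nat_lit 5, nat_lit 7, nat_lit 4, nat_lit 6]) (.leaf [nat_lit 7, nat_lit 5, nat_lit 6, nat_lit 4, nat_lit 7])))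
 (.node (nat_lit 12) (.node (nat_lit 11) (.leaf [nat_lit 6, nat_lit 4, nat_lit 6, nat_lit 6, nat_lit 4]) (.leaf [nat_lit 5, nat_lit 7, nat_lit 7, nat_lit 5, nat_lit 7])) (.node (nat_lit 13) (.leaf [nat_lit 9, nat_lit 10, nat_lit 10, nat_lit 9, nat_lit 11]) (.leaf [nat_lit 10, nat_lit 8, nat_lit 11, nat_lit 11, nat_lit 8])))))
 (.node (nat_lit 21) (.node (nat_lit 17) (.node (nat_lit 15) (.leaf [nat_lit 9, nat_lit 9, nat_lit 10]) (.node (nat_lit 16) (.leaf [nat_lit 11, nat_lit 8, nat_lit 8]) (.leaf [nat_lit 13, nat_lit 15, nat_lit 15, nat_lit 13, nat_lit 15, nat_lit 12, nat_lit 12, nat_lit 14, nat_lit 14, nat_lit 13, nat_lit 13, nat_lit 15, nat_lit 13])))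
 (.node (nat_lit 19) (.node (nat_lit 18) (.leaf [nat_lit 16, nat_lit 16]) (.leaf [nat_lit 12, nat_lit 15, nat_lit 15, nat_lit 12, nat_lit 15, nat_lit 12])) (.node (nat_lit 20) (.leaf [nat_lit 13, nat_lit 14, nat_lit 13, nat_lit 14, nat_lit 14, nat_lit 13]) (.leaf [nat_lit 15, nat_lit 13, nat_lit 15, nat_lit 15, nat_lit 15, nat_lit 12, nat_lit 14, nat_lit 12, nat_lit 12, nat_lit 14, nat_lit 14, nat_lit 13, nat_lit 14, nat_lit 12]))))
 (.node (nat_lit 24) (.node (nat_lit 22) (.leaf [nat_lit 20, nat_lit 20]) (.node (nat_lit 23) (.leaf [nat_lit 20, nat_lit 17]) (.leaf [nat_lit 19, nat_lit 21, nat_lit 19])))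
 (.node (nat_lit 26) (.node (nat_lit 25) (.leaf [nat_lit 20, nat_lit 13, nat_lit 17, nat_lit 21, nat_lit 18]) (.leaf [nat_lit 21, nat_lit 9, nat_lit 17, nat_lit 12, nat_lit 21, nat_lit 19, nat_lit 17])) (.node (nat_lit 27) (.leaf [nat_lit 17, nat_lit 5, nat_lit 17, nat_lit 13, nat_lit 21, nat_lit 16]) (.leaf [nat_lit 10, nat_lit 1, nat_lit 7, nat_lit 12, nat_lit 9, nat_lit 18, nat_lit 12, nat_lit 17, nat_lit 19]))))))
theorem g3_3_11slp : slpChk 24 (nat_lit 5) (nat_lit 31) g3_3_11S g3_3_11D 2 26 = true := by decide +kernel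
theorem g3_3_11 : PQR M23.P 3 3 11 := pos (S := g3_3_11S) [nat_lit 6, nat_lit 1, nat_lit 3, nat_lit 6, nat_lit 2, nat_lit 0, nat_lit 5, nat_lit 0, nat_lit 3, nat_lit 1, nat_lit 4, nat_lit 1, nat_lit 3, nat_lit 2] [nat_lit 5, nat_lit 0, nat_lit 7, nat_lit 6, nat_lit 2, nat_lit 6, nat_lit 0, nat_lit 2, nat_lit 5, nat_lit 3, nat_lit 4, nat_lit 0] g3_3_11slp (by decide +kernel)
noncomputable def g3_3_23s0 : ℕ := (nat_lit 0xbb9845a230b3e450192d51ea118a93)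
noncomputable def g3_3_23s1 : ℕ := (nat_lit 0xba2b49102e7b0506aac9044b33acc3)
noncomputable def g3_3_23s2 : ℕ := (nat_lit 0xbbca1036307591599d32329941888b)
noncomputable def g3_3_23s3 : ℕ := (nat_lit 0xba6b424ccc7c16e12916184b203627)
noncomputable def g3_3_23s4 : ℕ := (nat_lit 0xba4a35a02e64e567d211512ad39840)
noncomputable def g3_3_23s5 : ℕ := (nat_lit 0xbb0aa735095c08f99ed218aa6a0620)
noncomputable def g3_3_23s6 : ℕ := (nat_lit 0xbd2045456cb142f4987540a4d9b8e0)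
noncomputable def g3_3_23s7 : ℕ := (nat_lit 0xbbd1619655608908cd670a9d4499a0)
noncomputable def g3_3_23s8 : ℕ := (nat_lit 0xbc9286b1d63c690511f3aac4619420)
noncomputable def g3_3_23s9 : ℕ := (nat_lit 0xbc0ed459cc4c67232eb47904a19420)
noncomputable def g3_3_23s10 : ℕ := (nat_lit 0xb8d8538a6aac8d622d30a3a287b420)
noncomputable def g3_3_23s11 : ℕ := (nat_lit 0xbb1e78b8a819855541249b68bb4820)
noncomputable def g3_3_23s12 : ℕ := (nat_lit 0xbb1f3a4232ab916218ed4a8ab18820)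
noncomputable def g3_3_23s13 : ℕ := (nat_lit 0xb8d564d5716c8a699207a3d8e40820)
noncomputable def g3_3_23s14 : ℕ := (nat_lit 0xbd2475ba09311e58d663431aab0820)
noncomputable def g3_3_23s15 : ℕ := (nat_lit 0xbd605b2d538bce89386c23526a0820)
noncomputable def g3_3_23s16 : ℕ := (nat_lit 0xbcec382df5728c8944ac6928748820)
noncomputable def g3_3_23s17 : ℕ := (nat_lit 0xb9166425d0996d4554ef9322d18820)
noncomputable def g3_3_23s18 : ℕ := (nat_lit 0xbb54c79cb044486aae534d1d618820)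
noncomputable def g3_3_23s19 : ℕ := (nat_lit 0xb9d367add3814d263488a2a3518820)
noncomputable def g3_3_23s20 : ℕ := (nat_lit 0xbd987929cda948f4ccd442e3018820)
noncomputable def g3_3_23s21 : ℕ := (nat_lit 0xbd9e854ca46461534967a25cd18820)
noncomputable def g3_3_23s22 : ℕ := (nat_lit 0xbb5135bdd63160aa1ea964a2418820)
noncomputable def g3_3_23s23 : ℕ := (nat_lit 0xbc12ba18ad946c79b11553dc418820)
noncomputable def g3_3_23s24 : ℕ := (nat_lit 0xbd6cb22627638cfa224a834b318820)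
noncomputable def g3_3_23s25 : ℕ := (nat_lit 0xb926faa22da3a0b6255231cb618820)
noncomputable def g3_3_23s26 : ℕ := (nat_lit 0xb9da32494673eac5c4a8b4133a0820)
noncomputable def g3_3_23s27 : ℕ := (nat_lit 0xbd8948ca636a9e2438eb498b583020)
noncomputable def g3_3_23s28 : ℕ := (nat_lit 0xbdaa77b9909c8514292ba18612b480)
noncomputable def g3_3_23s29 : ℕ := (nat_lit 0xbc8145da217a5a29a9c8390662b215)
noncomputable def g3_3_23S : Tr ℕ := (.node (nat_lit 15) (.node (nat_lit 7) (.node (nat_lit 3) (.node (nat_lit 1) (.leaf g3_3_23s0) (.node (nat_lit 2) (.leaf g3_3_23s1) (.leaf g3_3_23s2)))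
 (.node (nat_lit 5) (.node (nat_lit 4) (.leaf g3_3_23s3) (.leaf g3_3_23s4)) (.node (nat_lit 6) (.leaf g3_3_23s5) (.leaf g3_3_23s6))))
 (.node (nat_lit 11) (.node (nat_lit 9) (.node (nat_lit 8) (.leaf g3_3_23s7) (.leaf g3_3_23s8)) (.node (nat_lit 10) (.leaf g3_3_23s9) (.leaf g3_3_23s10)))
 (.node (nat_lit 13) (.node (nat_lit 12) (.leaf g3_3_23s11) (.leaf g3_3_23s12)) (.node (nat_lit 14) (.leaf g3_3_23s13) (.leaf g3_3_23s14)))))
 (.node (nat_lit 22) (.node (nat_lit 18) (.node (nat_lit 16) (.leaf g3_3_23s15) (.node (nat_lit 17) (.leaf g3_3_23s16) (.leaf g3_3_23s17)))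
 (.node (nat_lit 20) (.node (nat_lit 19) (.leaf g3_3_23s18) (.leaf g3_3_23s19)) (.node (nat_lit 21) (.leaf g3_3_23s20) (.leaf g3_3_23s21))))
 (.node (nat_lit 26) (.node (nat_lit 24) (.node (nat_lit 23) (.leaf g3_3_23s22) (.leaf g3_3_23s23)) (.node (nat_lit 25) (.leaf g3_3_23s24) (.leaf g3_3_23s25)))
 (.node (nat_lit 28) (.node (nat_lit 27) (.leaf g3_3_23s26) (.leaf g3_3_23s27)) (.node (nat_lit 29) (.leaf g3_3_23s28) (.leaf g3_3_23s29))))))
noncomputable def g3_3_23D : Tr (List ℕ) := (.node (nat_lit 15) (.node (nat_lit 7) (.node (nat_lit 3) (.node (nat_lit 1) (.leaf []) (.node (nat_lit 2) (.leaf []) (.leaf [nat_lit 0, nat_lit 0])))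
 (.node (nat_lit 5) (.node (nat_lit 4) (.leaf [nat_lit 1, nat_lit 1]) (.leaf [nat_lit 2, nat_lit 3, nat_lit 0, nat_lit 3, nat_lit 3, nat_lit 2])) (.node (nat_lit 6) (.leaf [nat_lit 0, nat_lit 1, nat_lit 1, nat_lit 2, nat_lit 1, nat_lit 0]) (.leaf [nat_lit 2, nat_lit 1, nat_lit 2, nat_lit 3, nat_lit 2, nat_lit 3, nat_lit 3, nat_lit 3, nat_lit 3]))))
 (.node (nat_lit 11) (.node (nat_lit 9) (.node (nat_lit 8) (.leaf [nat_lit 1, nat_lit 1, nat_lit 1, nat_lit 1, nat_lit 0, nat_lit 1, nat_lit 0, nat_lit 3, nat_lit 0]) (.leaf [nat_lit 4, nat_lit 4, nat_lit 6, nat_lit 6])) (.node (nat_lit 10) (.leaf [nat_lit 7, nat_lit 7, nat_lit 5, nat_lit 5]) (.leaf [nat_lit 6, nat_lit 5, nat_lit 7, nat_lit 5])))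
 (.node (nat_lit 13) (.node (nat_lit 12) (.leaf [nat_lit 4, nat_lit 6, nat_lit 4, nat_lit 7]) (.leaf [nat_lit 8, nat_lit 8])) (.node (nat_lit 14) (.leaf [nat_lit 8, nat_lit 11, nat_lit 9, nat_lit 9, nat_lit 10, nat_lit 10, nat_lit 8, nat_lit 10]) (.leaf [nat_lit 11, nat_lit 9, nat_lit 11, nat_lit 11, nat_lit 8, nat_lit 8, nat_lit 10, nat_lit 9])))))
 (.node (nat_lit 22) (.node (nat_lit 18) (.node (nat_lit 16) (.leaf [nat_lit 9, nat_lit 11, nat_lit 8, nat_lit 10, nat_lit 10, nat_lit 10]) (.node (nat_lit 17) (.leaf [nat_lit 11, nat_lit 11, nat_lit 11, nat_lit 9, nat_lit 10, nat_lit 8]) (.leaf [nat_lit 14, nat_lit 14, nat_lit 14, nat_lit 15])))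
 (.node (nat_lit 20) (.node (nat_lit 19) (.leaf [nat_lit 16, nat_lit 13, nat_lit 13, nat_lit 13]) (.leaf [nat_lit 12, nat_lit 16, nat_lit 12, nat_lit 16, nat_lit 14])) (.node (nat_lit 21) (.leaf [nat_lit 13, nat_lit 16, nat_lit 16, nat_lit 13, nat_lit 15, nat_lit 15, nat_lit 15]) (.leaf [nat_lit 16, nat_lit 16, nat_lit 16, nat_lit 14, nat_lit 15, nat_lit 15, nat_lit 14]))))
 (.node (nat_lit 26) (.node (nat_lit 24) (.node (nat_lit 23) (.leaf [nat_lit 17, nat_lit 21, nat_lit 21, nat_lit 18]) (.leaf [nat_lit 17, nat_lit 20, nat_lit 20, nat_lit 18])) (.node (nat_lit 25) (.leaf [nat_lit 19, nat_lit 20, nat_lit 22]) (.leaf [nat_lit 18, nat_lit 22])))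
 (.node (nat_lit 28) (.node (nat_lit 27) (.leaf [nat_lit 15, nat_lit 20, nat_lit 23]) (.leaf [nat_lit 13, nat_lit 9, nat_lit 17, nat_lit 13, nat_lit 20, nat_lit 19, nat_lit 22])) (.node (nat_lit 29) (.leaf [nat_lit 18, nat_lit 7, nat_lit 16, nat_lit 9, nat_lit 12, nat_lit 14, nat_lit 22]) (.leaf [nat_lit 18, nat_lit 2, nat_lit 14, nat_lit 5, nat_lit 21, nat_lit 11, nat_lit 12, nat_lit 14, nat_lit 22, nat_lit 19, nat_lit 23]))))))
theorem g3_3_23slp : slpChk 24 (nat_lit 5) (nat_lit 31) g3_3_23S g3_3_23D 2 28 = true := by decide +kernel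
theorem g3_3_23 : PQR M23.P 3 3 23 := pos (S := g3_3_23S) [nat_lit 3, nat_lit 7, nat_lit 6, nat_lit 2, nat_lit 6, nat_lit 5, nat_lit 1, nat_lit 4, nat_lit 3, nat_lit 4, nat_lit 3, nat_lit 1, nat_lit 2, nat_lit 0] [nat_lit 6, nat_lit 4, nat_lit 0, nat_lit 7, nat_lit 0, nat_lit 6, nat_lit 2, nat_lit 6, nat_lit 4, nat_lit 3, nat_lit 1, nat_lit 5, nat_lit 0, nat_lit 3, nat_lit 0, nat_lit 2, nat_lit 1] g3_3_23slp (by decide +kernel)
noncomputable def g3_5_5s0 : ℕ := (nat_lit 0xbc4f0904a243aa05a92469acf65263)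
noncomputable def g3_5_5s1 : ℕ := (nat_lit 0xbc9b49aec0a90ef419d1608b050469)
noncomputable def g3_5_5s2 : ℕ := (nat_lit 0xb95a20ced4238e35a92fa9a280424c)
noncomputable def g3_5_5s3 : ℕ := (nat_lit 0xbc5f49d904626a790c0b6a8ae09850)
noncomputable def g3_5_5s4 : ℕ := (nat_lit 0xb89e4b49016b2ab72925852261cce0)
noncomputable def g3_5_5s5 : ℕ := (nat_lit 0xbcda6148a7aadee62931091141da00)
noncomputable def g3_5_5s6 : ℕ := (nat_lit 0xba0e490ac69bd512ae8e826ad60460)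
noncomputable def g3_5_5s7 : ℕ := (nat_lit 0xbc4a97cd8772083534d6ac1740c840)
noncomputable def g3_5_5s8 : ℕ := (nat_lit 0xba28f6154984a711996269c96ab820)
noncomputable def g3_5_5s9 : ℕ := (nat_lit 0xb90756b98fa08f34c61632a455a020)
noncomputable def g3_5_5s10 : ℕ := (nat_lit 0xb9ed52cd83522116b88fa18495c820)
noncomputable def g3_5_5s11 : ℕ := (nat_lit 0xbd6879098d429711bc8eb1a6981420)
noncomputable def g3_5_5s12 : ℕ := (nat_lit 0xba571410ea2cded80dd6930d4a8820)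
noncomputable def g3_5_5s13 : ℕ := (nat_lit 0xba06471e8b6a586ac2d3895f250820)
noncomputable def g3_5_5s14 : ℕ := (nat_lit 0xbb2c56a8d219d0f4c5d42426ba8820)
noncomputable def g3_5_5s15 : ℕ := (nat_lit 0xbd4682c146626762496d7468778820)
noncomputable def g3_5_5s16 : ℕ := (nat_lit 0xba8cb9d9cf4152d24990a9e3418820)
noncomputable def g3_5_5s17 : ℕ := (nat_lit 0xbc8e49a8a884589a59af355cb18820)
noncomputable def g3_5_5s18 : ℕ := (nat_lit 0xbae957b6289ba44b1cd0524ac18820)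
noncomputable def g3_5_5s19 : ℕ := (nat_lit 0xbac8a69dd2a159333d3585a2818820)
noncomputable def g3_5_5s20 : ℕ := (nat_lit 0xb990f640a75466db512492dd518820)
noncomputable def g3_5_5s21 : ℕ := (nat_lit 0xbc12ba18ad946c79b11553dc418820)
noncomputable def g3_5_5s22 : ℕ := (nat_lit 0xbb5135bdd63160aa1ea964a2418820)
noncomputable def g3_5_5s23 : ℕ := (nat_lit 0xbd6cb22627638cfa224a834b318820)
noncomputable def g3_5_5s24 : ℕ := (nat_lit 0xb926faa22da3a0b6255231cb618820)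
noncomputable def g3_5_5s25 : ℕ := (nat_lit 0xb9da32494673eac5c4a8b4133a0820)
noncomputable def g3_5_5s26 : ℕ := (nat_lit 0xbd8948ca636a9e2438eb498b583020)
noncomputable def g3_5_5s27 : ℕ := (nat_lit 0xbdaa77b9909c8514292ba18612b480)
noncomputable def g3_5_5s28 : ℕ := (nat_lit 0xbc8145da217a5a29a9c8390662b215)
noncomputable def g3_5_5S : Tr ℕ := (.node (nat_lit 14) (.node (nat_lit 7) (.node (nat_lit 3) (.node (nat_lit 1) (.leaf g3_5_5s0) (.node (nat_lit 2) (.leaf g3_5_5s1) (.leaf g3_5_5s2)))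
 (.node (nat_lit 5) (.node (nat_lit 4) (.leaf g3_5_5s3) (.leaf g3_5_5s4)) (.node (nat_lit 6) (.leaf g3_5_5s5) (.leaf g3_5_5s6))))
 (.node (nat_lit 10) (.node (nat_lit 8) (.leaf g3_5_5s7) (.node (nat_lit 9) (.leaf g3_5_5s8) (.leaf g3_5_5s9)))
 (.node (nat_lit 12) (.node (nat_lit 11) (.leaf g3_5_5s10) (.leaf g3_5_5s11)) (.node (nat_lit 13) (.leaf g3_5_5s12) (.leaf g3_5_5s13)))))
 (.node (nat_lit 21) (.node (nat_lit 17) (.node (nat_lit 15) (.leaf g3_5_5s14) (.node (nat_lit 16) (.leaf g3_5_5s15) (.leaf g3_5_5s16)))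
 (.node (nat_lit 19) (.node (nat_lit 18) (.leaf g3_5_5s17) (.leaf g3_5_5s18)) (.node (nat_lit 20) (.leaf g3_5_5s19) (.leaf g3_5_5s20))))
 (.node (nat_lit 25) (.node (nat_lit 23) (.node (nat_lit 22) (.leaf g3_5_5s21) (.leaf g3_5_5s22)) (.node (nat_lit 24) (.leaf g3_5_5s23) (.leaf g3_5_5s24)))
 (.node (nat_lit 27) (.node (nat_lit 26) (.leaf g3_5_5s25) (.leaf g3_5_5s26)) (.node (nat_lit 28) (.leaf g3_5_5s27) (.leaf g3_5_5s28))))))
noncomputable def g3_5_5D : Tr (List ℕ) := (.node (nat_lit 14) (.node (nat_lit 7) (.node (nat_lit 3) (.node (nat_lit 1) (.leaf []) (.node (nat_lit 2) (.leaf []) (.leaf [nat_lit 0, nat_lit 0])))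
 (.node (nat_lit 5) (.node (nat_lit 4) (.leaf [nat_lit 1, nat_lit 1, nat_lit 1, nat_lit 1]) (.leaf [nat_lit 3, nat_lit 0, nat_lit 1])) (.node (nat_lit 6) (.leaf [nat_lit 3, nat_lit 2, nat_lit 1]) (.leaf [nat_lit 1, nat_lit 2, nat_lit 3, nat_lit 3, nat_lit 0]))))
 (.node (nat_lit 10) (.node (nat_lit 8) (.leaf [nat_lit 2, nat_lit 1, nat_lit 1, nat_lit 0, nat_lit 3]) (.node (nat_lit 9) (.leaf [nat_lit 6, nat_lit 4, nat_lit 6, nat_lit 6, nat_lit 6, nat_lit 6]) (.leaf [nat_lit 7, nat_lit 7, nat_lit 7, nat_lit 7, nat_lit 5, nat_lit 7])))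
 (.node (nat_lit 12) (.node (nat_lit 11) (.leaf [nat_lit 5, nat_lit 5, nat_lit 6, nat_lit 4]) (.leaf [nat_lit 5, nat_lit 7, nat_lit 4, nat_lit 4])) (.node (nat_lit 13) (.leaf [nat_lit 8, nat_lit 8, nat_lit 8, nat_lit 8, nat_lit 11]) (.leaf [nat_lit 10, nat_lit 9, nat_lit 9, nat_lit 9, nat_lit 9])))))
 (.node (nat_lit 21) (.node (nat_lit 17) (.node (nat_lit 15) (.leaf [nat_lit 8, nat_lit 11, nat_lit 8, nat_lit 11, nat_lit 11, nat_lit 9, nat_lit 9]) (.node (nat_lit 16) (.leaf [nat_lit 8, nat_lit 8, nat_lit 10, nat_lit 10, nat_lit 9, nat_lit 10, nat_lit 9]) (.leaf [nat_lit 12, nat_lit 15, nat_lit 15, nat_lit 13, nat_lit 15, nat_lit 15])))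
 (.node (nat_lit 19) (.node (nat_lit 18) (.leaf [nat_lit 14, nat_lit 14, nat_lit 12, nat_lit 14, nat_lit 14, nat_lit 13]) (.leaf [nat_lit 12, nat_lit 14, nat_lit 12, nat_lit 15, nat_lit 12, nat_lit 15, nat_lit 13, nat_lit 13, nat_lit 14])) (.node (nat_lit 20) (.leaf [nat_lit 14, nat_lit 13, nat_lit 14, nat_lit 12, nat_lit 15, nat_lit 12, nat_lit 14]) (.leaf [nat_lit 15, nat_lit 13, nat_lit 14, nat_lit 13, nat_lit 15, nat_lit 12, nat_lit 15]))))
 (.node (nat_lit 25) (.node (nat_lit 23) (.node (nat_lit 22) (.leaf [nat_lit 18, nat_lit 20, nat_lit 18, nat_lit 17, nat_lit 19]) (.leaf [nat_lit 20, nat_lit 16, nat_lit 18, nat_lit 19, nat_lit 18])) (.node (nat_lit 24) (.leaf [nat_lit 21, nat_lit 17, nat_lit 21]) (.leaf [nat_lit 18, nat_lit 17, nat_lit 22])))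
 (.node (nat_lit 27) (.node (nat_lit 26) (.leaf [nat_lit 20, nat_lit 13, nat_lit 20, nat_lit 16, nat_lit 21]) (.leaf [nat_lit 16, nat_lit 22, nat_lit 9, nat_lit 20, nat_lit 13, nat_lit 17, nat_lit 18, nat_lit 22])) (.node (nat_lit 28) (.leaf [nat_lit 14, nat_lit 4, nat_lit 16, nat_lit 12, nat_lit 21, nat_lit 17]) (.leaf [nat_lit 12, nat_lit 0, nat_lit 13, nat_lit 5, nat_lit 15, nat_lit 22, nat_lit 9, nat_lit 21, nat_lit 13, nat_lit 16, nat_lit 18]))))))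
theorem g3_5_5slp : slpChk 24 (nat_lit 5) (nat_lit 31) g3_5_5S g3_5_5D 2 27 = true := by decide +kernel
theorem g3_5_5 : PQR M23.P 3 5 5 := pos (S := g3_5_5S) [nat_lit 6, nat_lit 4, nat_lit 0, nat_lit 7, nat_lit 4, nat_lit 0, nat_lit 2, nat_lit 6, nat_lit 1, nat_lit 5, nat_lit 4, nat_lit 3, nat_lit 1, nat_lit 4, nat_lit 2, nat_lit 0] [nat_lit 0, nat_lit 7, nat_lit 0, nat_lit 5, nat_lit 2, nat_lit 6, nat_lit 0, nat_lit 2, nat_lit 1, nat_lit 5, nat_lit 4, nat_lit 3, nat_lit 4, nat_lit 3, nat_lit 1, nat_lit 2, nat_lit 0] g3_5_5slp (by decide +kernel)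
noncomputable def g3_5_7s0 : ℕ := (nat_lit 0xbd8a0985347aeac4454e389b230c90)
noncomputable def g3_5_7s1 : ℕ := (nat_lit 0xb8074b118b71d3054648119e1995b5)
noncomputable def g3_5_7s2 : ℕ := (nat_lit 0xbd9b0991407a0ac7262b38ea111a54)
noncomputable def g3_5_7s3 : ℕ := (nat_lit 0xbcc141a54c2bc3182da871852a9c96)
noncomputable def g3_5_7s4 : ℕ := (nat_lit 0xbd874a95ee1360a490e85982c9c640)
noncomputable def g3_5_7s5 : ℕ := (nat_lit 0xbda741844d8c1c43b16849a4aabca0)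
noncomputable def g3_5_7s6 : ℕ := (nat_lit 0xbcc2b55a0fad12724a2e4358510cc0)
noncomputable def g3_5_7s7 : ℕ := (nat_lit 0xbc9eeb2931820c5a4da76048b10ea0)
noncomputable def g3_5_7s8 : ℕ := (nat_lit 0xbbd4d5c90313994292063c6754d820)
noncomputable def g3_5_7s9 : ℕ := (nat_lit 0xb888c2c8c9b3a8d9d4713a16a83c20)
noncomputable def g3_5_7s10 : ℕ := (nat_lit 0xbd66b636843bdc6446c38153212820)
noncomputable def g3_5_7s11 : ℕ := (nat_lit 0xba6d1a914773653a08ab7b0d040c20)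
noncomputable def g3_5_7s12 : ℕ := (nat_lit 0xba8f031649b2291711a3acd8f58820)
noncomputable def g3_5_7s13 : ℕ := (nat_lit 0xbbced3459422d251da0eace4a40820)
noncomputable def g3_5_7s14 : ℕ := (nat_lit 0xbae8e519ac1d913a96274be1220820)
noncomputable def g3_5_7s15 : ℕ := (nat_lit 0xbb9756112535230b4ced4494378820)
noncomputable def g3_5_7s16 : ℕ := (nat_lit 0xbc8e49a8a884589a59af355cb18820)
noncomputable def g3_5_7s17 : ℕ := (nat_lit 0xba8cb9d9cf4152d24990a9e3418820)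
noncomputable def g3_5_7s18 : ℕ := (nat_lit 0xba64d4562f83a87312d362caa18820)
noncomputable def g3_5_7s19 : ℕ := (nat_lit 0xbca0fb4dcb49507aaa862362c18820)
noncomputable def g3_5_7s20 : ℕ := (nat_lit 0xbcd69958b5a44c4829ed621c718820)
noncomputable def g3_5_7s21 : ℕ := (nat_lit 0xbb5135bdd63160aa1ea964a2418820)
noncomputable def g3_5_7s22 : ℕ := (nat_lit 0xbc12ba18ad946c79b11553dc418820)
noncomputable def g3_5_7s23 : ℕ := (nat_lit 0xbd6cb22627638cfa224a834b318820)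
noncomputable def g3_5_7s24 : ℕ := (nat_lit 0xb926faa22da3a0b6255231cb618820)
noncomputable def g3_5_7s25 : ℕ := (nat_lit 0xb9da32494673eac5c4a8b4133a0820)
noncomputable def g3_5_7s26 : ℕ := (nat_lit 0xbd8948ca636a9e2438eb498b583020)
noncomputable def g3_5_7s27 : ℕ := (nat_lit 0xbdaa77b9909c8514292ba18612b480)
noncomputable def g3_5_7s28 : ℕ := (nat_lit 0xbc8145da217a5a29a9c8390662b215)
noncomputable def g3_5_7S : Tr ℕ := (.node (nat_lit 14) (.node (nat_lit 7) (.node (nat_lit 3) (.node (nat_lit 1) (.leaf g3_5_7s0) (.node (nat_lit 2) (.leaf g3_5_7s1) (.leaf g3_5_7s2)))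
 (.node (nat_lit 5) (.node (nat_lit 4) (.leaf g3_5_7s3) (.leaf g3_5_7s4)) (.node (nat_lit 6) (.leaf g3_5_7s5) (.leaf g3_5_7s6))))
 (.node (nat_lit 10) (.node (nat_lit 8) (.leaf g3_5_7s7) (.node (nat_lit 9) (.leaf g3_5_7s8) (.leaf g3_5_7s9)))
 (.node (nat_lit 12) (.node (nat_lit 11) (.leaf g3_5_7s10) (.leaf g3_5_7s11)) (.node (nat_lit 13) (.leaf g3_5_7s12) (.leaf g3_5_7s13)))))
 (.node (nat_lit 21) (.node (nat_lit 17) (.node (nat_lit 15) (.leaf g3_5_7s14) (.node (nat_lit 16) (.leaf g3_5_7s15) (.leaf g3_5_7s16)))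
 (.node (nat_lit 19) (.node (nat_lit 18) (.leaf g3_5_7s17) (.leaf g3_5_7s18)) (.node (nat_lit 20) (.leaf g3_5_7s19) (.leaf g3_5_7s20))))
 (.node (nat_lit 25) (.node (nat_lit 23) (.node (nat_lit 22) (.leaf g3_5_7s21) (.leaf g3_5_7s22)) (.node (nat_lit 24) (.leaf g3_5_7s23) (.leaf g3_5_7s24)))
 (.node (nat_lit 27) (.node (nat_lit 26) (.leaf g3_5_7s25) (.leaf g3_5_7s26)) (.node (nat_lit 28) (.leaf g3_5_7s27) (.leaf g3_5_7s28))))))
noncomputable def g3_5_7D : Tr (List ℕ) := (.node (nat_lit 14) (.node (nat_lit 7) (.node (nat_lit 3) (.node (nat_lit 1) (.leaf []) (.node (nat_lit 2) (.leaf []) (.leaf [nat_lit 0, nat_lit 0])))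
 (.node (nat_lit 5) (.node (nat_lit 4) (.leaf [nat_lit 1, nat_lit 1, nat_lit 1, nat_lit 1]) (.leaf [nat_lit 2, nat_lit 1, nat_lit 2, nat_lit 3, nat_lit 0])) (.node (nat_lit 6) (.leaf [nat_lit 2, nat_lit 1, nat_lit 0, nat_lit 3, nat_lit 0]) (.leaf [nat_lit 2, nat_lit 3, nat_lit 3, nat_lit 0, nat_lit 1, nat_lit 2, nat_lit 1]))))
 (.node (nat_lit 10) (.node (nat_lit 8) (.leaf [nat_lit 3, nat_lit 0, nat_lit 3, nat_lit 2, nat_lit 1, nat_lit 1, nat_lit 0]) (.node (nat_lit 9) (.leaf [nat_lit 7, nat_lit 4, nat_lit 6]) (.leaf [nat_lit 7, nat_lit 5, nat_lit 6])))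
 (.node (nat_lit 12) (.node (nat_lit 11) (.leaf [nat_lit 6, nat_lit 6, nat_lit 6, nat_lit 4, nat_lit 6, nat_lit 5, nat_lit 6]) (.leaf [nat_lit 7, nat_lit 4, nat_lit 7, nat_lit 5, nat_lit 7, nat_lit 7, nat_lit 7])) (.node (nat_lit 13) (.leaf [nat_lit 9, nat_lit 10, nat_lit 8, nat_lit 11]) (.leaf [nat_lit 10, nat_lit 9, nat_lit 11, nat_lit 8])))))
 (.node (nat_lit 21) (.node (nat_lit 17) (.node (nat_lit 15) (.leaf [nat_lit 9, nat_lit 10, nat_lit 10, nat_lit 10, nat_lit 8, nat_lit 11, nat_lit 11]) (.node (nat_lit 16) (.leaf [nat_lit 10, nat_lit 10, nat_lit 9, nat_lit 11, nat_lit 11, nat_lit 11, nat_lit 8]) (.leaf [nat_lit 12, nat_lit 12, nat_lit 14, nat_lit 13, nat_lit 14, nat_lit 12, nat_lit 14, nat_lit 13, nat_lit 15])))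
 (.node (nat_lit 19) (.node (nat_lit 18) (.leaf [nat_lit 14, nat_lit 12, nat_lit 15, nat_lit 13, nat_lit 15, nat_lit 12, nat_lit 15, nat_lit 13, nat_lit 13]) (.leaf [nat_lit 13, nat_lit 15, nat_lit 13, nat_lit 14, nat_lit 13])) (.node (nat_lit 20) (.leaf [nat_lit 12, nat_lit 14, nat_lit 14, nat_lit 12, nat_lit 12, nat_lit 12, nat_lit 14, nat_lit 14]) (.leaf [nat_lit 15, nat_lit 15, nat_lit 13, nat_lit 13, nat_lit 13, nat_lit 15, nat_lit 15, nat_lit 13]))))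
 (.node (nat_lit 25) (.node (nat_lit 23) (.node (nat_lit 22) (.leaf [nat_lit 16, nat_lit 18, nat_lit 17, nat_lit 19]) (.leaf [nat_lit 20, nat_lit 16, nat_lit 18, nat_lit 17])) (.node (nat_lit 24) (.leaf [nat_lit 21, nat_lit 17, nat_lit 21]) (.leaf [nat_lit 16, nat_lit 18, nat_lit 21])))
 (.node (nat_lit 27) (.node (nat_lit 26) (.leaf [nat_lit 21, nat_lit 12, nat_lit 18, nat_lit 17, nat_lit 21]) (.leaf [nat_lit 22, nat_lit 10, nat_lit 21, nat_lit 13, nat_lit 18, nat_lit 16, nat_lit 22])) (.node (nat_lit 28) (.leaf [nat_lit 7, nat_lit 5, nat_lit 10, nat_lit 9, nat_lit 15, nat_lit 12, nat_lit 16, nat_lit 22]) (.leaf [nat_lit 1, nat_lit 12, nat_lit 5, nat_lit 10, nat_lit 18, nat_lit 14, nat_lit 20, nat_lit 22]))))))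
theorem g3_5_7slp : slpChk 24 (nat_lit 5) (nat_lit 31) g3_5_7S g3_5_7D 2 27 = true := by decide +kernel
theorem g3_5_7 : PQR M23.P 3 5 7 := pos (S := g3_5_7S) [nat_lit 0, nat_lit 2, nat_lit 7, nat_lit 1, nat_lit 2, nat_lit 6, nat_lit 0, nat_lit 2, nat_lit 5, nat_lit 0, nat_lit 4, nat_lit 1, nat_lit 3, nat_lit 0] [nat_lit 7, nat_lit 1, nat_lit 3, nat_lit 6, nat_lit 4, nat_lit 3, nat_lit 1, nat_lit 5, nat_lit 3, nat_lit 4, nat_lit 3, nat_lit 0, nat_lit 2, nat_lit 0] g3_5_7slp (by decide +kernel)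
noncomputable def g3_5_11s0 : ℕ := (nat_lit 0xbcd30385afa45d259868b1544a8980)
noncomputable def g3_5_11s1 : ℕ := (nat_lit 0xba6628308d3b81654512a19e119575)
noncomputable def g3_5_11s2 : ℕ := (nat_lit 0xb9c6fb31d483621596a89a8c448a40)
noncomputable def g3_5_11s3 : ℕ := (nat_lit 0xbb007aa1532ba120aec9798511d08d)
noncomputable def g3_5_11s4 : ℕ := (nat_lit 0xb8906242a55bcf28b66e550690d980)
noncomputable def g3_5_11s5 : ℕ := (nat_lit 0xb8a264b1727214179c956d2132d860)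
noncomputable def g3_5_11s6 : ℕ := (nat_lit 0xbb0555da502452e51a8538c289b5e0)
noncomputable def g3_5_11s7 : ℕ := (nat_lit 0xbca891c5d00b0569ada43a90f354a0)
noncomputable def g3_5_11s8 : ℕ := (nat_lit 0xbc5a71ae8c9948f8544e42ac991820)
noncomputable def g3_5_11s9 : ℕ := (nat_lit 0xb955178ecb622b091887a09cd9a420)
noncomputable def g3_5_11s10 : ℕ := (nat_lit 0xba63050d15309a49b9f4b1e4562c20)
noncomputable def g3_5_11s11 : ℕ := (nat_lit 0xb9e08596b44a9a314ed133c8c93820)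
noncomputable def g3_5_11s12 : ℕ := (nat_lit 0xbd8ec98e8d5a4912c90e355f050820)
noncomputable def g3_5_11s13 : ℕ := (nat_lit 0xbd8d19a9842a21478dc9a9d6d90820)
noncomputable def g3_5_11s14 : ℕ := (nat_lit 0xba6c5256547315338e268356f40820)
noncomputable def g3_5_11s15 : ℕ := (nat_lit 0xbd6506452723cce2b6c35a29350820)
noncomputable def g3_5_11s16 : ℕ := (nat_lit 0xb9944a31d5694e85c2d27a63318820)
noncomputable def g3_5_11s17 : ℕ := (nat_lit 0xba613220aa3c5f25d4cc6d9d418820)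
noncomputable def g3_5_11s18 : ℕ := (nat_lit 0xba1474922b3398d85676a3cb218820)
noncomputable def g3_5_11s19 : ℕ := (nat_lit 0xb9e545b4a64c6b023d56431d318820)
noncomputable def g3_5_11s20 : ℕ := (nat_lit 0xba1b4255cc516469a5e7b422b18820)
noncomputable def g3_5_11s21 : ℕ := (nat_lit 0xbc12ba18ad946c79b11553dc418820)
noncomputable def g3_5_11s22 : ℕ := (nat_lit 0xbb5135bdd63160aa1ea964a2418820)
noncomputable def g3_5_11s23 : ℕ := (nat_lit 0xbd6cb22627638cfa224a834b318820)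
noncomputable def g3_5_11s24 : ℕ := (nat_lit 0xb926faa22da3a0b6255231cb618820)
noncomputable def g3_5_11s25 : ℕ := (nat_lit 0xb9da32494673eac5c4a8b4133a0820)
noncomputable def g3_5_11s26 : ℕ := (nat_lit 0xbd8948ca636a9e2438eb498b583020)
noncomputable def g3_5_11s27 : ℕ := (nat_lit 0xbdaa77b9909c8514292ba18612b480)
noncomputable def g3_5_11s28 : ℕ := (nat_lit 0xbc8145da217a5a29a9c8390662b215)
noncomputable def g3_5_11S : Tr ℕ := (.node (nat_lit 14) (.node (nat_lit 7) (.node (nat_lit 3) (.node (nat_lit 1) (.leaf g3_5_11s0) (.node (nat_lit 2) (.leaf g3_5_11s1) (.leaf g3_5_11s2)))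
 (.node (nat_lit 5) (.node (nat_lit 4) (.leaf g3_5_11s3) (.leaf g3_5_11s4)) (.node (nat_lit 6) (.leaf g3_5_11s5) (.leaf g3_5_11s6))))
 (.node (nat_lit 10) (.node (nat_lit 8) (.leaf g3_5_11s7) (.node (nat_lit 9) (.leaf g3_5_11s8) (.leaf g3_5_11s9)))
 (.node (nat_lit 12) (.node (nat_lit 11) (.leaf g3_5_11s10) (.leaf g3_5_11s11)) (.node (nat_lit 13) (.leaf g3_5_11s12) (.leaf g3_5_11s13)))))
 (.node (nat_lit 21) (.node (nat_lit 17) (.node (nat_lit 15) (.leaf g3_5_11s14) (.node (nat_lit 16) (.leaf g3_5_11s15) (.leaf g3_5_11s16)))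
 (.node (nat_lit 19) (.node (nat_lit 18) (.leaf g3_5_11s17) (.leaf g3_5_11s18)) (.node (nat_lit 20) (.leaf g3_5_11s19) (.leaf g3_5_11s20))))
 (.node (nat_lit 25) (.node (nat_lit 23) (.node (nat_lit 22) (.leaf g3_5_11s21) (.leaf g3_5_11s22)) (.node (nat_lit 24) (.leaf g3_5_11s23) (.leaf g3_5_11s24)))
 (.node (nat_lit 27) (.node (nat_lit 26) (.leaf g3_5_11s25) (.leaf g3_5_11s26)) (.node (nat_lit 28) (.leaf g3_5_11s27) (.leaf g3_5_11s28))))))
noncomputable def g3_5_11D : Tr (List ℕ) := (.node (nat_lit 14) (.node (nat_lit 7) (.node (nat_lit 3) (.node (nat_lit 1) (.leaf []) (.node (nat_lit 2) (.leaf []) (.leaf [nat_lit 0, nat_lit 0])))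
 (.node (nat_lit 5) (.node (nat_lit 4) (.leaf [nat_lit 1, nat_lit 1, nat_lit 1, nat_lit 1]) (.leaf [nat_lit 1, nat_lit 1, nat_lit 2, nat_lit 3, nat_lit 2, nat_lit 3, nat_lit 2, nat_lit 2, nat_lit 1])) (.node (nat_lit 6) (.leaf [nat_lit 3, nat_lit 0, nat_lit 0, nat_lit 1, nat_lit 0, nat_lit 1, nat_lit 0, nat_lit 3, nat_lit 3]) (.leaf [nat_lit 3, nat_lit 2, nat_lit 1, nat_lit 1, nat_lit 0, nat_lit 1, nat_lit 1, nat_lit 0, nat_lit 0, nat_lit 3, nat_lit 2]))))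
 (.node (nat_lit 10) (.node (nat_lit 8) (.leaf [nat_lit 0, nat_lit 1, nat_lit 2, nat_lit 2, nat_lit 3, nat_lit 3, nat_lit 2, nat_lit 3, nat_lit 3, nat_lit 0, nat_lit 1]) (.node (nat_lit 9) (.leaf [nat_lit 7, nat_lit 5, nat_lit 6, nat_lit 6, nat_lit 4, nat_lit 7]) (.leaf [nat_lit 6, nat_lit 5, nat_lit 7, nat_lit 7, nat_lit 4, nat_lit 6])))
 (.node (nat_lit 12) (.node (nat_lit 11) (.leaf [nat_lit 4, nat_lit 7, nat_lit 5, nat_lit 6, nat_lit 6]) (.leaf [nat_lit 7, nat_lit 7, nat_lit 4, nat_lit 6, nat_lit 5])) (.node (nat_lit 13) (.leaf [nat_lit 8, nat_lit 8, nat_lit 10, nat_lit 9, nat_lit 11, nat_lit 8]) (.leaf [nat_lit 9, nat_lit 10, nat_lit 8, nat_lit 11, nat_lit 9, nat_lit 9])))))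
 (.node (nat_lit 21) (.node (nat_lit 17) (.node (nat_lit 15) (.leaf [nat_lit 9, nat_lit 9, nat_lit 11, nat_lit 11]) (.node (nat_lit 16) (.leaf [nat_lit 10, nat_lit 10, nat_lit 8, nat_lit 8]) (.leaf [nat_lit 13, nat_lit 15])))
 (.node (nat_lit 19) (.node (nat_lit 18) (.leaf [nat_lit 14, nat_lit 12]) (.leaf [nat_lit 13, nat_lit 14, nat_lit 12, nat_lit 12, nat_lit 12, nat_lit 14, nat_lit 13, nat_lit 14, nat_lit 12, nat_lit 15])) (.node (nat_lit 20) (.leaf [nat_lit 13, nat_lit 14, nat_lit 12, nat_lit 12, nat_lit 14, nat_lit 13, nat_lit 15, nat_lit 12, nat_lit 15, nat_lit 13, nat_lit 13]) (.leaf [nat_lit 19, nat_lit 19]))))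
 (.node (nat_lit 25) (.node (nat_lit 23) (.node (nat_lit 22) (.leaf [nat_lit 19, nat_lit 19, nat_lit 17, nat_lit 17]) (.leaf [nat_lit 16, nat_lit 16, nat_lit 20, nat_lit 20])) (.node (nat_lit 24) (.leaf [nat_lit 16, nat_lit 21]) (.leaf [nat_lit 20, nat_lit 18, nat_lit 17])))
 (.node (nat_lit 27) (.node (nat_lit 26) (.leaf [nat_lit 13, nat_lit 16, nat_lit 13, nat_lit 18, nat_lit 20]) (.leaf [nat_lit 19, nat_lit 8, nat_lit 16, nat_lit 12, nat_lit 21])) (.node (nat_lit 28) (.leaf [nat_lit 10, nat_lit 4, nat_lit 19, nat_lit 9, nat_lit 20, nat_lit 12, nat_lit 18, nat_lit 20, nat_lit 21]) (.leaf [nat_lit 1, nat_lit 9, nat_lit 5, nat_lit 14, nat_lit 9, nat_lit 16, nat_lit 13, nat_lit 18, nat_lit 17, nat_lit 21]))))))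
theorem g3_5_11slp : slpChk 24 (nat_lit 5) (nat_lit 31) g3_5_11S g3_5_11D 2 27 = true := by decide +kernel
theorem g3_5_11 : PQR M23.P 3 5 11 := pos (S := g3_5_11S) [nat_lit 3, nat_lit 1, nat_lit 2, nat_lit 6, nat_lit 5, nat_lit 2, nat_lit 5, nat_lit 4, nat_lit 1, nat_lit 3, nat_lit 2] [nat_lit 7, nat_lit 2, nat_lit 6, nat_lit 4, nat_lit 3, nat_lit 1, nat_lit 5, nat_lit 0, nat_lit 3, nat_lit 4, nat_lit 2, nat_lit 0] g3_5_11slp (by decide +kernel)
noncomputable def g3_5_23s0 : ℕ := (nat_lit 0xbd9549a22431db09046b115ec03aa9)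
noncomputable def g3_5_23s1 : ℕ := (nat_lit 0xbcc641214f72cf50953161a566d200)
noncomputable def g3_5_23s2 : ℕ := (nat_lit 0xbd8349ae2c289a44541273cd049d43)
noncomputable def g3_5_23s3 : ℕ := (nat_lit 0xb9182b150183c677453269954acd60)
noncomputable def g3_5_23s4 : ℕ := (nat_lit 0xbc853a2229aa825b39ab6188778e00)
noncomputable def g3_5_23s5 : ℕ := (nat_lit 0xbadf3a5a211a92743a1221985155a0)
noncomputable def g3_5_23s6 : ℕ := (nat_lit 0xb84a898949b3c74255b172d9031e40)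
noncomputable def g3_5_23s7 : ℕ := (nat_lit 0xbbd4c9850471d253461410eab6cac0)
noncomputable def g3_5_23s8 : ℕ := (nat_lit 0xbce893a1ea254ab944c26bad01b020)
noncomputable def g3_5_23s9 : ℕ := (nat_lit 0xb95d5b2d44898e2642929a5af1a020)
noncomputable def g3_5_23s10 : ℕ := (nat_lit 0xbc56429a93b3a4a44043aa58f3b420)
noncomputable def g3_5_23s11 : ℕ := (nat_lit 0xbbcf1836ca23845ab0cb1ca7442420)
noncomputable def g3_5_23s12 : ℕ := (nat_lit 0xb95365190e6b075392137d25158820)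
noncomputable def g3_5_23s13 : ℕ := (nat_lit 0xbd186414893c1ee1ceb15caca68820)
noncomputable def g3_5_23s14 : ℕ := (nat_lit 0xbd8ec98e8d5a4912c90e355f050820)
noncomputable def g3_5_23s15 : ℕ := (nat_lit 0xbd8d19a9842a21478dc9a9d6d90820)
noncomputable def g3_5_23s16 : ℕ := (nat_lit 0xb926faa22da3a0b6255231cb618820)
noncomputable def g3_5_23s17 : ℕ := (nat_lit 0xbc255651c4395a979a6a5a23618820)
noncomputable def g3_5_23s18 : ℕ := (nat_lit 0xb92924d4b65c5b33a1867a9d018820)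
noncomputable def g3_5_23s19 : ℕ := (nat_lit 0xba91094e346b9e63d8955b0a918820)
noncomputable def g3_5_23s20 : ℕ := (nat_lit 0xbb5135bdd63160aa1ea964a2418820)
noncomputable def g3_5_23s21 : ℕ := (nat_lit 0xbc12ba18ad946c79b11553dc418820)
noncomputable def g3_5_23s22 : ℕ := (nat_lit 0xbd6cb22627638cfa224a834b318820)
noncomputable def g3_5_23s23 : ℕ := (nat_lit 0xb9da32494673eac5c4a8b4133a0820)
noncomputable def g3_5_23s24 : ℕ := (nat_lit 0xbd8948ca636a9e2438eb498b583020)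
noncomputable def g3_5_23s25 : ℕ := (nat_lit 0xbdaa77b9909c8514292ba18612b480)
noncomputable def g3_5_23s26 : ℕ := (nat_lit 0xbc8145da217a5a29a9c8390662b215)
noncomputable def g3_5_23S : Tr ℕ := (.node (nat_lit 13) (.node (nat_lit 6) (.node (nat_lit 3) (.node (nat_lit 1) (.leaf g3_5_23s0) (.node (nat_lit 2) (.leaf g3_5_23s1) (.leaf g3_5_23s2))) (.node (nat_lit 4) (.leaf g3_5_23s3) (.node (nat_lit 5) (.leaf g3_5_23s4) (.leaf g3_5_23s5))))
 (.node (nat_lit 9) (.node (nat_lit 7) (.leaf g3_5_23s6) (.node (nat_lit 8) (.leaf g3_5_23s7) (.leaf g3_5_23s8)))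
 (.node (nat_lit 11) (.node (nat_lit 10) (.leaf g3_5_23s9) (.leaf g3_5_23s10)) (.node (nat_lit 12) (.leaf g3_5_23s11) (.leaf g3_5_23s12)))))
 (.node (nat_lit 20) (.node (nat_lit 16) (.node (nat_lit 14) (.leaf g3_5_23s13) (.node (nat_lit 15) (.leaf g3_5_23s14) (.leaf g3_5_23s15)))
 (.node (nat_lit 18) (.node (nat_lit 17) (.leaf g3_5_23s16) (.leaf g3_5_23s17)) (.node (nat_lit 19) (.leaf g3_5_23s18) (.leaf g3_5_23s19))))
 (.node (nat_lit 23) (.node (nat_lit 21) (.leaf g3_5_23s20) (.node (nat_lit 22) (.leaf g3_5_23s21) (.leaf g3_5_23s22)))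
 (.node (nat_lit 25) (.node (nat_lit 24) (.leaf g3_5_23s23) (.leaf g3_5_23s24)) (.node (nat_lit 26) (.leaf g3_5_23s25) (.leaf g3_5_23s26))))))
noncomputable def g3_5_23D : Tr (List ℕ) := (.node (nat_lit 13) (.node (nat_lit 6) (.node (nat_lit 3) (.node (nat_lit 1) (.leaf []) (.node (nat_lit 2) (.leaf []) (.leaf [nat_lit 0, nat_lit 0]))) (.node (nat_lit 4) (.leaf [nat_lit 1, nat_lit 1, nat_lit 1, nat_lit 1]) (.node (nat_lit 5) (.leaf [nat_lit 0, nat_lit 1, nat_lit 0, nat_lit 3, nat_lit 0, nat_lit 3, nat_lit 3, nat_lit 2]) (.leaf [nat_lit 0, nat_lit 1, nat_lit 1, nat_lit 2, nat_lit 1, nat_lit 2, nat_lit 3, nat_lit 2]))))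
 (.node (nat_lit 9) (.node (nat_lit 7) (.leaf [nat_lit 2, nat_lit 1, nat_lit 0, nat_lit 3]) (.node (nat_lit 8) (.leaf [nat_lit 1, nat_lit 2, nat_lit 3, nat_lit 0]) (.leaf [nat_lit 6, nat_lit 6, nat_lit 5, nat_lit 6, nat_lit 4, nat_lit 7, nat_lit 7, nat_lit 7])))
 (.node (nat_lit 11) (.node (nat_lit 10) (.leaf [nat_lit 6, nat_lit 6, nat_lit 6, nat_lit 5, nat_lit 7, nat_lit 4, nat_lit 7, nat_lit 7]) (.leaf [nat_lit 4, nat_lit 7, nat_lit 5, nat_lit 7, nat_lit 7])) (.node (nat_lit 12) (.leaf [nat_lit 6, nat_lit 6, nat_lit 4, nat_lit 6, nat_lit 5]) (.leaf [nat_lit 9, nat_lit 10, nat_lit 8, nat_lit 10])))))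
 (.node (nat_lit 20) (.node (nat_lit 16) (.node (nat_lit 14) (.leaf [nat_lit 11, nat_lit 9, nat_lit 11, nat_lit 8]) (.node (nat_lit 15) (.leaf [nat_lit 10, nat_lit 9, nat_lit 11, nat_lit 11]) (.leaf [nat_lit 10, nat_lit 10, nat_lit 8, nat_lit 11])))
 (.node (nat_lit 18) (.node (nat_lit 17) (.leaf [nat_lit 12, nat_lit 14, nat_lit 12, nat_lit 12, nat_lit 14, nat_lit 12, nat_lit 15]) (.leaf [nat_lit 13, nat_lit 15, nat_lit 12, nat_lit 14, nat_lit 14, nat_lit 13, nat_lit 14, nat_lit 12])) (.node (nat_lit 19) (.leaf [nat_lit 13, nat_lit 15, nat_lit 12, nat_lit 15, nat_lit 15, nat_lit 13, nat_lit 14, nat_lit 12]) (.leaf [nat_lit 13, nat_lit 13, nat_lit 14, nat_lit 14, nat_lit 12, nat_lit 12, nat_lit 15, nat_lit 13, nat_lit 15, nat_lit 12, nat_lit 14]))))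
 (.node (nat_lit 23) (.node (nat_lit 21) (.leaf [nat_lit 19, nat_lit 16, nat_lit 19, nat_lit 17]) (.node (nat_lit 22) (.leaf [nat_lit 18, nat_lit 19, nat_lit 16, nat_lit 19]) (.leaf [nat_lit 17, nat_lit 19, nat_lit 21])))
 (.node (nat_lit 25) (.node (nat_lit 24) (.leaf [nat_lit 20, nat_lit 12, nat_lit 17, nat_lit 19, nat_lit 16]) (.leaf [nat_lit 8, nat_lit 14, nat_lit 13, nat_lit 17, nat_lit 19, nat_lit 20])) (.node (nat_lit 26) (.leaf [nat_lit 14, nat_lit 5, nat_lit 11, nat_lit 12, nat_lit 14, nat_lit 13, nat_lit 18]) (.leaf [nat_lit 3, nat_lit 2, nat_lit 21, nat_lit 6, nat_lit 20, nat_lit 13, nat_lit 19, nat_lit 20]))))))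
theorem g3_5_23slp : slpChk 24 (nat_lit 5) (nat_lit 31) g3_5_23S g3_5_23D 2 25 = true := by decide +kernel
theorem g3_5_23 : PQR M23.P 3 5 23 := pos (S := g3_5_23S) [nat_lit 0, nat_lit 7, nat_lit 1, nat_lit 5, nat_lit 6, nat_lit 2, nat_lit 0, nat_lit 5, nat_lit 4, nat_lit 0, nat_lit 3, nat_lit 0, nat_lit 2, nat_lit 1] [nat_lit 0, nat_lit 3, nat_lit 6, nat_lit 0, nat_lit 2, nat_lit 1, nat_lit 5, nat_lit 3, nat_lit 0, nat_lit 4, nat_lit 0, nat_lit 3, nat_lit 0, nat_lit 2, nat_lit 0] g3_5_23slp (by decide +kernel)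
noncomputable def g3_7_7s0 : ℕ := (nat_lit 0xbb4e5919e01d0555a92864dd08d824)
noncomputable def g3_7_7s1 : ℕ := (nat_lit 0xb84ec34a16720afaac0d146849a46a)
noncomputable def g3_7_7s2 : ℕ := (nat_lit 0xb898e34c64896c75a928aca807b430)
noncomputable def g3_7_7s3 : ℕ := (nat_lit 0xbc1651c8d163d145004eacda409ec9)
noncomputable def g3_7_7s4 : ℕ := (nat_lit 0xb92ac71a53141a85d8b47c42a19d20)
noncomputable def g3_7_7s5 : ℕ := (nat_lit 0xbaaa8844ce3cdb45902c149361bca0)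
noncomputable def g3_7_7s6 : ℕ := (nat_lit 0xba196998e90d2ab541a573e2391040)
noncomputable def g3_7_7s7 : ℕ := (nat_lit 0xbd1ae98caa31d3562e168c902205e0)
noncomputable def g3_7_7s8 : ℕ := (nat_lit 0xba5e6b457054ce22b50eab092a0c20)
noncomputable def g3_7_7s9 : ℕ := (nat_lit 0xbcce371250aa1468bec96d16513020)
noncomputable def g3_7_7s10 : ℕ := (nat_lit 0xbd6766b1c8396862296993c7014420)
noncomputable def g3_7_7s11 : ℕ := (nat_lit 0xbd2cda9c44346724a9107b1cb28c20)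
noncomputable def g3_7_7s12 : ℕ := (nat_lit 0xbd574940734b8edb3d446222628820)
noncomputable def g3_7_7s13 : ℕ := (nat_lit 0xbaed484cb253987aa5e66906888820)
noncomputable def g3_7_7s14 : ℕ := (nat_lit 0xbbe36730ea69a924120b28ea998820)
noncomputable def g3_7_7s15 : ℕ := (nat_lit 0xbd0ad1b2a9b4df24408b8b8ea30820)
noncomputable def g3_7_7s16 : ℕ := (nat_lit 0xbd58a410b37c4f66a6905c9c618820)
noncomputable def g3_7_7s17 : ℕ := (nat_lit 0xbb2c9819c8795753d1536923218820)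
noncomputable def g3_7_7s18 : ℕ := (nat_lit 0xb92924d4b65c5b33a1867a9d018820)
noncomputable def g3_7_7s19 : ℕ := (nat_lit 0xbc255651c4395a979a6a5a23618820)
noncomputable def g3_7_7s20 : ℕ := (nat_lit 0xba64d4562f83a87312d362caa18820)
noncomputable def g3_7_7s21 : ℕ := (nat_lit 0xbb5135bdd63160aa1ea964a2418820)
noncomputable def g3_7_7s22 : ℕ := (nat_lit 0xbc12ba18ad946c79b11553dc418820)
noncomputable def g3_7_7s23 : ℕ := (nat_lit 0xbd6cb22627638cfa224a834b318820)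
noncomputable def g3_7_7s24 : ℕ := (nat_lit 0xb926faa22da3a0b6255231cb618820)
noncomputable def g3_7_7s25 : ℕ := (nat_lit 0xb9da32494673eac5c4a8b4133a0820)
noncomputable def g3_7_7s26 : ℕ := (nat_lit 0xbd8948ca636a9e2438eb498b583020)
noncomputable def g3_7_7s27 : ℕ := (nat_lit 0xbdaa77b9909c8514292ba18612b480)
noncomputable def g3_7_7s28 : ℕ := (nat_lit 0xbc8145da217a5a29a9c8390662b215)
noncomputable def g3_7_7S : Tr ℕ := (.node (nat_lit 14) (.node (nat_lit 7) (.node (nat_lit 3) (.node (nat_lit 1) (.leaf g3_7_7s0) (.node (nat_lit 2) (.leaf g3_7_7s1) (.leaf g3_7_7s2)))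
 (.node (nat_lit 5) (.node (nat_lit 4) (.leaf g3_7_7s3) (.leaf g3_7_7s4)) (.node (nat_lit 6) (.leaf g3_7_7s5) (.leaf g3_7_7s6))))
 (.node (nat_lit 10) (.node (nat_lit 8) (.leaf g3_7_7s7) (.node (nat_lit 9) (.leaf g3_7_7s8) (.leaf g3_7_7s9)))
 (.node (nat_lit 12) (.node (nat_lit 11) (.leaf g3_7_7s10) (.leaf g3_7_7s11)) (.node (nat_lit 13) (.leaf g3_7_7s12) (.leaf g3_7_7s13)))))
 (.node (nat_lit 21) (.node (nat_lit 17) (.node (nat_lit 15) (.leaf g3_7_7s14) (.node (nat_lit 16) (.leaf g3_7_7s15) (.leaf g3_7_7s16)))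
 (.node (nat_lit 19) (.node (nat_lit 18) (.leaf g3_7_7s17) (.leaf g3_7_7s18)) (.node (nat_lit 20) (.leaf g3_7_7s19) (.leaf g3_7_7s20))))
 (.node (nat_lit 25) (.node (nat_lit 23) (.node (nat_lit 22) (.leaf g3_7_7s21) (.leaf g3_7_7s22)) (.node (nat_lit 24) (.leaf g3_7_7s23) (.leaf g3_7_7s24)))
 (.node (nat_lit 27) (.node (nat_lit 26) (.leaf g3_7_7s25) (.leaf g3_7_7s26)) (.node (nat_lit 28) (.leaf g3_7_7s27) (.leaf g3_7_7s28))))))
noncomputable def g3_7_7D : Tr (List ℕ) := (.node (nat_lit 14) (.node (nat_lit 7) (.node (nat_lit 3) (.node (nat_lit 1) (.leaf []) (.node (nat_lit 2) (.leaf []) (.leaf [nat_lit 0, nat_lit 0])))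
 (.node (nat_lit 5) (.node (nat_lit 4) (.leaf [nat_lit 1, nat_lit 1, nat_lit 1, nat_lit 1, nat_lit 1, nat_lit 1]) (.leaf [nat_lit 1, nat_lit 2, nat_lit 3])) (.node (nat_lit 6) (.leaf [nat_lit 1, nat_lit 0, nat_lit 3]) (.leaf [nat_lit 2, nat_lit 3, nat_lit 2, nat_lit 2]))))
 (.node (nat_lit 10) (.node (nat_lit 8) (.leaf [nat_lit 0, nat_lit 0, nat_lit 1, nat_lit 0]) (.node (nat_lit 9) (.leaf [nat_lit 4, nat_lit 7, nat_lit 5, nat_lit 7, nat_lit 7, nat_lit 7]) (.leaf [nat_lit 6, nat_lit 6, nat_lit 6, nat_lit 4, nat_lit 6, nat_lit 5])))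
 (.node (nat_lit 12) (.node (nat_lit 11) (.leaf [nat_lit 4, nat_lit 6, nat_lit 6, nat_lit 5, nat_lit 6, nat_lit 6]) (.leaf [nat_lit 7, nat_lit 7, nat_lit 4, nat_lit 7, nat_lit 7, nat_lit 5])) (.node (nat_lit 13) (.leaf [nat_lit 8, nat_lit 8, nat_lit 10, nat_lit 9]) (.leaf [nat_lit 8, nat_lit 11, nat_lit 9, nat_lit 9])))))
 (.node (nat_lit 21) (.node (nat_lit 17) (.node (nat_lit 15) (.leaf [nat_lit 9, nat_lit 10, nat_lit 8, nat_lit 8, nat_lit 10]) (.node (nat_lit 16) (.leaf [nat_lit 11, nat_lit 9, nat_lit 9, nat_lit 11, nat_lit 8]) (.leaf [nat_lit 14, nat_lit 14, nat_lit 12, nat_lit 15, nat_lit 13, nat_lit 13, nat_lit 13, nat_lit 15])))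
 (.node (nat_lit 19) (.node (nat_lit 18) (.leaf [nat_lit 14, nat_lit 12, nat_lit 12, nat_lit 12, nat_lit 14, nat_lit 13, nat_lit 15, nat_lit 15]) (.leaf [nat_lit 12, nat_lit 14, nat_lit 12, nat_lit 15, nat_lit 15, nat_lit 15, nat_lit 15, nat_lit 13, nat_lit 13, nat_lit 14, nat_lit 12, nat_lit 14, nat_lit 14, nat_lit 14])) (.node (nat_lit 20) (.leaf [nat_lit 18, nat_lit 18]) (.leaf [nat_lit 14, nat_lit 12, nat_lit 15, nat_lit 12, nat_lit 14, nat_lit 13, nat_lit 14, nat_lit 12]))))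
 (.node (nat_lit 25) (.node (nat_lit 23) (.node (nat_lit 22) (.leaf [nat_lit 16, nat_lit 18, nat_lit 16, nat_lit 20, nat_lit 19]) (.leaf [nat_lit 18, nat_lit 20, nat_lit 17, nat_lit 19, nat_lit 17])) (.node (nat_lit 24) (.leaf [nat_lit 16, nat_lit 18, nat_lit 22]) (.leaf [nat_lit 19, nat_lit 22])))
 (.node (nat_lit 27) (.node (nat_lit 26) (.leaf [nat_lit 22, nat_lit 14, nat_lit 19, nat_lit 16]) (.leaf [nat_lit 9, nat_lit 17, nat_lit 14, nat_lit 19, nat_lit 21])) (.node (nat_lit 28) (.leaf [nat_lit 8, nat_lit 5, nat_lit 16, nat_lit 9, nat_lit 15, nat_lit 13, nat_lit 19, nat_lit 17, nat_lit 22]) (.leaf [nat_lit 21, nat_lit 3, nat_lit 5, nat_lit 22, nat_lit 9, nat_lit 17, nat_lit 15, nat_lit 13, nat_lit 18, nat_lit 17]))))))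
theorem g3_7_7slp : slpChk 24 (nat_lit 5) (nat_lit 31) g3_7_7S g3_7_7D 2 27 = true := by decide +kernel
theorem g3_7_7 : PQR M23.P 3 7 7 := pos (S := g3_7_7S) [nat_lit 5, nat_lit 7, nat_lit 0, nat_lit 3, nat_lit 6, nat_lit 0, nat_lit 5, nat_lit 1, nat_lit 3, nat_lit 1, nat_lit 4, nat_lit 0, nat_lit 3, nat_lit 2, nat_lit 0] [nat_lit 2, nat_lit 1, nat_lit 7, nat_lit 0, nat_lit 5, nat_lit 2, nat_lit 6, nat_lit 4, nat_lit 0, nat_lit 5, nat_lit 1, nat_lit 4, nat_lit 1, nat_lit 3, nat_lit 1, nat_lit 2, nat_lit 0] g3_7_7slp (by decide +kernel)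
noncomputable def g3_7_11s0 : ℕ := (nat_lit 0xbcd943347102d053bd3275aa48082a)
noncomputable def g3_7_11s1 : ℕ := (nat_lit 0xb953280051239a37ccf55d0c8532c1)
noncomputable def g3_7_11s2 : ℕ := (nat_lit 0xb98b4b220351e557012d5cd848882f)
noncomputable def g3_7_11s3 : ℕ := (nat_lit 0xb8506552135b9a238ea4496cf64412)
noncomputable def g3_7_11s4 : ℕ := (nat_lit 0xba2ad80e2c79c93915c2498345d940)
noncomputable def g3_7_11s5 : ℕ := (nat_lit 0xb8aa462e337a690184f67194d920a0)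
noncomputable def g3_7_11s6 : ℕ := (nat_lit 0xbb6695c5952a9e23ba1208ec641280)
noncomputable def g3_7_11s7 : ℕ := (nat_lit 0xb9601aa2496aad19ba83591e2330e0)
noncomputable def g3_7_11s8 : ℕ := (nat_lit 0xbc46a62d0d1124e85126ad8f32bc20)
noncomputable def g3_7_11s9 : ℕ := (nat_lit 0xb98ea236cb13213951312a06eabc20)
noncomputable def g3_7_11s10 : ℕ := (nat_lit 0xba462651c5391b044cd1b3d4b95420)
noncomputable def g3_7_11s11 : ℕ := (nat_lit 0xb9c5250d0c345b3216cb7a60ead020)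
noncomputable def g3_7_11s12 : ℕ := (nat_lit 0xb906929a50a22d3aa9e77458d58820)
noncomputable def g3_7_11s13 : ℕ := (nat_lit 0xbb56f644d049c851aa8e44a76a8820)
noncomputable def g3_7_11s14 : ℕ := (nat_lit 0xbd57640d476d0c571211931f348820)
noncomputable def g3_7_11s15 : ℕ := (nat_lit 0xbd2ce21d092ade6ac4738358a90820)
noncomputable def g3_7_11s16 : ℕ := (nat_lit 0xba8cb9d9cf4152d24990a9e3418820)
noncomputable def g3_7_11s17 : ℕ := (nat_lit 0xbc8e49a8a884589a59af355cb18820)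
noncomputable def g3_7_11s18 : ℕ := (nat_lit 0xbbeb23b5ca6169682d0434e2918820)
noncomputable def g3_7_11s19 : ℕ := (nat_lit 0xbb2ad350abb464f5408999dc818820)
noncomputable def g3_7_11s20 : ℕ := (nat_lit 0xb92924d4b65c5b33a1867a9d018820)
noncomputable def g3_7_11s21 : ℕ := (nat_lit 0xbc255651c4395a979a6a5a23618820)
noncomputable def g3_7_11s22 : ℕ := (nat_lit 0xbc12ba18ad946c79b11553dc418820)
noncomputable def g3_7_11s23 : ℕ := (nat_lit 0xbb5135bdd63160aa1ea964a2418820)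
noncomputable def g3_7_11s24 : ℕ := (nat_lit 0xbd6cb22627638cfa224a834b318820)
noncomputable def g3_7_11s25 : ℕ := (nat_lit 0xb926faa22da3a0b6255231cb618820)
noncomputable def g3_7_11s26 : ℕ := (nat_lit 0xb9da32494673eac5c4a8b4133a0820)
noncomputable def g3_7_11s27 : ℕ := (nat_lit 0xbd8948ca636a9e2438eb498b583020)
noncomputable def g3_7_11s28 : ℕ := (nat_lit 0xbdaa77b9909c8514292ba18612b480)
noncomputable def g3_7_11s29 : ℕ := (nat_lit 0xbc8145da217a5a29a9c8390662b215)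
noncomputable def g3_7_11S : Tr ℕ := (.node (nat_lit 15) (.node (nat_lit 7) (.node (nat_lit 3) (.node (nat_lit 1) (.leaf g3_7_11s0) (.node (nat_lit 2) (.leaf g3_7_11s1) (.leaf g3_7_11s2)))
 (.node (nat_lit 5) (.node (nat_lit 4) (.leaf g3_7_11s3) (.leaf g3_7_11s4)) (.node (nat_lit 6) (.leaf g3_7_11s5) (.leaf g3_7_11s6))))
 (.node (nat_lit 11) (.node (nat_lit 9) (.node (nat_lit 8) (.leaf g3_7_11s7) (.leaf g3_7_11s8)) (.node (nat_lit 10) (.leaf g3_7_11s9) (.leaf g3_7_11s10)))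
 (.node (nat_lit 13) (.node (nat_lit 12) (.leaf g3_7_11s11) (.leaf g3_7_11s12)) (.node (nat_lit 14) (.leaf g3_7_11s13) (.leaf g3_7_11s14)))))
 (.node (nat_lit 22) (.node (nat_lit 18) (.node (nat_lit 16) (.leaf g3_7_11s15) (.node (nat_lit 17) (.leaf g3_7_11s16) (.leaf g3_7_11s17)))
 (.node (nat_lit 20) (.node (nat_lit 19) (.leaf g3_7_11s18) (.leaf g3_7_11s19)) (.node (nat_lit 21) (.leaf g3_7_11s20) (.leaf g3_7_11s21))))
 (.node (nat_lit 26) (.node (nat_lit 24) (.node (nat_lit 23) (.leaf g3_7_11s22) (.leaf g3_7_11s23)) (.node (nat_lit 25) (.leaf g3_7_11s24) (.leaf g3_7_11s25)))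
 (.node (nat_lit 28) (.node (nat_lit 27) (.leaf g3_7_11s26) (.leaf g3_7_11s27)) (.node (nat_lit 29) (.leaf g3_7_11s28) (.leaf g3_7_11s29))))))
noncomputable def g3_7_11D : Tr (List ℕ) := (.node (nat_lit 15) (.node (nat_lit 7) (.node (nat_lit 3) (.node (nat_lit 1) (.leaf []) (.node (nat_lit 2) (.leaf []) (.leaf [nat_lit 0, nat_lit 0])))
 (.node (nat_lit 5) (.node (nat_lit 4) (.leaf [nat_lit 1, nat_lit 1, nat_lit 1, nat_lit 1, nat_lit 1, nat_lit 1]) (.leaf [nat_lit 3, nat_lit 0, nat_lit 1])) (.node (nat_lit 6) (.leaf [nat_lit 3, nat_lit 2, nat_lit 1]) (.leaf [nat_lit 2, nat_lit 1, nat_lit 0, nat_lit 1, nat_lit 0, nat_lit 3, nat_lit 0]))))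
 (.node (nat_lit 11) (.node (nat_lit 9) (.node (nat_lit 8) (.leaf [nat_lit 2, nat_lit 1, nat_lit 2, nat_lit 3, nat_lit 2, nat_lit 3, nat_lit 0]) (.leaf [nat_lit 5, nat_lit 6, nat_lit 6, nat_lit 4])) (.node (nat_lit 10) (.leaf [nat_lit 5, nat_lit 7, nat_lit 7, nat_lit 4]) (.leaf [nat_lit 5, nat_lit 6, nat_lit 5, nat_lit 7])))
 (.node (nat_lit 13) (.node (nat_lit 12) (.leaf [nat_lit 6, nat_lit 4, nat_lit 7, nat_lit 4]) (.leaf [nat_lit 10, nat_lit 8, nat_lit 11, nat_lit 8, nat_lit 11, nat_lit 11, nat_lit 9, nat_lit 11, nat_lit 8])) (.node (nat_lit 14) (.leaf [nat_lit 9, nat_lit 10, nat_lit 8, nat_lit 10, nat_lit 10, nat_lit 9, nat_lit 10, nat_lit 9, nat_lit 11]) (.leaf [nat_lit 8, nat_lit 11, nat_lit 9, nat_lit 10, nat_lit 8, nat_lit 8])))))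
 (.node (nat_lit 22) (.node (nat_lit 18) (.node (nat_lit 16) (.leaf [nat_lit 9, nat_lit 9, nat_lit 11, nat_lit 8, nat_lit 10, nat_lit 9]) (.node (nat_lit 17) (.leaf [nat_lit 12, nat_lit 15, nat_lit 13, nat_lit 13]) (.leaf [nat_lit 12, nat_lit 12, nat_lit 14, nat_lit 13])))
 (.node (nat_lit 20) (.node (nat_lit 19) (.leaf [nat_lit 14, nat_lit 14, nat_lit 13, nat_lit 14, nat_lit 12]) (.leaf [nat_lit 13, nat_lit 15, nat_lit 12, nat_lit 15, nat_lit 15])) (.node (nat_lit 21) (.leaf [nat_lit 14, nat_lit 12, nat_lit 15, nat_lit 13, nat_lit 14, nat_lit 13, nat_lit 15]) (.leaf [nat_lit 14, nat_lit 12, nat_lit 15, nat_lit 12, nat_lit 14, nat_lit 13, nat_lit 15]))))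
 (.node (nat_lit 26) (.node (nat_lit 24) (.node (nat_lit 23) (.leaf [nat_lit 16, nat_lit 18, nat_lit 18, nat_lit 20]) (.leaf [nat_lit 21, nat_lit 19, nat_lit 19, nat_lit 17])) (.node (nat_lit 25) (.leaf [nat_lit 22, nat_lit 17, nat_lit 22]) (.leaf [nat_lit 21, nat_lit 22])))
 (.node (nat_lit 28) (.node (nat_lit 27) (.leaf [nat_lit 20, nat_lit 13, nat_lit 22, nat_lit 17, nat_lit 22]) (.leaf [nat_lit 18, nat_lit 9, nat_lit 18, nat_lit 12, nat_lit 21, nat_lit 16])) (.node (nat_lit 29) (.leaf [nat_lit 14, nat_lit 4, nat_lit 9, nat_lit 18, nat_lit 15, nat_lit 19]) (.leaf [nat_lit 20, nat_lit 3, nat_lit 20, nat_lit 4, nat_lit 12, nat_lit 10, nat_lit 13, nat_lit 15, nat_lit 18, nat_lit 23]))))))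
theorem g3_7_11slp : slpChk 24 (nat_lit 5) (nat_lit 31) g3_7_11S g3_7_11D 2 28 = true := by decide +kernel
theorem g3_7_11 : PQR M23.P 3 7 11 := pos (S := g3_7_11S) [nat_lit 2, nat_lit 1, nat_lit 7, nat_lit 0, nat_lit 3, nat_lit 6, nat_lit 3, nat_lit 1, nat_lit 5, nat_lit 4, nat_lit 3, nat_lit 4, nat_lit 0, nat_lit 2] [nat_lit 6, nat_lit 5, nat_lit 7, nat_lit 0, nat_lit 6, nat_lit 2, nat_lit 6, nat_lit 2, nat_lit 0, nat_lit 5, nat_lit 0, nat_lit 4, nat_lit 1, nat_lit 3, nat_lit 1, nat_lit 2, nat_lit 1] g3_7_11slp (by decide +kernel)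
noncomputable def g3_7_23s0 : ℕ := (nat_lit 0xb9654ace0a185cc3452b3a04f259a0)
noncomputable def g3_7_23s1 : ℕ := (nat_lit 0xbd9c98b69514d6a0160391de4620c1)
noncomputable def g3_7_23s2 : ℕ := (nat_lit 0xb8a74955512342c441263aec3795c0)
noncomputable def g3_7_23s3 : ℕ := (nat_lit 0xbda1171e692d6436b2823054443c0b)
noncomputable def g3_7_23s4 : ℕ := (nat_lit 0xb95892046ea0a71b20ca855b279d60)
noncomputable def g3_7_23s5 : ℕ := (nat_lit 0xbaccf691871c0b50a28a126d38ba40)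
noncomputable def g3_7_23s6 : ℕ := (nat_lit 0xb94908aacd3b96fa48623327542420)
noncomputable def g3_7_23s7 : ℕ := (nat_lit 0xbc48b2aa7463a066c84379ed54a020)
noncomputable def g3_7_23s8 : ℕ := (nat_lit 0xb9e04321b61d5526526273cb14ac20)
noncomputable def g3_7_23s9 : ℕ := (nat_lit 0xbc1ca4b09531e2b13472b4cb47a020)
noncomputable def g3_7_23s10 : ℕ := (nat_lit 0xbd2ce21d092ade6ac4738358a90820)
noncomputable def g3_7_23s11 : ℕ := (nat_lit 0xbd57640d476d0c571211931f348820)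
noncomputable def g3_7_23s12 : ℕ := (nat_lit 0xbb5d21bea461ad44ad0a2c67038820)
noncomputable def g3_7_23s13 : ℕ := (nat_lit 0xbb62c2d0c4956cf521691b8f098820)
noncomputable def g3_7_23s14 : ℕ := (nat_lit 0xbc12ba18ad946c79b11553dc418820)
noncomputable def g3_7_23s15 : ℕ := (nat_lit 0xbb5135bdd63160aa1ea964a2418820)
noncomputable def g3_7_23s16 : ℕ := (nat_lit 0xbbeb23b5ca6169682d0434e2918820)
noncomputable def g3_7_23s17 : ℕ := (nat_lit 0xbb2ad350abb464f5408999dc818820)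
noncomputable def g3_7_23s18 : ℕ := (nat_lit 0xbb2c9819c8795753d1536923218820)
noncomputable def g3_7_23s19 : ℕ := (nat_lit 0xbd58a410b37c4f66a6905c9c618820)
noncomputable def g3_7_23s20 : ℕ := (nat_lit 0xbd6cb22627638cfa224a834b318820)
noncomputable def g3_7_23s21 : ℕ := (nat_lit 0xb926faa22da3a0b6255231cb618820)
noncomputable def g3_7_23s22 : ℕ := (nat_lit 0xb9da32494673eac5c4a8b4133a0820)
noncomputable def g3_7_23s23 : ℕ := (nat_lit 0xbd8948ca636a9e2438eb498b583020)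
noncomputable def g3_7_23s24 : ℕ := (nat_lit 0xbdaa77b9909c8514292ba18612b480)
noncomputable def g3_7_23s25 : ℕ := (nat_lit 0xbc8145da217a5a29a9c8390662b215)
noncomputable def g3_7_23S : Tr ℕ := (.node (nat_lit 13) (.node (nat_lit 6) (.node (nat_lit 3) (.node (nat_lit 1) (.leaf g3_7_23s0) (.node (nat_lit 2) (.leaf g3_7_23s1) (.leaf g3_7_23s2))) (.node (nat_lit 4) (.leaf g3_7_23s3) (.node (nat_lit 5) (.leaf g3_7_23s4) (.leaf g3_7_23s5))))
 (.node (nat_lit 9) (.node (nat_lit 7) (.leaf g3_7_23s6) (.node (nat_lit 8) (.leaf g3_7_23s7) (.leaf g3_7_23s8)))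
 (.node (nat_lit 11) (.node (nat_lit 10) (.leaf g3_7_23s9) (.leaf g3_7_23s10)) (.node (nat_lit 12) (.leaf g3_7_23s11) (.leaf g3_7_23s12)))))
 (.node (nat_lit 19) (.node (nat_lit 16) (.node (nat_lit 14) (.leaf g3_7_23s13) (.node (nat_lit 15) (.leaf g3_7_23s14) (.leaf g3_7_23s15))) (.node (nat_lit 17) (.leaf g3_7_23s16) (.node (nat_lit 18) (.leaf g3_7_23s17) (.leaf g3_7_23s18))))
 (.node (nat_lit 22) (.node (nat_lit 20) (.leaf g3_7_23s19) (.node (nat_lit 21) (.leaf g3_7_23s20) (.leaf g3_7_23s21)))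
 (.node (nat_lit 24) (.node (nat_lit 23) (.leaf g3_7_23s22) (.leaf g3_7_23s23)) (.node (nat_lit 25) (.leaf g3_7_23s24) (.leaf g3_7_23s25))))))
noncomputable def g3_7_23D : Tr (List ℕ) := (.node (nat_lit 13) (.node (nat_lit 6) (.node (nat_lit 3) (.node (nat_lit 1) (.leaf []) (.node (nat_lit 2) (.leaf []) (.leaf [nat_lit 0, nat_lit 0]))) (.node (nat_lit 4) (.leaf [nat_lit 1, nat_lit 1, nat_lit 1, nat_lit 1, nat_lit 1, nat_lit 1]) (.node (nat_lit 5) (.leaf [nat_lit 3, nat_lit 0, nat_lit 3, nat_lit 2, nat_lit 3, nat_lit 2, nat_lit 1]) (.leaf [nat_lit 3, nat_lit 0, nat_lit 1, nat_lit 0, nat_lit 1, nat_lit 2, nat_lit 1]))))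
 (.node (nat_lit 9) (.node (nat_lit 7) (.leaf [nat_lit 0, nat_lit 5, nat_lit 2, nat_lit 2, nat_lit 5, nat_lit 0, nat_lit 0, nat_lit 0, nat_lit 0]) (.node (nat_lit 8) (.leaf [nat_lit 2, nat_lit 2, nat_lit 2, nat_lit 2, nat_lit 4, nat_lit 0, nat_lit 0, nat_lit 4, nat_lit 2]) (.leaf [nat_lit 5, nat_lit 2, nat_lit 5, nat_lit 2, nat_lit 5])))
 (.node (nat_lit 11) (.node (nat_lit 10) (.leaf [nat_lit 4, nat_lit 0, nat_lit 4, nat_lit 0, nat_lit 4]) (.leaf [nat_lit 7, nat_lit 9, nat_lit 9, nat_lit 9, nat_lit 6, nat_lit 8, nat_lit 8])) (.node (nat_lit 12) (.leaf [nat_lit 9, nat_lit 9, nat_lit 7, nat_lit 8, nat_lit 8, nat_lit 8, nat_lit 6]) (.leaf [nat_lit 6, nat_lit 9])))))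
 (.node (nat_lit 19) (.node (nat_lit 16) (.node (nat_lit 14) (.leaf [nat_lit 8, nat_lit 7]) (.node (nat_lit 15) (.leaf [nat_lit 12, nat_lit 11, nat_lit 13, nat_lit 10, nat_lit 10, nat_lit 10]) (.leaf [nat_lit 11, nat_lit 11, nat_lit 11, nat_lit 12, nat_lit 10, nat_lit 13]))) (.node (nat_lit 17) (.leaf [nat_lit 11, nat_lit 13, nat_lit 10, nat_lit 10, nat_lit 13, nat_lit 13, nat_lit 13, nat_lit 10, nat_lit 13, nat_lit 10]) (.node (nat_lit 18) (.leaf [nat_lit 11, nat_lit 12, nat_lit 11, nat_lit 12, nat_lit 12, nat_lit 12, nat_lit 11, nat_lit 11, nat_lit 12, nat_lit 10]) (.leaf [nat_lit 10, nat_lit 13, nat_lit 10, nat_lit 10, nat_lit 10, nat_lit 13, nat_lit 11, nat_lit 11]))))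
 (.node (nat_lit 22) (.node (nat_lit 20) (.leaf [nat_lit 10, nat_lit 10, nat_lit 12, nat_lit 11, nat_lit 11, nat_lit 11, nat_lit 12, nat_lit 11]) (.node (nat_lit 21) (.leaf [nat_lit 18, nat_lit 17]) (.leaf [nat_lit 18, nat_lit 14, nat_lit 17, nat_lit 15])))
 (.node (nat_lit 24) (.node (nat_lit 23) (.leaf [nat_lit 19, nat_lit 11, nat_lit 16]) (.leaf [nat_lit 8, nat_lit 8, nat_lit 12, nat_lit 15, nat_lit 11, nat_lit 18])) (.node (nat_lit 25) (.leaf [nat_lit 19, nat_lit 5, nat_lit 18, nat_lit 14, nat_lit 7, nat_lit 14, nat_lit 11, nat_lit 16]) (.leaf [nat_lit 10, nat_lit 3, nat_lit 5, nat_lit 19, nat_lit 6, nat_lit 11, nat_lit 11, nat_lit 19]))))))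
theorem g3_7_23slp : slpChk 24 (nat_lit 5) (nat_lit 31) g3_7_23S g3_7_23D 2 24 = true := by decide +kernel
theorem g3_7_23 : PQR M23.P 3 7 23 := pos (S := g3_7_23S) [nat_lit 1, nat_lit 3, nat_lit 6, nat_lit 3, nat_lit 2, nat_lit 1, nat_lit 4, nat_lit 0, nat_lit 3, nat_lit 0, nat_lit 2] [nat_lit 6, nat_lit 5, nat_lit 7, nat_lit 6, nat_lit 3, nat_lit 5, nat_lit 0, nat_lit 3, nat_lit 4, nat_lit 3, nat_lit 1] g3_7_23slp (by decide +kernel)
noncomputable def g3_11_11s0 : ℕ := (nat_lit 0xbd6969c40678dab229057092c3c032)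
noncomputable def g3_11_11s1 : ℕ := (nat_lit 0xbc6142baa79bd409588d0a18359849)
noncomputable def g3_11_11s2 : ℕ := (nat_lit 0xbd2d59824279da4628a91c10b71831)
noncomputable def g3_11_11s3 : ℕ := (nat_lit 0xbaa347aed5749051b40680a69204ec)
noncomputable def g3_11_11s4 : ℕ := (nat_lit 0xba9ab19d0e64262915e44d826ad220)
noncomputable def g3_11_11s5 : ℕ := (nat_lit 0xb98626ac2e4c2afa58f1911489b0a0)
noncomputable def g3_11_11s6 : ℕ := (nat_lit 0xbb6cb755512324230e87424af84c20)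
noncomputable def g3_11_11s7 : ℕ := (nat_lit 0xbd6491360324ecea44c742caf53020)
noncomputable def g3_11_11s8 : ℕ := (nat_lit 0xbc9a66586a78ab34c1683d0a48b820)
noncomputable def g3_11_11s9 : ℕ := (nat_lit 0xb96cb7a551a205284c87655ae30c20)
noncomputable def g3_11_11s10 : ℕ := (nat_lit 0xbd4cf5320b990a7a464e40ec913420)
noncomputable def g3_11_11s11 : ℕ := (nat_lit 0xbc6c6826453a06a7ceb46918e58820)
noncomputable def g3_11_11s12 : ℕ := (nat_lit 0xbd528546d3590e51b24e7d20668820)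
noncomputable def g3_11_11s13 : ℕ := (nat_lit 0xbd5517c167730c4694764d11390820)
noncomputable def g3_11_11s14 : ℕ := (nat_lit 0xba2c620e929bd6e8d4e58354c48820)
noncomputable def g3_11_11s15 : ℕ := (nat_lit 0xba1b4255cc516469a5e7b422b18820)
noncomputable def g3_11_11s16 : ℕ := (nat_lit 0xb9e545b4a64c6b023d56431d318820)
noncomputable def g3_11_11s17 : ℕ := (nat_lit 0xbd5f04a1c6b166c911ab5522718820)
noncomputable def g3_11_11s18 : ℕ := (nat_lit 0xbbec66acb4ac52c41e72241ca18820)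
noncomputable def g3_11_11s19 : ℕ := (nat_lit 0xbce8d549c7216ab45a0c4be2618820)
noncomputable def g3_11_11s20 : ℕ := (nat_lit 0xba9b5b48a93468864ceb811cf18820)
noncomputable def g3_11_11s21 : ℕ := (nat_lit 0xbc12ba18ad946c79b11553dc418820)
noncomputable def g3_11_11s22 : ℕ := (nat_lit 0xbb5135bdd63160aa1ea964a2418820)
noncomputable def g3_11_11s23 : ℕ := (nat_lit 0xbd6cb22627638cfa224a834b318820)
noncomputable def g3_11_11s24 : ℕ := (nat_lit 0xb926faa22da3a0b6255231cb618820)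
noncomputable def g3_11_11s25 : ℕ := (nat_lit 0xb9da32494673eac5c4a8b4133a0820)
noncomputable def g3_11_11s26 : ℕ := (nat_lit 0xbd8948ca636a9e2438eb498b583020)
noncomputable def g3_11_11s27 : ℕ := (nat_lit 0xbdaa77b9909c8514292ba18612b480)
noncomputable def g3_11_11s28 : ℕ := (nat_lit 0xbc8145da217a5a29a9c8390662b215)
noncomputable def g3_11_11S : Tr ℕ := (.node (nat_lit 14) (.node (nat_lit 7) (.node (nat_lit 3) (.node (nat_lit 1) (.leaf g3_11_11s0) (.node (nat_lit 2) (.leaf g3_11_11s1) (.leaf g3_11_11s2)))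
 (.node (nat_lit 5) (.node (nat_lit 4) (.leaf g3_11_11s3) (.leaf g3_11_11s4)) (.node (nat_lit 6) (.leaf g3_11_11s5) (.leaf g3_11_11s6))))
 (.node (nat_lit 10) (.node (nat_lit 8) (.leaf g3_11_11s7) (.node (nat_lit 9) (.leaf g3_11_11s8) (.leaf g3_11_11s9)))
 (.node (nat_lit 12) (.node (nat_lit 11) (.leaf g3_11_11s10) (.leaf g3_11_11s11)) (.node (nat_lit 13) (.leaf g3_11_11s12) (.leaf g3_11_11s13)))))
 (.node (nat_lit 21) (.node (nat_lit 17) (.node (nat_lit 15) (.leaf g3_11_11s14) (.node (nat_lit 16) (.leaf g3_11_11s15) (.leaf g3_11_11s16)))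
 (.node (nat_lit 19) (.node (nat_lit 18) (.leaf g3_11_11s17) (.leaf g3_11_11s18)) (.node (nat_lit 20) (.leaf g3_11_11s19) (.leaf g3_11_11s20))))
 (.node (nat_lit 25) (.node (nat_lit 23) (.node (nat_lit 22) (.leaf g3_11_11s21) (.leaf g3_11_11s22)) (.node (nat_lit 24) (.leaf g3_11_11s23) (.leaf g3_11_11s24)))
 (.node (nat_lit 27) (.node (nat_lit 26) (.leaf g3_11_11s25) (.leaf g3_11_11s26)) (.node (nat_lit 28) (.leaf g3_11_11s27) (.leaf g3_11_11s28))))))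
noncomputable def g3_11_11D : Tr (List ℕ) := (.node (nat_lit 14) (.node (nat_lit 7) (.node (nat_lit 3) (.node (nat_lit 1) (.leaf []) (.node (nat_lit 2) (.leaf []) (.leaf [nat_lit 0, nat_lit 0])))
 (.node (nat_lit 5) (.node (nat_lit 4) (.leaf [nat_lit 1, nat_lit 1, nat_lit 1, nat_lit 1, nat_lit 1, nat_lit 1, nat_lit 1, nat_lit 1, nat_lit 1, nat_lit 1]) (.leaf [nat_lit 0, nat_lit 3, nat_lit 0, nat_lit 3, nat_lit 2])) (.node (nat_lit 6) (.leaf [nat_lit 0, nat_lit 1, nat_lit 2, nat_lit 1, nat_lit 2]) (.leaf [nat_lit 2, nat_lit 1, nat_lit 1, nat_lit 0, nat_lit 1, nat_lit 0]))))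
 (.node (nat_lit 10) (.node (nat_lit 8) (.leaf [nat_lit 2, nat_lit 3, nat_lit 2, nat_lit 3, nat_lit 3, nat_lit 0]) (.node (nat_lit 9) (.leaf [nat_lit 7, nat_lit 7]) (.leaf [nat_lit 5, nat_lit 5, nat_lit 6, nat_lit 6, nat_lit 4, nat_lit 4, nat_lit 6])))
 (.node (nat_lit 12) (.node (nat_lit 11) (.leaf [nat_lit 7, nat_lit 5, nat_lit 5, nat_lit 7, nat_lit 7, nat_lit 4, nat_lit 4]) (.leaf [nat_lit 8, nat_lit 9, nat_lit 9, nat_lit 8, nat_lit 10, nat_lit 10, nat_lit 8, nat_lit 9])) (.node (nat_lit 13) (.leaf [nat_lit 10, nat_lit 8, nat_lit 9, nat_lit 9, nat_lit 8, nat_lit 10, nat_lit 10, nat_lit 8]) (.leaf [nat_lit 10, nat_lit 10, nat_lit 10, nat_lit 8, nat_lit 10])))))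
 (.node (nat_lit 21) (.node (nat_lit 17) (.node (nat_lit 15) (.leaf [nat_lit 9, nat_lit 8, nat_lit 9, nat_lit 9, nat_lit 9]) (.node (nat_lit 16) (.leaf [nat_lit 11, nat_lit 14, nat_lit 11, nat_lit 13, nat_lit 13, nat_lit 12]) (.leaf [nat_lit 11, nat_lit 14, nat_lit 14, nat_lit 12, nat_lit 13, nat_lit 12])))
 (.node (nat_lit 19) (.node (nat_lit 18) (.leaf [nat_lit 12, nat_lit 14, nat_lit 12]) (.leaf [nat_lit 11, nat_lit 13, nat_lit 11])) (.node (nat_lit 20) (.leaf [nat_lit 13, nat_lit 12, nat_lit 13, nat_lit 11, nat_lit 11, nat_lit 13, nat_lit 11, nat_lit 11, nat_lit 11]) (.leaf [nat_lit 12, nat_lit 12, nat_lit 12, nat_lit 14, nat_lit 12, nat_lit 12, nat_lit 14, nat_lit 11, nat_lit 14]))))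
 (.node (nat_lit 25) (.node (nat_lit 23) (.node (nat_lit 22) (.leaf [nat_lit 15, nat_lit 18, nat_lit 19, nat_lit 17]) (.leaf [nat_lit 18, nat_lit 20, nat_lit 17, nat_lit 16])) (.node (nat_lit 24) (.leaf [nat_lit 16, nat_lit 22]) (.leaf [nat_lit 20, nat_lit 16, nat_lit 21])))
 (.node (nat_lit 27) (.node (nat_lit 26) (.leaf [nat_lit 20, nat_lit 12, nat_lit 16, nat_lit 22]) (.leaf [nat_lit 13, nat_lit 8, nat_lit 21, nat_lit 12, nat_lit 17])) (.node (nat_lit 28) (.leaf [nat_lit 12, nat_lit 21, nat_lit 5, nat_lit 16, nat_lit 10, nat_lit 16, nat_lit 14, nat_lit 17, nat_lit 16]) (.leaf [nat_lit 1, nat_lit 2, nat_lit 14, nat_lit 4, nat_lit 17, nat_lit 10, nat_lit 11, nat_lit 11, nat_lit 18, nat_lit 21]))))))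
theorem g3_11_11slp : slpChk 24 (nat_lit 5) (nat_lit 31) g3_11_11S g3_11_11D 2 27 = true := by decide +kernel
theorem g3_11_11 : PQR M23.P 3 11 11 := pos (S := g3_11_11S) [nat_lit 3, nat_lit 1, nat_lit 7, nat_lit 0, nat_lit 3, nat_lit 6, nat_lit 0, nat_lit 5, nat_lit 0, nat_lit 4, nat_lit 3, nat_lit 4, nat_lit 0, nat_lit 3, nat_lit 2] [nat_lit 0, nat_lit 7, nat_lit 3, nat_lit 1, nat_lit 2, nat_lit 6, nat_lit 2, nat_lit 5, nat_lit 0, nat_lit 3, nat_lit 4, nat_lit 1, nat_lit 2, nat_lit 1] g3_11_11slp (by decide +kernel)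
noncomputable def g3_11_23s0 : ℕ := (nat_lit 0xbb08a59a33a49a583c083bac3aa422)
noncomputable def g3_11_23s1 : ℕ := (nat_lit 0xbd8f5499510b56400cb013dd462272)
noncomputable def g3_11_23s2 : ℕ := (nat_lit 0xb946f83a2b519b69d0483c99520029)
noncomputable def g3_11_23s3 : ℕ := (nat_lit 0xbda8408208315c36c662ac92c51deb)
noncomputable def g3_11_23s4 : ℕ := (nat_lit 0xbad51240a875a830d5f26cc4661d20)
noncomputable def g3_11_23s5 : ℕ := (nat_lit 0xbb94d322924bce3b54301123361560)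
noncomputable def g3_11_23s6 : ℕ := (nat_lit 0xbae148844c2c9c869ea679269b2860)
noncomputable def g3_11_23s7 : ℕ := (nat_lit 0xb8d342ba753b570b088c521e60c640)
noncomputable def g3_11_23s8 : ℕ := (nat_lit 0xb91cf89d70532d59d1261950d90820)
noncomputable def g3_11_23s9 : ℕ := (nat_lit 0xbb58a58e70a548e8bd25920d638820)
noncomputable def g3_11_23s10 : ℕ := (nat_lit 0xbc1e710ca875a2b9b1a45265535020)
noncomputable def g3_11_23s11 : ℕ := (nat_lit 0xbb882595b6abd2a61cd0a0e2894c20)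
noncomputable def g3_11_23s12 : ℕ := (nat_lit 0xbb1257cdab8da463b875a2a0820820)
noncomputable def g3_11_23s13 : ℕ := (nat_lit 0xbb907935e59aa3681aa45b28348820)
noncomputable def g3_11_23s14 : ℕ := (nat_lit 0xbae703bcac245144b6caa99d218820)
noncomputable def g3_11_23s15 : ℕ := (nat_lit 0xba4eca91d491550b216d99a2f18820)
noncomputable def g3_11_23s16 : ℕ := (nat_lit 0xb9944a31d5694e85c2d27a63318820)
noncomputable def g3_11_23s17 : ℕ := (nat_lit 0xba613220aa3c5f25d4cc6d9d418820)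
noncomputable def g3_11_23s18 : ℕ := (nat_lit 0xb9166425d0996d4554ef9322d18820)
noncomputable def g3_11_23s19 : ℕ := (nat_lit 0xbb54c79cb044486aae534d1d618820)
noncomputable def g3_11_23s20 : ℕ := (nat_lit 0xbb5135bdd63160aa1ea964a2418820)
noncomputable def g3_11_23s21 : ℕ := (nat_lit 0xbc12ba18ad946c79b11553dc418820)
noncomputable def g3_11_23s22 : ℕ := (nat_lit 0xbd6cb22627638cfa224a834b318820)
noncomputable def g3_11_23s23 : ℕ := (nat_lit 0xb926faa22da3a0b6255231cb618820)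
noncomputable def g3_11_23s24 : ℕ := (nat_lit 0xb9da32494673eac5c4a8b4133a0820)
noncomputable def g3_11_23s25 : ℕ := (nat_lit 0xbd8948ca636a9e2438eb498b583020)
noncomputable def g3_11_23s26 : ℕ := (nat_lit 0xbdaa77b9909c8514292ba18612b480)
noncomputable def g3_11_23s27 : ℕ := (nat_lit 0xbc8145da217a5a29a9c8390662b215)
noncomputable def g3_11_23S : Tr ℕ := (.node (nat_lit 14) (.node (nat_lit 7) (.node (nat_lit 3) (.node (nat_lit 1) (.leaf g3_11_23s0) (.node (nat_lit 2) (.leaf g3_11_23s1) (.leaf g3_11_23s2)))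
 (.node (nat_lit 5) (.node (nat_lit 4) (.leaf g3_11_23s3) (.leaf g3_11_23s4)) (.node (nat_lit 6) (.leaf g3_11_23s5) (.leaf g3_11_23s6))))
 (.node (nat_lit 10) (.node (nat_lit 8) (.leaf g3_11_23s7) (.node (nat_lit 9) (.leaf g3_11_23s8) (.leaf g3_11_23s9)))
 (.node (nat_lit 12) (.node (nat_lit 11) (.leaf g3_11_23s10) (.leaf g3_11_23s11)) (.node (nat_lit 13) (.leaf g3_11_23s12) (.leaf g3_11_23s13)))))
 (.node (nat_lit 21) (.node (nat_lit 17) (.node (nat_lit 15) (.leaf g3_11_23s14) (.node (nat_lit 16) (.leaf g3_11_23s15) (.leaf g3_11_23s16)))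
 (.node (nat_lit 19) (.node (nat_lit 18) (.leaf g3_11_23s17) (.leaf g3_11_23s18)) (.node (nat_lit 20) (.leaf g3_11_23s19) (.leaf g3_11_23s20))))
 (.node (nat_lit 24) (.node (nat_lit 22) (.leaf g3_11_23s21) (.node (nat_lit 23) (.leaf g3_11_23s22) (.leaf g3_11_23s23)))
 (.node (nat_lit 26) (.node (nat_lit 25) (.leaf g3_11_23s24) (.leaf g3_11_23s25)) (.node (nat_lit 27) (.leaf g3_11_23s26) (.leaf g3_11_23s27))))))
noncomputable def g3_11_23D : Tr (List ℕ) := (.node (nat_lit 14) (.node (nat_lit 7) (.node (nat_lit 3) (.node (nat_lit 1) (.leaf []) (.node (nat_lit 2) (.leaf []) (.leaf [nat_lit 0, nat_lit 0])))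
 (.node (nat_lit 5) (.node (nat_lit 4) (.leaf [nat_lit 1, nat_lit 1, nat_lit 1, nat_lit 1, nat_lit 1, nat_lit 1, nat_lit 1, nat_lit 1, nat_lit 1, nat_lit 1]) (.leaf [nat_lit 0, nat_lit 3, nat_lit 3, nat_lit 2, nat_lit 1])) (.node (nat_lit 6) (.leaf [nat_lit 3, nat_lit 0, nat_lit 1, nat_lit 1, nat_lit 2]) (.leaf [nat_lit 1, nat_lit 1, nat_lit 1, nat_lit 2, nat_lit 1]))))
 (.node (nat_lit 10) (.node (nat_lit 8) (.leaf [nat_lit 3, nat_lit 0, nat_lit 3, nat_lit 3, nat_lit 3]) (.node (nat_lit 9) (.leaf [nat_lit 7, nat_lit 4, nat_lit 4, nat_lit 6]) (.leaf [nat_lit 7, nat_lit 5, nat_lit 5, nat_lit 6])))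
 (.node (nat_lit 12) (.node (nat_lit 11) (.leaf [nat_lit 6, nat_lit 6, nat_lit 5, nat_lit 5, nat_lit 5]) (.leaf [nat_lit 4, nat_lit 4, nat_lit 4, nat_lit 7, nat_lit 7])) (.node (nat_lit 13) (.leaf [nat_lit 10, nat_lit 8, nat_lit 11, nat_lit 11]) (.leaf [nat_lit 10, nat_lit 10, nat_lit 9, nat_lit 11])))))
 (.node (nat_lit 21) (.node (nat_lit 17) (.node (nat_lit 15) (.leaf [nat_lit 13, nat_lit 8, nat_lit 8, nat_lit 13, nat_lit 8]) (.node (nat_lit 16) (.leaf [nat_lit 9, nat_lit 12, nat_lit 9, nat_lit 9, nat_lit 12]) (.leaf [nat_lit 12, nat_lit 12, nat_lit 9, nat_lit 12, nat_lit 9, nat_lit 12, nat_lit 9])))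
 (.node (nat_lit 19) (.node (nat_lit 18) (.leaf [nat_lit 8, nat_lit 13, nat_lit 8, nat_lit 13, nat_lit 8, nat_lit 13, nat_lit 13]) (.leaf [nat_lit 13, nat_lit 8, nat_lit 12, nat_lit 8, nat_lit 13, nat_lit 13])) (.node (nat_lit 20) (.leaf [nat_lit 12, nat_lit 12, nat_lit 9, nat_lit 13, nat_lit 9, nat_lit 12]) (.leaf [nat_lit 15, nat_lit 19, nat_lit 16, nat_lit 18, nat_lit 17]))))
 (.node (nat_lit 24) (.node (nat_lit 22) (.leaf [nat_lit 16, nat_lit 19, nat_lit 17, nat_lit 18, nat_lit 14]) (.node (nat_lit 23) (.leaf [nat_lit 16, nat_lit 21]) (.leaf [nat_lit 19, nat_lit 20])))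
 (.node (nat_lit 26) (.node (nat_lit 25) (.leaf [nat_lit 12, nat_lit 9, nat_lit 17, nat_lit 15, nat_lit 21]) (.leaf [nat_lit 15, nat_lit 10, nat_lit 21, nat_lit 9, nat_lit 15, nat_lit 21])) (.node (nat_lit 27) (.leaf [nat_lit 7, nat_lit 4, nat_lit 19, nat_lit 11, nat_lit 13, nat_lit 9, nat_lit 15]) (.leaf [nat_lit 20, nat_lit 2, nat_lit 6, nat_lit 5, nat_lit 15, nat_lit 11, nat_lit 15, nat_lit 9, nat_lit 15, nat_lit 18, nat_lit 21]))))))
theorem g3_11_23slp : slpChk 24 (nat_lit 5) (nat_lit 31) g3_11_23S g3_11_23D 2 26 = true := by decide +kernel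
theorem g3_11_23 : PQR M23.P 3 11 23 := pos (S := g3_11_23S) [nat_lit 6, nat_lit 4, nat_lit 7, nat_lit 1, nat_lit 2, nat_lit 6, nat_lit 4, nat_lit 3, nat_lit 1, nat_lit 5, nat_lit 3, nat_lit 4, nat_lit 1, nat_lit 3, nat_lit 1, nat_lit 2, nat_lit 0] [nat_lit 3, nat_lit 1, nat_lit 7, nat_lit 1, nat_lit 5, nat_lit 2, nat_lit 6, nat_lit 4, nat_lit 0, nat_lit 5, nat_lit 4, nat_lit 3, nat_lit 4, nat_lit 1, nat_lit 3, nat_lit 0] g3_11_23slp (by decide +kernel)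
noncomputable def g3_23_23s0 : ℕ := (nat_lit 0xb94664496a9d62c6912f3841070a96)
noncomputable def g3_23_23s1 : ℕ := (nat_lit 0xb9025a36d3921833d60b5262e3004f)
noncomputable def g3_23_23s2 : ℕ := (nat_lit 0xb81c17c9a440d6c8c1333d2caa88c5)
noncomputable def g3_23_23s3 : ℕ := (nat_lit 0xbade4b19111a930080b5151c79b64c)
noncomputable def g3_23_23s4 : ℕ := (nat_lit 0xbc55383ca90124d41cce58e96606a2)
noncomputable def g3_23_23s5 : ℕ := (nat_lit 0xbd496835695168188c4f320ec74e40)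
noncomputable def g3_23_23s6 : ℕ := (nat_lit 0xbd2cd1057340e448be0629dd552580)
noncomputable def g3_23_23s7 : ℕ := (nat_lit 0xb9c617d9a82c9d54cd8624562a4140)
noncomputable def g3_23_23s8 : ℕ := (nat_lit 0xbc983538c29b62928570b21e7a9280)
noncomputable def g3_23_23s9 : ℕ := (nat_lit 0xbd1e69960e51189aa06b8cac713420)
noncomputable def g3_23_23s10 : ℕ := (nat_lit 0xb9576998f1ac04d43d8a2524e48c20)
noncomputable def g3_23_23s11 : ℕ := (nat_lit 0xba1c7311944aa361486d5bcb59c020)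
noncomputable def g3_23_23s12 : ℕ := (nat_lit 0xbb0901a9a2355113b9f6a4cb24ac20)
noncomputable def g3_23_23s13 : ℕ := (nat_lit 0xbb88fb2ce554e32651286c0c3a8820)
noncomputable def g3_23_23s14 : ℕ := (nat_lit 0xbcc6a731a6a58eb93d288961520820)
noncomputable def g3_23_23s15 : ℕ := (nat_lit 0xb8d2454d91820a7ad9a67d16e90820)
noncomputable def g3_23_23s16 : ℕ := (nat_lit 0xba96690e0f391312ceae621b4b0820)
noncomputable def g3_23_23s17 : ℕ := (nat_lit 0xb9d367add3814d263488a2a3518820)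
noncomputable def g3_23_23s18 : ℕ := (nat_lit 0xbd087830af9c54b91aa8b35c918820)
noncomputable def g3_23_23s19 : ℕ := (nat_lit 0xb9e545b4a64c6b023d56431d318820)
noncomputable def g3_23_23s20 : ℕ := (nat_lit 0xba1b4255cc516469a5e7b422b18820)
noncomputable def g3_23_23s21 : ℕ := (nat_lit 0xba613220aa3c5f25d4cc6d9d418820)
noncomputable def g3_23_23s22 : ℕ := (nat_lit 0xb9944a31d5694e85c2d27a63318820)
noncomputable def g3_23_23s23 : ℕ := (nat_lit 0xbb5135bdd63160aa1ea964a2418820)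
noncomputable def g3_23_23s24 : ℕ := (nat_lit 0xbc12ba18ad946c79b11553dc418820)
noncomputable def g3_23_23s25 : ℕ := (nat_lit 0xbd6cb22627638cfa224a834b318820)
noncomputable def g3_23_23s26 : ℕ := (nat_lit 0xb926faa22da3a0b6255231cb618820)
noncomputable def g3_23_23s27 : ℕ := (nat_lit 0xb9da32494673eac5c4a8b4133a0820)
noncomputable def g3_23_23s28 : ℕ := (nat_lit 0xbd8948ca636a9e2438eb498b583020)
noncomputable def g3_23_23s29 : ℕ := (nat_lit 0xbdaa77b9909c8514292ba18612b480)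
noncomputable def g3_23_23s30 : ℕ := (nat_lit 0xbc8145da217a5a29a9c8390662b215)
noncomputable def g3_23_23S : Tr ℕ := (.node (nat_lit 15) (.node (nat_lit 7) (.node (nat_lit 3) (.node (nat_lit 1) (.leaf g3_23_23s0) (.node (nat_lit 2) (.leaf g3_23_23s1) (.leaf g3_23_23s2)))
 (.node (nat_lit 5) (.node (nat_lit 4) (.leaf g3_23_23s3) (.leaf g3_23_23s4)) (.node (nat_lit 6) (.leaf g3_23_23s5) (.leaf g3_23_23s6))))
 (.node (nat_lit 11) (.node (nat_lit 9) (.node (nat_lit 8) (.leaf g3_23_23s7) (.leaf g3_23_23s8)) (.node (nat_lit 10) (.leaf g3_23_23s9) (.leaf g3_23_23s10)))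
 (.node (nat_lit 13) (.node (nat_lit 12) (.leaf g3_23_23s11) (.leaf g3_23_23s12)) (.node (nat_lit 14) (.leaf g3_23_23s13) (.leaf g3_23_23s14)))))
 (.node (nat_lit 23) (.node (nat_lit 19) (.node (nat_lit 17) (.node (nat_lit 16) (.leaf g3_23_23s15) (.leaf g3_23_23s16)) (.node (nat_lit 18) (.leaf g3_23_23s17) (.leaf g3_23_23s18)))
 (.node (nat_lit 21) (.node (nat_lit 20) (.leaf g3_23_23s19) (.leaf g3_23_23s20)) (.node (nat_lit 22) (.leaf g3_23_23s21) (.leaf g3_23_23s22))))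
 (.node (nat_lit 27) (.node (nat_lit 25) (.node (nat_lit 24) (.leaf g3_23_23s23) (.leaf g3_23_23s24)) (.node (nat_lit 26) (.leaf g3_23_23s25) (.leaf g3_23_23s26)))
 (.node (nat_lit 29) (.node (nat_lit 28) (.leaf g3_23_23s27) (.leaf g3_23_23s28)) (.node (nat_lit 30) (.leaf g3_23_23s29) (.leaf g3_23_23s30))))))
noncomputable def g3_23_23D : Tr (List ℕ) := (.node (nat_lit 15) (.node (nat_lit 7) (.node (nat_lit 3) (.node (nat_lit 1) (.leaf []) (.node (nat_lit 2) (.leaf []) (.leaf [nat_lit 0, nat_lit 0])))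
 (.node (nat_lit 5) (.node (nat_lit 4) (.leaf [nat_lit 1, nat_lit 1, nat_lit 1, nat_lit 1]) (.leaf [nat_lit 3, nat_lit 3, nat_lit 3, nat_lit 3, nat_lit 3, nat_lit 1, nat_lit 1])) (.node (nat_lit 6) (.leaf [nat_lit 2, nat_lit 4, nat_lit 2, nat_lit 4, nat_lit 4, nat_lit 0, nat_lit 4, nat_lit 4]) (.leaf [nat_lit 1, nat_lit 1, nat_lit 2, nat_lit 1, nat_lit 1, nat_lit 0, nat_lit 1, nat_lit 0]))))
 (.node (nat_lit 11) (.node (nat_lit 9) (.node (nat_lit 8) (.leaf [nat_lit 4, nat_lit 0, nat_lit 4, nat_lit 2, nat_lit 1, nat_lit 1, nat_lit 1]) (.leaf [nat_lit 4, nat_lit 4, nat_lit 4, nat_lit 0, nat_lit 1, nat_lit 2, nat_lit 1])) (.node (nat_lit 10) (.leaf [nat_lit 5, nat_lit 5, nat_lit 5, nat_lit 7, nat_lit 6]) (.leaf [nat_lit 5, nat_lit 8, nat_lit 6, nat_lit 6, nat_lit 6])))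
 (.node (nat_lit 13) (.node (nat_lit 12) (.leaf [nat_lit 6, nat_lit 7, nat_lit 6, nat_lit 7, nat_lit 7, nat_lit 7, nat_lit 7]) (.leaf [nat_lit 8, nat_lit 8, nat_lit 8, nat_lit 8, nat_lit 5, nat_lit 8, nat_lit 5])) (.node (nat_lit 14) (.leaf [nat_lit 11, nat_lit 10, nat_lit 10, nat_lit 12, nat_lit 10, nat_lit 10]) (.leaf [nat_lit 9, nat_lit 9, nat_lit 11, nat_lit 9, nat_lit 9, nat_lit 12])))))
 (.node (nat_lit 23) (.node (nat_lit 19) (.node (nat_lit 17) (.node (nat_lit 16) (.leaf [nat_lit 11, nat_lit 11, nat_lit 10, nat_lit 12, nat_lit 10, nat_lit 12, nat_lit 10]) (.leaf [nat_lit 9, nat_lit 11, nat_lit 9, nat_lit 11, nat_lit 9, nat_lit 12, nat_lit 12])) (.node (nat_lit 18) (.leaf [nat_lit 13, nat_lit 15, nat_lit 15, nat_lit 14, nat_lit 16, nat_lit 14, nat_lit 15, nat_lit 14, nat_lit 15]) (.leaf [nat_lit 16, nat_lit 13, nat_lit 16, nat_lit 13, nat_lit 15, nat_lit 13, nat_lit 16, nat_lit 16, nat_lit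 14])))
 (.node (nat_lit 21) (.node (nat_lit 20) (.leaf [nat_lit 13, nat_lit 16, nat_lit 14, nat_lit 15, nat_lit 15]) (.leaf [nat_lit 16, nat_lit 16, nat_lit 13, nat_lit 15, nat_lit 14])) (.node (nat_lit 22) (.leaf [nat_lit 16, nat_lit 14, nat_lit 16, nat_lit 16, nat_lit 14, nat_lit 15, nat_lit 15, nat_lit 13, nat_lit 15]) (.leaf [nat_lit 16, nat_lit 14, nat_lit 16, nat_lit 16, nat_lit 13, nat_lit 15, nat_lit 15, nat_lit 13, nat_lit 15]))))
 (.node (nat_lit 27) (.node (nat_lit 25) (.node (nat_lit 24) (.leaf [nat_lit 18, nat_lit 22, nat_lit 18, nat_lit 19]) (.leaf [nat_lit 20, nat_lit 17, nat_lit 21, nat_lit 17])) (.node (nat_lit 26) (.leaf [nat_lit 19, nat_lit 23]) (.leaf [nat_lit 22, nat_lit 18])))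
 (.node (nat_lit 29) (.node (nat_lit 28) (.leaf [nat_lit 21, nat_lit 14, nat_lit 20, nat_lit 18, nat_lit 24]) (.leaf [nat_lit 9, nat_lit 9, nat_lit 17, nat_lit 16, nat_lit 21, nat_lit 18, nat_lit 24])) (.node (nat_lit 30) (.leaf [nat_lit 6, nat_lit 6, nat_lit 16, nat_lit 10, nat_lit 22, nat_lit 16, nat_lit 20, nat_lit 17, nat_lit 24]) (.leaf [nat_lit 5, nat_lit 0, nat_lit 23, nat_lit 5, nat_lit 14, nat_lit 10, nat_lit 22, nat_lit 16, nat_lit 18, nat_lit 21]))))))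
theorem g3_23_23slp : slpChk 24 (nat_lit 5) (nat_lit 31) g3_23_23S g3_23_23D 2 29 = true := by decide +kernel
theorem g3_23_23 : PQR M23.P 3 23 23 := pos (S := g3_23_23S) [nat_lit 2, nat_lit 7, nat_lit 2, nat_lit 6, nat_lit 0, nat_lit 3, nat_lit 5, nat_lit 1, nat_lit 4, nat_lit 3, nat_lit 4, nat_lit 0, nat_lit 3, nat_lit 2] [nat_lit 6, nat_lit 3, nat_lit 7, nat_lit 0, nat_lit 2, nat_lit 1, nat_lit 5, nat_lit 0, nat_lit 3, nat_lit 4, nat_lit 1, nat_lit 3, nat_lit 2] g3_23_23slp (by decide +kernel)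
noncomputable def g5_5_5s0 : ℕ := (nat_lit 0xbd9411c96814d316918e380cf854b4)
noncomputable def g5_5_5s1 : ℕ := (nat_lit 0xbc860742272a9f5b51ac5988908913)
noncomputable def g5_5_5s2 : ℕ := (nat_lit 0xbd84074983221698d5b03942a9be86)
noncomputable def g5_5_5s3 : ℕ := (nat_lit 0xbad8a05a326cd283b881819e5a8874)
noncomputable def g5_5_5s4 : ℕ := (nat_lit 0xb85f52c0e968cd2b284e5d1049b220)
noncomputable def g5_5_5s5 : ℕ := (nat_lit 0xbae861b032aa1e23aa058b664726c0)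
noncomputable def g5_5_5s6 : ℕ := (nat_lit 0xbca880c2cc139b17a6aa5ccc538c80)
noncomputable def g5_5_5s7 : ℕ := (nat_lit 0xbc535359925b9b03a1541948113e60)
noncomputable def g5_5_5s8 : ℕ := (nat_lit 0xbc6934c86b818f57158413db642820)
noncomputable def g5_5_5s9 : ℕ := (nat_lit 0xb9195a4acf32ca980a636b94889c20)
noncomputable def g5_5_5s10 : ℕ := (nat_lit 0xbc0c928e247284faa26ca48ed5d820)
noncomputable def g5_5_5s11 : ℕ := (nat_lit 0xb896749a3663c881ba8a2d67093420)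
noncomputable def g5_5_5s12 : ℕ := (nat_lit 0xbc956794eb24d0e1c1b14d0cca8820)
noncomputable def g5_5_5s13 : ℕ := (nat_lit 0xbd0667590a9b124854ed8964f58820)
noncomputable def g5_5_5s14 : ℕ := (nat_lit 0xb9dab828b560e747a24925a2670820)
noncomputable def g5_5_5s15 : ℕ := (nat_lit 0xb9a0c6a4b358eafa490ab122770820)
noncomputable def g5_5_5s16 : ℕ := (nat_lit 0xba91094e346b9e63d8955b0a918820)
noncomputable def g5_5_5s17 : ℕ := (nat_lit 0xb926faa22da3a0b6255231cb618820)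
noncomputable def g5_5_5s18 : ℕ := (nat_lit 0xbd58a410b37c4f66a6905c9c618820)
noncomputable def g5_5_5s19 : ℕ := (nat_lit 0xbb2c9819c8795753d1536923218820)
noncomputable def g5_5_5s20 : ℕ := (nat_lit 0xbb5135bdd63160aa1ea964a2418820)
noncomputable def g5_5_5s21 : ℕ := (nat_lit 0xbc12ba18ad946c79b11553dc418820)
noncomputable def g5_5_5s22 : ℕ := (nat_lit 0xbd6cb22627638cfa224a834b318820)
noncomputable def g5_5_5s23 : ℕ := (nat_lit 0xb9da32494673eac5c4a8b4133a0820)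
noncomputable def g5_5_5s24 : ℕ := (nat_lit 0xbd8948ca636a9e2438eb498b583020)
noncomputable def g5_5_5s25 : ℕ := (nat_lit 0xbdaa77b9909c8514292ba18612b480)
noncomputable def g5_5_5s26 : ℕ := (nat_lit 0xbc8145da217a5a29a9c8390662b215)
noncomputable def g5_5_5S : Tr ℕ := (.node (nat_lit 13) (.node (nat_lit 6) (.node (nat_lit 3) (.node (nat_lit 1) (.leaf g5_5_5s0) (.node (nat_lit 2) (.leaf g5_5_5s1) (.leaf g5_5_5s2))) (.node (nat_lit 4) (.leaf g5_5_5s3) (.node (nat_lit 5) (.leaf g5_5_5s4) (.leaf g5_5_5s5))))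
 (.node (nat_lit 9) (.node (nat_lit 7) (.leaf g5_5_5s6) (.node (nat_lit 8) (.leaf g5_5_5s7) (.leaf g5_5_5s8)))
 (.node (nat_lit 11) (.node (nat_lit 10) (.leaf g5_5_5s9) (.leaf g5_5_5s10)) (.node (nat_lit 12) (.leaf g5_5_5s11) (.leaf g5_5_5s12)))))
 (.node (nat_lit 20) (.node (nat_lit 16) (.node (nat_lit 14) (.leaf g5_5_5s13) (.node (nat_lit 15) (.leaf g5_5_5s14) (.leaf g5_5_5s15)))
 (.node (nat_lit 18) (.node (nat_lit 17) (.leaf g5_5_5s16) (.leaf g5_5_5s17)) (.node (nat_lit 19) (.leaf g5_5_5s18) (.leaf g5_5_5s19))))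
 (.node (nat_lit 23) (.node (nat_lit 21) (.leaf g5_5_5s20) (.node (nat_lit 22) (.leaf g5_5_5s21) (.leaf g5_5_5s22)))
 (.node (nat_lit 25) (.node (nat_lit 24) (.leaf g5_5_5s23) (.leaf g5_5_5s24)) (.node (nat_lit 26) (.leaf g5_5_5s25) (.leaf g5_5_5s26))))))
noncomputable def g5_5_5D : Tr (List ℕ) := (.node (nat_lit 13) (.node (nat_lit 6) (.node (nat_lit 3) (.node (nat_lit 1) (.leaf []) (.node (nat_lit 2) (.leaf []) (.leaf [nat_lit 0, nat_lit 0, nat_lit 0, nat_lit 0]))) (.node (nat_lit 4) (.leaf [nat_lit 1, nat_lit 1, nat_lit 1, nat_lit 1]) (.node (nat_lit 5) (.leaf [nat_lit 3, nat_lit 0, nat_lit 1, nat_lit 1]) (.leaf [nat_lit 3, nat_lit 3, nat_lit 2, nat_lit 1]))))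
 (.node (nat_lit 9) (.node (nat_lit 7) (.leaf [nat_lit 1, nat_lit 0]) (.node (nat_lit 8) (.leaf [nat_lit 2, nat_lit 3]) (.leaf [nat_lit 5, nat_lit 7, nat_lit 5])))
 (.node (nat_lit 11) (.node (nat_lit 10) (.leaf [nat_lit 4, nat_lit 6, nat_lit 4]) (.leaf [nat_lit 6, nat_lit 5, nat_lit 6, nat_lit 6])) (.node (nat_lit 12) (.leaf [nat_lit 7, nat_lit 7, nat_lit 4, nat_lit 7]) (.leaf [nat_lit 9, nat_lit 10, nat_lit 10, nat_lit 10, nat_lit 8, nat_lit 8, nat_lit 11, nat_lit 11, nat_lit 8, nat_lit 11])))))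
 (.node (nat_lit 20) (.node (nat_lit 16) (.node (nat_lit 14) (.leaf [nat_lit 10, nat_lit 9, nat_lit 10, nat_lit 10, nat_lit 9, nat_lit 9, nat_lit 11, nat_lit 11, nat_lit 11, nat_lit 8]) (.node (nat_lit 15) (.leaf [nat_lit 8, nat_lit 11, nat_lit 11, nat_lit 9, nat_lit 10, nat_lit 10, nat_lit 8]) (.leaf [nat_lit 9, nat_lit 11, nat_lit 11, nat_lit 8, nat_lit 10, nat_lit 10, nat_lit 9])))
 (.node (nat_lit 18) (.node (nat_lit 17) (.leaf [nat_lit 13, nat_lit 13, nat_lit 14, nat_lit 13, nat_lit 15, nat_lit 12, nat_lit 14, nat_lit 13, nat_lit 13, nat_lit 13]) (.leaf [nat_lit 14, nat_lit 14])) (.node (nat_lit 19) (.leaf [nat_lit 12, nat_lit 12, nat_lit 14, nat_lit 12, nat_lit 15]) (.leaf [nat_lit 14, nat_lit 13, nat_lit 15, nat_lit 13, nat_lit 13]))))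
 (.node (nat_lit 23) (.node (nat_lit 21) (.leaf [nat_lit 17, nat_lit 18, nat_lit 16, nat_lit 18]) (.node (nat_lit 22) (.leaf [nat_lit 19, nat_lit 16, nat_lit 19, nat_lit 17]) (.leaf [nat_lit 16, nat_lit 19, nat_lit 21])))
 (.node (nat_lit 25) (.node (nat_lit 24) (.leaf [nat_lit 20, nat_lit 13, nat_lit 17, nat_lit 20]) (.leaf [nat_lit 20, nat_lit 9, nat_lit 16, nat_lit 13, nat_lit 18, nat_lit 16])) (.node (nat_lit 26) (.leaf [nat_lit 6, nat_lit 11, nat_lit 18, nat_lit 13, nat_lit 17, nat_lit 18]) (.leaf [nat_lit 11, nat_lit 2, nat_lit 12, nat_lit 7, nat_lit 12, nat_lit 16, nat_lit 9, nat_lit 13, nat_lit 18, nat_lit 21]))))))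
theorem g5_5_5slp : slpChk 24 (nat_lit 5) (nat_lit 31) g5_5_5S g5_5_5D 2 25 = true := by decide +kernel
theorem g5_5_5 : PQR M23.P 5 5 5 := pos (S := g5_5_5S) [nat_lit 0, nat_lit 3, nat_lit 7, nat_lit 5, nat_lit 2, nat_lit 6, nat_lit 0, nat_lit 2, nat_lit 1, nat_lit 5, nat_lit 3, nat_lit 0, nat_lit 4, nat_lit 1, nat_lit 3, nat_lit 0] [nat_lit 3, nat_lit 7, nat_lit 3, nat_lit 6, nat_lit 2, nat_lit 1, nat_lit 5, nat_lit 3, nat_lit 0, nat_lit 4, nat_lit 3, nat_lit 1, nat_lit 2, nat_lit 1] g5_5_5slp (by decide +kernel)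
noncomputable def g5_5_7s0 : ℕ := (nat_lit 0xbc8769a6088b8556a8e5a11ec3040b)
noncomputable def g5_5_7s1 : ℕ := (nat_lit 0xbbc274d632991ac0594e1406ba14c8)
noncomputable def g5_5_7s2 : ℕ := (nat_lit 0xbd1879d9f12b96402a5048d06ab441)
noncomputable def g5_5_7s3 : ℕ := (nat_lit 0xbaa437c226b21ac22660a044e29eab)
noncomputable def g5_5_7s4 : ℕ := (nat_lit 0xbaad52c5e3a416434a61389ae42580)
noncomputable def g5_5_7s5 : ℕ := (nat_lit 0xbd68f4aa4e890a16d8433ae6c81900)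
noncomputable def g5_5_7s6 : ℕ := (nat_lit 0xbd0d0555cb9089661d2f6a23328c20)
noncomputable def g5_5_7s7 : ℕ := (nat_lit 0xbb25623cb4444eb84d265546d13820)
noncomputable def g5_5_7s8 : ℕ := (nat_lit 0xbadec6a07631550a11359c84774420)
noncomputable def g5_5_7s9 : ℕ := (nat_lit 0xbc10b3984ca8e74b353223dca89420)
noncomputable def g5_5_7s10 : ℕ := (nat_lit 0xbb0c87894d4d6912cec382e4723820)
noncomputable def g5_5_7s11 : ℕ := (nat_lit 0xba5cd5158798a16345f42556344820)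
noncomputable def g5_5_7s12 : ℕ := (nat_lit 0xbd90f90ce449a0e8aa855b2ad98820)
noncomputable def g5_5_7s13 : ℕ := (nat_lit 0xbd8a91cd6da30863a9f58b91090820)
noncomputable def g5_5_7s14 : ℕ := (nat_lit 0xb9a361d167222697c1aa7165560820)
noncomputable def g5_5_7s15 : ℕ := (nat_lit 0xbd092696aa59d238a18e858cf98820)
noncomputable def g5_5_7s16 : ℕ := (nat_lit 0xbb5135bdd63160aa1ea964a2418820)
noncomputable def g5_5_7s17 : ℕ := (nat_lit 0xbc12ba18ad946c79b11553dc418820)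
noncomputable def g5_5_7s18 : ℕ := (nat_lit 0xbce8d549c7216ab45a0c4be2618820)
noncomputable def g5_5_7s19 : ℕ := (nat_lit 0xba9b5b48a93468864ceb811cf18820)
noncomputable def g5_5_7s20 : ℕ := (nat_lit 0xb92924d4b65c5b33a1867a9d018820)
noncomputable def g5_5_7s21 : ℕ := (nat_lit 0xbc255651c4395a979a6a5a23618820)
noncomputable def g5_5_7s22 : ℕ := (nat_lit 0xbd6cb22627638cfa224a834b318820)
noncomputable def g5_5_7s23 : ℕ := (nat_lit 0xb926faa22da3a0b6255231cb618820)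
noncomputable def g5_5_7s24 : ℕ := (nat_lit 0xb9da32494673eac5c4a8b4133a0820)
noncomputable def g5_5_7s25 : ℕ := (nat_lit 0xbd8948ca636a9e2438eb498b583020)
noncomputable def g5_5_7s26 : ℕ := (nat_lit 0xbdaa77b9909c8514292ba18612b480)
noncomputable def g5_5_7s27 : ℕ := (nat_lit 0xbc8145da217a5a29a9c8390662b215)
noncomputable def g5_5_7S : Tr ℕ := (.node (nat_lit 14) (.node (nat_lit 7) (.node (nat_lit 3) (.node (nat_lit 1) (.leaf g5_5_7s0) (.node (nat_lit 2) (.leaf g5_5_7s1) (.leaf g5_5_7s2)))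
 (.node (nat_lit 5) (.node (nat_lit 4) (.leaf g5_5_7s3) (.leaf g5_5_7s4)) (.node (nat_lit 6) (.leaf g5_5_7s5) (.leaf g5_5_7s6))))
 (.node (nat_lit 10) (.node (nat_lit 8) (.leaf g5_5_7s7) (.node (nat_lit 9) (.leaf g5_5_7s8) (.leaf g5_5_7s9)))
 (.node (nat_lit 12) (.node (nat_lit 11) (.leaf g5_5_7s10) (.leaf g5_5_7s11)) (.node (nat_lit 13) (.leaf g5_5_7s12) (.leaf g5_5_7s13)))))
 (.node (nat_lit 21) (.node (nat_lit 17) (.node (nat_lit 15) (.leaf g5_5_7s14) (.node (nat_lit 16) (.leaf g5_5_7s15) (.leaf g5_5_7s16)))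
 (.node (nat_lit 19) (.node (nat_lit 18) (.leaf g5_5_7s17) (.leaf g5_5_7s18)) (.node (nat_lit 20) (.leaf g5_5_7s19) (.leaf g5_5_7s20))))
 (.node (nat_lit 24) (.node (nat_lit 22) (.leaf g5_5_7s21) (.node (nat_lit 23) (.leaf g5_5_7s22) (.leaf g5_5_7s23)))
 (.node (nat_lit 26) (.node (nat_lit 25) (.leaf g5_5_7s24) (.leaf g5_5_7s25)) (.node (nat_lit 27) (.leaf g5_5_7s26) (.leaf g5_5_7s27))))))
noncomputable def g5_5_7D : Tr (List ℕ) := (.node (nat_lit 14) (.node (nat_lit 7) (.node (nat_lit 3) (.node (nat_lit 1) (.leaf []) (.node (nat_lit 2) (.leaf []) (.leaf [nat_lit 0, nat_lit 0, nat_lit 0, nat_lit 0])))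
 (.node (nat_lit 5) (.node (nat_lit 4) (.leaf [nat_lit 1, nat_lit 1, nat_lit 1, nat_lit 1]) (.leaf [nat_lit 0, nat_lit 0, nat_lit 0, nat_lit 0, nat_lit 3])) (.node (nat_lit 6) (.leaf [nat_lit 1, nat_lit 2, nat_lit 2, nat_lit 2, nat_lit 2]) (.leaf [nat_lit 0, nat_lit 1, nat_lit 0, nat_lit 0, nat_lit 3, nat_lit 3]))))
 (.node (nat_lit 10) (.node (nat_lit 8) (.leaf [nat_lit 1, nat_lit 1, nat_lit 2, nat_lit 2, nat_lit 3, nat_lit 2]) (.node (nat_lit 9) (.leaf [nat_lit 7, nat_lit 7]) (.leaf [nat_lit 6, nat_lit 6])))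
 (.node (nat_lit 12) (.node (nat_lit 11) (.leaf [nat_lit 4, nat_lit 4, nat_lit 4, nat_lit 6, nat_lit 4, nat_lit 6, nat_lit 5]) (.leaf [nat_lit 4, nat_lit 7, nat_lit 5, nat_lit 7, nat_lit 5, nat_lit 5, nat_lit 5])) (.node (nat_lit 13) (.leaf [nat_lit 9, nat_lit 9, nat_lit 9, nat_lit 10]) (.leaf [nat_lit 11, nat_lit 8, nat_lit 8, nat_lit 8])))))
 (.node (nat_lit 21) (.node (nat_lit 17) (.node (nat_lit 15) (.leaf [nat_lit 8, nat_lit 11, nat_lit 11]) (.node (nat_lit 16) (.leaf [nat_lit 10, nat_lit 10, nat_lit 9]) (.leaf [nat_lit 12, nat_lit 15, nat_lit 13, nat_lit 13, nat_lit 14, nat_lit 12, nat_lit 12, nat_lit 12, nat_lit 14])))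
 (.node (nat_lit 19) (.node (nat_lit 18) (.leaf [nat_lit 15, nat_lit 13, nat_lit 13, nat_lit 13, nat_lit 15, nat_lit 12, nat_lit 12, nat_lit 14, nat_lit 13]) (.leaf [nat_lit 12, nat_lit 15, nat_lit 13, nat_lit 14, nat_lit 14, nat_lit 13, nat_lit 14, nat_lit 13, nat_lit 13, nat_lit 15, nat_lit 12])) (.node (nat_lit 20) (.leaf [nat_lit 18, nat_lit 18]) (.leaf [nat_lit 12, nat_lit 14, nat_lit 13, nat_lit 15, nat_lit 13, nat_lit 14, nat_lit 12, nat_lit 15, nat_lit 13, nat_lit 13]))))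
 (.node (nat_lit 24) (.node (nat_lit 22) (.leaf [nat_lit 12, nat_lit 12, nat_lit 14, nat_lit 13, nat_lit 15, nat_lit 12, nat_lit 14, nat_lit 12, nat_lit 15, nat_lit 13]) (.node (nat_lit 23) (.leaf [nat_lit 18, nat_lit 21, nat_lit 16]) (.leaf [nat_lit 21, nat_lit 17])))
 (.node (nat_lit 26) (.node (nat_lit 25) (.leaf [nat_lit 21, nat_lit 13, nat_lit 21, nat_lit 17, nat_lit 19]) (.leaf [nat_lit 11, nat_lit 8, nat_lit 12, nat_lit 21, nat_lit 17, nat_lit 19])) (.node (nat_lit 27) (.leaf [nat_lit 4, nat_lit 4, nat_lit 13, nat_lit 11, nat_lit 19, nat_lit 14, nat_lit 19]) (.leaf [nat_lit 3, nat_lit 2, nat_lit 16, nat_lit 5, nat_lit 13, nat_lit 11, nat_lit 20, nat_lit 12, nat_lit 19, nat_lit 17]))))))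
theorem g5_5_7slp : slpChk 24 (nat_lit 5) (nat_lit 31) g5_5_7S g5_5_7D 2 26 = true := by decide +kernel
theorem g5_5_7 : PQR M23.P 5 5 7 := pos (S := g5_5_7S) [nat_lit 5, nat_lit 1, nat_lit 7, nat_lit 5, nat_lit 6, nat_lit 4, nat_lit 3, nat_lit 1, nat_lit 5, nat_lit 3, nat_lit 0, nat_lit 4, nat_lit 0, nat_lit 3] [nat_lit 1, nat_lit 7, nat_lit 6, nat_lit 2, nat_lit 6, nat_lit 5, nat_lit 1, nat_lit 5, nat_lit 4, nat_lit 1] g5_5_7slp (by decide +kernel)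
noncomputable def g5_5_11s0 : ℕ := (nat_lit 0xbbab0986965c40f135325310729864)
noncomputable def g5_5_11s1 : ℕ := (nat_lit 0xbd43441a4e2580f545823aca34b613)
noncomputable def g5_5_11s2 : ℕ := (nat_lit 0xbc2b19a1d46594679d25208600ae4d)
noncomputable def g5_5_11s3 : ℕ := (nat_lit 0xbbad4045416404932c733c8af222ad)
noncomputable def g5_5_11s4 : ℕ := (nat_lit 0xbc5d0251a37d8c9608b35050b3caa0)
noncomputable def g5_5_11s5 : ℕ := (nat_lit 0xbb83240ad47d62b21d851b533828c0)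
noncomputable def g5_5_11s6 : ℕ := (nat_lit 0xbda2a2a26e684493c2467b0951ae80)
noncomputable def g5_5_11s7 : ℕ := (nat_lit 0xbd8818a6aa3c1e6151925a2651b5c0)
noncomputable def g5_5_11s8 : ℕ := (nat_lit 0xb958f91c758512a8b8d61208d9ac20)
noncomputable def g5_5_11s9 : ℕ := (nat_lit 0xba20e1cd6fa2895131a6926c589c20)
noncomputable def g5_5_11s10 : ℕ := (nat_lit 0xb8ac33b98f6ce84920d55c4a982820)
noncomputable def g5_5_11s11 : ℕ := (nat_lit 0xbd50d72cc3849f13888a9a4aca5820)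
noncomputable def g5_5_11s12 : ℕ := (nat_lit 0xb90758c9f69a5ab41ccc2b950a0820)
noncomputable def g5_5_11s13 : ℕ := (nat_lit 0xbc2837ca64899a8615cb524f6a8820)
noncomputable def g5_5_11s14 : ℕ := (nat_lit 0xbca9154e082918638dd54bdabb0820)
noncomputable def g5_5_11s15 : ℕ := (nat_lit 0xb8d1595a91324ad24cf05b1ee50820)
noncomputable def g5_5_11s16 : ℕ := (nat_lit 0xbae703bcac245144b6caa99d218820)
noncomputable def g5_5_11s17 : ℕ := (nat_lit 0xba4eca91d491550b216d99a2f18820)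
noncomputable def g5_5_11s18 : ℕ := (nat_lit 0xbd58a410b37c4f66a6905c9c618820)
noncomputable def g5_5_11s19 : ℕ := (nat_lit 0xbb2c9819c8795753d1536923218820)
noncomputable def g5_5_11s20 : ℕ := (nat_lit 0xbb2ad350abb464f5408999dc818820)
noncomputable def g5_5_11s21 : ℕ := (nat_lit 0xbbeb23b5ca6169682d0434e2918820)
noncomputable def g5_5_11s22 : ℕ := (nat_lit 0xbb5135bdd63160aa1ea964a2418820)
noncomputable def g5_5_11s23 : ℕ := (nat_lit 0xbc12ba18ad946c79b11553dc418820)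
noncomputable def g5_5_11s24 : ℕ := (nat_lit 0xbd6cb22627638cfa224a834b318820)
noncomputable def g5_5_11s25 : ℕ := (nat_lit 0xb926faa22da3a0b6255231cb618820)
noncomputable def g5_5_11s26 : ℕ := (nat_lit 0xb9da32494673eac5c4a8b4133a0820)
noncomputable def g5_5_11s27 : ℕ := (nat_lit 0xbd8948ca636a9e2438eb498b583020)
noncomputable def g5_5_11s28 : ℕ := (nat_lit 0xbdaa77b9909c8514292ba18612b480)
noncomputable def g5_5_11s29 : ℕ := (nat_lit 0xbc8145da217a5a29a9c8390662b215)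
noncomputable def g5_5_11S : Tr ℕ := (.node (nat_lit 15) (.node (nat_lit 7) (.node (nat_lit 3) (.node (nat_lit 1) (.leaf g5_5_11s0) (.node (nat_lit 2) (.leaf g5_5_11s1) (.leaf g5_5_11s2)))
 (.node (nat_lit 5) (.node (nat_lit 4) (.leaf g5_5_11s3) (.leaf g5_5_11s4)) (.node (nat_lit 6) (.leaf g5_5_11s5) (.leaf g5_5_11s6))))
 (.node (nat_lit 11) (.node (nat_lit 9) (.node (nat_lit 8) (.leaf g5_5_11s7) (.leaf g5_5_11s8)) (.node (nat_lit 10) (.leaf g5_5_11s9) (.leaf g5_5_11s10)))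
 (.node (nat_lit 13) (.node (nat_lit 12) (.leaf g5_5_11s11) (.leaf g5_5_11s12)) (.node (nat_lit 14) (.leaf g5_5_11s13) (.leaf g5_5_11s14)))))
 (.node (nat_lit 22) (.node (nat_lit 18) (.node (nat_lit 16) (.leaf g5_5_11s15) (.node (nat_lit 17) (.leaf g5_5_11s16) (.leaf g5_5_11s17)))
 (.node (nat_lit 20) (.node (nat_lit 19) (.leaf g5_5_11s18) (.leaf g5_5_11s19)) (.node (nat_lit 21) (.leaf g5_5_11s20) (.leaf g5_5_11s21))))
 (.node (nat_lit 26) (.node (nat_lit 24) (.node (nat_lit 23) (.leaf g5_5_11s22) (.leaf g5_5_11s23)) (.node (nat_lit 25) (.leaf g5_5_11s24) (.leaf g5_5_11s25)))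
 (.node (nat_lit 28) (.node (nat_lit 27) (.leaf g5_5_11s26) (.leaf g5_5_11s27)) (.node (nat_lit 29) (.leaf g5_5_11s28) (.leaf g5_5_11s29))))))
noncomputable def g5_5_11D : Tr (List ℕ) := (.node (nat_lit 15) (.node (nat_lit 7) (.node (nat_lit 3) (.node (nat_lit 1) (.leaf []) (.node (nat_lit 2) (.leaf []) (.leaf [nat_lit 0, nat_lit 0, nat_lit 0, nat_lit 0])))
 (.node (nat_lit 5) (.node (nat_lit 4) (.leaf [nat_lit 1, nat_lit 1, nat_lit 1, nat_lit 1]) (.leaf [nat_lit 0, nat_lit 3])) (.node (nat_lit 6) (.leaf [nat_lit 1, nat_lit 2]) (.leaf [nat_lit 3, nat_lit 2, nat_lit 1]))))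
 (.node (nat_lit 11) (.node (nat_lit 9) (.node (nat_lit 8) (.leaf [nat_lit 3, nat_lit 0, nat_lit 1]) (.leaf [nat_lit 4, nat_lit 7, nat_lit 5, nat_lit 6, nat_lit 6, nat_lit 5])) (.node (nat_lit 10) (.leaf [nat_lit 4, nat_lit 7, nat_lit 7, nat_lit 4, nat_lit 6, nat_lit 5]) (.leaf [nat_lit 6, nat_lit 4, nat_lit 4])))
 (.node (nat_lit 13) (.node (nat_lit 12) (.leaf [nat_lit 5, nat_lit 5, nat_lit 7]) (.leaf [nat_lit 8, nat_lit 11, nat_lit 8])) (.node (nat_lit 14) (.leaf [nat_lit 9, nat_lit 10, nat_lit 9]) (.leaf [nat_lit 10, nat_lit 9, nat_lit 9, nat_lit 9, nat_lit 9, nat_lit 10, nat_lit 10, nat_lit 9, nat_lit 10])))))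
 (.node (nat_lit 22) (.node (nat_lit 18) (.node (nat_lit 16) (.leaf [nat_lit 11, nat_lit 8, nat_lit 11, nat_lit 11, nat_lit 8, nat_lit 8, nat_lit 8, nat_lit 8, nat_lit 11]) (.node (nat_lit 17) (.leaf [nat_lit 13, nat_lit 15, nat_lit 15, nat_lit 12, nat_lit 12, nat_lit 12, nat_lit 15, nat_lit 13, nat_lit 13, nat_lit 14, nat_lit 12, nat_lit 14]) (.leaf [nat_lit 16, nat_lit 16])))
 (.node (nat_lit 20) (.node (nat_lit 19) (.leaf [nat_lit 13, nat_lit 15, nat_lit 13, nat_lit 15, nat_lit 12, nat_lit 12, nat_lit 14, nat_lit 13, nat_lit 15, nat_lit 13, nat_lit 15, nat_lit 15, nat_lit 15, nat_lit 15]) (.leaf [nat_lit 18, nat_lit 18])) (.node (nat_lit 21) (.leaf [nat_lit 13, nat_lit 15, nat_lit 12, nat_lit 15, nat_lit 15]) (.leaf [nat_lit 14, nat_lit 14, nat_lit 13, nat_lit 14, nat_lit 12]))))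
 (.node (nat_lit 26) (.node (nat_lit 24) (.node (nat_lit 23) (.leaf [nat_lit 16, nat_lit 20, nat_lit 18, nat_lit 17, nat_lit 18, nat_lit 18, nat_lit 20]) (.leaf [nat_lit 21, nat_lit 19, nat_lit 19, nat_lit 16, nat_lit 19, nat_lit 21, nat_lit 17])) (.node (nat_lit 25) (.leaf [nat_lit 21, nat_lit 18]) (.leaf [nat_lit 20, nat_lit 17])))
 (.node (nat_lit 28) (.node (nat_lit 27) (.leaf [nat_lit 12, nat_lit 17, nat_lit 22]) (.leaf [nat_lit 22, nat_lit 9, nat_lit 23, nat_lit 13, nat_lit 16, nat_lit 23])) (.node (nat_lit 29) (.leaf [nat_lit 19, nat_lit 5, nat_lit 10, nat_lit 13, nat_lit 21, nat_lit 17, nat_lit 23]) (.leaf [nat_lit 6, nat_lit 0, nat_lit 20, nat_lit 5, nat_lit 9, nat_lit 9, nat_lit 12, nat_lit 21, nat_lit 23]))))))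
theorem g5_5_11slp : slpChk 24 (nat_lit 5) (nat_lit 31) g5_5_11S g5_5_11D 2 28 = true := by decide +kernel
theorem g5_5_11 : PQR M23.P 5 5 11 := pos (S := g5_5_11S) [nat_lit 5, nat_lit 7, nat_lit 3, nat_lit 4, nat_lit 0, nat_lit 5, nat_lit 0, nat_lit 4, nat_lit 3, nat_lit 4, nat_lit 1, nat_lit 3, nat_lit 2, nat_lit 1] [nat_lit 3, nat_lit 7, nat_lit 1, nat_lit 3, nat_lit 6, nat_lit 3, nat_lit 4, nat_lit 0, nat_lit 5, nat_lit 4, nat_lit 3, nat_lit 1, nat_lit 4, nat_lit 2] g5_5_11slp (by decide +kernel)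
noncomputable def g5_5_23s0 : ℕ := (nat_lit 0xbdaaf634514b827900b45111059873)
noncomputable def g5_5_23s1 : ℕ := (nat_lit 0xbae2e992c03bc295547029a8868992)
noncomputable def g5_5_23s2 : ℕ := (nat_lit 0xbdaa802e04a3a5319de5609260c5aa)
noncomputable def g5_5_23s3 : ℕ := (nat_lit 0xbc545982a875061b2d84798f2489b0)
noncomputable def g5_5_23s4 : ℕ := (nat_lit 0xbc0ee686359a254511891acc5b09e0)
noncomputable def g5_5_23s5 : ℕ := (nat_lit 0xb8e0c7b6360d26932d0ea948a38a40)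
noncomputable def g5_5_23s6 : ℕ := (nat_lit 0xb8669692552b86a408f459a2f85980)
noncomputable def g5_5_23s7 : ℕ := (nat_lit 0xb8a08ac4a323a613b28b499f26aac0)
noncomputable def g5_5_23s8 : ℕ := (nat_lit 0xbc8e832de4859c96c6859898a1d420)
noncomputable def g5_5_23s9 : ℕ := (nat_lit 0xbb8493d94f8b56591194acd1019820)
noncomputable def g5_5_23s10 : ℕ := (nat_lit 0xbc9c838a76a8cca7c6096b16525020)
noncomputable def g5_5_23s11 : ℕ := (nat_lit 0xbc1e28d9495d4e62b1149b48374820)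
noncomputable def g5_5_23s12 : ℕ := (nat_lit 0xb9ac8229d3946b47ad898346728820)
noncomputable def g5_5_23s13 : ℕ := (nat_lit 0xbd5ac83dc75c4c9549142587328820)
noncomputable def g5_5_23s14 : ℕ := (nat_lit 0xbb07074d32b5115311a78954b78820)
noncomputable def g5_5_23s15 : ℕ := (nat_lit 0xbbd8e940f41cd362162d42ccaa8820)
noncomputable def g5_5_23s16 : ℕ := (nat_lit 0xbc255651c4395a979a6a5a23618820)
noncomputable def g5_5_23s17 : ℕ := (nat_lit 0xb92924d4b65c5b33a1867a9d018820)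
noncomputable def g5_5_23s18 : ℕ := (nat_lit 0xbd6cb22627638cfa224a834b318820)
noncomputable def g5_5_23s19 : ℕ := (nat_lit 0xb9e086be3593a6952d94b10a618820)
noncomputable def g5_5_23s20 : ℕ := (nat_lit 0xbb5135bdd63160aa1ea964a2418820)
noncomputable def g5_5_23s21 : ℕ := (nat_lit 0xbc12ba18ad946c79b11553dc418820)
noncomputable def g5_5_23s22 : ℕ := (nat_lit 0xb926faa22da3a0b6255231cb618820)
noncomputable def g5_5_23s23 : ℕ := (nat_lit 0xb9da32494673eac5c4a8b4133a0820)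
noncomputable def g5_5_23s24 : ℕ := (nat_lit 0xbd8948ca636a9e2438eb498b583020)
noncomputable def g5_5_23s25 : ℕ := (nat_lit 0xbdaa77b9909c8514292ba18612b480)
noncomputable def g5_5_23s26 : ℕ := (nat_lit 0xbc8145da217a5a29a9c8390662b215)
noncomputable def g5_5_23S : Tr ℕ := (.node (nat_lit 13) (.node (nat_lit 6) (.node (nat_lit 3) (.node (nat_lit 1) (.leaf g5_5_23s0) (.node (nat_lit 2) (.leaf g5_5_23s1) (.leaf g5_5_23s2))) (.node (nat_lit 4) (.leaf g5_5_23s3) (.node (nat_lit 5) (.leaf g5_5_23s4) (.leaf g5_5_23s5))))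
 (.node (nat_lit 9) (.node (nat_lit 7) (.leaf g5_5_23s6) (.node (nat_lit 8) (.leaf g5_5_23s7) (.leaf g5_5_23s8)))
 (.node (nat_lit 11) (.node (nat_lit 10) (.leaf g5_5_23s9) (.leaf g5_5_23s10)) (.node (nat_lit 12) (.leaf g5_5_23s11) (.leaf g5_5_23s12)))))
 (.node (nat_lit 20) (.node (nat_lit 16) (.node (nat_lit 14) (.leaf g5_5_23s13) (.node (nat_lit 15) (.leaf g5_5_23s14) (.leaf g5_5_23s15)))
 (.node (nat_lit 18) (.node (nat_lit 17) (.leaf g5_5_23s16) (.leaf g5_5_23s17)) (.node (nat_lit 19) (.leaf g5_5_23s18) (.leaf g5_5_23s19))))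
 (.node (nat_lit 23) (.node (nat_lit 21) (.leaf g5_5_23s20) (.node (nat_lit 22) (.leaf g5_5_23s21) (.leaf g5_5_23s22)))
 (.node (nat_lit 25) (.node (nat_lit 24) (.leaf g5_5_23s23) (.leaf g5_5_23s24)) (.node (nat_lit 26) (.leaf g5_5_23s25) (.leaf g5_5_23s26))))))
noncomputable def g5_5_23D : Tr (List ℕ) := (.node (nat_lit 13) (.node (nat_lit 6) (.node (nat_lit 3) (.node (nat_lit 1) (.leaf []) (.node (nat_lit 2) (.leaf []) (.leaf [nat_lit 0, nat_lit 0, nat_lit 0, nat_lit 0]))) (.node (nat_lit 4) (.leaf [nat_lit 1, nat_lit 1, nat_lit 1, nat_lit 1]) (.node (nat_lit 5) (.leaf [nat_lit 2, nat_lit 3, nat_lit 0]) (.leaf [nat_lit 2, nat_lit 1, nat_lit 0]))))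
 (.node (nat_lit 9) (.node (nat_lit 7) (.leaf [nat_lit 0, nat_lit 1, nat_lit 2, nat_lit 1]) (.node (nat_lit 8) (.leaf [nat_lit 3, nat_lit 0, nat_lit 3, nat_lit 2]) (.leaf [nat_lit 4, nat_lit 4, nat_lit 6, nat_lit 4, nat_lit 4])))
 (.node (nat_lit 11) (.node (nat_lit 10) (.leaf [nat_lit 5, nat_lit 5, nat_lit 7, nat_lit 5, nat_lit 5]) (.leaf [nat_lit 4, nat_lit 7, nat_lit 7, nat_lit 4])) (.node (nat_lit 12) (.leaf [nat_lit 5, nat_lit 6, nat_lit 6, nat_lit 5]) (.leaf [nat_lit 8, nat_lit 11, nat_lit 8, nat_lit 8, nat_lit 10, nat_lit 10])))))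
 (.node (nat_lit 20) (.node (nat_lit 16) (.node (nat_lit 14) (.leaf [nat_lit 11, nat_lit 11, nat_lit 9, nat_lit 9, nat_lit 10, nat_lit 9]) (.node (nat_lit 15) (.leaf [nat_lit 10, nat_lit 9, nat_lit 9, nat_lit 11, nat_lit 9]) (.leaf [nat_lit 8, nat_lit 10, nat_lit 8, nat_lit 8, nat_lit 11])))
 (.node (nat_lit 18) (.node (nat_lit 17) (.leaf [nat_lit 15, nat_lit 13, nat_lit 15, nat_lit 13, nat_lit 14, nat_lit 12, nat_lit 12, nat_lit 14]) (.leaf [nat_lit 15, nat_lit 13, nat_lit 13, nat_lit 15, nat_lit 12, nat_lit 14, nat_lit 12, nat_lit 14])) (.node (nat_lit 19) (.leaf [nat_lit 12, nat_lit 15, nat_lit 12, nat_lit 12, nat_lit 14]) (.leaf [nat_lit 14, nat_lit 13, nat_lit 13, nat_lit 15, nat_lit 13]))))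
 (.node (nat_lit 23) (.node (nat_lit 21) (.leaf [nat_lit 18, nat_lit 19, nat_lit 16, nat_lit 18, nat_lit 19]) (.node (nat_lit 22) (.leaf [nat_lit 19, nat_lit 18, nat_lit 17, nat_lit 19, nat_lit 18]) (.leaf [nat_lit 16, nat_lit 21])))
 (.node (nat_lit 25) (.node (nat_lit 24) (.leaf [nat_lit 17, nat_lit 15, nat_lit 19, nat_lit 17]) (.leaf [nat_lit 10, nat_lit 9, nat_lit 17, nat_lit 15, nat_lit 20, nat_lit 18, nat_lit 21])) (.node (nat_lit 26) (.leaf [nat_lit 6, nat_lit 5, nat_lit 18, nat_lit 9, nat_lit 14, nat_lit 13, nat_lit 17, nat_lit 19, nat_lit 21]) (.leaf [nat_lit 1, nat_lit 2, nat_lit 16, nat_lit 5, nat_lit 13, nat_lit 9, nat_lit 21, nat_lit 15, nat_lit 16, nat_lit 20]))))))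
theorem g5_5_23slp : slpChk 24 (nat_lit 5) (nat_lit 31) g5_5_23S g5_5_23D 2 25 = true := by decide +kernel
theorem g5_5_23 : PQR M23.P 5 5 23 := pos (S := g5_5_23S) [nat_lit 3, nat_lit 7, nat_lit 0, nat_lit 5, nat_lit 2, nat_lit 6, nat_lit 5, nat_lit 2, nat_lit 5, nat_lit 1, nat_lit 4, nat_lit 3, nat_lit 0, nat_lit 2, nat_lit 1] [nat_lit 3, nat_lit 1, nat_lit 7, nat_lit 1, nat_lit 2, nat_lit 6, nat_lit 2, nat_lit 0, nat_lit 5, nat_lit 3, nat_lit 4, nat_lit 3, nat_lit 0, nat_lit 2] g5_5_23slp (by decide +kernel)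
noncomputable def g5_7_7s0 : ℕ := (nat_lit 0xb85b488e50a9cc960aca4126f2b960)
noncomputable def g5_7_7s1 : ℕ := (nat_lit 0xbbc904b58e1466605568b168792823)
noncomputable def g5_7_7s2 : ℕ := (nat_lit 0xba5f42c67020aab0a1877346692ac0)
noncomputable def g5_7_7s3 : ℕ := (nat_lit 0xb9d4568dd4b425148a68230d503c2b)
noncomputable def g5_7_7s4 : ℕ := (nat_lit 0xbc1048baa37cced359625168164920)
noncomputable def g5_7_7s5 : ℕ := (nat_lit 0xbaa2570a767c98349c356acd482080)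
noncomputable def g5_7_7s6 : ℕ := (nat_lit 0xbad90b3a6541d322522a1bccd15420)
noncomputable def g5_7_7s7 : ℕ := (nat_lit 0xbcc4a8b13434895b21af7160b38c20)
noncomputable def g5_7_7s8 : ℕ := (nat_lit 0xbc0551a0d36c9447ad277468cb1420)
noncomputable def g5_7_7s9 : ℕ := (nat_lit 0xb8e85838d659de4535324444c9d420)
noncomputable def g5_7_7s10 : ℕ := (nat_lit 0xba965442a989a962386d9326f38820)
noncomputable def g5_7_7s11 : ℕ := (nat_lit 0xbb22d29df222906ada131ba8b48820)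
noncomputable def g5_7_7s12 : ℕ := (nat_lit 0xb9d50a48b3b38cb411ac7a47588820)
noncomputable def g5_7_7s13 : ℕ := (nat_lit 0xbbc93848743b928654cbb362a28820)
noncomputable def g5_7_7s14 : ℕ := (nat_lit 0xbca0fb4dcb49507aaa862362c18820)
noncomputable def g5_7_7s15 : ℕ := (nat_lit 0xbcd69958b5a44c4829ed621c718820)
noncomputable def g5_7_7s16 : ℕ := (nat_lit 0xbbd8459e29b39559b606920b418820)
noncomputable def g5_7_7s17 : ℕ := (nat_lit 0xbd9e854ca46461534967a25cd18820)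
noncomputable def g5_7_7s18 : ℕ := (nat_lit 0xbd987929cda948f4ccd442e3018820)
noncomputable def g5_7_7s19 : ℕ := (nat_lit 0xbb5135bdd63160aa1ea964a2418820)
noncomputable def g5_7_7s20 : ℕ := (nat_lit 0xbc12ba18ad946c79b11553dc418820)
noncomputable def g5_7_7s21 : ℕ := (nat_lit 0xbd6cb22627638cfa224a834b318820)
noncomputable def g5_7_7s22 : ℕ := (nat_lit 0xb926faa22da3a0b6255231cb618820)
noncomputable def g5_7_7s23 : ℕ := (nat_lit 0xb9da32494673eac5c4a8b4133a0820)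
noncomputable def g5_7_7s24 : ℕ := (nat_lit 0xbd8948ca636a9e2438eb498b583020)
noncomputable def g5_7_7s25 : ℕ := (nat_lit 0xbdaa77b9909c8514292ba18612b480)
noncomputable def g5_7_7s26 : ℕ := (nat_lit 0xbc8145da217a5a29a9c8390662b215)
noncomputable def g5_7_7S : Tr ℕ := (.node (nat_lit 13) (.node (nat_lit 6) (.node (nat_lit 3) (.node (nat_lit 1) (.leaf g5_7_7s0) (.node (nat_lit 2) (.leaf g5_7_7s1) (.leaf g5_7_7s2))) (.node (nat_lit 4) (.leaf g5_7_7s3) (.node (nat_lit 5) (.leaf g5_7_7s4) (.leaf g5_7_7s5))))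
 (.node (nat_lit 9) (.node (nat_lit 7) (.leaf g5_7_7s6) (.node (nat_lit 8) (.leaf g5_7_7s7) (.leaf g5_7_7s8)))
 (.node (nat_lit 11) (.node (nat_lit 10) (.leaf g5_7_7s9) (.leaf g5_7_7s10)) (.node (nat_lit 12) (.leaf g5_7_7s11) (.leaf g5_7_7s12)))))
 (.node (nat_lit 20) (.node (nat_lit 16) (.node (nat_lit 14) (.leaf g5_7_7s13) (.node (nat_lit 15) (.leaf g5_7_7s14) (.leaf g5_7_7s15)))
 (.node (nat_lit 18) (.node (nat_lit 17) (.leaf g5_7_7s16) (.leaf g5_7_7s17)) (.node (nat_lit 19) (.leaf g5_7_7s18) (.leaf g5_7_7s19))))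
 (.node (nat_lit 23) (.node (nat_lit 21) (.leaf g5_7_7s20) (.node (nat_lit 22) (.leaf g5_7_7s21) (.leaf g5_7_7s22)))
 (.node (nat_lit 25) (.node (nat_lit 24) (.leaf g5_7_7s23) (.leaf g5_7_7s24)) (.node (nat_lit 26) (.leaf g5_7_7s25) (.leaf g5_7_7s26))))))
noncomputable def g5_7_7D : Tr (List ℕ) := (.node (nat_lit 13) (.node (nat_lit 6) (.node (nat_lit 3) (.node (nat_lit 1) (.leaf []) (.node (nat_lit 2) (.leaf []) (.leaf [nat_lit 0, nat_lit 0, nat_lit 0, nat_lit 0]))) (.node (nat_lit 4) (.leaf [nat_lit 1, nat_lit 1, nat_lit 1, nat_lit 1, nat_lit 1, nat_lit 1]) (.node (nat_lit 5) (.leaf [nat_lit 3, nat_lit 0, nat_lit 1, nat_lit 1]) (.leaf [nat_lit 3, nat_lit 3, nat_lit 2, nat_lit 1]))))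
 (.node (nat_lit 9) (.node (nat_lit 7) (.leaf [nat_lit 4, nat_lit 0, nat_lit 4, nat_lit 4, nat_lit 4]) (.node (nat_lit 8) (.leaf [nat_lit 5, nat_lit 5, nat_lit 5, nat_lit 2, nat_lit 5]) (.leaf [nat_lit 0, nat_lit 0, nat_lit 4])))
 (.node (nat_lit 11) (.node (nat_lit 10) (.leaf [nat_lit 5, nat_lit 2, nat_lit 2]) (.leaf [nat_lit 9, nat_lit 6, nat_lit 8, nat_lit 7, nat_lit 7, nat_lit 9, nat_lit 6, nat_lit 9])) (.node (nat_lit 12) (.leaf [nat_lit 8, nat_lit 7, nat_lit 8, nat_lit 6, nat_lit 6, nat_lit 9, nat_lit 7, nat_lit 8]) (.leaf [nat_lit 7, nat_lit 8, nat_lit 8, nat_lit 8])))))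
 (.node (nat_lit 20) (.node (nat_lit 16) (.node (nat_lit 14) (.leaf [nat_lit 9, nat_lit 9, nat_lit 9, nat_lit 6]) (.node (nat_lit 15) (.leaf [nat_lit 10, nat_lit 10, nat_lit 12, nat_lit 12, nat_lit 10, nat_lit 13]) (.leaf [nat_lit 12, nat_lit 11, nat_lit 13, nat_lit 13, nat_lit 11, nat_lit 11])))
 (.node (nat_lit 18) (.node (nat_lit 17) (.leaf [nat_lit 11, nat_lit 12, nat_lit 10, nat_lit 12, nat_lit 12, nat_lit 12, nat_lit 10, nat_lit 12, nat_lit 11, nat_lit 12, nat_lit 10, nat_lit 13]) (.leaf [nat_lit 11, nat_lit 11, nat_lit 12, nat_lit 10, nat_lit 10])) (.node (nat_lit 19) (.leaf [nat_lit 11, nat_lit 11, nat_lit 13, nat_lit 10, nat_lit 10]) (.leaf [nat_lit 16, nat_lit 14, nat_lit 18, nat_lit 14, nat_lit 18]))))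
 (.node (nat_lit 23) (.node (nat_lit 21) (.leaf [nat_lit 17, nat_lit 15, nat_lit 17, nat_lit 15, nat_lit 16]) (.node (nat_lit 22) (.leaf [nat_lit 19, nat_lit 16, nat_lit 20]) (.leaf [nat_lit 19, nat_lit 18, nat_lit 19])))
 (.node (nat_lit 25) (.node (nat_lit 24) (.leaf [nat_lit 14, nat_lit 11, nat_lit 18]) (.leaf [nat_lit 16, nat_lit 6, nat_lit 12, nat_lit 11, nat_lit 18, nat_lit 14, nat_lit 19])) (.node (nat_lit 26) (.leaf [nat_lit 5, nat_lit 10, nat_lit 7, nat_lit 11, nat_lit 19, nat_lit 16]) (.leaf [nat_lit 14, nat_lit 3, nat_lit 5, nat_lit 12, nat_lit 6, nat_lit 17, nat_lit 11, nat_lit 15]))))))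
theorem g5_7_7slp : slpChk 24 (nat_lit 5) (nat_lit 31) g5_7_7S g5_7_7D 2 25 = true := by decide +kernel
theorem g5_7_7 : PQR M23.P 5 7 7 := pos (S := g5_7_7S) [nat_lit 1, nat_lit 2, nat_lit 6, nat_lit 5, nat_lit 0, nat_lit 3, nat_lit 4, nat_lit 1, nat_lit 2, nat_lit 1] [nat_lit 6, nat_lit 4, nat_lit 0, nat_lit 7, nat_lit 2, nat_lit 6, nat_lit 5, nat_lit 1, nat_lit 5, nat_lit 3, nat_lit 2, nat_lit 1, nat_lit 4, nat_lit 1] g5_7_7slp (by decide +kernel)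
noncomputable def g5_7_11s0 : ℕ := (nat_lit 0xbb1406ccd043a27588967ca8508ea9)
noncomputable def g5_7_11s1 : ℕ := (nat_lit 0xb8daca494034d160adf181dc42a6a2)
noncomputable def g5_7_11s2 : ℕ := (nat_lit 0xba025919b03ba765d40f6448912874)
noncomputable def g5_7_11s3 : ℕ := (nat_lit 0xbb03374907496b45444d33c64b0170)
noncomputable def g5_7_11s4 : ℕ := (nat_lit 0xbcd0709526a8daf8c094149d653160)
noncomputable def g5_7_11s5 : ℕ := (nat_lit 0xb91e8b196a615a208e35a424971e60)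
noncomputable def g5_7_11s6 : ℕ := (nat_lit 0xb9a840cca963d4369d6e8a25615600)
noncomputable def g5_7_11s7 : ℕ := (nat_lit 0xb9055914e17216f4b60655a3460e60)
noncomputable def g5_7_11s8 : ℕ := (nat_lit 0xb88ad3c12b1ce51a28d5792cc72020)
noncomputable def g5_7_11s9 : ℕ := (nat_lit 0xb950b7359238e8482a229a6a67d820)
noncomputable def g5_7_11s10 : ℕ := (nat_lit 0xb8cd3b2ce253e2d4c1959508e41420)
noncomputable def g5_7_11s11 : ℕ := (nat_lit 0xbcd06a1daa7118993d638d445b4020)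
noncomputable def g5_7_11s12 : ℕ := (nat_lit 0xb95f0a4d6e24867ab6c64a99140820)
noncomputable def g5_7_11s13 : ℕ := (nat_lit 0xba57393894ac145898e3622cf68820)
noncomputable def g5_7_11s14 : ℕ := (nat_lit 0xbc8cdabc68b39944c08a3ce2b28820)
noncomputable def g5_7_11s15 : ℕ := (nat_lit 0xbbe6c358aa93a8d221703d46988820)
noncomputable def g5_7_11s16 : ℕ := (nat_lit 0xbb54c79cb044486aae534d1d618820)
noncomputable def g5_7_11s17 : ℕ := (nat_lit 0xb9166425d0996d4554ef9322d18820)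
noncomputable def g5_7_11s18 : ℕ := (nat_lit 0xbd58a410b37c4f66a6905c9c618820)
noncomputable def g5_7_11s19 : ℕ := (nat_lit 0xbb2c9819c8795753d1536923218820)
noncomputable def g5_7_11s20 : ℕ := (nat_lit 0xbd268341c9595e46b2563d62a18820)
noncomputable def g5_7_11s21 : ℕ := (nat_lit 0xba0d6aa4b26c56a792143cdcc18820)
noncomputable def g5_7_11s22 : ℕ := (nat_lit 0xbb5135bdd63160aa1ea964a2418820)
noncomputable def g5_7_11s23 : ℕ := (nat_lit 0xbc12ba18ad946c79b11553dc418820)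
noncomputable def g5_7_11s24 : ℕ := (nat_lit 0xbd6cb22627638cfa224a834b318820)
noncomputable def g5_7_11s25 : ℕ := (nat_lit 0xb926faa22da3a0b6255231cb618820)
noncomputable def g5_7_11s26 : ℕ := (nat_lit 0xb9da32494673eac5c4a8b4133a0820)
noncomputable def g5_7_11s27 : ℕ := (nat_lit 0xbd8948ca636a9e2438eb498b583020)
noncomputable def g5_7_11s28 : ℕ := (nat_lit 0xbdaa77b9909c8514292ba18612b480)
noncomputable def g5_7_11s29 : ℕ := (nat_lit 0xbc8145da217a5a29a9c8390662b215)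
noncomputable def g5_7_11S : Tr ℕ := (.node (nat_lit 15) (.node (nat_lit 7) (.node (nat_lit 3) (.node (nat_lit 1) (.leaf g5_7_11s0) (.node (nat_lit 2) (.leaf g5_7_11s1) (.leaf g5_7_11s2)))
 (.node (nat_lit 5) (.node (nat_lit 4) (.leaf g5_7_11s3) (.leaf g5_7_11s4)) (.node (nat_lit 6) (.leaf g5_7_11s5) (.leaf g5_7_11s6))))
 (.node (nat_lit 11) (.node (nat_lit 9) (.node (nat_lit 8) (.leaf g5_7_11s7) (.leaf g5_7_11s8)) (.node (nat_lit 10) (.leaf g5_7_11s9) (.leaf g5_7_11s10)))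
 (.node (nat_lit 13) (.node (nat_lit 12) (.leaf g5_7_11s11) (.leaf g5_7_11s12)) (.node (nat_lit 14) (.leaf g5_7_11s13) (.leaf g5_7_11s14)))))
 (.node (nat_lit 22) (.node (nat_lit 18) (.node (nat_lit 16) (.leaf g5_7_11s15) (.node (nat_lit 17) (.leaf g5_7_11s16) (.leaf g5_7_11s17)))
 (.node (nat_lit 20) (.node (nat_lit 19) (.leaf g5_7_11s18) (.leaf g5_7_11s19)) (.node (nat_lit 21) (.leaf g5_7_11s20) (.leaf g5_7_11s21))))
 (.node (nat_lit 26) (.node (nat_lit 24) (.node (nat_lit 23) (.leaf g5_7_11s22) (.leaf g5_7_11s23)) (.node (nat_lit 25) (.leaf g5_7_11s24) (.leaf g5_7_11s25)))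
 (.node (nat_lit 28) (.node (nat_lit 27) (.leaf g5_7_11s26) (.leaf g5_7_11s27)) (.node (nat_lit 29) (.leaf g5_7_11s28) (.leaf g5_7_11s29))))))
noncomputable def g5_7_11D : Tr (List ℕ) := (.node (nat_lit 15) (.node (nat_lit 7) (.node (nat_lit 3) (.node (nat_lit 1) (.leaf []) (.node (nat_lit 2) (.leaf []) (.leaf [nat_lit 0, nat_lit 0, nat_lit 0, nat_lit 0])))
 (.node (nat_lit 5) (.node (nat_lit 4) (.leaf [nat_lit 1, nat_lit 1, nat_lit 1, nat_lit 1, nat_lit 1, nat_lit 1]) (.leaf [nat_lit 3, nat_lit 3, nat_lit 0])) (.node (nat_lit 6) (.leaf [nat_lit 2, nat_lit 1, nat_lit 1]) (.leaf [nat_lit 2, nat_lit 3, nat_lit 0, nat_lit 0, nat_lit 1, nat_lit 2]))))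
 (.node (nat_lit 11) (.node (nat_lit 9) (.node (nat_lit 8) (.leaf [nat_lit 0, nat_lit 3, nat_lit 2, nat_lit 2, nat_lit 1, nat_lit 0]) (.leaf [nat_lit 7, nat_lit 5, nat_lit 5, nat_lit 7, nat_lit 5])) (.node (nat_lit 10) (.leaf [nat_lit 4, nat_lit 6, nat_lit 4, nat_lit 4, nat_lit 6]) (.leaf [nat_lit 4, nat_lit 4, nat_lit 7, nat_lit 4, nat_lit 6])))
 (.node (nat_lit 13) (.node (nat_lit 12) (.leaf [nat_lit 7, nat_lit 5, nat_lit 6, nat_lit 5, nat_lit 5]) (.leaf [nat_lit 10, nat_lit 8, nat_lit 8, nat_lit 8, nat_lit 11, nat_lit 9, nat_lit 11, nat_lit 9, nat_lit 11])) (.node (nat_lit 14) (.leaf [nat_lit 10, nat_lit 8, nat_lit 10, nat_lit 8, nat_lit 10, nat_lit 9, nat_lit 9, nat_lit 9, nat_lit 11]) (.leaf [nat_lit 10, nat_lit 9, nat_lit 11, nat_lit 9, nat_lit 10, nat_lit 9, nat_lit 10])))))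
 (.node (nat_lit 22) (.node (nat_lit 18) (.node (nat_lit 16) (.leaf [nat_lit 11, nat_lit 8, nat_lit 11, nat_lit 8, nat_lit 10, nat_lit 8, nat_lit 11]) (.node (nat_lit 17) (.leaf [nat_lit 12, nat_lit 14, nat_lit 12, nat_lit 12, nat_lit 14, nat_lit 12, nat_lit 15, nat_lit 12, nat_lit 12, nat_lit 12, nat_lit 12, nat_lit 15]) (.leaf [nat_lit 16, nat_lit 16])))
 (.node (nat_lit 20) (.node (nat_lit 19) (.leaf [nat_lit 13, nat_lit 13, nat_lit 13, nat_lit 14, nat_lit 14, nat_lit 14, nat_lit 14, nat_lit 12]) (.leaf [nat_lit 13, nat_lit 15, nat_lit 15, nat_lit 15, nat_lit 15, nat_lit 12, nat_lit 12, nat_lit 12])) (.node (nat_lit 21) (.leaf [nat_lit 14, nat_lit 13, nat_lit 15, nat_lit 13, nat_lit 14, nat_lit 13, nat_lit 13, nat_lit 15]) (.leaf [nat_lit 14, nat_lit 12, nat_lit 12, nat_lit 15, nat_lit 12, nat_lit 14, nat_lit 12, nat_lit 15]))))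
 (.node (nat_lit 26) (.node (nat_lit 24) (.node (nat_lit 23) (.leaf [nat_lit 16, nat_lit 18, nat_lit 18, nat_lit 20, nat_lit 16, nat_lit 19]) (.leaf [nat_lit 18, nat_lit 17, nat_lit 21, nat_lit 19, nat_lit 19, nat_lit 17])) (.node (nat_lit 25) (.leaf [nat_lit 21, nat_lit 18, nat_lit 23]) (.leaf [nat_lit 16, nat_lit 22])))
 (.node (nat_lit 28) (.node (nat_lit 27) (.leaf [nat_lit 15, nat_lit 13, nat_lit 20, nat_lit 17, nat_lit 23]) (.leaf [nat_lit 19, nat_lit 9, nat_lit 18, nat_lit 13, nat_lit 19, nat_lit 22])) (.node (nat_lit 29) (.leaf [nat_lit 15, nat_lit 4, nat_lit 19, nat_lit 13, nat_lit 18, nat_lit 23]) (.leaf [nat_lit 7, nat_lit 2, nat_lit 15, nat_lit 4, nat_lit 11, nat_lit 9, nat_lit 13, nat_lit 13, nat_lit 21, nat_lit 16, nat_lit 22]))))))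
theorem g5_7_11slp : slpChk 24 (nat_lit 5) (nat_lit 31) g5_7_11S g5_7_11D 2 28 = true := by decide +kernel
theorem g5_7_11 : PQR M23.P 5 7 11 := pos (S := g5_7_11S) [nat_lit 0, nat_lit 7, nat_lit 1, nat_lit 5, nat_lit 6, nat_lit 1, nat_lit 5, nat_lit 4, nat_lit 2, nat_lit 1, nat_lit 3, nat_lit 0] [nat_lit 6, nat_lit 4, nat_lit 7, nat_lit 1, nat_lit 3, nat_lit 6, nat_lit 4, nat_lit 3, nat_lit 1, nat_lit 5, nat_lit 0, nat_lit 4, nat_lit 0, nat_lit 3, nat_lit 2, nat_lit 0] g5_7_11slp (by decide +kernel)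
noncomputable def g5_7_23s0 : ℕ := (nat_lit 0xba5a37a227642565aa61a004571aa4)
noncomputable def g5_7_23s1 : ℕ := (nat_lit 0xbc28f0da405b1b151488324533d46e)
noncomputable def g5_7_23s2 : ℕ := (nat_lit 0xbb0274b62e98eaf5aad280880a1506)
noncomputable def g5_7_23s3 : ℕ := (nat_lit 0xbc85524596a01ae7acc819d4909670)
noncomputable def g5_7_23s4 : ℕ := (nat_lit 0xb8672320e5a3d248aa0eb30551b560)
noncomputable def g5_7_23s5 : ℕ := (nat_lit 0xb9c8fad169720460a9b28ce0c196c0)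
noncomputable def g5_7_23s6 : ℕ := (nat_lit 0xbc26740cc2551ac7ae35726442d820)
noncomputable def g5_7_23s7 : ℕ := (nat_lit 0xb890ea953659dac53cd3a446494020)
noncomputable def g5_7_23s8 : ℕ := (nat_lit 0xb9ca26ce237b248b2a8e5d4d022420)
noncomputable def g5_7_23s9 : ℕ := (nat_lit 0xbacc9936247a26e3a84cb16a385020)
noncomputable def g5_7_23s10 : ℕ := (nat_lit 0xb9566659eeaa86d21e7044a9148820)
noncomputable def g5_7_23s11 : ℕ := (nat_lit 0xbc9e5498888c193ab867552cb68820)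
noncomputable def g5_7_23s12 : ℕ := (nat_lit 0xbae09b54727c5869d147234a870820)
noncomputable def g5_7_23s13 : ℕ := (nat_lit 0xbce4a5c1d578ccdb2684430a788820)
noncomputable def g5_7_23s14 : ℕ := (nat_lit 0xba9b5b48a93468864ceb811cf18820)
noncomputable def g5_7_23s15 : ℕ := (nat_lit 0xbce8d549c7216ab45a0c4be2618820)
noncomputable def g5_7_23s16 : ℕ := (nat_lit 0xbbeb23b5ca6169682d0434e2918820)
noncomputable def g5_7_23s17 : ℕ := (nat_lit 0xbb2ad350abb464f5408999dc818820)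
noncomputable def g5_7_23s18 : ℕ := (nat_lit 0xb9d367add3814d263488a2a3518820)
noncomputable def g5_7_23s19 : ℕ := (nat_lit 0xbd087830af9c54b91aa8b35c918820)
noncomputable def g5_7_23s20 : ℕ := (nat_lit 0xbb5135bdd63160aa1ea964a2418820)
noncomputable def g5_7_23s21 : ℕ := (nat_lit 0xbc12ba18ad946c79b11553dc418820)
noncomputable def g5_7_23s22 : ℕ := (nat_lit 0xbd6cb22627638cfa224a834b318820)
noncomputable def g5_7_23s23 : ℕ := (nat_lit 0xb926faa22da3a0b6255231cb618820)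
noncomputable def g5_7_23s24 : ℕ := (nat_lit 0xb9da32494673eac5c4a8b4133a0820)
noncomputable def g5_7_23s25 : ℕ := (nat_lit 0xbd8948ca636a9e2438eb498b583020)
noncomputable def g5_7_23s26 : ℕ := (nat_lit 0xbdaa77b9909c8514292ba18612b480)
noncomputable def g5_7_23s27 : ℕ := (nat_lit 0xbc8145da217a5a29a9c8390662b215)
noncomputable def g5_7_23S : Tr ℕ := (.node (nat_lit 14) (.node (nat_lit 7) (.node (nat_lit 3) (.node (nat_lit 1) (.leaf g5_7_23s0) (.node (nat_lit 2) (.leaf g5_7_23s1) (.leaf g5_7_23s2)))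
 (.node (nat_lit 5) (.node (nat_lit 4) (.leaf g5_7_23s3) (.leaf g5_7_23s4)) (.node (nat_lit 6) (.leaf g5_7_23s5) (.leaf g5_7_23s6))))
 (.node (nat_lit 10) (.node (nat_lit 8) (.leaf g5_7_23s7) (.node (nat_lit 9) (.leaf g5_7_23s8) (.leaf g5_7_23s9)))
 (.node (nat_lit 12) (.node (nat_lit 11) (.leaf g5_7_23s10) (.leaf g5_7_23s11)) (.node (nat_lit 13) (.leaf g5_7_23s12) (.leaf g5_7_23s13)))))
 (.node (nat_lit 21) (.node (nat_lit 17) (.node (nat_lit 15) (.leaf g5_7_23s14) (.node (nat_lit 16) (.leaf g5_7_23s15) (.leaf g5_7_23s16)))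
 (.node (nat_lit 19) (.node (nat_lit 18) (.leaf g5_7_23s17) (.leaf g5_7_23s18)) (.node (nat_lit 20) (.leaf g5_7_23s19) (.leaf g5_7_23s20))))
 (.node (nat_lit 24) (.node (nat_lit 22) (.leaf g5_7_23s21) (.node (nat_lit 23) (.leaf g5_7_23s22) (.leaf g5_7_23s23)))
 (.node (nat_lit 26) (.node (nat_lit 25) (.leaf g5_7_23s24) (.leaf g5_7_23s25)) (.node (nat_lit 27) (.leaf g5_7_23s26) (.leaf g5_7_23s27))))))
noncomputable def g5_7_23D : Tr (List ℕ) := (.node (nat_lit 14) (.node (nat_lit 7) (.node (nat_lit 3) (.node (nat_lit 1) (.leaf []) (.node (nat_lit 2) (.leaf []) (.leaf [nat_lit 0, nat_lit 0, nat_lit 0, nat_lit 0])))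
 (.node (nat_lit 5) (.node (nat_lit 4) (.leaf [nat_lit 1, nat_lit 1, nat_lit 1, nat_lit 1, nat_lit 1, nat_lit 1]) (.leaf [nat_lit 0, nat_lit 1, nat_lit 0, nat_lit 3])) (.node (nat_lit 6) (.leaf [nat_lit 1, nat_lit 2, nat_lit 3, nat_lit 2]) (.leaf [nat_lit 2, nat_lit 3, nat_lit 2, nat_lit 1, nat_lit 0, nat_lit 3, nat_lit 2]))))
 (.node (nat_lit 10) (.node (nat_lit 8) (.leaf [nat_lit 0, nat_lit 1, nat_lit 2, nat_lit 3, nat_lit 0, nat_lit 1, nat_lit 0]) (.node (nat_lit 9) (.leaf [nat_lit 4, nat_lit 4, nat_lit 6, nat_lit 5, nat_lit 6, nat_lit 5, nat_lit 7, nat_lit 5]) (.leaf [nat_lit 4, nat_lit 6, nat_lit 4, nat_lit 7, nat_lit 4, nat_lit 7, nat_lit 5, nat_lit 5])))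
 (.node (nat_lit 12) (.node (nat_lit 11) (.leaf [nat_lit 9, nat_lit 6, nat_lit 8, nat_lit 6, nat_lit 8, nat_lit 7]) (.leaf [nat_lit 6, nat_lit 9, nat_lit 7, nat_lit 9, nat_lit 7, nat_lit 8])) (.node (nat_lit 13) (.leaf [nat_lit 7, nat_lit 8, nat_lit 8, nat_lit 7, nat_lit 7, nat_lit 8, nat_lit 8]) (.leaf [nat_lit 9, nat_lit 9, nat_lit 6, nat_lit 6, nat_lit 9, nat_lit 9, nat_lit 6])))))
 (.node (nat_lit 21) (.node (nat_lit 17) (.node (nat_lit 15) (.leaf [nat_lit 11, nat_lit 12, nat_lit 12, nat_lit 10, nat_lit 12, nat_lit 10, nat_lit 13, nat_lit 13, nat_lit 13, nat_lit 11]) (.node (nat_lit 16) (.leaf [nat_lit 10, nat_lit 12, nat_lit 12, nat_lit 12, nat_lit 11, nat_lit 13, nat_lit 11, nat_lit 13, nat_lit 13, nat_lit 10]) (.leaf [nat_lit 12, nat_lit 10, nat_lit 12, nat_lit 11, nat_lit 13, nat_lit 13, nat_lit 11, nat_lit 13])))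
 (.node (nat_lit 19) (.node (nat_lit 18) (.leaf [nat_lit 12, nat_lit 10, nat_lit 12, nat_lit 12, nat_lit 10, nat_lit 13, nat_lit 11, nat_lit 13]) (.leaf [nat_lit 11, nat_lit 11, nat_lit 13, nat_lit 11, nat_lit 11, nat_lit 13, nat_lit 10])) (.node (nat_lit 20) (.leaf [nat_lit 11, nat_lit 12, nat_lit 10, nat_lit 10, nat_lit 12, nat_lit 10, nat_lit 10]) (.leaf [nat_lit 14, nat_lit 18, nat_lit 15, nat_lit 19, nat_lit 17, nat_lit 14]))))
 (.node (nat_lit 24) (.node (nat_lit 22) (.leaf [nat_lit 15, nat_lit 16, nat_lit 18, nat_lit 14, nat_lit 19, nat_lit 15]) (.node (nat_lit 23) (.leaf [nat_lit 16, nat_lit 15, nat_lit 20]) (.leaf [nat_lit 17, nat_lit 14, nat_lit 21])))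
 (.node (nat_lit 26) (.node (nat_lit 25) (.leaf [nat_lit 14, nat_lit 11, nat_lit 17, nat_lit 15, nat_lit 21]) (.leaf [nat_lit 17, nat_lit 6, nat_lit 10, nat_lit 13, nat_lit 21])) (.node (nat_lit 27) (.leaf [nat_lit 10, nat_lit 4, nat_lit 10, nat_lit 9, nat_lit 19, nat_lit 11, nat_lit 18]) (.leaf [nat_lit 8, nat_lit 2, nat_lit 10, nat_lit 5, nat_lit 7, nat_lit 9, nat_lit 20, nat_lit 11, nat_lit 20, nat_lit 15]))))))
theorem g5_7_23slp : slpChk 24 (nat_lit 5) (nat_lit 31) g5_7_23S g5_7_23D 2 26 = true := by decide +kernel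
theorem g5_7_23 : PQR M23.P 5 7 23 := pos (S := g5_7_23S) [nat_lit 5, nat_lit 7, nat_lit 1, nat_lit 6, nat_lit 2, nat_lit 6, nat_lit 3, nat_lit 4, nat_lit 0, nat_lit 5, nat_lit 4, nat_lit 1, nat_lit 3, nat_lit 1, nat_lit 2] [nat_lit 7, nat_lit 0, nat_lit 7, nat_lit 5, nat_lit 2, nat_lit 6, nat_lit 2, nat_lit 5, nat_lit 3, nat_lit 1, nat_lit 4, nat_lit 1, nat_lit 3, nat_lit 1, nat_lit 2] g5_7_23slp (by decide +kernel)
noncomputable def g5_11_11s0 : ℕ := (nat_lit 0xb80a374a8d9ac4a444cfa9d2465830)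
noncomputable def g5_11_11s1 : ℕ := (nat_lit 0xb9d359c15471ac190df14300d11564)
noncomputable def g5_11_11s2 : ℕ := (nat_lit 0xb88f17c94044e03730ab326a4a3436)
noncomputable def g5_11_11s3 : ℕ := (nat_lit 0xbb6909ad124bc860c6a7b384050d85)
noncomputable def g5_11_11s4 : ℕ := (nat_lit 0xbd173716c6505f21a4ec8a055811a0)
noncomputable def g5_11_11s5 : ℕ := (nat_lit 0xbc496a30e36cc28abd464c242595c0)
noncomputable def g5_11_11s6 : ℕ := (nat_lit 0xbae8e6062a4d887ac9b31c1e5408c0)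
noncomputable def g5_11_11s7 : ℕ := (nat_lit 0xbb97542a262d133b41e36048d38a40)
noncomputable def g5_11_11s8 : ℕ := (nat_lit 0xbc0c9149915d90e515a499c747d420)
noncomputable def g5_11_11s9 : ℕ := (nat_lit 0xbb8443ca161b1317ae8d355482cc20)
noncomputable def g5_11_11s10 : ℕ := (nat_lit 0xb9a68a35c93c98283cb658d51a9020)
noncomputable def g5_11_11s11 : ℕ := (nat_lit 0xba073ab88b5464d396147d92233020)
noncomputable def g5_11_11s12 : ℕ := (nat_lit 0xbb46f2cd9652e063d1357464440820)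
noncomputable def g5_11_11s13 : ℕ := (nat_lit 0xbc10a914cda1ed173d235b264a8820)
noncomputable def g5_11_11s14 : ℕ := (nat_lit 0xba1c78bdac9c24951ab41948bb0820)
noncomputable def g5_11_11s15 : ℕ := (nat_lit 0xb8d287b66e9563022d96a28c538820)
noncomputable def g5_11_11s16 : ℕ := (nat_lit 0xbae957b6289ba44b1cd0524ac18820)
noncomputable def g5_11_11s17 : ℕ := (nat_lit 0xbcc8cb2a265b8f47c9096c0b518820)
noncomputable def g5_11_11s18 : ℕ := (nat_lit 0xbd268341c9595e46b2563d62a18820)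
noncomputable def g5_11_11s19 : ℕ := (nat_lit 0xba0d6aa4b26c56a792143cdcc18820)
noncomputable def g5_11_11s20 : ℕ := (nat_lit 0xbc12ba18ad946c79b11553dc418820)
noncomputable def g5_11_11s21 : ℕ := (nat_lit 0xbb5135bdd63160aa1ea964a2418820)
noncomputable def g5_11_11s22 : ℕ := (nat_lit 0xbd6cb22627638cfa224a834b318820)
noncomputable def g5_11_11s23 : ℕ := (nat_lit 0xb926faa22da3a0b6255231cb618820)
noncomputable def g5_11_11s24 : ℕ := (nat_lit 0xb9da32494673eac5c4a8b4133a0820)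
noncomputable def g5_11_11s25 : ℕ := (nat_lit 0xbd8948ca636a9e2438eb498b583020)
noncomputable def g5_11_11s26 : ℕ := (nat_lit 0xbdaa77b9909c8514292ba18612b480)
noncomputable def g5_11_11s27 : ℕ := (nat_lit 0xbc8145da217a5a29a9c8390662b215)
noncomputable def g5_11_11S : Tr ℕ := (.node (nat_lit 14) (.node (nat_lit 7) (.node (nat_lit 3) (.node (nat_lit 1) (.leaf g5_11_11s0) (.node (nat_lit 2) (.leaf g5_11_11s1) (.leaf g5_11_11s2)))
 (.node (nat_lit 5) (.node (nat_lit 4) (.leaf g5_11_11s3) (.leaf g5_11_11s4)) (.node (nat_lit 6) (.leaf g5_11_11s5) (.leaf g5_11_11s6))))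
 (.node (nat_lit 10) (.node (nat_lit 8) (.leaf g5_11_11s7) (.node (nat_lit 9) (.leaf g5_11_11s8) (.leaf g5_11_11s9)))
 (.node (nat_lit 12) (.node (nat_lit 11) (.leaf g5_11_11s10) (.leaf g5_11_11s11)) (.node (nat_lit 13) (.leaf g5_11_11s12) (.leaf g5_11_11s13)))))
 (.node (nat_lit 21) (.node (nat_lit 17) (.node (nat_lit 15) (.leaf g5_11_11s14) (.node (nat_lit 16) (.leaf g5_11_11s15) (.leaf g5_11_11s16)))
 (.node (nat_lit 19) (.node (nat_lit 18) (.leaf g5_11_11s17) (.leaf g5_11_11s18)) (.node (nat_lit 20) (.leaf g5_11_11s19) (.leaf g5_11_11s20))))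
 (.node (nat_lit 24) (.node (nat_lit 22) (.leaf g5_11_11s21) (.node (nat_lit 23) (.leaf g5_11_11s22) (.leaf g5_11_11s23)))
 (.node (nat_lit 26) (.node (nat_lit 25) (.leaf g5_11_11s24) (.leaf g5_11_11s25)) (.node (nat_lit 27) (.leaf g5_11_11s26) (.leaf g5_11_11s27))))))
noncomputable def g5_11_11D : Tr (List ℕ) := (.node (nat_lit 14) (.node (nat_lit 7) (.node (nat_lit 3) (.node (nat_lit 1) (.leaf []) (.node (nat_lit 2) (.leaf []) (.leaf [nat_lit 0, nat_lit 0, nat_lit 0, nat_lit 0])))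
 (.node (nat_lit 5) (.node (nat_lit 4) (.leaf [nat_lit 1, nat_lit 1, nat_lit 1, nat_lit 1, nat_lit 1, nat_lit 1, nat_lit 1, nat_lit 1, nat_lit 1, nat_lit 1]) (.leaf [nat_lit 0, nat_lit 1, nat_lit 1, nat_lit 1])) (.node (nat_lit 6) (.leaf [nat_lit 3, nat_lit 3, nat_lit 3, nat_lit 2]) (.leaf [nat_lit 3, nat_lit 3, nat_lit 2, nat_lit 2, nat_lit 2]))))
 (.node (nat_lit 10) (.node (nat_lit 8) (.leaf [nat_lit 0, nat_lit 0, nat_lit 0, nat_lit 1, nat_lit 1]) (.node (nat_lit 9) (.leaf [nat_lit 6, nat_lit 4, nat_lit 4, nat_lit 4, nat_lit 6]) (.leaf [nat_lit 7, nat_lit 5, nat_lit 5, nat_lit 5, nat_lit 7])))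
 (.node (nat_lit 12) (.node (nat_lit 11) (.leaf [nat_lit 4, nat_lit 6, nat_lit 6, nat_lit 4, nat_lit 6, nat_lit 4]) (.leaf [nat_lit 5, nat_lit 7, nat_lit 5, nat_lit 7, nat_lit 7, nat_lit 5])) (.node (nat_lit 13) (.leaf [nat_lit 8, nat_lit 8, nat_lit 10, nat_lit 10, nat_lit 8, nat_lit 10, nat_lit 9, nat_lit 9]) (.leaf [nat_lit 8, nat_lit 8, nat_lit 11, nat_lit 9, nat_lit 11, nat_lit 11, nat_lit 9, nat_lit 9])))))
 (.node (nat_lit 21) (.node (nat_lit 17) (.node (nat_lit 15) (.leaf [nat_lit 9, nat_lit 9, nat_lit 10, nat_lit 10, nat_lit 9, nat_lit 10]) (.node (nat_lit 16) (.leaf [nat_lit 11, nat_lit 8, nat_lit 11, nat_lit 11, nat_lit 8, nat_lit 8]) (.leaf [nat_lit 12, nat_lit 14, nat_lit 14, nat_lit 14, nat_lit 13, nat_lit 14, nat_lit 12, nat_lit 12, nat_lit 15, nat_lit 15, nat_lit 15])))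
 (.node (nat_lit 19) (.node (nat_lit 18) (.leaf [nat_lit 15, nat_lit 12, nat_lit 14, nat_lit 12, nat_lit 14, nat_lit 14, nat_lit 12]) (.leaf [nat_lit 12, nat_lit 15, nat_lit 15, nat_lit 15, nat_lit 15, nat_lit 12, nat_lit 15, nat_lit 13])) (.node (nat_lit 20) (.leaf [nat_lit 12, nat_lit 14, nat_lit 13, nat_lit 14, nat_lit 14, nat_lit 14, nat_lit 14, nat_lit 13]) (.leaf [nat_lit 16, nat_lit 19]))))
 (.node (nat_lit 24) (.node (nat_lit 22) (.leaf [nat_lit 18, nat_lit 16]) (.node (nat_lit 23) (.leaf [nat_lit 18, nat_lit 17, nat_lit 20]) (.leaf [nat_lit 19, nat_lit 17, nat_lit 16, nat_lit 21])))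
 (.node (nat_lit 26) (.node (nat_lit 25) (.leaf [nat_lit 16, nat_lit 13, nat_lit 18]) (.leaf [nat_lit 11, nat_lit 20, nat_lit 13, nat_lit 20, nat_lit 16])) (.node (nat_lit 27) (.leaf [nat_lit 6, nat_lit 4, nat_lit 21, nat_lit 11, nat_lit 17, nat_lit 13, nat_lit 18, nat_lit 20]) (.leaf [nat_lit 2, nat_lit 3, nat_lit 8, nat_lit 5, nat_lit 16, nat_lit 12, nat_lit 17, nat_lit 18, nat_lit 20]))))))
theorem g5_11_11slp : slpChk 24 (nat_lit 5) (nat_lit 31) g5_11_11S g5_11_11D 2 26 = true := by decide +kernel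
theorem g5_11_11 : PQR M23.P 5 11 11 := pos (S := g5_11_11S) [nat_lit 0, nat_lit 2, nat_lit 7, nat_lit 0, nat_lit 3, nat_lit 6, nat_lit 4, nat_lit 0, nat_lit 5, nat_lit 1, nat_lit 3, nat_lit 0, nat_lit 4, nat_lit 3] [nat_lit 5, nat_lit 7, nat_lit 1, nat_lit 5, nat_lit 6, nat_lit 2, nat_lit 0, nat_lit 5, nat_lit 1, nat_lit 3, nat_lit 0, nat_lit 4, nat_lit 0, nat_lit 3, nat_lit 2, nat_lit 0] g5_11_11slp (by decide +kernel)
noncomputable def g5_11_23s0 : ℕ := (nat_lit 0xbbe293ca7028dcc455a255886a040b)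
noncomputable def g5_11_23s1 : ℕ := (nat_lit 0xba22b990a0506474d8cca8a0e68e8f)
noncomputable def g5_11_23s2 : ℕ := (nat_lit 0xb99438cab0b352c01e8b991e572041)
noncomputable def g5_11_23s3 : ℕ := (nat_lit 0xba8e19b6a501068a3d7662632119d0)
noncomputable def g5_11_23s4 : ℕ := (nat_lit 0xbb064a882b3c8c82a934839f68b660)
noncomputable def g5_11_23s5 : ℕ := (nat_lit 0xb92680b867298568292c7b574aca20)
noncomputable def g5_11_23s6 : ℕ := (nat_lit 0xbcc4385135748ac51cc8685717d880)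
noncomputable def g5_11_23s7 : ℕ := (nat_lit 0xb8a12b38931bcec2ae28525a1a54c0)
noncomputable def g5_11_23s8 : ℕ := (nat_lit 0xbd8b583d69311d289c4d53068a4c20)
noncomputable def g5_11_23s9 : ℕ := (nat_lit 0xbda83131739350689e0453eae2a420)
noncomputable def g5_11_23s10 : ℕ := (nat_lit 0xbc6a57892ba4d5021a4d60dc745820)
noncomputable def g5_11_23s11 : ℕ := (nat_lit 0xb8aaf726cc995078362322a8b34820)
noncomputable def g5_11_23s12 : ℕ := (nat_lit 0xbb4678b13033c885d6722ba9650820)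
noncomputable def g5_11_23s13 : ℕ := (nat_lit 0xb91454a27071ad258e2ca3ceda8820)
noncomputable def g5_11_23s14 : ℕ := (nat_lit 0xbb2c9819c8795753d1536923218820)
noncomputable def g5_11_23s15 : ℕ := (nat_lit 0xbd58a410b37c4f66a6905c9c618820)
noncomputable def g5_11_23s16 : ℕ := (nat_lit 0xbd987929cda948f4ccd442e3018820)
noncomputable def g5_11_23s17 : ℕ := (nat_lit 0xbd9e854ca46461534967a25cd18820)
noncomputable def g5_11_23s18 : ℕ := (nat_lit 0xba4eca91d491550b216d99a2f18820)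
noncomputable def g5_11_23s19 : ℕ := (nat_lit 0xbae703bcac245144b6caa99d218820)
noncomputable def g5_11_23s20 : ℕ := (nat_lit 0xbcd69958b5a44c4829ed621c718820)
noncomputable def g5_11_23s21 : ℕ := (nat_lit 0xbca0fb4dcb49507aaa862362c18820)
noncomputable def g5_11_23s22 : ℕ := (nat_lit 0xbb5135bdd63160aa1ea964a2418820)
noncomputable def g5_11_23s23 : ℕ := (nat_lit 0xbc12ba18ad946c79b11553dc418820)
noncomputable def g5_11_23s24 : ℕ := (nat_lit 0xbd6cb22627638cfa224a834b318820)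
noncomputable def g5_11_23s25 : ℕ := (nat_lit 0xb926faa22da3a0b6255231cb618820)
noncomputable def g5_11_23s26 : ℕ := (nat_lit 0xb9da32494673eac5c4a8b4133a0820)
noncomputable def g5_11_23s27 : ℕ := (nat_lit 0xbd8948ca636a9e2438eb498b583020)
noncomputable def g5_11_23s28 : ℕ := (nat_lit 0xbdaa77b9909c8514292ba18612b480)
noncomputable def g5_11_23s29 : ℕ := (nat_lit 0xbc8145da217a5a29a9c8390662b215)
noncomputable def g5_11_23S : Tr ℕ := (.node (nat_lit 15) (.node (nat_lit 7) (.node (nat_lit 3) (.node (nat_lit 1) (.leaf g5_11_23s0) (.node (nat_lit 2) (.leaf g5_11_23s1) (.leaf g5_11_23s2)))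
 (.node (nat_lit 5) (.node (nat_lit 4) (.leaf g5_11_23s3) (.leaf g5_11_23s4)) (.node (nat_lit 6) (.leaf g5_11_23s5) (.leaf g5_11_23s6))))
 (.node (nat_lit 11) (.node (nat_lit 9) (.node (nat_lit 8) (.leaf g5_11_23s7) (.leaf g5_11_23s8)) (.node (nat_lit 10) (.leaf g5_11_23s9) (.leaf g5_11_23s10)))
 (.node (nat_lit 13) (.node (nat_lit 12) (.leaf g5_11_23s11) (.leaf g5_11_23s12)) (.node (nat_lit 14) (.leaf g5_11_23s13) (.leaf g5_11_23s14)))))
 (.node (nat_lit 22) (.node (nat_lit 18) (.node (nat_lit 16) (.leaf g5_11_23s15) (.node (nat_lit 17) (.leaf g5_11_23s16) (.leaf g5_11_23s17)))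
 (.node (nat_lit 20) (.node (nat_lit 19) (.leaf g5_11_23s18) (.leaf g5_11_23s19)) (.node (nat_lit 21) (.leaf g5_11_23s20) (.leaf g5_11_23s21))))
 (.node (nat_lit 26) (.node (nat_lit 24) (.node (nat_lit 23) (.leaf g5_11_23s22) (.leaf g5_11_23s23)) (.node (nat_lit 25) (.leaf g5_11_23s24) (.leaf g5_11_23s25)))
 (.node (nat_lit 28) (.node (nat_lit 27) (.leaf g5_11_23s26) (.leaf g5_11_23s27)) (.node (nat_lit 29) (.leaf g5_11_23s28) (.leaf g5_11_23s29))))))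
noncomputable def g5_11_23D : Tr (List ℕ) := (.node (nat_lit 15) (.node (nat_lit 7) (.node (nat_lit 3) (.node (nat_lit 1) (.leaf []) (.node (nat_lit 2) (.leaf []) (.leaf [nat_lit 0, nat_lit 0, nat_lit 0, nat_lit 0])))
 (.node (nat_lit 5) (.node (nat_lit 4) (.leaf [nat_lit 1, nat_lit 1, nat_lit 1, nat_lit 1, nat_lit 1, nat_lit 1, nat_lit 1, nat_lit 1, nat_lit 1, nat_lit 1]) (.leaf [nat_lit 0, nat_lit 0, nat_lit 3, nat_lit 3, nat_lit 0, nat_lit 1, nat_lit 0])) (.node (nat_lit 6) (.leaf [nat_lit 2, nat_lit 3, nat_lit 2, nat_lit 1, nat_lit 1, nat_lit 2, nat_lit 2]) (.leaf [nat_lit 1, nat_lit 1, nat_lit 1, nat_lit 2, nat_lit 1, nat_lit 2, nat_lit 2, nat_lit 1, nat_lit 1]))))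
 (.node (nat_lit 11) (.node (nat_lit 9) (.node (nat_lit 8) (.leaf [nat_lit 3, nat_lit 3, nat_lit 0, nat_lit 0, nat_lit 3, nat_lit 0, nat_lit 3, nat_lit 3, nat_lit 3]) (.leaf [nat_lit 6, nat_lit 4, nat_lit 7, nat_lit 5, nat_lit 6, nat_lit 5, nat_lit 6, nat_lit 5, nat_lit 7, nat_lit 4])) (.node (nat_lit 10) (.leaf [nat_lit 5, nat_lit 6, nat_lit 4, nat_lit 7, nat_lit 4, nat_lit 7, nat_lit 4, nat_lit 6, nat_lit 5, nat_lit 7]) (.leaf [nat_lit 5, nat_lit 6, nat_lit 5, nat_lit 6, nat_lit 6, nat_lit 4, nat_lit 4, nat_lit 6])))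
 (.node (nat_lit 13) (.node (nat_lit 12) (.leaf [nat_lit 7, nat_lit 5, nat_lit 5, nat_lit 7, nat_lit 7, nat_lit 4, nat_lit 7, nat_lit 4]) (.leaf [nat_lit 9, nat_lit 11, nat_lit 8, nat_lit 11])) (.node (nat_lit 14) (.leaf [nat_lit 10, nat_lit 9, nat_lit 10, nat_lit 8]) (.leaf [nat_lit 9, nat_lit 10, nat_lit 8, nat_lit 11, nat_lit 8, nat_lit 8, nat_lit 8, nat_lit 11, nat_lit 8, nat_lit 8, nat_lit 8, nat_lit 11])))))
 (.node (nat_lit 22) (.node (nat_lit 18) (.node (nat_lit 16) (.leaf [nat_lit 14, nat_lit 14]) (.node (nat_lit 17) (.leaf [nat_lit 13, nat_lit 14, nat_lit 13, nat_lit 14, nat_lit 12, nat_lit 15, nat_lit 13]) (.leaf [nat_lit 12, nat_lit 14, nat_lit 13, nat_lit 15, nat_lit 12, nat_lit 15, nat_lit 12])))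
 (.node (nat_lit 20) (.node (nat_lit 19) (.leaf [nat_lit 12, nat_lit 15, nat_lit 12, nat_lit 14, nat_lit 13, nat_lit 15, nat_lit 12, nat_lit 12, nat_lit 14, nat_lit 12, nat_lit 15]) (.leaf [nat_lit 18, nat_lit 18])) (.node (nat_lit 21) (.leaf [nat_lit 12, nat_lit 14, nat_lit 12, nat_lit 15, nat_lit 13, nat_lit 14, nat_lit 12, nat_lit 14, nat_lit 14, nat_lit 14, nat_lit 14, nat_lit 13, nat_lit 13, nat_lit 15, nat_lit 13]) (.leaf [nat_lit 20, nat_lit 20]))))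
 (.node (nat_lit 26) (.node (nat_lit 24) (.node (nat_lit 23) (.leaf [nat_lit 17, nat_lit 21, nat_lit 19, nat_lit 20]) (.leaf [nat_lit 21, nat_lit 18, nat_lit 20, nat_lit 16])) (.node (nat_lit 25) (.leaf [nat_lit 17, nat_lit 19, nat_lit 23]) (.leaf [nat_lit 23, nat_lit 17, nat_lit 23])))
 (.node (nat_lit 28) (.node (nat_lit 27) (.leaf [nat_lit 14, nat_lit 12, nat_lit 21, nat_lit 23]) (.leaf [nat_lit 12, nat_lit 11, nat_lit 20, nat_lit 13])) (.node (nat_lit 29) (.leaf [nat_lit 6, nat_lit 19, nat_lit 8, nat_lit 18, nat_lit 13, nat_lit 23, nat_lit 17, nat_lit 22]) (.leaf [nat_lit 21, nat_lit 0, nat_lit 17, nat_lit 4, nat_lit 11, nat_lit 23, nat_lit 9, nat_lit 20, nat_lit 13, nat_lit 23]))))))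
theorem g5_11_23slp : slpChk 24 (nat_lit 5) (nat_lit 31) g5_11_23S g5_11_23D 2 28 = true := by decide +kernel
theorem g5_11_23 : PQR M23.P 5 11 23 := pos (S := g5_11_23S) [nat_lit 5, nat_lit 1, nat_lit 7, nat_lit 5, nat_lit 6, nat_lit 4, nat_lit 3, nat_lit 1, nat_lit 5, nat_lit 0, nat_lit 4, nat_lit 3, nat_lit 4, nat_lit 1, nat_lit 3, nat_lit 1, nat_lit 2, nat_lit 1] [nat_lit 6, nat_lit 3, nat_lit 7, nat_lit 6, nat_lit 4, nat_lit 3, nat_lit 1, nat_lit 5, nat_lit 0, nat_lit 4, nat_lit 1, nat_lit 3] g5_11_23slp (by decide +kernel)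
noncomputable def g5_23_23s0 : ℕ := (nat_lit 0xb89d34822f919565d4303b68c20ca8)
noncomputable def g5_23_23s1 : ℕ := (nat_lit 0xb96d5031d2124814446681daa5d26f)
noncomputable def g5_23_23s2 : ℕ := (nat_lit 0xbb145a3e28854c45b6603b82315932)
noncomputable def g5_23_23s3 : ℕ := (nat_lit 0xba88da0173b21cf80cd20b22939455)
noncomputable def g5_23_23s4 : ℕ := (nat_lit 0xbd6820c147044b2191cb322cd4bd93)
noncomputable def g5_23_23s5 : ℕ := (nat_lit 0xba4b1b5443a216491a616bcec829c0)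
noncomputable def g5_23_23s6 : ℕ := (nat_lit 0xbce4f4ae83304e468ace2aaac84500)
noncomputable def g5_23_23s7 : ℕ := (nat_lit 0xbc545a9c449c83443c6bb41ac724c0)
noncomputable def g5_23_23s8 : ℕ := (nat_lit 0xb9e6c7bac650ca44544b906904c5a0)
noncomputable def g5_23_23s9 : ℕ := (nat_lit 0xbd9aa99cc313aa42d1289456c83c20)
noncomputable def g5_23_23s10 : ℕ := (nat_lit 0xbccf1a4aca30ca24248b735f0ab020)
noncomputable def g5_23_23s11 : ℕ := (nat_lit 0xbc473b4a8429cc24414babda973020)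
noncomputable def g5_23_23s12 : ℕ := (nat_lit 0xbc2455ce961bc87ac5c64314d48820)
noncomputable def g5_23_23s13 : ℕ := (nat_lit 0xbc1719555672486994676228d78820)
noncomputable def g5_23_23s14 : ℕ := (nat_lit 0xb8c88819e55a5d3ab247b3551a0820)
noncomputable def g5_23_23s15 : ℕ := (nat_lit 0xb9d63624938b4ca795d444a15b0820)
noncomputable def g5_23_23s16 : ℕ := (nat_lit 0xbbec66acb4ac52c41e72241ca18820)
noncomputable def g5_23_23s17 : ℕ := (nat_lit 0xbd5f04a1c6b166c911ab5522718820)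
noncomputable def g5_23_23s18 : ℕ := (nat_lit 0xbd987929cda948f4ccd442e3018820)
noncomputable def g5_23_23s19 : ℕ := (nat_lit 0xbd9e854ca46461534967a25cd18820)
noncomputable def g5_23_23s20 : ℕ := (nat_lit 0xbb4c93ae2453ac893e8c9d4b018820)
noncomputable def g5_23_23s21 : ℕ := (nat_lit 0xbc12ba18ad946c79b11553dc418820)
noncomputable def g5_23_23s22 : ℕ := (nat_lit 0xbb5135bdd63160aa1ea964a2418820)
noncomputable def g5_23_23s23 : ℕ := (nat_lit 0xbd6cb22627638cfa224a834b318820)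
noncomputable def g5_23_23s24 : ℕ := (nat_lit 0xb926faa22da3a0b6255231cb618820)
noncomputable def g5_23_23s25 : ℕ := (nat_lit 0xb9da32494673eac5c4a8b4133a0820)
noncomputable def g5_23_23s26 : ℕ := (nat_lit 0xbd8948ca636a9e2438eb498b583020)
noncomputable def g5_23_23s27 : ℕ := (nat_lit 0xbdaa77b9909c8514292ba18612b480)
noncomputable def g5_23_23s28 : ℕ := (nat_lit 0xbc8145da217a5a29a9c8390662b215)
noncomputable def g5_23_23S : Tr ℕ := (.node (nat_lit 14) (.node (nat_lit 7) (.node (nat_lit 3) (.node (nat_lit 1) (.leaf g5_23_23s0) (.node (nat_lit 2) (.leaf g5_23_23s1) (.leaf g5_23_23s2)))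
 (.node (nat_lit 5) (.node (nat_lit 4) (.leaf g5_23_23s3) (.leaf g5_23_23s4)) (.node (nat_lit 6) (.leaf g5_23_23s5) (.leaf g5_23_23s6))))
 (.node (nat_lit 10) (.node (nat_lit 8) (.leaf g5_23_23s7) (.node (nat_lit 9) (.leaf g5_23_23s8) (.leaf g5_23_23s9)))
 (.node (nat_lit 12) (.node (nat_lit 11) (.leaf g5_23_23s10) (.leaf g5_23_23s11)) (.node (nat_lit 13) (.leaf g5_23_23s12) (.leaf g5_23_23s13)))))
 (.node (nat_lit 21) (.node (nat_lit 17) (.node (nat_lit 15) (.leaf g5_23_23s14) (.node (nat_lit 16) (.leaf g5_23_23s15) (.leaf g5_23_23s16)))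
 (.node (nat_lit 19) (.node (nat_lit 18) (.leaf g5_23_23s17) (.leaf g5_23_23s18)) (.node (nat_lit 20) (.leaf g5_23_23s19) (.leaf g5_23_23s20))))
 (.node (nat_lit 25) (.node (nat_lit 23) (.node (nat_lit 22) (.leaf g5_23_23s21) (.leaf g5_23_23s22)) (.node (nat_lit 24) (.leaf g5_23_23s23) (.leaf g5_23_23s24)))
 (.node (nat_lit 27) (.node (nat_lit 26) (.leaf g5_23_23s25) (.leaf g5_23_23s26)) (.node (nat_lit 28) (.leaf g5_23_23s27) (.leaf g5_23_23s28))))))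
noncomputable def g5_23_23D : Tr (List ℕ) := (.node (nat_lit 14) (.node (nat_lit 7) (.node (nat_lit 3) (.node (nat_lit 1) (.leaf []) (.node (nat_lit 2) (.leaf []) (.leaf [nat_lit 0, nat_lit 0, nat_lit 0, nat_lit 0])))
 (.node (nat_lit 5) (.node (nat_lit 4) (.leaf [nat_lit 1, nat_lit 1, nat_lit 1, nat_lit 1]) (.leaf [nat_lit 3, nat_lit 3, nat_lit 3, nat_lit 3, nat_lit 3, nat_lit 1, nat_lit 1])) (.node (nat_lit 6) (.leaf [nat_lit 0, nat_lit 1, nat_lit 2, nat_lit 1]) (.leaf [nat_lit 4, nat_lit 0, nat_lit 4, nat_lit 2]))))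
 (.node (nat_lit 10) (.node (nat_lit 8) (.leaf [nat_lit 2, nat_lit 4, nat_lit 0, nat_lit 0, nat_lit 1, nat_lit 1, nat_lit 1, nat_lit 1]) (.node (nat_lit 9) (.leaf [nat_lit 4, nat_lit 4, nat_lit 4, nat_lit 4, nat_lit 2, nat_lit 2, nat_lit 1, nat_lit 0]) (.leaf [nat_lit 5, nat_lit 5, nat_lit 5])))
 (.node (nat_lit 12) (.node (nat_lit 11) (.leaf [nat_lit 8, nat_lit 8, nat_lit 5, nat_lit 8, nat_lit 5]) (.leaf [nat_lit 6, nat_lit 7, nat_lit 6, nat_lit 7, nat_lit 7])) (.node (nat_lit 13) (.leaf [nat_lit 9, nat_lit 11, nat_lit 9, nat_lit 10, nat_lit 9, nat_lit 10, nat_lit 10, nat_lit 9, nat_lit 10]) (.leaf [nat_lit 11, nat_lit 9, nat_lit 11, nat_lit 11, nat_lit 9, nat_lit 11, nat_lit 9, nat_lit 10, nat_lit 9])))))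
 (.node (nat_lit 21) (.node (nat_lit 17) (.node (nat_lit 15) (.leaf [nat_lit 10, nat_lit 9, nat_lit 11, nat_lit 9, nat_lit 10, nat_lit 10, nat_lit 10, nat_lit 9, nat_lit 11, nat_lit 11, nat_lit 9]) (.node (nat_lit 16) (.leaf [nat_lit 9, nat_lit 10, nat_lit 10, nat_lit 9, nat_lit 11, nat_lit 11, nat_lit 11, nat_lit 9, nat_lit 10, nat_lit 9, nat_lit 11]) (.leaf [nat_lit 15, nat_lit 13, nat_lit 13, nat_lit 14, nat_lit 12, nat_lit 14])))
 (.node (nat_lit 19) (.node (nat_lit 18) (.leaf [nat_lit 15, nat_lit 13, nat_lit 15, nat_lit 12, nat_lit 12, nat_lit 14]) (.leaf [nat_lit 12, nat_lit 15, nat_lit 13, nat_lit 14, nat_lit 14, nat_lit 13])) (.node (nat_lit 20) (.leaf [nat_lit 12, nat_lit 15, nat_lit 15, nat_lit 12, nat_lit 14, nat_lit 13]) (.leaf [nat_lit 14, nat_lit 13, nat_lit 13, nat_lit 15]))))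
 (.node (nat_lit 25) (.node (nat_lit 23) (.node (nat_lit 22) (.leaf [nat_lit 16, nat_lit 20, nat_lit 18, nat_lit 16]) (.leaf [nat_lit 17, nat_lit 19, nat_lit 20, nat_lit 17])) (.node (nat_lit 24) (.leaf [nat_lit 20, nat_lit 17, nat_lit 21]) (.leaf [nat_lit 21, nat_lit 19, nat_lit 21])))
 (.node (nat_lit 27) (.node (nat_lit 26) (.leaf [nat_lit 14, nat_lit 22, nat_lit 17]) (.leaf [nat_lit 11, nat_lit 20, nat_lit 13, nat_lit 21, nat_lit 19, nat_lit 17, nat_lit 21])) (.node (nat_lit 28) (.leaf [nat_lit 18, nat_lit 8, nat_lit 9, nat_lit 11, nat_lit 13, nat_lit 13, nat_lit 21, nat_lit 19, nat_lit 22]) (.leaf [nat_lit 13, nat_lit 2, nat_lit 8, nat_lit 22, nat_lit 6, nat_lit 12, nat_lit 9, nat_lit 16, nat_lit 13, nat_lit 18, nat_lit 17, nat_lit 22]))))))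
theorem g5_23_23slp : slpChk 24 (nat_lit 5) (nat_lit 31) g5_23_23S g5_23_23D 2 27 = true := by decide +kernel
theorem g5_23_23 : PQR M23.P 5 23 23 := pos (S := g5_23_23S) [nat_lit 1, nat_lit 7, nat_lit 0, nat_lit 5, nat_lit 6, nat_lit 2, nat_lit 5, nat_lit 1, nat_lit 3, nat_lit 0, nat_lit 4, nat_lit 1] [nat_lit 6, nat_lit 3, nat_lit 7, nat_lit 0, nat_lit 2, nat_lit 6, nat_lit 2, nat_lit 5, nat_lit 3, nat_lit 4, nat_lit 3, nat_lit 2, nat_lit 0] g5_23_23slp (by decide +kernel)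
noncomputable def g7_7_7s0 : ℕ := (nat_lit 0xba427999cd54a22816ac22d1678e80)
noncomputable def g7_7_7s1 : ℕ := (nat_lit 0xb8e2bb3a50428466b121055e7a4c85)
noncomputable def g7_7_7s2 : ℕ := (nat_lit 0xb91219b9ab1c60833ec5a4947132a0)
noncomputable def g7_7_7s3 : ℕ := (nat_lit 0xbccc3146b02c96aa392f23001b3507)
noncomputable def g7_7_7s4 : ℕ := (nat_lit 0xb9eb0499c391056651530962f42da0)
noncomputable def g7_7_7s5 : ℕ := (nat_lit 0xbb2aa43cb42442b12663b48ce834e0)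
noncomputable def g7_7_7s6 : ℕ := (nat_lit 0xbc5285d26e2286693cf66d60261420)
noncomputable def g7_7_7s7 : ℕ := (nat_lit 0xba0d28aec5540e39bab44b04f69020)
noncomputable def g7_7_7s8 : ℕ := (nat_lit 0xb96c3509f5a41324126c3c5cd32c20)
noncomputable def g7_7_7s9 : ℕ := (nat_lit 0xbd60f4b0ce8948814dab38ecaa4820)
noncomputable def g7_7_7s10 : ℕ := (nat_lit 0xbd86a29d0d7c8959a6867457060820)
noncomputable def g7_7_7s11 : ℕ := (nat_lit 0xbd9895b8c479e032d1519226da8820)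
noncomputable def g7_7_7s12 : ℕ := (nat_lit 0xbc8ce391eb2a5166c4709d54ca0820)
noncomputable def g7_7_7s13 : ℕ := (nat_lit 0xbb0c33d9488d164815cd9d5f248820)
noncomputable def g7_7_7s14 : ℕ := (nat_lit 0xba90e5926919e8d8163664aaf30820)
noncomputable def g7_7_7s15 : ℕ := (nat_lit 0xba0ad8992b251879da1570d5278820)
noncomputable def g7_7_7s16 : ℕ := (nat_lit 0xb9e545b4a64c6b023d56431d318820)
noncomputable def g7_7_7s17 : ℕ := (nat_lit 0xba1b4255cc516469a5e7b422b18820)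
noncomputable def g7_7_7s18 : ℕ := (nat_lit 0xbac8a69dd2a159333d3585a2818820)
noncomputable def g7_7_7s19 : ℕ := (nat_lit 0xb990f640a75466db512492dd518820)
noncomputable def g7_7_7s20 : ℕ := (nat_lit 0xbcc8cb2a265b8f47c9096c0b518820)
noncomputable def g7_7_7s21 : ℕ := (nat_lit 0xbc12ba18ad946c79b11553dc418820)
noncomputable def g7_7_7s22 : ℕ := (nat_lit 0xbb5135bdd63160aa1ea964a2418820)
noncomputable def g7_7_7s23 : ℕ := (nat_lit 0xbd6cb22627638cfa224a834b318820)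
noncomputable def g7_7_7s24 : ℕ := (nat_lit 0xb926faa22da3a0b6255231cb618820)
noncomputable def g7_7_7s25 : ℕ := (nat_lit 0xb9da32494673eac5c4a8b4133a0820)
noncomputable def g7_7_7s26 : ℕ := (nat_lit 0xbd8948ca636a9e2438eb498b583020)
noncomputable def g7_7_7s27 : ℕ := (nat_lit 0xbdaa77b9909c8514292ba18612b480)
noncomputable def g7_7_7s28 : ℕ := (nat_lit 0xbc8145da217a5a29a9c8390662b215)
noncomputable def g7_7_7S : Tr ℕ := (.node (nat_lit 14) (.node (nat_lit 7) (.node (nat_lit 3) (.node (nat_lit 1) (.leaf g7_7_7s0) (.node (nat_lit 2) (.leaf g7_7_7s1) (.leaf g7_7_7s2)))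
 (.node (nat_lit 5) (.node (nat_lit 4) (.leaf g7_7_7s3) (.leaf g7_7_7s4)) (.node (nat_lit 6) (.leaf g7_7_7s5) (.leaf g7_7_7s6))))
 (.node (nat_lit 10) (.node (nat_lit 8) (.leaf g7_7_7s7) (.node (nat_lit 9) (.leaf g7_7_7s8) (.leaf g7_7_7s9)))
 (.node (nat_lit 12) (.node (nat_lit 11) (.leaf g7_7_7s10) (.leaf g7_7_7s11)) (.node (nat_lit 13) (.leaf g7_7_7s12) (.leaf g7_7_7s13)))))
 (.node (nat_lit 21) (.node (nat_lit 17) (.node (nat_lit 15) (.leaf g7_7_7s14) (.node (nat_lit 16) (.leaf g7_7_7s15) (.leaf g7_7_7s16)))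
 (.node (nat_lit 19) (.node (nat_lit 18) (.leaf g7_7_7s17) (.leaf g7_7_7s18)) (.node (nat_lit 20) (.leaf g7_7_7s19) (.leaf g7_7_7s20))))
 (.node (nat_lit 25) (.node (nat_lit 23) (.node (nat_lit 22) (.leaf g7_7_7s21) (.leaf g7_7_7s22)) (.node (nat_lit 24) (.leaf g7_7_7s23) (.leaf g7_7_7s24)))
 (.node (nat_lit 27) (.node (nat_lit 26) (.leaf g7_7_7s25) (.leaf g7_7_7s26)) (.node (nat_lit 28) (.leaf g7_7_7s27) (.leaf g7_7_7s28))))))
noncomputable def g7_7_7D : Tr (List ℕ) := (.node (nat_lit 14) (.node (nat_lit 7) (.node (nat_lit 3) (.node (nat_lit 1) (.leaf []) (.node (nat_lit 2) (.leaf []) (.leaf [nat_lit 0, nat_lit 0, nat_lit 0, nat_lit 0, nat_lit 0, nat_lit 0])))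
 (.node (nat_lit 5) (.node (nat_lit 4) (.leaf [nat_lit 1, nat_lit 1, nat_lit 1, nat_lit 1, nat_lit 1, nat_lit 1]) (.leaf [nat_lit 3, nat_lit 3, nat_lit 3, nat_lit 0, nat_lit 1])) (.node (nat_lit 6) (.leaf [nat_lit 3, nat_lit 2, nat_lit 1, nat_lit 1, nat_lit 1]) (.leaf [nat_lit 4, nat_lit 0, nat_lit 5, nat_lit 2, nat_lit 4]))))
 (.node (nat_lit 10) (.node (nat_lit 8) (.leaf [nat_lit 5, nat_lit 0, nat_lit 4, nat_lit 2, nat_lit 5]) (.node (nat_lit 9) (.leaf [nat_lit 2, nat_lit 2, nat_lit 5]) (.leaf [nat_lit 4, nat_lit 0, nat_lit 0])))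
 (.node (nat_lit 12) (.node (nat_lit 11) (.leaf [nat_lit 7, nat_lit 8, nat_lit 6, nat_lit 6, nat_lit 8, nat_lit 7, nat_lit 7]) (.leaf [nat_lit 6, nat_lit 6, nat_lit 9, nat_lit 7, nat_lit 7, nat_lit 9, nat_lit 6])) (.node (nat_lit 13) (.leaf [nat_lit 7, nat_lit 7, nat_lit 8, nat_lit 6, nat_lit 6, nat_lit 6]) (.leaf [nat_lit 7, nat_lit 7, nat_lit 7, nat_lit 9, nat_lit 6, nat_lit 6])))))
 (.node (nat_lit 21) (.node (nat_lit 17) (.node (nat_lit 15) (.leaf [nat_lit 9, nat_lit 6, nat_lit 8, nat_lit 6, nat_lit 6, nat_lit 9, nat_lit 9, nat_lit 6, nat_lit 9, nat_lit 7]) (.node (nat_lit 16) (.leaf [nat_lit 6, nat_lit 8, nat_lit 7, nat_lit 8, nat_lit 8, nat_lit 7, nat_lit 7, nat_lit 9, nat_lit 7, nat_lit 8]) (.leaf [nat_lit 15, nat_lit 13, nat_lit 11])))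
 (.node (nat_lit 19) (.node (nat_lit 18) (.leaf [nat_lit 10, nat_lit 12, nat_lit 14]) (.leaf [nat_lit 11, nat_lit 15, nat_lit 12, nat_lit 15, nat_lit 10, nat_lit 12, nat_lit 14, nat_lit 14])) (.node (nat_lit 20) (.leaf [nat_lit 15, nat_lit 15, nat_lit 13, nat_lit 11, nat_lit 14, nat_lit 13, nat_lit 14, nat_lit 10]) (.leaf [nat_lit 10, nat_lit 14, nat_lit 11, nat_lit 13, nat_lit 14, nat_lit 10]))))
 (.node (nat_lit 25) (.node (nat_lit 23) (.node (nat_lit 22) (.leaf [nat_lit 16, nat_lit 18, nat_lit 20, nat_lit 16]) (.leaf [nat_lit 17, nat_lit 20, nat_lit 19, nat_lit 17])) (.node (nat_lit 24) (.leaf [nat_lit 16, nat_lit 22]) (.leaf [nat_lit 19, nat_lit 17])))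
 (.node (nat_lit 27) (.node (nat_lit 26) (.leaf [nat_lit 12, nat_lit 17, nat_lit 18]) (.leaf [nat_lit 12, nat_lit 7, nat_lit 12, nat_lit 10, nat_lit 18, nat_lit 22])) (.node (nat_lit 28) (.leaf [nat_lit 18, nat_lit 2, nat_lit 16, nat_lit 7, nat_lit 13, nat_lit 21, nat_lit 19, nat_lit 17, nat_lit 22]) (.leaf [nat_lit 14, nat_lit 1, nat_lit 0, nat_lit 18, nat_lit 9, nat_lit 13, nat_lit 13, nat_lit 21]))))))
theorem g7_7_7slp : slpChk 24 (nat_lit 5) (nat_lit 31) g7_7_7S g7_7_7D 2 27 = true := by decide +kernel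
theorem g7_7_7 : PQR M23.P 7 7 7 := pos (S := g7_7_7S) [nat_lit 0, nat_lit 2, nat_lit 6, nat_lit 4, nat_lit 3, nat_lit 1, nat_lit 5, nat_lit 3, nat_lit 0, nat_lit 4, nat_lit 2, nat_lit 0] [nat_lit 4, nat_lit 0, nat_lit 7, nat_lit 2, nat_lit 6, nat_lit 2, nat_lit 1, nat_lit 3, nat_lit 0] g7_7_7slp (by decide +kernel)
noncomputable def g7_7_11s0 : ℕ := (nat_lit 0xb89c77a66b1c0d1452b26d9840a8a0)
noncomputable def g7_7_11s1 : ℕ := (nat_lit 0xbd414b124f2c44c82d434cced305c8)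
noncomputable def g7_7_11s2 : ℕ := (nat_lit 0xb992a8a18e9d4e580a4ba34247d860)
noncomputable def g7_7_11s3 : ℕ := (nat_lit 0xbced4345cb8048c524e028df243455)
noncomputable def g7_7_11s4 : ℕ := (nat_lit 0xbb62a1c2c1408a464de734a8975560)
noncomputable def g7_7_11s5 : ℕ := (nat_lit 0xbc44551ab248ecb0d08f41dac9ba00)
noncomputable def g7_7_11s6 : ℕ := (nat_lit 0xb88647c173724d144954659a72d420)
noncomputable def g7_7_11s7 : ℕ := (nat_lit 0xb9848829929bca78a5cb23474ad820)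
noncomputable def g7_7_11s8 : ℕ := (nat_lit 0xbbdc8a953358da6a0996510f184820)
noncomputable def g7_7_11s9 : ℕ := (nat_lit 0xba26b80883b55a979e342b24672820)
noncomputable def g7_7_11s10 : ℕ := (nat_lit 0xb9ec968d13530d12be8e2425558820)
noncomputable def g7_7_11s11 : ℕ := (nat_lit 0xbd489815865226e1be91b356790820)
noncomputable def g7_7_11s12 : ℕ := (nat_lit 0xba0ad8992b251879da1570d5278820)
noncomputable def g7_7_11s13 : ℕ := (nat_lit 0xba90e5926919e8d8163664aaf30820)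
noncomputable def g7_7_11s14 : ℕ := (nat_lit 0xbc8e49a8a884589a59af355cb18820)
noncomputable def g7_7_11s15 : ℕ := (nat_lit 0xba8cb9d9cf4152d24990a9e3418820)
noncomputable def g7_7_11s16 : ℕ := (nat_lit 0xb9d367add3814d263488a2a3518820)
noncomputable def g7_7_11s17 : ℕ := (nat_lit 0xbd087830af9c54b91aa8b35c918820)
noncomputable def g7_7_11s18 : ℕ := (nat_lit 0xbb4c93ae2453ac893e8c9d4b018820)
noncomputable def g7_7_11s19 : ℕ := (nat_lit 0xbc12ba18ad946c79b11553dc418820)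
noncomputable def g7_7_11s20 : ℕ := (nat_lit 0xbb5135bdd63160aa1ea964a2418820)
noncomputable def g7_7_11s21 : ℕ := (nat_lit 0xbd6cb22627638cfa224a834b318820)
noncomputable def g7_7_11s22 : ℕ := (nat_lit 0xb926faa22da3a0b6255231cb618820)
noncomputable def g7_7_11s23 : ℕ := (nat_lit 0xb9da32494673eac5c4a8b4133a0820)
noncomputable def g7_7_11s24 : ℕ := (nat_lit 0xbd8948ca636a9e2438eb498b583020)
noncomputable def g7_7_11s25 : ℕ := (nat_lit 0xbdaa77b9909c8514292ba18612b480)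
noncomputable def g7_7_11s26 : ℕ := (nat_lit 0xbc8145da217a5a29a9c8390662b215)
noncomputable def g7_7_11S : Tr ℕ := (.node (nat_lit 13) (.node (nat_lit 6) (.node (nat_lit 3) (.node (nat_lit 1) (.leaf g7_7_11s0) (.node (nat_lit 2) (.leaf g7_7_11s1) (.leaf g7_7_11s2))) (.node (nat_lit 4) (.leaf g7_7_11s3) (.node (nat_lit 5) (.leaf g7_7_11s4) (.leaf g7_7_11s5))))
 (.node (nat_lit 9) (.node (nat_lit 7) (.leaf g7_7_11s6) (.node (nat_lit 8) (.leaf g7_7_11s7) (.leaf g7_7_11s8)))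
 (.node (nat_lit 11) (.node (nat_lit 10) (.leaf g7_7_11s9) (.leaf g7_7_11s10)) (.node (nat_lit 12) (.leaf g7_7_11s11) (.leaf g7_7_11s12)))))
 (.node (nat_lit 20) (.node (nat_lit 16) (.node (nat_lit 14) (.leaf g7_7_11s13) (.node (nat_lit 15) (.leaf g7_7_11s14) (.leaf g7_7_11s15)))
 (.node (nat_lit 18) (.node (nat_lit 17) (.leaf g7_7_11s16) (.leaf g7_7_11s17)) (.node (nat_lit 19) (.leaf g7_7_11s18) (.leaf g7_7_11s19))))
 (.node (nat_lit 23) (.node (nat_lit 21) (.leaf g7_7_11s20) (.node (nat_lit 22) (.leaf g7_7_11s21) (.leaf g7_7_11s22)))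
 (.node (nat_lit 25) (.node (nat_lit 24) (.leaf g7_7_11s23) (.leaf g7_7_11s24)) (.node (nat_lit 26) (.leaf g7_7_11s25) (.leaf g7_7_11s26))))))
noncomputable def g7_7_11D : Tr (List ℕ) := (.node (nat_lit 13) (.node (nat_lit 6) (.node (nat_lit 3) (.node (nat_lit 1) (.leaf []) (.node (nat_lit 2) (.leaf []) (.leaf [nat_lit 0, nat_lit 0, nat_lit 0, nat_lit 0, nat_lit 0, nat_lit 0]))) (.node (nat_lit 4) (.leaf [nat_lit 1, nat_lit 1, nat_lit 1, nat_lit 1, nat_lit 1, nat_lit 1]) (.node (nat_lit 5) (.leaf [nat_lit 1, nat_lit 1, nat_lit 0, nat_lit 1, nat_lit 1, nat_lit 1]) (.leaf [nat_lit 3, nat_lit 3, nat_lit 3, nat_lit 2, nat_lit 3, nat_lit 3]))))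
 (.node (nat_lit 9) (.node (nat_lit 7) (.leaf [nat_lit 2, nat_lit 4, nat_lit 4, nat_lit 2, nat_lit 2, nat_lit 4, nat_lit 4, nat_lit 0]) (.node (nat_lit 8) (.leaf [nat_lit 2, nat_lit 5, nat_lit 5, nat_lit 0, nat_lit 0, nat_lit 5, nat_lit 5, nat_lit 0]) (.leaf [nat_lit 4, nat_lit 0, nat_lit 4, nat_lit 2])))
 (.node (nat_lit 11) (.node (nat_lit 10) (.leaf [nat_lit 0, nat_lit 5, nat_lit 2, nat_lit 5]) (.leaf [nat_lit 7, nat_lit 8, nat_lit 7, nat_lit 7, nat_lit 8, nat_lit 6])) (.node (nat_lit 12) (.leaf [nat_lit 7, nat_lit 9, nat_lit 6, nat_lit 6, nat_lit 9, nat_lit 6]) (.leaf [nat_lit 6, nat_lit 6, nat_lit 8, nat_lit 6, nat_lit 9, nat_lit 9])))))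
 (.node (nat_lit 20) (.node (nat_lit 16) (.node (nat_lit 14) (.leaf [nat_lit 8, nat_lit 8, nat_lit 7, nat_lit 9, nat_lit 7, nat_lit 7]) (.node (nat_lit 15) (.leaf [nat_lit 10, nat_lit 13, nat_lit 13]) (.leaf [nat_lit 12, nat_lit 12, nat_lit 11])))
 (.node (nat_lit 18) (.node (nat_lit 17) (.leaf [nat_lit 11, nat_lit 12, nat_lit 10, nat_lit 13, nat_lit 13, nat_lit 13, nat_lit 13, nat_lit 13, nat_lit 13]) (.leaf [nat_lit 12, nat_lit 12, nat_lit 12, nat_lit 12, nat_lit 12, nat_lit 12, nat_lit 11, nat_lit 13, nat_lit 10])) (.node (nat_lit 19) (.leaf [nat_lit 10, nat_lit 10, nat_lit 12, nat_lit 12, nat_lit 12, nat_lit 12, nat_lit 12, nat_lit 10, nat_lit 13, nat_lit 11, nat_lit 11, nat_lit 12, nat_lit 11]) (.leaf [nat_lit 14, nat_lit 17, nat_lit 14, nat_lit 16, nat_lit 18, nat_lit 16]))))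
 (.node (nat_lit 23) (.node (nat_lit 21) (.leaf [nat_lit 17, nat_lit 18, nat_lit 17, nat_lit 15, nat_lit 16, nat_lit 15]) (.node (nat_lit 22) (.leaf [nat_lit 20, nat_lit 15, nat_lit 20]) (.leaf [nat_lit 16, nat_lit 15, nat_lit 20])))
 (.node (nat_lit 25) (.node (nat_lit 24) (.leaf [nat_lit 20, nat_lit 10, nat_lit 17, nat_lit 19]) (.leaf [nat_lit 19, nat_lit 9, nat_lit 12, nat_lit 19, nat_lit 17, nat_lit 15, nat_lit 19])) (.node (nat_lit 26) (.leaf [nat_lit 18, nat_lit 5, nat_lit 20, nat_lit 7, nat_lit 15, nat_lit 12, nat_lit 17]) (.leaf [nat_lit 3, nat_lit 15, nat_lit 5, nat_lit 8, nat_lit 7, nat_lit 14, nat_lit 13, nat_lit 17, nat_lit 15]))))))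
theorem g7_7_11slp : slpChk 24 (nat_lit 5) (nat_lit 31) g7_7_11S g7_7_11D 2 25 = true := by decide +kernel
theorem g7_7_11 : PQR M23.P 7 7 11 := pos (S := g7_7_11S) [nat_lit 0, nat_lit 5, nat_lit 2, nat_lit 6, nat_lit 5, nat_lit 1, nat_lit 5, nat_lit 0, nat_lit 3, nat_lit 0, nat_lit 4, nat_lit 0, nat_lit 2, nat_lit 1] [nat_lit 1, nat_lit 7, nat_lit 5, nat_lit 2, nat_lit 6, nat_lit 4, nat_lit 3, nat_lit 1, nat_lit 5, nat_lit 3, nat_lit 2, nat_lit 1, nat_lit 4, nat_lit 0, nat_lit 3, nat_lit 1] g7_7_11slp (by decide +kernel)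
noncomputable def g7_7_23s0 : ℕ := (nat_lit 0xb84af5b494aa448658ca382301ba72)
noncomputable def g7_7_23s1 : ℕ := (nat_lit 0xbc0543be68646aeb24c0904645a9a5)
noncomputable def g7_7_23s2 : ℕ := (nat_lit 0xba9f0080a4a0a4b9a1cc3a6b11b6c6)
noncomputable def g7_7_23s3 : ℕ := (nat_lit 0xbadb489dd69302f189509a4042d4c8)
noncomputable def g7_7_23s4 : ℕ := (nat_lit 0xbda71a39ed1950a22cc14b20715640)
noncomputable def g7_7_23s5 : ℕ := (nat_lit 0xbd853a86858ca06530ed225cb78d00)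
noncomputable def g7_7_23s6 : ℕ := (nat_lit 0xba6d59902ca197181caf9090e6a860)
noncomputable def g7_7_23s7 : ℕ := (nat_lit 0xbd68f99d8b4107068ac55393209a20)
noncomputable def g7_7_23s8 : ℕ := (nat_lit 0xb91b53c92b83c76345056395315020)
noncomputable def g7_7_23s9 : ℕ := (nat_lit 0xbb2822494f71aa7816299ad1668c20)
noncomputable def g7_7_23s10 : ℕ := (nat_lit 0xbb0b513d2d522903124b88ec79b820)
noncomputable def g7_7_23s11 : ℕ := (nat_lit 0xb968d1a4ec90a1643e2e22eaa34c20)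
noncomputable def g7_7_23s12 : ℕ := (nat_lit 0xbb56f644d049c851aa8e44a76a8820)
noncomputable def g7_7_23s13 : ℕ := (nat_lit 0xb906929a50a22d3aa9e77458d58820)
noncomputable def g7_7_23s14 : ℕ := (nat_lit 0xbbd8e940f41cd362162d42ccaa8820)
noncomputable def g7_7_23s15 : ℕ := (nat_lit 0xbb07074d32b5115311a78954b78820)
noncomputable def g7_7_23s16 : ℕ := (nat_lit 0xba9b5b48a93468864ceb811cf18820)
noncomputable def g7_7_23s17 : ℕ := (nat_lit 0xbce8d549c7216ab45a0c4be2618820)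
noncomputable def g7_7_23s18 : ℕ := (nat_lit 0xbd58a410b37c4f66a6905c9c618820)
noncomputable def g7_7_23s19 : ℕ := (nat_lit 0xbb2c9819c8795753d1536923218820)
noncomputable def g7_7_23s20 : ℕ := (nat_lit 0xbd268341c9595e46b2563d62a18820)
noncomputable def g7_7_23s21 : ℕ := (nat_lit 0xba0d6aa4b26c56a792143cdcc18820)
noncomputable def g7_7_23s22 : ℕ := (nat_lit 0xbb5135bdd63160aa1ea964a2418820)
noncomputable def g7_7_23s23 : ℕ := (nat_lit 0xbc12ba18ad946c79b11553dc418820)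
noncomputable def g7_7_23s24 : ℕ := (nat_lit 0xbd6cb22627638cfa224a834b318820)
noncomputable def g7_7_23s25 : ℕ := (nat_lit 0xb926faa22da3a0b6255231cb618820)
noncomputable def g7_7_23s26 : ℕ := (nat_lit 0xb9da32494673eac5c4a8b4133a0820)
noncomputable def g7_7_23s27 : ℕ := (nat_lit 0xbd8948ca636a9e2438eb498b583020)
noncomputable def g7_7_23s28 : ℕ := (nat_lit 0xbdaa77b9909c8514292ba18612b480)
noncomputable def g7_7_23s29 : ℕ := (nat_lit 0xbc8145da217a5a29a9c8390662b215)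
noncomputable def g7_7_23S : Tr ℕ := (.node (nat_lit 15) (.node (nat_lit 7) (.node (nat_lit 3) (.node (nat_lit 1) (.leaf g7_7_23s0) (.node (nat_lit 2) (.leaf g7_7_23s1) (.leaf g7_7_23s2)))
 (.node (nat_lit 5) (.node (nat_lit 4) (.leaf g7_7_23s3) (.leaf g7_7_23s4)) (.node (nat_lit 6) (.leaf g7_7_23s5) (.leaf g7_7_23s6))))
 (.node (nat_lit 11) (.node (nat_lit 9) (.node (nat_lit 8) (.leaf g7_7_23s7) (.leaf g7_7_23s8)) (.node (nat_lit 10) (.leaf g7_7_23s9) (.leaf g7_7_23s10)))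
 (.node (nat_lit 13) (.node (nat_lit 12) (.leaf g7_7_23s11) (.leaf g7_7_23s12)) (.node (nat_lit 14) (.leaf g7_7_23s13) (.leaf g7_7_23s14)))))
 (.node (nat_lit 22) (.node (nat_lit 18) (.node (nat_lit 16) (.leaf g7_7_23s15) (.node (nat_lit 17) (.leaf g7_7_23s16) (.leaf g7_7_23s17)))
 (.node (nat_lit 20) (.node (nat_lit 19) (.leaf g7_7_23s18) (.leaf g7_7_23s19)) (.node (nat_lit 21) (.leaf g7_7_23s20) (.leaf g7_7_23s21))))
 (.node (nat_lit 26) (.node (nat_lit 24) (.node (nat_lit 23) (.leaf g7_7_23s22) (.leaf g7_7_23s23)) (.node (nat_lit 25) (.leaf g7_7_23s24) (.leaf g7_7_23s25)))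
 (.node (nat_lit 28) (.node (nat_lit 27) (.leaf g7_7_23s26) (.leaf g7_7_23s27)) (.node (nat_lit 29) (.leaf g7_7_23s28) (.leaf g7_7_23s29))))))
noncomputable def g7_7_23D : Tr (List ℕ) := (.node (nat_lit 15) (.node (nat_lit 7) (.node (nat_lit 3) (.node (nat_lit 1) (.leaf []) (.node (nat_lit 2) (.leaf []) (.leaf [nat_lit 0, nat_lit 0, nat_lit 0, nat_lit 0, nat_lit 0, nat_lit 0])))
 (.node (nat_lit 5) (.node (nat_lit 4) (.leaf [nat_lit 1, nat_lit 1, nat_lit 1, nat_lit 1, nat_lit 1, nat_lit 1]) (.leaf [nat_lit 3, nat_lit 0, nat_lit 1, nat_lit 2, nat_lit 2, nat_lit 3, nat_lit 0, nat_lit 1])) (.node (nat_lit 6) (.leaf [nat_lit 3, nat_lit 2, nat_lit 1, nat_lit 0, nat_lit 0, nat_lit 3, nat_lit 2, nat_lit 1]) (.leaf [nat_lit 2, nat_lit 1, nat_lit 2, nat_lit 3, nat_lit 0]))))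
 (.node (nat_lit 11) (.node (nat_lit 9) (.node (nat_lit 8) (.leaf [nat_lit 2, nat_lit 1, nat_lit 0, nat_lit 3, nat_lit 0]) (.leaf [nat_lit 5, nat_lit 6, nat_lit 6, nat_lit 6, nat_lit 4, nat_lit 6])) (.node (nat_lit 10) (.leaf [nat_lit 7, nat_lit 5, nat_lit 7, nat_lit 7, nat_lit 7, nat_lit 4]) (.leaf [nat_lit 6, nat_lit 4, nat_lit 6, nat_lit 6, nat_lit 5])))
 (.node (nat_lit 13) (.node (nat_lit 12) (.leaf [nat_lit 4, nat_lit 7, nat_lit 7, nat_lit 5, nat_lit 7]) (.leaf [nat_lit 9, nat_lit 11, nat_lit 8, nat_lit 8])) (.node (nat_lit 14) (.leaf [nat_lit 9, nat_lit 9, nat_lit 10, nat_lit 8]) (.leaf [nat_lit 8, nat_lit 10, nat_lit 9, nat_lit 10, nat_lit 8, nat_lit 11, nat_lit 11])))))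
 (.node (nat_lit 22) (.node (nat_lit 18) (.node (nat_lit 16) (.leaf [nat_lit 10, nat_lit 10, nat_lit 9, nat_lit 11, nat_lit 8, nat_lit 11, nat_lit 9]) (.node (nat_lit 17) (.leaf [nat_lit 13, nat_lit 15, nat_lit 13, nat_lit 15, nat_lit 12, nat_lit 14, nat_lit 12, nat_lit 15]) (.leaf [nat_lit 14, nat_lit 13, nat_lit 15, nat_lit 13, nat_lit 14, nat_lit 12, nat_lit 14, nat_lit 12])))
 (.node (nat_lit 20) (.node (nat_lit 19) (.leaf [nat_lit 13, nat_lit 15, nat_lit 15, nat_lit 12, nat_lit 14, nat_lit 13]) (.leaf [nat_lit 12, nat_lit 15, nat_lit 13, nat_lit 14, nat_lit 14, nat_lit 12])) (.node (nat_lit 21) (.leaf [nat_lit 13, nat_lit 14]) (.leaf [nat_lit 15, nat_lit 12]))))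
 (.node (nat_lit 26) (.node (nat_lit 24) (.node (nat_lit 23) (.leaf [nat_lit 17, nat_lit 20, nat_lit 19, nat_lit 19, nat_lit 16, nat_lit 16, nat_lit 21]) (.leaf [nat_lit 20, nat_lit 17, nat_lit 17, nat_lit 18, nat_lit 18, nat_lit 21, nat_lit 16])) (.node (nat_lit 25) (.leaf [nat_lit 21, nat_lit 17]) (.leaf [nat_lit 18, nat_lit 21, nat_lit 23])))
 (.node (nat_lit 28) (.node (nat_lit 27) (.leaf [nat_lit 22, nat_lit 13, nat_lit 16]) (.leaf [nat_lit 12, nat_lit 11, nat_lit 18, nat_lit 13, nat_lit 20, nat_lit 19])) (.node (nat_lit 29) (.leaf [nat_lit 18, nat_lit 4, nat_lit 18, nat_lit 8, nat_lit 15, nat_lit 19, nat_lit 13, nat_lit 19, nat_lit 20]) (.leaf [nat_lit 20, nat_lit 2, nat_lit 14, nat_lit 5, nat_lit 18, nat_lit 8, nat_lit 14, nat_lit 13, nat_lit 20, nat_lit 19]))))))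
theorem g7_7_23slp : slpChk 24 (nat_lit 5) (nat_lit 31) g7_7_23S g7_7_23D 2 28 = true := by decide +kernel
theorem g7_7_23 : PQR M23.P 7 7 23 := pos (S := g7_7_23S) [nat_lit 3, nat_lit 1, nat_lit 7, nat_lit 1, nat_lit 5, nat_lit 2, nat_lit 6, nat_lit 5, nat_lit 2, nat_lit 0, nat_lit 5, nat_lit 0, nat_lit 3, nat_lit 1, nat_lit 4, nat_lit 1, nat_lit 3, nat_lit 0] [nat_lit 4, nat_lit 0, nat_lit 7, nat_lit 1, nat_lit 5, nat_lit 6, nat_lit 2, nat_lit 1, nat_lit 5, nat_lit 1, nat_lit 3, nat_lit 1, nat_lit 4, nat_lit 1, nat_lit 3] g7_7_23slp (by decide +kernel)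
noncomputable def g7_11_11s0 : ℕ := (nat_lit 0xba9b278190b14733a6264388ba0aa1)
noncomputable def g7_11_11s1 : ℕ := (nat_lit 0xb9d36654cb4280da0891786131c8ae)
noncomputable def g7_11_11s2 : ℕ := (nat_lit 0xbbc236513099ab1259475a1c568812)
noncomputable def g7_11_11s3 : ℕ := (nat_lit 0xbd24b209053819383aafb44291a8cd)
noncomputable def g7_11_11s4 : ℕ := (nat_lit 0xbc99582dc57cc274b48810e36550c0)
noncomputable def g7_11_11s5 : ℕ := (nat_lit 0xb9282758b37c55590d686060931da0)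
noncomputable def g7_11_11s6 : ℕ := (nat_lit 0xbd5ae3088828d4981e5165a8f0cd60)
noncomputable def g7_11_11s7 : ℕ := (nat_lit 0xb9ac51250b252a70b59054df174860)
noncomputable def g7_11_11s8 : ℕ := (nat_lit 0xbb5336491659c5550e8e345f029020)
noncomputable def g7_11_11s9 : ℕ := (nat_lit 0xbc189a48c42a2d37aeb171c6253420)
noncomputable def g7_11_11s10 : ℕ := (nat_lit 0xb9483b3a6b44927628d480a357b420)
noncomputable def g7_11_11s11 : ℕ := (nat_lit 0xbcc888b8a71c84b829af626d5a1820)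
noncomputable def g7_11_11s12 : ℕ := (nat_lit 0xba62b1d6ca641e69a247715b420820)
noncomputable def g7_11_11s13 : ℕ := (nat_lit 0xbc6445a6ae69cafa42ca430c398820)
noncomputable def g7_11_11s14 : ℕ := (nat_lit 0xbb52678d84acac571e71a291058820)
noncomputable def g7_11_11s15 : ℕ := (nat_lit 0xbb5e74b9049aed119aa55519090820)
noncomputable def g7_11_11s16 : ℕ := (nat_lit 0xb926faa22da3a0b6255231cb618820)
noncomputable def g7_11_11s17 : ℕ := (nat_lit 0xbc8e49a8a884589a59af355cb18820)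
noncomputable def g7_11_11s18 : ℕ := (nat_lit 0xba8cb9d9cf4152d24990a9e3418820)
noncomputable def g7_11_11s19 : ℕ := (nat_lit 0xbb2c9819c8795753d1536923218820)
noncomputable def g7_11_11s20 : ℕ := (nat_lit 0xbd58a410b37c4f66a6905c9c618820)
noncomputable def g7_11_11s21 : ℕ := (nat_lit 0xbc12ba18ad946c79b11553dc418820)
noncomputable def g7_11_11s22 : ℕ := (nat_lit 0xbb5135bdd63160aa1ea964a2418820)
noncomputable def g7_11_11s23 : ℕ := (nat_lit 0xbd6cb22627638cfa224a834b318820)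
noncomputable def g7_11_11s24 : ℕ := (nat_lit 0xb9da32494673eac5c4a8b4133a0820)
noncomputable def g7_11_11s25 : ℕ := (nat_lit 0xbd8948ca636a9e2438eb498b583020)
noncomputable def g7_11_11s26 : ℕ := (nat_lit 0xbdaa77b9909c8514292ba18612b480)
noncomputable def g7_11_11s27 : ℕ := (nat_lit 0xbc8145da217a5a29a9c8390662b215)
noncomputable def g7_11_11S : Tr ℕ := (.node (nat_lit 14) (.node (nat_lit 7) (.node (nat_lit 3) (.node (nat_lit 1) (.leaf g7_11_11s0) (.node (nat_lit 2) (.leaf g7_11_11s1) (.leaf g7_11_11s2)))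
 (.node (nat_lit 5) (.node (nat_lit 4) (.leaf g7_11_11s3) (.leaf g7_11_11s4)) (.node (nat_lit 6) (.leaf g7_11_11s5) (.leaf g7_11_11s6))))
 (.node (nat_lit 10) (.node (nat_lit 8) (.leaf g7_11_11s7) (.node (nat_lit 9) (.leaf g7_11_11s8) (.leaf g7_11_11s9)))
 (.node (nat_lit 12) (.node (nat_lit 11) (.leaf g7_11_11s10) (.leaf g7_11_11s11)) (.node (nat_lit 13) (.leaf g7_11_11s12) (.leaf g7_11_11s13)))))
 (.node (nat_lit 21) (.node (nat_lit 17) (.node (nat_lit 15) (.leaf g7_11_11s14) (.node (nat_lit 16) (.leaf g7_11_11s15) (.leaf g7_11_11s16)))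
 (.node (nat_lit 19) (.node (nat_lit 18) (.leaf g7_11_11s17) (.leaf g7_11_11s18)) (.node (nat_lit 20) (.leaf g7_11_11s19) (.leaf g7_11_11s20))))
 (.node (nat_lit 24) (.node (nat_lit 22) (.leaf g7_11_11s21) (.node (nat_lit 23) (.leaf g7_11_11s22) (.leaf g7_11_11s23)))
 (.node (nat_lit 26) (.node (nat_lit 25) (.leaf g7_11_11s24) (.leaf g7_11_11s25)) (.node (nat_lit 27) (.leaf g7_11_11s26) (.leaf g7_11_11s27))))))
noncomputable def g7_11_11D : Tr (List ℕ) := (.node (nat_lit 14) (.node (nat_lit 7) (.node (nat_lit 3) (.node (nat_lit 1) (.leaf []) (.node (nat_lit 2) (.leaf []) (.leaf [nat_lit 0, nat_lit 0, nat_lit 0, nat_lit 0, nat_lit 0, nat_lit 0])))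
 (.node (nat_lit 5) (.node (nat_lit 4) (.leaf [nat_lit 1, nat_lit 1, nat_lit 1, nat_lit 1, nat_lit 1, nat_lit 1, nat_lit 1, nat_lit 1, nat_lit 1, nat_lit 1]) (.leaf [nat_lit 0, nat_lit 3, nat_lit 0, nat_lit 3, nat_lit 0, nat_lit 1])) (.node (nat_lit 6) (.leaf [nat_lit 3, nat_lit 2, nat_lit 1, nat_lit 2, nat_lit 1, nat_lit 2]) (.leaf [nat_lit 0, nat_lit 0, nat_lit 0, nat_lit 0, nat_lit 3]))))
 (.node (nat_lit 10) (.node (nat_lit 8) (.leaf [nat_lit 1, nat_lit 2, nat_lit 2, nat_lit 2, nat_lit 2]) (.node (nat_lit 9) (.leaf [nat_lit 5, nat_lit 5, nat_lit 7]) (.leaf [nat_lit 6, nat_lit 4, nat_lit 4])))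
 (.node (nat_lit 12) (.node (nat_lit 11) (.leaf [nat_lit 6, nat_lit 5, nat_lit 6, nat_lit 5]) (.leaf [nat_lit 4, nat_lit 7, nat_lit 4, nat_lit 7])) (.node (nat_lit 13) (.leaf [nat_lit 8, nat_lit 11, nat_lit 8, nat_lit 11, nat_lit 8]) (.leaf [nat_lit 9, nat_lit 10, nat_lit 9, nat_lit 10, nat_lit 9])))))
 (.node (nat_lit 21) (.node (nat_lit 17) (.node (nat_lit 15) (.leaf [nat_lit 8, nat_lit 8, nat_lit 10, nat_lit 10, nat_lit 8, nat_lit 11]) (.node (nat_lit 16) (.leaf [nat_lit 10, nat_lit 9, nat_lit 11, nat_lit 11, nat_lit 9, nat_lit 9]) (.leaf [nat_lit 13, nat_lit 13, nat_lit 14, nat_lit 12, nat_lit 14, nat_lit 12, nat_lit 12, nat_lit 12, nat_lit 14, nat_lit 12, nat_lit 14])))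
 (.node (nat_lit 19) (.node (nat_lit 18) (.leaf [nat_lit 12, nat_lit 15, nat_lit 15, nat_lit 12, nat_lit 15]) (.leaf [nat_lit 14, nat_lit 13, nat_lit 14, nat_lit 14, nat_lit 13])) (.node (nat_lit 20) (.leaf [nat_lit 14, nat_lit 12, nat_lit 14, nat_lit 12, nat_lit 15]) (.leaf [nat_lit 14, nat_lit 13, nat_lit 15, nat_lit 13, nat_lit 15]))))
 (.node (nat_lit 24) (.node (nat_lit 22) (.leaf [nat_lit 17, nat_lit 16, nat_lit 20, nat_lit 16, nat_lit 18]) (.node (nat_lit 23) (.leaf [nat_lit 17, nat_lit 16, nat_lit 19, nat_lit 16, nat_lit 18]) (.leaf [nat_lit 22, nat_lit 18, nat_lit 22])))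
 (.node (nat_lit 26) (.node (nat_lit 25) (.leaf [nat_lit 21, nat_lit 13, nat_lit 22, nat_lit 18, nat_lit 21]) (.leaf [nat_lit 17, nat_lit 9, nat_lit 14, nat_lit 16, nat_lit 19, nat_lit 21])) (.node (nat_lit 27) (.leaf [nat_lit 19, nat_lit 4, nat_lit 17, nat_lit 9, nat_lit 19, nat_lit 14, nat_lit 20]) (.leaf [nat_lit 12, nat_lit 2, nat_lit 13, nat_lit 5, nat_lit 8, nat_lit 17]))))))
theorem g7_11_11slp : slpChk 24 (nat_lit 5) (nat_lit 31) g7_11_11S g7_11_11D 2 26 = true := by decide +kernel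
theorem g7_11_11 : PQR M23.P 7 11 11 := pos (S := g7_11_11S) [nat_lit 6, nat_lit 5, nat_lit 7, nat_lit 1, nat_lit 6, nat_lit 2, nat_lit 6, nat_lit 0, nat_lit 2, nat_lit 5, nat_lit 4, nat_lit 2] [nat_lit 7, nat_lit 0, nat_lit 7, nat_lit 0, nat_lit 5, nat_lit 2, nat_lit 6, nat_lit 4, nat_lit 3, nat_lit 1, nat_lit 5, nat_lit 0, nat_lit 3, nat_lit 1, nat_lit 4, nat_lit 1, nat_lit 3, nat_lit 1, nat_lit 2, nat_lit 0] g7_11_11slp (by decide +kernel)
noncomputable def g7_11_23s0 : ℕ := (nat_lit 0xbc4161b94c115a7aa4c8585f094e84)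
noncomputable def g7_11_23s1 : ℕ := (nat_lit 0xbd9b55cd3401a241be477310a09602)
noncomputable def g7_11_23s2 : ℕ := (nat_lit 0xbd16110ec42c9b03c548625c09bcd5)
noncomputable def g7_11_23s3 : ℕ := (nat_lit 0xbda90925a151ea6992254384c5806f)
noncomputable def g7_11_23s4 : ℕ := (nat_lit 0xb9823716072369155452b4deb62120)
noncomputable def g7_11_23s5 : ℕ := (nat_lit 0xb9d4d321912cdc322c2285a4fa26a0)
noncomputable def g7_11_23s6 : ℕ := (nat_lit 0xb8c254d61333acd8916c7d0f240940)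
noncomputable def g7_11_23s7 : ℕ := (nat_lit 0xbb646811713b988486632be8ab0aa0)
noncomputable def g7_11_23s8 : ℕ := (nat_lit 0xbc444426cd752633aab05b0cf2c820)
noncomputable def g7_11_23s9 : ℕ := (nat_lit 0xbc52e68ac823e063aa535947465420)
noncomputable def g7_11_23s10 : ℕ := (nat_lit 0xbd0b33ad50b3632125cc7907532020)
noncomputable def g7_11_23s11 : ℕ := (nat_lit 0xbbc96a31b03a5c89454298ea62ac20)
noncomputable def g7_11_23s12 : ℕ := (nat_lit 0xba5859366a89de4b387042eb430820)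
noncomputable def g7_11_23s13 : ℕ := (nat_lit 0xbaca48cde86aa55342c770e8c48820)
noncomputable def g7_11_23s14 : ℕ := (nat_lit 0xb9e545b4a64c6b023d56431d318820)
noncomputable def g7_11_23s15 : ℕ := (nat_lit 0xba1b4255cc516469a5e7b422b18820)
noncomputable def g7_11_23s16 : ℕ := (nat_lit 0xbc255651c4395a979a6a5a23618820)
noncomputable def g7_11_23s17 : ℕ := (nat_lit 0xb92924d4b65c5b33a1867a9d018820)
noncomputable def g7_11_23s18 : ℕ := (nat_lit 0xbc12ba18ad946c79b11553dc418820)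
noncomputable def g7_11_23s19 : ℕ := (nat_lit 0xbb5135bdd63160aa1ea964a2418820)
noncomputable def g7_11_23s20 : ℕ := (nat_lit 0xbd6cb22627638cfa224a834b318820)
noncomputable def g7_11_23s21 : ℕ := (nat_lit 0xb926faa22da3a0b6255231cb618820)
noncomputable def g7_11_23s22 : ℕ := (nat_lit 0xb9da32494673eac5c4a8b4133a0820)
noncomputable def g7_11_23s23 : ℕ := (nat_lit 0xbd8948ca636a9e2438eb498b583020)
noncomputable def g7_11_23s24 : ℕ := (nat_lit 0xbdaa77b9909c8514292ba18612b480)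
noncomputable def g7_11_23s25 : ℕ := (nat_lit 0xbc8145da217a5a29a9c8390662b215)
noncomputable def g7_11_23S : Tr ℕ := (.node (nat_lit 13) (.node (nat_lit 6) (.node (nat_lit 3) (.node (nat_lit 1) (.leaf g7_11_23s0) (.node (nat_lit 2) (.leaf g7_11_23s1) (.leaf g7_11_23s2))) (.node (nat_lit 4) (.leaf g7_11_23s3) (.node (nat_lit 5) (.leaf g7_11_23s4) (.leaf g7_11_23s5))))
 (.node (nat_lit 9) (.node (nat_lit 7) (.leaf g7_11_23s6) (.node (nat_lit 8) (.leaf g7_11_23s7) (.leaf g7_11_23s8)))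
 (.node (nat_lit 11) (.node (nat_lit 10) (.leaf g7_11_23s9) (.leaf g7_11_23s10)) (.node (nat_lit 12) (.leaf g7_11_23s11) (.leaf g7_11_23s12)))))
 (.node (nat_lit 19) (.node (nat_lit 16) (.node (nat_lit 14) (.leaf g7_11_23s13) (.node (nat_lit 15) (.leaf g7_11_23s14) (.leaf g7_11_23s15))) (.node (nat_lit 17) (.leaf g7_11_23s16) (.node (nat_lit 18) (.leaf g7_11_23s17) (.leaf g7_11_23s18))))
 (.node (nat_lit 22) (.node (nat_lit 20) (.leaf g7_11_23s19) (.node (nat_lit 21) (.leaf g7_11_23s20) (.leaf g7_11_23s21)))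
 (.node (nat_lit 24) (.node (nat_lit 23) (.leaf g7_11_23s22) (.leaf g7_11_23s23)) (.node (nat_lit 25) (.leaf g7_11_23s24) (.leaf g7_11_23s25))))))
noncomputable def g7_11_23D : Tr (List ℕ) := (.node (nat_lit 13) (.node (nat_lit 6) (.node (nat_lit 3) (.node (nat_lit 1) (.leaf []) (.node (nat_lit 2) (.leaf []) (.leaf [nat_lit 0, nat_lit 0, nat_lit 0, nat_lit 0, nat_lit 0, nat_lit 0]))) (.node (nat_lit 4) (.leaf [nat_lit 1, nat_lit 1, nat_lit 1, nat_lit 1, nat_lit 1, nat_lit 1, nat_lit 1, nat_lit 1, nat_lit 1, nat_lit 1]) (.node (nat_lit 5) (.leaf [nat_lit 2, nat_lit 3, nat_lit 3, nat_lit 2, nat_lit 1]) (.leaf [nat_lit 3, nat_lit 0, nat_lit 1, nat_lit 1, nat_lit 0]))))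
 (.node (nat_lit 9) (.node (nat_lit 7) (.leaf [nat_lit 2, nat_lit 1, nat_lit 0, nat_lit 0, nat_lit 0]) (.node (nat_lit 8) (.leaf [nat_lit 2, nat_lit 2, nat_lit 2, nat_lit 3, nat_lit 0]) (.leaf [nat_lit 4, nat_lit 4, nat_lit 6])))
 (.node (nat_lit 11) (.node (nat_lit 10) (.leaf [nat_lit 7, nat_lit 5, nat_lit 5]) (.leaf [nat_lit 4, nat_lit 7])) (.node (nat_lit 12) (.leaf [nat_lit 6, nat_lit 5]) (.leaf [nat_lit 10, nat_lit 10, nat_lit 8])))))
 (.node (nat_lit 19) (.node (nat_lit 16) (.node (nat_lit 14) (.leaf [nat_lit 9, nat_lit 11, nat_lit 11]) (.node (nat_lit 15) (.leaf [nat_lit 10, nat_lit 8, nat_lit 10, nat_lit 9, nat_lit 10]) (.leaf [nat_lit 11, nat_lit 8, nat_lit 11, nat_lit 9, nat_lit 11]))) (.node (nat_lit 17) (.leaf [nat_lit 13, nat_lit 14, nat_lit 12, nat_lit 14, nat_lit 13, nat_lit 15, nat_lit 13, nat_lit 13]) (.node (nat_lit 18) (.leaf [nat_lit 12, nat_lit 12, nat_lit 14, nat_lit 12, nat_lit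 15, nat_lit 13, nat_lit 15, nat_lit 12]) (.leaf [nat_lit 12, nat_lit 14, nat_lit 13, nat_lit 15, nat_lit 15, nat_lit 12, nat_lit 12, nat_lit 12, nat_lit 15, nat_lit 12, nat_lit 12, nat_lit 12]))))
 (.node (nat_lit 22) (.node (nat_lit 20) (.leaf [nat_lit 18, nat_lit 18]) (.node (nat_lit 21) (.leaf [nat_lit 14, nat_lit 19]) (.leaf [nat_lit 16, nat_lit 18])))
 (.node (nat_lit 24) (.node (nat_lit 23) (.leaf [nat_lit 17, nat_lit 19, nat_lit 13, nat_lit 15, nat_lit 16, nat_lit 19]) (.leaf [nat_lit 12, nat_lit 9, nat_lit 15, nat_lit 12, nat_lit 16, nat_lit 18, nat_lit 14, nat_lit 18])) (.node (nat_lit 25) (.leaf [nat_lit 11, nat_lit 5, nat_lit 12, nat_lit 10, nat_lit 12, nat_lit 17, nat_lit 13, nat_lit 16, nat_lit 15, nat_lit 19]) (.leaf [nat_lit 2, nat_lit 12, nat_lit 5, nat_lit 15, nat_lit 9, nat_lit 12, nat_lit 17, nat_lit 13, nat_lit 18, nat_lit 14]))))))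
theorem g7_11_23slp : slpChk 24 (nat_lit 5) (nat_lit 31) g7_11_23S g7_11_23D 2 24 = true := by decide +kernel
theorem g7_11_23 : PQR M23.P 7 11 23 := pos (S := g7_11_23S) [nat_lit 5, nat_lit 7, nat_lit 0, nat_lit 2, nat_lit 6, nat_lit 0, nat_lit 2, nat_lit 5, nat_lit 0, nat_lit 3, nat_lit 0, nat_lit 4, nat_lit 0, nat_lit 3] [nat_lit 6, nat_lit 4, nat_lit 7, nat_lit 6, nat_lit 0, nat_lit 5, nat_lit 0, nat_lit 3, nat_lit 0, nat_lit 4, nat_lit 1, nat_lit 3, nat_lit 1, nat_lit 2, nat_lit 1] g7_11_23slp (by decide +kernel)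
noncomputable def g7_23_23s0 : ℕ := (nat_lit 0xbc54f1c8ae650953c1363066b1200d)
noncomputable def g7_23_23s1 : ℕ := (nat_lit 0xb92d5924ad5be913c0269810e62862)
noncomputable def g7_23_23s2 : ℕ := (nat_lit 0xba18e2cacaa400f2552259e2d98cc1)
noncomputable def g7_23_23s3 : ℕ := (nat_lit 0xbadee1b01694c864d62a0c047450ad)
noncomputable def g7_23_23s4 : ℕ := (nat_lit 0xbd68d3cd8a7120378a455a23608126)
noncomputable def g7_23_23s5 : ℕ := (nat_lit 0xbba621caa18916a622c72a5b0a3cc0)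
noncomputable def g7_23_23s6 : ℕ := (nat_lit 0xba623ac9e4158ab6b0ca404ee9d200)
noncomputable def g7_23_23s7 : ℕ := (nat_lit 0xbc23211d757b1a4b22862853353860)
noncomputable def g7_23_23s8 : ℕ := (nat_lit 0xbae09252b6789ae88caa920ec0ccc0)
noncomputable def g7_23_23s9 : ℕ := (nat_lit 0xb8e268348c14ac55cce9a214f75420)
noncomputable def g7_23_23s10 : ℕ := (nat_lit 0xbb44753ab320e50595064d191b3c20)
noncomputable def g7_23_23s11 : ℕ := (nat_lit 0xbd6697950e3b086a40768b56a14820)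
noncomputable def g7_23_23s12 : ℕ := (nat_lit 0xba2cba88ea9c0ce292917b24d48c20)
noncomputable def g7_23_23s13 : ℕ := (nat_lit 0xbbe0569d8a74a86a8e33b110958820)
noncomputable def g7_23_23s14 : ℕ := (nat_lit 0xb9d6d43935b3e711c0859328650820)
noncomputable def g7_23_23s15 : ℕ := (nat_lit 0xb8d564d5716c8a699207a3d8e40820)
noncomputable def g7_23_23s16 : ℕ := (nat_lit 0xbd2475ba09311e58d663431aab0820)
noncomputable def g7_23_23s17 : ℕ := (nat_lit 0xb9e545b4a64c6b023d56431d318820)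
noncomputable def g7_23_23s18 : ℕ := (nat_lit 0xbc255651c4395a979a6a5a23618820)
noncomputable def g7_23_23s19 : ℕ := (nat_lit 0xb92924d4b65c5b33a1867a9d018820)
noncomputable def g7_23_23s20 : ℕ := (nat_lit 0xb926faa22da3a0b6255231cb618820)
noncomputable def g7_23_23s21 : ℕ := (nat_lit 0xbc12ba18ad946c79b11553dc418820)
noncomputable def g7_23_23s22 : ℕ := (nat_lit 0xbb5135bdd63160aa1ea964a2418820)
noncomputable def g7_23_23s23 : ℕ := (nat_lit 0xbd6cb22627638cfa224a834b318820)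
noncomputable def g7_23_23s24 : ℕ := (nat_lit 0xb9da32494673eac5c4a8b4133a0820)
noncomputable def g7_23_23s25 : ℕ := (nat_lit 0xbd8948ca636a9e2438eb498b583020)
noncomputable def g7_23_23s26 : ℕ := (nat_lit 0xbdaa77b9909c8514292ba18612b480)
noncomputable def g7_23_23s27 : ℕ := (nat_lit 0xbc8145da217a5a29a9c8390662b215)
noncomputable def g7_23_23S : Tr ℕ := (.node (nat_lit 14) (.node (nat_lit 7) (.node (nat_lit 3) (.node (nat_lit 1) (.leaf g7_23_23s0) (.node (nat_lit 2) (.leaf g7_23_23s1) (.leaf g7_23_23s2)))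
 (.node (nat_lit 5) (.node (nat_lit 4) (.leaf g7_23_23s3) (.leaf g7_23_23s4)) (.node (nat_lit 6) (.leaf g7_23_23s5) (.leaf g7_23_23s6))))
 (.node (nat_lit 10) (.node (nat_lit 8) (.leaf g7_23_23s7) (.node (nat_lit 9) (.leaf g7_23_23s8) (.leaf g7_23_23s9)))
 (.node (nat_lit 12) (.node (nat_lit 11) (.leaf g7_23_23s10) (.leaf g7_23_23s11)) (.node (nat_lit 13) (.leaf g7_23_23s12) (.leaf g7_23_23s13)))))
 (.node (nat_lit 21) (.node (nat_lit 17) (.node (nat_lit 15) (.leaf g7_23_23s14) (.node (nat_lit 16) (.leaf g7_23_23s15) (.leaf g7_23_23s16)))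
 (.node (nat_lit 19) (.node (nat_lit 18) (.leaf g7_23_23s17) (.leaf g7_23_23s18)) (.node (nat_lit 20) (.leaf g7_23_23s19) (.leaf g7_23_23s20))))
 (.node (nat_lit 24) (.node (nat_lit 22) (.leaf g7_23_23s21) (.node (nat_lit 23) (.leaf g7_23_23s22) (.leaf g7_23_23s23)))
 (.node (nat_lit 26) (.node (nat_lit 25) (.leaf g7_23_23s24) (.leaf g7_23_23s25)) (.node (nat_lit 27) (.leaf g7_23_23s26) (.leaf g7_23_23s27))))))
noncomputable def g7_23_23D : Tr (List ℕ) := (.node (nat_lit 14) (.node (nat_lit 7) (.node (nat_lit 3) (.node (nat_lit 1) (.leaf []) (.node (nat_lit 2) (.leaf []) (.leaf [nat_lit 0, nat_lit 0, nat_lit 0, nat_lit 0, nat_lit 0, nat_lit 0])))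
 (.node (nat_lit 5) (.node (nat_lit 4) (.leaf [nat_lit 1, nat_lit 1, nat_lit 1, nat_lit 1]) (.leaf [nat_lit 3, nat_lit 3, nat_lit 3, nat_lit 3, nat_lit 3, nat_lit 1, nat_lit 1])) (.node (nat_lit 6) (.leaf [nat_lit 0, nat_lit 4, nat_lit 2, nat_lit 1]) (.leaf [nat_lit 4, nat_lit 0, nat_lit 1, nat_lit 2]))))
 (.node (nat_lit 10) (.node (nat_lit 8) (.leaf [nat_lit 0, nat_lit 4, nat_lit 4, nat_lit 4, nat_lit 2, nat_lit 4, nat_lit 0, nat_lit 1]) (.node (nat_lit 9) (.leaf [nat_lit 4, nat_lit 2, nat_lit 1, nat_lit 0, nat_lit 1, nat_lit 1, nat_lit 1, nat_lit 2]) (.leaf [nat_lit 6, nat_lit 7, nat_lit 6, nat_lit 6, nat_lit 8, nat_lit 5, nat_lit 8])))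
 (.node (nat_lit 12) (.node (nat_lit 11) (.leaf [nat_lit 7, nat_lit 6, nat_lit 7, nat_lit 5, nat_lit 5, nat_lit 8, nat_lit 5]) (.leaf [nat_lit 5, nat_lit 7, nat_lit 7, nat_lit 5, nat_lit 5, nat_lit 8, nat_lit 5, nat_lit 8])) (.node (nat_lit 13) (.leaf [nat_lit 7, nat_lit 6, nat_lit 7, nat_lit 6, nat_lit 6, nat_lit 8, nat_lit 8, nat_lit 6]) (.leaf [nat_lit 12, nat_lit 9, nat_lit 9, nat_lit 12])))))
 (.node (nat_lit 21) (.node (nat_lit 17) (.node (nat_lit 15) (.leaf [nat_lit 11, nat_lit 10, nat_lit 10, nat_lit 11]) (.node (nat_lit 16) (.leaf [nat_lit 11, nat_lit 10, nat_lit 12, nat_lit 9, nat_lit 9, nat_lit 11, nat_lit 9]) (.leaf [nat_lit 10, nat_lit 12, nat_lit 10, nat_lit 10, nat_lit 11, nat_lit 9, nat_lit 12])))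
 (.node (nat_lit 19) (.node (nat_lit 18) (.leaf [nat_lit 13, nat_lit 16, nat_lit 16, nat_lit 14, nat_lit 16, nat_lit 16, nat_lit 14]) (.leaf [nat_lit 14, nat_lit 15, nat_lit 15, nat_lit 14, nat_lit 14])) (.node (nat_lit 20) (.leaf [nat_lit 13, nat_lit 13, nat_lit 16, nat_lit 16, nat_lit 13]) (.leaf [nat_lit 15, nat_lit 14, nat_lit 15, nat_lit 14, nat_lit 14, nat_lit 16, nat_lit 13, nat_lit 13, nat_lit 13]))))
 (.node (nat_lit 24) (.node (nat_lit 22) (.leaf [nat_lit 19, nat_lit 20]) (.node (nat_lit 23) (.leaf [nat_lit 20, nat_lit 18]) (.leaf [nat_lit 17, nat_lit 22])))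
 (.node (nat_lit 26) (.node (nat_lit 25) (.leaf [nat_lit 22, nat_lit 13, nat_lit 21, nat_lit 19, nat_lit 21]) (.leaf [nat_lit 17, nat_lit 22, nat_lit 10, nat_lit 22, nat_lit 13, nat_lit 17, nat_lit 19, nat_lit 17, nat_lit 22])) (.node (nat_lit 27) (.leaf [nat_lit 18, nat_lit 6, nat_lit 19, nat_lit 10, nat_lit 19, nat_lit 17]) (.leaf [nat_lit 17, nat_lit 0, nat_lit 21, nat_lit 5, nat_lit 19, nat_lit 10, nat_lit 15, nat_lit 14, nat_lit 20, nat_lit 17, nat_lit 22]))))))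
theorem g7_23_23slp : slpChk 24 (nat_lit 5) (nat_lit 31) g7_23_23S g7_23_23D 2 26 = true := by decide +kernel
theorem g7_23_23 : PQR M23.P 7 23 23 := pos (S := g7_23_23S) [nat_lit 4, nat_lit 7, nat_lit 5, nat_lit 6, nat_lit 2, nat_lit 1, nat_lit 5, nat_lit 4, nat_lit 3, nat_lit 1, nat_lit 4, nat_lit 1, nat_lit 3, nat_lit 1] [nat_lit 6, nat_lit 4, nat_lit 7, nat_lit 1, nat_lit 5, nat_lit 2, nat_lit 6, nat_lit 5, nat_lit 2, nat_lit 0, nat_lit 5, nat_lit 4, nat_lit 3, nat_lit 4, nat_lit 2, nat_lit 0, nat_lit 3, nat_lit 1] g7_23_23slp (by decide +kernel)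
noncomputable def g11_11_11s0 : ℕ := (nat_lit 0xbaad42b969680434466133eb23920c)
noncomputable def g11_11_11s1 : ℕ := (nat_lit 0xbb88f9a866b40053b281aae2943452)
noncomputable def g11_11_11s2 : ℕ := (nat_lit 0xbd4b449141349e08da0b19e626350e)
noncomputable def g11_11_11s3 : ℕ := (nat_lit 0xbbce9980aea584a348835c1958850d)
noncomputable def g11_11_11s4 : ℕ := (nat_lit 0xba5036a9f4b08a1a9cd28ad90991c0)
noncomputable def g11_11_11s5 : ℕ := (nat_lit 0xbbd701a0e48866534ad5525a2a3980)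
noncomputable def g11_11_11s6 : ℕ := (nat_lit 0xb8e88b2a305bce470995299a99c820)
noncomputable def g11_11_11s7 : ℕ := (nat_lit 0xbcd1518a3072ca97c894698ecb2820)
noncomputable def g11_11_11s8 : ℕ := (nat_lit 0xbd8a34bc51a21468126e6d58792c20)
noncomputable def g11_11_11s9 : ℕ := (nat_lit 0xbd8cf48e0b920e51366e232aaa4420)
noncomputable def g11_11_11s10 : ℕ := (nat_lit 0xbbda7b21d498d3259aac810aa88820)
noncomputable def g11_11_11s11 : ℕ := (nat_lit 0xbcd307b067b46a8591b2a28a670820)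
noncomputable def g11_11_11s12 : ℕ := (nat_lit 0xbad30a38f26cd858d88353cc8a8820)
noncomputable def g11_11_11s13 : ℕ := (nat_lit 0xba87374174349edb1ea48958940820)
noncomputable def g11_11_11s14 : ℕ := (nat_lit 0xba1b4255cc516469a5e7b422b18820)
noncomputable def g11_11_11s15 : ℕ := (nat_lit 0xb9e545b4a64c6b023d56431d318820)
noncomputable def g11_11_11s16 : ℕ := (nat_lit 0xbb2ad350abb464f5408999dc818820)
noncomputable def g11_11_11s17 : ℕ := (nat_lit 0xbbeb23b5ca6169682d0434e2918820)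
noncomputable def g11_11_11s18 : ℕ := (nat_lit 0xbb2c9819c8795753d1536923218820)
noncomputable def g11_11_11s19 : ℕ := (nat_lit 0xbd58a410b37c4f66a6905c9c618820)
noncomputable def g11_11_11s20 : ℕ := (nat_lit 0xbc12ba18ad946c79b11553dc418820)
noncomputable def g11_11_11s21 : ℕ := (nat_lit 0xbb5135bdd63160aa1ea964a2418820)
noncomputable def g11_11_11s22 : ℕ := (nat_lit 0xbd6cb22627638cfa224a834b318820)
noncomputable def g11_11_11s23 : ℕ := (nat_lit 0xb926faa22da3a0b6255231cb618820)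
noncomputable def g11_11_11s24 : ℕ := (nat_lit 0xb9da32494673eac5c4a8b4133a0820)
noncomputable def g11_11_11s25 : ℕ := (nat_lit 0xbd8948ca636a9e2438eb498b583020)
noncomputable def g11_11_11s26 : ℕ := (nat_lit 0xbdaa77b9909c8514292ba18612b480)
noncomputable def g11_11_11s27 : ℕ := (nat_lit 0xbc8145da217a5a29a9c8390662b215)
noncomputable def g11_11_11S : Tr ℕ := (.node (nat_lit 14) (.node (nat_lit 7) (.node (nat_lit 3) (.node (nat_lit 1) (.leaf g11_11_11s0) (.node (nat_lit 2) (.leaf g11_11_11s1) (.leaf g11_11_11s2)))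
 (.node (nat_lit 5) (.node (nat_lit 4) (.leaf g11_11_11s3) (.leaf g11_11_11s4)) (.node (nat_lit 6) (.leaf g11_11_11s5) (.leaf g11_11_11s6))))
 (.node (nat_lit 10) (.node (nat_lit 8) (.leaf g11_11_11s7) (.node (nat_lit 9) (.leaf g11_11_11s8) (.leaf g11_11_11s9)))
 (.node (nat_lit 12) (.node (nat_lit 11) (.leaf g11_11_11s10) (.leaf g11_11_11s11)) (.node (nat_lit 13) (.leaf g11_11_11s12) (.leaf g11_11_11s13)))))
 (.node (nat_lit 21) (.node (nat_lit 17) (.node (nat_lit 15) (.leaf g11_11_11s14) (.node (nat_lit 16) (.leaf g11_11_11s15) (.leaf g11_11_11s16)))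
 (.node (nat_lit 19) (.node (nat_lit 18) (.leaf g11_11_11s17) (.leaf g11_11_11s18)) (.node (nat_lit 20) (.leaf g11_11_11s19) (.leaf g11_11_11s20))))
 (.node (nat_lit 24) (.node (nat_lit 22) (.leaf g11_11_11s21) (.node (nat_lit 23) (.leaf g11_11_11s22) (.leaf g11_11_11s23)))
 (.node (nat_lit 26) (.node (nat_lit 25) (.leaf g11_11_11s24) (.leaf g11_11_11s25)) (.node (nat_lit 27) (.leaf g11_11_11s26) (.leaf g11_11_11s27))))))
noncomputable def g11_11_11D : Tr (List ℕ) := (.node (nat_lit 14) (.node (nat_lit 7) (.node (nat_lit 3) (.node (nat_lit 1) (.leaf []) (.node (nat_lit 2) (.leaf []) (.leaf [nat_lit 0, nat_lit 0, nat_lit 0, nat_lit 0, nat_lit 0, nat_lit 0, nat_lit 0, nat_lit 0, nat_lit 0, nat_lit 0])))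
 (.node (nat_lit 5) (.node (nat_lit 4) (.leaf [nat_lit 1, nat_lit 1, nat_lit 1, nat_lit 1, nat_lit 1, nat_lit 1, nat_lit 1, nat_lit 1, nat_lit 1, nat_lit 1]) (.leaf [nat_lit 1, nat_lit 0, nat_lit 1, nat_lit 2, nat_lit 3, nat_lit 2, nat_lit 3])) (.node (nat_lit 6) (.leaf [nat_lit 1, nat_lit 0, nat_lit 1, nat_lit 0, nat_lit 3, nat_lit 2, nat_lit 3]) (.leaf [nat_lit 0, nat_lit 1, nat_lit 2, nat_lit 1, nat_lit 2, nat_lit 2]))))
 (.node (nat_lit 10) (.node (nat_lit 8) (.leaf [nat_lit 0, nat_lit 0, nat_lit 3, nat_lit 0, nat_lit 3, nat_lit 2]) (.node (nat_lit 9) (.leaf [nat_lit 5, nat_lit 6, nat_lit 4, nat_lit 4, nat_lit 7, nat_lit 5]) (.leaf [nat_lit 4, nat_lit 6, nat_lit 5, nat_lit 5, nat_lit 7, nat_lit 4])))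
 (.node (nat_lit 12) (.node (nat_lit 11) (.leaf [nat_lit 8, nat_lit 8, nat_lit 6, nat_lit 8, nat_lit 8]) (.leaf [nat_lit 9, nat_lit 9, nat_lit 7, nat_lit 9, nat_lit 9])) (.node (nat_lit 13) (.leaf [nat_lit 9, nat_lit 7, nat_lit 8, nat_lit 8, nat_lit 7, nat_lit 8, nat_lit 7, nat_lit 7]) (.leaf [nat_lit 6, nat_lit 6, nat_lit 9, nat_lit 6, nat_lit 9, nat_lit 9, nat_lit 6, nat_lit 8])))))
 (.node (nat_lit 21) (.node (nat_lit 17) (.node (nat_lit 15) (.leaf [nat_lit 12, nat_lit 10, nat_lit 10, nat_lit 13, nat_lit 11, nat_lit 12, nat_lit 10, nat_lit 13]) (.node (nat_lit 16) (.leaf [nat_lit 12, nat_lit 11, nat_lit 13, nat_lit 10, nat_lit 12, nat_lit 11, nat_lit 11, nat_lit 13]) (.leaf [nat_lit 10, nat_lit 13, nat_lit 13, nat_lit 11, nat_lit 12, nat_lit 11, nat_lit 11])))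
 (.node (nat_lit 19) (.node (nat_lit 18) (.leaf [nat_lit 10, nat_lit 10, nat_lit 13, nat_lit 10, nat_lit 12, nat_lit 12, nat_lit 11]) (.leaf [nat_lit 13, nat_lit 11, nat_lit 13, nat_lit 11, nat_lit 11, nat_lit 13])) (.node (nat_lit 20) (.leaf [nat_lit 12, nat_lit 10, nat_lit 10, nat_lit 12, nat_lit 10, nat_lit 12]) (.leaf [nat_lit 18, nat_lit 16, nat_lit 15]))))
 (.node (nat_lit 24) (.node (nat_lit 22) (.leaf [nat_lit 14, nat_lit 17, nat_lit 19]) (.node (nat_lit 23) (.leaf [nat_lit 15, nat_lit 21]) (.leaf [nat_lit 15, nat_lit 16, nat_lit 20])))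
 (.node (nat_lit 26) (.node (nat_lit 25) (.leaf [nat_lit 16, nat_lit 13, nat_lit 11, nat_lit 19, nat_lit 20]) (.leaf [nat_lit 11, nat_lit 6, nat_lit 12, nat_lit 15, nat_lit 19])) (.node (nat_lit 27) (.leaf [nat_lit 6, nat_lit 5, nat_lit 11, nat_lit 6, nat_lit 13, nat_lit 10, nat_lit 14, nat_lit 21]) (.leaf [nat_lit 18, nat_lit 0, nat_lit 7, nat_lit 5, nat_lit 11, nat_lit 9, nat_lit 10, nat_lit 20, nat_lit 15, nat_lit 21]))))))
theorem g11_11_11slp : slpChk 24 (nat_lit 5) (nat_lit 31) g11_11_11S g11_11_11D 2 26 = true := by decide +kernel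
theorem g11_11_11 : PQR M23.P 11 11 11 := pos (S := g11_11_11S) [nat_lit 0, nat_lit 2, nat_lit 1, nat_lit 7, nat_lit 1, nat_lit 5, nat_lit 2, nat_lit 6, nat_lit 1, nat_lit 5, nat_lit 1, nat_lit 3, nat_lit 0, nat_lit 4, nat_lit 1] [nat_lit 3, nat_lit 1, nat_lit 7, nat_lit 3, nat_lit 1, nat_lit 2, nat_lit 6, nat_lit 3, nat_lit 0, nat_lit 5, nat_lit 1, nat_lit 3, nat_lit 4, nat_lit 3, nat_lit 2, nat_lit 0] g11_11_11slp (by decide +kernel)
noncomputable def g11_11_23s0 : ℕ := (nat_lit 0xbbab67c0455326b4ca2305101390cd)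
noncomputable def g11_11_23s1 : ℕ := (nat_lit 0xb9c5524428a4ac61aa0d9812b2b1ee)
noncomputable def g11_11_23s2 : ℕ := (nat_lit 0xbd2a66a9329d80e63d651860244487)
noncomputable def g11_11_23s3 : ℕ := (nat_lit 0xbb68f3ba4908102228b0b30735d626)
noncomputable def g11_11_23s4 : ℕ := (nat_lit 0xbc86ca19c99b6222060ba9de8b1540)
noncomputable def g11_11_23s5 : ℕ := (nat_lit 0xb8cf37d9a92c5d4406043484bab140)
noncomputable def g11_11_23s6 : ℕ := (nat_lit 0xba6666ac9273e361d590150ea09500)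
noncomputable def g11_11_23s7 : ℕ := (nat_lit 0xbb146ac1a873e69912c12d05159c60)
noncomputable def g11_11_23s8 : ℕ := (nat_lit 0xb9ec97ca6e895ab11888a8e1453020)
noncomputable def g11_11_23s9 : ℕ := (nat_lit 0xbd4e48c9e59c1a260e88b29c932c20)
noncomputable def g11_11_23s10 : ℕ := (nat_lit 0xb95b1b0df3a99893a292209ca5c020)
noncomputable def g11_11_23s11 : ℕ := (nat_lit 0xbcde982282896ad1918a5bac791820)
noncomputable def g11_11_23s12 : ℕ := (nat_lit 0xb99644469382aae2d9a39312778820)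
noncomputable def g11_11_23s13 : ℕ := (nat_lit 0xba9b181e4f1b126ab8b32597440820)
noncomputable def g11_11_23s14 : ℕ := (nat_lit 0xbac6d7554823e533da068952ca0820)
noncomputable def g11_11_23s15 : ℕ := (nat_lit 0xbaa43634e974e84b44b05a0cfa8820)
noncomputable def g11_11_23s16 : ℕ := (nat_lit 0xba0d6aa4b26c56a792143cdcc18820)
noncomputable def g11_11_23s17 : ℕ := (nat_lit 0xbd268341c9595e46b2563d62a18820)
noncomputable def g11_11_23s18 : ℕ := (nat_lit 0xbd58a410b37c4f66a6905c9c618820)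
noncomputable def g11_11_23s19 : ℕ := (nat_lit 0xbb2c9819c8795753d1536923218820)
noncomputable def g11_11_23s20 : ℕ := (nat_lit 0xbd987929cda948f4ccd442e3018820)
noncomputable def g11_11_23s21 : ℕ := (nat_lit 0xbd9e854ca46461534967a25cd18820)
noncomputable def g11_11_23s22 : ℕ := (nat_lit 0xbb5135bdd63160aa1ea964a2418820)
noncomputable def g11_11_23s23 : ℕ := (nat_lit 0xbc12ba18ad946c79b11553dc418820)
noncomputable def g11_11_23s24 : ℕ := (nat_lit 0xbd6cb22627638cfa224a834b318820)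
noncomputable def g11_11_23s25 : ℕ := (nat_lit 0xb926faa22da3a0b6255231cb618820)
noncomputable def g11_11_23s26 : ℕ := (nat_lit 0xb9da32494673eac5c4a8b4133a0820)
noncomputable def g11_11_23s27 : ℕ := (nat_lit 0xbd8948ca636a9e2438eb498b583020)
noncomputable def g11_11_23s28 : ℕ := (nat_lit 0xbdaa77b9909c8514292ba18612b480)
noncomputable def g11_11_23s29 : ℕ := (nat_lit 0xbc8145da217a5a29a9c8390662b215)
noncomputable def g11_11_23S : Tr ℕ := (.node (nat_lit 15) (.node (nat_lit 7) (.node (nat_lit 3) (.node (nat_lit 1) (.leaf g11_11_23s0) (.node (nat_lit 2) (.leaf g11_11_23s1) (.leaf g11_11_23s2)))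
 (.node (nat_lit 5) (.node (nat_lit 4) (.leaf g11_11_23s3) (.leaf g11_11_23s4)) (.node (nat_lit 6) (.leaf g11_11_23s5) (.leaf g11_11_23s6))))
 (.node (nat_lit 11) (.node (nat_lit 9) (.node (nat_lit 8) (.leaf g11_11_23s7) (.leaf g11_11_23s8)) (.node (nat_lit 10) (.leaf g11_11_23s9) (.leaf g11_11_23s10)))
 (.node (nat_lit 13) (.node (nat_lit 12) (.leaf g11_11_23s11) (.leaf g11_11_23s12)) (.node (nat_lit 14) (.leaf g11_11_23s13) (.leaf g11_11_23s14)))))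
 (.node (nat_lit 22) (.node (nat_lit 18) (.node (nat_lit 16) (.leaf g11_11_23s15) (.node (nat_lit 17) (.leaf g11_11_23s16) (.leaf g11_11_23s17)))
 (.node (nat_lit 20) (.node (nat_lit 19) (.leaf g11_11_23s18) (.leaf g11_11_23s19)) (.node (nat_lit 21) (.leaf g11_11_23s20) (.leaf g11_11_23s21))))
 (.node (nat_lit 26) (.node (nat_lit 24) (.node (nat_lit 23) (.leaf g11_11_23s22) (.leaf g11_11_23s23)) (.node (nat_lit 25) (.leaf g11_11_23s24) (.leaf g11_11_23s25)))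
 (.node (nat_lit 28) (.node (nat_lit 27) (.leaf g11_11_23s26) (.leaf g11_11_23s27)) (.node (nat_lit 29) (.leaf g11_11_23s28) (.leaf g11_11_23s29))))))
noncomputable def g11_11_23D : Tr (List ℕ) := (.node (nat_lit 15) (.node (nat_lit 7) (.node (nat_lit 3) (.node (nat_lit 1) (.leaf []) (.node (nat_lit 2) (.leaf []) (.leaf [nat_lit 0, nat_lit 0, nat_lit 0, nat_lit 0, nat_lit 0, nat_lit 0, nat_lit 0, nat_lit 0, nat_lit 0, nat_lit 0])))
 (.node (nat_lit 5) (.node (nat_lit 4) (.leaf [nat_lit 1, nat_lit 1, nat_lit 1, nat_lit 1, nat_lit 1, nat_lit 1, nat_lit 1, nat_lit 1, nat_lit 1, nat_lit 1]) (.leaf [nat_lit 1, nat_lit 1, nat_lit 0, nat_lit 1])) (.node (nat_lit 6) (.leaf [nat_lit 3, nat_lit 2, nat_lit 3, nat_lit 3]) (.leaf [nat_lit 3, nat_lit 0, nat_lit 1, nat_lit 0]))))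
 (.node (nat_lit 11) (.node (nat_lit 9) (.node (nat_lit 8) (.leaf [nat_lit 2, nat_lit 3, nat_lit 2, nat_lit 1]) (.leaf [nat_lit 4, nat_lit 7, nat_lit 5, nat_lit 7])) (.node (nat_lit 10) (.leaf [nat_lit 6, nat_lit 4, nat_lit 6, nat_lit 5]) (.leaf [nat_lit 7, nat_lit 7, nat_lit 7, nat_lit 4, nat_lit 4, nat_lit 7])))
 (.node (nat_lit 13) (.node (nat_lit 12) (.leaf [nat_lit 6, nat_lit 5, nat_lit 5, nat_lit 6, nat_lit 6, nat_lit 6]) (.leaf [nat_lit 11, nat_lit 11, nat_lit 8, nat_lit 11, nat_lit 11, nat_lit 11, nat_lit 8, nat_lit 11, nat_lit 8])) (.node (nat_lit 14) (.leaf [nat_lit 9, nat_lit 10, nat_lit 9, nat_lit 10, nat_lit 10, nat_lit 10, nat_lit 9, nat_lit 10, nat_lit 10]) (.leaf [nat_lit 8, nat_lit 10, nat_lit 10, nat_lit 10, nat_lit 10, nat_lit 9, nat_lit 11])))))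
 (.node (nat_lit 22) (.node (nat_lit 18) (.node (nat_lit 16) (.leaf [nat_lit 10, nat_lit 8, nat_lit 11, nat_lit 11, nat_lit 11, nat_lit 11, nat_lit 9]) (.node (nat_lit 17) (.leaf [nat_lit 12, nat_lit 14, nat_lit 14, nat_lit 13, nat_lit 14, nat_lit 14]) (.leaf [nat_lit 15, nat_lit 15, nat_lit 12, nat_lit 15, nat_lit 15, nat_lit 13])))
 (.node (nat_lit 20) (.node (nat_lit 19) (.leaf [nat_lit 14, nat_lit 12, nat_lit 14, nat_lit 14]) (.leaf [nat_lit 15, nat_lit 15, nat_lit 13, nat_lit 15])) (.node (nat_lit 21) (.leaf [nat_lit 15, nat_lit 12, nat_lit 12, nat_lit 15, nat_lit 12, nat_lit 15, nat_lit 15, nat_lit 15]) (.leaf [nat_lit 14, nat_lit 14, nat_lit 14, nat_lit 13, nat_lit 14, nat_lit 13, nat_lit 13, nat_lit 14]))))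
 (.node (nat_lit 26) (.node (nat_lit 24) (.node (nat_lit 23) (.leaf [nat_lit 16, nat_lit 21, nat_lit 18, nat_lit 21, nat_lit 21]) (.leaf [nat_lit 20, nat_lit 20, nat_lit 19, nat_lit 20, nat_lit 17])) (.node (nat_lit 25) (.leaf [nat_lit 20, nat_lit 17, nat_lit 22]) (.leaf [nat_lit 18, nat_lit 16, nat_lit 23])))
 (.node (nat_lit 28) (.node (nat_lit 27) (.leaf [nat_lit 14, nat_lit 16, nat_lit 22]) (.leaf [nat_lit 8, nat_lit 13, nat_lit 22, nat_lit 13, nat_lit 16])) (.node (nat_lit 29) (.leaf [nat_lit 16, nat_lit 5, nat_lit 23, nat_lit 9, nat_lit 18, nat_lit 13, nat_lit 18, nat_lit 22]) (.leaf [nat_lit 8, nat_lit 2, nat_lit 6, nat_lit 9, nat_lit 23, nat_lit 9, nat_lit 14, nat_lit 18, nat_lit 17, nat_lit 22]))))))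
theorem g11_11_23slp : slpChk 24 (nat_lit 5) (nat_lit 31) g11_11_23S g11_11_23D 2 28 = true := by decide +kernel
theorem g11_11_23 : PQR M23.P 11 11 23 := pos (S := g11_11_23S) [nat_lit 4, nat_lit 7, nat_lit 3, nat_lit 5, nat_lit 0, nat_lit 4, nat_lit 0, nat_lit 3] [nat_lit 7, nat_lit 0, nat_lit 7, nat_lit 6, nat_lit 4, nat_lit 1, nat_lit 5, nat_lit 1, nat_lit 3, nat_lit 1, nat_lit 4, nat_lit 0, nat_lit 3, nat_lit 0, nat_lit 2, nat_lit 0] g11_11_23slp (by decide +kernel)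
noncomputable def g11_23_23s0 : ℕ := (nat_lit 0xb96a9820566906e331619a80fa1e32)
noncomputable def g11_23_23s1 : ℕ := (nat_lit 0xb8ac12328a8ae072825540d2673db3)
noncomputable def g11_23_23s2 : ℕ := (nat_lit 0xbc2a338033231ea49a9212ece6c505)
noncomputable def g11_23_23s3 : ℕ := (nat_lit 0xbd22a756046ca766190f114eb48403)
noncomputable def g11_23_23s4 : ℕ := (nat_lit 0xbd511025ed10c32740a76117335a8a)
noncomputable def g11_23_23s5 : ℕ := (nat_lit 0xbce2b6a0363246e81487655f2a0940)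
noncomputable def g11_23_23s6 : ℕ := (nat_lit 0xbc0c3b12ab2b267a05d243d4968a20)
noncomputable def g11_23_23s7 : ℕ := (nat_lit 0xbca9341464832cdac44131dcf52560)
noncomputable def g11_23_23s8 : ℕ := (nat_lit 0xbb575a594f2158e08c5331e508a500)
noncomputable def g11_23_23s9 : ℕ := (nat_lit 0xbbc92145d52a46759a8a8366c45820)
noncomputable def g11_23_23s10 : ℕ := (nat_lit 0xb8a092d247b44c45a1c3629f56cc20)
noncomputable def g11_23_23s11 : ℕ := (nat_lit 0xbc6874adaea90a894ccc7aac380820)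
noncomputable def g11_23_23s12 : ℕ := (nat_lit 0xb95f552ec33c22891a6ca25ae20820)
noncomputable def g11_23_23s13 : ℕ := (nat_lit 0xbb51493ab054c832a5f15b0f630820)
noncomputable def g11_23_23s14 : ℕ := (nat_lit 0xb923474d104cac63bd5528d6d60820)
noncomputable def g11_23_23s15 : ℕ := (nat_lit 0xbca242d52c6d1733c2c61b94878820)
noncomputable def g11_23_23s16 : ℕ := (nat_lit 0xba64e65aaa199f0696245a27438820)
noncomputable def g11_23_23s17 : ℕ := (nat_lit 0xbca0fb4dcb49507aaa862362c18820)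
noncomputable def g11_23_23s18 : ℕ := (nat_lit 0xbcd69958b5a44c4829ed621c718820)
noncomputable def g11_23_23s19 : ℕ := (nat_lit 0xbac8a69dd2a159333d3585a2818820)
noncomputable def g11_23_23s20 : ℕ := (nat_lit 0xb990f640a75466db512492dd518820)
noncomputable def g11_23_23s21 : ℕ := (nat_lit 0xbd9e854ca46461534967a25cd18820)
noncomputable def g11_23_23s22 : ℕ := (nat_lit 0xbd987929cda948f4ccd442e3018820)
noncomputable def g11_23_23s23 : ℕ := (nat_lit 0xbb5135bdd63160aa1ea964a2418820)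
noncomputable def g11_23_23s24 : ℕ := (nat_lit 0xbc12ba18ad946c79b11553dc418820)
noncomputable def g11_23_23s25 : ℕ := (nat_lit 0xbd6cb22627638cfa224a834b318820)
noncomputable def g11_23_23s26 : ℕ := (nat_lit 0xb926faa22da3a0b6255231cb618820)
noncomputable def g11_23_23s27 : ℕ := (nat_lit 0xb9da32494673eac5c4a8b4133a0820)
noncomputable def g11_23_23s28 : ℕ := (nat_lit 0xbd8948ca636a9e2438eb498b583020)
noncomputable def g11_23_23s29 : ℕ := (nat_lit 0xbdaa77b9909c8514292ba18612b480)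
noncomputable def g11_23_23s30 : ℕ := (nat_lit 0xbc8145da217a5a29a9c8390662b215)
noncomputable def g11_23_23S : Tr ℕ := (.node (nat_lit 15) (.node (nat_lit 7) (.node (nat_lit 3) (.node (nat_lit 1) (.leaf g11_23_23s0) (.node (nat_lit 2) (.leaf g11_23_23s1) (.leaf g11_23_23s2)))
 (.node (nat_lit 5) (.node (nat_lit 4) (.leaf g11_23_23s3) (.leaf g11_23_23s4)) (.node (nat_lit 6) (.leaf g11_23_23s5) (.leaf g11_23_23s6))))
 (.node (nat_lit 11) (.node (nat_lit 9) (.node (nat_lit 8) (.leaf g11_23_23s7) (.leaf g11_23_23s8)) (.node (nat_lit 10) (.leaf g11_23_23s9) (.leaf g11_23_23s10)))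
 (.node (nat_lit 13) (.node (nat_lit 12) (.leaf g11_23_23s11) (.leaf g11_23_23s12)) (.node (nat_lit 14) (.leaf g11_23_23s13) (.leaf g11_23_23s14)))))
 (.node (nat_lit 23) (.node (nat_lit 19) (.node (nat_lit 17) (.node (nat_lit 16) (.leaf g11_23_23s15) (.leaf g11_23_23s16)) (.node (nat_lit 18) (.leaf g11_23_23s17) (.leaf g11_23_23s18)))
 (.node (nat_lit 21) (.node (nat_lit 20) (.leaf g11_23_23s19) (.leaf g11_23_23s20)) (.node (nat_lit 22) (.leaf g11_23_23s21) (.leaf g11_23_23s22))))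
 (.node (nat_lit 27) (.node (nat_lit 25) (.node (nat_lit 24) (.leaf g11_23_23s23) (.leaf g11_23_23s24)) (.node (nat_lit 26) (.leaf g11_23_23s25) (.leaf g11_23_23s26)))
 (.node (nat_lit 29) (.node (nat_lit 28) (.leaf g11_23_23s27) (.leaf g11_23_23s28)) (.node (nat_lit 30) (.leaf g11_23_23s29) (.leaf g11_23_23s30))))))
noncomputable def g11_23_23D : Tr (List ℕ) := (.node (nat_lit 15) (.node (nat_lit 7) (.node (nat_lit 3) (.node (nat_lit 1) (.leaf []) (.node (nat_lit 2) (.leaf []) (.leaf [nat_lit 0, nat_lit 0, nat_lit 0, nat_lit 0, nat_lit 0, nat_lit 0, nat_lit 0, nat_lit 0, nat_lit 0, nat_lit 0])))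
 (.node (nat_lit 5) (.node (nat_lit 4) (.leaf [nat_lit 1, nat_lit 1, nat_lit 1, nat_lit 1]) (.leaf [nat_lit 3, nat_lit 3, nat_lit 3, nat_lit 3, nat_lit 3, nat_lit 1, nat_lit 1])) (.node (nat_lit 6) (.leaf [nat_lit 2, nat_lit 4, nat_lit 4, nat_lit 2, nat_lit 2, nat_lit 4, nat_lit 4]) (.leaf [nat_lit 1, nat_lit 1, nat_lit 0, nat_lit 0, nat_lit 1, nat_lit 1, nat_lit 0]))))
 (.node (nat_lit 11) (.node (nat_lit 9) (.node (nat_lit 8) (.leaf [nat_lit 4, nat_lit 0, nat_lit 4, nat_lit 0, nat_lit 0]) (.leaf [nat_lit 2, nat_lit 2, nat_lit 1, nat_lit 2, nat_lit 1])) (.node (nat_lit 10) (.leaf [nat_lit 8, nat_lit 5, nat_lit 5, nat_lit 8, nat_lit 5]) (.leaf [nat_lit 6, nat_lit 7, nat_lit 6, nat_lit 6, nat_lit 7])))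
 (.node (nat_lit 13) (.node (nat_lit 12) (.leaf [nat_lit 5, nat_lit 8, nat_lit 8, nat_lit 5]) (.leaf [nat_lit 6, nat_lit 7, nat_lit 7, nat_lit 6])) (.node (nat_lit 14) (.leaf [nat_lit 9, nat_lit 9, nat_lit 11, nat_lit 11, nat_lit 11, nat_lit 9, nat_lit 12]) (.leaf [nat_lit 11, nat_lit 10, nat_lit 12, nat_lit 12, nat_lit 12, nat_lit 10, nat_lit 10])))))
 (.node (nat_lit 23) (.node (nat_lit 19) (.node (nat_lit 17) (.node (nat_lit 16) (.leaf [nat_lit 9, nat_lit 12, nat_lit 9, nat_lit 9, nat_lit 11, nat_lit 9, nat_lit 11]) (.leaf [nat_lit 12, nat_lit 10, nat_lit 12, nat_lit 10, nat_lit 10, nat_lit 11, nat_lit 10])) (.node (nat_lit 18) (.leaf [nat_lit 13, nat_lit 16, nat_lit 16, nat_lit 14, nat_lit 16]) (.leaf [nat_lit 15, nat_lit 13, nat_lit 15, nat_lit 15, nat_lit 14])))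
 (.node (nat_lit 21) (.node (nat_lit 20) (.leaf [nat_lit 16, nat_lit 16, nat_lit 16, nat_lit 14, nat_lit 14, nat_lit 16]) (.leaf [nat_lit 15, nat_lit 13, nat_lit 13, nat_lit 15, nat_lit 15, nat_lit 15])) (.node (nat_lit 22) (.leaf [nat_lit 13, nat_lit 16, nat_lit 14, nat_lit 14, nat_lit 14, nat_lit 15, nat_lit 14, nat_lit 14, nat_lit 14, nat_lit 16, nat_lit 16, nat_lit 16, nat_lit 13, nat_lit 15]) (.leaf [nat_lit 21, nat_lit 21]))))
 (.node (nat_lit 27) (.node (nat_lit 25) (.node (nat_lit 24) (.leaf [nat_lit 17, nat_lit 20, nat_lit 22]) (.leaf [nat_lit 21, nat_lit 19, nat_lit 18])) (.node (nat_lit 26) (.leaf [nat_lit 19, nat_lit 17, nat_lit 23]) (.leaf [nat_lit 23, nat_lit 22, nat_lit 23])))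
 (.node (nat_lit 29) (.node (nat_lit 28) (.leaf [nat_lit 21, nat_lit 16, nat_lit 20]) (.leaf [nat_lit 20, nat_lit 10, nat_lit 14, nat_lit 21, nat_lit 14, nat_lit 17, nat_lit 19])) (.node (nat_lit 30) (.leaf [nat_lit 20, nat_lit 8, nat_lit 19, nat_lit 10, nat_lit 18, nat_lit 13, nat_lit 24, nat_lit 18, nat_lit 23]) (.leaf [nat_lit 15, nat_lit 0, nat_lit 9, nat_lit 5, nat_lit 21, nat_lit 10, nat_lit 23, nat_lit 14, nat_lit 19, nat_lit 23]))))))
theorem g11_23_23slp : slpChk 24 (nat_lit 5) (nat_lit 31) g11_23_23S g11_23_23D 2 29 = true := by decide +kernel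
theorem g11_23_23 : PQR M23.P 11 23 23 := pos (S := g11_23_23S) [nat_lit 3, nat_lit 1, nat_lit 7, nat_lit 4, nat_lit 0, nat_lit 2, nat_lit 6, nat_lit 5, nat_lit 2, nat_lit 0, nat_lit 5, nat_lit 1, nat_lit 3, nat_lit 0, nat_lit 4, nat_lit 3, nat_lit 1, nat_lit 2] [nat_lit 3, nat_lit 7, nat_lit 3, nat_lit 2, nat_lit 5, nat_lit 0, nat_lit 4, nat_lit 0, nat_lit 3] g11_23_23slp (by decide +kernel)
noncomputable def g23_23_23s0 : ℕ := (nat_lit 0xbb2c834e826ae4a7a4a12023583867)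
noncomputable def g23_23_23s1 : ℕ := (nat_lit 0xb9a0362aae8ac47252d37a0322a40d)
noncomputable def g23_23_23s2 : ℕ := (nat_lit 0xb953021c6f348119d1026542a5b5d6)
noncomputable def g23_23_23s3 : ℕ := (nat_lit 0xbd491934a3589f67315404d270c106)
noncomputable def g23_23_23s4 : ℕ := (nat_lit 0xbb08089572728d5a066f81c436a136)
noncomputable def g23_23_23s5 : ℕ := (nat_lit 0xba62a411f53c013748466586ba34a1)
noncomputable def g23_23_23s6 : ℕ := (nat_lit 0xbacc81aa50b504d3b8242beb162660)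
noncomputable def g23_23_23s7 : ℕ := (nat_lit 0xbbcae0c49032983b48545d4e89b520)
noncomputable def g23_23_23s8 : ℕ := (nat_lit 0xbac362caa38444654e8c4112d71de0)
noncomputable def g23_23_23s9 : ℕ := (nat_lit 0xbd229549cf08c88b2ca713266836a0)
noncomputable def g23_23_23s10 : ℕ := (nat_lit 0xb965024c69a3d66145077298db5420)
noncomputable def g23_23_23s11 : ℕ := (nat_lit 0xb8c4f9555471c8569a09432d38ac20)
noncomputable def g23_23_23s12 : ℕ := (nat_lit 0xb8ece69533a996f3c94880a3461020)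
noncomputable def g23_23_23s13 : ℕ := (nat_lit 0xbd5e4828a7652636a6285ba42b1820)
noncomputable def g23_23_23s14 : ℕ := (nat_lit 0xbc2837ca64899a8615cb524f6a8820)
noncomputable def g23_23_23s15 : ℕ := (nat_lit 0xb90758c9f69a5ab41ccc2b950a0820)
noncomputable def g23_23_23s16 : ℕ := (nat_lit 0xbae8e519ac1d913a96274be1220820)
noncomputable def g23_23_23s17 : ℕ := (nat_lit 0xbb9756112535230b4ced4494378820)
noncomputable def g23_23_23s18 : ℕ := (nat_lit 0xba1b4255cc516469a5e7b422b18820)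
noncomputable def g23_23_23s19 : ℕ := (nat_lit 0xb9e545b4a64c6b023d56431d318820)
noncomputable def g23_23_23s20 : ℕ := (nat_lit 0xba91094e346b9e63d8955b0a918820)
noncomputable def g23_23_23s21 : ℕ := (nat_lit 0xbd268341c9595e46b2563d62a18820)
noncomputable def g23_23_23s22 : ℕ := (nat_lit 0xba0d6aa4b26c56a792143cdcc18820)
noncomputable def g23_23_23s23 : ℕ := (nat_lit 0xbb5135bdd63160aa1ea964a2418820)
noncomputable def g23_23_23s24 : ℕ := (nat_lit 0xbc12ba18ad946c79b11553dc418820)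
noncomputable def g23_23_23s25 : ℕ := (nat_lit 0xbd6cb22627638cfa224a834b318820)
noncomputable def g23_23_23s26 : ℕ := (nat_lit 0xb926faa22da3a0b6255231cb618820)
noncomputable def g23_23_23s27 : ℕ := (nat_lit 0xb9da32494673eac5c4a8b4133a0820)
noncomputable def g23_23_23s28 : ℕ := (nat_lit 0xbd8948ca636a9e2438eb498b583020)
noncomputable def g23_23_23s29 : ℕ := (nat_lit 0xbdaa77b9909c8514292ba18612b480)
noncomputable def g23_23_23s30 : ℕ := (nat_lit 0xbc8145da217a5a29a9c8390662b215)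
noncomputable def g23_23_23S : Tr ℕ := (.node (nat_lit 15) (.node (nat_lit 7) (.node (nat_lit 3) (.node (nat_lit 1) (.leaf g23_23_23s0) (.node (nat_lit 2) (.leaf g23_23_23s1) (.leaf g23_23_23s2)))
 (.node (nat_lit 5) (.node (nat_lit 4) (.leaf g23_23_23s3) (.leaf g23_23_23s4)) (.node (nat_lit 6) (.leaf g23_23_23s5) (.leaf g23_23_23s6))))
 (.node (nat_lit 11) (.node (nat_lit 9) (.node (nat_lit 8) (.leaf g23_23_23s7) (.leaf g23_23_23s8)) (.node (nat_lit 10) (.leaf g23_23_23s9) (.leaf g23_23_23s10)))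
 (.node (nat_lit 13) (.node (nat_lit 12) (.leaf g23_23_23s11) (.leaf g23_23_23s12)) (.node (nat_lit 14) (.leaf g23_23_23s13) (.leaf g23_23_23s14)))))
 (.node (nat_lit 23) (.node (nat_lit 19) (.node (nat_lit 17) (.node (nat_lit 16) (.leaf g23_23_23s15) (.leaf g23_23_23s16)) (.node (nat_lit 18) (.leaf g23_23_23s17) (.leaf g23_23_23s18)))
 (.node (nat_lit 21) (.node (nat_lit 20) (.leaf g23_23_23s19) (.leaf g23_23_23s20)) (.node (nat_lit 22) (.leaf g23_23_23s21) (.leaf g23_23_23s22))))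
 (.node (nat_lit 27) (.node (nat_lit 25) (.node (nat_lit 24) (.leaf g23_23_23s23) (.leaf g23_23_23s24)) (.node (nat_lit 26) (.leaf g23_23_23s25) (.leaf g23_23_23s26)))
 (.node (nat_lit 29) (.node (nat_lit 28) (.leaf g23_23_23s27) (.leaf g23_23_23s28)) (.node (nat_lit 30) (.leaf g23_23_23s29) (.leaf g23_23_23s30))))))
noncomputable def g23_23_23D : Tr (List ℕ) := (.node (nat_lit 15) (.node (nat_lit 7) (.node (nat_lit 3) (.node (nat_lit 1) (.leaf []) (.node (nat_lit 2) (.leaf []) (.leaf [nat_lit 0, nat_lit 0, nat_lit 0, nat_lit 0])))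
 (.node (nat_lit 5) (.node (nat_lit 4) (.leaf [nat_lit 2, nat_lit 2, nat_lit 2, nat_lit 2, nat_lit 2, nat_lit 0, nat_lit 0]) (.leaf [nat_lit 1, nat_lit 1, nat_lit 1, nat_lit 1])) (.node (nat_lit 6) (.leaf [nat_lit 4, nat_lit 4, nat_lit 4, nat_lit 4, nat_lit 4, nat_lit 1, nat_lit 1]) (.leaf [nat_lit 0, nat_lit 5, nat_lit 5, nat_lit 3, nat_lit 3]))))
 (.node (nat_lit 11) (.node (nat_lit 9) (.node (nat_lit 8) (.leaf [nat_lit 0, nat_lit 0, nat_lit 1, nat_lit 1, nat_lit 3]) (.leaf [nat_lit 5, nat_lit 0, nat_lit 1, nat_lit 0])) (.node (nat_lit 10) (.leaf [nat_lit 3, nat_lit 5, nat_lit 3, nat_lit 1]) (.leaf [nat_lit 7, nat_lit 9, nat_lit 9, nat_lit 7])))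
 (.node (nat_lit 13) (.node (nat_lit 12) (.leaf [nat_lit 6, nat_lit 8, nat_lit 8, nat_lit 6]) (.leaf [nat_lit 9, nat_lit 7, nat_lit 7, nat_lit 8, nat_lit 6, nat_lit 8])) (.node (nat_lit 14) (.leaf [nat_lit 9, nat_lit 7, nat_lit 9, nat_lit 6, nat_lit 6, nat_lit 8]) (.leaf [nat_lit 10, nat_lit 13, nat_lit 13, nat_lit 10, nat_lit 12, nat_lit 12])))))
 (.node (nat_lit 23) (.node (nat_lit 19) (.node (nat_lit 17) (.node (nat_lit 16) (.leaf [nat_lit 13, nat_lit 13, nat_lit 11, nat_lit 12, nat_lit 12, nat_lit 11]) (.leaf [nat_lit 12, nat_lit 11, nat_lit 12, nat_lit 12, nat_lit 10, nat_lit 10, nat_lit 13])) (.node (nat_lit 18) (.leaf [nat_lit 12, nat_lit 11, nat_lit 11, nat_lit 13, nat_lit 13, nat_lit 10, nat_lit 13]) (.leaf [nat_lit 17, nat_lit 15, nat_lit 17, nat_lit 17, nat_lit 14])))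
 (.node (nat_lit 21) (.node (nat_lit 20) (.leaf [nat_lit 15, nat_lit 16, nat_lit 16, nat_lit 14, nat_lit 16]) (.leaf [nat_lit 16, nat_lit 14, nat_lit 17, nat_lit 15, nat_lit 15, nat_lit 16, nat_lit 14, nat_lit 14, nat_lit 16, nat_lit 15, nat_lit 15, nat_lit 16])) (.node (nat_lit 22) (.leaf [nat_lit 17, nat_lit 14, nat_lit 17, nat_lit 14, nat_lit 17, nat_lit 17, nat_lit 15]) (.leaf [nat_lit 14, nat_lit 16, nat_lit 16, nat_lit 15, nat_lit 16, nat_lit 15, nat_lit 16]))))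
 (.node (nat_lit 27) (.node (nat_lit 25) (.node (nat_lit 24) (.leaf [nat_lit 19, nat_lit 22, nat_lit 22, nat_lit 18, nat_lit 20]) (.leaf [nat_lit 20, nat_lit 19, nat_lit 21, nat_lit 21, nat_lit 18])) (.node (nat_lit 26) (.leaf [nat_lit 19, nat_lit 23]) (.leaf [nat_lit 20, nat_lit 21, nat_lit 24])))
 (.node (nat_lit 29) (.node (nat_lit 28) (.leaf [nat_lit 15, nat_lit 22, nat_lit 18, nat_lit 24]) (.leaf [nat_lit 14, nat_lit 11, nat_lit 17, nat_lit 20, nat_lit 15, nat_lit 21])) (.node (nat_lit 30) (.leaf [nat_lit 20, nat_lit 7, nat_lit 17, nat_lit 11, nat_lit 20, nat_lit 15, nat_lit 19]) (.leaf [nat_lit 21, nat_lit 3, nat_lit 6, nat_lit 22, nat_lit 15, nat_lit 22, nat_lit 18, nat_lit 24]))))))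
theorem g23_23_23slp : slpChk 24 (nat_lit 5) (nat_lit 31) g23_23_23S g23_23_23D 2 29 = true := by decide +kernel
theorem g23_23_23 : PQR M23.P 23 23 23 := pos (S := g23_23_23S) [nat_lit 5, nat_lit 0, nat_lit 7, nat_lit 0, nat_lit 6, nat_lit 2, nat_lit 6, nat_lit 5, nat_lit 0, nat_lit 4, nat_lit 3, nat_lit 4, nat_lit 3, nat_lit 0, nat_lit 2, nat_lit 0] [nat_lit 4, nat_lit 7, nat_lit 5, nat_lit 6, nat_lit 2, nat_lit 0, nat_lit 5, nat_lit 0, nat_lit 3, nat_lit 0, nat_lit 4, nat_lit 0, nat_lit 3, nat_lit 0] g23_23_23slp (by decide +kernel)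

end H8.M23g
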