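import Cfsg.Agent.H8.HoltD
import Cfsg.Agent.H8.GA6

/-! H8.MA6: `mult`, the Schur multiplier of `P` (generated certificate) -/

set_option autoImplicit false
set_option maxRecDepth 200000

namespace H8.A6

noncomputable def h2t0 : ℕ := (nat_lit 0x294e0)
noncomputable def h2t1 : ℕ := (nat_lit 0x1414b)
noncomputable def h2t2 : ℕ := (nat_lit 0x44cd)
noncomputable def h2t3 : ℕ := (nat_lit 0x25681)
noncomputable def h2t4 : ℕ := (nat_lit 0x1563)
noncomputable def h2T_0 : Tr ℕ := (.node (nat_lit 2) (.node (nat_lit 1) (.leaf h2t0)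
 (.leaf h2t1))
 (.node (nat_lit 3) (.leaf h2t2)
 (.node (nat_lit 4) (.leaf h2t3)
 (.leaf h2t4))))
noncomputable def h2E_0 : Tr (List ℕ) := (.node (nat_lit 2) (.node (nat_lit 1) (.leaf [nat_lit 3])
 (.leaf [nat_lit 1, nat_lit 4, nat_lit 1, nat_lit 3, nat_lit 2]))
 (.node (nat_lit 3) (.leaf [nat_lit 0, nat_lit 4, nat_lit 1, nat_lit 3])
 (.node (nat_lit 4) (.leaf [nat_lit 3, nat_lit 4, nat_lit 3, nat_lit 2, nat_lit 1])
 (.leaf [nat_lit 1, nat_lit 4, nat_lit 0, nat_lit 3, nat_lit 2, nat_lit 1]))))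
noncomputable def h2T : Tr ℕ := h2T_0
noncomputable def h2E : Tr (List ℕ) := h2E_0
theorem h2w_0 : h2T_0.all2 (fun c w => isProd 6 (nat_lit 3) (nat_lit 7) T c w) h2E_0 = true := by decide +kernel
theorem h2lets : Lets P 6 (nat_lit 3) (nat_lit 7) (Fin.ofNat 6) h2T := lets_words lets h2E h2w_0
noncomputable def h2W : Tr (List ℕ) := (.node (nat_lit 4) (.node (nat_lit 2) (.node (nat_lit 1) (.leaf [])
 (.leaf []))
 (.node (nat_lit 3) (.leaf [])
 (.leaf [nat_lit 1, nat_lit 2])))
 (.node (nat_lit 6) (.node (nat_lit 5) (.leaf [])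
 (.leaf []))
 (.node (nat_lit 7) (.leaf [nat_lit 2])
 (.node (nat_lit 8) (.leaf [nat_lit 2])
 (.leaf [])))))
noncomputable def h2F : Tr (ℕ × List ℕ × List ℕ) := (.node (nat_lit 2) (.node (nat_lit 1) (.leaf ((nat_lit 3), [nat_lit 0], [nat_lit 2]))
 (.leaf ((nat_lit 3), [nat_lit 2], [nat_lit 0])))
 (.node (nat_lit 3) (.leaf ((nat_lit 4), [nat_lit 1], [nat_lit 2]))
 (.leaf ((nat_lit 4), [nat_lit 2], [nat_lit 1]))))
noncomputable def h2A : List (List ℕ × ℕ × ℕ) := [([nat_lit 2], (nat_lit 2), (nat_lit 0)),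
  ([nat_lit 1], (nat_lit 1), (nat_lit 0)),
  ([nat_lit 1], (nat_lit 0), (nat_lit 0))]
noncomputable def h2B : List (ℕ × List ℕ × List ℕ) := [((nat_lit 3), [nat_lit 0, nat_lit 0], []),
  ((nat_lit 4), [nat_lit 2, nat_lit 2], [])]
noncomputable def h2X : Tr ℕ := (.node (nat_lit 1) (.leaf (nat_lit 0x3000300000003000003))
 (.node (nat_lit 2) (.leaf (nat_lit 0x30000000300000303000000))
 (.leaf (nat_lit 0x1000000))))
noncomputable def h2D : Tr ℕ := (.node (nat_lit 4) (.node (nat_lit 2) (.node (nat_lit 1) (.leaf (nat_lit 0x1))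
 (.leaf (nat_lit 0x0)))
 (.node (nat_lit 3) (.leaf (nat_lit 0x0))
 (.leaf (nat_lit 0x0))))
 (.node (nat_lit 6) (.node (nat_lit 5) (.leaf (nat_lit 0x1))
 (.leaf (nat_lit 0x0)))
 (.node (nat_lit 7) (.leaf (nat_lit 0x1))
 (.node (nat_lit 8) (.leaf (nat_lit 0x1))
 (.leaf (nat_lit 0x1))))))
noncomputable def h2Y : Tr ℕ := (.node (nat_lit 4) (.node (nat_lit 2) (.node (nat_lit 1) (.leaf (nat_lit 0x1030201))
 (.leaf (nat_lit 0x0)))
 (.node (nat_lit 3) (.leaf (nat_lit 0x0))
 (.leaf (nat_lit 0x0))))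
 (.node (nat_lit 6) (.node (nat_lit 5) (.leaf (nat_lit 0x100030201))
 (.leaf (nat_lit 0x0)))
 (.node (nat_lit 7) (.leaf (nat_lit 0x0))
 (.node (nat_lit 8) (.leaf (nat_lit 0x10100))
 (.leaf (nat_lit 0x30003))))))
noncomputable def h2H : Holt := ⟨(nat_lit 2), (nat_lit 4), (nat_lit 3), (nat_lit 13), (nat_lit 12), h2W, (nat_lit 4), h2F, h2A, h2B, h2X, [((nat_lit 2), (nat_lit 0x1000000000000), (nat_lit 0x3))], h2D, h2Y⟩
noncomputable def h2c0 : ℕ := (nat_lit 0x4000000000000000000000006000000000000000000000000000000000000000000000000000000000000000000000000)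
noncomputable def h2c1 : ℕ := (nat_lit 0x3000000000003000000000000000000000000000000000004000000000006000000000000000000000000000000000000)
noncomputable def h2c2 : ℕ := (nat_lit 0x1000000000000000000000001000000000000000000000000000000000002000000000000000000000000000000000004)
noncomputable def h2c3 : ℕ := (nat_lit 0x6000000000003000000000000000000000000000000000000000000000000000000000000000000000000000000000000000000000001)
noncomputable def h2c4 : ℕ := (nat_lit 0x6000000000000000000000000000000000003000000000000000000000000000000000000000000000001000000000000000000000000000000000000000000000000)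
noncomputable def h2C : List ℕ := [h2c0, h2c1, h2c2, h2c3, h2c4]
noncomputable def h2XE : Tr ℕ := (.node (nat_lit 1) (.leaf (nat_lit 0x3000000000000000000000003000000000000000000000000000000000000000000000003000000000000000000000000000000000003))
 (.node (nat_lit 2) (.leaf (nat_lit 0x3000000000000000000000000000000000000000000000003000000000000000000000000000000000003000000000003000000000000000000000000000000000000))
 (.leaf (nat_lit 0x1000000000000000000000000000000000000))))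
noncomputable def h2AE : List ℕ := [(nat_lit 0x1000000000000000000000000000000000000000000000000000000000000000000000000)]
noncomputable def h2HM : ℕ := (nat_lit 0xff0000000000ff0000000000ff0000000000ff0000000000ff0000000000ff0000000000ff0000000000ff0000000000ff0000000000ff0000000000ff0000000000ff0000000000ff0000000000)
noncomputable def h2L : List (ℕ × List (List ℕ)) := [((nat_lit 1), [[nat_lit 0]]),
  ((nat_lit 0), [[nat_lit 1], [nat_lit 2]])]
theorem h2r : h2H.relChk (weqOn (nat_lit 3) (nat_lit 7) h2T B) = true := by decide +kernel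
theorem h2a0 : h2H.csR h2C 0 5 = true := by decide +kernel
theorem h2b0 : h2H.rowR h2C h2XE h2AE h2HM (nat_lit 198900) 0 3 = true := by decide +kernel
theorem h2l : h2H.linChk = true := h2H.linChk_of h2C h2XE h2AE h2HM (nat_lit 198900) 5 (by decide +kernel)
  h2a0
  h2b0
theorem h2 : ¬ 2 ^ (1 + 1) ∣ Nat.card (L.SM P) :=
  holt_bound h2lets.rep (ofNat_inj 6) base.1 base.2 h2H 1 h2L (show Nat.Prime 2 by norm_num)
    (by rw [card]; decide +kernel) (by decide +kernel) h2r h2l

noncomputable def h3t0 : ℕ := (nat_lit 0x19544)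
noncomputable def h3t1 : ℕ := (nat_lit 0x18561)
noncomputable def h3t2 : ℕ := (nat_lit 0x1ca81)
noncomputable def h3T_0 : Tr ℕ := (.node (nat_lit 1) (.leaf h3t0)
 (.node (nat_lit 2) (.leaf h3t1)
 (.leaf h3t2)))
noncomputable def h3E_0 : Tr (List ℕ) := (.node (nat_lit 1) (.leaf [nat_lit 4, nat_lit 3, nat_lit 0, nat_lit 2])
 (.node (nat_lit 2) (.leaf [nat_lit 3, nat_lit 4, nat_lit 1, nat_lit 3, nat_lit 0])
 (.leaf [nat_lit 3, nat_lit 4, nat_lit 3, nat_lit 2])))
noncomputable def h3T : Tr ℕ := h3T_0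
noncomputable def h3E : Tr (List ℕ) := h3E_0
theorem h3w_0 : h3T_0.all2 (fun c w => isProd 6 (nat_lit 3) (nat_lit 7) T c w) h3E_0 = true := by decide +kernel
theorem h3lets : Lets P 6 (nat_lit 3) (nat_lit 7) (Fin.ofNat 6) h3T := lets_words lets h3E h3w_0
noncomputable def h3W : Tr (List ℕ) := (.node (nat_lit 2) (.node (nat_lit 1) (.leaf [])
 (.leaf []))
 (.node (nat_lit 3) (.leaf [nat_lit 1])
 (.leaf [])))
noncomputable def h3F : Tr (ℕ × List ℕ × List ℕ) := (.node (nat_lit 1) (.leaf ((nat_lit 2), [nat_lit 0], [nat_lit 0, nat_lit 0]))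
 (.leaf ((nat_lit 2), [nat_lit 1], [nat_lit 1, nat_lit 1])))
noncomputable def h3A : List (List ℕ × ℕ × ℕ) := [([nat_lit 1, nat_lit 1], (nat_lit 1), (nat_lit 0))]
noncomputable def h3B : List (ℕ × List ℕ × List ℕ) := [((nat_lit 2), [nat_lit 0, nat_lit 0, nat_lit 0], []),
  ((nat_lit 2), [nat_lit 1, nat_lit 1, nat_lit 1], [])]
noncomputable def h3X : Tr ℕ := (.node (nat_lit 1) (.leaf (nat_lit 0x700000000))
 (.leaf (nat_lit 0x70000000000)))
noncomputable def h3D : Tr ℕ := (.node (nat_lit 2) (.node (nat_lit 1) (.leaf (nat_lit 0x0))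
 (.leaf (nat_lit 0x0)))
 (.node (nat_lit 3) (.leaf (nat_lit 0x1))
 (.leaf (nat_lit 0x0))))
noncomputable def h3Y : Tr ℕ := (.node (nat_lit 2) (.node (nat_lit 1) (.leaf (nat_lit 0x100))
 (.leaf (nat_lit 0x0)))
 (.node (nat_lit 3) (.leaf (nat_lit 0x0))
 (.leaf (nat_lit 0x10000))))
noncomputable def h3H : Holt := ⟨(nat_lit 3), (nat_lit 9), (nat_lit 2), (nat_lit 6), (nat_lit 9), h3W, (nat_lit 2), h3F, h3A, h3B, h3X, [((nat_lit 3), (nat_lit 0x10000), (nat_lit 0x4))], h3D, h3Y⟩
noncomputable def h3c0 : ℕ := (nat_lit 0x9000000000018000000000000000000000000)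
noncomputable def h3c1 : ℕ := (nat_lit 0x18000000000000000000000000000000000000000000000011)
noncomputable def h3c2 : ℕ := (nat_lit 0x18000000000000000000000011000000000000000000000000000000000000)
noncomputable def h3C : List ℕ := [h3c0, h3c1, h3c2]
noncomputable def h3XE : Tr ℕ := (.node (nat_lit 1) (.leaf (nat_lit 0x7000000000000000000000000000000000000000000000000))
 (.leaf (nat_lit 0x7000000000000000000000000000000000000000000000000000000000000)))
noncomputable def h3AE : List ℕ := [(nat_lit 0x1000000000000000000000000)]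
noncomputable def h3HM : ℕ := (nat_lit 0xff0000000000ff0000000000ff0000000000ff0000000000ff0000000000ff0000000000)
noncomputable def h3L : List (ℕ × List (List ℕ)) := [((nat_lit 0), [[nat_lit 1]]),
  ((nat_lit 2), [[nat_lit 0, nat_lit 1]])]
theorem h3r : h3H.relChk (weqOn (nat_lit 3) (nat_lit 7) h3T B) = true := by decide +kernel
theorem h3a0 : h3H.csR h3C 0 3 = true := by decide +kernel
theorem h3b0 : h3H.rowR h3C h3XE h3AE h3HM (nat_lit 206550) 0 2 = true := by decide +kernel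
theorem h3l : h3H.linChk = true := h3H.linChk_of h3C h3XE h3AE h3HM (nat_lit 206550) 3 (by decide +kernel)
  h3a0
  h3b0
theorem h3 : ¬ 3 ^ (1 + 1) ∣ Nat.card (L.SM P) :=
  holt_bound h3lets.rep (ofNat_inj 6) base.1 base.2 h3H 1 h3L (show Nat.Prime 3 by norm_num)
    (by rw [card]; decide +kernel) (by decide +kernel) h3r h3l

noncomputable def c2u0 : ℕ := (nat_lit 0x388eee7c1572e6187d0e43640499b55278d2618957443ab1e062cc021044085141c200)
noncomputable def c2u1 : ℕ := (nat_lit 0xc9830dc4c3cee33c332a7375cc09a137156264431aaa38a1f140cc8704482011620280)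
noncomputable def c2u2 : ℕ := (nat_lit 0xc968f27ba50bcca19518e969a78dc3223e28c4691f3372c20360e1162a4c2459426001)
noncomputable def c2u3 : ℕ := (nat_lit 0x4d9f1a14b5b2171d40dcbbb2a955c088c13a86639e8b7e243386a409230478d1900302)
noncomputable def c2u4 : ℕ := (nat_lit 0x456ac53a59e616b85659f229a7a59182f46488edc533103a13b245179a5080e8104103)
noncomputable def c2M : Mon := ⟨(nat_lit 40), (nat_lit 0), (nat_lit 6), (nat_lit 63), (nat_lit 7), (nat_lit 127), (nat_lit 2), (.node (nat_lit 2) (.node (nat_lit 1) (.leaf c2u0)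
 (.leaf c2u1))
 (.node (nat_lit 3) (.leaf c2u2)
 (.node (nat_lit 4) (.leaf c2u3)
 (.leaf c2u4))))⟩
theorem c2r : RL.all c2M.relChk = true := by decide +kernel
theorem c2 : ∃ φ : L.SM P →* Multiplicative (ZMod 2 × ZMod 2),
    Multiplicative.ofAdd (((1 : ℕ) : ZMod 2), ((1 : ℕ) : ZMod 2)) ∈ φ.range := by
  haveI : NeZero c2M.q := ⟨by decide⟩
  obtain ⟨φ, h⟩ := cover_hom std c2M (by decide +kernel) c2r
  exact ⟨φ, h [nat_lit 2, nat_lit 1, nat_lit 2, nat_lit 0, nat_lit 2, nat_lit 1, nat_lit 2, nat_lit 0]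
    [nat_lit 2, nat_lit 2, nat_lit 0, nat_lit 1, nat_lit 2, nat_lit 2, nat_lit 0, nat_lit 1] 1 1 (by decide +kernel)⟩

noncomputable def c3u0 : ℕ := (nat_lit 0x2ac4cc40)
noncomputable def c3u1 : ℕ := (nat_lit 0x2a492468)
noncomputable def c3u2 : ℕ := (nat_lit 0xa192c80)
noncomputable def c3u3 : ℕ := (nat_lit 0x2ba08a0)
noncomputable def c3u4 : ℕ := (nat_lit 0x746c901)
noncomputable def c3M : Mon := ⟨(nat_lit 6), (nat_lit 0), (nat_lit 3), (nat_lit 7), (nat_lit 5), (nat_lit 31), (nat_lit 3), (.node (nat_lit 2) (.node (nat_lit 1) (.leaf c3u0)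
 (.leaf c3u1))
 (.node (nat_lit 3) (.leaf c3u2)
 (.node (nat_lit 4) (.leaf c3u3)
 (.leaf c3u4))))⟩
theorem c3r : RL.all c3M.relChk = true := by decide +kernel
theorem c3 : ∃ φ : L.SM P →* Multiplicative (ZMod 3 × ZMod 3),
    Multiplicative.ofAdd (((1 : ℕ) : ZMod 3), ((1 : ℕ) : ZMod 3)) ∈ φ.range := by
  haveI : NeZero c3M.q := ⟨by decide⟩
  obtain ⟨φ, h⟩ := cover_hom std c3M (by decide +kernel) c3r
  exact ⟨φ, h [nat_lit 2, nat_lit 0, nat_lit 2, nat_lit 0, nat_lit 2, nat_lit 0, nat_lit 0, nat_lit 1, nat_lit 3, nat_lit 3, nat_lit 3, nat_lit 3, nat_lit 4, nat_lit 4]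
    [nat_lit 0, nat_lit 3, nat_lit 2, nat_lit 3, nat_lit 1, nat_lit 3, nat_lit 0, nat_lit 3, nat_lit 2, nat_lit 4, nat_lit 0, nat_lit 2, nat_lit 0, nat_lit 4] 1 1 (by decide +kernel)⟩

theorem sm_dvd : Nat.card (L.SM P) ∣ 6 :=
  SM_dvd 6 [2, 3] 5 (sqfree_of_chk (by decide +kernel)) 3 (by simp only [List.mem_cons, List.not_mem_nil, or_false, forall_eq_or_imp, forall_eq]; norm_num)
    (by rw [card]; decide +kernel) (by
      simp only [List.mem_cons, List.not_mem_nil, or_false, forall_eq_or_imp, forall_eq]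
      exact ⟨⟨1, by norm_num, h2⟩, ⟨1, by norm_num, h3⟩⟩)
theorem mult : Cfsg.HasCyclicSchurMultiplier P 6 := by
  obtain ⟨φc2, hc2⟩ := c2
  have ec2 := dvd_exp_of_mem φc2 hc2
  norm_num at ec2
  obtain ⟨φc3, hc3⟩ := c3
  have ec3 := dvd_exp_of_mem φc3 hc3
  norm_num at ec3
  exact hasCyclic_of_exp (by norm_num) sm_dvd (Nat.Coprime.mul_dvd_of_dvd_of_dvd (by norm_num) ec2 ec3)

end H8.A6
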