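import Cfsg.Agent.H8.HoltD
import Cfsg.Agent.H8.GA7

/-! H8.MA7: `mult`, the Schur multiplier of `P` (generated certificate) -/

set_option autoImplicit false
set_option maxRecDepth 200000

namespace H8.A7

noncomputable def h2t0 : ℕ := (nat_lit 0x12e4c8)
noncomputable def h2t1 : ℕ := (nat_lit 0x194358)
noncomputable def h2t2 : ℕ := (nat_lit 0x18c4e8)
noncomputable def h2t3 : ℕ := (nat_lit 0x8bd28)
noncomputable def h2t4 : ℕ := (nat_lit 0x2c29e)
noncomputable def h2T_0 : Tr ℕ := (.node (nat_lit 2) (.node (nat_lit 1) (.leaf h2t0)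
 (.leaf h2t1))
 (.node (nat_lit 3) (.leaf h2t2)
 (.node (nat_lit 4) (.leaf h2t3)
 (.leaf h2t4))))
noncomputable def h2E_0 : Tr (List ℕ) := (.node (nat_lit 2) (.node (nat_lit 1) (.leaf [nat_lit 2, nat_lit 4, nat_lit 2, nat_lit 1])
 (.leaf [nat_lit 0, nat_lit 4, nat_lit 1, nat_lit 3, nat_lit 2, nat_lit 1]))
 (.node (nat_lit 3) (.leaf [nat_lit 2, nat_lit 4, nat_lit 2, nat_lit 3, nat_lit 0, nat_lit 2])
 (.node (nat_lit 4) (.leaf [nat_lit 4, nat_lit 0, nat_lit 3, nat_lit 0, nat_lit 2])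
 (.leaf [nat_lit 1, nat_lit 5, nat_lit 0, nat_lit 3, nat_lit 2, nat_lit 1]))))
noncomputable def h2T : Tr ℕ := h2T_0
noncomputable def h2E : Tr (List ℕ) := h2E_0
theorem h2w_0 : h2T_0.all2 (fun c w => isProd 7 (nat_lit 3) (nat_lit 7) T c w) h2E_0 = true := by decide +kernel
theorem h2lets : Lets P 7 (nat_lit 3) (nat_lit 7) (Fin.ofNat 7) h2T := lets_words lets h2E h2w_0
noncomputable def h2W : Tr (List ℕ) := (.node (nat_lit 4) (.node (nat_lit 2) (.node (nat_lit 1) (.leaf [])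
 (.leaf []))
 (.node (nat_lit 3) (.leaf [])
 (.leaf [nat_lit 1, nat_lit 2])))
 (.node (nat_lit 6) (.node (nat_lit 5) (.leaf [])
 (.leaf []))
 (.node (nat_lit 7) (.leaf [nat_lit 2])
 (.node (nat_lit 8) (.leaf [nat_lit 2])
 (.leaf [])))))
noncomputable def h2F : Tr (ℕ × List ℕ × List ℕ) := (.node (nat_lit 2) (.node (nat_lit 1) (.leaf ((nat_lit 3), [nat_lit 0], [nat_lit 0]))
 (.leaf ((nat_lit 3), [nat_lit 2], [nat_lit 0, nat_lit 2])))
 (.node (nat_lit 3) (.leaf ((nat_lit 4), [nat_lit 1], [nat_lit 1]))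
 (.leaf ((nat_lit 4), [nat_lit 2], [nat_lit 1, nat_lit 2]))))
noncomputable def h2A : List (List ℕ × ℕ × ℕ) := [([nat_lit 2], (nat_lit 2), (nat_lit 0)),
  ([nat_lit 1], (nat_lit 1), (nat_lit 0)),
  ([nat_lit 1], (nat_lit 0), (nat_lit 0))]
noncomputable def h2B : List (ℕ × List ℕ × List ℕ) := [((nat_lit 3), [nat_lit 1, nat_lit 1], []),
  ((nat_lit 4), [nat_lit 3, nat_lit 3], [])]
noncomputable def h2X : Tr ℕ := (.node (nat_lit 1) (.leaf (nat_lit 0x300000000000000000000))
 (.node (nat_lit 2) (.leaf (nat_lit 0x3000000000000000000000000))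
 (.leaf (nat_lit 0x1000000))))
noncomputable def h2D : Tr ℕ := (.node (nat_lit 4) (.node (nat_lit 2) (.node (nat_lit 1) (.leaf (nat_lit 0x1))
 (.leaf (nat_lit 0x0)))
 (.node (nat_lit 3) (.leaf (nat_lit 0x0))
 (.leaf (nat_lit 0x0))))
 (.node (nat_lit 6) (.node (nat_lit 5) (.leaf (nat_lit 0x1))
 (.leaf (nat_lit 0x0)))
 (.node (nat_lit 7) (.leaf (nat_lit 0x1))
 (.node (nat_lit 8) (.leaf (nat_lit 0x1))
 (.leaf (nat_lit 0x1))))))
noncomputable def h2Y : Tr ℕ := (.node (nat_lit 4) (.node (nat_lit 2) (.node (nat_lit 1) (.leaf (nat_lit 0x1000001))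
 (.leaf (nat_lit 0x0)))
 (.node (nat_lit 3) (.leaf (nat_lit 0x0))
 (.leaf (nat_lit 0x0))))
 (.node (nat_lit 6) (.node (nat_lit 5) (.leaf (nat_lit 0x100030301))
 (.leaf (nat_lit 0x0)))
 (.node (nat_lit 7) (.leaf (nat_lit 0x0))
 (.node (nat_lit 8) (.leaf (nat_lit 0x10100))
 (.leaf (nat_lit 0x30003))))))
noncomputable def h2H : Holt := ⟨(nat_lit 2), (nat_lit 4), (nat_lit 3), (nat_lit 13), (nat_lit 12), h2W, (nat_lit 4), h2F, h2A, h2B, h2X, [((nat_lit 2), (nat_lit 0x1000000000000), (nat_lit 0x3))], h2D, h2Y⟩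
noncomputable def h2c0 : ℕ := (nat_lit 0x4000000000000000000000006000000000000000000000000000000000000000000000000000000000000000000000000)
noncomputable def h2c1 : ℕ := (nat_lit 0x3000000000003000000000000000000000000000000000004000000000006000000000000000000000000000000000000)
noncomputable def h2c2 : ℕ := (nat_lit 0x1000000000000000000000001000000000000000000000000000000000002000000000000000000000000000000000004)
noncomputable def h2c3 : ℕ := (nat_lit 0x6000000000000000000000004000000000000000000000003000000000000000000000000000000000000000000000000000000000000000000000003)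
noncomputable def h2c4 : ℕ := (nat_lit 0x6000000000000000000000000000000000000000000000004000000000003000000000000000000000000000000000003000000000000000000000000000000000000000000000000)
noncomputable def h2C : List ℕ := [h2c0, h2c1, h2c2, h2c3, h2c4]
noncomputable def h2XE : Tr ℕ := (.node (nat_lit 1) (.leaf (nat_lit 0x3000000000000000000000000000000000000000000000000000000000000000000000000000000000000000000000000000000000000000000000000))
 (.node (nat_lit 2) (.leaf (nat_lit 0x3000000000000000000000000000000000000000000000000000000000000000000000000000000000000000000000000000000000000000000000000000000000000000000000000))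
 (.leaf (nat_lit 0x1000000000000000000000000000000000000))))
noncomputable def h2AE : List ℕ := [(nat_lit 0x1000000000000000000000000000000000000000000000000000000000000000000000000)]
noncomputable def h2HM : ℕ := (nat_lit 0xff0000000000ff0000000000ff0000000000ff0000000000ff0000000000ff0000000000ff0000000000ff0000000000ff0000000000ff0000000000ff0000000000ff0000000000ff0000000000)
noncomputable def h2L : List (ℕ × List (List ℕ)) := [((nat_lit 4), [[nat_lit 0]]),
  ((nat_lit 1), [[nat_lit 1], [nat_lit 2]])]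
theorem h2r : h2H.relChk (weqOn (nat_lit 3) (nat_lit 7) h2T B) = true := by decide +kernel
theorem h2a0 : h2H.csR h2C 0 5 = true := by decide +kernel
theorem h2b0 : h2H.rowR h2C h2XE h2AE h2HM (nat_lit 198900) 0 3 = true := by decide +kernel
theorem h2l : h2H.linChk = true := h2H.linChk_of h2C h2XE h2AE h2HM (nat_lit 198900) 5 (by decide +kernel)
  h2a0
  h2b0
theorem h2 : ¬ 2 ^ (1 + 1) ∣ Nat.card (L.SM P) :=
  holt_bound h2lets.rep (ofNat_inj 7) base.1 base.2 h2H 1 h2L (show Nat.Prime 2 by norm_num)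
    (by rw [card]; decide +kernel) (by decide +kernel) h2r h2l

noncomputable def h3t0 : ℕ := (nat_lit 0xd6868)
noncomputable def h3t1 : ℕ := (nat_lit 0xce950)
noncomputable def h3t2 : ℕ := (nat_lit 0xccca8)
noncomputable def h3T_0 : Tr ℕ := (.node (nat_lit 1) (.leaf h3t0)
 (.node (nat_lit 2) (.leaf h3t1)
 (.leaf h3t2)))
noncomputable def h3E_0 : Tr (List ℕ) := (.node (nat_lit 1) (.leaf [nat_lit 3, nat_lit 4, nat_lit 1, nat_lit 3, nat_lit 2, nat_lit 1])
 (.node (nat_lit 2) (.leaf [nat_lit 0, nat_lit 4, nat_lit 3, nat_lit 0, nat_lit 2])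
 (.leaf [nat_lit 0, nat_lit 3, nat_lit 1])))
noncomputable def h3T : Tr ℕ := h3T_0
noncomputable def h3E : Tr (List ℕ) := h3E_0
theorem h3w_0 : h3T_0.all2 (fun c w => isProd 7 (nat_lit 3) (nat_lit 7) T c w) h3E_0 = true := by decide +kernel
theorem h3lets : Lets P 7 (nat_lit 3) (nat_lit 7) (Fin.ofNat 7) h3T := lets_words lets h3E h3w_0
noncomputable def h3W : Tr (List ℕ) := (.node (nat_lit 2) (.node (nat_lit 1) (.leaf [])
 (.leaf []))
 (.node (nat_lit 3) (.leaf [nat_lit 1])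
 (.leaf [])))
noncomputable def h3F : Tr (ℕ × List ℕ × List ℕ) := (.node (nat_lit 1) (.leaf ((nat_lit 2), [nat_lit 0], [nat_lit 0, nat_lit 0]))
 (.leaf ((nat_lit 2), [nat_lit 1], [nat_lit 1, nat_lit 1])))
noncomputable def h3A : List (List ℕ × ℕ × ℕ) := [([nat_lit 1, nat_lit 1], (nat_lit 1), (nat_lit 0))]
noncomputable def h3B : List (ℕ × List ℕ × List ℕ) := [((nat_lit 2), [nat_lit 0, nat_lit 0, nat_lit 0], []),
  ((nat_lit 2), [nat_lit 1, nat_lit 1, nat_lit 1], [])]
noncomputable def h3X : Tr ℕ := (.node (nat_lit 1) (.leaf (nat_lit 0x700000000))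
 (.leaf (nat_lit 0x70000000000)))
noncomputable def h3D : Tr ℕ := (.node (nat_lit 2) (.node (nat_lit 1) (.leaf (nat_lit 0x0))
 (.leaf (nat_lit 0x0)))
 (.node (nat_lit 3) (.leaf (nat_lit 0x1))
 (.leaf (nat_lit 0x0))))
noncomputable def h3Y : Tr ℕ := (.node (nat_lit 2) (.node (nat_lit 1) (.leaf (nat_lit 0x100))
 (.leaf (nat_lit 0x0)))
 (.node (nat_lit 3) (.leaf (nat_lit 0x0))
 (.leaf (nat_lit 0x10000))))
noncomputable def h3H : Holt := ⟨(nat_lit 3), (nat_lit 9), (nat_lit 2), (nat_lit 6), (nat_lit 9), h3W, (nat_lit 2), h3F, h3A, h3B, h3X, [((nat_lit 3), (nat_lit 0x10000), (nat_lit 0x4))], h3D, h3Y⟩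
noncomputable def h3c0 : ℕ := (nat_lit 0x9000000000018000000000000000000000000)
noncomputable def h3c1 : ℕ := (nat_lit 0x18000000000000000000000000000000000000000000000011)
noncomputable def h3c2 : ℕ := (nat_lit 0x18000000000000000000000011000000000000000000000000000000000000)
noncomputable def h3C : List ℕ := [h3c0, h3c1, h3c2]
noncomputable def h3XE : Tr ℕ := (.node (nat_lit 1) (.leaf (nat_lit 0x7000000000000000000000000000000000000000000000000))
 (.leaf (nat_lit 0x7000000000000000000000000000000000000000000000000000000000000)))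
noncomputable def h3AE : List ℕ := [(nat_lit 0x1000000000000000000000000)]
noncomputable def h3HM : ℕ := (nat_lit 0xff0000000000ff0000000000ff0000000000ff0000000000ff0000000000ff0000000000)
noncomputable def h3L : List (ℕ × List (List ℕ)) := [((nat_lit 1), [[nat_lit 1]]),
  ((nat_lit 3), [[nat_lit 0, nat_lit 1]])]
theorem h3r : h3H.relChk (weqOn (nat_lit 3) (nat_lit 7) h3T B) = true := by decide +kernel
theorem h3a0 : h3H.csR h3C 0 3 = true := by decide +kernel
theorem h3b0 : h3H.rowR h3C h3XE h3AE h3HM (nat_lit 206550) 0 2 = true := by decide +kernel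
theorem h3l : h3H.linChk = true := h3H.linChk_of h3C h3XE h3AE h3HM (nat_lit 206550) 3 (by decide +kernel)
  h3a0
  h3b0
theorem h3 : ¬ 3 ^ (1 + 1) ∣ Nat.card (L.SM P) :=
  holt_bound h3lets.rep (ofNat_inj 7) base.1 base.2 h3H 1 h3L (show Nat.Prime 3 by norm_num)
    (by rw [card]; decide +kernel) (by decide +kernel) h3r h3l

noncomputable def c2u0 : ℕ := (nat_lit 0x75dc72e074f7e2f6405bbfddab6b66aa684d46a5e545c773a15f56f0d39d4a32e16ca64b6eaf97ba2758e95a1c429349d763719164d955b42ed2398d3c20b78c3d8b366fc4ce8a31be6d892d6a6788299641438724515e50861f4cd4b8851a0e224f84154898b38310123b9b35302c28231e19140f800201)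
noncomputable def c2u1 : ℕ := (nat_lit 0x7270f7f3e0f5c55cb4d3aed6eaab4de7aae963c3c6715774dea16c76eecc42ce47ddc11c5b3ea2a09632e69dd4d9c89361e5e233a5caa6ef6d2fb7bb8d50bd1b39b58b4011d8b08a52bfac896b68a888cf5564a387975fba9e865acb0c99851251279484498e448f83983c3836312d29241f1a1510818002)
noncomputable def c2u2 : ℕ := (nat_lit 0xe65753ebbe6c3bbac5e944f274516e42d477a6b337df50a262405b9edda79c9af6cd9867f597eae1c8b85694a9a8954f1f926fed3fe8b9dec3738e34f170414ee38fa4bc648a0c19ab8911252f884b4a5a65ac3590608d86c75c13598558b0555284494c9d46ad23363d21b182322e2a81201b16800b0703)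
noncomputable def c2u3 : ℕ := (nat_lit 0xe5eac5c06cbaf0714639e7f3e376bc4e6dab77296b51b4d055dd5eb71e362d4c4d98dfb5971fe26043e8d7d8a79330a392ef7515cf90a274b88ebb693d72ee3f5cda54618a8fa8c98d8bd91a6614e4314b208719484186a6d2db898596aca456531bc4aa4a478342323e2f822e331d8125211c80110c0804)
noncomputable def c2u4 : ℕ := (nat_lit 0x74c947f7c84fb8bec6af30e86167dc6ceaa8b2d8b3a4eb29d5a5a0699dab5264d4515f571cd9d6ccf2a3955093147673f56f913590ba2c8f8e703b2ebd428c718b31c48a6365b6ed6ebc1bc15a27e066aa875e624e861a5d16885bd3ada11899849f4dca4b834543403f82393734811e26228017120d0905)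
noncomputable def c2u5 : ℕ := (nat_lit 0xf1cccac4c23e77b6e03459accd5faa406433dae7a4a8a36fea254ba62265ed559921d8973f3bc396b1956b76dd751f39379b117451738fe8d3f230aed28cc835c770b8eee61e4fbd893c296c8869ad62875cde6361dbd692c9b2850d4690578454504e8b8320c51a41829c3a14812f2b27801d18130e0a06)
noncomputable def c2M : Mon := ⟨(nat_lit 120), (nat_lit 0), (nat_lit 7), (nat_lit 127), (nat_lit 8), (nat_lit 255), (nat_lit 2), (.node (nat_lit 3) (.node (nat_lit 1) (.leaf c2u0)
 (.node (nat_lit 2) (.leaf c2u1)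
 (.leaf c2u2)))
 (.node (nat_lit 4) (.leaf c2u3)
 (.node (nat_lit 5) (.leaf c2u4)
 (.leaf c2u5))))⟩
theorem c2r : RL.all c2M.relChk = true := by decide +kernel
theorem c2 : ∃ φ : L.SM P →* Multiplicative (ZMod 2 × ZMod 2),
    Multiplicative.ofAdd (((1 : ℕ) : ZMod 2), ((1 : ℕ) : ZMod 2)) ∈ φ.range := by
  haveI : NeZero c2M.q := ⟨by decide⟩
  obtain ⟨φ, h⟩ := cover_hom std c2M (by decide +kernel) c2r
  exact ⟨φ, h [nat_lit 2, nat_lit 0, nat_lit 2, nat_lit 0, nat_lit 2, nat_lit 0, nat_lit 2, nat_lit 0, nat_lit 2, nat_lit 0, nat_lit 2, nat_lit 0]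
    [nat_lit 0, nat_lit 0, nat_lit 0, nat_lit 0, nat_lit 0, nat_lit 0, nat_lit 2, nat_lit 2, nat_lit 2, nat_lit 2, nat_lit 2, nat_lit 2] 1 1 (by decide +kernel)⟩

noncomputable def c3u0 : ℕ := (nat_lit 0x2c9974eba14395349290881)
noncomputable def c3u1 : ℕ := (nat_lit 0x1756ea9352932d1882e1402)
noncomputable def c3u2 : ℕ := (nat_lit 0x2ea2c5544ad9d12ca409183)
noncomputable def c3u3 : ℕ := (nat_lit 0x2ab1da1e59b0a91400c7044)
noncomputable def c3u4 : ℕ := (nat_lit 0x18a9b32d98e4694248e21c5)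
noncomputable def c3u5 : ℕ := (nat_lit 0x63432c21c124e00430a205)
noncomputable def c3M : Mon := ⟨(nat_lit 15), (nat_lit 0), (nat_lit 4), (nat_lit 15), (nat_lit 6), (nat_lit 63), (nat_lit 3), (.node (nat_lit 3) (.node (nat_lit 1) (.leaf c3u0)
 (.node (nat_lit 2) (.leaf c3u1)
 (.leaf c3u2)))
 (.node (nat_lit 4) (.leaf c3u3)
 (.node (nat_lit 5) (.leaf c3u4)
 (.leaf c3u5))))⟩
theorem c3r : RL.all c3M.relChk = true := by decide +kernel
theorem c3 : ∃ φ : L.SM P →* Multiplicative (ZMod 3 × ZMod 3),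
    Multiplicative.ofAdd (((1 : ℕ) : ZMod 3), ((1 : ℕ) : ZMod 3)) ∈ φ.range := by
  haveI : NeZero c3M.q := ⟨by decide⟩
  obtain ⟨φ, h⟩ := cover_hom std c3M (by decide +kernel) c3r
  exact ⟨φ, h [nat_lit 5, nat_lit 0, nat_lit 2, nat_lit 0, nat_lit 5, nat_lit 0, nat_lit 2, nat_lit 0, nat_lit 0, nat_lit 1, nat_lit 3, nat_lit 3]
    [nat_lit 0, nat_lit 2, nat_lit 3, nat_lit 2, nat_lit 5, nat_lit 0, nat_lit 3, nat_lit 1, nat_lit 5, nat_lit 0, nat_lit 0, nat_lit 0] 1 1 (by decide +kernel)⟩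

theorem sm_dvd : Nat.card (L.SM P) ∣ 6 :=
  SM_dvd 6 [2, 3] 35 (sqfree_of_chk (by decide +kernel)) 3 (by simp only [List.mem_cons, List.not_mem_nil, or_false, forall_eq_or_imp, forall_eq]; norm_num)
    (by rw [card]; decide +kernel) (by
      simp only [List.mem_cons, List.not_mem_nil, or_false, forall_eq_or_imp, forall_eq]
      exact ⟨⟨1, by norm_num, h2⟩, ⟨1, by norm_num, h3⟩⟩)
theorem mult : Cfsg.HasCyclicSchurMultiplier P 6 := by
  obtain ⟨φc2, hc2⟩ := c2
  have ec2 := dvd_exp_of_mem φc2 hc2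
  norm_num at ec2
  obtain ⟨φc3, hc3⟩ := c3
  have ec3 := dvd_exp_of_mem φc3 hc3
  norm_num at ec3
  exact hasCyclic_of_exp (by norm_num) sm_dvd (Nat.Coprime.mul_dvd_of_dvd_of_dvd (by norm_num) ec2 ec3)

end H8.A7
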