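import Cfsg.Agent.H8.MF22c3n

/-! H8.MF22c3p0: part `c3` of the multiplier computation (generated certificate) -/

set_option autoImplicit false
set_option maxRecDepth 200000

namespace H8.F22
open H7 (Net)

theorem c3a0 : covA c3N 185328 18 9 (3 ^ (0 + 1)) (catR H7.T.R_F22 c3c1) (catR H7.T.R_F22 c3c2) 0 = true := by decide +kernel
theorem c3r0_0 : covR c3N 185328 18 9 c3R0 c3E0 0 = true := by decide +kernel
theorem c3r0_1 : covR c3N 185328 18 9 c3R1 c3E1 0 = true := by decide +kernel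
theorem c3r0_2 : covR c3N 185328 18 9 c3R2 c3E2 0 = true := by decide +kernel
theorem c3r0_3 : covR c3N 185328 18 9 c3R3 c3E3 0 = true := by decide +kernel
theorem c3r0_4 : covR c3N 185328 18 9 c3R4 c3E4 0 = true := by decide +kernel
theorem c3r0 : covR c3N 185328 18 9 c3R c3E 0 = true := (covR_node (covR_node c3r0_0 c3r0_1) (covR_node c3r0_2 (covR_node c3r0_3 c3r0_4)))
theorem c3a4 : covA c3N 185328 18 9 (3 ^ (0 + 1)) (catR H7.T.R_F22 c3c1) (catR H7.T.R_F22 c3c2) 4 = true := by decide +kernel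
theorem c3r4_0 : covR c3N 185328 18 9 c3R0 c3E0 4 = true := by decide +kernel
theorem c3r4_1 : covR c3N 185328 18 9 c3R1 c3E1 4 = true := by decide +kernel
theorem c3r4_2 : covR c3N 185328 18 9 c3R2 c3E2 4 = true := by decide +kernel
theorem c3r4_3 : covR c3N 185328 18 9 c3R3 c3E3 4 = true := by decide +kernel
theorem c3r4_4 : covR c3N 185328 18 9 c3R4 c3E4 4 = true := by decide +kernel
theorem c3r4 : covR c3N 185328 18 9 c3R c3E 4 = true := (covR_node (covR_node c3r4_0 c3r4_1) (covR_node c3r4_2 (covR_node c3r4_3 c3r4_4)))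
theorem c3a8 : covA c3N 185328 18 9 (3 ^ (0 + 1)) (catR H7.T.R_F22 c3c1) (catR H7.T.R_F22 c3c2) 8 = true := by decide +kernel
theorem c3r8_0 : covR c3N 185328 18 9 c3R0 c3E0 8 = true := by decide +kernel
theorem c3r8_1 : covR c3N 185328 18 9 c3R1 c3E1 8 = true := by decide +kernel
theorem c3r8_2 : covR c3N 185328 18 9 c3R2 c3E2 8 = true := by decide +kernel
theorem c3r8_3 : covR c3N 185328 18 9 c3R3 c3E3 8 = true := by decide +kernel
theorem c3r8_4 : covR c3N 185328 18 9 c3R4 c3E4 8 = true := by decide +kernel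
theorem c3r8 : covR c3N 185328 18 9 c3R c3E 8 = true := (covR_node (covR_node c3r8_0 c3r8_1) (covR_node c3r8_2 (covR_node c3r8_3 c3r8_4)))
theorem c3a12 : covA c3N 185328 18 9 (3 ^ (0 + 1)) (catR H7.T.R_F22 c3c1) (catR H7.T.R_F22 c3c2) 12 = true := by decide +kernel
theorem c3r12_0 : covR c3N 185328 18 9 c3R0 c3E0 12 = true := by decide +kernel
theorem c3r12_1 : covR c3N 185328 18 9 c3R1 c3E1 12 = true := by decide +kernel
theorem c3r12_2 : covR c3N 185328 18 9 c3R2 c3E2 12 = true := by decide +kernel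
theorem c3r12_3 : covR c3N 185328 18 9 c3R3 c3E3 12 = true := by decide +kernel
theorem c3r12_4 : covR c3N 185328 18 9 c3R4 c3E4 12 = true := by decide +kernel
theorem c3r12 : covR c3N 185328 18 9 c3R c3E 12 = true := (covR_node (covR_node c3r12_0 c3r12_1) (covR_node c3r12_2 (covR_node c3r12_3 c3r12_4)))
theorem c3a16 : covA c3N 185328 18 9 (3 ^ (0 + 1)) (catR H7.T.R_F22 c3c1) (catR H7.T.R_F22 c3c2) 16 = true := by decide +kernel
theorem c3r16_0 : covR c3N 185328 18 9 c3R0 c3E0 16 = true := by decide +kernel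
theorem c3r16_1 : covR c3N 185328 18 9 c3R1 c3E1 16 = true := by decide +kernel
theorem c3r16_2 : covR c3N 185328 18 9 c3R2 c3E2 16 = true := by decide +kernel
theorem c3r16_3 : covR c3N 185328 18 9 c3R3 c3E3 16 = true := by decide +kernel
theorem c3r16_4 : covR c3N 185328 18 9 c3R4 c3E4 16 = true := by decide +kernel
theorem c3r16 : covR c3N 185328 18 9 c3R c3E 16 = true := (covR_node (covR_node c3r16_0 c3r16_1) (covR_node c3r16_2 (covR_node c3r16_3 c3r16_4)))

end H8.F22
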