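import Cfsg.Agent.H8.MF22c3n

/-! H8.MF22c3p1: part `c3` of the multiplier computation (generated certificate) -/

set_option autoImplicit false
set_option maxRecDepth 200000

namespace H8.F22
open H7 (Net)

theorem c3a1 : covA c3N 185328 18 9 (3 ^ (0 + 1)) (catR H7.T.R_F22 c3c1) (catR H7.T.R_F22 c3c2) 1 = true := by decide +kernel
theorem c3r1_0 : covR c3N 185328 18 9 c3R0 c3E0 1 = true := by decide +kernel
theorem c3r1_1 : covR c3N 185328 18 9 c3R1 c3E1 1 = true := by decide +kernel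
theorem c3r1_2 : covR c3N 185328 18 9 c3R2 c3E2 1 = true := by decide +kernel
theorem c3r1_3 : covR c3N 185328 18 9 c3R3 c3E3 1 = true := by decide +kernel
theorem c3r1_4 : covR c3N 185328 18 9 c3R4 c3E4 1 = true := by decide +kernel
theorem c3r1 : covR c3N 185328 18 9 c3R c3E 1 = true := (covR_node (covR_node c3r1_0 c3r1_1) (covR_node c3r1_2 (covR_node c3r1_3 c3r1_4)))
theorem c3a5 : covA c3N 185328 18 9 (3 ^ (0 + 1)) (catR H7.T.R_F22 c3c1) (catR H7.T.R_F22 c3c2) 5 = true := by decide +kernel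
theorem c3r5_0 : covR c3N 185328 18 9 c3R0 c3E0 5 = true := by decide +kernel
theorem c3r5_1 : covR c3N 185328 18 9 c3R1 c3E1 5 = true := by decide +kernel
theorem c3r5_2 : covR c3N 185328 18 9 c3R2 c3E2 5 = true := by decide +kernel
theorem c3r5_3 : covR c3N 185328 18 9 c3R3 c3E3 5 = true := by decide +kernel
theorem c3r5_4 : covR c3N 185328 18 9 c3R4 c3E4 5 = true := by decide +kernel
theorem c3r5 : covR c3N 185328 18 9 c3R c3E 5 = true := (covR_node (covR_node c3r5_0 c3r5_1) (covR_node c3r5_2 (covR_node c3r5_3 c3r5_4)))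
theorem c3a9 : covA c3N 185328 18 9 (3 ^ (0 + 1)) (catR H7.T.R_F22 c3c1) (catR H7.T.R_F22 c3c2) 9 = true := by decide +kernel
theorem c3r9_0 : covR c3N 185328 18 9 c3R0 c3E0 9 = true := by decide +kernel
theorem c3r9_1 : covR c3N 185328 18 9 c3R1 c3E1 9 = true := by decide +kernel
theorem c3r9_2 : covR c3N 185328 18 9 c3R2 c3E2 9 = true := by decide +kernel
theorem c3r9_3 : covR c3N 185328 18 9 c3R3 c3E3 9 = true := by decide +kernel
theorem c3r9_4 : covR c3N 185328 18 9 c3R4 c3E4 9 = true := by decide +kernel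
theorem c3r9 : covR c3N 185328 18 9 c3R c3E 9 = true := (covR_node (covR_node c3r9_0 c3r9_1) (covR_node c3r9_2 (covR_node c3r9_3 c3r9_4)))
theorem c3a13 : covA c3N 185328 18 9 (3 ^ (0 + 1)) (catR H7.T.R_F22 c3c1) (catR H7.T.R_F22 c3c2) 13 = true := by decide +kernel
theorem c3r13_0 : covR c3N 185328 18 9 c3R0 c3E0 13 = true := by decide +kernel
theorem c3r13_1 : covR c3N 185328 18 9 c3R1 c3E1 13 = true := by decide +kernel
theorem c3r13_2 : covR c3N 185328 18 9 c3R2 c3E2 13 = true := by decide +kernel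
theorem c3r13_3 : covR c3N 185328 18 9 c3R3 c3E3 13 = true := by decide +kernel
theorem c3r13_4 : covR c3N 185328 18 9 c3R4 c3E4 13 = true := by decide +kernel
theorem c3r13 : covR c3N 185328 18 9 c3R c3E 13 = true := (covR_node (covR_node c3r13_0 c3r13_1) (covR_node c3r13_2 (covR_node c3r13_3 c3r13_4)))
theorem c3a17 : covA c3N 185328 18 9 (3 ^ (0 + 1)) (catR H7.T.R_F22 c3c1) (catR H7.T.R_F22 c3c2) 17 = true := by decide +kernel
theorem c3r17_0 : covR c3N 185328 18 9 c3R0 c3E0 17 = true := by decide +kernel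
theorem c3r17_1 : covR c3N 185328 18 9 c3R1 c3E1 17 = true := by decide +kernel
theorem c3r17_2 : covR c3N 185328 18 9 c3R2 c3E2 17 = true := by decide +kernel
theorem c3r17_3 : covR c3N 185328 18 9 c3R3 c3E3 17 = true := by decide +kernel
theorem c3r17_4 : covR c3N 185328 18 9 c3R4 c3E4 17 = true := by decide +kernel
theorem c3r17 : covR c3N 185328 18 9 c3R c3E 17 = true := (covR_node (covR_node c3r17_0 c3r17_1) (covR_node c3r17_2 (covR_node c3r17_3 c3r17_4)))

end H8.F22
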