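import Cfsg.Agent.H8.GL32

/-! H8.ML32: `mult`, the Schur multiplier of `P` (generated certificate) -/

set_option autoImplicit false
set_option maxRecDepth 200000

namespace H8.L32

noncomputable def h2t0 : ℕ := (nat_lit 0x1aa318)
noncomputable def h2t1 : ℕ := (nat_lit 0x174650)
noncomputable def h2t2 : ℕ := (nat_lit 0x1ab850)
noncomputable def h2t3 : ℕ := (nat_lit 0x1442d6)
noncomputable def h2t4 : ℕ := (nat_lit 0x8c7a8)
noncomputable def h2T_0 : Tr ℕ := (.node (nat_lit 2) (.node (nat_lit 1) (.leaf h2t0)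
 (.leaf h2t1))
 (.node (nat_lit 3) (.leaf h2t2)
 (.node (nat_lit 4) (.leaf h2t3)
 (.leaf h2t4))))
noncomputable def h2E_0 : Tr (List ℕ) := (.node (nat_lit 2) (.node (nat_lit 1) (.leaf [nat_lit 1, nat_lit 2, nat_lit 1])
 (.leaf [nat_lit 2, nat_lit 1, nat_lit 0, nat_lit 2, nat_lit 1, nat_lit 0]))
 (.node (nat_lit 3) (.leaf [nat_lit 2, nat_lit 1, nat_lit 0, nat_lit 2])
 (.node (nat_lit 4) (.leaf [nat_lit 1, nat_lit 3, nat_lit 1, nat_lit 0, nat_lit 2, nat_lit 1])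
 (.leaf [nat_lit 1, nat_lit 0, nat_lit 2, nat_lit 1, nat_lit 0]))))
noncomputable def h2T : Tr ℕ := h2T_0
noncomputable def h2E : Tr (List ℕ) := h2E_0
theorem h2w_0 : h2T_0.all2 (fun c w => isProd 7 (nat_lit 3) (nat_lit 7) T c w) h2E_0 = true := by decide +kernel
theorem h2lets : Lets P 7 (nat_lit 3) (nat_lit 7) (Fin.ofNat 7) h2T := lets_words lets h2E h2w_0
noncomputable def h2W : Tr (List ℕ) := (.node (nat_lit 4) (.node (nat_lit 2) (.node (nat_lit 1) (.leaf [])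
 (.leaf []))
 (.node (nat_lit 3) (.leaf [])
 (.leaf [nat_lit 1, nat_lit 2])))
 (.node (nat_lit 6) (.node (nat_lit 5) (.leaf [])
 (.leaf []))
 (.node (nat_lit 7) (.leaf [nat_lit 2])
 (.node (nat_lit 8) (.leaf [nat_lit 2])
 (.leaf [])))))
noncomputable def h2F : Tr (ℕ × List ℕ × List ℕ) := (.node (nat_lit 2) (.node (nat_lit 1) (.leaf ((nat_lit 3), [nat_lit 0], [nat_lit 2]))
 (.leaf ((nat_lit 3), [nat_lit 2], [nat_lit 0, nat_lit 2])))
 (.node (nat_lit 3) (.leaf ((nat_lit 4), [nat_lit 1], [nat_lit 1]))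
 (.leaf ((nat_lit 4), [nat_lit 2], [nat_lit 1, nat_lit 2]))))
noncomputable def h2A : List (List ℕ × ℕ × ℕ) := [([nat_lit 2], (nat_lit 2), (nat_lit 0)),
  ([nat_lit 1], (nat_lit 1), (nat_lit 0)),
  ([nat_lit 1], (nat_lit 0), (nat_lit 0))]
noncomputable def h2B : List (ℕ × List ℕ × List ℕ) := [((nat_lit 3), [nat_lit 0, nat_lit 0], []),
  ((nat_lit 4), [nat_lit 3, nat_lit 3], [])]
noncomputable def h2X : Tr ℕ := (.node (nat_lit 1) (.leaf (nat_lit 0x3000300000003000003))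
 (.node (nat_lit 2) (.leaf (nat_lit 0x3000000000000000000000000))
 (.leaf (nat_lit 0x1000000))))
noncomputable def h2D : Tr ℕ := (.node (nat_lit 4) (.node (nat_lit 2) (.node (nat_lit 1) (.leaf (nat_lit 0x1))
 (.leaf (nat_lit 0x0)))
 (.node (nat_lit 3) (.leaf (nat_lit 0x0))
 (.leaf (nat_lit 0x0))))
 (.node (nat_lit 6) (.node (nat_lit 5) (.leaf (nat_lit 0x1))
 (.leaf (nat_lit 0x0)))
 (.node (nat_lit 7) (.leaf (nat_lit 0x1))
 (.node (nat_lit 8) (.leaf (nat_lit 0x1))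
 (.leaf (nat_lit 0x1))))))
noncomputable def h2Y : Tr ℕ := (.node (nat_lit 4) (.node (nat_lit 2) (.node (nat_lit 1) (.leaf (nat_lit 0x1030201))
 (.leaf (nat_lit 0x0)))
 (.node (nat_lit 3) (.leaf (nat_lit 0x0))
 (.leaf (nat_lit 0x0))))
 (.node (nat_lit 6) (.node (nat_lit 5) (.leaf (nat_lit 0x100030301))
 (.leaf (nat_lit 0x0)))
 (.node (nat_lit 7) (.leaf (nat_lit 0x0))
 (.node (nat_lit 8) (.leaf (nat_lit 0x10100))
 (.leaf (nat_lit 0x30003))))))
noncomputable def h2H : Holt := ⟨(nat_lit 2), (nat_lit 4), (nat_lit 3), (nat_lit 13), (nat_lit 12), h2W, (nat_lit 4), h2F, h2A, h2B, h2X, [((nat_lit 2), (nat_lit 0x1000000000000), (nat_lit 0x3))], h2D, h2Y⟩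
noncomputable def h2L : List (ℕ × List (List ℕ)) := [((nat_lit 5), [[nat_lit 1]]),
  ((nat_lit 1), [[nat_lit 0], [nat_lit 2]])]
theorem h2r : h2H.relChk (weqOn (nat_lit 3) (nat_lit 7) h2T B) = true := by decide +kernel
theorem h2l : h2H.linChk = true := by decide +kernel
theorem h2 : ¬ 2 ^ (1 + 1) ∣ Nat.card (L.SM P) :=
  holt_bound h2lets.rep (ofNat_inj 7) base.1 base.2 h2H 1 h2L (show Nat.Prime 2 by norm_num)
    (by rw [card]; decide +kernel) (by decide +kernel) h2r h2l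

noncomputable def c2u0 : ℕ := (nat_lit 0x6fb25c81)
noncomputable def c2u1 : ℕ := (nat_lit 0xdb796842)
noncomputable def c2u2 : ℕ := (nat_lit 0xe7c59832)
noncomputable def c2u3 : ℕ := (nat_lit 0x5cf681a3)
noncomputable def c2M : Mon := ⟨(nat_lit 8), (nat_lit 0), (nat_lit 3), (nat_lit 7), (nat_lit 4), (nat_lit 15), (nat_lit 2), (.node (nat_lit 2) (.node (nat_lit 1) (.leaf c2u0)
 (.leaf c2u1))
 (.node (nat_lit 3) (.leaf c2u2)
 (.leaf c2u3)))⟩
theorem c2r : RL.all c2M.relChk = true := by decide +kernel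
theorem c2 : ∃ φ : L.SM P →* Multiplicative (ZMod 2 × ZMod 2),
    Multiplicative.ofAdd (((1 : ℕ) : ZMod 2), ((1 : ℕ) : ZMod 2)) ∈ φ.range := by
  haveI : NeZero c2M.q := ⟨by decide⟩
  obtain ⟨φ, h⟩ := cover_hom std c2M (by decide +kernel) c2r
  exact ⟨φ, h [nat_lit 3, nat_lit 2, nat_lit 3, nat_lit 2]
    [nat_lit 2, nat_lit 3, nat_lit 3, nat_lit 2] 1 1 (by decide +kernel)⟩

theorem sm_dvd : Nat.card (L.SM P) ∣ 2 :=
  SM_dvd 2 [2] 21 (sqfree_of_chk (by decide +kernel)) 3 (by simp only [List.mem_cons, List.not_mem_nil, or_false, forall_eq_or_imp, forall_eq]; norm_num)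
    (by rw [card]; decide +kernel) (by
      simp only [List.mem_cons, List.not_mem_nil, or_false, forall_eq_or_imp, forall_eq]
      exact ⟨1, by norm_num, h2⟩)
theorem mult : Cfsg.HasCyclicSchurMultiplier P 2 := by
  obtain ⟨φc2, hc2⟩ := c2
  have ec2 := dvd_exp_of_mem φc2 hc2
  norm_num at ec2
  exact hasCyclic_of_exp (by norm_num) sm_dvd ec2

end H8.L32
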