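import Cfsg.Agent.H8.GL34

/-! H8.ML34: `mult`, the Schur multiplier of `P` (generated certificate) -/

set_option autoImplicit false
set_option maxRecDepth 200000

namespace H8.L34

noncomputable def h2t0 : ℕ := (nat_lit 0xa419692b0ee8d2136c9e418820)
noncomputable def h2t1 : ℕ := (nat_lit 0x14625eb8b95383648394c320440)
noncomputable def h2t2 : ℕ := (nat_lit 0x146c6464ba6a2b1e83c16209060)
noncomputable def h2t3 : ℕ := (nat_lit 0x64a9a86162f3ca705d1c418820)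
noncomputable def h2t4 : ℕ := (nat_lit 0x7646454a153335eea2e0418820)
noncomputable def h2t5 : ℕ := (nat_lit 0xe6bd2b9526a83227414c418820)
noncomputable def h2t6 : ℕ := (nat_lit 0xe2cd496220b799b43c64410460)
noncomputable def h2t7 : ℕ := (nat_lit 0x76a4b09ae34419d2531e208083)
noncomputable def h2t8 : ℕ := (nat_lit 0x2920eda11f1525c30cd8b340a0)
noncomputable def h2T_0 : Tr ℕ := (.node (nat_lit 4) (.node (nat_lit 2) (.node (nat_lit 1) (.leaf h2t0)
 (.leaf h2t1))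
 (.node (nat_lit 3) (.leaf h2t2)
 (.leaf h2t3)))
 (.node (nat_lit 6) (.node (nat_lit 5) (.leaf h2t4)
 (.leaf h2t5))
 (.node (nat_lit 7) (.leaf h2t6)
 (.node (nat_lit 8) (.leaf h2t7)
 (.leaf h2t8)))))
noncomputable def h2E_0 : Tr (List ℕ) := (.node (nat_lit 4) (.node (nat_lit 2) (.node (nat_lit 1) (.leaf [nat_lit 3, nat_lit 1, nat_lit 0])
 (.leaf [nat_lit 6, nat_lit 4, nat_lit 0, nat_lit 6, nat_lit 4, nat_lit 0]))
 (.node (nat_lit 3) (.leaf [nat_lit 6, nat_lit 3, nat_lit 1, nat_lit 6, nat_lit 2, nat_lit 1, nat_lit 0])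
 (.leaf [nat_lit 1])))
 (.node (nat_lit 6) (.node (nat_lit 5) (.leaf [nat_lit 3, nat_lit 1])
 (.leaf [nat_lit 2, nat_lit 1, nat_lit 0]))
 (.node (nat_lit 7) (.leaf [nat_lit 6, nat_lit 3, nat_lit 1, nat_lit 6, nat_lit 4, nat_lit 1, nat_lit 0])
 (.node (nat_lit 8) (.leaf [nat_lit 6, nat_lit 3, nat_lit 7, nat_lit 3, nat_lit 6, nat_lit 4, nat_lit 3, nat_lit 2, nat_lit 1, nat_lit 0])
 (.leaf [nat_lit 5, nat_lit 2, nat_lit 6, nat_lit 0])))))
noncomputable def h2T : Tr ℕ := h2T_0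
noncomputable def h2E : Tr (List ℕ) := h2E_0
theorem h2w_0 : h2T_0.all2 (fun c w => isProd 21 (nat_lit 5) (nat_lit 31) T c w) h2E_0 = true := by decide +kernel
theorem h2lets : Lets P 21 (nat_lit 5) (nat_lit 31) (Fin.ofNat 21) h2T := lets_words lets h2E h2w_0
noncomputable def h2W : Tr (List ℕ) := (.node (nat_lit 18) (.node (nat_lit 9) (.node (nat_lit 4) (.node (nat_lit 2) (.node (nat_lit 1) (.leaf [])
 (.leaf []))
 (.node (nat_lit 3) (.leaf [])
 (.leaf [])))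
 (.node (nat_lit 6) (.node (nat_lit 5) (.leaf [])
 (.leaf []))
 (.node (nat_lit 7) (.leaf [nat_lit 1, nat_lit 4])
 (.node (nat_lit 8) (.leaf [])
 (.leaf [])))))
 (.node (nat_lit 13) (.node (nat_lit 11) (.node (nat_lit 10) (.leaf [])
 (.leaf []))
 (.node (nat_lit 12) (.leaf [])
 (.leaf [nat_lit 2, nat_lit 5])))
 (.node (nat_lit 15) (.node (nat_lit 14) (.leaf [nat_lit 2])
 (.leaf []))
 (.node (nat_lit 16) (.leaf [])
 (.node (nat_lit 17) (.leaf [])
 (.leaf []))))))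
 (.node (nat_lit 27) (.node (nat_lit 22) (.node (nat_lit 20) (.node (nat_lit 19) (.leaf [nat_lit 3])
 (.leaf [nat_lit 3, nat_lit 5]))
 (.node (nat_lit 21) (.leaf [nat_lit 3, nat_lit 4, nat_lit 5])
 (.leaf [])))
 (.node (nat_lit 24) (.node (nat_lit 23) (.leaf [])
 (.leaf []))
 (.node (nat_lit 25) (.leaf [nat_lit 4])
 (.node (nat_lit 26) (.leaf [nat_lit 4])
 (.leaf [nat_lit 4])))))
 (.node (nat_lit 31) (.node (nat_lit 29) (.node (nat_lit 28) (.leaf [nat_lit 4])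
 (.leaf []))
 (.node (nat_lit 30) (.leaf [])
 (.leaf [nat_lit 5])))
 (.node (nat_lit 33) (.node (nat_lit 32) (.leaf [nat_lit 5])
 (.leaf [nat_lit 5]))
 (.node (nat_lit 34) (.leaf [nat_lit 5])
 (.node (nat_lit 35) (.leaf [nat_lit 5])
 (.leaf [])))))))
noncomputable def h2F : Tr (ℕ × List ℕ × List ℕ) := (.node (nat_lit 7) (.node (nat_lit 3) (.node (nat_lit 1) (.leaf ((nat_lit 6), [nat_lit 0], [nat_lit 3, nat_lit 5]))
 (.node (nat_lit 2) (.leaf ((nat_lit 6), [nat_lit 1], [nat_lit 2]))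
 (.leaf ((nat_lit 6), [nat_lit 2], [nat_lit 1, nat_lit 2]))))
 (.node (nat_lit 5) (.node (nat_lit 4) (.leaf ((nat_lit 6), [nat_lit 3], [nat_lit 0, nat_lit 3, nat_lit 4, nat_lit 5]))
 (.leaf ((nat_lit 6), [nat_lit 4], [nat_lit 4, nat_lit 5])))
 (.node (nat_lit 6) (.leaf ((nat_lit 6), [nat_lit 5], [nat_lit 4]))
 (.leaf ((nat_lit 7), [nat_lit 0], [nat_lit 3, nat_lit 4])))))
 (.node (nat_lit 10) (.node (nat_lit 8) (.leaf ((nat_lit 7), [nat_lit 3], [nat_lit 0, nat_lit 4, nat_lit 5]))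
 (.node (nat_lit 9) (.leaf ((nat_lit 7), [nat_lit 4], [nat_lit 0, nat_lit 4]))
 (.leaf ((nat_lit 7), [nat_lit 5], [nat_lit 3]))))
 (.node (nat_lit 12) (.node (nat_lit 11) (.leaf ((nat_lit 8), [nat_lit 1], [nat_lit 4]))
 (.leaf ((nat_lit 8), [nat_lit 2], [nat_lit 5])))
 (.node (nat_lit 13) (.leaf ((nat_lit 8), [nat_lit 4], [nat_lit 1, nat_lit 5]))
 (.leaf ((nat_lit 8), [nat_lit 5], [nat_lit 2, nat_lit 4, nat_lit 5]))))))
noncomputable def h2A : List (List ℕ × ℕ × ℕ) := [([nat_lit 2], (nat_lit 2), (nat_lit 1)),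
  ([nat_lit 3], (nat_lit 3), (nat_lit 0)),
  ([nat_lit 5], (nat_lit 5), (nat_lit 2)),
  ([nat_lit 5], (nat_lit 5), (nat_lit 3)),
  ([nat_lit 1], (nat_lit 1), (nat_lit 0)),
  ([nat_lit 2], (nat_lit 2), (nat_lit 0)),
  ([nat_lit 3], (nat_lit 3), (nat_lit 1)),
  ([nat_lit 5], (nat_lit 1), (nat_lit 0)),
  ([nat_lit 1], (nat_lit 0), (nat_lit 0)),
  ([nat_lit 2], (nat_lit 0), (nat_lit 0)),
  ([nat_lit 3], (nat_lit 1), (nat_lit 1)),
  ([nat_lit 2], (nat_lit 1), (nat_lit 0)),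
  ([nat_lit 3], (nat_lit 1), (nat_lit 0)),
  ([nat_lit 3], (nat_lit 3), (nat_lit 2)),
  ([nat_lit 3], (nat_lit 2), (nat_lit 1))]
noncomputable def h2B : List (ℕ × List ℕ × List ℕ) := [((nat_lit 6), [nat_lit 1, nat_lit 1], []),
  ((nat_lit 6), [nat_lit 0, nat_lit 0], []),
  ((nat_lit 6), [nat_lit 2, nat_lit 2], []),
  ((nat_lit 6), [nat_lit 3, nat_lit 3], []),
  ((nat_lit 7), [nat_lit 9, nat_lit 8], [nat_lit 8, nat_lit 9]),
  ((nat_lit 8), [nat_lit 11, nat_lit 10], [nat_lit 10, nat_lit 11])]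
noncomputable def h2X : Tr ℕ := (.node (nat_lit 3) (.node (nat_lit 1) (.leaf (nat_lit 0x1f000000171717000017001717001f18000000001f1700000000000000000000001f000000000017))
 (.node (nat_lit 2) (.leaf (nat_lit 0x1f0000000000000000000000000000000000000000000000001700000000001700000000000000))
 (.leaf (nat_lit 0x1f1f00000000000000000000000000000000000000000000171700000000000000000000000000))))
 (.node (nat_lit 4) (.leaf (nat_lit 0x1f00001f1f171f000017001717001f1800001700001700000000000000000000001f000000000000))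
 (.node (nat_lit 5) (.leaf (nat_lit 0x1000000000000))
 (.leaf (nat_lit 0x1000000000000000000000000)))))
noncomputable def h2D : Tr ℕ := (.node (nat_lit 18) (.node (nat_lit 9) (.node (nat_lit 4) (.node (nat_lit 2) (.node (nat_lit 1) (.leaf (nat_lit 0x202))
 (.leaf (nat_lit 0x0)))
 (.node (nat_lit 3) (.leaf (nat_lit 0x0))
 (.leaf (nat_lit 0x0))))
 (.node (nat_lit 6) (.node (nat_lit 5) (.leaf (nat_lit 0x0))
 (.leaf (nat_lit 0x0)))
 (.node (nat_lit 7) (.leaf (nat_lit 0x0))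
 (.node (nat_lit 8) (.leaf (nat_lit 0x0))
 (.leaf (nat_lit 0x0))))))
 (.node (nat_lit 13) (.node (nat_lit 11) (.node (nat_lit 10) (.leaf (nat_lit 0x0))
 (.leaf (nat_lit 0x0)))
 (.node (nat_lit 12) (.leaf (nat_lit 0x0))
 (.leaf (nat_lit 0x0))))
 (.node (nat_lit 15) (.node (nat_lit 14) (.leaf (nat_lit 0x0))
 (.leaf (nat_lit 0x0)))
 (.node (nat_lit 16) (.leaf (nat_lit 0x0))
 (.node (nat_lit 17) (.leaf (nat_lit 0x0))
 (.leaf (nat_lit 0x0)))))))
 (.node (nat_lit 27) (.node (nat_lit 22) (.node (nat_lit 20) (.node (nat_lit 19) (.leaf (nat_lit 0x202))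
 (.leaf (nat_lit 0x3)))
 (.node (nat_lit 21) (.leaf (nat_lit 0x103))
 (.leaf (nat_lit 0x202))))
 (.node (nat_lit 24) (.node (nat_lit 23) (.leaf (nat_lit 0x0))
 (.leaf (nat_lit 0x0)))
 (.node (nat_lit 25) (.leaf (nat_lit 0x2))
 (.node (nat_lit 26) (.leaf (nat_lit 0x2))
 (.leaf (nat_lit 0x200))))))
 (.node (nat_lit 31) (.node (nat_lit 29) (.node (nat_lit 28) (.leaf (nat_lit 0x202))
 (.leaf (nat_lit 0x2)))
 (.node (nat_lit 30) (.leaf (nat_lit 0x0))
 (.leaf (nat_lit 0x202))))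
 (.node (nat_lit 33) (.node (nat_lit 32) (.leaf (nat_lit 0x200))
 (.leaf (nat_lit 0x202)))
 (.node (nat_lit 34) (.leaf (nat_lit 0x200))
 (.node (nat_lit 35) (.leaf (nat_lit 0x0))
 (.leaf (nat_lit 0x202))))))))
noncomputable def h2Y : Tr ℕ := (.node (nat_lit 18) (.node (nat_lit 9) (.node (nat_lit 4) (.node (nat_lit 2) (.node (nat_lit 1) (.leaf (nat_lit 0x1f0f000000011f01001f001f1f08171f1c040000))
 (.leaf (nat_lit 0x0)))
 (.node (nat_lit 3) (.leaf (nat_lit 0x0))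
 (.leaf (nat_lit 0x0))))
 (.node (nat_lit 6) (.node (nat_lit 5) (.leaf (nat_lit 0x0))
 (.leaf (nat_lit 0x0)))
 (.node (nat_lit 7) (.leaf (nat_lit 0x0))
 (.node (nat_lit 8) (.leaf (nat_lit 0x1100000f0000000000000000000f00000000000018))
 (.leaf (nat_lit 0x0))))))
 (.node (nat_lit 13) (.node (nat_lit 11) (.node (nat_lit 10) (.leaf (nat_lit 0x0))
 (.leaf (nat_lit 0x0)))
 (.node (nat_lit 12) (.leaf (nat_lit 0x0))
 (.leaf (nat_lit 0x0))))
 (.node (nat_lit 15) (.node (nat_lit 14) (.leaf (nat_lit 0x1f0000000000000000000000000100000000000000))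
 (.leaf (nat_lit 0x1100000f000f000000000000000f00000000000018)))
 (.node (nat_lit 16) (.leaf (nat_lit 0x0))
 (.node (nat_lit 17) (.leaf (nat_lit 0x0))
 (.leaf (nat_lit 0x0)))))))
 (.node (nat_lit 27) (.node (nat_lit 22) (.node (nat_lit 20) (.node (nat_lit 19) (.leaf (nat_lit 0x1f00000000011f00001f0000010917011c041100))
 (.leaf (nat_lit 0xc14000a160000)))
 (.node (nat_lit 21) (.leaf (nat_lit 0x1a0600031d0000))
 (.leaf (nat_lit 0x1f0f000f00011f01001f001f1f09171f1c040000))))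
 (.node (nat_lit 24) (.node (nat_lit 23) (.leaf (nat_lit 0x0))
 (.leaf (nat_lit 0x0)))
 (.node (nat_lit 25) (.leaf (nat_lit 0x1f00000001001f1f1e031f110f0000))
 (.node (nat_lit 26) (.leaf (nat_lit 0x1f0000000100001f1e0300110f0000))
 (.leaf (nat_lit 0x11f1f1f1e0100041b0501031d0000))))))
 (.node (nat_lit 31) (.node (nat_lit 29) (.node (nat_lit 28) (.leaf (nat_lit 0xe00000000110f00000f0000101907111c041900))
 (.leaf (nat_lit 0x10000001f0000010c13010a160000)))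
 (.node (nat_lit 30) (.leaf (nat_lit 0x0))
 (.leaf (nat_lit 0x11f1f001f0000030917011c040000))))
 (.node (nat_lit 33) (.node (nat_lit 32) (.leaf (nat_lit 0x11f1f001e0100031b0501031d0000))
 (.leaf (nat_lit 0x11f1f001f0100030918011c040000)))
 (.node (nat_lit 34) (.leaf (nat_lit 0x11f1f001f0100031c0501031d0000))
 (.node (nat_lit 35) (.leaf (nat_lit 0x100000000000000))
 (.leaf (nat_lit 0xe00000000110f01000f1f000f1907111c041900))))))))
noncomputable def h2H : Holt := ⟨(nat_lit 2), (nat_lit 32), (nat_lit 6), (nat_lit 50), (nat_lit 21), h2W, (nat_lit 14), h2F, h2A, h2B, h2X, [((nat_lit 4), (nat_lit 0x30000000000001d000000000000000000000000), (nat_lit 0x160a00150b0000)),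
  ((nat_lit 4), (nat_lit 0x1030000000000001c00000000001f000000000000), (nat_lit 0x2000000001e0200000200001e18081e031d1f00))], h2D, h2Y⟩
noncomputable def h2L : List (ℕ × List (List ℕ)) := [((nat_lit 1), [[nat_lit 1], [nat_lit 2]]),
  ((nat_lit 5), [[nat_lit 0], [nat_lit 3], [nat_lit 4], [nat_lit 5]])]
theorem h2r : h2H.relChk (weqOn (nat_lit 5) (nat_lit 31) h2T B) = true := by decide +kernel
theorem h2l : h2H.linChk = true := by decide +kernel
theorem h2 : ¬ 2 ^ (4 + 1) ∣ Nat.card (L.SM P) :=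
  holt_bound h2lets.rep (ofNat_inj 21) base.1 base.2 h2H 4 h2L (show Nat.Prime 2 by norm_num)
    (by rw [card]; decide +kernel) (by decide +kernel) h2r h2l

noncomputable def h3t0 : ℕ := (nat_lit 0x59b8297a1808297211c948986d)
noncomputable def h3t1 : ℕ := (nat_lit 0x6522299ca8583d6e634e218024)
noncomputable def h3t2 : ℕ := (nat_lit 0x7c8299a0855aa0e3898d19a34)
noncomputable def h3T_0 : Tr ℕ := (.node (nat_lit 1) (.leaf h3t0)
 (.node (nat_lit 2) (.leaf h3t1)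
 (.leaf h3t2)))
noncomputable def h3E_0 : Tr (List ℕ) := (.node (nat_lit 1) (.leaf [nat_lit 3, nat_lit 7, nat_lit 5, nat_lit 1, nat_lit 6, nat_lit 1, nat_lit 0])
 (.node (nat_lit 2) (.leaf [nat_lit 6, nat_lit 5, nat_lit 7, nat_lit 5, nat_lit 0, nat_lit 6, nat_lit 5, nat_lit 2, nat_lit 1])
 (.leaf [nat_lit 3, nat_lit 0, nat_lit 7, nat_lit 4, nat_lit 0, nat_lit 6, nat_lit 4, nat_lit 2, nat_lit 1])))
noncomputable def h3T : Tr ℕ := h3T_0
noncomputable def h3E : Tr (List ℕ) := h3E_0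
theorem h3w_0 : h3T_0.all2 (fun c w => isProd 21 (nat_lit 5) (nat_lit 31) T c w) h3E_0 = true := by decide +kernel
theorem h3lets : Lets P 21 (nat_lit 5) (nat_lit 31) (Fin.ofNat 21) h3T := lets_words lets h3E h3w_0
noncomputable def h3W : Tr (List ℕ) := (.node (nat_lit 2) (.node (nat_lit 1) (.leaf [])
 (.leaf []))
 (.node (nat_lit 3) (.leaf [nat_lit 1])
 (.leaf [])))
noncomputable def h3F : Tr (ℕ × List ℕ × List ℕ) := (.node (nat_lit 1) (.leaf ((nat_lit 2), [nat_lit 0], [nat_lit 0, nat_lit 0]))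
 (.leaf ((nat_lit 2), [nat_lit 1], [nat_lit 1, nat_lit 1])))
noncomputable def h3A : List (List ℕ × ℕ × ℕ) := [([nat_lit 1, nat_lit 1], (nat_lit 1), (nat_lit 0))]
noncomputable def h3B : List (ℕ × List ℕ × List ℕ) := [((nat_lit 2), [nat_lit 0, nat_lit 0, nat_lit 0], []),
  ((nat_lit 2), [nat_lit 1, nat_lit 1, nat_lit 1], [])]
noncomputable def h3X : Tr ℕ := (.node (nat_lit 1) (.leaf (nat_lit 0x700000000))
 (.leaf (nat_lit 0x70000000000)))
noncomputable def h3D : Tr ℕ := (.node (nat_lit 2) (.node (nat_lit 1) (.leaf (nat_lit 0x0))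
 (.leaf (nat_lit 0x0)))
 (.node (nat_lit 3) (.leaf (nat_lit 0x1))
 (.leaf (nat_lit 0x0))))
noncomputable def h3Y : Tr ℕ := (.node (nat_lit 2) (.node (nat_lit 1) (.leaf (nat_lit 0x100))
 (.leaf (nat_lit 0x0)))
 (.node (nat_lit 3) (.leaf (nat_lit 0x0))
 (.leaf (nat_lit 0x10000))))
noncomputable def h3H : Holt := ⟨(nat_lit 3), (nat_lit 9), (nat_lit 2), (nat_lit 6), (nat_lit 9), h3W, (nat_lit 2), h3F, h3A, h3B, h3X, [((nat_lit 3), (nat_lit 0x10000), (nat_lit 0x4))], h3D, h3Y⟩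
noncomputable def h3L : List (ℕ × List (List ℕ)) := [((nat_lit 1), [[nat_lit 0]]),
  ((nat_lit 0), [[nat_lit 1]])]
theorem h3r : h3H.relChk (weqOn (nat_lit 5) (nat_lit 31) h3T B) = true := by decide +kernel
theorem h3l : h3H.linChk = true := by decide +kernel
theorem h3 : ¬ 3 ^ (1 + 1) ∣ Nat.card (L.SM P) :=
  holt_bound h3lets.rep (ofNat_inj 21) base.1 base.2 h3H 1 h3L (show Nat.Prime 3 by norm_num)
    (by rw [card]; decide +kernel) (by decide +kernel) h3r h3l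

noncomputable def c3u0 : ℕ := (nat_lit 0x14161c890953570c26bc28324904c61004100)
noncomputable def c3u1 : ℕ := (nat_lit 0x1413388904cca38c0a109825b3c58a0220180)
noncomputable def c3u2 : ℕ := (nat_lit 0x14a4cc890912428c8e0d72f56886811518200)
noncomputable def c3u3 : ℕ := (nat_lit 0x14113c890649820c071c113553808d1624280)
noncomputable def c3u4 : ℕ := (nat_lit 0x109ab8a110ea252c934e1b20a047a6970a200)
noncomputable def c3u5 : ℕ := (nat_lit 0x1155208140b499cc46b55ce1f103a15288300)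
noncomputable def c3u6 : ℕ := (nat_lit 0x3227503051010683522a58f024480e1808380)
noncomputable def c3u7 : ℕ := (nat_lit 0x1329208a61eac6c79d104b2594212a0694001)
noncomputable def c3M : Mon := ⟨(nat_lit 21), (nat_lit 0), (nat_lit 5), (nat_lit 31), (nat_lit 7), (nat_lit 127), (nat_lit 3), (.node (nat_lit 4) (.node (nat_lit 2) (.node (nat_lit 1) (.leaf c3u0)
 (.leaf c3u1))
 (.node (nat_lit 3) (.leaf c3u2)
 (.leaf c3u3)))
 (.node (nat_lit 6) (.node (nat_lit 5) (.leaf c3u4)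
 (.leaf c3u5))
 (.node (nat_lit 7) (.leaf c3u6)
 (.leaf c3u7))))⟩
theorem c3r : RL.all c3M.relChk = true := by decide +kernel
theorem c3 : ∃ φ : L.SM P →* Multiplicative (ZMod 3 × ZMod 3),
    Multiplicative.ofAdd (((1 : ℕ) : ZMod 3), ((1 : ℕ) : ZMod 3)) ∈ φ.range := by
  haveI : NeZero c3M.q := ⟨by decide⟩
  obtain ⟨φ, h⟩ := cover_hom std c3M (by decide +kernel) c3r
  exact ⟨φ, h [nat_lit 1, nat_lit 2, nat_lit 3, nat_lit 6, nat_lit 7, nat_lit 5, nat_lit 2, nat_lit 7, nat_lit 0, nat_lit 1, nat_lit 4, nat_lit 3, nat_lit 5, nat_lit 4, nat_lit 2, nat_lit 5, nat_lit 0, nat_lit 6, nat_lit 2, nat_lit 6, nat_lit 2, nat_lit 6, nat_lit 2]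
    [nat_lit 6, nat_lit 3, nat_lit 4, nat_lit 6, nat_lit 3, nat_lit 4, nat_lit 0, nat_lit 0, nat_lit 1, nat_lit 1, nat_lit 2, nat_lit 2, nat_lit 2, nat_lit 2, nat_lit 2, nat_lit 2, nat_lit 5, nat_lit 5, nat_lit 5, nat_lit 6, nat_lit 6, nat_lit 7, nat_lit 7] 1 1 (by decide +kernel)⟩

noncomputable def c4u0 : ℕ := (nat_lit 0xf5996db6077da89e686c934dc4c31989b16ceed79bf5ce496bcfe125121a9d5a5944a43f34900cc64a995db656e1af589c563cf2764e280eb8d42a08f87039d42cd3ea15b06648af582bb5b1314c4657b7884832c3151e8968265ae702f9e4626a65988ee952b06164145427824231a9b04c0e160e81050240f0501e0001)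
noncomputable def c4u1 : ℕ := (nat_lit 0xb7990bc6cb5f70d3e36cd34986e745689260af9b6baea2c58bce5b23d219c40a59407e5227f56cc65a9f0cc3562bcf076c1652f78854288e78546228e07c3ad04cd4e199b68549250b057301215ca85226da8a261b14d03564b7880332f1b8e68c68ad4e8bc5d86028b2231f04c38441e020281f0800a50260b018000e02)
noncomputable def c4u2 : ℕ := (nat_lit 0xf7d94d1ec75f689f6da6f64dd4cef173c2e06ef8dbf626dfabccd8a174c9cc0eb4fca151b4d54ce64e44f393cbdeb0e75be6315e72d4297138e4a9c114823bd0ccc37a81b68348b0d78b65d93950ae23b4ce2674bb186e6b6fb2860413ba79ae894c95cba593094d6214531e05c0c461f87822090a00e192409074020e02)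
noncomputable def c4u3 : ℕ := (nat_lit 0x76196c6efb076abede73f9add4c36d70926b34ba39e622c7abb35ba092281ce25f49a2d0eef519a64a9ceec356e24e987c762ce4ae55dfef77d3825118843ccf6c633a71267f6d161285530ac154ae239cda66e5f3351e88210cd96dc29a8d36686aad830c25d1d49e485321024291a200483a17038085f0b0f044000e02)
noncomputable def c4u4 : ℕ := (nat_lit 0xb47bccbe376fa4b1eea6f9fd66c7217fb45e24b33b75dee73cb2eae5101a0522732eacc8b08ffcde0ea308c5551d31576392215c8f51298e07c3ca3104863d0e4c06ea7578c82d1a514b0279d9544452108fc801a2518ccc3c995a0335c35d40d94d921688c0a150ba18569b8383c48210102c0209870602800020281003)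
noncomputable def c4u5 : ℕ := (nat_lit 0x773a3d66472f61d56f73334dbe3761269ecc31182b8db6eb84b2692154690cb1f95281d56d14ecfdee935cbfd020cef8c431cf287456270f4703ce291c883e1a868399f910c84736d9a742f2e08cac529bda664480d0b6bc1926938855837c84c34006098c4280516a6254280741c4a1e05008100187e482a030002c1204)
noncomputable def c4u6 : ℕ := (nat_lit 0x333b0dbee35943c460721becbe7263a7ac68eab3488432d90ab24128b85bf52a9d50ae6ae30fbbc631e5178e3a64b3e945d2e168b13b1c13a7a4ba0120723f170db3d34d285d53aa178dd272195ac363948c0396722cb4925820092d4170a04c440f271928f10a8d687e34048789a1a020ec7036950c8180010008300605)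
noncomputable def c4u7 : ℕ := (nat_lit 0xb79b8ce5a29547c84e36b62aee925188a84822912ba4b211b083e6b295b86615f9aed5501f1a07a3c2e18c74602311cbe5e6a96cb238e993c9a4c9d92472409bad76c1b0c0c342321327b4e9515c802013568bf48a591a51632a0feb81c091a0221e338b81759a21443008298c874051285828381a818002c11838340206)
noncomputable def c4M : Mon := ⟨(nat_lit 112), (nat_lit 56), (nat_lit 7), (nat_lit 127), (nat_lit 9), (nat_lit 511), (nat_lit 4), (.node (nat_lit 4) (.node (nat_lit 2) (.node (nat_lit 1) (.leaf c4u0)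
 (.leaf c4u1))
 (.node (nat_lit 3) (.leaf c4u2)
 (.leaf c4u3)))
 (.node (nat_lit 6) (.node (nat_lit 5) (.leaf c4u4)
 (.leaf c4u5))
 (.node (nat_lit 7) (.leaf c4u6)
 (.leaf c4u7))))⟩
theorem c4r : RL.all c4M.relChk = true := by decide +kernel
theorem c4 : ∃ φ : L.SM P →* Multiplicative (ZMod 4 × ZMod 4),
    Multiplicative.ofAdd (((1 : ℕ) : ZMod 4), ((0 : ℕ) : ZMod 4)) ∈ φ.range ∧
    Multiplicative.ofAdd (((0 : ℕ) : ZMod 4), ((1 : ℕ) : ZMod 4)) ∈ φ.range := by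
  haveI : NeZero c4M.q := ⟨by decide⟩
  obtain ⟨φ, h⟩ := cover_hom std c4M (by decide +kernel) c4r
  exact ⟨φ, h [nat_lit 1, nat_lit 2, nat_lit 1, nat_lit 2, nat_lit 6, nat_lit 4, nat_lit 7, nat_lit 6, nat_lit 4, nat_lit 7, nat_lit 6, nat_lit 4, nat_lit 7, nat_lit 6, nat_lit 4, nat_lit 7, nat_lit 6, nat_lit 4, nat_lit 7]
    [nat_lit 1, nat_lit 1, nat_lit 2, nat_lit 2, nat_lit 6, nat_lit 7, nat_lit 4, nat_lit 6, nat_lit 7, nat_lit 4, nat_lit 6, nat_lit 7, nat_lit 4, nat_lit 6, nat_lit 7, nat_lit 4, nat_lit 6, nat_lit 7, nat_lit 4] 1 0 (by decide +kernel),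
    h [nat_lit 6, nat_lit 2, nat_lit 6, nat_lit 2, nat_lit 6, nat_lit 2, nat_lit 0, nat_lit 0, nat_lit 4, nat_lit 4, nat_lit 4, nat_lit 4, nat_lit 5]
    [nat_lit 0, nat_lit 2, nat_lit 4, nat_lit 0, nat_lit 5, nat_lit 6, nat_lit 4, nat_lit 6, nat_lit 4, nat_lit 6, nat_lit 4, nat_lit 2, nat_lit 2] 0 1 (by decide +kernel)⟩

theorem sm_dvd : Nat.card (L.SM P) ∣ 48 :=
  SM_dvd 48 [2, 3] 35 (sqfree_of_chk (by decide +kernel)) 6 (by simp only [List.mem_cons, List.not_mem_nil, or_false, forall_eq_or_imp, forall_eq]; norm_num)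
    (by rw [card]; decide +kernel) (by
      simp only [List.mem_cons, List.not_mem_nil, or_false, forall_eq_or_imp, forall_eq]
      exact ⟨⟨4, by norm_num, h2⟩, ⟨1, by norm_num, h3⟩⟩)
theorem mult : Cfsg.HasSchurMultiplier P (Multiplicative (ZMod 3 × ZMod 4 × ZMod 4)) := by
  obtain ⟨φ, h0⟩ := c3
  obtain ⟨ψ, h1, h2⟩ := c4
  exact hasSchur_prod φ h0 ψ (surj_sq ψ h1 h2) (by norm_num) sm_dvd

end H8.L34
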