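import Cfsg.Agent.H8.GM11

/-! H8.MM11: `mult`, the Schur multiplier of `P` (generated certificate) -/

set_option autoImplicit false
set_option maxRecDepth 200000

namespace H8.M11

noncomputable def h2t0 : ℕ := (nat_lit 0x59e65a8a267b88cba868b428d4c820)
noncomputable def h2t1 : ℕ := (nat_lit 0x9d6eab0cac3ada27d2507262432020)
noncomputable def h2t2 : ℕ := (nat_lit 0x3adc57c146acda3bc589b0a8444820)
noncomputable def h2t3 : ℕ := (nat_lit 0xb5e74a9a2273da83a86c5c8a44c020)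
noncomputable def h2t4 : ℕ := (nat_lit 0x3aec5ba5529d5a27d19070e2141880)
noncomputable def h2t5 : ℕ := (nat_lit 0x59e74742e47d4cc8d903508b24b420)
noncomputable def h2T_0 : Tr ℕ := (.node (nat_lit 3) (.node (nat_lit 1) (.leaf h2t0)
 (.node (nat_lit 2) (.leaf h2t1)
 (.leaf h2t2)))
 (.node (nat_lit 4) (.leaf h2t3)
 (.node (nat_lit 5) (.leaf h2t4)
 (.leaf h2t5))))
noncomputable def h2E_0 : Tr (List ℕ) := (.node (nat_lit 3) (.node (nat_lit 1) (.leaf [nat_lit 1, nat_lit 1, nat_lit 5, nat_lit 2, nat_lit 4, nat_lit 2])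
 (.node (nat_lit 2) (.leaf [nat_lit 5, nat_lit 0])
 (.leaf [nat_lit 3, nat_lit 1, nat_lit 5, nat_lit 1, nat_lit 1, nat_lit 4, nat_lit 0])))
 (.node (nat_lit 4) (.leaf [nat_lit 1, nat_lit 1, nat_lit 5, nat_lit 1, nat_lit 1])
 (.node (nat_lit 5) (.leaf [nat_lit 3, nat_lit 1, nat_lit 6, nat_lit 5, nat_lit 1, nat_lit 4, nat_lit 2, nat_lit 1])
 (.leaf [nat_lit 1, nat_lit 1, nat_lit 5, nat_lit 2, nat_lit 1, nat_lit 4, nat_lit 3, nat_lit 1]))))
noncomputable def h2T : Tr ℕ := h2T_0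
noncomputable def h2E : Tr (List ℕ) := h2E_0
theorem h2w_0 : h2T_0.all2 (fun c w => isProd 24 (nat_lit 5) (nat_lit 31) T c w) h2E_0 = true := by decide +kernel
theorem h2lets : Lets P 24 (nat_lit 5) (nat_lit 31) (Fin.ofNat 24) h2T := lets_words lets h2E h2w_0
noncomputable def h2W : Tr (List ℕ) := (.node (nat_lit 8) (.node (nat_lit 4) (.node (nat_lit 2) (.node (nat_lit 1) (.leaf [])
 (.leaf []))
 (.node (nat_lit 3) (.leaf [])
 (.leaf [])))
 (.node (nat_lit 6) (.node (nat_lit 5) (.leaf [nat_lit 1, nat_lit 2, nat_lit 3])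
 (.leaf [nat_lit 3]))
 (.node (nat_lit 7) (.leaf [])
 (.leaf []))))
 (.node (nat_lit 12) (.node (nat_lit 10) (.node (nat_lit 9) (.leaf [nat_lit 2, nat_lit 3])
 (.leaf [nat_lit 2, nat_lit 3]))
 (.node (nat_lit 11) (.leaf [nat_lit 3])
 (.leaf [])))
 (.node (nat_lit 14) (.node (nat_lit 13) (.leaf [nat_lit 3])
 (.leaf [nat_lit 3]))
 (.node (nat_lit 15) (.leaf [nat_lit 3])
 (.leaf [])))))
noncomputable def h2F : Tr (ℕ × List ℕ × List ℕ) := (.node (nat_lit 2) (.node (nat_lit 1) (.leaf ((nat_lit 4), [nat_lit 1], [nat_lit 2, nat_lit 3]))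
 (.leaf ((nat_lit 4), [nat_lit 2], [nat_lit 1])))
 (.node (nat_lit 3) (.leaf ((nat_lit 4), [nat_lit 3], [nat_lit 3]))
 (.node (nat_lit 4) (.leaf ((nat_lit 5), [nat_lit 0, nat_lit 2], [nat_lit 3]))
 (.leaf ((nat_lit 5), [nat_lit 3], [nat_lit 0, nat_lit 2, nat_lit 3])))))
noncomputable def h2A : List (List ℕ × ℕ × ℕ) := [([nat_lit 1], (nat_lit 1), (nat_lit 1)),
  ([nat_lit 2], (nat_lit 2), (nat_lit 2)),
  ([nat_lit 2], (nat_lit 2), (nat_lit 0)),
  ([nat_lit 2], (nat_lit 2), (nat_lit 1)),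
  ([nat_lit 1], (nat_lit 0), (nat_lit 0)),
  ([nat_lit 1], (nat_lit 1), (nat_lit 0))]
noncomputable def h2B : List (ℕ × List ℕ × List ℕ) := [((nat_lit 4), [nat_lit 1, nat_lit 1], [nat_lit 2]),
  ((nat_lit 4), [nat_lit 1, nat_lit 0], [nat_lit 0, nat_lit 1, nat_lit 2]),
  ((nat_lit 5), [nat_lit 3, nat_lit 3], [])]
noncomputable def h2X : Tr ℕ := (.node (nat_lit 2) (.node (nat_lit 1) (.leaf (nat_lit 0x0))
 (.leaf (nat_lit 0x0)))
 (.node (nat_lit 3) (.leaf (nat_lit 0x10100000000))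
 (.leaf (nat_lit 0x10000000000))))
noncomputable def h2D : Tr ℕ := (.node (nat_lit 8) (.node (nat_lit 4) (.node (nat_lit 2) (.node (nat_lit 1) (.leaf (nat_lit 0x0))
 (.leaf (nat_lit 0x0)))
 (.node (nat_lit 3) (.leaf (nat_lit 0x0))
 (.leaf (nat_lit 0x0))))
 (.node (nat_lit 6) (.node (nat_lit 5) (.leaf (nat_lit 0x0))
 (.leaf (nat_lit 0x0)))
 (.node (nat_lit 7) (.leaf (nat_lit 0x0))
 (.leaf (nat_lit 0x0)))))
 (.node (nat_lit 12) (.node (nat_lit 10) (.node (nat_lit 9) (.leaf (nat_lit 0x0))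
 (.leaf (nat_lit 0x0)))
 (.node (nat_lit 11) (.leaf (nat_lit 0x0))
 (.leaf (nat_lit 0x0))))
 (.node (nat_lit 14) (.node (nat_lit 13) (.leaf (nat_lit 0x0))
 (.leaf (nat_lit 0x0)))
 (.node (nat_lit 15) (.leaf (nat_lit 0x0))
 (.leaf (nat_lit 0x0))))))
noncomputable def h2Y : Tr ℕ := (.node (nat_lit 8) (.node (nat_lit 4) (.node (nat_lit 2) (.node (nat_lit 1) (.leaf (nat_lit 0x10000000101010001))
 (.leaf (nat_lit 0x0)))
 (.node (nat_lit 3) (.leaf (nat_lit 0x0))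
 (.leaf (nat_lit 0x0))))
 (.node (nat_lit 6) (.node (nat_lit 5) (.leaf (nat_lit 0x0))
 (.leaf (nat_lit 0x0)))
 (.node (nat_lit 7) (.leaf (nat_lit 0x0))
 (.leaf (nat_lit 0x0)))))
 (.node (nat_lit 12) (.node (nat_lit 10) (.node (nat_lit 9) (.leaf (nat_lit 0x101000100010001))
 (.leaf (nat_lit 0x101010000010100)))
 (.node (nat_lit 11) (.leaf (nat_lit 0x101000001000100))
 (.leaf (nat_lit 0x0))))
 (.node (nat_lit 14) (.node (nat_lit 13) (.leaf (nat_lit 0x1010001))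
 (.leaf (nat_lit 0x1)))
 (.node (nat_lit 15) (.leaf (nat_lit 0x100))
 (.leaf (nat_lit 0x1000101))))))
noncomputable def h2H : Holt := ⟨(nat_lit 2), (nat_lit 2), (nat_lit 4), (nat_lit 21), (nat_lit 21), h2W, (nat_lit 5), h2F, h2A, h2B, h2X, [], h2D, h2Y⟩
noncomputable def h2L : List (ℕ × List (List ℕ)) := [((nat_lit 4), [[nat_lit 0]]),
  ((nat_lit 5), [[nat_lit 1], [nat_lit 2]]),
  ((nat_lit 2), [[nat_lit 3]])]
theorem h2r : h2H.relChk (weqOn (nat_lit 5) (nat_lit 31) h2T B) = true := by decide +kernel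
theorem h2l : h2H.linChk = true := by decide +kernel
theorem h2 : ¬ 2 ^ (0 + 1) ∣ Nat.card (L.SM P) :=
  holt_bound h2lets.rep (ofNat_inj 24) base.1 base.2 h2H 0 h2L (show Nat.Prime 2 by norm_num)
    (by rw [card]; decide +kernel) (by decide +kernel) h2r h2l

noncomputable def h3t0 : ℕ := (nat_lit 0xb2eb42b4e99b870bc584521e690820)
noncomputable def h3t1 : ℕ := (nat_lit 0xbda8e7a0ed2d4925c46c5267030820)
noncomputable def h3t2 : ℕ := (nat_lit 0x2bdd4b914c5d4c999e1288ecd40440)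
noncomputable def h3t3 : ℕ := (nat_lit 0x5daae7b0e39d132ba9a8890a680820)
noncomputable def h3T_0 : Tr ℕ := (.node (nat_lit 2) (.node (nat_lit 1) (.leaf h3t0)
 (.leaf h3t1))
 (.node (nat_lit 3) (.leaf h3t2)
 (.leaf h3t3)))
noncomputable def h3E_0 : Tr (List ℕ) := (.node (nat_lit 2) (.node (nat_lit 1) (.leaf [nat_lit 1, nat_lit 5, nat_lit 1, nat_lit 4, nat_lit 3])
 (.leaf [nat_lit 5, nat_lit 1, nat_lit 4, nat_lit 3, nat_lit 1]))
 (.node (nat_lit 3) (.leaf [nat_lit 5, nat_lit 3, nat_lit 6, nat_lit 2, nat_lit 1, nat_lit 5, nat_lit 0, nat_lit 4, nat_lit 1])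
 (.leaf [nat_lit 2, nat_lit 1, nat_lit 5, nat_lit 1, nat_lit 4])))
noncomputable def h3T : Tr ℕ := h3T_0
noncomputable def h3E : Tr (List ℕ) := h3E_0
theorem h3w_0 : h3T_0.all2 (fun c w => isProd 24 (nat_lit 5) (nat_lit 31) T c w) h3E_0 = true := by decide +kernel
theorem h3lets : Lets P 24 (nat_lit 5) (nat_lit 31) (Fin.ofNat 24) h3T := lets_words lets h3E h3w_0
noncomputable def h3W : Tr (List ℕ) := (.node (nat_lit 2) (.node (nat_lit 1) (.leaf [])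
 (.leaf []))
 (.node (nat_lit 3) (.leaf [nat_lit 1])
 (.leaf [])))
noncomputable def h3F : Tr (ℕ × List ℕ × List ℕ) := (.node (nat_lit 2) (.node (nat_lit 1) (.leaf ((nat_lit 2), [nat_lit 0], [nat_lit 0]))
 (.leaf ((nat_lit 2), [nat_lit 1], [nat_lit 0, nat_lit 0, nat_lit 1, nat_lit 1])))
 (.node (nat_lit 3) (.leaf ((nat_lit 3), [nat_lit 0], [nat_lit 0, nat_lit 0]))
 (.leaf ((nat_lit 3), [nat_lit 1], [nat_lit 1, nat_lit 1]))))
noncomputable def h3A : List (List ℕ × ℕ × ℕ) := []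
noncomputable def h3B : List (ℕ × List ℕ × List ℕ) := [((nat_lit 2), [nat_lit 1, nat_lit 0], [nat_lit 0, nat_lit 1]),
  ((nat_lit 2), [nat_lit 1, nat_lit 1, nat_lit 1], []),
  ((nat_lit 3), [nat_lit 2, nat_lit 2, nat_lit 2], [])]
noncomputable def h3X : Tr ℕ := (.node (nat_lit 1) (.leaf (nat_lit 0x0))
 (.leaf (nat_lit 0x0)))
noncomputable def h3D : Tr ℕ := (.node (nat_lit 2) (.node (nat_lit 1) (.leaf (nat_lit 0x0))
 (.leaf (nat_lit 0x0)))
 (.node (nat_lit 3) (.leaf (nat_lit 0x0))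
 (.leaf (nat_lit 0x0))))
noncomputable def h3Y : Tr ℕ := (.node (nat_lit 2) (.node (nat_lit 1) (.leaf (nat_lit 0x10000))
 (.leaf (nat_lit 0x0)))
 (.node (nat_lit 3) (.leaf (nat_lit 0x1))
 (.leaf (nat_lit 0x10100))))
noncomputable def h3H : Holt := ⟨(nat_lit 3), (nat_lit 3), (nat_lit 2), (nat_lit 8), (nat_lit 25), h3W, (nat_lit 4), h3F, h3A, h3B, h3X, [], h3D, h3Y⟩
noncomputable def h3L : List (ℕ × List (List ℕ)) := [((nat_lit 5), [[nat_lit 1]]),
  ((nat_lit 3), [[nat_lit 0, nat_lit 1]])]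
theorem h3r : h3H.relChk (weqOn (nat_lit 5) (nat_lit 31) h3T B) = true := by decide +kernel
theorem h3l : h3H.linChk = true := by decide +kernel
theorem h3 : ¬ 3 ^ (0 + 1) ∣ Nat.card (L.SM P) :=
  holt_bound h3lets.rep (ofNat_inj 24) base.1 base.2 h3H 0 h3L (show Nat.Prime 3 by norm_num)
    (by rw [card]; decide +kernel) (by decide +kernel) h3r h3l

theorem sm_dvd : Nat.card (L.SM P) ∣ 1 :=
  SM_dvd 1 [2, 3] 55 (sqfree_of_chk (by decide +kernel)) 4 (by simp only [List.mem_cons, List.not_mem_nil, or_false, forall_eq_or_imp, forall_eq]; norm_num)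
    (by rw [card]; decide +kernel) (by
      simp only [List.mem_cons, List.not_mem_nil, or_false, forall_eq_or_imp, forall_eq]
      exact ⟨⟨0, by norm_num, h2⟩, ⟨0, by norm_num, h3⟩⟩)
theorem mult : Cfsg.HasCyclicSchurMultiplier P 1 := by
  exact hasCyclic_of_exp (by norm_num) sm_dvd (one_dvd _)

end H8.M11
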