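import Cfsg.Agent.H8.GM12

/-! H8.MM12: `mult`, the Schur multiplier of `P` (generated certificate) -/

set_option autoImplicit false
set_option maxRecDepth 200000

namespace H8.M12

noncomputable def h2t0 : ℕ := (nat_lit 0x2beb498ce6b28045b9288c2ec9082d)
noncomputable def h2t1 : ℕ := (nat_lit 0x3adea708a6acc09b5183bc2214488d)
noncomputable def h2t2 : ℕ := (nat_lit 0x72de728d49adc20b4602a1266921ac)
noncomputable def h2t3 : ℕ := (nat_lit 0xbbd73a0e30b29a4ab822398ac92120)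
noncomputable def h2t4 : ℕ := (nat_lit 0x3bd6e548a6b4c01ad1888b6e918890)
noncomputable def h2t5 : ℕ := (nat_lit 0x8dab3a4aed7aa045b828280ec18926)
noncomputable def h2t6 : ℕ := (nat_lit 0x2bece520e65c409ade1299281189ac)
noncomputable def h2t7 : ℕ := (nat_lit 0x51ef67c1cc2ac928d506a266368041)
noncomputable def h2T_0 : Tr ℕ := (.node (nat_lit 4) (.node (nat_lit 2) (.node (nat_lit 1) (.leaf h2t0)
 (.leaf h2t1))
 (.node (nat_lit 3) (.leaf h2t2)
 (.leaf h2t3)))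
 (.node (nat_lit 6) (.node (nat_lit 5) (.leaf h2t4)
 (.leaf h2t5))
 (.node (nat_lit 7) (.leaf h2t6)
 (.leaf h2t7))))
noncomputable def h2E_0 : Tr (List ℕ) := (.node (nat_lit 4) (.node (nat_lit 2) (.node (nat_lit 1) (.leaf [nat_lit 1, nat_lit 1, nat_lit 7, nat_lit 3, nat_lit 5, nat_lit 4, nat_lit 2, nat_lit 1])
 (.leaf [nat_lit 1, nat_lit 1, nat_lit 7, nat_lit 3, nat_lit 6, nat_lit 2, nat_lit 1, nat_lit 5, nat_lit 4, nat_lit 0]))
 (.node (nat_lit 3) (.leaf [nat_lit 1, nat_lit 7, nat_lit 3, nat_lit 6, nat_lit 4, nat_lit 3, nat_lit 5, nat_lit 2, nat_lit 4, nat_lit 2, nat_lit 1])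
 (.leaf [nat_lit 2, nat_lit 6, nat_lit 1, nat_lit 1, nat_lit 5, nat_lit 3, nat_lit 4, nat_lit 3, nat_lit 1])))
 (.node (nat_lit 6) (.node (nat_lit 5) (.leaf [nat_lit 2, nat_lit 7, nat_lit 1, nat_lit 1, nat_lit 6, nat_lit 4, nat_lit 3, nat_lit 5, nat_lit 3, nat_lit 1, nat_lit 4, nat_lit 3, nat_lit 1])
 (.leaf [nat_lit 2, nat_lit 1, nat_lit 7, nat_lit 3, nat_lit 1, nat_lit 6, nat_lit 1, nat_lit 5, nat_lit 4, nat_lit 3]))
 (.node (nat_lit 7) (.leaf [nat_lit 1, nat_lit 7, nat_lit 3, nat_lit 6, nat_lit 5, nat_lit 1, nat_lit 1, nat_lit 4, nat_lit 3])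
 (.leaf [nat_lit 6, nat_lit 0, nat_lit 7, nat_lit 6, nat_lit 2, nat_lit 1, nat_lit 5, nat_lit 1, nat_lit 1, nat_lit 4, nat_lit 3]))))
noncomputable def h2T : Tr ℕ := h2T_0
noncomputable def h2E : Tr (List ℕ) := h2E_0
theorem h2w_0 : h2T_0.all2 (fun c w => isProd 24 (nat_lit 5) (nat_lit 31) T c w) h2E_0 = true := by decide +kernel
theorem h2lets : Lets P 24 (nat_lit 5) (nat_lit 31) (Fin.ofNat 24) h2T := lets_words lets h2E h2w_0
noncomputable def h2W : Tr (List ℕ) := (.node (nat_lit 18) (.node (nat_lit 9) (.node (nat_lit 4) (.node (nat_lit 2) (.node (nat_lit 1) (.leaf [])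
 (.leaf []))
 (.node (nat_lit 3) (.leaf [])
 (.leaf [])))
 (.node (nat_lit 6) (.node (nat_lit 5) (.leaf [])
 (.leaf []))
 (.node (nat_lit 7) (.leaf [nat_lit 1, nat_lit 3])
 (.node (nat_lit 8) (.leaf [])
 (.leaf [])))))
 (.node (nat_lit 13) (.node (nat_lit 11) (.node (nat_lit 10) (.leaf [])
 (.leaf []))
 (.node (nat_lit 12) (.leaf [])
 (.leaf [nat_lit 2, nat_lit 4, nat_lit 5])))
 (.node (nat_lit 15) (.node (nat_lit 14) (.leaf [nat_lit 2, nat_lit 5])
 (.leaf []))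
 (.node (nat_lit 16) (.leaf [])
 (.node (nat_lit 17) (.leaf [])
 (.leaf []))))))
 (.node (nat_lit 27) (.node (nat_lit 22) (.node (nat_lit 20) (.node (nat_lit 19) (.leaf [nat_lit 3])
 (.leaf [nat_lit 3]))
 (.node (nat_lit 21) (.leaf [nat_lit 3, nat_lit 5])
 (.leaf [])))
 (.node (nat_lit 24) (.node (nat_lit 23) (.leaf [])
 (.leaf []))
 (.node (nat_lit 25) (.leaf [nat_lit 4, nat_lit 5])
 (.node (nat_lit 26) (.leaf [nat_lit 4, nat_lit 5])
 (.leaf [nat_lit 4, nat_lit 5])))))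
 (.node (nat_lit 31) (.node (nat_lit 29) (.node (nat_lit 28) (.leaf [nat_lit 4])
 (.leaf [nat_lit 5]))
 (.node (nat_lit 30) (.leaf [])
 (.leaf [nat_lit 5])))
 (.node (nat_lit 33) (.node (nat_lit 32) (.leaf [nat_lit 5])
 (.leaf [nat_lit 5]))
 (.node (nat_lit 34) (.leaf [nat_lit 5])
 (.node (nat_lit 35) (.leaf [nat_lit 5])
 (.leaf [])))))))
noncomputable def h2F : Tr (ℕ × List ℕ × List ℕ) := (.node (nat_lit 5) (.node (nat_lit 2) (.node (nat_lit 1) (.leaf ((nat_lit 6), [nat_lit 1], [nat_lit 2]))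
 (.leaf ((nat_lit 6), [nat_lit 2], [nat_lit 1])))
 (.node (nat_lit 3) (.leaf ((nat_lit 6), [nat_lit 3], [nat_lit 1, nat_lit 4, nat_lit 5]))
 (.node (nat_lit 4) (.leaf ((nat_lit 6), [nat_lit 4], [nat_lit 2, nat_lit 3]))
 (.leaf ((nat_lit 6), [nat_lit 5], [nat_lit 5])))))
 (.node (nat_lit 7) (.node (nat_lit 6) (.leaf ((nat_lit 7), [nat_lit 0], [nat_lit 0, nat_lit 4, nat_lit 5]))
 (.leaf ((nat_lit 7), [nat_lit 1], [nat_lit 1, nat_lit 3, nat_lit 5])))
 (.node (nat_lit 8) (.leaf ((nat_lit 7), [nat_lit 3], [nat_lit 3, nat_lit 5]))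
 (.node (nat_lit 9) (.leaf ((nat_lit 7), [nat_lit 4], [nat_lit 0, nat_lit 1]))
 (.leaf ((nat_lit 7), [nat_lit 5], [nat_lit 3]))))))
noncomputable def h2A : List (List ℕ × ℕ × ℕ) := [([nat_lit 4], (nat_lit 4), (nat_lit 3)),
  ([nat_lit 4], (nat_lit 4), (nat_lit 4)),
  ([nat_lit 1], (nat_lit 1), (nat_lit 0)),
  ([nat_lit 2], (nat_lit 2), (nat_lit 1)),
  ([nat_lit 3], (nat_lit 3), (nat_lit 2)),
  ([nat_lit 4], (nat_lit 4), (nat_lit 0)),
  ([nat_lit 4], (nat_lit 4), (nat_lit 1)),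
  ([nat_lit 1], (nat_lit 0), (nat_lit 0)),
  ([nat_lit 3], (nat_lit 2), (nat_lit 2)),
  ([nat_lit 4], (nat_lit 1), (nat_lit 0)),
  ([nat_lit 2], (nat_lit 2), (nat_lit 0)),
  ([nat_lit 2], (nat_lit 0), (nat_lit 0)),
  ([nat_lit 2], (nat_lit 1), (nat_lit 0))]
noncomputable def h2B : List (ℕ × List ℕ × List ℕ) := [((nat_lit 6), [nat_lit 0, nat_lit 0], []),
  ((nat_lit 6), [nat_lit 1, nat_lit 0], [nat_lit 0, nat_lit 1, nat_lit 4]),
  ((nat_lit 6), [nat_lit 2, nat_lit 0], [nat_lit 0, nat_lit 2]),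
  ((nat_lit 6), [nat_lit 3, nat_lit 3], [nat_lit 4]),
  ((nat_lit 6), [nat_lit 2, nat_lit 2], []),
  ((nat_lit 7), [nat_lit 9, nat_lit 9], []),
  ((nat_lit 7), [nat_lit 9, nat_lit 6], [nat_lit 6, nat_lit 9]),
  ((nat_lit 7), [nat_lit 8, nat_lit 8], [nat_lit 9]),
  ((nat_lit 7), [nat_lit 8, nat_lit 6], [nat_lit 6, nat_lit 8, nat_lit 9])]
noncomputable def h2X : Tr ℕ := (.node (nat_lit 3) (.node (nat_lit 1) (.leaf (nat_lit 0x30000000000030000030003000003000300000003000003030300000000000000000000000003000000000003))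
 (.node (nat_lit 2) (.leaf (nat_lit 0x30000030000000000000000030303000003030300000000000003000000000003000000000000))
 (.leaf (nat_lit 0x30003030000000000000000030303000003030300000000000003000000000003000000000000))))
 (.node (nat_lit 4) (.leaf (nat_lit 0x1000000000000))
 (.node (nat_lit 5) (.leaf (nat_lit 0x301000000000000000000000000))
 (.leaf (nat_lit 0x100000000000000000000000000)))))
noncomputable def h2D : Tr ℕ := (.node (nat_lit 18) (.node (nat_lit 9) (.node (nat_lit 4) (.node (nat_lit 2) (.node (nat_lit 1) (.leaf (nat_lit 0x0))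
 (.leaf (nat_lit 0x0)))
 (.node (nat_lit 3) (.leaf (nat_lit 0x0))
 (.leaf (nat_lit 0x0))))
 (.node (nat_lit 6) (.node (nat_lit 5) (.leaf (nat_lit 0x0))
 (.leaf (nat_lit 0x0)))
 (.node (nat_lit 7) (.leaf (nat_lit 0x0))
 (.node (nat_lit 8) (.leaf (nat_lit 0x1))
 (.leaf (nat_lit 0x0))))))
 (.node (nat_lit 13) (.node (nat_lit 11) (.node (nat_lit 10) (.leaf (nat_lit 0x0))
 (.leaf (nat_lit 0x0)))
 (.node (nat_lit 12) (.leaf (nat_lit 0x0))
 (.leaf (nat_lit 0x0))))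
 (.node (nat_lit 15) (.node (nat_lit 14) (.leaf (nat_lit 0x0))
 (.leaf (nat_lit 0x1)))
 (.node (nat_lit 16) (.leaf (nat_lit 0x0))
 (.node (nat_lit 17) (.leaf (nat_lit 0x0))
 (.leaf (nat_lit 0x0)))))))
 (.node (nat_lit 27) (.node (nat_lit 22) (.node (nat_lit 20) (.node (nat_lit 19) (.leaf (nat_lit 0x0))
 (.leaf (nat_lit 0x0)))
 (.node (nat_lit 21) (.leaf (nat_lit 0x1))
 (.leaf (nat_lit 0x0))))
 (.node (nat_lit 24) (.node (nat_lit 23) (.leaf (nat_lit 0x0))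
 (.leaf (nat_lit 0x0)))
 (.node (nat_lit 25) (.leaf (nat_lit 0x0))
 (.node (nat_lit 26) (.leaf (nat_lit 0x1))
 (.leaf (nat_lit 0x0))))))
 (.node (nat_lit 31) (.node (nat_lit 29) (.node (nat_lit 28) (.leaf (nat_lit 0x0))
 (.leaf (nat_lit 0x0)))
 (.node (nat_lit 30) (.leaf (nat_lit 0x0))
 (.leaf (nat_lit 0x0))))
 (.node (nat_lit 33) (.node (nat_lit 32) (.leaf (nat_lit 0x0))
 (.leaf (nat_lit 0x0)))
 (.node (nat_lit 34) (.leaf (nat_lit 0x0))
 (.node (nat_lit 35) (.leaf (nat_lit 0x0))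
 (.leaf (nat_lit 0x0))))))))
noncomputable def h2Y : Tr ℕ := (.node (nat_lit 18) (.node (nat_lit 9) (.node (nat_lit 4) (.node (nat_lit 2) (.node (nat_lit 1) (.leaf (nat_lit 0x3030303030200020202000000000103010100000001))
 (.leaf (nat_lit 0x0)))
 (.node (nat_lit 3) (.leaf (nat_lit 0x0))
 (.leaf (nat_lit 0x0))))
 (.node (nat_lit 6) (.node (nat_lit 5) (.leaf (nat_lit 0x0))
 (.leaf (nat_lit 0x0)))
 (.node (nat_lit 7) (.leaf (nat_lit 0x0))
 (.node (nat_lit 8) (.leaf (nat_lit 0x30201020201020103010003020103030200))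
 (.leaf (nat_lit 0x0))))))
 (.node (nat_lit 13) (.node (nat_lit 11) (.node (nat_lit 10) (.leaf (nat_lit 0x0))
 (.leaf (nat_lit 0x0)))
 (.node (nat_lit 12) (.leaf (nat_lit 0x0))
 (.leaf (nat_lit 0x0))))
 (.node (nat_lit 15) (.node (nat_lit 14) (.leaf (nat_lit 0x0))
 (.leaf (nat_lit 0x30201020301020103010003020103030200)))
 (.node (nat_lit 16) (.leaf (nat_lit 0x0))
 (.node (nat_lit 17) (.leaf (nat_lit 0x0))
 (.leaf (nat_lit 0x0)))))))
 (.node (nat_lit 27) (.node (nat_lit 22) (.node (nat_lit 20) (.node (nat_lit 19) (.leaf (nat_lit 0x100000000000002000002000303000100030302))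
 (.leaf (nat_lit 0x100000000000002000002000003000100000302)))
 (.node (nat_lit 21) (.leaf (nat_lit 0x0))
 (.leaf (nat_lit 0x300000000000002000002000001000300010102))))
 (.node (nat_lit 24) (.node (nat_lit 23) (.leaf (nat_lit 0x0))
 (.leaf (nat_lit 0x0)))
 (.node (nat_lit 25) (.leaf (nat_lit 0x300000003000002010100030003010003000003))
 (.node (nat_lit 26) (.leaf (nat_lit 0x1000001000002020000000001))
 (.leaf (nat_lit 0x100000001000002000000030001020202000203))))))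
 (.node (nat_lit 31) (.node (nat_lit 29) (.node (nat_lit 28) (.leaf (nat_lit 0x200000002000002020203030003010003000000))
 (.leaf (nat_lit 0x300000003000002000102000001000100000200)))
 (.node (nat_lit 30) (.leaf (nat_lit 0x0))
 (.leaf (nat_lit 0x200000002000000020202030000030103000303))))
 (.node (nat_lit 33) (.node (nat_lit 32) (.leaf (nat_lit 0x2000000000001020100000303))
 (.leaf (nat_lit 0x2030002020300000003)))
 (.node (nat_lit 34) (.leaf (nat_lit 0x2000002020000000003))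
 (.node (nat_lit 35) (.leaf (nat_lit 0x300))
 (.leaf (nat_lit 0x2030002020103000001))))))))
noncomputable def h2H : Holt := ⟨(nat_lit 2), (nat_lit 4), (nat_lit 6), (nat_lit 46), (nat_lit 23), h2W, (nat_lit 10), h2F, h2A, h2B, h2X, [((nat_lit 2), (nat_lit 0x10000000000000300000000000000000000000000), (nat_lit 0x30000000003000000))], h2D, h2Y⟩
noncomputable def h2L : List (ℕ × List (List ℕ)) := [((nat_lit 2), [[nat_lit 1], [nat_lit 3]]),
  ((nat_lit 3), [[nat_lit 0]]),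
  ((nat_lit 11), [[nat_lit 2, nat_lit 3, nat_lit 5], [nat_lit 4]]),
  ((nat_lit 0), [[nat_lit 5]])]
theorem h2r : h2H.relChk (weqOn (nat_lit 5) (nat_lit 31) h2T B) = true := by decide +kernel
theorem h2l : h2H.linChk = true := by decide +kernel
theorem h2 : ¬ 2 ^ (1 + 1) ∣ Nat.card (L.SM P) :=
  holt_bound h2lets.rep (ofNat_inj 24) base.1 base.2 h2H 1 h2L (show Nat.Prime 2 by norm_num)
    (by rw [card]; decide +kernel) (by decide +kernel) h2r h2l

noncomputable def h3t0 : ℕ := (nat_lit 0xbd69688dd07cd8051d28588b2204cd)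
noncomputable def h3t1 : ℕ := (nat_lit 0x2d55138dc2bd1309d826581f2231a8)
noncomputable def h3t2 : ℕ := (nat_lit 0xbc5d3548e97ac0dad110b08a4184cc)
noncomputable def h3t3 : ℕ := (nat_lit 0x2d1c7b4a617ac0dac4c2542e32250c)
noncomputable def h3T_0 : Tr ℕ := (.node (nat_lit 2) (.node (nat_lit 1) (.leaf h3t0)
 (.leaf h3t1))
 (.node (nat_lit 3) (.leaf h3t2)
 (.leaf h3t3)))
noncomputable def h3E_0 : Tr (List ℕ) := (.node (nat_lit 2) (.node (nat_lit 1) (.leaf [nat_lit 1, nat_lit 1, nat_lit 7, nat_lit 2, nat_lit 6, nat_lit 3, nat_lit 5, nat_lit 0, nat_lit 4, nat_lit 1, nat_lit 1])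
 (.leaf [nat_lit 3, nat_lit 7, nat_lit 0, nat_lit 6, nat_lit 1, nat_lit 1, nat_lit 5, nat_lit 3, nat_lit 4, nat_lit 3, nat_lit 1]))
 (.node (nat_lit 3) (.leaf [nat_lit 1, nat_lit 7, nat_lit 0, nat_lit 6, nat_lit 3, nat_lit 5, nat_lit 3, nat_lit 1, nat_lit 4, nat_lit 3])
 (.leaf [nat_lit 1, nat_lit 7, nat_lit 2, nat_lit 6, nat_lit 2, nat_lit 1, nat_lit 5, nat_lit 4, nat_lit 2])))
noncomputable def h3T : Tr ℕ := h3T_0
noncomputable def h3E : Tr (List ℕ) := h3E_0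
theorem h3w_0 : h3T_0.all2 (fun c w => isProd 24 (nat_lit 5) (nat_lit 31) T c w) h3E_0 = true := by decide +kernel
theorem h3lets : Lets P 24 (nat_lit 5) (nat_lit 31) (Fin.ofNat 24) h3T := lets_words lets h3E h3w_0
noncomputable def h3W : Tr (List ℕ) := (.node (nat_lit 4) (.node (nat_lit 2) (.node (nat_lit 1) (.leaf [])
 (.leaf []))
 (.node (nat_lit 3) (.leaf [])
 (.leaf [nat_lit 1, nat_lit 2, nat_lit 2])))
 (.node (nat_lit 6) (.node (nat_lit 5) (.leaf [])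
 (.leaf []))
 (.node (nat_lit 7) (.leaf [nat_lit 2])
 (.node (nat_lit 8) (.leaf [nat_lit 2])
 (.leaf [])))))
noncomputable def h3F : Tr (ℕ × List ℕ × List ℕ) := (.node (nat_lit 1) (.leaf ((nat_lit 3), [nat_lit 0], [nat_lit 0, nat_lit 0, nat_lit 2]))
 (.node (nat_lit 2) (.leaf ((nat_lit 3), [nat_lit 1], [nat_lit 1, nat_lit 1]))
 (.leaf ((nat_lit 3), [nat_lit 2], [nat_lit 2]))))
noncomputable def h3A : List (List ℕ × ℕ × ℕ) := [([nat_lit 1, nat_lit 1], (nat_lit 1), (nat_lit 0))]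
noncomputable def h3B : List (ℕ × List ℕ × List ℕ) := [((nat_lit 3), [nat_lit 1, nat_lit 1, nat_lit 1], []),
  ((nat_lit 3), [nat_lit 2, nat_lit 1], [nat_lit 1, nat_lit 2]),
  ((nat_lit 3), [nat_lit 2, nat_lit 0], [nat_lit 0, nat_lit 2]),
  ((nat_lit 3), [nat_lit 0, nat_lit 0, nat_lit 0], [])]
noncomputable def h3X : Tr ℕ := (.node (nat_lit 1) (.leaf (nat_lit 0x0))
 (.node (nat_lit 2) (.leaf (nat_lit 0x0))
 (.leaf (nat_lit 0x2000000))))
noncomputable def h3D : Tr ℕ := (.node (nat_lit 4) (.node (nat_lit 2) (.node (nat_lit 1) (.leaf (nat_lit 0x0))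
 (.leaf (nat_lit 0x0)))
 (.node (nat_lit 3) (.leaf (nat_lit 0x0))
 (.leaf (nat_lit 0x0))))
 (.node (nat_lit 6) (.node (nat_lit 5) (.leaf (nat_lit 0x0))
 (.leaf (nat_lit 0x0)))
 (.node (nat_lit 7) (.leaf (nat_lit 0x0))
 (.node (nat_lit 8) (.leaf (nat_lit 0x0))
 (.leaf (nat_lit 0x0))))))
noncomputable def h3Y : Tr ℕ := (.node (nat_lit 4) (.node (nat_lit 2) (.node (nat_lit 1) (.leaf (nat_lit 0x100000001))
 (.leaf (nat_lit 0x0)))
 (.node (nat_lit 3) (.leaf (nat_lit 0x0))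
 (.leaf (nat_lit 0x0))))
 (.node (nat_lit 6) (.node (nat_lit 5) (.leaf (nat_lit 0x100))
 (.leaf (nat_lit 0x0)))
 (.node (nat_lit 7) (.leaf (nat_lit 0x1000000))
 (.node (nat_lit 8) (.leaf (nat_lit 0x10000))
 (.leaf (nat_lit 0x2))))))
noncomputable def h3H : Holt := ⟨(nat_lit 3), (nat_lit 3), (nat_lit 3), (nat_lit 12), (nat_lit 22), h3W, (nat_lit 3), h3F, h3A, h3B, h3X, [], h3D, h3Y⟩
noncomputable def h3L : List (ℕ × List (List ℕ)) := [((nat_lit 3), [[nat_lit 1]]),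
  ((nat_lit 5), [[nat_lit 0, nat_lit 1, nat_lit 1, nat_lit 2]]),
  ((nat_lit 0), [[nat_lit 2]])]
theorem h3r : h3H.relChk (weqOn (nat_lit 5) (nat_lit 31) h3T B) = true := by decide +kernel
theorem h3l : h3H.linChk = true := by decide +kernel
theorem h3 : ¬ 3 ^ (0 + 1) ∣ Nat.card (L.SM P) :=
  holt_bound h3lets.rep (ofNat_inj 24) base.1 base.2 h3H 0 h3L (show Nat.Prime 3 by norm_num)
    (by rw [card]; decide +kernel) (by decide +kernel) h3r h3l

noncomputable def c2u0 : ℕ := (nat_lit 0xde92524ce889840)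
noncomputable def c2u1 : ℕ := (nat_lit 0x5ab34acb1734470)
noncomputable def c2u2 : ℕ := (nat_lit 0xdab2299426c1c80)
noncomputable def c2u3 : ℕ := (nat_lit 0xdab33110c1ba0a0)
noncomputable def c2u4 : ℕ := (nat_lit 0x5a856262271a6a0)
noncomputable def c2u5 : ℕ := (nat_lit 0xbaad5de70418440)
noncomputable def c2u6 : ℕ := (nat_lit 0x58a663a295ca820)
noncomputable def c2u7 : ℕ := (nat_lit 0x12923394c442c01)
noncomputable def c2M : Mon := ⟨(nat_lit 12), (nat_lit 0), (nat_lit 4), (nat_lit 15), (nat_lit 5), (nat_lit 31), (nat_lit 2), (.node (nat_lit 4) (.node (nat_lit 2) (.node (nat_lit 1) (.leaf c2u0)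
 (.leaf c2u1))
 (.node (nat_lit 3) (.leaf c2u2)
 (.leaf c2u3)))
 (.node (nat_lit 6) (.node (nat_lit 5) (.leaf c2u4)
 (.leaf c2u5))
 (.node (nat_lit 7) (.leaf c2u6)
 (.leaf c2u7))))⟩
theorem c2r : RL.all c2M.relChk = true := by decide +kernel
theorem c2 : ∃ φ : L.SM P →* Multiplicative (ZMod 2 × ZMod 2),
    Multiplicative.ofAdd (((1 : ℕ) : ZMod 2), ((1 : ℕ) : ZMod 2)) ∈ φ.range := by
  haveI : NeZero c2M.q := ⟨by decide⟩
  obtain ⟨φ, h⟩ := cover_hom std c2M (by decide +kernel) c2r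
  exact ⟨φ, h [nat_lit 7, nat_lit 6, nat_lit 3, nat_lit 7, nat_lit 6, nat_lit 3, nat_lit 7, nat_lit 6, nat_lit 3, nat_lit 7, nat_lit 6, nat_lit 3, nat_lit 7, nat_lit 6, nat_lit 3, nat_lit 7, nat_lit 6, nat_lit 3]
    [nat_lit 7, nat_lit 3, nat_lit 6, nat_lit 7, nat_lit 3, nat_lit 6, nat_lit 7, nat_lit 3, nat_lit 6, nat_lit 7, nat_lit 3, nat_lit 6, nat_lit 7, nat_lit 3, nat_lit 6, nat_lit 7, nat_lit 3, nat_lit 6] 1 1 (by decide +kernel)⟩

theorem sm_dvd : Nat.card (L.SM P) ∣ 2 :=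
  SM_dvd 2 [2, 3] 55 (sqfree_of_chk (by decide +kernel)) 6 (by simp only [List.mem_cons, List.not_mem_nil, or_false, forall_eq_or_imp, forall_eq]; norm_num)
    (by rw [card]; decide +kernel) (by
      simp only [List.mem_cons, List.not_mem_nil, or_false, forall_eq_or_imp, forall_eq]
      exact ⟨⟨1, by norm_num, h2⟩, ⟨0, by norm_num, h3⟩⟩)
theorem mult : Cfsg.HasCyclicSchurMultiplier P 2 := by
  obtain ⟨φc2, hc2⟩ := c2
  have ec2 := dvd_exp_of_mem φc2 hc2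
  norm_num at ec2
  exact hasCyclic_of_exp (by norm_num) sm_dvd ec2

end H8.M12
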