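import Cfsg.Agent.H8.GM23

/-! H8.MM23: `mult`, the Schur multiplier of `P` (generated certificate) -/

set_option autoImplicit false
set_option maxRecDepth 200000

namespace H8.M23

noncomputable def h2t0 : ℕ := (nat_lit 0xbd9346484a40d736c2af218a774420)
noncomputable def h2t1 : ℕ := (nat_lit 0xbda2798eaf805ac58909a1885929c0)
noncomputable def h2t2 : ℕ := (nat_lit 0xbb6b49c865112cc3052742e0e8bd40)
noncomputable def h2t3 : ℕ := (nat_lit 0xbda05985f588dac5a54221a8772240)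
noncomputable def h2t4 : ℕ := (nat_lit 0xb9ab49c8ea73d6c6c1238d822410a0)
noncomputable def h2t5 : ℕ := (nat_lit 0xbda959a4e5209ac5864389a0f43940)
noncomputable def h2t6 : ℕ := (nat_lit 0xbd9329d10a111ac5c2b11982e3bca0)
noncomputable def h2t7 : ℕ := (nat_lit 0xb9ab20502823d6cb4525834e253873)
noncomputable def h2t8 : ℕ := (nat_lit 0xb9aa16948a1898b9c12e45a8f89e40)
noncomputable def h2t9 : ℕ := (nat_lit 0xbba929d4c53a04c7c1365915168c20)
noncomputable def h2T_0 : Tr ℕ := (.node (nat_lit 5) (.node (nat_lit 2) (.node (nat_lit 1) (.leaf h2t0)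
 (.leaf h2t1))
 (.node (nat_lit 3) (.leaf h2t2)
 (.node (nat_lit 4) (.leaf h2t3)
 (.leaf h2t4))))
 (.node (nat_lit 7) (.node (nat_lit 6) (.leaf h2t5)
 (.leaf h2t6))
 (.node (nat_lit 8) (.leaf h2t7)
 (.node (nat_lit 9) (.leaf h2t8)
 (.leaf h2t9)))))
noncomputable def h2E_0 : Tr (List ℕ) := (.node (nat_lit 5) (.node (nat_lit 2) (.node (nat_lit 1) (.leaf [nat_lit 4, nat_lit 1, nat_lit 5, nat_lit 0, nat_lit 3, nat_lit 4, nat_lit 0, nat_lit 2])
 (.leaf [nat_lit 1, nat_lit 5, nat_lit 2, nat_lit 6, nat_lit 5, nat_lit 2, nat_lit 5, nat_lit 4, nat_lit 3, nat_lit 1, nat_lit 4, nat_lit 1, nat_lit 2, nat_lit 0]))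
 (.node (nat_lit 3) (.leaf [nat_lit 4, nat_lit 5, nat_lit 2, nat_lit 6, nat_lit 3, nat_lit 5, nat_lit 0, nat_lit 4, nat_lit 1, nat_lit 3])
 (.node (nat_lit 4) (.leaf [nat_lit 0, nat_lit 6, nat_lit 2, nat_lit 6, nat_lit 5, nat_lit 1, nat_lit 5, nat_lit 1, nat_lit 3, nat_lit 0, nat_lit 4, nat_lit 0, nat_lit 3, nat_lit 0, nat_lit 2])
 (.leaf [nat_lit 0, nat_lit 5, nat_lit 2, nat_lit 6, nat_lit 4, nat_lit 0, nat_lit 5, nat_lit 0, nat_lit 3, nat_lit 4, nat_lit 0, nat_lit 3, nat_lit 0, nat_lit 2]))))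
 (.node (nat_lit 7) (.node (nat_lit 6) (.leaf [nat_lit 4, nat_lit 5, nat_lit 2, nat_lit 6, nat_lit 3, nat_lit 0, nat_lit 5, nat_lit 0, nat_lit 3, nat_lit 4, nat_lit 0, nat_lit 3, nat_lit 2, nat_lit 1])
 (.leaf [nat_lit 0, nat_lit 5, nat_lit 2, nat_lit 6, nat_lit 4, nat_lit 3, nat_lit 1, nat_lit 4, nat_lit 0, nat_lit 3, nat_lit 0, nat_lit 2, nat_lit 0]))
 (.node (nat_lit 8) (.leaf [nat_lit 3, nat_lit 7, nat_lit 0, nat_lit 5, nat_lit 2, nat_lit 6, nat_lit 2, nat_lit 5, nat_lit 4, nat_lit 1, nat_lit 3, nat_lit 4, nat_lit 3, nat_lit 2, nat_lit 0])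
 (.node (nat_lit 9) (.leaf [nat_lit 0, nat_lit 6, nat_lit 2, nat_lit 6, nat_lit 5, nat_lit 0, nat_lit 3, nat_lit 0, nat_lit 4, nat_lit 1, nat_lit 3])
 (.leaf [nat_lit 5, nat_lit 2, nat_lit 0, nat_lit 5, nat_lit 4, nat_lit 3, nat_lit 4, nat_lit 2, nat_lit 1, nat_lit 3])))))
noncomputable def h2T : Tr ℕ := h2T_0
noncomputable def h2E : Tr (List ℕ) := h2E_0
theorem h2w_0 : h2T_0.all2 (fun c w => isProd 24 (nat_lit 5) (nat_lit 31) T c w) h2E_0 = true := by decide +kernel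
theorem h2lets : Lets P 24 (nat_lit 5) (nat_lit 31) (Fin.ofNat 24) h2T := lets_words lets h2E h2w_0
noncomputable def h2W : Tr (List ℕ) := (.node (nat_lit 24) (.node (nat_lit 12) (.node (nat_lit 6) (.node (nat_lit 3) (.node (nat_lit 1) (.leaf [])
 (.node (nat_lit 2) (.leaf [])
 (.leaf [])))
 (.node (nat_lit 4) (.leaf [])
 (.node (nat_lit 5) (.leaf [])
 (.leaf []))))
 (.node (nat_lit 9) (.node (nat_lit 7) (.leaf [])
 (.node (nat_lit 8) (.leaf [nat_lit 1, nat_lit 3])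
 (.leaf [])))
 (.node (nat_lit 10) (.leaf [])
 (.node (nat_lit 11) (.leaf [])
 (.leaf [])))))
 (.node (nat_lit 18) (.node (nat_lit 15) (.node (nat_lit 13) (.leaf [])
 (.node (nat_lit 14) (.leaf [])
 (.leaf [nat_lit 2, nat_lit 4])))
 (.node (nat_lit 16) (.leaf [nat_lit 2, nat_lit 5, nat_lit 6])
 (.node (nat_lit 17) (.leaf [])
 (.leaf []))))
 (.node (nat_lit 21) (.node (nat_lit 19) (.leaf [])
 (.node (nat_lit 20) (.leaf [])
 (.leaf [])))
 (.node (nat_lit 22) (.leaf [nat_lit 3])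
 (.node (nat_lit 23) (.leaf [nat_lit 3])
 (.leaf [nat_lit 3, nat_lit 5]))))))
 (.node (nat_lit 36) (.node (nat_lit 30) (.node (nat_lit 27) (.node (nat_lit 25) (.leaf [])
 (.node (nat_lit 26) (.leaf [])
 (.leaf [])))
 (.node (nat_lit 28) (.leaf [])
 (.node (nat_lit 29) (.leaf [nat_lit 4])
 (.leaf [nat_lit 4, nat_lit 5]))))
 (.node (nat_lit 33) (.node (nat_lit 31) (.leaf [nat_lit 4])
 (.node (nat_lit 32) (.leaf [nat_lit 4, nat_lit 6])
 (.leaf [])))
 (.node (nat_lit 34) (.leaf [])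
 (.node (nat_lit 35) (.leaf [])
 (.leaf [nat_lit 5, nat_lit 6])))))
 (.node (nat_lit 42) (.node (nat_lit 39) (.node (nat_lit 37) (.leaf [nat_lit 5])
 (.node (nat_lit 38) (.leaf [nat_lit 5])
 (.leaf [nat_lit 5])))
 (.node (nat_lit 40) (.leaf [nat_lit 5])
 (.node (nat_lit 41) (.leaf [])
 (.leaf []))))
 (.node (nat_lit 45) (.node (nat_lit 43) (.leaf [nat_lit 6])
 (.node (nat_lit 44) (.leaf [nat_lit 6])
 (.leaf [nat_lit 6])))
 (.node (nat_lit 47) (.node (nat_lit 46) (.leaf [nat_lit 6])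
 (.leaf [nat_lit 6]))
 (.node (nat_lit 48) (.leaf [nat_lit 6])
 (.leaf [])))))))
noncomputable def h2F : Tr (ℕ × List ℕ × List ℕ) := (.node (nat_lit 8) (.node (nat_lit 4) (.node (nat_lit 2) (.node (nat_lit 1) (.leaf ((nat_lit 7), [nat_lit 1], [nat_lit 3, nat_lit 5, nat_lit 6]))
 (.leaf ((nat_lit 7), [nat_lit 2], [nat_lit 2])))
 (.node (nat_lit 3) (.leaf ((nat_lit 7), [nat_lit 3], [nat_lit 1, nat_lit 6]))
 (.leaf ((nat_lit 7), [nat_lit 4], [nat_lit 2, nat_lit 4]))))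
 (.node (nat_lit 6) (.node (nat_lit 5) (.leaf ((nat_lit 7), [nat_lit 5], [nat_lit 5, nat_lit 6]))
 (.leaf ((nat_lit 7), [nat_lit 6], [nat_lit 6])))
 (.node (nat_lit 7) (.leaf ((nat_lit 8), [nat_lit 0], [nat_lit 0]))
 (.leaf ((nat_lit 8), [nat_lit 1], [nat_lit 1, nat_lit 3, nat_lit 5])))))
 (.node (nat_lit 12) (.node (nat_lit 10) (.node (nat_lit 9) (.leaf ((nat_lit 8), [nat_lit 3], [nat_lit 3, nat_lit 6]))
 (.leaf ((nat_lit 8), [nat_lit 4], [nat_lit 0, nat_lit 4, nat_lit 6])))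
 (.node (nat_lit 11) (.leaf ((nat_lit 8), [nat_lit 5], [nat_lit 3, nat_lit 5, nat_lit 6]))
 (.leaf ((nat_lit 8), [nat_lit 6], [nat_lit 6]))))
 (.node (nat_lit 14) (.node (nat_lit 13) (.leaf ((nat_lit 9), [nat_lit 0, nat_lit 3], [nat_lit 0, nat_lit 3, nat_lit 4, nat_lit 5, nat_lit 6]))
 (.leaf ((nat_lit 9), [nat_lit 2], [nat_lit 2, nat_lit 4])))
 (.node (nat_lit 15) (.leaf ((nat_lit 9), [nat_lit 4], [nat_lit 2]))
 (.node (nat_lit 16) (.leaf ((nat_lit 9), [nat_lit 5], [nat_lit 2, nat_lit 6]))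
 (.leaf ((nat_lit 9), [nat_lit 6], [nat_lit 4, nat_lit 5, nat_lit 6])))))))
noncomputable def h2A : List (List ℕ × ℕ × ℕ) := [([nat_lit 1], (nat_lit 1), (nat_lit 0)),
  ([nat_lit 2], (nat_lit 2), (nat_lit 0)),
  ([nat_lit 3], (nat_lit 3), (nat_lit 2)),
  ([nat_lit 4], (nat_lit 4), (nat_lit 1)),
  ([nat_lit 4], (nat_lit 4), (nat_lit 3)),
  ([nat_lit 5], (nat_lit 5), (nat_lit 0)),
  ([nat_lit 6], (nat_lit 1), (nat_lit 0)),
  ([nat_lit 6], (nat_lit 2), (nat_lit 0)),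
  ([nat_lit 1], (nat_lit 0), (nat_lit 0)),
  ([nat_lit 2], (nat_lit 0), (nat_lit 0)),
  ([nat_lit 3], (nat_lit 2), (nat_lit 2)),
  ([nat_lit 4], (nat_lit 1), (nat_lit 1)),
  ([nat_lit 5], (nat_lit 0), (nat_lit 0)),
  ([nat_lit 4], (nat_lit 3), (nat_lit 1)),
  ([nat_lit 5], (nat_lit 2), (nat_lit 0)),
  ([nat_lit 2], (nat_lit 2), (nat_lit 1)),
  ([nat_lit 4], (nat_lit 1), (nat_lit 0)),
  ([nat_lit 2], (nat_lit 1), (nat_lit 0))]
noncomputable def h2B : List (ℕ × List ℕ × List ℕ) := [((nat_lit 7), [nat_lit 2, nat_lit 2], []),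
  ((nat_lit 7), [nat_lit 3, nat_lit 3], []),
  ((nat_lit 7), [nat_lit 2, nat_lit 1], [nat_lit 1, nat_lit 2, nat_lit 4]),
  ((nat_lit 7), [nat_lit 1, nat_lit 0], [nat_lit 0, nat_lit 1, nat_lit 4, nat_lit 5]),
  ((nat_lit 7), [nat_lit 3, nat_lit 2], [nat_lit 2, nat_lit 3, nat_lit 5]),
  ((nat_lit 8), [nat_lit 9, nat_lit 9], []),
  ((nat_lit 8), [nat_lit 10, nat_lit 10], []),
  ((nat_lit 9), [nat_lit 15, nat_lit 15], [])]
noncomputable def h2X : Tr ℕ := (.node (nat_lit 3) (.node (nat_lit 1) (.leaf (nat_lit 0x0))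
 (.node (nat_lit 2) (.leaf (nat_lit 0x0))
 (.leaf (nat_lit 0x0))))
 (.node (nat_lit 5) (.node (nat_lit 4) (.leaf (nat_lit 0x100000000000000))
 (.leaf (nat_lit 0x10000000000000000000000000000)))
 (.node (nat_lit 6) (.leaf (nat_lit 0x10000000000000000000000000000000000000000000000))
 (.leaf (nat_lit 0x10000000000000001000000000000000000000000000000)))))
noncomputable def h2D : Tr ℕ := (.node (nat_lit 24) (.node (nat_lit 12) (.node (nat_lit 6) (.node (nat_lit 3) (.node (nat_lit 1) (.leaf (nat_lit 0x0))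
 (.node (nat_lit 2) (.leaf (nat_lit 0x0))
 (.leaf (nat_lit 0x0))))
 (.node (nat_lit 4) (.leaf (nat_lit 0x0))
 (.node (nat_lit 5) (.leaf (nat_lit 0x0))
 (.leaf (nat_lit 0x0)))))
 (.node (nat_lit 9) (.node (nat_lit 7) (.leaf (nat_lit 0x0))
 (.node (nat_lit 8) (.leaf (nat_lit 0x0))
 (.leaf (nat_lit 0x0))))
 (.node (nat_lit 10) (.leaf (nat_lit 0x0))
 (.node (nat_lit 11) (.leaf (nat_lit 0x0))
 (.leaf (nat_lit 0x0))))))
 (.node (nat_lit 18) (.node (nat_lit 15) (.node (nat_lit 13) (.leaf (nat_lit 0x0))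
 (.node (nat_lit 14) (.leaf (nat_lit 0x0))
 (.leaf (nat_lit 0x0))))
 (.node (nat_lit 16) (.leaf (nat_lit 0x0))
 (.node (nat_lit 17) (.leaf (nat_lit 0x0))
 (.leaf (nat_lit 0x0)))))
 (.node (nat_lit 21) (.node (nat_lit 19) (.leaf (nat_lit 0x0))
 (.node (nat_lit 20) (.leaf (nat_lit 0x0))
 (.leaf (nat_lit 0x0))))
 (.node (nat_lit 22) (.leaf (nat_lit 0x0))
 (.node (nat_lit 23) (.leaf (nat_lit 0x0))
 (.leaf (nat_lit 0x0)))))))
 (.node (nat_lit 36) (.node (nat_lit 30) (.node (nat_lit 27) (.node (nat_lit 25) (.leaf (nat_lit 0x0))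
 (.node (nat_lit 26) (.leaf (nat_lit 0x0))
 (.leaf (nat_lit 0x0))))
 (.node (nat_lit 28) (.leaf (nat_lit 0x0))
 (.node (nat_lit 29) (.leaf (nat_lit 0x0))
 (.leaf (nat_lit 0x0)))))
 (.node (nat_lit 33) (.node (nat_lit 31) (.leaf (nat_lit 0x0))
 (.node (nat_lit 32) (.leaf (nat_lit 0x0))
 (.leaf (nat_lit 0x0))))
 (.node (nat_lit 34) (.leaf (nat_lit 0x0))
 (.node (nat_lit 35) (.leaf (nat_lit 0x0))
 (.leaf (nat_lit 0x0))))))
 (.node (nat_lit 42) (.node (nat_lit 39) (.node (nat_lit 37) (.leaf (nat_lit 0x0))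
 (.node (nat_lit 38) (.leaf (nat_lit 0x0))
 (.leaf (nat_lit 0x0))))
 (.node (nat_lit 40) (.leaf (nat_lit 0x0))
 (.node (nat_lit 41) (.leaf (nat_lit 0x0))
 (.leaf (nat_lit 0x0)))))
 (.node (nat_lit 45) (.node (nat_lit 43) (.leaf (nat_lit 0x0))
 (.node (nat_lit 44) (.leaf (nat_lit 0x0))
 (.leaf (nat_lit 0x0))))
 (.node (nat_lit 47) (.node (nat_lit 46) (.leaf (nat_lit 0x0))
 (.leaf (nat_lit 0x0)))
 (.node (nat_lit 48) (.leaf (nat_lit 0x0))
 (.leaf (nat_lit 0x0))))))))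
noncomputable def h2Y : Tr ℕ := (.node (nat_lit 24) (.node (nat_lit 12) (.node (nat_lit 6) (.node (nat_lit 3) (.node (nat_lit 1) (.leaf (nat_lit 0x100010000000100000000010001000001000100000101000100))
 (.node (nat_lit 2) (.leaf (nat_lit 0x0))
 (.leaf (nat_lit 0x0))))
 (.node (nat_lit 4) (.leaf (nat_lit 0x0))
 (.node (nat_lit 5) (.leaf (nat_lit 0x0))
 (.leaf (nat_lit 0x0)))))
 (.node (nat_lit 9) (.node (nat_lit 7) (.leaf (nat_lit 0x0))
 (.node (nat_lit 8) (.leaf (nat_lit 0x0))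
 (.leaf (nat_lit 0x1000000000001000000000100000000000001000000000000))))
 (.node (nat_lit 10) (.leaf (nat_lit 0x0))
 (.node (nat_lit 11) (.leaf (nat_lit 0x0))
 (.leaf (nat_lit 0x0))))))
 (.node (nat_lit 18) (.node (nat_lit 15) (.node (nat_lit 13) (.leaf (nat_lit 0x0))
 (.node (nat_lit 14) (.leaf (nat_lit 0x0))
 (.leaf (nat_lit 0x0))))
 (.node (nat_lit 16) (.leaf (nat_lit 0x0))
 (.node (nat_lit 17) (.leaf (nat_lit 0x100000000000000000000010000000000000000000101000000))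
 (.leaf (nat_lit 0x0)))))
 (.node (nat_lit 21) (.node (nat_lit 19) (.leaf (nat_lit 0x0))
 (.node (nat_lit 20) (.leaf (nat_lit 0x0))
 (.leaf (nat_lit 0x0))))
 (.node (nat_lit 22) (.leaf (nat_lit 0x1000000000000000001010000000100010101000001010000))
 (.node (nat_lit 23) (.leaf (nat_lit 0x1000000000000000001010000000100000101000001010001))
 (.leaf (nat_lit 0x0)))))))
 (.node (nat_lit 36) (.node (nat_lit 30) (.node (nat_lit 27) (.node (nat_lit 25) (.leaf (nat_lit 0x1000000000000000001010000000100000101000001010000))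
 (.node (nat_lit 26) (.leaf (nat_lit 0x0))
 (.leaf (nat_lit 0x0))))
 (.node (nat_lit 28) (.leaf (nat_lit 0x0))
 (.node (nat_lit 29) (.leaf (nat_lit 0x100000000000100000000010000000001000000000101000100))
 (.leaf (nat_lit 0x10101010001000100000101010101010000)))))
 (.node (nat_lit 33) (.node (nat_lit 31) (.leaf (nat_lit 0x100000000000100000000010000000000000000000101000000))
 (.node (nat_lit 32) (.leaf (nat_lit 0x101010000010101000001000000000001010101010000))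
 (.leaf (nat_lit 0x100000000000100000000010000000000000000000101000100))))
 (.node (nat_lit 34) (.leaf (nat_lit 0x0))
 (.node (nat_lit 35) (.leaf (nat_lit 0x0))
 (.leaf (nat_lit 0x101010000010000010001000100000001010000000000))))))
 (.node (nat_lit 42) (.node (nat_lit 39) (.node (nat_lit 37) (.leaf (nat_lit 0x1010000010100000100010001000000))
 (.node (nat_lit 38) (.leaf (nat_lit 0x1010000000000000100010001000000))
 (.leaf (nat_lit 0x1010000000100000100010001010000))))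
 (.node (nat_lit 40) (.leaf (nat_lit 0x1010000000100000100010000000000))
 (.node (nat_lit 41) (.leaf (nat_lit 0x1010000000100000100010001000000))
 (.leaf (nat_lit 0x0)))))
 (.node (nat_lit 45) (.node (nat_lit 43) (.leaf (nat_lit 0x1000000000100000100000000))
 (.node (nat_lit 44) (.leaf (nat_lit 0x1010100000100000000000101010000))
 (.leaf (nat_lit 0x1000000000100000000010000000000))))
 (.node (nat_lit 47) (.node (nat_lit 46) (.leaf (nat_lit 0x1000000000000))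
 (.leaf (nat_lit 0x100000000000000)))
 (.node (nat_lit 48) (.leaf (nat_lit 0x100010100000000))
 (.leaf (nat_lit 0x100000100000000))))))))
noncomputable def h2H : Holt := ⟨(nat_lit 2), (nat_lit 2), (nat_lit 7), (nat_lit 66), (nat_lit 26), h2W, (nat_lit 17), h2F, h2A, h2B, h2X, [], h2D, h2Y⟩
noncomputable def h2L : List (ℕ × List (List ℕ)) := [((nat_lit 12), [[nat_lit 0]]),
  ((nat_lit 6), [[nat_lit 2], [nat_lit 4]]),
  ((nat_lit 1), [[nat_lit 1], [nat_lit 3], [nat_lit 5], [nat_lit 6]])]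
theorem h2r : h2H.relChk (weqOn (nat_lit 5) (nat_lit 31) h2T B) = true := by decide +kernel
theorem h2l : h2H.linChk = true := by decide +kernel
theorem h2 : ¬ 2 ^ (0 + 1) ∣ Nat.card (L.SM P) :=
  holt_bound h2lets.rep (ofNat_inj 24) base.1 base.2 h2H 0 h2L (show Nat.Prime 2 by norm_num)
    (by rw [card]; decide +kernel) (by decide +kernel) h2r h2l

noncomputable def h3t0 : ℕ := (nat_lit 0xbc5d35c90912985a54f683da419820)
noncomputable def h3t1 : ℕ := (nat_lit 0xba0eaa8ecb7c18572691999b220820)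
noncomputable def h3t2 : ℕ := (nat_lit 0xbc5c9391132a9e285576a30d21b401)
noncomputable def h3t3 : ℕ := (nat_lit 0xbc66ea8ec97d18d52e08388a491820)
noncomputable def h3T_0 : Tr ℕ := (.node (nat_lit 2) (.node (nat_lit 1) (.leaf h3t0)
 (.leaf h3t1))
 (.node (nat_lit 3) (.leaf h3t2)
 (.leaf h3t3)))
noncomputable def h3E_0 : Tr (List ℕ) := (.node (nat_lit 2) (.node (nat_lit 1) (.leaf [nat_lit 3, nat_lit 0, nat_lit 5, nat_lit 4, nat_lit 1, nat_lit 3, nat_lit 4, nat_lit 1, nat_lit 3, nat_lit 1, nat_lit 2, nat_lit 1])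
 (.leaf [nat_lit 2, nat_lit 1, nat_lit 4, nat_lit 1, nat_lit 3, nat_lit 2, nat_lit 1]))
 (.node (nat_lit 3) (.leaf [nat_lit 6, nat_lit 5, nat_lit 7, nat_lit 5, nat_lit 6, nat_lit 4, nat_lit 1, nat_lit 5, nat_lit 4, nat_lit 3, nat_lit 1, nat_lit 4, nat_lit 2, nat_lit 0, nat_lit 3])
 (.leaf [nat_lit 3, nat_lit 0, nat_lit 5, nat_lit 0, nat_lit 3, nat_lit 0, nat_lit 4, nat_lit 3, nat_lit 1, nat_lit 2])))
noncomputable def h3T : Tr ℕ := h3T_0
noncomputable def h3E : Tr (List ℕ) := h3E_0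
theorem h3w_0 : h3T_0.all2 (fun c w => isProd 24 (nat_lit 5) (nat_lit 31) T c w) h3E_0 = true := by decide +kernel
theorem h3lets : Lets P 24 (nat_lit 5) (nat_lit 31) (Fin.ofNat 24) h3T := lets_words lets h3E h3w_0
noncomputable def h3W : Tr (List ℕ) := (.node (nat_lit 2) (.node (nat_lit 1) (.leaf [])
 (.leaf []))
 (.node (nat_lit 3) (.leaf [nat_lit 1])
 (.leaf [])))
noncomputable def h3F : Tr (ℕ × List ℕ × List ℕ) := (.node (nat_lit 2) (.node (nat_lit 1) (.leaf ((nat_lit 2), [nat_lit 0], [nat_lit 0]))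
 (.leaf ((nat_lit 2), [nat_lit 1], [nat_lit 0, nat_lit 1, nat_lit 1])))
 (.node (nat_lit 3) (.leaf ((nat_lit 3), [nat_lit 0], [nat_lit 0, nat_lit 0]))
 (.leaf ((nat_lit 3), [nat_lit 1], [nat_lit 1, nat_lit 1]))))
noncomputable def h3A : List (List ℕ × ℕ × ℕ) := []
noncomputable def h3B : List (ℕ × List ℕ × List ℕ) := [((nat_lit 2), [nat_lit 1, nat_lit 0], [nat_lit 0, nat_lit 1]),
  ((nat_lit 2), [nat_lit 1, nat_lit 1, nat_lit 1], []),
  ((nat_lit 3), [nat_lit 2, nat_lit 2, nat_lit 2], [])]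
noncomputable def h3X : Tr ℕ := (.node (nat_lit 1) (.leaf (nat_lit 0x0))
 (.leaf (nat_lit 0x0)))
noncomputable def h3D : Tr ℕ := (.node (nat_lit 2) (.node (nat_lit 1) (.leaf (nat_lit 0x0))
 (.leaf (nat_lit 0x0)))
 (.node (nat_lit 3) (.leaf (nat_lit 0x0))
 (.leaf (nat_lit 0x0))))
noncomputable def h3Y : Tr ℕ := (.node (nat_lit 2) (.node (nat_lit 1) (.leaf (nat_lit 0x10000))
 (.leaf (nat_lit 0x0)))
 (.node (nat_lit 3) (.leaf (nat_lit 0x1))
 (.leaf (nat_lit 0x20100))))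
noncomputable def h3H : Holt := ⟨(nat_lit 3), (nat_lit 3), (nat_lit 2), (nat_lit 8), (nat_lit 16), h3W, (nat_lit 4), h3F, h3A, h3B, h3X, [], h3D, h3Y⟩
noncomputable def h3L : List (ℕ × List (List ℕ)) := [((nat_lit 2), [[nat_lit 0]]),
  ((nat_lit 3), [[nat_lit 1]])]
theorem h3r : h3H.relChk (weqOn (nat_lit 5) (nat_lit 31) h3T B) = true := by decide +kernel
theorem h3l : h3H.linChk = true := by decide +kernel
theorem h3 : ¬ 3 ^ (0 + 1) ∣ Nat.card (L.SM P) :=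
  holt_bound h3lets.rep (ofNat_inj 24) base.1 base.2 h3H 0 h3L (show Nat.Prime 3 by norm_num)
    (by rw [card]; decide +kernel) (by decide +kernel) h3r h3l

theorem sm_dvd : Nat.card (L.SM P) ∣ 1 :=
  SM_dvd 1 [2, 3] 8855 (sqfree_of_chk (by decide +kernel)) 7 (by simp only [List.mem_cons, List.not_mem_nil, or_false, forall_eq_or_imp, forall_eq]; norm_num)
    (by rw [card]; decide +kernel) (by
      simp only [List.mem_cons, List.not_mem_nil, or_false, forall_eq_or_imp, forall_eq]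
      exact ⟨⟨0, by norm_num, h2⟩, ⟨0, by norm_num, h3⟩⟩)
theorem mult : Cfsg.HasCyclicSchurMultiplier P 1 := by
  exact hasCyclic_of_exp (by norm_num) sm_dvd (one_dvd _)

end H8.M23
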