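import Cfsg.Agent.H8.GM24

/-! H8.MM24: `mult`, the Schur multiplier of `P` (generated certificate) -/

set_option autoImplicit false
set_option maxRecDepth 200000

namespace H8.M24

noncomputable def h2t0 : ℕ := (nat_lit 0x322ae5480d1520c5cd362dce41bc31)
noncomputable def h2t1 : ℕ := (nat_lit 0x8a14b94ee778daca5496818a970820)
noncomputable def h2t2 : ℕ := (nat_lit 0x6da959b8a724aec5a8488022f1a426)
noncomputable def h2t3 : ℕ := (nat_lit 0xbc9014da301b1ae11275398aa7ae80)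
noncomputable def h2t4 : ℕ := (nat_lit 0x2da4e9d5a01522c5a88831ee91bc30)
noncomputable def h2t5 : ℕ := (nat_lit 0x8da951baf0148ac52c88399a99bc20)
noncomputable def h2t6 : ℕ := (nat_lit 0xb926baaa3060dafa4909398b670440)
noncomputable def h2t7 : ℕ := (nat_lit 0x8da4e556e77d0ac1cd28801a458826)
noncomputable def h2t8 : ℕ := (nat_lit 0xbb2955ba30249b698c41398af52500)
noncomputable def h2t9 : ℕ := (nat_lit 0xba24e55630151a11cc96398a95bd80)
noncomputable def h2t10 : ℕ := (nat_lit 0x8097250ce00d4b6a4d2f35da473111)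
noncomputable def h2t11 : ℕ := (nat_lit 0x3c6ab2e0574ce4622a2bc4d20d12d)
noncomputable def h2t12 : ℕ := (nat_lit 0xb4ce06c10fa982b895ca11194bc869)
noncomputable def h2t13 : ℕ := (nat_lit 0x6c88fb0ae01a4ae6057481e2a44ea6)
noncomputable def h2T_0 : Tr ℕ := (.node (nat_lit 7) (.node (nat_lit 3) (.node (nat_lit 1) (.leaf h2t0)
 (.node (nat_lit 2) (.leaf h2t1)
 (.leaf h2t2)))
 (.node (nat_lit 5) (.node (nat_lit 4) (.leaf h2t3)
 (.leaf h2t4))
 (.node (nat_lit 6) (.leaf h2t5)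
 (.leaf h2t6))))
 (.node (nat_lit 10) (.node (nat_lit 8) (.leaf h2t7)
 (.node (nat_lit 9) (.leaf h2t8)
 (.leaf h2t9)))
 (.node (nat_lit 12) (.node (nat_lit 11) (.leaf h2t10)
 (.leaf h2t11))
 (.node (nat_lit 13) (.leaf h2t12)
 (.leaf h2t13)))))
noncomputable def h2E_0 : Tr (List ℕ) := (.node (nat_lit 7) (.node (nat_lit 3) (.node (nat_lit 1) (.leaf [nat_lit 4, nat_lit 1, nat_lit 8, nat_lit 4, nat_lit 7, nat_lit 3, nat_lit 2, nat_lit 6, nat_lit 2, nat_lit 1, nat_lit 5, nat_lit 4, nat_lit 3, nat_lit 1])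
 (.node (nat_lit 2) (.leaf [nat_lit 5, nat_lit 1, nat_lit 3, nat_lit 2, nat_lit 4, nat_lit 2, nat_lit 1, nat_lit 3, nat_lit 0])
 (.leaf [nat_lit 3, nat_lit 1, nat_lit 8, nat_lit 4, nat_lit 7, nat_lit 3, nat_lit 6, nat_lit 4, nat_lit 3, nat_lit 2, nat_lit 5, nat_lit 0, nat_lit 3, nat_lit 0, nat_lit 4, nat_lit 3, nat_lit 2, nat_lit 0])))
 (.node (nat_lit 5) (.node (nat_lit 4) (.leaf [nat_lit 3, nat_lit 2, nat_lit 7, nat_lit 1, nat_lit 6, nat_lit 5, nat_lit 3, nat_lit 5, nat_lit 1, nat_lit 4, nat_lit 3, nat_lit 0, nat_lit 2, nat_lit 1])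
 (.leaf [nat_lit 5, nat_lit 8, nat_lit 4, nat_lit 7, nat_lit 4, nat_lit 5, nat_lit 0, nat_lit 4, nat_lit 3, nat_lit 1, nat_lit 4, nat_lit 1, nat_lit 3, nat_lit 2, nat_lit 1]))
 (.node (nat_lit 6) (.leaf [nat_lit 3, nat_lit 2, nat_lit 6, nat_lit 1, nat_lit 3, nat_lit 5, nat_lit 4, nat_lit 3, nat_lit 0, nat_lit 4, nat_lit 0, nat_lit 2, nat_lit 1])
 (.leaf [nat_lit 7, nat_lit 0, nat_lit 7, nat_lit 4, nat_lit 0, nat_lit 6, nat_lit 1, nat_lit 5, nat_lit 4, nat_lit 2, nat_lit 0, nat_lit 3, nat_lit 1]))))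
 (.node (nat_lit 10) (.node (nat_lit 8) (.leaf [nat_lit 3, nat_lit 1, nat_lit 8, nat_lit 4, nat_lit 7, nat_lit 3, nat_lit 1, nat_lit 6, nat_lit 4, nat_lit 0, nat_lit 5, nat_lit 0, nat_lit 3, nat_lit 4, nat_lit 3, nat_lit 1, nat_lit 2, nat_lit 1])
 (.node (nat_lit 9) (.leaf [nat_lit 1, nat_lit 7, nat_lit 3, nat_lit 2, nat_lit 6, nat_lit 2, nat_lit 0, nat_lit 5, nat_lit 0, nat_lit 4, nat_lit 1, nat_lit 3, nat_lit 1, nat_lit 2, nat_lit 0])
 (.leaf [nat_lit 1, nat_lit 4, nat_lit 7, nat_lit 4, nat_lit 6, nat_lit 1, nat_lit 6, nat_lit 5, nat_lit 3, nat_lit 5, nat_lit 3, nat_lit 4, nat_lit 3, nat_lit 0])))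
 (.node (nat_lit 12) (.node (nat_lit 11) (.leaf [nat_lit 4, nat_lit 1, nat_lit 8, nat_lit 3, nat_lit 0, nat_lit 7, nat_lit 3, nat_lit 6, nat_lit 1, nat_lit 4, nat_lit 5, nat_lit 2, nat_lit 4, nat_lit 1, nat_lit 3, nat_lit 2])
 (.leaf [nat_lit 0, nat_lit 8, nat_lit 2, nat_lit 0, nat_lit 7, nat_lit 2, nat_lit 6, nat_lit 1, nat_lit 6, nat_lit 3, nat_lit 1, nat_lit 5, nat_lit 2, nat_lit 4, nat_lit 1, nat_lit 3, nat_lit 2, nat_lit 0]))
 (.node (nat_lit 13) (.leaf [nat_lit 6, nat_lit 5, nat_lit 8, nat_lit 0, nat_lit 7, nat_lit 4, nat_lit 1, nat_lit 6, nat_lit 3, nat_lit 0, nat_lit 5, nat_lit 4, nat_lit 3, nat_lit 0, nat_lit 4, nat_lit 1, nat_lit 2, nat_lit 0])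
 (.leaf [nat_lit 3, nat_lit 1, nat_lit 8, nat_lit 3, nat_lit 0, nat_lit 7, nat_lit 4, nat_lit 1, nat_lit 6, nat_lit 4, nat_lit 3, nat_lit 0, nat_lit 4, nat_lit 1, nat_lit 2])))))
noncomputable def h2T : Tr ℕ := h2T_0
noncomputable def h2E : Tr (List ℕ) := h2E_0
theorem h2w_0 : h2T_0.all2 (fun c w => isProd 24 (nat_lit 5) (nat_lit 31) T c w) h2E_0 = true := by decide +kernel
theorem h2lets : Lets P 24 (nat_lit 5) (nat_lit 31) (Fin.ofNat 24) h2T := lets_words lets h2E h2w_0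
noncomputable def h2W : Tr (List ℕ) := (.node (nat_lit 50) (.node (nat_lit 25) (.node (nat_lit 12) (.node (nat_lit 6) (.node (nat_lit 3) (.node (nat_lit 1) (.leaf [])
 (.node (nat_lit 2) (.leaf [])
 (.leaf [])))
 (.node (nat_lit 4) (.leaf [])
 (.node (nat_lit 5) (.leaf [])
 (.leaf []))))
 (.node (nat_lit 9) (.node (nat_lit 7) (.leaf [])
 (.node (nat_lit 8) (.leaf [])
 (.leaf [])))
 (.node (nat_lit 10) (.leaf [])
 (.node (nat_lit 11) (.leaf [nat_lit 1, nat_lit 7])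
 (.leaf [])))))
 (.node (nat_lit 18) (.node (nat_lit 15) (.node (nat_lit 13) (.leaf [])
 (.node (nat_lit 14) (.leaf [])
 (.leaf [])))
 (.node (nat_lit 16) (.leaf [])
 (.node (nat_lit 17) (.leaf [])
 (.leaf []))))
 (.node (nat_lit 21) (.node (nat_lit 19) (.leaf [])
 (.node (nat_lit 20) (.leaf [])
 (.leaf [nat_lit 2, nat_lit 4])))
 (.node (nat_lit 23) (.node (nat_lit 22) (.leaf [nat_lit 2, nat_lit 5])
 (.leaf []))
 (.node (nat_lit 24) (.leaf [])
 (.leaf []))))))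
 (.node (nat_lit 37) (.node (nat_lit 31) (.node (nat_lit 28) (.node (nat_lit 26) (.leaf [])
 (.node (nat_lit 27) (.leaf [])
 (.leaf [])))
 (.node (nat_lit 29) (.leaf [])
 (.node (nat_lit 30) (.leaf [])
 (.leaf [nat_lit 3, nat_lit 9]))))
 (.node (nat_lit 34) (.node (nat_lit 32) (.leaf [nat_lit 3, nat_lit 6])
 (.node (nat_lit 33) (.leaf [nat_lit 3, nat_lit 8])
 (.leaf [])))
 (.node (nat_lit 35) (.leaf [])
 (.node (nat_lit 36) (.leaf [])
 (.leaf [])))))
 (.node (nat_lit 43) (.node (nat_lit 40) (.node (nat_lit 38) (.leaf [])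
 (.node (nat_lit 39) (.leaf [])
 (.leaf [])))
 (.node (nat_lit 41) (.leaf [nat_lit 4])
 (.node (nat_lit 42) (.leaf [nat_lit 4, nat_lit 7])
 (.leaf [nat_lit 4]))))
 (.node (nat_lit 46) (.node (nat_lit 44) (.leaf [nat_lit 4, nat_lit 9])
 (.node (nat_lit 45) (.leaf [])
 (.leaf [])))
 (.node (nat_lit 48) (.node (nat_lit 47) (.leaf [])
 (.leaf []))
 (.node (nat_lit 49) (.leaf [])
 (.leaf [])))))))
 (.node (nat_lit 75) (.node (nat_lit 62) (.node (nat_lit 56) (.node (nat_lit 53) (.node (nat_lit 51) (.leaf [nat_lit 5, nat_lit 7])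
 (.node (nat_lit 52) (.leaf [nat_lit 5])
 (.leaf [nat_lit 5])))
 (.node (nat_lit 54) (.leaf [nat_lit 5, nat_lit 8])
 (.node (nat_lit 55) (.leaf [nat_lit 5])
 (.leaf []))))
 (.node (nat_lit 59) (.node (nat_lit 57) (.leaf [])
 (.node (nat_lit 58) (.leaf [])
 (.leaf [])))
 (.node (nat_lit 60) (.leaf [])
 (.node (nat_lit 61) (.leaf [nat_lit 6, nat_lit 9])
 (.leaf [nat_lit 6])))))
 (.node (nat_lit 68) (.node (nat_lit 65) (.node (nat_lit 63) (.leaf [nat_lit 6, nat_lit 8])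
 (.node (nat_lit 64) (.leaf [nat_lit 6])
 (.leaf [nat_lit 6, nat_lit 9])))
 (.node (nat_lit 66) (.leaf [nat_lit 6, nat_lit 9])
 (.node (nat_lit 67) (.leaf [])
 (.leaf []))))
 (.node (nat_lit 71) (.node (nat_lit 69) (.leaf [])
 (.node (nat_lit 70) (.leaf [])
 (.leaf [nat_lit 7])))
 (.node (nat_lit 73) (.node (nat_lit 72) (.leaf [nat_lit 7])
 (.leaf [nat_lit 7]))
 (.node (nat_lit 74) (.leaf [nat_lit 7, nat_lit 9])
 (.leaf [nat_lit 7]))))))
 (.node (nat_lit 87) (.node (nat_lit 81) (.node (nat_lit 78) (.node (nat_lit 76) (.leaf [nat_lit 7])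
 (.node (nat_lit 77) (.leaf [nat_lit 7])
 (.leaf [])))
 (.node (nat_lit 79) (.leaf [])
 (.node (nat_lit 80) (.leaf [])
 (.leaf [nat_lit 8, nat_lit 9]))))
 (.node (nat_lit 84) (.node (nat_lit 82) (.leaf [nat_lit 8, nat_lit 9])
 (.node (nat_lit 83) (.leaf [nat_lit 8])
 (.leaf [nat_lit 8])))
 (.node (nat_lit 85) (.leaf [nat_lit 8])
 (.node (nat_lit 86) (.leaf [nat_lit 8])
 (.leaf [nat_lit 8])))))
 (.node (nat_lit 93) (.node (nat_lit 90) (.node (nat_lit 88) (.leaf [nat_lit 8])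
 (.node (nat_lit 89) (.leaf [])
 (.leaf [])))
 (.node (nat_lit 91) (.leaf [nat_lit 9])
 (.node (nat_lit 92) (.leaf [nat_lit 9])
 (.leaf [nat_lit 9]))))
 (.node (nat_lit 96) (.node (nat_lit 94) (.leaf [nat_lit 9])
 (.node (nat_lit 95) (.leaf [nat_lit 9])
 (.leaf [nat_lit 9])))
 (.node (nat_lit 98) (.node (nat_lit 97) (.leaf [nat_lit 9])
 (.leaf [nat_lit 9]))
 (.node (nat_lit 99) (.leaf [nat_lit 9])
 (.leaf []))))))))
noncomputable def h2F : Tr (ℕ × List ℕ × List ℕ) := (.node (nat_lit 18) (.node (nat_lit 9) (.node (nat_lit 4) (.node (nat_lit 2) (.node (nat_lit 1) (.leaf ((nat_lit 10), [nat_lit 0], [nat_lit 0, nat_lit 4, nat_lit 7, nat_lit 9]))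
 (.leaf ((nat_lit 10), [nat_lit 1], [nat_lit 5, nat_lit 7])))
 (.node (nat_lit 3) (.leaf ((nat_lit 10), [nat_lit 3], [nat_lit 3, nat_lit 9]))
 (.leaf ((nat_lit 10), [nat_lit 4], [nat_lit 0, nat_lit 9]))))
 (.node (nat_lit 6) (.node (nat_lit 5) (.leaf ((nat_lit 10), [nat_lit 5], [nat_lit 1, nat_lit 5, nat_lit 9]))
 (.leaf ((nat_lit 10), [nat_lit 6], [nat_lit 8, nat_lit 9])))
 (.node (nat_lit 7) (.leaf ((nat_lit 10), [nat_lit 7], [nat_lit 7]))
 (.node (nat_lit 8) (.leaf ((nat_lit 10), [nat_lit 8], [nat_lit 6, nat_lit 8, nat_lit 9]))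
 (.leaf ((nat_lit 10), [nat_lit 9], [nat_lit 9]))))))
 (.node (nat_lit 13) (.node (nat_lit 11) (.node (nat_lit 10) (.leaf ((nat_lit 11), [nat_lit 0], [nat_lit 0]))
 (.leaf ((nat_lit 11), [nat_lit 2], [nat_lit 4, nat_lit 5, nat_lit 7])))
 (.node (nat_lit 12) (.leaf ((nat_lit 11), [nat_lit 3], [nat_lit 3, nat_lit 9]))
 (.leaf ((nat_lit 11), [nat_lit 4], [nat_lit 7]))))
 (.node (nat_lit 15) (.node (nat_lit 14) (.leaf ((nat_lit 11), [nat_lit 5], [nat_lit 2, nat_lit 4, nat_lit 7, nat_lit 8, nat_lit 9]))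
 (.leaf ((nat_lit 11), [nat_lit 6], [nat_lit 3, nat_lit 6, nat_lit 8])))
 (.node (nat_lit 16) (.leaf ((nat_lit 11), [nat_lit 7], [nat_lit 4, nat_lit 9]))
 (.node (nat_lit 17) (.leaf ((nat_lit 11), [nat_lit 8], [nat_lit 8]))
 (.leaf ((nat_lit 11), [nat_lit 9], [nat_lit 9])))))))
 (.node (nat_lit 27) (.node (nat_lit 22) (.node (nat_lit 20) (.node (nat_lit 19) (.leaf ((nat_lit 12), [nat_lit 0], [nat_lit 1, nat_lit 6, nat_lit 7, nat_lit 9]))
 (.leaf ((nat_lit 12), [nat_lit 1], [nat_lit 0])))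
 (.node (nat_lit 21) (.leaf ((nat_lit 12), [nat_lit 2], [nat_lit 2, nat_lit 4, nat_lit 5, nat_lit 8, nat_lit 9]))
 (.leaf ((nat_lit 12), [nat_lit 4], [nat_lit 5, nat_lit 7, nat_lit 8]))))
 (.node (nat_lit 24) (.node (nat_lit 23) (.leaf ((nat_lit 12), [nat_lit 5], [nat_lit 4, nat_lit 7, nat_lit 9]))
 (.leaf ((nat_lit 12), [nat_lit 6], [nat_lit 0, nat_lit 1, nat_lit 5])))
 (.node (nat_lit 25) (.leaf ((nat_lit 12), [nat_lit 7], [nat_lit 7, nat_lit 9]))
 (.node (nat_lit 26) (.leaf ((nat_lit 12), [nat_lit 8], [nat_lit 4, nat_lit 5, nat_lit 7]))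
 (.leaf ((nat_lit 12), [nat_lit 9], [nat_lit 7]))))))
 (.node (nat_lit 31) (.node (nat_lit 29) (.node (nat_lit 28) (.leaf ((nat_lit 13), [nat_lit 0, nat_lit 1], [nat_lit 0, nat_lit 1, nat_lit 2, nat_lit 6, nat_lit 7]))
 (.leaf ((nat_lit 13), [nat_lit 2], [nat_lit 2, nat_lit 4, nat_lit 5, nat_lit 7])))
 (.node (nat_lit 30) (.leaf ((nat_lit 13), [nat_lit 3], [nat_lit 3, nat_lit 6, nat_lit 8, nat_lit 9]))
 (.leaf ((nat_lit 13), [nat_lit 4], [nat_lit 2, nat_lit 5]))))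
 (.node (nat_lit 33) (.node (nat_lit 32) (.leaf ((nat_lit 13), [nat_lit 5], [nat_lit 2, nat_lit 5, nat_lit 7, nat_lit 9]))
 (.leaf ((nat_lit 13), [nat_lit 6], [nat_lit 6])))
 (.node (nat_lit 34) (.leaf ((nat_lit 13), [nat_lit 7], [nat_lit 4, nat_lit 5, nat_lit 8, nat_lit 9]))
 (.node (nat_lit 35) (.leaf ((nat_lit 13), [nat_lit 8], [nat_lit 8]))
 (.leaf ((nat_lit 13), [nat_lit 9], [nat_lit 8, nat_lit 9]))))))))
noncomputable def h2A : List (List ℕ × ℕ × ℕ) := [([nat_lit 1], (nat_lit 1), (nat_lit 0)),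
  ([nat_lit 2], (nat_lit 2), (nat_lit 0)),
  ([nat_lit 2], (nat_lit 2), (nat_lit 1)),
  ([nat_lit 3], (nat_lit 3), (nat_lit 0)),
  ([nat_lit 3], (nat_lit 3), (nat_lit 1)),
  ([nat_lit 3], (nat_lit 3), (nat_lit 2)),
  ([nat_lit 4], (nat_lit 4), (nat_lit 1)),
  ([nat_lit 4], (nat_lit 4), (nat_lit 3)),
  ([nat_lit 5], (nat_lit 5), (nat_lit 0)),
  ([nat_lit 5], (nat_lit 5), (nat_lit 3)),
  ([nat_lit 6], (nat_lit 6), (nat_lit 0)),
  ([nat_lit 6], (nat_lit 6), (nat_lit 2)),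
  ([nat_lit 7], (nat_lit 7), (nat_lit 3)),
  ([nat_lit 8], (nat_lit 8), (nat_lit 0)),
  ([nat_lit 9], (nat_lit 1), (nat_lit 0)),
  ([nat_lit 7], (nat_lit 2), (nat_lit 0)),
  ([nat_lit 9], (nat_lit 2), (nat_lit 1)),
  ([nat_lit 1], (nat_lit 0), (nat_lit 0)),
  ([nat_lit 2], (nat_lit 0), (nat_lit 0)),
  ([nat_lit 2], (nat_lit 1), (nat_lit 1)),
  ([nat_lit 3], (nat_lit 0), (nat_lit 0)),
  ([nat_lit 3], (nat_lit 1), (nat_lit 1)),
  ([nat_lit 3], (nat_lit 2), (nat_lit 2)),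
  ([nat_lit 8], (nat_lit 1), (nat_lit 1)),
  ([nat_lit 7], (nat_lit 6), (nat_lit 2)),
  ([nat_lit 6], (nat_lit 1), (nat_lit 0)),
  ([nat_lit 4], (nat_lit 2), (nat_lit 1)),
  ([nat_lit 6], (nat_lit 4), (nat_lit 2)),
  ([nat_lit 6], (nat_lit 5), (nat_lit 2)),
  ([nat_lit 8], (nat_lit 3), (nat_lit 1)),
  ([nat_lit 6], (nat_lit 2), (nat_lit 1)),
  ([nat_lit 3], (nat_lit 2), (nat_lit 0)),
  ([nat_lit 4], (nat_lit 3), (nat_lit 1)),
  ([nat_lit 3], (nat_lit 1), (nat_lit 0)),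
  ([nat_lit 3], (nat_lit 2), (nat_lit 1)),
  ([nat_lit 2], (nat_lit 1), (nat_lit 0)),
  ([nat_lit 6], (nat_lit 2), (nat_lit 0))]
noncomputable def h2B : List (ℕ × List ℕ × List ℕ) := [((nat_lit 10), [nat_lit 1, nat_lit 1], []),
  ((nat_lit 10), [nat_lit 3, nat_lit 3], []),
  ((nat_lit 10), [nat_lit 5, nat_lit 5], []),
  ((nat_lit 10), [nat_lit 6, nat_lit 2], [nat_lit 2, nat_lit 6, nat_lit 8]),
  ((nat_lit 10), [nat_lit 3, nat_lit 2], [nat_lit 2, nat_lit 3, nat_lit 8]),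
  ((nat_lit 10), [nat_lit 3, nat_lit 1], [nat_lit 1, nat_lit 3, nat_lit 6]),
  ((nat_lit 10), [nat_lit 1, nat_lit 0], [nat_lit 0, nat_lit 1, nat_lit 6]),
  ((nat_lit 11), [nat_lit 12, nat_lit 12], []),
  ((nat_lit 11), [nat_lit 10, nat_lit 10], []),
  ((nat_lit 11), [nat_lit 14, nat_lit 14], []),
  ((nat_lit 11), [nat_lit 13, nat_lit 11], [nat_lit 11, nat_lit 13, nat_lit 16]),
  ((nat_lit 11), [nat_lit 14, nat_lit 10], [nat_lit 10, nat_lit 14, nat_lit 16]),
  ((nat_lit 12), [nat_lit 19, nat_lit 19], []),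
  ((nat_lit 12), [nat_lit 23, nat_lit 19], [nat_lit 19, nat_lit 23]),
  ((nat_lit 13), [nat_lit 33, nat_lit 32], [nat_lit 32, nat_lit 33])]
noncomputable def h2X : Tr ℕ := (.node (nat_lit 5) (.node (nat_lit 2) (.node (nat_lit 1) (.leaf (nat_lit 0x0))
 (.leaf (nat_lit 0x0)))
 (.node (nat_lit 3) (.leaf (nat_lit 0x0))
 (.node (nat_lit 4) (.leaf (nat_lit 0x0))
 (.leaf (nat_lit 0x10000000000000000000000000000000000000000)))))
 (.node (nat_lit 7) (.node (nat_lit 6) (.leaf (nat_lit 0x1000000000000000000000000000000000000000000))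
 (.leaf (nat_lit 0x100000000000000000000000000000000000000000000000000000000000000)))
 (.node (nat_lit 8) (.leaf (nat_lit 0x100000000000000000000))
 (.node (nat_lit 9) (.leaf (nat_lit 0x10000000000000000000000000000000000000000000000000000000000000000))
 (.leaf (nat_lit 0x1000000000000000000000000000000000000000000000000000000000000))))))
noncomputable def h2D : Tr ℕ := (.node (nat_lit 50) (.node (nat_lit 25) (.node (nat_lit 12) (.node (nat_lit 6) (.node (nat_lit 3) (.node (nat_lit 1) (.leaf (nat_lit 0x0))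
 (.node (nat_lit 2) (.leaf (nat_lit 0x0))
 (.leaf (nat_lit 0x0))))
 (.node (nat_lit 4) (.leaf (nat_lit 0x0))
 (.node (nat_lit 5) (.leaf (nat_lit 0x0))
 (.leaf (nat_lit 0x0)))))
 (.node (nat_lit 9) (.node (nat_lit 7) (.leaf (nat_lit 0x0))
 (.node (nat_lit 8) (.leaf (nat_lit 0x0))
 (.leaf (nat_lit 0x0))))
 (.node (nat_lit 10) (.leaf (nat_lit 0x0))
 (.node (nat_lit 11) (.leaf (nat_lit 0x0))
 (.leaf (nat_lit 0x0))))))
 (.node (nat_lit 18) (.node (nat_lit 15) (.node (nat_lit 13) (.leaf (nat_lit 0x0))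
 (.node (nat_lit 14) (.leaf (nat_lit 0x0))
 (.leaf (nat_lit 0x0))))
 (.node (nat_lit 16) (.leaf (nat_lit 0x0))
 (.node (nat_lit 17) (.leaf (nat_lit 0x0))
 (.leaf (nat_lit 0x0)))))
 (.node (nat_lit 21) (.node (nat_lit 19) (.leaf (nat_lit 0x0))
 (.node (nat_lit 20) (.leaf (nat_lit 0x0))
 (.leaf (nat_lit 0x0))))
 (.node (nat_lit 23) (.node (nat_lit 22) (.leaf (nat_lit 0x0))
 (.leaf (nat_lit 0x0)))
 (.node (nat_lit 24) (.leaf (nat_lit 0x0))
 (.leaf (nat_lit 0x0)))))))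
 (.node (nat_lit 37) (.node (nat_lit 31) (.node (nat_lit 28) (.node (nat_lit 26) (.leaf (nat_lit 0x0))
 (.node (nat_lit 27) (.leaf (nat_lit 0x0))
 (.leaf (nat_lit 0x0))))
 (.node (nat_lit 29) (.leaf (nat_lit 0x0))
 (.node (nat_lit 30) (.leaf (nat_lit 0x0))
 (.leaf (nat_lit 0x0)))))
 (.node (nat_lit 34) (.node (nat_lit 32) (.leaf (nat_lit 0x0))
 (.node (nat_lit 33) (.leaf (nat_lit 0x0))
 (.leaf (nat_lit 0x0))))
 (.node (nat_lit 35) (.leaf (nat_lit 0x0))
 (.node (nat_lit 36) (.leaf (nat_lit 0x0))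
 (.leaf (nat_lit 0x0))))))
 (.node (nat_lit 43) (.node (nat_lit 40) (.node (nat_lit 38) (.leaf (nat_lit 0x0))
 (.node (nat_lit 39) (.leaf (nat_lit 0x0))
 (.leaf (nat_lit 0x0))))
 (.node (nat_lit 41) (.leaf (nat_lit 0x0))
 (.node (nat_lit 42) (.leaf (nat_lit 0x0))
 (.leaf (nat_lit 0x0)))))
 (.node (nat_lit 46) (.node (nat_lit 44) (.leaf (nat_lit 0x0))
 (.node (nat_lit 45) (.leaf (nat_lit 0x0))
 (.leaf (nat_lit 0x0))))
 (.node (nat_lit 48) (.node (nat_lit 47) (.leaf (nat_lit 0x0))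
 (.leaf (nat_lit 0x0)))
 (.node (nat_lit 49) (.leaf (nat_lit 0x0))
 (.leaf (nat_lit 0x0))))))))
 (.node (nat_lit 75) (.node (nat_lit 62) (.node (nat_lit 56) (.node (nat_lit 53) (.node (nat_lit 51) (.leaf (nat_lit 0x0))
 (.node (nat_lit 52) (.leaf (nat_lit 0x0))
 (.leaf (nat_lit 0x0))))
 (.node (nat_lit 54) (.leaf (nat_lit 0x0))
 (.node (nat_lit 55) (.leaf (nat_lit 0x0))
 (.leaf (nat_lit 0x0)))))
 (.node (nat_lit 59) (.node (nat_lit 57) (.leaf (nat_lit 0x0))
 (.node (nat_lit 58) (.leaf (nat_lit 0x0))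
 (.leaf (nat_lit 0x0))))
 (.node (nat_lit 60) (.leaf (nat_lit 0x0))
 (.node (nat_lit 61) (.leaf (nat_lit 0x0))
 (.leaf (nat_lit 0x0))))))
 (.node (nat_lit 68) (.node (nat_lit 65) (.node (nat_lit 63) (.leaf (nat_lit 0x0))
 (.node (nat_lit 64) (.leaf (nat_lit 0x0))
 (.leaf (nat_lit 0x0))))
 (.node (nat_lit 66) (.leaf (nat_lit 0x0))
 (.node (nat_lit 67) (.leaf (nat_lit 0x0))
 (.leaf (nat_lit 0x0)))))
 (.node (nat_lit 71) (.node (nat_lit 69) (.leaf (nat_lit 0x0))
 (.node (nat_lit 70) (.leaf (nat_lit 0x0))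
 (.leaf (nat_lit 0x0))))
 (.node (nat_lit 73) (.node (nat_lit 72) (.leaf (nat_lit 0x0))
 (.leaf (nat_lit 0x0)))
 (.node (nat_lit 74) (.leaf (nat_lit 0x0))
 (.leaf (nat_lit 0x0)))))))
 (.node (nat_lit 87) (.node (nat_lit 81) (.node (nat_lit 78) (.node (nat_lit 76) (.leaf (nat_lit 0x0))
 (.node (nat_lit 77) (.leaf (nat_lit 0x0))
 (.leaf (nat_lit 0x0))))
 (.node (nat_lit 79) (.leaf (nat_lit 0x0))
 (.node (nat_lit 80) (.leaf (nat_lit 0x0))
 (.leaf (nat_lit 0x0)))))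
 (.node (nat_lit 84) (.node (nat_lit 82) (.leaf (nat_lit 0x0))
 (.node (nat_lit 83) (.leaf (nat_lit 0x0))
 (.leaf (nat_lit 0x0))))
 (.node (nat_lit 85) (.leaf (nat_lit 0x0))
 (.node (nat_lit 86) (.leaf (nat_lit 0x0))
 (.leaf (nat_lit 0x0))))))
 (.node (nat_lit 93) (.node (nat_lit 90) (.node (nat_lit 88) (.leaf (nat_lit 0x0))
 (.node (nat_lit 89) (.leaf (nat_lit 0x0))
 (.leaf (nat_lit 0x0))))
 (.node (nat_lit 91) (.leaf (nat_lit 0x0))
 (.node (nat_lit 92) (.leaf (nat_lit 0x0))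
 (.leaf (nat_lit 0x0)))))
 (.node (nat_lit 96) (.node (nat_lit 94) (.leaf (nat_lit 0x0))
 (.node (nat_lit 95) (.leaf (nat_lit 0x0))
 (.leaf (nat_lit 0x0))))
 (.node (nat_lit 98) (.node (nat_lit 97) (.leaf (nat_lit 0x0))
 (.leaf (nat_lit 0x0)))
 (.node (nat_lit 99) (.leaf (nat_lit 0x0))
 (.leaf (nat_lit 0x0)))))))))
noncomputable def h2Y : Tr ℕ := (.node (nat_lit 50) (.node (nat_lit 25) (.node (nat_lit 12) (.node (nat_lit 6) (.node (nat_lit 3) (.node (nat_lit 1) (.leaf (nat_lit 0x10000000000010000000000000000000000000000000000010000000001000000000000000001000000000000))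
 (.node (nat_lit 2) (.leaf (nat_lit 0x0))
 (.leaf (nat_lit 0x0))))
 (.node (nat_lit 4) (.leaf (nat_lit 0x0))
 (.node (nat_lit 5) (.leaf (nat_lit 0x0))
 (.leaf (nat_lit 0x0)))))
 (.node (nat_lit 9) (.node (nat_lit 7) (.leaf (nat_lit 0x0))
 (.node (nat_lit 8) (.leaf (nat_lit 0x0))
 (.leaf (nat_lit 0x0))))
 (.node (nat_lit 10) (.leaf (nat_lit 0x0))
 (.node (nat_lit 11) (.leaf (nat_lit 0x0))
 (.leaf (nat_lit 0x100000000010000000000010000000000000000000000000000000000010000000001000000000000000001000000000000))))))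
 (.node (nat_lit 18) (.node (nat_lit 15) (.node (nat_lit 13) (.leaf (nat_lit 0x0))
 (.node (nat_lit 14) (.leaf (nat_lit 0x0))
 (.leaf (nat_lit 0x0))))
 (.node (nat_lit 16) (.leaf (nat_lit 0x0))
 (.node (nat_lit 17) (.leaf (nat_lit 0x0))
 (.leaf (nat_lit 0x0)))))
 (.node (nat_lit 21) (.node (nat_lit 19) (.leaf (nat_lit 0x0))
 (.node (nat_lit 20) (.leaf (nat_lit 0x0))
 (.leaf (nat_lit 0x0))))
 (.node (nat_lit 23) (.node (nat_lit 22) (.leaf (nat_lit 0x0))
 (.leaf (nat_lit 0x10100000001000101000001010100010000000000010000010000000001010000000000000100010100000000000001000000)))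
 (.node (nat_lit 24) (.leaf (nat_lit 0x0))
 (.leaf (nat_lit 0x0)))))))
 (.node (nat_lit 37) (.node (nat_lit 31) (.node (nat_lit 28) (.node (nat_lit 26) (.leaf (nat_lit 0x0))
 (.node (nat_lit 27) (.leaf (nat_lit 0x0))
 (.leaf (nat_lit 0x0))))
 (.node (nat_lit 29) (.leaf (nat_lit 0x0))
 (.node (nat_lit 30) (.leaf (nat_lit 0x0))
 (.leaf (nat_lit 0x0)))))
 (.node (nat_lit 34) (.node (nat_lit 32) (.leaf (nat_lit 0x0))
 (.node (nat_lit 33) (.leaf (nat_lit 0x0))
 (.leaf (nat_lit 0x100000000000001000000000000000000000000000000000000000000000000000100010000000000010100000000))))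
 (.node (nat_lit 35) (.leaf (nat_lit 0x0))
 (.node (nat_lit 36) (.leaf (nat_lit 0x0))
 (.leaf (nat_lit 0x0))))))
 (.node (nat_lit 43) (.node (nat_lit 40) (.node (nat_lit 38) (.leaf (nat_lit 0x0))
 (.node (nat_lit 39) (.leaf (nat_lit 0x0))
 (.leaf (nat_lit 0x0))))
 (.node (nat_lit 41) (.leaf (nat_lit 0x10000000000000000000000000000000000000000000000000001000001000000000000000001000000000000))
 (.node (nat_lit 42) (.leaf (nat_lit 0x10000000000000000000001000000010000000000010000010000000001000000000001000100010100010000000001000000))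
 (.leaf (nat_lit 0x10000000000000000000000000000000000000000000000000000000001000000000000000001000000000100)))))
 (.node (nat_lit 46) (.node (nat_lit 44) (.leaf (nat_lit 0x10100000000000000000000000000000000000000010000000000000001000000000000000001000000))
 (.node (nat_lit 45) (.leaf (nat_lit 0x10000000000000000000000000000000000000000000000000000000001000000000000000001000000000000))
 (.leaf (nat_lit 0x0))))
 (.node (nat_lit 48) (.node (nat_lit 47) (.leaf (nat_lit 0x0))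
 (.leaf (nat_lit 0x0)))
 (.node (nat_lit 49) (.leaf (nat_lit 0x0))
 (.leaf (nat_lit 0x0))))))))
 (.node (nat_lit 75) (.node (nat_lit 62) (.node (nat_lit 56) (.node (nat_lit 53) (.node (nat_lit 51) (.leaf (nat_lit 0x10000000000000000000001000000000000000000010000000000000001000000000000000100010100010000000001000000))
 (.node (nat_lit 52) (.leaf (nat_lit 0x100000000010000000000010100000000000000000000000000000000010100000001000000000000010001000000000000))
 (.leaf (nat_lit 0x100000000010000000000010100000000000000000000000000000000010000000001000000000000010001000000010000))))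
 (.node (nat_lit 54) (.leaf (nat_lit 0x1000001010000000000000000000000000100000001000100000001000000000000000100000001000101000100010001000000))
 (.node (nat_lit 55) (.leaf (nat_lit 0x10000000000000101000001000000010000000000010000010000000001000000000001000100010100000000000001000000))
 (.leaf (nat_lit 0x100000000010000000000010100000000000000000000000000000000010000000001000000000000010001000000000000)))))
 (.node (nat_lit 59) (.node (nat_lit 57) (.leaf (nat_lit 0x0))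
 (.node (nat_lit 58) (.leaf (nat_lit 0x0))
 (.leaf (nat_lit 0x0))))
 (.node (nat_lit 60) (.leaf (nat_lit 0x0))
 (.node (nat_lit 61) (.leaf (nat_lit 0x10100000001000001010100000000000000000000010000000000010001000000000000000001000000))
 (.leaf (nat_lit 0x1000000000000000000010000000000000001000000000000000100010100000000000001000000))))))
 (.node (nat_lit 68) (.node (nat_lit 65) (.node (nat_lit 63) (.leaf (nat_lit 0x1000001010000000000000000000000000000000000010100000001000000000000000100010100010000000100010000000000))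
 (.node (nat_lit 64) (.leaf (nat_lit 0x1000000000000000000010000000000000000000000000000000100010100000000000101000000))
 (.leaf (nat_lit 0x10100000001000000000100000000000000000000010000000000010000000000000000000001000000))))
 (.node (nat_lit 66) (.leaf (nat_lit 0x1000000000000000000010100000001000000000100010000000100010000010000000100010001000000000000000000000000))
 (.node (nat_lit 67) (.leaf (nat_lit 0x1000000000000000000010000000000000000000000000000000100010100000000000001000000))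
 (.leaf (nat_lit 0x0)))))
 (.node (nat_lit 71) (.node (nat_lit 69) (.leaf (nat_lit 0x0))
 (.node (nat_lit 70) (.leaf (nat_lit 0x0))
 (.leaf (nat_lit 0x10001000000000000000001000000000000))))
 (.node (nat_lit 73) (.node (nat_lit 72) (.leaf (nat_lit 0x1000000000000000001000000000001))
 (.leaf (nat_lit 0x10000000000000101000001000000010000000000010000000000000001000000000000000100010100010001000001000000)))
 (.node (nat_lit 74) (.leaf (nat_lit 0x10100000001000000010100000000000100000000010000000000000000000000000000000001000000))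
 (.leaf (nat_lit 0x1000000000000000000000000000000)))))))
 (.node (nat_lit 87) (.node (nat_lit 81) (.node (nat_lit 78) (.node (nat_lit 76) (.leaf (nat_lit 0x1000000000000010001000000000000))
 (.node (nat_lit 77) (.leaf (nat_lit 0x100010000000000000000000001000000000000000000000000))
 (.leaf (nat_lit 0x1000000000000000001000000000000))))
 (.node (nat_lit 79) (.leaf (nat_lit 0x0))
 (.node (nat_lit 80) (.leaf (nat_lit 0x0))
 (.leaf (nat_lit 0x10100000000000000000100000001000000000000010000000000010100000000000100000001000000)))))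
 (.node (nat_lit 84) (.node (nat_lit 82) (.leaf (nat_lit 0x1000000000000000000010100000001000000000101000000000100010000010000000100000100010101000000000001000000))
 (.node (nat_lit 83) (.leaf (nat_lit 0x10000000000000100000000000000000000010100000000000001000000))
 (.leaf (nat_lit 0x10000000000000000000000000000000000010100000000010001000000))))
 (.node (nat_lit 85) (.leaf (nat_lit 0x10101000000000000000000000000000000010101000000000001000000))
 (.node (nat_lit 86) (.leaf (nat_lit 0x10000000000000000000000000000000000010101000000000001000000))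
 (.leaf (nat_lit 0x10000000000000000000000000000000000000100000000000001000000))))))
 (.node (nat_lit 93) (.node (nat_lit 90) (.node (nat_lit 88) (.leaf (nat_lit 0x1000000000000000000000000000000000000000000000000))
 (.node (nat_lit 89) (.leaf (nat_lit 0x10000000000000000000000000000000000010100000000000001000000))
 (.leaf (nat_lit 0x0))))
 (.node (nat_lit 91) (.leaf (nat_lit 0x10000000000010001000000000000000000000000))
 (.node (nat_lit 92) (.leaf (nat_lit 0x10000000000000000010001000000000000000000000000))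
 (.leaf (nat_lit 0x10100000000000000000000000000010101010101000000000001000000)))))
 (.node (nat_lit 96) (.node (nat_lit 94) (.leaf (nat_lit 0x10001000000000000000001000000))
 (.node (nat_lit 95) (.leaf (nat_lit 0x10001000000000100000000000000))
 (.leaf (nat_lit 0x100000000000000000000000000000000))))
 (.node (nat_lit 98) (.node (nat_lit 97) (.leaf (nat_lit 0x10001000100000000000000000000))
 (.leaf (nat_lit 0x10000000000000000000000000000)))
 (.node (nat_lit 99) (.leaf (nat_lit 0x10101000000000000000000000000))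
 (.leaf (nat_lit 0x10001000000000000000000000000)))))))))
noncomputable def h2H : Holt := ⟨(nat_lit 2), (nat_lit 2), (nat_lit 10), (nat_lit 136), (nat_lit 29), h2W, (nat_lit 36), h2F, h2A, h2B, h2X, [], h2D, h2Y⟩
noncomputable def h2L : List (ℕ × List (List ℕ)) := [((nat_lit 0), [[nat_lit 0], [nat_lit 4], [nat_lit 7]]),
  ((nat_lit 7), [[nat_lit 1]]),
  ((nat_lit 5), [[nat_lit 2, nat_lit 7], [nat_lit 5]]),
  ((nat_lit 1), [[nat_lit 3], [nat_lit 6], [nat_lit 8], [nat_lit 9]])]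
theorem h2r : h2H.relChk (weqOn (nat_lit 5) (nat_lit 31) h2T B) = true := by decide +kernel
theorem h2l : h2H.linChk = true := by decide +kernel
theorem h2 : ¬ 2 ^ (0 + 1) ∣ Nat.card (L.SM P) :=
  holt_bound h2lets.rep (ofNat_inj 24) base.1 base.2 h2H 0 h2L (show Nat.Prime 2 by norm_num)
    (by rw [card]; decide +kernel) (by decide +kernel) h2r h2l

noncomputable def h3t0 : ℕ := (nat_lit 0xaa5e1b2072bd1476ae7011486031d1)
noncomputable def h3t1 : ℕ := (nat_lit 0x7a5acb40e82516ea9672128d704461)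
noncomputable def h3t2 : ℕ := (nat_lit 0x2d8809c99030ee17d52872daa3d222)
noncomputable def h3t3 : ℕ := (nat_lit 0x3c22544eb611864006497d1cc5dd4d)
noncomputable def h3T_0 : Tr ℕ := (.node (nat_lit 2) (.node (nat_lit 1) (.leaf h3t0)
 (.leaf h3t1))
 (.node (nat_lit 3) (.leaf h3t2)
 (.leaf h3t3)))
noncomputable def h3E_0 : Tr (List ℕ) := (.node (nat_lit 2) (.node (nat_lit 1) (.leaf [nat_lit 4, nat_lit 1, nat_lit 8, nat_lit 5, nat_lit 7, nat_lit 3, nat_lit 0, nat_lit 6, nat_lit 4, nat_lit 3, nat_lit 2, nat_lit 5, nat_lit 3, nat_lit 4, nat_lit 2, nat_lit 0, nat_lit 3, nat_lit 0])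
 (.leaf [nat_lit 7, nat_lit 8, nat_lit 3, nat_lit 7, nat_lit 6, nat_lit 1, nat_lit 6, nat_lit 1, nat_lit 4, nat_lit 5, nat_lit 0, nat_lit 3, nat_lit 0, nat_lit 4, nat_lit 0, nat_lit 3, nat_lit 2, nat_lit 0]))
 (.node (nat_lit 3) (.leaf [nat_lit 7, nat_lit 0, nat_lit 8, nat_lit 6, nat_lit 5, nat_lit 7, nat_lit 1, nat_lit 6, nat_lit 1, nat_lit 3, nat_lit 5, nat_lit 3, nat_lit 4, nat_lit 0])
 (.leaf [nat_lit 0, nat_lit 8, nat_lit 3, nat_lit 1, nat_lit 7, nat_lit 2, nat_lit 1, nat_lit 6, nat_lit 4, nat_lit 0, nat_lit 5, nat_lit 1, nat_lit 3, nat_lit 2, nat_lit 4, nat_lit 0, nat_lit 2, nat_lit 0])))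
noncomputable def h3T : Tr ℕ := h3T_0
noncomputable def h3E : Tr (List ℕ) := h3E_0
theorem h3w_0 : h3T_0.all2 (fun c w => isProd 24 (nat_lit 5) (nat_lit 31) T c w) h3E_0 = true := by decide +kernel
theorem h3lets : Lets P 24 (nat_lit 5) (nat_lit 31) (Fin.ofNat 24) h3T := lets_words lets h3E h3w_0
noncomputable def h3W : Tr (List ℕ) := (.node (nat_lit 4) (.node (nat_lit 2) (.node (nat_lit 1) (.leaf [])
 (.leaf []))
 (.node (nat_lit 3) (.leaf [])
 (.leaf [nat_lit 1, nat_lit 2, nat_lit 2])))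
 (.node (nat_lit 6) (.node (nat_lit 5) (.leaf [])
 (.leaf []))
 (.node (nat_lit 7) (.leaf [nat_lit 2])
 (.node (nat_lit 8) (.leaf [nat_lit 2])
 (.leaf [])))))
noncomputable def h3F : Tr (ℕ × List ℕ × List ℕ) := (.node (nat_lit 1) (.leaf ((nat_lit 3), [nat_lit 0], [nat_lit 1, nat_lit 1]))
 (.node (nat_lit 2) (.leaf ((nat_lit 3), [nat_lit 1], [nat_lit 0]))
 (.leaf ((nat_lit 3), [nat_lit 2], [nat_lit 2]))))
noncomputable def h3A : List (List ℕ × ℕ × ℕ) := [([nat_lit 1, nat_lit 1], (nat_lit 1), (nat_lit 0))]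
noncomputable def h3B : List (ℕ × List ℕ × List ℕ) := [((nat_lit 3), [nat_lit 1, nat_lit 1, nat_lit 1], []),
  ((nat_lit 3), [nat_lit 2, nat_lit 1], [nat_lit 1, nat_lit 2]),
  ((nat_lit 3), [nat_lit 0, nat_lit 0, nat_lit 0], []),
  ((nat_lit 3), [nat_lit 2, nat_lit 0], [nat_lit 0, nat_lit 2])]
noncomputable def h3X : Tr ℕ := (.node (nat_lit 1) (.leaf (nat_lit 0x0))
 (.node (nat_lit 2) (.leaf (nat_lit 0x0))
 (.leaf (nat_lit 0x2000000))))
noncomputable def h3D : Tr ℕ := (.node (nat_lit 4) (.node (nat_lit 2) (.node (nat_lit 1) (.leaf (nat_lit 0x0))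
 (.leaf (nat_lit 0x0)))
 (.node (nat_lit 3) (.leaf (nat_lit 0x0))
 (.leaf (nat_lit 0x0))))
 (.node (nat_lit 6) (.node (nat_lit 5) (.leaf (nat_lit 0x0))
 (.leaf (nat_lit 0x0)))
 (.node (nat_lit 7) (.leaf (nat_lit 0x0))
 (.node (nat_lit 8) (.leaf (nat_lit 0x0))
 (.leaf (nat_lit 0x0))))))
noncomputable def h3Y : Tr ℕ := (.node (nat_lit 4) (.node (nat_lit 2) (.node (nat_lit 1) (.leaf (nat_lit 0x1000200))
 (.leaf (nat_lit 0x0)))
 (.node (nat_lit 3) (.leaf (nat_lit 0x0))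
 (.leaf (nat_lit 0x0))))
 (.node (nat_lit 6) (.node (nat_lit 5) (.leaf (nat_lit 0x1000100))
 (.leaf (nat_lit 0x0)))
 (.node (nat_lit 7) (.leaf (nat_lit 0x100020000))
 (.node (nat_lit 8) (.leaf (nat_lit 0x100010000))
 (.leaf (nat_lit 0x2))))))
noncomputable def h3H : Holt := ⟨(nat_lit 3), (nat_lit 3), (nat_lit 3), (nat_lit 12), (nat_lit 21), h3W, (nat_lit 3), h3F, h3A, h3B, h3X, [], h3D, h3Y⟩
noncomputable def h3L : List (ℕ × List (List ℕ)) := [((nat_lit 8), [[nat_lit 1]]),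
  ((nat_lit 4), [[nat_lit 2]]),
  ((nat_lit 0), [[nat_lit 0, nat_lit 1, nat_lit 2]])]
theorem h3r : h3H.relChk (weqOn (nat_lit 5) (nat_lit 31) h3T B) = true := by decide +kernel
theorem h3l : h3H.linChk = true := by decide +kernel
theorem h3 : ¬ 3 ^ (0 + 1) ∣ Nat.card (L.SM P) :=
  holt_bound h3lets.rep (ofNat_inj 24) base.1 base.2 h3H 0 h3L (show Nat.Prime 3 by norm_num)
    (by rw [card]; decide +kernel) (by decide +kernel) h3r h3l

theorem sm_dvd : Nat.card (L.SM P) ∣ 1 :=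
  SM_dvd 1 [2, 3] 8855 (sqfree_of_chk (by decide +kernel)) 10 (by simp only [List.mem_cons, List.not_mem_nil, or_false, forall_eq_or_imp, forall_eq]; norm_num)
    (by rw [card]; decide +kernel) (by
      simp only [List.mem_cons, List.not_mem_nil, or_false, forall_eq_or_imp, forall_eq]
      exact ⟨⟨0, by norm_num, h2⟩, ⟨0, by norm_num, h3⟩⟩)
theorem mult : Cfsg.HasCyclicSchurMultiplier P 1 := by
  exact hasCyclic_of_exp (by norm_num) sm_dvd (one_dvd _)

end H8.M24
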