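import Cfsg.Agent.H8.HoltD
import Cfsg.Agent.H8.GMcL

/-! H8.MMcLh5: part `h5` of the multiplier computation (generated certificate) -/

set_option autoImplicit false
set_option maxRecDepth 200000

namespace H8.McL

noncomputable def h5t0 : ℕ := (nat_lit 0xf536b129a38e6bc180701907323605e7a7a0b8142324b98fc627e3fd40b913c25fc8c2f4020a763ea555a4e16355ac2263315b4b56025c5646753d416c9128f062cb6bb656c027200dbe3467b0d5c217983c30d21db6dbc9a14b859ac26210a14bd5d8fd70f75a34510528192944f086c094a792ca10b4583f9b1147800209160822999fa5b2a180ee9125840e2370aa1e089d4307d6e286e1f086353099480145620620b2550f99ced55911468f1d1c9270b3813e025c4e4497e92873812c330e9214817318b54c6d84419f6af63b89751172bd8cea84c8e42c68582783c2654af86cec04a14aa98372001c6a3da41120d37c3d1a512804da6f24a3a464dd66304ba3871849deb37c104406b683e5e2e71211d3f0c0d814aca12fbac54a77d1d4081a6a01cae193a3b80ce826134d2c8088059483)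
noncomputable def h5t1 : ℕ := (nat_lit 0x168d90e04074ee584caa4e6261d8505ee0468d46ed84db990a3d1b064dcaf5305c022b65b4440ec608f22090768c46446660441ad73c9c1688053bc4b6ef7abb8bcd90c355d4255d80da08464c09a6de6fb1586fe43351b60057181108c7093c94275092c60b0293cd9ec26217162154f2d55a9a7bbc90edd5b43c70bd71a94521c4f910b2f9322cd490a3a25014104c1bcf70c35238da836715622634984cacaa7a144cf08831245c6b543e96e3f2e94c444e260380ac77eaf872410b2e034e53e1e112756e2f090bf1d08c80124897d64f026a49050d3d28c48474e3a12aa03942d72fb3425c3e437c184ca547b4481869310f850451990836d6389fc680707b91742c603f19b0383c11a48a803fd90e751259d70945b68ec7d332051ee9712744209020b4a00b150183cab3f15e02026341594ac)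
noncomputable def h5t2 : ℕ := (nat_lit 0xd8330e760742e3d579b8b4a63634440085630478cb428045a8647918fc9b2c2a404796ab604a0b6195e202a768c9089d01b2812d35a2011aab18b50e6c9020194edf5d851d2211abf9b25e6bbbe04c6750bc30f5130441ef43e8e55c5281ae486890daf4a8a830359c86d4189d1cdd320b962c0864017d091a3c144447087d163e161d4c4072b2313cf9591c5ca054e1c940fc48a7d34a36e209f4b527c11742371890d6f77917452810e3a18498331d0de5c2fc2db508071256676339ed2a100b24cf49267995602830ad8f10726109780c2392ca2f6272fd149618048d03a253e080154a16470227fae0a63f853ec264d2092188a5349a911060d2a8ff0d73b3548ad5bb1d9c0088c3d905579bf5b6d2228cdd712318292ea1439f0b6d0700ed8b01662643ce2380346e903b941dcde733c60a2b)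
noncomputable def h5t3 : ℕ := (nat_lit 0x39f26d2c2ccf68f223c1ba87133911c431795da2185f2b4e8ba433e926131d9590225672ecce301bb2d680c71a2d865a45090461e6f1398c3e31a94325022ad86a1b08409dea2198b1a6ae34025dceb509552c7c403b61cf134bd48e0365129ecbc80951f061693341ad46d9e0511111250c0e77db2496b04413d470766385b49015930847a70314b6662eb4108aa328b4108582000220f03311120a892f5727d023d17e126ba712a523ac2590774ebb0742a4ba90bc172402c430f81a79d2345618950fd26ae04efe590b80ec71f9ccb241752ad849b57b9872141b1914f0a860f4e04919119346c5497e1708533f122d9391b8048c6aa6434b5793719e6a28814b8b710389ca014c3dc2c79149d83e9f469fd066f1e360fc710e30080c15024a21060e854625386b7de6ff7435a0038411ad6305)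
noncomputable def h5T_0 : Tr ℕ := (.node (nat_lit 2) (.node (nat_lit 1) (.leaf h5t0)
 (.leaf h5t1))
 (.node (nat_lit 3) (.leaf h5t2)
 (.leaf h5t3)))
noncomputable def h5E_0 : Tr (List ℕ) := (.node (nat_lit 2) (.node (nat_lit 1) (.leaf [nat_lit 4, nat_lit 1, nat_lit 5, nat_lit 7, nat_lit 1, nat_lit 5, nat_lit 4, nat_lit 6, nat_lit 3, nat_lit 5, nat_lit 1, nat_lit 5, nat_lit 2, nat_lit 0, nat_lit 3, nat_lit 0])
 (.leaf [nat_lit 0, nat_lit 7, nat_lit 0, nat_lit 7, nat_lit 0, nat_lit 5, nat_lit 4, nat_lit 6, nat_lit 5, nat_lit 0, nat_lit 5, nat_lit 1, nat_lit 3, nat_lit 4, nat_lit 2, nat_lit 0]))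
 (.node (nat_lit 3) (.leaf [nat_lit 5, nat_lit 4, nat_lit 7, nat_lit 3, nat_lit 7, nat_lit 0, nat_lit 3, nat_lit 6, nat_lit 4, nat_lit 1, nat_lit 3, nat_lit 5, nat_lit 2, nat_lit 0, nat_lit 3, nat_lit 0])
 (.leaf [nat_lit 5, nat_lit 2, nat_lit 7, nat_lit 6, nat_lit 1, nat_lit 7, nat_lit 2, nat_lit 6, nat_lit 5, nat_lit 2, nat_lit 6, nat_lit 3, nat_lit 4, nat_lit 1, nat_lit 5, nat_lit 0, nat_lit 4, nat_lit 0])))
noncomputable def h5T : Tr ℕ := h5T_0
noncomputable def h5E : Tr (List ℕ) := h5E_0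
theorem h5w_0 : h5T_0.all2 (fun c w => isProd 275 (nat_lit 9) (nat_lit 511) T c w) h5E_0 = true := by decide +kernel
theorem h5lets : Lets P 275 (nat_lit 9) (nat_lit 511) (Fin.ofNat 275) h5T := lets_words lets h5E h5w_0
noncomputable def h5W : Tr (List ℕ) := (.node (nat_lit 4) (.node (nat_lit 2) (.node (nat_lit 1) (.leaf [])
 (.leaf []))
 (.node (nat_lit 3) (.leaf [])
 (.leaf [nat_lit 1, nat_lit 2, nat_lit 2, nat_lit 2, nat_lit 2])))
 (.node (nat_lit 6) (.node (nat_lit 5) (.leaf [])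
 (.leaf []))
 (.node (nat_lit 7) (.leaf [nat_lit 2])
 (.node (nat_lit 8) (.leaf [nat_lit 2])
 (.leaf [])))))
noncomputable def h5F : Tr (ℕ × List ℕ × List ℕ) := (.node (nat_lit 1) (.leaf ((nat_lit 3), [nat_lit 0], [nat_lit 0, nat_lit 0, nat_lit 1, nat_lit 2, nat_lit 2]))
 (.node (nat_lit 2) (.leaf ((nat_lit 3), [nat_lit 1], [nat_lit 0, nat_lit 0, nat_lit 1, nat_lit 1, nat_lit 1, nat_lit 1, nat_lit 2, nat_lit 2]))
 (.leaf ((nat_lit 3), [nat_lit 2], [nat_lit 2]))))
noncomputable def h5A : List (List ℕ × ℕ × ℕ) := [([nat_lit 1, nat_lit 1, nat_lit 1, nat_lit 1], (nat_lit 1), (nat_lit 0))]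
noncomputable def h5B : List (ℕ × List ℕ × List ℕ) := [((nat_lit 3), [nat_lit 2, nat_lit 0], [nat_lit 0, nat_lit 2]),
  ((nat_lit 3), [nat_lit 2, nat_lit 1], [nat_lit 1, nat_lit 2]),
  ((nat_lit 3), [nat_lit 0, nat_lit 0, nat_lit 0, nat_lit 0, nat_lit 0], []),
  ((nat_lit 3), [nat_lit 1, nat_lit 1, nat_lit 1, nat_lit 1, nat_lit 1], [])]
noncomputable def h5X : Tr ℕ := (.node (nat_lit 1) (.leaf (nat_lit 0x0))
 (.node (nat_lit 2) (.leaf (nat_lit 0x0))
 (.leaf (nat_lit 0x4000000))))
noncomputable def h5D : Tr ℕ := (.node (nat_lit 4) (.node (nat_lit 2) (.node (nat_lit 1) (.leaf (nat_lit 0x0))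
 (.leaf (nat_lit 0x0)))
 (.node (nat_lit 3) (.leaf (nat_lit 0x0))
 (.leaf (nat_lit 0x0))))
 (.node (nat_lit 6) (.node (nat_lit 5) (.leaf (nat_lit 0x0))
 (.leaf (nat_lit 0x0)))
 (.node (nat_lit 7) (.leaf (nat_lit 0x0))
 (.node (nat_lit 8) (.leaf (nat_lit 0x0))
 (.leaf (nat_lit 0x0))))))
noncomputable def h5Y : Tr ℕ := (.node (nat_lit 4) (.node (nat_lit 2) (.node (nat_lit 1) (.leaf (nat_lit 0x403000001))
 (.leaf (nat_lit 0x0)))
 (.node (nat_lit 3) (.leaf (nat_lit 0x0))
 (.leaf (nat_lit 0x0))))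
 (.node (nat_lit 6) (.node (nat_lit 5) (.leaf (nat_lit 0x103000002))
 (.leaf (nat_lit 0x0)))
 (.node (nat_lit 7) (.leaf (nat_lit 0x40300))
 (.node (nat_lit 8) (.leaf (nat_lit 0x10300))
 (.leaf (nat_lit 0x4))))))
noncomputable def h5H : Holt := ⟨(nat_lit 5), (nat_lit 5), (nat_lit 3), (nat_lit 12), (nat_lit 351), h5W, (nat_lit 3), h5F, h5A, h5B, h5X, [], h5D, h5Y⟩
noncomputable def h5c0 : ℕ := (nat_lit 0x10000000000028000000000000000000000000000000000005000000000014000000000000000000000000000000000000)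
noncomputable def h5c1 : ℕ := (nat_lit 0x5000000000000000000000005000000000000000000000004000000000009000000000000000000000000000000000000000000000000000000000000000000000000)
noncomputable def h5c2 : ℕ := (nat_lit 0x5000000000005000000000000000000000000000000000011000000000008000000000000000000000000000000000000000000000000000000000000000000000000)
noncomputable def h5c3 : ℕ := (nat_lit 0x140000000000480000000000c8000000000028000000000000000000000004000000000050000000000000000000000000000000000009)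
noncomputable def h5c4 : ℕ := (nat_lit 0x1400000000000000000000004800000000014000000000003c000000000000000000000011000000000050000000000000000000000000000000000008)
noncomputable def h5C : List ℕ := [h5c0, h5c1, h5c2, h5c3, h5c4]
noncomputable def h5XE : Tr ℕ := (.node (nat_lit 1) (.leaf (nat_lit 0x0))
 (.node (nat_lit 2) (.leaf (nat_lit 0x0))
 (.leaf (nat_lit 0x4000000000000000000000000000000000000))))
noncomputable def h5AE : List ℕ := []
noncomputable def h5HM : ℕ := (nat_lit 0xff0000000000ff0000000000ff0000000000ff0000000000ff0000000000ff0000000000ff0000000000ff0000000000ff0000000000ff0000000000ff0000000000ff0000000000)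
noncomputable def h5L : List (ℕ × List (List ℕ)) := [((nat_lit 0), [[nat_lit 1], [nat_lit 2]]),
  ((nat_lit 1), [[nat_lit 0, nat_lit 1, nat_lit 1, nat_lit 2, nat_lit 2]])]
theorem h5r : h5H.relChk (weqOn (nat_lit 9) (nat_lit 511) h5T B) = true := by decide +kernel
theorem h5a0 : h5H.csR h5C 0 5 = true := by decide +kernel
theorem h5b0 : h5H.rowR h5C h5XE h5AE h5HM (nat_lit 6732000) 0 3 = true := by decide +kernel
theorem h5l : h5H.linChk = true := h5H.linChk_of h5C h5XE h5AE h5HM (nat_lit 6732000) 5 (by decide +kernel)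
  h5a0
  h5b0
theorem h5 : ¬ 5 ^ (0 + 1) ∣ Nat.card (L.SM P) :=
  holt_bound h5lets.rep (ofNat_inj 275) base.1 base.2 h5H 0 h5L (show Nat.Prime 5 by norm_num)
    (by rw [card]; decide +kernel) (by decide +kernel) h5r h5l

end H8.McL
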