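import Cfsg.Agent.H8.GO82

/-! H8.MO82: `mult`, the Schur multiplier of `P` (generated certificate) -/

set_option autoImplicit false
set_option maxRecDepth 200000

namespace H8.O82

noncomputable def h2t0 : ℕ := (nat_lit 0x71133f6560461274494a7b7c1c1b282731537f25208652346e6d02010b0c676821834f35305682245d5e090a0403585761430f75701642642b2c4b4c7d7e171881232f55503622843e3d06050708373841636f15107662442d2e4d4e1e1d787711735f45406672142a297a79191a474851331f85802632540d0e696a5b5c393a3c3b5a596c6b00)
noncomputable def h2t1 : ℕ := (nat_lit 0x2546506f4122745306057c7b0b0c77783516805f11326483191a3a396a6947484526704f2142547303045c5b0e0d57581536607f311284631d1e3e3d4a4967688566300f618214334c4b3c3b6c6b18175576203f715244232d2e0807010228276586102f816234134d4e1c1b6d6e38377556401f517224435a59797a090a2c2b7e7d5d5e292a00)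
noncomputable def h2t2 : ℕ := (nat_lit 0x304650665660364006057c7b797a090a353f555f4f652f45191a08071c1b0304837123112113817347482827383757588274221424128472292a3e3d4a495d5e856f250f1f157f754c4b3c3b2c2b5a5980762016261086702d2e3a394d4e5c5b324452645462344201026a696d6e0e0d334153615163314318170b0c77786c6b7e7d67681d1e00)
noncomputable def h2t3 : ℕ := (nat_lit 0x7473131453543433383757581817777825268685464565664b4c4e4d040305066f70100f504f2f303b3c5b5c1b1c7b7c22218182414262616c6b6d6e0e0d0b0c72711112515232313e3d5d5e1d1e7e7d1f20807f403f5f602e2d2b2c07080a097576161556553536393a595a1a197a7924238384434464634a4947482827292a67686a69010200)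
noncomputable def h2t4 : ℕ := (nat_lit 0x15312541113521454a497b7c696a5c5b132f233f0f331f436d6e4d4e797a5d5e1236224616322642676878774847575810342044143024406b6c4b4c7e7d5a59637f536f5f834f733e3d0506393a0e0d65815571618551752e2d0201292a090a60845074648054701d1e0c0b1a190304628652766682567238371c1b272807083b3c17182c2b00)
noncomputable def h2t5 : ℕ := (nat_lit 0x204455713f2376520b0c7b7c06057877806435115f8316324b4c6c6b3c3b1718402475511f43567203045c5b0e0d5758608415317f6336124e4d6d6e1b1c3837301485610f3366821a196a693a394847507425416f5346222e2d010208072728103465812f1386621e1d494a3e3d6768705445214f7326425a597d7e090a2a297a795d5e2b2c00)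
noncomputable def h2t6 : ℕ := (nat_lit 0x6286725666827652696a7b7c4a495c5b637f734f5f836f534b4c6c6b7e7d595a6581755161857155474878776867575860847054648074504e4d6d6e797a5e5d132f431f0f333f231a190c0b1e1d040312364226163246222e2d01022a29090a10344024143044203a3905063e3d0d0e153145211135412518173b3c272808071c1b37382b2c00)
noncomputable def h2t7 : ℕ := (nat_lit 0x24405672431f755106057c7b0b0c777864801632835f35116d6e4e4d1c1b373844207652233f55710e0d5b5c0304585784603612637f15316c6b4b4c3b3c181714306682330f85613d3e494a1d1e676854702642734f45212e2d01020807272834108662132f6581393a6a69191a484774504622536f25415e5d797a090a2a297e7d595a2b2c00)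
noncomputable def h2t8 : ℕ := (nat_lit 0x668214308561330f06057c7b0c0b7877264254704521734f6d6e4e4d1b1c3837866234106581132f0d0e5c5b03045857462274502541536f6c6b4b4c3b3c1817567224407551431f3d3e494a1e1d6867163264803511835f2e2d010207082827765244205571233f3a39696a191a4847361284601531637f5d5e7a790a09292a7e7d595a2b2c00)
noncomputable def h2t9 : ℕ := (nat_lit 0x44207652233f557105067c7b0c0b777884603612637f15316e6d4d4e1c1b373824405672431f75510d0e5b5c0403585764801632835f35116b6c4c4b3b3c181734108662132f65813e3d494a1e1d676874504622536f25412e2d01020807272814306682330f85613a396a691a19484754702642734f45215d5e7a79090a2a297d7e5a592b2c00)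
noncomputable def h2t10 : ℕ := (nat_lit 0x11120f10151613147e7d7c7b7a79787721221f20252623246e6d6b6c6a69676831322f30353633345d5e5c5b595a585741423f40454643444d4e4c4b4a49474851524f50555653543e3d3c3b393a373861625f60656663642e2d2b2c292a282771726f70757673741d1e1c1b1a19171881827f80858683840d0e0c0b0a09070806050304010200)
noncomputable def h2t11 : ℕ := (nat_lit 0x61625f60656663647d7e7c7b797a787751524f50555653546e6d6c6b696a676881827f80858683845d5e5c5b595a585771726f70757673744e4d4c4b494a474821221f20252623243e3d3b3c3a39373811120f10151613142e2d2c2b2a29282741423f40454643441e1d1b1c1a19171831322f30353633340d0e0b0c0a09080705060304020100)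
noncomputable def h2t12 : ℕ := (nat_lit 0x7f424705520f793715327b58856209285a3b71136a0d60466e4b012c735011363475387a256406481f440a276f547c570e6921833c593056022b6d4c23408166044a41801b5d33763e195370290861862f55177e455f0c672d004e6b3a1d5b785e1c5110490363262a0743203d1a31168422680b72147d184f7435125c77391e65823f244d6c2e)
noncomputable def h2t13 : ℕ := (nat_lit 0x838011165f643532696a1a194847393a4f5445427370212658575b5c04030d0e7f8415126360313668671e1d494a3d3e535041466f74252278777b7c0c0b0506868110136265342f6d6e1c1b4d4e38375255443f767120232d2e2827010208078285140f666130336c6b18174c4b3c3b565140437275241f5d5e5a59292a2c2b797a7e7d090a00)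
noncomputable def h2t14 : ℕ := (nat_lit 0x823f0f524f12427f1817282768675857307161202160703102014b4c4a49030435746425246575340b0c7c7b7d7e0a0983461653561343866d6e2c2b1c1b5d5e337666232663733608073c3b3d3e0d0e85441455541545842e2d6b6c1d1e5c5b8041115051104081191a6a692a29595a326f5f221f62722f050648477877393a3837797a4d4e00)
noncomputable def h2t15 : ℕ := (nat_lit 0x8424228274141272797a7b7c0506090a60404666503036563d3e5d5e494a292a64444262543432523a395c5b4e4d2e2d80202686701016760e0d6e6d6a6902018323218173131171191a1b1c030407085f3f45654f2f3555575837384748272863434161533331515a593c3b4c4b2c2b7f1f25856f0f15751e1d7e7d787718170c0b6c6b686700)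
noncomputable def h2T_0 : Tr ℕ := (.node (nat_lit 8) (.node (nat_lit 4) (.node (nat_lit 2) (.node (nat_lit 1) (.leaf h2t0)
 (.leaf h2t1))
 (.node (nat_lit 3) (.leaf h2t2)
 (.leaf h2t3)))
 (.node (nat_lit 6) (.node (nat_lit 5) (.leaf h2t4)
 (.leaf h2t5))
 (.node (nat_lit 7) (.leaf h2t6)
 (.leaf h2t7))))
 (.node (nat_lit 12) (.node (nat_lit 10) (.node (nat_lit 9) (.leaf h2t8)
 (.leaf h2t9))
 (.node (nat_lit 11) (.leaf h2t10)
 (.leaf h2t11)))
 (.node (nat_lit 14) (.node (nat_lit 13) (.leaf h2t12)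
 (.leaf h2t13))
 (.node (nat_lit 15) (.leaf h2t14)
 (.leaf h2t15)))))
noncomputable def h2E_0 : Tr (List ℕ) := (.node (nat_lit 8) (.node (nat_lit 4) (.node (nat_lit 2) (.node (nat_lit 1) (.leaf [nat_lit 11, nat_lit 8, nat_lit 11, nat_lit 8, nat_lit 9, nat_lit 5, nat_lit 4, nat_lit 0])
 (.leaf [nat_lit 9, nat_lit 11, nat_lit 8, nat_lit 11, nat_lit 9, nat_lit 3, nat_lit 10, nat_lit 8, nat_lit 7, nat_lit 4, nat_lit 2, nat_lit 0]))
 (.node (nat_lit 3) (.leaf [nat_lit 3, nat_lit 6, nat_lit 11, nat_lit 6, nat_lit 4, nat_lit 3, nat_lit 2, nat_lit 1])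
 (.leaf [nat_lit 11, nat_lit 7, nat_lit 11, nat_lit 8, nat_lit 0, nat_lit 10, nat_lit 6, nat_lit 5, nat_lit 4, nat_lit 3, nat_lit 2])))
 (.node (nat_lit 6) (.node (nat_lit 5) (.leaf [nat_lit 11, nat_lit 1, nat_lit 6, nat_lit 11, nat_lit 8, nat_lit 9, nat_lit 7, nat_lit 4, nat_lit 3, nat_lit 1])
 (.leaf [nat_lit 11, nat_lit 5, nat_lit 6, nat_lit 11, nat_lit 10, nat_lit 1, nat_lit 10, nat_lit 6, nat_lit 0]))
 (.node (nat_lit 7) (.leaf [nat_lit 11, nat_lit 5, nat_lit 6, nat_lit 11, nat_lit 5, nat_lit 9, nat_lit 7, nat_lit 6, nat_lit 5, nat_lit 4, nat_lit 1])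
 (.leaf [nat_lit 11, nat_lit 5, nat_lit 6, nat_lit 11, nat_lit 9, nat_lit 2, nat_lit 9, nat_lit 8, nat_lit 7, nat_lit 4, nat_lit 3, nat_lit 0]))))
 (.node (nat_lit 12) (.node (nat_lit 10) (.node (nat_lit 9) (.leaf [nat_lit 11, nat_lit 5, nat_lit 6, nat_lit 11, nat_lit 9, nat_lit 2, nat_lit 9, nat_lit 8, nat_lit 4])
 (.leaf [nat_lit 11, nat_lit 5, nat_lit 6, nat_lit 11, nat_lit 9, nat_lit 8, nat_lit 0, nat_lit 10, nat_lit 1, nat_lit 0]))
 (.node (nat_lit 11) (.leaf [nat_lit 11, nat_lit 7, nat_lit 11, nat_lit 9, nat_lit 4, nat_lit 10, nat_lit 6, nat_lit 2, nat_lit 1])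
 (.leaf [nat_lit 9, nat_lit 4, nat_lit 10, nat_lit 7, nat_lit 6, nat_lit 2, nat_lit 1])))
 (.node (nat_lit 14) (.node (nat_lit 13) (.leaf [nat_lit 9, nat_lit 7, nat_lit 6, nat_lit 12, nat_lit 11, nat_lit 4, nat_lit 1, nat_lit 10, nat_lit 4, nat_lit 3, nat_lit 2])
 (.leaf [nat_lit 9, nat_lit 11, nat_lit 1, nat_lit 11, nat_lit 9, nat_lit 4, nat_lit 10, nat_lit 8, nat_lit 7, nat_lit 3, nat_lit 2, nat_lit 0]))
 (.node (nat_lit 15) (.leaf [nat_lit 11, nat_lit 6, nat_lit 4, nat_lit 11, nat_lit 2, nat_lit 9, nat_lit 8, nat_lit 6, nat_lit 5, nat_lit 3, nat_lit 0])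
 (.leaf [nat_lit 5, nat_lit 11, nat_lit 0, nat_lit 11, nat_lit 0, nat_lit 9, nat_lit 7, nat_lit 4, nat_lit 3])))))
noncomputable def h2T : Tr ℕ := h2T_0
noncomputable def h2E : Tr (List ℕ) := h2E_0
theorem h2w_0 : h2T_0.all2 (fun c w => isProd 135 (nat_lit 8) (nat_lit 255) T c w) h2E_0 = true := by decide +kernel
theorem h2lets : Lets P 135 (nat_lit 8) (nat_lit 255) (Fin.ofNat 135) h2T := lets_words lets h2E h2w_0
noncomputable def h2W : Tr (List ℕ) := (.node (nat_lit 72) (.node (nat_lit 36) (.node (nat_lit 18) (.node (nat_lit 9) (.node (nat_lit 4) (.node (nat_lit 2) (.node (nat_lit 1) (.leaf [])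
 (.leaf []))
 (.node (nat_lit 3) (.leaf [])
 (.leaf [])))
 (.node (nat_lit 6) (.node (nat_lit 5) (.leaf [])
 (.leaf []))
 (.node (nat_lit 7) (.leaf [])
 (.node (nat_lit 8) (.leaf [])
 (.leaf [])))))
 (.node (nat_lit 13) (.node (nat_lit 11) (.node (nat_lit 10) (.leaf [])
 (.leaf []))
 (.node (nat_lit 12) (.leaf [])
 (.leaf [nat_lit 1, nat_lit 7])))
 (.node (nat_lit 15) (.node (nat_lit 14) (.leaf [])
 (.leaf []))
 (.node (nat_lit 16) (.leaf [])
 (.node (nat_lit 17) (.leaf [])
 (.leaf []))))))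
 (.node (nat_lit 27) (.node (nat_lit 22) (.node (nat_lit 20) (.node (nat_lit 19) (.leaf [])
 (.leaf []))
 (.node (nat_lit 21) (.leaf [])
 (.leaf [])))
 (.node (nat_lit 24) (.node (nat_lit 23) (.leaf [])
 (.leaf []))
 (.node (nat_lit 25) (.leaf [nat_lit 2, nat_lit 8])
 (.node (nat_lit 26) (.leaf [nat_lit 2])
 (.leaf [])))))
 (.node (nat_lit 31) (.node (nat_lit 29) (.node (nat_lit 28) (.leaf [])
 (.leaf []))
 (.node (nat_lit 30) (.leaf [])
 (.leaf [])))
 (.node (nat_lit 33) (.node (nat_lit 32) (.leaf [])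
 (.leaf []))
 (.node (nat_lit 34) (.leaf [])
 (.node (nat_lit 35) (.leaf [])
 (.leaf [])))))))
 (.node (nat_lit 54) (.node (nat_lit 45) (.node (nat_lit 40) (.node (nat_lit 38) (.node (nat_lit 37) (.leaf [nat_lit 3, nat_lit 4])
 (.leaf [nat_lit 3, nat_lit 5]))
 (.node (nat_lit 39) (.leaf [nat_lit 3, nat_lit 6, nat_lit 11])
 (.leaf [])))
 (.node (nat_lit 42) (.node (nat_lit 41) (.leaf [])
 (.leaf []))
 (.node (nat_lit 43) (.leaf [])
 (.node (nat_lit 44) (.leaf [])
 (.leaf [])))))
 (.node (nat_lit 49) (.node (nat_lit 47) (.node (nat_lit 46) (.leaf [])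
 (.leaf []))
 (.node (nat_lit 48) (.leaf [])
 (.leaf [nat_lit 4])))
 (.node (nat_lit 51) (.node (nat_lit 50) (.leaf [nat_lit 4, nat_lit 7])
 (.leaf [nat_lit 4, nat_lit 8]))
 (.node (nat_lit 52) (.leaf [nat_lit 4])
 (.node (nat_lit 53) (.leaf [])
 (.leaf []))))))
 (.node (nat_lit 63) (.node (nat_lit 58) (.node (nat_lit 56) (.node (nat_lit 55) (.leaf [])
 (.leaf []))
 (.node (nat_lit 57) (.leaf [])
 (.leaf [])))
 (.node (nat_lit 60) (.node (nat_lit 59) (.leaf [])
 (.leaf []))
 (.node (nat_lit 61) (.leaf [nat_lit 5, nat_lit 7])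
 (.node (nat_lit 62) (.leaf [nat_lit 5])
 (.leaf [nat_lit 5, nat_lit 9])))))
 (.node (nat_lit 67) (.node (nat_lit 65) (.node (nat_lit 64) (.leaf [nat_lit 5])
 (.leaf [nat_lit 5]))
 (.node (nat_lit 66) (.leaf [])
 (.leaf [])))
 (.node (nat_lit 69) (.node (nat_lit 68) (.leaf [])
 (.leaf []))
 (.node (nat_lit 70) (.leaf [])
 (.node (nat_lit 71) (.leaf [])
 (.leaf []))))))))
 (.node (nat_lit 108) (.node (nat_lit 90) (.node (nat_lit 81) (.node (nat_lit 76) (.node (nat_lit 74) (.node (nat_lit 73) (.leaf [nat_lit 6, nat_lit 8])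
 (.leaf [nat_lit 6, nat_lit 9, nat_lit 11]))
 (.node (nat_lit 75) (.leaf [nat_lit 6, nat_lit 11])
 (.leaf [nat_lit 6, nat_lit 11])))
 (.node (nat_lit 78) (.node (nat_lit 77) (.leaf [nat_lit 6, nat_lit 11])
 (.leaf [nat_lit 6, nat_lit 11]))
 (.node (nat_lit 79) (.leaf [nat_lit 11])
 (.node (nat_lit 80) (.leaf [])
 (.leaf [])))))
 (.node (nat_lit 85) (.node (nat_lit 83) (.node (nat_lit 82) (.leaf [])
 (.leaf []))
 (.node (nat_lit 84) (.leaf [])
 (.leaf [nat_lit 7])))
 (.node (nat_lit 87) (.node (nat_lit 86) (.leaf [nat_lit 7])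
 (.leaf [nat_lit 7, nat_lit 10]))
 (.node (nat_lit 88) (.leaf [nat_lit 7])
 (.node (nat_lit 89) (.leaf [nat_lit 7])
 (.leaf [nat_lit 7]))))))
 (.node (nat_lit 99) (.node (nat_lit 94) (.node (nat_lit 92) (.node (nat_lit 91) (.leaf [nat_lit 7, nat_lit 11])
 (.leaf []))
 (.node (nat_lit 93) (.leaf [])
 (.leaf [])))
 (.node (nat_lit 96) (.node (nat_lit 95) (.leaf [])
 (.leaf []))
 (.node (nat_lit 97) (.leaf [nat_lit 8])
 (.node (nat_lit 98) (.leaf [nat_lit 8, nat_lit 10])
 (.leaf [nat_lit 8])))))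
 (.node (nat_lit 103) (.node (nat_lit 101) (.node (nat_lit 100) (.leaf [nat_lit 8, nat_lit 11])
 (.leaf [nat_lit 8]))
 (.node (nat_lit 102) (.leaf [nat_lit 8, nat_lit 11])
 (.leaf [nat_lit 8])))
 (.node (nat_lit 105) (.node (nat_lit 104) (.leaf [nat_lit 8])
 (.leaf []))
 (.node (nat_lit 106) (.leaf [])
 (.node (nat_lit 107) (.leaf [])
 (.leaf [])))))))
 (.node (nat_lit 126) (.node (nat_lit 117) (.node (nat_lit 112) (.node (nat_lit 110) (.node (nat_lit 109) (.leaf [nat_lit 9, nat_lit 10, nat_lit 11])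
 (.leaf [nat_lit 9]))
 (.node (nat_lit 111) (.leaf [nat_lit 9])
 (.leaf [nat_lit 9, nat_lit 11])))
 (.node (nat_lit 114) (.node (nat_lit 113) (.leaf [nat_lit 9, nat_lit 11])
 (.leaf [nat_lit 9]))
 (.node (nat_lit 115) (.leaf [nat_lit 9])
 (.node (nat_lit 116) (.leaf [nat_lit 9])
 (.leaf [nat_lit 9])))))
 (.node (nat_lit 121) (.node (nat_lit 119) (.node (nat_lit 118) (.leaf [])
 (.leaf []))
 (.node (nat_lit 120) (.leaf [])
 (.leaf [nat_lit 10])))
 (.node (nat_lit 123) (.node (nat_lit 122) (.leaf [nat_lit 10])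
 (.leaf [nat_lit 10]))
 (.node (nat_lit 124) (.leaf [nat_lit 10, nat_lit 11])
 (.node (nat_lit 125) (.leaf [nat_lit 10])
 (.leaf [nat_lit 10]))))))
 (.node (nat_lit 135) (.node (nat_lit 130) (.node (nat_lit 128) (.node (nat_lit 127) (.leaf [nat_lit 10])
 (.leaf [nat_lit 10]))
 (.node (nat_lit 129) (.leaf [nat_lit 10])
 (.leaf [nat_lit 10])))
 (.node (nat_lit 132) (.node (nat_lit 131) (.leaf [])
 (.leaf []))
 (.node (nat_lit 133) (.leaf [nat_lit 11])
 (.node (nat_lit 134) (.leaf [nat_lit 11])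
 (.leaf [nat_lit 11])))))
 (.node (nat_lit 139) (.node (nat_lit 137) (.node (nat_lit 136) (.leaf [nat_lit 11])
 (.leaf [nat_lit 11]))
 (.node (nat_lit 138) (.leaf [nat_lit 11])
 (.leaf [nat_lit 11])))
 (.node (nat_lit 141) (.node (nat_lit 140) (.leaf [nat_lit 11])
 (.leaf [nat_lit 11]))
 (.node (nat_lit 142) (.leaf [nat_lit 11])
 (.node (nat_lit 143) (.leaf [nat_lit 11])
 (.leaf [])))))))))
noncomputable def h2F : Tr (ℕ × List ℕ × List ℕ) := (.node (nat_lit 22) (.node (nat_lit 11) (.node (nat_lit 5) (.node (nat_lit 2) (.node (nat_lit 1) (.leaf ((nat_lit 12), [nat_lit 0, nat_lit 2], [nat_lit 0, nat_lit 2, nat_lit 3, nat_lit 4, nat_lit 5, nat_lit 6, nat_lit 8, nat_lit 9, nat_lit 10]))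
 (.leaf ((nat_lit 12), [nat_lit 1, nat_lit 2], [nat_lit 1, nat_lit 2, nat_lit 5, nat_lit 6, nat_lit 7, nat_lit 8, nat_lit 10])))
 (.node (nat_lit 3) (.leaf ((nat_lit 12), [nat_lit 3], [nat_lit 3, nat_lit 4, nat_lit 5, nat_lit 6, nat_lit 7, nat_lit 8, nat_lit 9, nat_lit 10, nat_lit 11]))
 (.node (nat_lit 4) (.leaf ((nat_lit 12), [nat_lit 4], [nat_lit 3, nat_lit 5, nat_lit 6, nat_lit 9, nat_lit 11]))
 (.leaf ((nat_lit 12), [nat_lit 5], [nat_lit 3, nat_lit 5, nat_lit 6, nat_lit 7, nat_lit 9, nat_lit 10])))))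
 (.node (nat_lit 8) (.node (nat_lit 6) (.leaf ((nat_lit 12), [nat_lit 6], [nat_lit 3, nat_lit 5, nat_lit 6, nat_lit 8, nat_lit 9, nat_lit 10, nat_lit 11]))
 (.node (nat_lit 7) (.leaf ((nat_lit 12), [nat_lit 7], [nat_lit 4, nat_lit 5, nat_lit 8, nat_lit 9, nat_lit 11]))
 (.leaf ((nat_lit 12), [nat_lit 8], [nat_lit 4, nat_lit 6, nat_lit 7, nat_lit 9]))))
 (.node (nat_lit 9) (.leaf ((nat_lit 12), [nat_lit 9], [nat_lit 5, nat_lit 6, nat_lit 9, nat_lit 10, nat_lit 11]))
 (.node (nat_lit 10) (.leaf ((nat_lit 12), [nat_lit 10], [nat_lit 7, nat_lit 8, nat_lit 9, nat_lit 11]))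
 (.leaf ((nat_lit 12), [nat_lit 11], [nat_lit 11]))))))
 (.node (nat_lit 16) (.node (nat_lit 13) (.node (nat_lit 12) (.leaf ((nat_lit 13), [nat_lit 0], [nat_lit 0, nat_lit 7, nat_lit 8, nat_lit 10]))
 (.leaf ((nat_lit 13), [nat_lit 1, nat_lit 2], [nat_lit 1, nat_lit 2, nat_lit 9])))
 (.node (nat_lit 14) (.leaf ((nat_lit 13), [nat_lit 3], [nat_lit 3, nat_lit 6, nat_lit 11]))
 (.node (nat_lit 15) (.leaf ((nat_lit 13), [nat_lit 4], [nat_lit 4, nat_lit 8]))
 (.leaf ((nat_lit 13), [nat_lit 5], [nat_lit 3, nat_lit 4, nat_lit 5, nat_lit 6, nat_lit 8, nat_lit 9, nat_lit 11])))))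
 (.node (nat_lit 19) (.node (nat_lit 17) (.leaf ((nat_lit 13), [nat_lit 6], [nat_lit 3, nat_lit 4, nat_lit 5, nat_lit 6, nat_lit 7]))
 (.node (nat_lit 18) (.leaf ((nat_lit 13), [nat_lit 7], [nat_lit 4, nat_lit 7, nat_lit 8, nat_lit 10]))
 (.leaf ((nat_lit 13), [nat_lit 8], [nat_lit 4, nat_lit 7, nat_lit 8]))))
 (.node (nat_lit 20) (.leaf ((nat_lit 13), [nat_lit 9], [nat_lit 5, nat_lit 6, nat_lit 7, nat_lit 8, nat_lit 9, nat_lit 11]))
 (.node (nat_lit 21) (.leaf ((nat_lit 13), [nat_lit 10], [nat_lit 7, nat_lit 8, nat_lit 10, nat_lit 11]))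
 (.leaf ((nat_lit 13), [nat_lit 11], [nat_lit 11])))))))
 (.node (nat_lit 33) (.node (nat_lit 27) (.node (nat_lit 24) (.node (nat_lit 23) (.leaf ((nat_lit 14), [nat_lit 0, nat_lit 2], [nat_lit 0, nat_lit 2, nat_lit 3, nat_lit 4, nat_lit 6, nat_lit 10]))
 (.leaf ((nat_lit 14), [nat_lit 1], [nat_lit 1])))
 (.node (nat_lit 25) (.leaf ((nat_lit 14), [nat_lit 3], [nat_lit 6, nat_lit 7, nat_lit 9]))
 (.node (nat_lit 26) (.leaf ((nat_lit 14), [nat_lit 4], [nat_lit 3, nat_lit 4, nat_lit 8, nat_lit 10]))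
 (.leaf ((nat_lit 14), [nat_lit 5], [nat_lit 9, nat_lit 11])))))
 (.node (nat_lit 30) (.node (nat_lit 28) (.leaf ((nat_lit 14), [nat_lit 6], [nat_lit 3, nat_lit 6, nat_lit 10, nat_lit 11]))
 (.node (nat_lit 29) (.leaf ((nat_lit 14), [nat_lit 7], [nat_lit 5, nat_lit 7, nat_lit 10, nat_lit 11]))
 (.leaf ((nat_lit 14), [nat_lit 8], [nat_lit 4, nat_lit 6, nat_lit 11]))))
 (.node (nat_lit 31) (.leaf ((nat_lit 14), [nat_lit 9], [nat_lit 5, nat_lit 9, nat_lit 11]))
 (.node (nat_lit 32) (.leaf ((nat_lit 14), [nat_lit 10], [nat_lit 7, nat_lit 9]))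
 (.leaf ((nat_lit 14), [nat_lit 11], [nat_lit 11]))))))
 (.node (nat_lit 38) (.node (nat_lit 35) (.node (nat_lit 34) (.leaf ((nat_lit 15), [nat_lit 0], [nat_lit 4, nat_lit 7, nat_lit 8, nat_lit 10]))
 (.leaf ((nat_lit 15), [nat_lit 1], [nat_lit 1, nat_lit 10])))
 (.node (nat_lit 36) (.leaf ((nat_lit 15), [nat_lit 2], [nat_lit 2, nat_lit 9]))
 (.node (nat_lit 37) (.leaf ((nat_lit 15), [nat_lit 4], [nat_lit 0, nat_lit 8]))
 (.leaf ((nat_lit 15), [nat_lit 5], [nat_lit 1, nat_lit 5, nat_lit 7, nat_lit 9, nat_lit 11])))))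
 (.node (nat_lit 41) (.node (nat_lit 39) (.leaf ((nat_lit 15), [nat_lit 6], [nat_lit 2, nat_lit 6, nat_lit 7, nat_lit 9, nat_lit 10]))
 (.node (nat_lit 40) (.leaf ((nat_lit 15), [nat_lit 7], [nat_lit 7, nat_lit 10]))
 (.leaf ((nat_lit 15), [nat_lit 8], [nat_lit 8, nat_lit 10, nat_lit 11]))))
 (.node (nat_lit 42) (.leaf ((nat_lit 15), [nat_lit 9], [nat_lit 9, nat_lit 10]))
 (.node (nat_lit 43) (.leaf ((nat_lit 15), [nat_lit 10], [nat_lit 10]))
 (.leaf ((nat_lit 15), [nat_lit 11], [nat_lit 10, nat_lit 11]))))))))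
noncomputable def h2A : List (List ℕ × ℕ × ℕ) := [([nat_lit 2], (nat_lit 2), (nat_lit 1)),
  ([nat_lit 4], (nat_lit 4), (nat_lit 0)),
  ([nat_lit 8], (nat_lit 8), (nat_lit 0)),
  ([nat_lit 6], (nat_lit 6), (nat_lit 6)),
  ([nat_lit 1], (nat_lit 1), (nat_lit 0)),
  ([nat_lit 2], (nat_lit 2), (nat_lit 0)),
  ([nat_lit 3], (nat_lit 3), (nat_lit 0)),
  ([nat_lit 3], (nat_lit 3), (nat_lit 1)),
  ([nat_lit 4], (nat_lit 4), (nat_lit 1)),
  ([nat_lit 4], (nat_lit 4), (nat_lit 2)),
  ([nat_lit 5], (nat_lit 5), (nat_lit 0)),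
  ([nat_lit 5], (nat_lit 5), (nat_lit 2)),
  ([nat_lit 7], (nat_lit 7), (nat_lit 2)),
  ([nat_lit 7], (nat_lit 7), (nat_lit 6)),
  ([nat_lit 8], (nat_lit 8), (nat_lit 1)),
  ([nat_lit 8], (nat_lit 8), (nat_lit 3)),
  ([nat_lit 9], (nat_lit 9), (nat_lit 3)),
  ([nat_lit 10], (nat_lit 10), (nat_lit 3)),
  ([nat_lit 10], (nat_lit 1), (nat_lit 0)),
  ([nat_lit 11], (nat_lit 1), (nat_lit 0)),
  ([nat_lit 11], (nat_lit 2), (nat_lit 0)),
  ([nat_lit 8], (nat_lit 2), (nat_lit 1)),
  ([nat_lit 7], (nat_lit 3), (nat_lit 0)),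
  ([nat_lit 11], (nat_lit 3), (nat_lit 0)),
  ([nat_lit 11], (nat_lit 3), (nat_lit 1)),
  ([nat_lit 10], (nat_lit 5), (nat_lit 2)),
  ([nat_lit 6], (nat_lit 6), (nat_lit 2)),
  ([nat_lit 6], (nat_lit 6), (nat_lit 3)),
  ([nat_lit 6], (nat_lit 6), (nat_lit 4)),
  ([nat_lit 6], (nat_lit 6), (nat_lit 5)),
  ([nat_lit 1], (nat_lit 0), (nat_lit 0)),
  ([nat_lit 2], (nat_lit 0), (nat_lit 0)),
  ([nat_lit 3], (nat_lit 0), (nat_lit 0)),
  ([nat_lit 3], (nat_lit 1), (nat_lit 1)),
  ([nat_lit 4], (nat_lit 1), (nat_lit 1)),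
  ([nat_lit 5], (nat_lit 2), (nat_lit 2)),
  ([nat_lit 8], (nat_lit 1), (nat_lit 1)),
  ([nat_lit 8], (nat_lit 3), (nat_lit 3)),
  ([nat_lit 5], (nat_lit 2), (nat_lit 1)),
  ([nat_lit 8], (nat_lit 1), (nat_lit 0)),
  ([nat_lit 8], (nat_lit 3), (nat_lit 0)),
  ([nat_lit 10], (nat_lit 3), (nat_lit 0)),
  ([nat_lit 4], (nat_lit 3), (nat_lit 1)),
  ([nat_lit 9], (nat_lit 3), (nat_lit 1)),
  ([nat_lit 10], (nat_lit 3), (nat_lit 1)),
  ([nat_lit 9], (nat_lit 4), (nat_lit 1)),
  ([nat_lit 7], (nat_lit 4), (nat_lit 2)),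
  ([nat_lit 9], (nat_lit 4), (nat_lit 2)),
  ([nat_lit 4], (nat_lit 2), (nat_lit 1)),
  ([nat_lit 6], (nat_lit 6), (nat_lit 0)),
  ([nat_lit 3], (nat_lit 3), (nat_lit 2)),
  ([nat_lit 9], (nat_lit 3), (nat_lit 2)),
  ([nat_lit 10], (nat_lit 3), (nat_lit 2)),
  ([nat_lit 5], (nat_lit 4), (nat_lit 2)),
  ([nat_lit 4], (nat_lit 3), (nat_lit 2)),
  ([nat_lit 5], (nat_lit 3), (nat_lit 2)),
  ([nat_lit 3], (nat_lit 2), (nat_lit 1)),
  ([nat_lit 3], (nat_lit 2), (nat_lit 2)),
  ([nat_lit 6], (nat_lit 5), (nat_lit 0)),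
  ([nat_lit 3], (nat_lit 1), (nat_lit 0)),
  ([nat_lit 8], (nat_lit 3), (nat_lit 1)),
  ([nat_lit 5], (nat_lit 2), (nat_lit 0)),
  ([nat_lit 3], (nat_lit 2), (nat_lit 0))]
noncomputable def h2B : List (ℕ × List ℕ × List ℕ) := [((nat_lit 12), [nat_lit 6, nat_lit 3], [nat_lit 3, nat_lit 6]),
  ((nat_lit 12), [nat_lit 3, nat_lit 3], []),
  ((nat_lit 12), [nat_lit 7, nat_lit 6], [nat_lit 6, nat_lit 7]),
  ((nat_lit 12), [nat_lit 7, nat_lit 3], [nat_lit 3, nat_lit 7]),
  ((nat_lit 12), [nat_lit 3, nat_lit 0], [nat_lit 0, nat_lit 3, nat_lit 7]),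
  ((nat_lit 12), [nat_lit 0, nat_lit 0], [nat_lit 7]),
  ((nat_lit 13), [nat_lit 18, nat_lit 11], [nat_lit 11, nat_lit 18]),
  ((nat_lit 13), [nat_lit 19, nat_lit 18], [nat_lit 18, nat_lit 19]),
  ((nat_lit 14), [nat_lit 26, nat_lit 23], [nat_lit 23, nat_lit 26]),
  ((nat_lit 15), [nat_lit 36, nat_lit 36], []),
  ((nat_lit 15), [nat_lit 41, nat_lit 36], [nat_lit 36, nat_lit 41, nat_lit 43]),
  ((nat_lit 15), [nat_lit 33, nat_lit 33], []),
  ((nat_lit 15), [nat_lit 37, nat_lit 36], [nat_lit 36, nat_lit 37]),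
  ((nat_lit 15), [nat_lit 38, nat_lit 36], [nat_lit 36, nat_lit 38, nat_lit 43]),
  ((nat_lit 15), [nat_lit 37, nat_lit 37], []),
  ((nat_lit 15), [nat_lit 38, nat_lit 37], [nat_lit 37, nat_lit 38, nat_lit 43]),
  ((nat_lit 15), [nat_lit 38, nat_lit 38], [nat_lit 43])]
noncomputable def h2X : Tr ℕ := (.node (nat_lit 6) (.node (nat_lit 3) (.node (nat_lit 1) (.leaf (nat_lit 0x7000000000000000000000000000000000000000000000000000000000000000000000000000000000000000000000500050500000500000000000000000000000000000000000000050500000600000600000000000500000500050000000000000000000000000000000000000000000000000000000000000000000507070700000000000000000000000007000000000000000000000000000000000000000000000000000000000000000000000006))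
 (.node (nat_lit 2) (.leaf (nat_lit 0x700000000000000000000000000000000000000000000000000000000000000000000000000050005000500050000000500000000000000000000000000000005000500060007000500000000000000000000000000000000000500050000000500000000000000000000000000000000000000000000070500000000000000000005000607000000000000000000000000000000000000000000000700000000000000000000000505000000000000000000000000))
 (.leaf (nat_lit 0x70000000000000000000000000000000000000000000000000000000000000000000000000000050707060005000000000000000505000700000000050006000005060505000506050006000000000000070005000700000000000500070600060700000000000000060700060607000000000000000600050507000000000000000007050600000000000000000000000000000000000000000000050000000000000000000000000006000000000000000000000000))))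
 (.node (nat_lit 4) (.leaf (nat_lit 0x7070707060000050006060006000500050500070705060005000005000005050000000000000000050600070706050706000000000006000000000000000000000005050005000000000000000000050005070000000000000000000507050007000000000000000005070707000000000000000000000006000000000000000000000000000000000000000000000000))
 (.node (nat_lit 5) (.leaf (nat_lit 0x1000000000000000000000000000000000000000000000000000000000000000000000000))
 (.leaf (nat_lit 0x100000000000000000000000000000000000000000000000000000000000000000000000000)))))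
 (.node (nat_lit 9) (.node (nat_lit 7) (.leaf (nat_lit 0x700000000000000000000010000000000000000000000000000000000000000000000010000000000000000000000000000000000000000000000000000000000000000000000000000))
 (.node (nat_lit 8) (.leaf (nat_lit 0x1000000000000000000000000))
 (.leaf (nat_lit 0x1000000000000000000000000000000000000000000000000))))
 (.node (nat_lit 10) (.leaf (nat_lit 0x10000000000000000000000000000000000000000000000000000000000000000000000000000000000000000000000000000000000000000000000000000))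
 (.node (nat_lit 11) (.leaf (nat_lit 0x10000000000000000000000000000000000000000000000000000000000000000000000000000000000000000000000000000000000000000000000000000000000000000000000000000000000000000000000000000))
 (.leaf (nat_lit 0x100000000000000000000070000000000000000000000000000000000000000000000000000000000000000000000000000000000000000000000000000000000000000000000000000))))))
noncomputable def h2D : Tr ℕ := (.node (nat_lit 72) (.node (nat_lit 36) (.node (nat_lit 18) (.node (nat_lit 9) (.node (nat_lit 4) (.node (nat_lit 2) (.node (nat_lit 1) (.leaf (nat_lit 0x0))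
 (.leaf (nat_lit 0x0)))
 (.node (nat_lit 3) (.leaf (nat_lit 0x0))
 (.leaf (nat_lit 0x0))))
 (.node (nat_lit 6) (.node (nat_lit 5) (.leaf (nat_lit 0x0))
 (.leaf (nat_lit 0x0)))
 (.node (nat_lit 7) (.leaf (nat_lit 0x0))
 (.node (nat_lit 8) (.leaf (nat_lit 0x0))
 (.leaf (nat_lit 0x0))))))
 (.node (nat_lit 13) (.node (nat_lit 11) (.node (nat_lit 10) (.leaf (nat_lit 0x0))
 (.leaf (nat_lit 0x0)))
 (.node (nat_lit 12) (.leaf (nat_lit 0x0))
 (.leaf (nat_lit 0x0))))
 (.node (nat_lit 15) (.node (nat_lit 14) (.leaf (nat_lit 0x100))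
 (.leaf (nat_lit 0x0)))
 (.node (nat_lit 16) (.leaf (nat_lit 0x0))
 (.node (nat_lit 17) (.leaf (nat_lit 0x0))
 (.leaf (nat_lit 0x0)))))))
 (.node (nat_lit 27) (.node (nat_lit 22) (.node (nat_lit 20) (.node (nat_lit 19) (.leaf (nat_lit 0x0))
 (.leaf (nat_lit 0x0)))
 (.node (nat_lit 21) (.leaf (nat_lit 0x0))
 (.leaf (nat_lit 0x0))))
 (.node (nat_lit 24) (.node (nat_lit 23) (.leaf (nat_lit 0x0))
 (.leaf (nat_lit 0x0)))
 (.node (nat_lit 25) (.leaf (nat_lit 0x0))
 (.node (nat_lit 26) (.leaf (nat_lit 0x100))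
 (.leaf (nat_lit 0x0))))))
 (.node (nat_lit 31) (.node (nat_lit 29) (.node (nat_lit 28) (.leaf (nat_lit 0x0))
 (.leaf (nat_lit 0x0)))
 (.node (nat_lit 30) (.leaf (nat_lit 0x0))
 (.leaf (nat_lit 0x0))))
 (.node (nat_lit 33) (.node (nat_lit 32) (.leaf (nat_lit 0x0))
 (.leaf (nat_lit 0x0)))
 (.node (nat_lit 34) (.leaf (nat_lit 0x0))
 (.node (nat_lit 35) (.leaf (nat_lit 0x0))
 (.leaf (nat_lit 0x0))))))))
 (.node (nat_lit 54) (.node (nat_lit 45) (.node (nat_lit 40) (.node (nat_lit 38) (.node (nat_lit 37) (.leaf (nat_lit 0x0))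
 (.leaf (nat_lit 0x0)))
 (.node (nat_lit 39) (.leaf (nat_lit 0x0))
 (.leaf (nat_lit 0x0))))
 (.node (nat_lit 42) (.node (nat_lit 41) (.leaf (nat_lit 0x0))
 (.leaf (nat_lit 0x0)))
 (.node (nat_lit 43) (.leaf (nat_lit 0x0))
 (.node (nat_lit 44) (.leaf (nat_lit 0x0))
 (.leaf (nat_lit 0x0))))))
 (.node (nat_lit 49) (.node (nat_lit 47) (.node (nat_lit 46) (.leaf (nat_lit 0x0))
 (.leaf (nat_lit 0x0)))
 (.node (nat_lit 48) (.leaf (nat_lit 0x0))
 (.leaf (nat_lit 0x0))))
 (.node (nat_lit 51) (.node (nat_lit 50) (.leaf (nat_lit 0x100))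
 (.leaf (nat_lit 0x0)))
 (.node (nat_lit 52) (.leaf (nat_lit 0x0))
 (.node (nat_lit 53) (.leaf (nat_lit 0x0))
 (.leaf (nat_lit 0x0)))))))
 (.node (nat_lit 63) (.node (nat_lit 58) (.node (nat_lit 56) (.node (nat_lit 55) (.leaf (nat_lit 0x0))
 (.leaf (nat_lit 0x0)))
 (.node (nat_lit 57) (.leaf (nat_lit 0x0))
 (.leaf (nat_lit 0x0))))
 (.node (nat_lit 60) (.node (nat_lit 59) (.leaf (nat_lit 0x0))
 (.leaf (nat_lit 0x0)))
 (.node (nat_lit 61) (.leaf (nat_lit 0x100))
 (.node (nat_lit 62) (.leaf (nat_lit 0x100))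
 (.leaf (nat_lit 0x0))))))
 (.node (nat_lit 67) (.node (nat_lit 65) (.node (nat_lit 64) (.leaf (nat_lit 0x100))
 (.leaf (nat_lit 0x100)))
 (.node (nat_lit 66) (.leaf (nat_lit 0x100))
 (.leaf (nat_lit 0x0))))
 (.node (nat_lit 69) (.node (nat_lit 68) (.leaf (nat_lit 0x0))
 (.leaf (nat_lit 0x0)))
 (.node (nat_lit 70) (.leaf (nat_lit 0x0))
 (.node (nat_lit 71) (.leaf (nat_lit 0x0))
 (.leaf (nat_lit 0x0)))))))))
 (.node (nat_lit 108) (.node (nat_lit 90) (.node (nat_lit 81) (.node (nat_lit 76) (.node (nat_lit 74) (.node (nat_lit 73) (.leaf (nat_lit 0x0))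
 (.leaf (nat_lit 0x0)))
 (.node (nat_lit 75) (.leaf (nat_lit 0x0))
 (.leaf (nat_lit 0x0))))
 (.node (nat_lit 78) (.node (nat_lit 77) (.leaf (nat_lit 0x1))
 (.leaf (nat_lit 0x100)))
 (.node (nat_lit 79) (.leaf (nat_lit 0x0))
 (.node (nat_lit 80) (.leaf (nat_lit 0x0))
 (.leaf (nat_lit 0x0))))))
 (.node (nat_lit 85) (.node (nat_lit 83) (.node (nat_lit 82) (.leaf (nat_lit 0x0))
 (.leaf (nat_lit 0x0)))
 (.node (nat_lit 84) (.leaf (nat_lit 0x0))
 (.leaf (nat_lit 0x0))))
 (.node (nat_lit 87) (.node (nat_lit 86) (.leaf (nat_lit 0x0))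
 (.leaf (nat_lit 0x0)))
 (.node (nat_lit 88) (.leaf (nat_lit 0x100))
 (.node (nat_lit 89) (.leaf (nat_lit 0x0))
 (.leaf (nat_lit 0x0)))))))
 (.node (nat_lit 99) (.node (nat_lit 94) (.node (nat_lit 92) (.node (nat_lit 91) (.leaf (nat_lit 0x0))
 (.leaf (nat_lit 0x0)))
 (.node (nat_lit 93) (.leaf (nat_lit 0x0))
 (.leaf (nat_lit 0x0))))
 (.node (nat_lit 96) (.node (nat_lit 95) (.leaf (nat_lit 0x0))
 (.leaf (nat_lit 0x0)))
 (.node (nat_lit 97) (.leaf (nat_lit 0x1))
 (.node (nat_lit 98) (.leaf (nat_lit 0x1))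
 (.leaf (nat_lit 0x1))))))
 (.node (nat_lit 103) (.node (nat_lit 101) (.node (nat_lit 100) (.leaf (nat_lit 0x1))
 (.leaf (nat_lit 0x1)))
 (.node (nat_lit 102) (.leaf (nat_lit 0x0))
 (.leaf (nat_lit 0x0))))
 (.node (nat_lit 105) (.node (nat_lit 104) (.leaf (nat_lit 0x1))
 (.leaf (nat_lit 0x1)))
 (.node (nat_lit 106) (.leaf (nat_lit 0x0))
 (.node (nat_lit 107) (.leaf (nat_lit 0x0))
 (.leaf (nat_lit 0x0))))))))
 (.node (nat_lit 126) (.node (nat_lit 117) (.node (nat_lit 112) (.node (nat_lit 110) (.node (nat_lit 109) (.leaf (nat_lit 0x101))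
 (.leaf (nat_lit 0x0)))
 (.node (nat_lit 111) (.leaf (nat_lit 0x100))
 (.leaf (nat_lit 0x100))))
 (.node (nat_lit 114) (.node (nat_lit 113) (.leaf (nat_lit 0x0))
 (.leaf (nat_lit 0x100)))
 (.node (nat_lit 115) (.leaf (nat_lit 0x0))
 (.node (nat_lit 116) (.leaf (nat_lit 0x100))
 (.leaf (nat_lit 0x0))))))
 (.node (nat_lit 121) (.node (nat_lit 119) (.node (nat_lit 118) (.leaf (nat_lit 0x100))
 (.leaf (nat_lit 0x0)))
 (.node (nat_lit 120) (.leaf (nat_lit 0x0))
 (.leaf (nat_lit 0x1))))
 (.node (nat_lit 123) (.node (nat_lit 122) (.leaf (nat_lit 0x0))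
 (.leaf (nat_lit 0x0)))
 (.node (nat_lit 124) (.leaf (nat_lit 0x0))
 (.node (nat_lit 125) (.leaf (nat_lit 0x1))
 (.leaf (nat_lit 0x100)))))))
 (.node (nat_lit 135) (.node (nat_lit 130) (.node (nat_lit 128) (.node (nat_lit 127) (.leaf (nat_lit 0x0))
 (.leaf (nat_lit 0x0)))
 (.node (nat_lit 129) (.leaf (nat_lit 0x0))
 (.leaf (nat_lit 0x0))))
 (.node (nat_lit 132) (.node (nat_lit 131) (.leaf (nat_lit 0x0))
 (.leaf (nat_lit 0x0)))
 (.node (nat_lit 133) (.leaf (nat_lit 0x1))
 (.node (nat_lit 134) (.leaf (nat_lit 0x100))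
 (.leaf (nat_lit 0x0))))))
 (.node (nat_lit 139) (.node (nat_lit 137) (.node (nat_lit 136) (.leaf (nat_lit 0x0))
 (.leaf (nat_lit 0x0)))
 (.node (nat_lit 138) (.leaf (nat_lit 0x0))
 (.leaf (nat_lit 0x0))))
 (.node (nat_lit 141) (.node (nat_lit 140) (.leaf (nat_lit 0x0))
 (.leaf (nat_lit 0x0)))
 (.node (nat_lit 142) (.leaf (nat_lit 0x0))
 (.node (nat_lit 143) (.leaf (nat_lit 0x0))
 (.leaf (nat_lit 0x0))))))))))
noncomputable def h2Y : Tr ℕ := (.node (nat_lit 72) (.node (nat_lit 36) (.node (nat_lit 18) (.node (nat_lit 9) (.node (nat_lit 4) (.node (nat_lit 2) (.node (nat_lit 1) (.leaf (nat_lit 0x70004000003000004000000000000000400000400040004000002040304000404030100000600000700030403000202000000020000020406000406030400000003060002000704000000))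
 (.leaf (nat_lit 0x0)))
 (.node (nat_lit 3) (.leaf (nat_lit 0x0))
 (.leaf (nat_lit 0x0))))
 (.node (nat_lit 6) (.node (nat_lit 5) (.leaf (nat_lit 0x0))
 (.leaf (nat_lit 0x0)))
 (.node (nat_lit 7) (.leaf (nat_lit 0x0))
 (.node (nat_lit 8) (.leaf (nat_lit 0x0))
 (.leaf (nat_lit 0x0))))))
 (.node (nat_lit 13) (.node (nat_lit 11) (.node (nat_lit 10) (.leaf (nat_lit 0x0))
 (.leaf (nat_lit 0x0)))
 (.node (nat_lit 12) (.leaf (nat_lit 0x0))
 (.leaf (nat_lit 0x0))))
 (.node (nat_lit 15) (.node (nat_lit 14) (.leaf (nat_lit 0x3030002000500050104000000030004000700020604030204000305040402030602070202060205010203050604060006040206060506040700060700040006050101040004070406000200000005))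
 (.leaf (nat_lit 0x0)))
 (.node (nat_lit 16) (.leaf (nat_lit 0x0))
 (.node (nat_lit 17) (.leaf (nat_lit 0x0))
 (.leaf (nat_lit 0x0)))))))
 (.node (nat_lit 27) (.node (nat_lit 22) (.node (nat_lit 20) (.node (nat_lit 19) (.leaf (nat_lit 0x0))
 (.leaf (nat_lit 0x0)))
 (.node (nat_lit 21) (.leaf (nat_lit 0x0))
 (.leaf (nat_lit 0x0))))
 (.node (nat_lit 24) (.node (nat_lit 23) (.leaf (nat_lit 0x0))
 (.leaf (nat_lit 0x0)))
 (.node (nat_lit 25) (.leaf (nat_lit 0x0))
 (.node (nat_lit 26) (.leaf (nat_lit 0x0))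
 (.leaf (nat_lit 0x300000000000500070300000005060001040106000503040407020000030502070306020503050501070000010007000400050304060706010607000102050107040003000307060700000604060000))))))
 (.node (nat_lit 31) (.node (nat_lit 29) (.node (nat_lit 28) (.leaf (nat_lit 0x0))
 (.leaf (nat_lit 0x0)))
 (.node (nat_lit 30) (.leaf (nat_lit 0x0))
 (.leaf (nat_lit 0x0))))
 (.node (nat_lit 33) (.node (nat_lit 32) (.leaf (nat_lit 0x0))
 (.leaf (nat_lit 0x0)))
 (.node (nat_lit 34) (.leaf (nat_lit 0x0))
 (.node (nat_lit 35) (.leaf (nat_lit 0x0))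
 (.leaf (nat_lit 0x0))))))))
 (.node (nat_lit 54) (.node (nat_lit 45) (.node (nat_lit 40) (.node (nat_lit 38) (.node (nat_lit 37) (.leaf (nat_lit 0x0))
 (.leaf (nat_lit 0x0)))
 (.node (nat_lit 39) (.leaf (nat_lit 0x0))
 (.leaf (nat_lit 0x7070104000400000000000400000507040302070402040604000404010405000600000300030307000502040300030003020606060206040207070001070702010304000600))))
 (.node (nat_lit 42) (.node (nat_lit 41) (.leaf (nat_lit 0x0))
 (.leaf (nat_lit 0x0)))
 (.node (nat_lit 43) (.leaf (nat_lit 0x0))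
 (.node (nat_lit 44) (.leaf (nat_lit 0x0))
 (.leaf (nat_lit 0x0))))))
 (.node (nat_lit 49) (.node (nat_lit 47) (.node (nat_lit 46) (.leaf (nat_lit 0x0))
 (.leaf (nat_lit 0x0)))
 (.node (nat_lit 48) (.leaf (nat_lit 0x0))
 (.leaf (nat_lit 0x5000004000000000000000400000400040004000006040204000404030100000200000100040005000606000000060000060400000402030405000000050004000104000000))))
 (.node (nat_lit 51) (.node (nat_lit 50) (.leaf (nat_lit 0x1000007000700030701000004050003040604030404010503070105040205030104020007000507040701070505010400070100020000040300010302060602030007070202000501000400020007))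
 (.leaf (nat_lit 0x6000102000100010305000002000001030400000104060104010606040100000403040406010402070406020107050600050501020002040200040704040207030401020303010705010306070005)))
 (.node (nat_lit 52) (.leaf (nat_lit 0x5000004000000000000000400000400040004000006040204000404030100000200000100050005000606000000060000060400000402030405000000050005000104000000))
 (.node (nat_lit 53) (.leaf (nat_lit 0x3000004000000000000000400000400040004000002040604000404050700000600000700030003000202000000020000020400000406050403000000030004000704000000))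
 (.leaf (nat_lit 0x0)))))))
 (.node (nat_lit 63) (.node (nat_lit 58) (.node (nat_lit 56) (.node (nat_lit 55) (.leaf (nat_lit 0x0))
 (.leaf (nat_lit 0x0)))
 (.node (nat_lit 57) (.leaf (nat_lit 0x0))
 (.leaf (nat_lit 0x0))))
 (.node (nat_lit 60) (.node (nat_lit 59) (.leaf (nat_lit 0x0))
 (.leaf (nat_lit 0x0)))
 (.node (nat_lit 61) (.leaf (nat_lit 0x1000007000700030701000004050003040604020404010503070105040205030104020006000507040701070505010400070100020000040200010302060602030007070202000501000400020007))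
 (.node (nat_lit 62) (.leaf (nat_lit 0x5000006000300030704000000050004000100040204050604000503040406050205010004020603000605030404040002040602020307040600020100040702030707030704020404000700000005))
 (.leaf (nat_lit 0x0))))))
 (.node (nat_lit 67) (.node (nat_lit 65) (.node (nat_lit 64) (.leaf (nat_lit 0x5000006000300030704000000050004000100040204050604000503040406050205010004020603000605030405040002040602020307040600020100040702030707030704020504000700000005))
 (.leaf (nat_lit 0x5000006000300030701000004050003040100040600050107030501000604010401010400050103000105030505010407070302040301010500070500040406060304030706070501000006020005)))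
 (.node (nat_lit 66) (.leaf (nat_lit 0x3000002000500050104000000030004000700040604030204000305040402030603070004060205000203050403040006040206060501040200060700040106050101050104060404000100000002))
 (.leaf (nat_lit 0x0))))
 (.node (nat_lit 69) (.node (nat_lit 68) (.leaf (nat_lit 0x0))
 (.leaf (nat_lit 0x0)))
 (.node (nat_lit 70) (.leaf (nat_lit 0x0))
 (.node (nat_lit 71) (.leaf (nat_lit 0x0))
 (.leaf (nat_lit 0x0)))))))))
 (.node (nat_lit 108) (.node (nat_lit 90) (.node (nat_lit 81) (.node (nat_lit 76) (.node (nat_lit 74) (.node (nat_lit 73) (.leaf (nat_lit 0x6000502000500050701000002000005020400000504060501050606040300000407040406050302030406020503010000010605020002070200040704040202070005020703050301050705000005))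
 (.leaf (nat_lit 0x0)))
 (.node (nat_lit 75) (.leaf (nat_lit 0x4000000000400050400000003070005020400020305050407000406050102060702040207010104010204040003000000010500070406050100060301000205050003040107030300000403000002))
 (.leaf (nat_lit 0x4000000000400050400000003070005020400020300050407000406000102060702040207010104010204040003000000010103040406010100060701000205050403040107030300000404000002))))
 (.node (nat_lit 78) (.node (nat_lit 77) (.leaf (nat_lit 0x0))
 (.leaf (nat_lit 0x5000006000300040704000000050004000100040204060604000503040406050205010004020603010205030404040002040206020306000600060100040706030707030704020404000700000005)))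
 (.node (nat_lit 79) (.leaf (nat_lit 0x4000000000400070400000001050007060400060100070405000402010306020506040605030304030504040001000000030303040402030300030103000606070001040305010100000406000002))
 (.node (nat_lit 80) (.leaf (nat_lit 0x0))
 (.leaf (nat_lit 0x0))))))
 (.node (nat_lit 85) (.node (nat_lit 83) (.node (nat_lit 82) (.leaf (nat_lit 0x0))
 (.leaf (nat_lit 0x0)))
 (.node (nat_lit 84) (.leaf (nat_lit 0x0))
 (.leaf (nat_lit 0x2000006000600060602000000020006000400060000020206060202000402060200040006000206000602060202020007060200040000000700020604040404060006060404070202000000040007))))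
 (.node (nat_lit 87) (.node (nat_lit 86) (.leaf (nat_lit 0x2000006000600060602000000020006000400060000020206060202000402060200040006000206000602060202020000060200040000000700020604040404060006060404070202000100040007))
 (.leaf (nat_lit 0x0)))
 (.node (nat_lit 88) (.leaf (nat_lit 0x5000006000300030701000004050003040100020600050107030501000604010401010407050103000105030505010407070302040301010200070500040406060304030606000501000006020005))
 (.node (nat_lit 89) (.leaf (nat_lit 0x100000000000000000000000000000000000000000000))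
 (.leaf (nat_lit 0x20000000000000000000000000000000002000000000000000000000000000000000000000300000000000000000000000100070000000000000000)))))))
 (.node (nat_lit 99) (.node (nat_lit 94) (.node (nat_lit 92) (.node (nat_lit 91) (.leaf (nat_lit 0x6000004000200060702000000050006040600040402070204010605020604040600060104040202040506020202020006060103010204030000030102000402020502020002000202000401000005))
 (.leaf (nat_lit 0x6000002000200020206000000060002000400020000060602020606000406020600040002000602000206020606060000020600040000000100060204040404020002020404010606000000040005)))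
 (.node (nat_lit 93) (.leaf (nat_lit 0x0))
 (.leaf (nat_lit 0x0))))
 (.node (nat_lit 96) (.node (nat_lit 95) (.leaf (nat_lit 0x0))
 (.leaf (nat_lit 0x0)))
 (.node (nat_lit 97) (.leaf (nat_lit 0x4000204000200030401000004050003000000020200030707050403000706010405000306050604070104040505010307070702040004030500070602000100010307040700000501020101060002))
 (.node (nat_lit 98) (.leaf (nat_lit 0x50205000006050005020000020600070703010001000103070701000504060100050000000103050005010605000004000500000203000301060502000507000305000103000000))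
 (.leaf (nat_lit 0x4000204000200030401000004050003000000020200030707050403000706010405000306050604070104040505010407070702040004030500070602000100010307040700000501030101060002))))))
 (.node (nat_lit 103) (.node (nat_lit 101) (.node (nat_lit 100) (.leaf (nat_lit 0x2000006000000060000000600000607060002000700020606000202040100000300000200020402000705040004070000050006000203040004000005020002000201020000))
 (.leaf (nat_lit 0x10607000000050001020000020000070507030007000506010407000302030600010100000307070007050500000000030100070002000502030305000103060707000305000000)))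
 (.node (nat_lit 102) (.leaf (nat_lit 0x6000004000200020304000002050002040600040702070000030603020206060306060702010602000206020406040000020402010200030400060701000607070305020406060604000603000005))
 (.leaf (nat_lit 0x6000002000000020000000200000202020006000100060202000606040700000100000600060406000507040004060000070002000601040004000003060006000600060000))))
 (.node (nat_lit 105) (.node (nat_lit 104) (.leaf (nat_lit 0x50205000006050005020000020600070703010001000104070701000504060100050000000103050005010605000004000500000203000301060502000507000305000103000000))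
 (.leaf (nat_lit 0x4000604000600030407000006050003040000020000030103030401000706030607000104010004070204040305070401070201040000060100060004000305050103040702020507060703020002)))
 (.node (nat_lit 106) (.leaf (nat_lit 0x0))
 (.node (nat_lit 107) (.leaf (nat_lit 0x0))
 (.leaf (nat_lit 0x0))))))))
 (.node (nat_lit 126) (.node (nat_lit 117) (.node (nat_lit 112) (.node (nat_lit 110) (.node (nat_lit 109) (.leaf (nat_lit 0x5000006000300070401000000070007020002020700050305060505000106010403070602050703040305030501010007030304000307060300050301070306070003030207040101000001040005))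
 (.leaf (nat_lit 0x70000000000000000000000000000000000000000000000000000000000000000000000000000)))
 (.node (nat_lit 111) (.leaf (nat_lit 0x5000006000300040704000000050004000100040204050604000503040406050205010104020603010205020404040002040206020306000600060100040706030707020704020404000700000005))
 (.leaf (nat_lit 0x3000002000500060104000006010006040700000406040102000302060606070407070402000405010603050402040006060406030505060400020502040600070107050302040204000105000002))))
 (.node (nat_lit 114) (.node (nat_lit 113) (.leaf (nat_lit 0x40504000000010004000000000104010606000007040406030504000700070400040200000404040004040206020002050200060503000701070301000404000404000400000000))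
 (.leaf (nat_lit 0x5000006000300040704000000050004000100040204050604000503040406050205010104020603010205030404040002040206020306000600060100040706030707030704020404000700000005)))
 (.node (nat_lit 115) (.leaf (nat_lit 0x2000004000600060600000002040006040200040606020602000201060600060606020402020206000002060002000004060204070602060200000406000102040600060402060200000604000007))
 (.node (nat_lit 116) (.leaf (nat_lit 0x5000006000300040704000000050004000100040204050604000503040406050206010004020603010205030404040002040206020307000600060000040706030707030704020404000700000005))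
 (.leaf (nat_lit 0x40404000000000004040000000002000402000000020200050004000000040600040700000404040004040707010000070400010200000406040204000406000404000407040000))))))
 (.node (nat_lit 121) (.node (nat_lit 119) (.node (nat_lit 118) (.leaf (nat_lit 0x3000002000500040104000000030004000700040604030204000305040402030603070704060205070203050404040006040206060502040200060700040106050101060104060404000100000002))
 (.leaf (nat_lit 0x0)))
 (.node (nat_lit 120) (.leaf (nat_lit 0x0))
 (.leaf (nat_lit 0x50205000006050005020000020600070703010001000104070701000504060107050000000103050005010605000004000500000204000301060502000507000305000103000000))))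
 (.node (nat_lit 123) (.node (nat_lit 122) (.leaf (nat_lit 0x40406000006000004000000000600000204060002000406060402000202020400040307000604060006040501000004010400050201000603020205000404020406000606000000))
 (.leaf (nat_lit 0x1000000000000000000000000000000000000000000)))
 (.node (nat_lit 124) (.leaf (nat_lit 0x6000004000200020300000006050002040605040502070400070607020202020502010306030602000406020006000004020200010205030400040607060201010403020406020600000207000005))
 (.node (nat_lit 125) (.leaf (nat_lit 0x10607000000050001020000020000070507030007000506010407000302040500010100000307070007050500000000030100070002000502030305000103060707000305000000))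
 (.leaf (nat_lit 0x5000006000300040704000000050004000100040204050604000503040406050205020004020603010205030404040002040206020306000600060100040706030707030704020404000700000005)))))))
 (.node (nat_lit 135) (.node (nat_lit 130) (.node (nat_lit 128) (.node (nat_lit 127) (.leaf (nat_lit 0x4000000000400060200000002040006040406040406040006020506060600000400060602040604020004040002000000060204030402000200000204050004000000040202020200000400000002))
 (.leaf (nat_lit 0x1000000000000000000000000000000000000)))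
 (.node (nat_lit 129) (.leaf (nat_lit 0x40406000006000004000000000600000204060002000406060402000202020400040300000604060006040501000004010400050201000603030205000404020406000606000000))
 (.leaf (nat_lit 0x100000000000000000000000000000000000000000000000000))))
 (.node (nat_lit 132) (.node (nat_lit 131) (.leaf (nat_lit 0x7000000000001000000000000000000000000))
 (.leaf (nat_lit 0x0)))
 (.node (nat_lit 133) (.leaf (nat_lit 0x10607000000050001020000020000070507030007000506010407000302030500010100000307070007050500000000040100070002000502030305000103060707000305000000))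
 (.node (nat_lit 134) (.leaf (nat_lit 0x5000006000300040704000000050004000100040204050604000503040406050205010004020603010205030404040002040206020307000600060100040706030707030704020404000700000005))
 (.leaf (nat_lit 0x4000000000400060204000006040006040400040606040406060402060604040204040206020604020204040402040004060002030404040200060306000406060702040202060204000003000002))))))
 (.node (nat_lit 139) (.node (nat_lit 137) (.node (nat_lit 136) (.leaf (nat_lit 0x4000000000400060204000006040006040400040604040406060402040604040204040206020604020204040402040004060007060404040200060306000406060702040202060204000005000002))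
 (.leaf (nat_lit 0x10000000000000000000000000000000000000000000000)))
 (.node (nat_lit 138) (.leaf (nat_lit 0x1000000000000000000000000000000000000000000000000))
 (.leaf (nat_lit 0x7000000))))
 (.node (nat_lit 141) (.node (nat_lit 140) (.leaf (nat_lit 0x100000000000000000000000000000000000000))
 (.leaf (nat_lit 0x4000000000400020600000006040002000400040604040004060402040404000200040206060004060704040006000000020507020404010600010106000004020506040604060600000404040002)))
 (.node (nat_lit 142) (.leaf (nat_lit 0x6000004000200000404000004000000000600000000060204020606000004020402060204000402060606020400040000000202040206020000020100000504060706020200000004000600000005))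
 (.node (nat_lit 143) (.leaf (nat_lit 0x4000004000000000006000600000400040004000004040204020404020000000200000400040004000606000006000000060706050402020106000000040004000404000000))
 (.leaf (nat_lit 0x4000000000400040204000000060004000400000004020400060406040400000400040600000404000604040404040004040602060400020000020504000004040704040004000404000006000002))))))))))
noncomputable def h2H : Holt := ⟨(nat_lit 2), (nat_lit 8), (nat_lit 12), (nat_lit 188), (nat_lit 155), h2W, (nat_lit 44), h2F, h2A, h2B, h2X, [((nat_lit 2), (nat_lit 0x100000700000000000000000000010000000000000000000000000000000000000000000000000000000000000000000000000000000000000000000000000000000000000000000000000000), (nat_lit 0x20000000006060002040000040600020006000004000204040604000406020200020100000006000000020301000004030200070202000407020406000206060600000004000000)),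
  ((nat_lit 2), (nat_lit 0x100000000000000000000000000000000000000000000000000), (nat_lit 0x5))], h2D, h2Y⟩
noncomputable def h2L : List (ℕ × List (List ℕ)) := [((nat_lit 45), [[nat_lit 2]]),
  ((nat_lit 87), [[nat_lit 3], [nat_lit 6]]),
  ((nat_lit 9), [[nat_lit 1, nat_lit 2], [nat_lit 5, nat_lit 6], [nat_lit 9]]),
  ((nat_lit 1), [[nat_lit 0, nat_lit 2, nat_lit 6], [nat_lit 8], [nat_lit 10]]),
  ((nat_lit 3), [[nat_lit 4, nat_lit 6, nat_lit 10], [nat_lit 11]]),
  ((nat_lit 15), [[nat_lit 7, nat_lit 9, nat_lit 11]])]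
theorem h2r : h2H.relChk (weqOn (nat_lit 8) (nat_lit 255) h2T B) = true := by decide +kernel
theorem h2l : h2H.linChk = true := by decide +kernel
theorem h2 : ¬ 2 ^ (2 + 1) ∣ Nat.card (L.SM P) :=
  holt_bound h2lets.rep (ofNat_inj 135) base.1 base.2 h2H 2 h2L (show Nat.Prime 2 by norm_num)
    (by rw [card]; decide +kernel) (by decide +kernel) h2r h2l

noncomputable def h3t0 : ℕ := (nat_lit 0x356e560c7a411a6245721e4e3186045e48632a442402836820530a582e784073742c6018388008543c6a005c287c1c4a06263e32654c717e0e5a22553a6c3681014f673010476f295f14772d57097f34767915196d820b215d03522566114d1d4b127d465105853d590d6b396116754233371f072b3f17137b277043491b640f842f693b50235b)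
noncomputable def h3t1 : ℕ := (nat_lit 0x49642f3b3e32654c5c4128564657512d4f42295945545e2c48363a636637334d111d13178368816c047408726f0d75010577097d7c0c7a0084191569821b0f6d505b27435853402e4a353c625f3d344b473930616031384e2a555a443f5d522b0325071f220e24021e8018861667106b127f14851a6a1c6e067378260a717e20217b700b237976)
noncomputable def h3t2 : ℕ := (nat_lit 0x3432181d777e545213723d585e377312482a8423248327496d000b6a0e676c0106096066655f08032b4e8520861f2e4b75163b5b3959700f1c797c195530364f040746403f450a052d4c2580267f2c4d76155a3a5c3c6f107b1a1b7a562f355033317d781e17535114715d383e5774114a282281822129476b020d6843626441634244610c696e)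
noncomputable def h3t3 : ℕ := (nat_lit 0x3e53563c4a41404c4548444e3a54385560632a2c36315e5a325c35582e622865741e72182268246c266a206e1a731c71060c0a007c787a7e0e80048302860881394f523742474d3f49464b43503d513b645f2d275b57342f5d3059336629612b7019761b69216d2367256b1f6f1d75170d030107161110137b12771579147d0f84057f0b820985)
noncomputable def h3t4 : ℕ := (nat_lit 0x2332063b497e657013722b4e6c01553048186616245403596d003d582e4b7c192a1d6075835208390b6a852073121c798434095b27775f0f0e675e37861f364f3a07332210451e291b7a436235500c69764678285c0a51215d380d687411446115407d4a3c05538225806b022c4d63425a0431816f3f17477b1a2d4c14716441562f267f3e576e)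
noncomputable def h3t5 : ℕ := (nat_lit 0x43131f2f3b071727415c354a04741e807d305914852961094836267873063a631242477705394f7f445a7e200a71552a4925115b501d0364861828563c6272085e6e7a4e38001c2c69157b210b701984244c406c812e6502166757466f0d3d5f685832220e3e53836b10344b0175512d317c6a45541a0c6023794d335d3f0f6d821b2b52376676)
noncomputable def h3t6 : ℕ := (nat_lit 0x4a0048024b054d0342188258805940197508760a740d730b5c85461c5d83441d7d3d63247c3c6625546b6d53162c2e1560397920613878216a51122852682a11672969274f10500f627722377a5f3a1f562d552b6e146c137b65263b647e3e235e1e844386455b1b340c0e33093536077f1a5a3f574181174e6f3004704c062f72470131497132)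
noncomputable def h3t7 : ℕ := (nat_lit 0x3c5c21828324593972132b4e4c2d1471453f171e7e775f65006d0b6a6b02680d106f472949270f703d58852025805d38050a5153525403087b1a7a1b436241641576284a2a481675375e861f267f573e07043133323409061c79197c426344613a5a812223845b3b73122e4b4d2c11744046787d1d1866600e67016c55304f362f563550690c6e)
noncomputable def h3T_0 : Tr ℕ := (.node (nat_lit 4) (.node (nat_lit 2) (.node (nat_lit 1) (.leaf h3t0)
 (.leaf h3t1))
 (.node (nat_lit 3) (.leaf h3t2)
 (.leaf h3t3)))
 (.node (nat_lit 6) (.node (nat_lit 5) (.leaf h3t4)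
 (.leaf h3t5))
 (.node (nat_lit 7) (.leaf h3t6)
 (.leaf h3t7))))
noncomputable def h3E_0 : Tr (List ℕ) := (.node (nat_lit 4) (.node (nat_lit 2) (.node (nat_lit 1) (.leaf [nat_lit 11, nat_lit 10, nat_lit 8, nat_lit 12, nat_lit 9, nat_lit 11, nat_lit 8, nat_lit 11, nat_lit 6, nat_lit 10, nat_lit 0, nat_lit 10, nat_lit 8, nat_lit 6, nat_lit 5, nat_lit 2, nat_lit 1, nat_lit 0])
 (.leaf [nat_lit 8, nat_lit 12, nat_lit 5, nat_lit 10, nat_lit 12, nat_lit 9, nat_lit 4, nat_lit 10, nat_lit 8, nat_lit 6, nat_lit 5]))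
 (.node (nat_lit 3) (.leaf [nat_lit 2, nat_lit 12, nat_lit 6, nat_lit 12, nat_lit 11, nat_lit 4, nat_lit 11, nat_lit 10, nat_lit 8, nat_lit 0, nat_lit 10, nat_lit 8, nat_lit 7, nat_lit 5, nat_lit 3, nat_lit 1])
 (.leaf [nat_lit 0, nat_lit 12, nat_lit 10, nat_lit 6, nat_lit 12, nat_lit 9, nat_lit 11, nat_lit 4, nat_lit 11, nat_lit 10, nat_lit 0, nat_lit 9, nat_lit 8, nat_lit 6, nat_lit 4, nat_lit 1, nat_lit 0])))
 (.node (nat_lit 6) (.node (nat_lit 5) (.leaf [nat_lit 2, nat_lit 12, nat_lit 6, nat_lit 12, nat_lit 11, nat_lit 0, nat_lit 9, nat_lit 7, nat_lit 5, nat_lit 4, nat_lit 3, nat_lit 2, nat_lit 1, nat_lit 0])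
 (.leaf [nat_lit 8, nat_lit 12, nat_lit 5, nat_lit 10, nat_lit 12, nat_lit 9, nat_lit 11, nat_lit 0, nat_lit 11, nat_lit 10, nat_lit 0, nat_lit 9, nat_lit 7, nat_lit 6, nat_lit 5, nat_lit 4, nat_lit 2, nat_lit 1]))
 (.node (nat_lit 7) (.leaf [nat_lit 1, nat_lit 12, nat_lit 9, nat_lit 12, nat_lit 10, nat_lit 11, nat_lit 4, nat_lit 11, nat_lit 1, nat_lit 10, nat_lit 7, nat_lit 6, nat_lit 4, nat_lit 2])
 (.leaf [nat_lit 2, nat_lit 12, nat_lit 6, nat_lit 12, nat_lit 11, nat_lit 1, nat_lit 11, nat_lit 10, nat_lit 8, nat_lit 10, nat_lit 8, nat_lit 6, nat_lit 4, nat_lit 3, nat_lit 2, nat_lit 1]))))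
noncomputable def h3T : Tr ℕ := h3T_0
noncomputable def h3E : Tr (List ℕ) := h3E_0
theorem h3w_0 : h3T_0.all2 (fun c w => isProd 135 (nat_lit 8) (nat_lit 255) T c w) h3E_0 = true := by decide +kernel
theorem h3lets : Lets P 135 (nat_lit 8) (nat_lit 255) (Fin.ofNat 135) h3T := lets_words lets h3E h3w_0
noncomputable def h3W : Tr (List ℕ) := (.node (nat_lit 12) (.node (nat_lit 6) (.node (nat_lit 3) (.node (nat_lit 1) (.leaf [])
 (.node (nat_lit 2) (.leaf [])
 (.leaf [])))
 (.node (nat_lit 4) (.leaf [])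
 (.node (nat_lit 5) (.leaf [])
 (.leaf [nat_lit 1, nat_lit 3, nat_lit 3]))))
 (.node (nat_lit 9) (.node (nat_lit 7) (.leaf [])
 (.node (nat_lit 8) (.leaf [])
 (.leaf [])))
 (.node (nat_lit 10) (.leaf [])
 (.node (nat_lit 11) (.leaf [nat_lit 2])
 (.leaf [nat_lit 2])))))
 (.node (nat_lit 18) (.node (nat_lit 15) (.node (nat_lit 13) (.leaf [])
 (.node (nat_lit 14) (.leaf [])
 (.leaf [])))
 (.node (nat_lit 16) (.leaf [nat_lit 3])
 (.node (nat_lit 17) (.leaf [nat_lit 3, nat_lit 4])
 (.leaf [nat_lit 3]))))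
 (.node (nat_lit 21) (.node (nat_lit 19) (.leaf [])
 (.node (nat_lit 20) (.leaf [])
 (.leaf [nat_lit 4])))
 (.node (nat_lit 23) (.node (nat_lit 22) (.leaf [nat_lit 4])
 (.leaf [nat_lit 4]))
 (.node (nat_lit 24) (.leaf [nat_lit 4])
 (.leaf []))))))
noncomputable def h3F : Tr (ℕ × List ℕ × List ℕ) := (.node (nat_lit 6) (.node (nat_lit 3) (.node (nat_lit 1) (.leaf ((nat_lit 5), [nat_lit 1], [nat_lit 3, nat_lit 3, nat_lit 4]))
 (.node (nat_lit 2) (.leaf ((nat_lit 5), [nat_lit 2], [nat_lit 2]))
 (.leaf ((nat_lit 5), [nat_lit 3], [nat_lit 1, nat_lit 3, nat_lit 4, nat_lit 4]))))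
 (.node (nat_lit 4) (.leaf ((nat_lit 5), [nat_lit 4], [nat_lit 4]))
 (.node (nat_lit 5) (.leaf ((nat_lit 6), [nat_lit 0], [nat_lit 2, nat_lit 3, nat_lit 4]))
 (.leaf ((nat_lit 6), [nat_lit 2], [nat_lit 2])))))
 (.node (nat_lit 9) (.node (nat_lit 7) (.leaf ((nat_lit 6), [nat_lit 3], [nat_lit 0, nat_lit 0, nat_lit 2, nat_lit 3, nat_lit 4, nat_lit 4]))
 (.node (nat_lit 8) (.leaf ((nat_lit 6), [nat_lit 4], [nat_lit 0, nat_lit 0, nat_lit 2, nat_lit 3, nat_lit 3, nat_lit 4]))
 (.leaf ((nat_lit 7), [nat_lit 0], [nat_lit 0, nat_lit 0, nat_lit 3, nat_lit 4, nat_lit 4]))))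
 (.node (nat_lit 11) (.node (nat_lit 10) (.leaf ((nat_lit 7), [nat_lit 1], [nat_lit 1, nat_lit 1, nat_lit 3, nat_lit 3]))
 (.leaf ((nat_lit 7), [nat_lit 2], [nat_lit 2, nat_lit 2])))
 (.node (nat_lit 12) (.leaf ((nat_lit 7), [nat_lit 3], [nat_lit 3, nat_lit 4]))
 (.leaf ((nat_lit 7), [nat_lit 4], [nat_lit 4, nat_lit 4]))))))
noncomputable def h3A : List (List ℕ × ℕ × ℕ) := [([nat_lit 3], (nat_lit 2), (nat_lit 1)),
  ([nat_lit 4], (nat_lit 1), (nat_lit 0)),
  ([nat_lit 3], (nat_lit 1), (nat_lit 0)),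
  ([nat_lit 2], (nat_lit 1), (nat_lit 0)),
  ([nat_lit 3, nat_lit 3], (nat_lit 3), (nat_lit 1)),
  ([nat_lit 1], (nat_lit 0), (nat_lit 0)),
  ([nat_lit 1, nat_lit 1], (nat_lit 1), (nat_lit 0))]
noncomputable def h3B : List (ℕ × List ℕ × List ℕ) := [((nat_lit 5), [nat_lit 1, nat_lit 0], [nat_lit 0, nat_lit 1]),
  ((nat_lit 5), [nat_lit 0, nat_lit 0, nat_lit 0], []),
  ((nat_lit 6), [nat_lit 5, nat_lit 4], [nat_lit 4, nat_lit 5]),
  ((nat_lit 6), [nat_lit 4, nat_lit 4, nat_lit 4], []),
  ((nat_lit 6), [nat_lit 7, nat_lit 4], [nat_lit 4, nat_lit 7]),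
  ((nat_lit 7), [nat_lit 10, nat_lit 10, nat_lit 10], [])]
noncomputable def h3X : Tr ℕ := (.node (nat_lit 2) (.node (nat_lit 1) (.leaf (nat_lit 0x0))
 (.leaf (nat_lit 0x0)))
 (.node (nat_lit 3) (.leaf (nat_lit 0x0))
 (.node (nat_lit 4) (.leaf (nat_lit 0x20000000000))
 (.leaf (nat_lit 0x100000000000000000000000000000000)))))
noncomputable def h3D : Tr ℕ := (.node (nat_lit 12) (.node (nat_lit 6) (.node (nat_lit 3) (.node (nat_lit 1) (.leaf (nat_lit 0x0))
 (.node (nat_lit 2) (.leaf (nat_lit 0x0))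
 (.leaf (nat_lit 0x0))))
 (.node (nat_lit 4) (.leaf (nat_lit 0x0))
 (.node (nat_lit 5) (.leaf (nat_lit 0x0))
 (.leaf (nat_lit 0x0)))))
 (.node (nat_lit 9) (.node (nat_lit 7) (.leaf (nat_lit 0x0))
 (.node (nat_lit 8) (.leaf (nat_lit 0x0))
 (.leaf (nat_lit 0x0))))
 (.node (nat_lit 10) (.leaf (nat_lit 0x0))
 (.node (nat_lit 11) (.leaf (nat_lit 0x0))
 (.leaf (nat_lit 0x0))))))
 (.node (nat_lit 18) (.node (nat_lit 15) (.node (nat_lit 13) (.leaf (nat_lit 0x0))
 (.node (nat_lit 14) (.leaf (nat_lit 0x0))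
 (.leaf (nat_lit 0x0))))
 (.node (nat_lit 16) (.leaf (nat_lit 0x0))
 (.node (nat_lit 17) (.leaf (nat_lit 0x0))
 (.leaf (nat_lit 0x0)))))
 (.node (nat_lit 21) (.node (nat_lit 19) (.leaf (nat_lit 0x0))
 (.node (nat_lit 20) (.leaf (nat_lit 0x0))
 (.leaf (nat_lit 0x0))))
 (.node (nat_lit 23) (.node (nat_lit 22) (.leaf (nat_lit 0x0))
 (.leaf (nat_lit 0x0)))
 (.node (nat_lit 24) (.leaf (nat_lit 0x0))
 (.leaf (nat_lit 0x0)))))))
noncomputable def h3Y : Tr ℕ := (.node (nat_lit 12) (.node (nat_lit 6) (.node (nat_lit 3) (.node (nat_lit 1) (.leaf (nat_lit 0x1000200000000010100000000))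
 (.node (nat_lit 2) (.leaf (nat_lit 0x0))
 (.leaf (nat_lit 0x0))))
 (.node (nat_lit 4) (.leaf (nat_lit 0x0))
 (.node (nat_lit 5) (.leaf (nat_lit 0x0))
 (.leaf (nat_lit 0x0)))))
 (.node (nat_lit 9) (.node (nat_lit 7) (.leaf (nat_lit 0x20000020100000000))
 (.node (nat_lit 8) (.leaf (nat_lit 0x0))
 (.leaf (nat_lit 0x0))))
 (.node (nat_lit 10) (.leaf (nat_lit 0x0))
 (.node (nat_lit 11) (.leaf (nat_lit 0x2000000000002000002))
 (.leaf (nat_lit 0x200000001000002))))))
 (.node (nat_lit 18) (.node (nat_lit 15) (.node (nat_lit 13) (.leaf (nat_lit 0x1000000000000000000000000))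
 (.node (nat_lit 14) (.leaf (nat_lit 0x0))
 (.leaf (nat_lit 0x0))))
 (.node (nat_lit 16) (.leaf (nat_lit 0x10001000000000000000201))
 (.node (nat_lit 17) (.leaf (nat_lit 0x0))
 (.leaf (nat_lit 0x1000000)))))
 (.node (nat_lit 21) (.node (nat_lit 19) (.leaf (nat_lit 0x10000000000))
 (.node (nat_lit 20) (.leaf (nat_lit 0x0))
 (.leaf (nat_lit 0x20100))))
 (.node (nat_lit 23) (.node (nat_lit 22) (.leaf (nat_lit 0x2020100000100))
 (.leaf (nat_lit 0x1)))
 (.node (nat_lit 24) (.leaf (nat_lit 0x200))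
 (.leaf (nat_lit 0x100000000)))))))
noncomputable def h3H : Holt := ⟨(nat_lit 3), (nat_lit 3), (nat_lit 5), (nat_lit 38), (nat_lit 38), h3W, (nat_lit 13), h3F, h3A, h3B, h3X, [], h3D, h3Y⟩
noncomputable def h3L : List (ℕ × List (List ℕ)) := [((nat_lit 0), [[nat_lit 1], [nat_lit 3], [nat_lit 4]]),
  ((nat_lit 5), [[nat_lit 2, nat_lit 4, nat_lit 4]]),
  ((nat_lit 1), [[nat_lit 0, nat_lit 3, nat_lit 4, nat_lit 4]])]
theorem h3r : h3H.relChk (weqOn (nat_lit 8) (nat_lit 255) h3T B) = true := by decide +kernel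
theorem h3l : h3H.linChk = true := by decide +kernel
theorem h3 : ¬ 3 ^ (0 + 1) ∣ Nat.card (L.SM P) :=
  holt_bound h3lets.rep (ofNat_inj 135) base.1 base.2 h3H 0 h3L (show Nat.Prime 3 by norm_num)
    (by rw [card]; decide +kernel) (by decide +kernel) h3r h3l

noncomputable def h5t0 : ℕ := (nat_lit 0x746c130d655c463b442b5d550a23767e4859293a7a691900220310185058624b4d4f423777820f051f02678027405f4a75831d0864562d3e0b261c14856e737b0111687232285149614e383078702106334554660c1b6d7c1e160724432e353d362c5e630915847d866b0e255b53343c0417816f2f41574c6047525a2a3f393179716a7f121a20)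
noncomputable def h5t1 : ℕ := (nat_lit 0x1f207f802a274a471b797c1a335254311d787d1836505630228384214b2d2c4e44434142070a0504375d3d570f76166f3a5b3c59117314720e68690b006e6b0185862526282948497a1c197b34515332771e177e354f552f248182234d2b2e4c62616364090803065e38583e107515705c395a3b127413715f464560663f40650c6a670d026c6d)
noncomputable def h5t2 : ℕ := (nat_lit 0x5258604b6247505a4f63495c4d5e5165564864596657544c5d4e5f535b4a61557277747d8268846c796e7b6a7f7385717667706b8678807e6d7a6f83697c75812d453e3329413a2f44303c274034382b2a3539432e313d3f32462c373642283b0a25061f02210e230c19001b041d081701150d0f0911051320141e032612180724101a0b22161c)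
noncomputable def h5t3 : ℕ := (nat_lit 0x7160b1411010f05297a2f812b7e34861d561b541f4a214e3f716a393b6c7446322882772e357b850a5d5b0e00595704406770383e756d452052471a5022184b1c261e244f4d5149416f3a696b3c76440c66086461065f02317f792a7d2c3684423772686e733d43255355234c171948307880277c332d830d5c65135e0915636210035812605a)
noncomputable def h5T_0 : Tr ℕ := (.node (nat_lit 2) (.node (nat_lit 1) (.leaf h5t0)
 (.leaf h5t1))
 (.node (nat_lit 3) (.leaf h5t2)
 (.leaf h5t3)))
noncomputable def h5E_0 : Tr (List ℕ) := (.node (nat_lit 2) (.node (nat_lit 1) (.leaf [nat_lit 8, nat_lit 12, nat_lit 10, nat_lit 12, nat_lit 11, nat_lit 5, nat_lit 6, nat_lit 11, nat_lit 10, nat_lit 2, nat_lit 9, nat_lit 8, nat_lit 6, nat_lit 4, nat_lit 3, nat_lit 0])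
 (.leaf [nat_lit 12, nat_lit 7, nat_lit 6, nat_lit 12, nat_lit 0, nat_lit 9, nat_lit 8, nat_lit 7, nat_lit 5, nat_lit 3, nat_lit 2, nat_lit 0]))
 (.node (nat_lit 3) (.leaf [nat_lit 4, nat_lit 11, nat_lit 9, nat_lit 12, nat_lit 11, nat_lit 3, nat_lit 10, nat_lit 11, nat_lit 9, nat_lit 0, nat_lit 9, nat_lit 5, nat_lit 4, nat_lit 2, nat_lit 1, nat_lit 0])
 (.leaf [nat_lit 1, nat_lit 11, nat_lit 6, nat_lit 12, nat_lit 8, nat_lit 9, nat_lit 11, nat_lit 7, nat_lit 5, nat_lit 4, nat_lit 3, nat_lit 2, nat_lit 1])))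
noncomputable def h5T : Tr ℕ := h5T_0
noncomputable def h5E : Tr (List ℕ) := h5E_0
theorem h5w_0 : h5T_0.all2 (fun c w => isProd 135 (nat_lit 8) (nat_lit 255) T c w) h5E_0 = true := by decide +kernel
theorem h5lets : Lets P 135 (nat_lit 8) (nat_lit 255) (Fin.ofNat 135) h5T := lets_words lets h5E h5w_0
noncomputable def h5W : Tr (List ℕ) := (.node (nat_lit 2) (.node (nat_lit 1) (.leaf [])
 (.leaf []))
 (.node (nat_lit 3) (.leaf [nat_lit 1])
 (.leaf [])))
noncomputable def h5F : Tr (ℕ × List ℕ × List ℕ) := (.node (nat_lit 2) (.node (nat_lit 1) (.leaf ((nat_lit 2), [nat_lit 0], [nat_lit 0]))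
 (.leaf ((nat_lit 2), [nat_lit 1], [nat_lit 0, nat_lit 1, nat_lit 1, nat_lit 1, nat_lit 1])))
 (.node (nat_lit 3) (.leaf ((nat_lit 3), [nat_lit 0], [nat_lit 0, nat_lit 0]))
 (.leaf ((nat_lit 3), [nat_lit 1], [nat_lit 1, nat_lit 1]))))
noncomputable def h5A : List (List ℕ × ℕ × ℕ) := []
noncomputable def h5B : List (ℕ × List ℕ × List ℕ) := [((nat_lit 2), [nat_lit 1, nat_lit 0], [nat_lit 0, nat_lit 1]),
  ((nat_lit 2), [nat_lit 1, nat_lit 1, nat_lit 1, nat_lit 1, nat_lit 1], []),
  ((nat_lit 3), [nat_lit 2, nat_lit 2, nat_lit 2, nat_lit 2, nat_lit 2], [])]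
noncomputable def h5X : Tr ℕ := (.node (nat_lit 1) (.leaf (nat_lit 0x0))
 (.leaf (nat_lit 0x0)))
noncomputable def h5D : Tr ℕ := (.node (nat_lit 2) (.node (nat_lit 1) (.leaf (nat_lit 0x0))
 (.leaf (nat_lit 0x0)))
 (.node (nat_lit 3) (.leaf (nat_lit 0x0))
 (.leaf (nat_lit 0x0))))
noncomputable def h5Y : Tr ℕ := (.node (nat_lit 2) (.node (nat_lit 1) (.leaf (nat_lit 0x10000))
 (.leaf (nat_lit 0x0)))
 (.node (nat_lit 3) (.leaf (nat_lit 0x2))
 (.leaf (nat_lit 0x30200))))
noncomputable def h5H : Holt := ⟨(nat_lit 5), (nat_lit 5), (nat_lit 2), (nat_lit 8), (nat_lit 46), h5W, (nat_lit 4), h5F, h5A, h5B, h5X, [], h5D, h5Y⟩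
noncomputable def h5L : List (ℕ × List (List ℕ)) := [((nat_lit 2), [[nat_lit 0]]),
  ((nat_lit 0), [[nat_lit 1]])]
theorem h5r : h5H.relChk (weqOn (nat_lit 8) (nat_lit 255) h5T B) = true := by decide +kernel
theorem h5l : h5H.linChk = true := by decide +kernel
theorem h5 : ¬ 5 ^ (0 + 1) ∣ Nat.card (L.SM P) :=
  holt_bound h5lets.rep (ofNat_inj 135) base.1 base.2 h5H 0 h5L (show Nat.Prime 5 by norm_num)
    (by rw [card]; decide +kernel) (by decide +kernel) h5r h5l

noncomputable def c2u0 : ℕ := (nat_lit 0x77fbbd0ea66bb1cfed74af1caddf1b8bc2e06d725c9dc5fb7d7cbd6bec98fcae9ec34ea45b2a9d6cce3753bdc86af2f89c5ddb0975c06db65b0e6e1b052aa25733f66b4daf595fd258adf5aa9d0339589ce8e8f4ad0d32e123abc6a4d02a84766932984563173944f615439044a6f3f96c425d1f8b43dfb257d3e1fd3a804161b08833d1ecf079319a2a370b29be7b74390a8db2fb4daad676b359ee73c3bd86c41b9fc9eae3225d62b35aae90649542994aea332713e3c112dc98211da351c340fa1838ad1caf836e3649d8ea7238974c6300b281726d13b64de452c159b83317af528115511cb642208fd3691403011453359445a2b14980489849221087c0c1a0081225038140c03020280001)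
noncomputable def c2u1 : ℕ := (nat_lit 0x77fb99ac9f477bcfebf4b0dcbc7f1f89c2cc5ffabaac86d36f7cbdebac3bbca69ac949a7d7a8ddae065f51d8dcf231b8bc4736d173ad6ff65b1bbde25582b8566c741c2d5b4b6cd6e7aa780b7d9e995da8e86ab20d16728919b546a4d039ccda510e80c5645749a4f64b2da5416393ea145e5cfe884ca1b0b7c3ea3d3a98449f907843c9e0f67a3ad94ef6b34184dd69b11c6a76cba10ee0733319eec1ca8dbce5339fca2ba552596a7258ab958b81fb684ac71ba753e3c112dc94921d168881e1a35108823cafc6254400a08eb20c9b8c41b13b04906c0b97cb88f2c95cf6535e8b82295321d11842202a5349064a8112333e93c582a3b9a1489810228386a381800612260380c0805030001402)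
noncomputable def c2u2 : ℕ := (nat_lit 0x77fb9dbec75fa97ce86cf0fcbd571f89c3b4edf7b8ec0efefdceca6bacbc9bde9ac34ea45b6a99ac25136393adeeee3509cf333172dced3a7a8bb5e25583c65633d41e055b595ed258aa790b759f395dc5e8a8d28d05332f42b54be773cc442e4100874fe5974a5c0e3b239a47e4b158cc3635137e4c62d36834220b26993fe22f97d3c1e4f47bb9946d16ebbd40d62a99dd0db2f389a87b753319cc63232d8037622fc94af3cadd60735a2ed06815429d48ed722713e3d11a5ca29348a203c45472190aad551fcd0d35c0a48cb20c9b8da613eb79906335b64ba3516049c0534a0445ebd1c9d1162a078fd363b2430cb43313934b2423b8c44a99102303a1638868145627100081401000180803)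
noncomputable def c2u3 : ℕ := (nat_lit 0xf1b979bc974779b3ebdf307ddc777f4daec85fba9aacc6d76fd3d4f0e9fbad87169364b0552d9dbdc622f5d9e0727158dcbdcf03ccc2efb9f95bacaaf187a8d073958ad54b4747d0d36af69b55773f66b86b2bd32d258a7122b746e4f03a2c36634a9ac563176804f623428744dfb3e96c2a5f1e92c826d177d3e5fd3b944123909833d5eef079b1da2a37132984e83d311aed541b71b654762713ee65c3bdbee5331f928b56425d767057ac0bc3852a1d50eb1bb359e221eadd786e1da311c340f29864d824af862e032118521859a48c61a13304f26d0bab4404420109a41d259309c51409dcb6572c89532915528516853e8441c133a9a07c9a2ea24a46a391801a2a170b428050000c160604)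
noncomputable def c2u4 : ℕ := (nat_lit 0xf2f8fd5e8e4bb77cececee5debf7775fa6b463f35b6c0eeb55ceca71347b4bd70f43acd2d32c5bdc25c761d7adefe8b38a8e0b3187dcf23a7a9955d6edcdcbd5a8d53e0d629f9ca4d528190b35babf6bc4d933d35b0db31b05ae4560526c542e95319946a257890cea3aff944664b2f8fc367f2d7e4022f367abca853d8748a22f7783ee11067cb418ee66e3acccd72aa85d0a55db8d527a7727d38a332bb46cc161ad898d93c2f904775617962806a895b6ca6fb3998994d9fc9e8531879105b468f926b4552584cd25cacc3228230c876171839190900dabca68b16849c05d082557a2f1c9c06a2b0721c466c243148a6e34128b042399f14c3d0e23842603a1a80c5628104060102850100c05)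
noncomputable def c2u5 : ℕ := (nat_lit 0xf0b89dbecf5ba9a9e86539ba7db6bbbbdfc0eab797eb4f231db0d971b43bee9f2b45a4d651ebd9aad5139f93c26d2e1509c61f2183e06eef77dbcddee972c6d629b40dc55a9155a7e72a599b759ac55cc5d82d90eb267b2f19b540a291ac4cda032094c9e472a98cba4b2d99c12393ba1c5a78fe8852e1b0a793d63d3e9a449f8f17bbe20d087d3a994ef7434142e27099dba8657b594cd273a6878ec1c28d82376218c965f55a415a74413616ab8123507cc672a6046cf4f8eca0935b0d1148c2db6908b13c9b4f87b400656446141bcfc6b34b7c90be30aecb888098b0aa534a8405ebd321c83c0f152919a9664b091c3318134ae4038899509d10114381a3b05c10592710802030a0100e0a06)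
noncomputable def c2u6 : ℕ := (nat_lit 0x68b41d0eae4bb374ed7339fadbf692c960b4e3f35aac06d36f72c353f95babc5238ddeeee7f3bbdaddc307d7c2efa7145a86c72194dcf22ed2ad45f7a7b3cbd4ed956e05638962e1d7e8398b35aaab6fc46ba9b18d351b1531aec565d26c641e3f04a1cf2517a964e9f70f89cd1ef03a53d67f217cc8e10f3864de671b7fc01e125884722d0a7eb45ccc670bb1cad674378aa865db8d507b770f538a3233a98ac2609a064d93a0c5044957ac4bc296a0947ccb5008d9a994d180402e130b4545621b6896b43906cc4d20c0e57080321302e3b5f998e27c4bab4a0120f229b8112e870dc8459b201c891aa919e6a3b8dc80bc5b2491e8c552414c9e4a1649c7e3c1b00c5a29114060905050020c02)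
noncomputable def c2u7 : ℕ := (nat_lit 0xe8f41c0dc6430172b4f379da4c5eb2c164ede333370ece22a174bcd3f8d96c3d2397dfee67b395ade6af0584eb4e77dc9db6a32794ead16ef2ad8df365d3dd5bad96ae8d638762e257a819bb355aa952daebe994bd351eff1eae4fa5d3ac74da61329a4f25b7a9449a491287d0e19028c45a2923854863b107b41a091a803f9f8fa79421e8f878329d6ed3db1988dd69305c4d556955b4e151a7d36ef3739dcaa16fa24ec5e2e1695e4f41ad1b25343a914cd06133d30cc4ea28e279229b0fc965f2a100b142a30b0e8492f0a24b4a3211c40218dc421f2baed72b73e181acab3a2cc8c720e13122693589444341919c7638098642e1b088387c3c3218c902a170b40a3014098160d01800280803)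
noncomputable def c2u8 : ℕ := (nat_lit 0xe9f5fd9ede4fa375ea60b29c6c672b85c5dce2f3597e05471372c3f774b70bcf7f5b49a7e7f3bbdad6eb9bd7c251393bfda6c721cfb4ce25576d45efa7b3d54fad927c04f2c162b2d7a3799974eaa914dbe869933d151b1d12815bacd57bf41e1d4b90d61fd7d805a9f71f98c8df15c823d2a5427bcd1e709854da3141944b1e1258e4422d0c7eb1946d16e32d407a2a99dd2da58349a8d7753319ce622bb984c51b0c8d0ae1a248bc2c6c2ed068d5429d48ed72a687a9f11084c0b63792554651c218c6ac0f94894e22d10c82592b2443a505eb7914854a2d07479399c1c27f3585c4c7d4703990773a0f9385d44b0170bf178c16629159344a984b204d8110993c0a180d11c160c01004280803)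
noncomputable def c2u9 : ℕ := (nat_lit 0x77bbbbada613a986e8f0ac9cce45df59a4b86fab796a8ee31378a76caf9c0a4f4f9da2d067b3944cd76b2938c975b198aece9b1d82c0ef7897bd758761a8d549add3eb459b9562e3d4abb7eac452af3bdbdd29918b9dab3308a0d1a795ec84da6904984be512a835b69523853da851b92ccaa912794423ef98ecb62d0278401f8fa90431e90e7f27d88e43619d9859353bcf8694b11084401e305d4ce530d934d0652c9d0305d9b97cb415a2516e34696d6c225137dceed6391ca8e04a9d8904c271fd601a41074a68e691ec48d56b2917a9225a70286528048bec9559d520dd1fabd58db54364e0723c181843806a60640a5c0205e84030a0aca0020810c8001060c45c000407434160983c1607)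
noncomputable def c2u10 : ℕ := (nat_lit 0x77bb996c463baba6e8e939564e4586fbced56feffdbdbd43b1afbade78970b9e1b85a2d067b3998a2eeb29909c613198ada74bad82c0d6b597bd971e9d48e05b24f46b459b9962bb4eab9bcac5522b5edc6c29b24d4cfb351ca05aa7b52c94da6b16984be0d2b965be31227c436111aa5c12ad12873c9ef21a14a265027f3c1f8fb85479e9108037d36cc5ea71d6aa49278a44a239c0e4786132dc8c12da65d83c672d0d8b818a9164bf4293c9a5924320dca0113bcccc51bb61226b2a9ed52ad5707454800d21db87620a3cac4322ad9d2e06d398c4141f17026a6710952a7d30221146846a59acd469941a00c1d31814345d0b010b01301ce8a20f010fc820b008c85e070007032170a0401808)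
noncomputable def c2u11 : ℕ := (nat_lit 0xee747a1e0e932f81ba59337acb0e66ed8dec56b2151efda30d4fb86279548bc5cfafddede7f39cde3752738ade5138792d76d6fb7be94af0b82d4f17a1a7d84d2a755db4939d20e447681be8bcc6d56cdd6ca1d32d54331d43aecfe5d3aca402dd4babcf1fd7e7e422ccf8b1c7abd067a561ecf2885328d0a93469f4f09b4b25104914523112812f9208f39a5d50822f149ba6a3a140f8d322a1d568b302214a853c3b89aba50ad85e715892852cd72a798a6c5ca9900922eb988c9a763ad1aca63b3d84e24e8e9a81960139b2e95905d46da32050d06364381301f120c820de6b1d97aae07255a01c1f1001a7f160286856042d4700656084b0041316884023d1b8cc002a1207836180a8441a09)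
noncomputable def c2u12 : ℕ := (nat_lit 0xf3b97c5d4e9b6b7ccd77edfdcd7ecbb7abaee52f78eaa6c7a9c7dbf273dc2ec75ea59db56b747d0b65637d7fa06eebd66a3cde6b3398e4ba7bda558aad4d9473731a192e2e43778e6338317cbdd771a588c3ee57986e26173cc8c7a872d8061b0982c0bfa76fcb8bead306b24fac2f48456de4f6a853a91458c48de2f89c4ba552681c4a3514823b9d87e74b9936ad6c3792893702ccba4e31338b03b29ad930c32116ce4ba5cb1ce8d6580a5c6a44029d54a32b27880e462a31b8da0f23d2c8b4421cc84a543a8447a3c1dd6abc2a1b8683d1509d08d0090bda8be66a80e2c828b4c30820a1188ac04e030d4ca05858d808181785a6857198087c10240041b268d89060080387c3819018481c00)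
noncomputable def c2M : Mon := ⟨(nat_lit 240), (nat_lit 120), (nat_lit 8), (nat_lit 255), (nat_lit 9), (nat_lit 511), (nat_lit 2), (.node (nat_lit 6) (.node (nat_lit 3) (.node (nat_lit 1) (.leaf c2u0)
 (.node (nat_lit 2) (.leaf c2u1)
 (.leaf c2u2)))
 (.node (nat_lit 4) (.leaf c2u3)
 (.node (nat_lit 5) (.leaf c2u4)
 (.leaf c2u5))))
 (.node (nat_lit 9) (.node (nat_lit 7) (.leaf c2u6)
 (.node (nat_lit 8) (.leaf c2u7)
 (.leaf c2u8)))
 (.node (nat_lit 11) (.node (nat_lit 10) (.leaf c2u9)
 (.leaf c2u10))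
 (.node (nat_lit 12) (.leaf c2u11)
 (.leaf c2u12)))))⟩
theorem c2r : RL.all c2M.relChk = true := by decide +kernel
theorem c2 : ∃ φ : L.SM P →* Multiplicative (ZMod 2 × ZMod 2),
    Multiplicative.ofAdd (((1 : ℕ) : ZMod 2), ((0 : ℕ) : ZMod 2)) ∈ φ.range ∧
    Multiplicative.ofAdd (((0 : ℕ) : ZMod 2), ((1 : ℕ) : ZMod 2)) ∈ φ.range := by
  haveI : NeZero c2M.q := ⟨by decide⟩
  obtain ⟨φ, h⟩ := cover_hom std c2M (by decide +kernel) c2r
  exact ⟨φ, h [nat_lit 6, nat_lit 8, nat_lit 6, nat_lit 8]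
    [nat_lit 6, nat_lit 6, nat_lit 8, nat_lit 8] 1 0 (by decide +kernel),
    h [nat_lit 0, nat_lit 8, nat_lit 0, nat_lit 8]
    [nat_lit 0, nat_lit 0, nat_lit 8, nat_lit 8] 0 1 (by decide +kernel)⟩

theorem sm_dvd : Nat.card (L.SM P) ∣ 4 :=
  SM_dvd 4 [2, 3, 5] 7 (sqfree_of_chk (by decide +kernel)) 12 (by simp only [List.mem_cons, List.not_mem_nil, or_false, forall_eq_or_imp, forall_eq]; norm_num)
    (by rw [card]; decide +kernel) (by
      simp only [List.mem_cons, List.not_mem_nil, or_false, forall_eq_or_imp, forall_eq]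
      exact ⟨⟨2, by norm_num, h2⟩, ⟨0, by norm_num, h3⟩, ⟨0, by norm_num, h5⟩⟩)
theorem mult : Cfsg.HasSchurMultiplier P (Multiplicative (ZMod 2 × ZMod 2)) := by
  obtain ⟨φ, h1, h2⟩ := c2
  exact hasSchur_of_surj φ (surj_sq φ h1 h2) (by simpa using sm_dvd)

end H8.O82
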