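import Cfsg.Agent.H8.GS62

/-! H8.MS62: `mult`, the Schur multiplier of `P` (generated certificate) -/

set_option autoImplicit false
set_option maxRecDepth 200000

namespace H8.S62

noncomputable def h2t0 : ℕ := (nat_lit 0x3ae78dfef7cef5db3d31cafc2caeeb689eaa5f8218a392599b71d7976196903d24544d654928720d38b3061440c2040)
noncomputable def h2t1 : ℕ := (nat_lit 0xb30e3481c92b5db4cf2c6fc1c6dd79761a6669639218a07ebb2eb689e9a955944d244f43cefdfb7e3ae46143101080)
noncomputable def h2t2 : ℕ := (nat_lit 0x37e0b3092bdfb6d420440f0bde76aa6cad85cf4239218955aeb5a65c6e89df8135114a598723bf39e8d386172c74cc0)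
noncomputable def h2t3 : ℕ := (nat_lit 0x3ef6eb5e74e376d6695654617ceecadc6cc2f4ce48d44c40fae6aa5a64a272c62852442078de89d85c81f0be07d03c0)
noncomputable def h2t4 : ℕ := (nat_lit 0x720a24c2cd3b6d73d31cb0bd85d969b71e7659a48e285f8289e9aabb2eb555944d244f437e3ae7cefdf86143101080)
noncomputable def h2t5 : ℕ := (nat_lit 0x1b72eb67a1a676d4310206fc092b8dfdf8c2e07d14944e59bae4720e37bf0f42286391656cadd7985e9a851b4cf1c80)
noncomputable def h2t6 : ℕ := (nat_lit 0x1969761e75c6f6d74cf1cafc0928720e34c2e69648e189f83ae78dfdfbbf155935124503eaa689edbabb05183102040)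
noncomputable def h2t7 : ℕ := (nat_lit 0xd38c2ca247236d73d31cb0bdd79c6da6576269639218a07edbacaeaa67a165535114903fdfbcefae77e06143101080)
noncomputable def h2t8 : ℕ := (nat_lit 0x81c928b30e376d73d31cb0bd761a65c6dd7a59a48e285f827a2aa6caedb955944d244f438df9ebbf3ef46143101080)
noncomputable def h2t9 : ℕ := (nat_lit 0x723ced85ebb36d410a599244c2f7e1b7289f1c8616285559e769a8d3bae5f8144f0bc31196aeb4a27dfa48cf433d00)
noncomputable def h2t10 : ℕ := (nat_lit 0x1763cec92aeb451a2853530bcd3aaa5b738dcf434cc10a697df9a66bb081df8040f1c96567a0c2f9e9e775d92463900)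
noncomputable def h2t11 : ℕ := (nat_lit 0xbe44c82d09ec0d87f4ddc6c253ee62879f56a7214e346c69681d9d7b50999ad291489ba7c2b30710fa32f1783be235)
noncomputable def h2T_0 : Tr ℕ := (.node (nat_lit 6) (.node (nat_lit 3) (.node (nat_lit 1) (.leaf h2t0)
 (.node (nat_lit 2) (.leaf h2t1)
 (.leaf h2t2)))
 (.node (nat_lit 4) (.leaf h2t3)
 (.node (nat_lit 5) (.leaf h2t4)
 (.leaf h2t5))))
 (.node (nat_lit 9) (.node (nat_lit 7) (.leaf h2t6)
 (.node (nat_lit 8) (.leaf h2t7)
 (.leaf h2t8)))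
 (.node (nat_lit 10) (.leaf h2t9)
 (.node (nat_lit 11) (.leaf h2t10)
 (.leaf h2t11)))))
noncomputable def h2E_0 : Tr (List ℕ) := (.node (nat_lit 6) (.node (nat_lit 3) (.node (nat_lit 1) (.leaf [nat_lit 5, nat_lit 4, nat_lit 3, nat_lit 2, nat_lit 1])
 (.node (nat_lit 2) (.leaf [nat_lit 7, nat_lit 4, nat_lit 0, nat_lit 7, nat_lit 6, nat_lit 4, nat_lit 0, nat_lit 6, nat_lit 5, nat_lit 3, nat_lit 0])
 (.leaf [nat_lit 1, nat_lit 7, nat_lit 5, nat_lit 7, nat_lit 6, nat_lit 4, nat_lit 0, nat_lit 6, nat_lit 5, nat_lit 4, nat_lit 3, nat_lit 1])))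
 (.node (nat_lit 4) (.leaf [nat_lit 1, nat_lit 7, nat_lit 0, nat_lit 7, nat_lit 4, nat_lit 2, nat_lit 6, nat_lit 4, nat_lit 3, nat_lit 1])
 (.node (nat_lit 5) (.leaf [nat_lit 7, nat_lit 4, nat_lit 0, nat_lit 7, nat_lit 6, nat_lit 4, nat_lit 0, nat_lit 6, nat_lit 5, nat_lit 4, nat_lit 3])
 (.leaf [nat_lit 7, nat_lit 4, nat_lit 2, nat_lit 7, nat_lit 4, nat_lit 2, nat_lit 6, nat_lit 5, nat_lit 4, nat_lit 3]))))
 (.node (nat_lit 9) (.node (nat_lit 7) (.leaf [nat_lit 6, nat_lit 4, nat_lit 0, nat_lit 6, nat_lit 5, nat_lit 4, nat_lit 2, nat_lit 1, nat_lit 0])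
 (.node (nat_lit 8) (.leaf [nat_lit 7, nat_lit 4, nat_lit 0, nat_lit 7, nat_lit 6, nat_lit 4, nat_lit 0, nat_lit 6, nat_lit 3, nat_lit 2, nat_lit 1, nat_lit 0])
 (.leaf [nat_lit 7, nat_lit 4, nat_lit 0, nat_lit 7, nat_lit 6, nat_lit 4, nat_lit 0, nat_lit 6, nat_lit 4, nat_lit 0])))
 (.node (nat_lit 10) (.leaf [nat_lit 0, nat_lit 7, nat_lit 6, nat_lit 7, nat_lit 4, nat_lit 0, nat_lit 6, nat_lit 2])
 (.node (nat_lit 11) (.leaf [nat_lit 4, nat_lit 7, nat_lit 4, nat_lit 2, nat_lit 6, nat_lit 5, nat_lit 2])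
 (.leaf [nat_lit 0, nat_lit 8, nat_lit 0, nat_lit 7, nat_lit 6, nat_lit 4, nat_lit 0, nat_lit 6, nat_lit 4, nat_lit 2, nat_lit 1, nat_lit 0])))))
noncomputable def h2T : Tr ℕ := h2T_0
noncomputable def h2E : Tr (List ℕ) := h2E_0
theorem h2w_0 : h2T_0.all2 (fun c w => isProd 63 (nat_lit 6) (nat_lit 63) T c w) h2E_0 = true := by decide +kernel
theorem h2lets : Lets P 63 (nat_lit 6) (nat_lit 63) (Fin.ofNat 63) h2T := lets_words lets h2E h2w_0
noncomputable def h2W : Tr (List ℕ) := (.node (nat_lit 40) (.node (nat_lit 20) (.node (nat_lit 10) (.node (nat_lit 5) (.node (nat_lit 2) (.node (nat_lit 1) (.leaf [])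
 (.leaf []))
 (.node (nat_lit 3) (.leaf [])
 (.node (nat_lit 4) (.leaf [])
 (.leaf []))))
 (.node (nat_lit 7) (.node (nat_lit 6) (.leaf [])
 (.leaf []))
 (.node (nat_lit 8) (.leaf [])
 (.node (nat_lit 9) (.leaf [])
 (.leaf [nat_lit 1])))))
 (.node (nat_lit 15) (.node (nat_lit 12) (.node (nat_lit 11) (.leaf [])
 (.leaf []))
 (.node (nat_lit 13) (.leaf [])
 (.node (nat_lit 14) (.leaf [])
 (.leaf []))))
 (.node (nat_lit 17) (.node (nat_lit 16) (.leaf [])
 (.leaf []))
 (.node (nat_lit 18) (.leaf [])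
 (.node (nat_lit 19) (.leaf [nat_lit 2, nat_lit 4])
 (.leaf [nat_lit 2, nat_lit 4]))))))
 (.node (nat_lit 30) (.node (nat_lit 25) (.node (nat_lit 22) (.node (nat_lit 21) (.leaf [])
 (.leaf []))
 (.node (nat_lit 23) (.leaf [])
 (.node (nat_lit 24) (.leaf [])
 (.leaf []))))
 (.node (nat_lit 27) (.node (nat_lit 26) (.leaf [])
 (.leaf []))
 (.node (nat_lit 28) (.leaf [nat_lit 3, nat_lit 5, nat_lit 8])
 (.node (nat_lit 29) (.leaf [nat_lit 3, nat_lit 6])
 (.leaf [nat_lit 3, nat_lit 8])))))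
 (.node (nat_lit 35) (.node (nat_lit 32) (.node (nat_lit 31) (.leaf [])
 (.leaf []))
 (.node (nat_lit 33) (.leaf [])
 (.node (nat_lit 34) (.leaf [])
 (.leaf []))))
 (.node (nat_lit 37) (.node (nat_lit 36) (.leaf [])
 (.leaf [nat_lit 4]))
 (.node (nat_lit 38) (.leaf [nat_lit 4])
 (.node (nat_lit 39) (.leaf [nat_lit 4])
 (.leaf [nat_lit 4])))))))
 (.node (nat_lit 60) (.node (nat_lit 50) (.node (nat_lit 45) (.node (nat_lit 42) (.node (nat_lit 41) (.leaf [])
 (.leaf []))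
 (.node (nat_lit 43) (.leaf [])
 (.node (nat_lit 44) (.leaf [])
 (.leaf []))))
 (.node (nat_lit 47) (.node (nat_lit 46) (.leaf [nat_lit 5, nat_lit 8])
 (.leaf [nat_lit 5, nat_lit 7]))
 (.node (nat_lit 48) (.leaf [nat_lit 5])
 (.node (nat_lit 49) (.leaf [nat_lit 5, nat_lit 8])
 (.leaf [nat_lit 5])))))
 (.node (nat_lit 55) (.node (nat_lit 52) (.node (nat_lit 51) (.leaf [nat_lit 8])
 (.leaf []))
 (.node (nat_lit 53) (.leaf [])
 (.node (nat_lit 54) (.leaf [])
 (.leaf [nat_lit 6, nat_lit 7, nat_lit 8]))))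
 (.node (nat_lit 57) (.node (nat_lit 56) (.leaf [nat_lit 6])
 (.leaf [nat_lit 6]))
 (.node (nat_lit 58) (.leaf [nat_lit 6])
 (.node (nat_lit 59) (.leaf [nat_lit 6])
 (.leaf [nat_lit 6, nat_lit 8]))))))
 (.node (nat_lit 70) (.node (nat_lit 65) (.node (nat_lit 62) (.node (nat_lit 61) (.leaf [])
 (.leaf []))
 (.node (nat_lit 63) (.leaf [])
 (.node (nat_lit 64) (.leaf [nat_lit 7])
 (.leaf [nat_lit 7]))))
 (.node (nat_lit 67) (.node (nat_lit 66) (.leaf [nat_lit 7])
 (.leaf [nat_lit 7, nat_lit 8]))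
 (.node (nat_lit 68) (.leaf [nat_lit 7])
 (.node (nat_lit 69) (.leaf [nat_lit 7])
 (.leaf [nat_lit 7])))))
 (.node (nat_lit 75) (.node (nat_lit 72) (.node (nat_lit 71) (.leaf [])
 (.leaf []))
 (.node (nat_lit 73) (.leaf [nat_lit 8])
 (.node (nat_lit 74) (.leaf [nat_lit 8])
 (.leaf [nat_lit 8]))))
 (.node (nat_lit 78) (.node (nat_lit 76) (.leaf [nat_lit 8])
 (.node (nat_lit 77) (.leaf [nat_lit 8])
 (.leaf [nat_lit 8])))
 (.node (nat_lit 79) (.leaf [nat_lit 8])
 (.node (nat_lit 80) (.leaf [nat_lit 8])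
 (.leaf []))))))))
noncomputable def h2F : Tr (ℕ × List ℕ × List ℕ) := (.node (nat_lit 12) (.node (nat_lit 6) (.node (nat_lit 3) (.node (nat_lit 1) (.leaf ((nat_lit 9), [nat_lit 1], [nat_lit 1, nat_lit 4, nat_lit 6, nat_lit 7, nat_lit 8]))
 (.node (nat_lit 2) (.leaf ((nat_lit 9), [nat_lit 2], [nat_lit 2, nat_lit 6, nat_lit 7, nat_lit 8]))
 (.leaf ((nat_lit 9), [nat_lit 3], [nat_lit 5, nat_lit 6, nat_lit 7]))))
 (.node (nat_lit 4) (.leaf ((nat_lit 9), [nat_lit 4], [nat_lit 4]))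
 (.node (nat_lit 5) (.leaf ((nat_lit 9), [nat_lit 5], [nat_lit 3, nat_lit 6, nat_lit 7]))
 (.leaf ((nat_lit 9), [nat_lit 6], [nat_lit 7, nat_lit 8])))))
 (.node (nat_lit 9) (.node (nat_lit 7) (.leaf ((nat_lit 9), [nat_lit 7], [nat_lit 6, nat_lit 8]))
 (.node (nat_lit 8) (.leaf ((nat_lit 9), [nat_lit 8], [nat_lit 8]))
 (.leaf ((nat_lit 10), [nat_lit 0], [nat_lit 2, nat_lit 4, nat_lit 6, nat_lit 7]))))
 (.node (nat_lit 10) (.leaf ((nat_lit 10), [nat_lit 1], [nat_lit 4, nat_lit 6, nat_lit 7, nat_lit 8]))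
 (.node (nat_lit 11) (.leaf ((nat_lit 10), [nat_lit 2], [nat_lit 0, nat_lit 1, nat_lit 4, nat_lit 7]))
 (.leaf ((nat_lit 10), [nat_lit 4], [nat_lit 7, nat_lit 8]))))))
 (.node (nat_lit 18) (.node (nat_lit 15) (.node (nat_lit 13) (.leaf ((nat_lit 10), [nat_lit 5], [nat_lit 0, nat_lit 2, nat_lit 5, nat_lit 6, nat_lit 7, nat_lit 8]))
 (.node (nat_lit 14) (.leaf ((nat_lit 10), [nat_lit 6], [nat_lit 1, nat_lit 7, nat_lit 8]))
 (.leaf ((nat_lit 10), [nat_lit 7], [nat_lit 7]))))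
 (.node (nat_lit 16) (.leaf ((nat_lit 10), [nat_lit 8], [nat_lit 4, nat_lit 7]))
 (.node (nat_lit 17) (.leaf ((nat_lit 11), [nat_lit 0, nat_lit 1], [nat_lit 0, nat_lit 1]))
 (.leaf ((nat_lit 11), [nat_lit 2], [nat_lit 2, nat_lit 4, nat_lit 5, nat_lit 6, nat_lit 8])))))
 (.node (nat_lit 21) (.node (nat_lit 19) (.leaf ((nat_lit 11), [nat_lit 3], [nat_lit 3, nat_lit 5, nat_lit 8]))
 (.node (nat_lit 20) (.leaf ((nat_lit 11), [nat_lit 4], [nat_lit 2, nat_lit 7]))
 (.leaf ((nat_lit 11), [nat_lit 5], [nat_lit 3, nat_lit 5, nat_lit 6]))))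
 (.node (nat_lit 22) (.leaf ((nat_lit 11), [nat_lit 6], [nat_lit 3, nat_lit 5, nat_lit 6, nat_lit 7]))
 (.node (nat_lit 23) (.leaf ((nat_lit 11), [nat_lit 7], [nat_lit 5, nat_lit 6, nat_lit 7, nat_lit 8]))
 (.leaf ((nat_lit 11), [nat_lit 8], [nat_lit 8])))))))
noncomputable def h2A : List (List ℕ × ℕ × ℕ) := [([nat_lit 4], (nat_lit 4), (nat_lit 0)),
  ([nat_lit 7], (nat_lit 7), (nat_lit 0)),
  ([nat_lit 5], (nat_lit 5), (nat_lit 2)),
  ([nat_lit 5], (nat_lit 5), (nat_lit 4)),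
  ([nat_lit 5], (nat_lit 5), (nat_lit 5)),
  ([nat_lit 5], (nat_lit 2), (nat_lit 2)),
  ([nat_lit 2], (nat_lit 2), (nat_lit 0)),
  ([nat_lit 3], (nat_lit 3), (nat_lit 1)),
  ([nat_lit 3], (nat_lit 3), (nat_lit 2)),
  ([nat_lit 6], (nat_lit 6), (nat_lit 5)),
  ([nat_lit 7], (nat_lit 7), (nat_lit 3)),
  ([nat_lit 7], (nat_lit 2), (nat_lit 0)),
  ([nat_lit 6], (nat_lit 2), (nat_lit 1)),
  ([nat_lit 8], (nat_lit 3), (nat_lit 1)),
  ([nat_lit 5], (nat_lit 5), (nat_lit 0)),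
  ([nat_lit 8], (nat_lit 5), (nat_lit 1)),
  ([nat_lit 2], (nat_lit 0), (nat_lit 0)),
  ([nat_lit 2], (nat_lit 1), (nat_lit 1)),
  ([nat_lit 3], (nat_lit 1), (nat_lit 1)),
  ([nat_lit 3], (nat_lit 2), (nat_lit 2)),
  ([nat_lit 5], (nat_lit 1), (nat_lit 1)),
  ([nat_lit 6], (nat_lit 1), (nat_lit 0)),
  ([nat_lit 7], (nat_lit 3), (nat_lit 1)),
  ([nat_lit 5], (nat_lit 5), (nat_lit 1)),
  ([nat_lit 5], (nat_lit 1), (nat_lit 0)),
  ([nat_lit 5], (nat_lit 2), (nat_lit 0)),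
  ([nat_lit 5], (nat_lit 2), (nat_lit 1)),
  ([nat_lit 3], (nat_lit 3), (nat_lit 0)),
  ([nat_lit 6], (nat_lit 6), (nat_lit 0)),
  ([nat_lit 7], (nat_lit 3), (nat_lit 0)),
  ([nat_lit 3], (nat_lit 2), (nat_lit 1)),
  ([nat_lit 3], (nat_lit 2), (nat_lit 0)),
  ([nat_lit 3], (nat_lit 0), (nat_lit 0)),
  ([nat_lit 5], (nat_lit 3), (nat_lit 1)),
  ([nat_lit 3], (nat_lit 1), (nat_lit 0))]
noncomputable def h2B : List (ℕ × List ℕ × List ℕ) := [((nat_lit 9), [nat_lit 4, nat_lit 3], [nat_lit 3, nat_lit 4]),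
  ((nat_lit 9), [nat_lit 6, nat_lit 2], [nat_lit 2, nat_lit 6, nat_lit 7]),
  ((nat_lit 9), [nat_lit 6, nat_lit 4], [nat_lit 4, nat_lit 6]),
  ((nat_lit 9), [nat_lit 2, nat_lit 2], []),
  ((nat_lit 9), [nat_lit 2, nat_lit 1], [nat_lit 1, nat_lit 2, nat_lit 7]),
  ((nat_lit 10), [nat_lit 15, nat_lit 13], [nat_lit 13, nat_lit 15]),
  ((nat_lit 10), [nat_lit 13, nat_lit 13], []),
  ((nat_lit 10), [nat_lit 8, nat_lit 8], []),
  ((nat_lit 10), [nat_lit 9, nat_lit 9], []),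
  ((nat_lit 10), [nat_lit 13, nat_lit 10], [nat_lit 10, nat_lit 13]),
  ((nat_lit 10), [nat_lit 13, nat_lit 12], [nat_lit 12, nat_lit 13, nat_lit 15]),
  ((nat_lit 10), [nat_lit 12, nat_lit 8], [nat_lit 8, nat_lit 12, nat_lit 15]),
  ((nat_lit 11), [nat_lit 19, nat_lit 19], []),
  ((nat_lit 11), [nat_lit 19, nat_lit 16], [nat_lit 16, nat_lit 19])]
noncomputable def h2X : Tr ℕ := (.node (nat_lit 4) (.node (nat_lit 2) (.node (nat_lit 1) (.leaf (nat_lit 0x300000000000000000000030000000000000000000000000000000000000300000000030303000000000303030003000000000000000300000000000003000303000000000000030300000000000000030303000000000000000000000000000000000003))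
 (.leaf (nat_lit 0x3000000000000000000000000000000000000000000000003000300000000000003000003000000000000000000000000000000030303000000000000030300000000000000000300000000000000000300000000000000000000)))
 (.node (nat_lit 3) (.leaf (nat_lit 0x300000000000000000000000000000000000000000000000000000000000000000000000303000000000000000300000000000000030300000000000300030303000000000000000000000000000000000300000000000000000000000000000000000000))
 (.leaf (nat_lit 0x30000000000000000000000000000000000000300000000030303030003000000000003030000000000000003000300000000000003000303000000000000000303000000000000000000000000000000000000))))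
 (.node (nat_lit 6) (.node (nat_lit 5) (.leaf (nat_lit 0x1000000000000000000000000000000000000))
 (.leaf (nat_lit 0x30001000000000000000000000000000000000000000000000000000000)))
 (.node (nat_lit 7) (.leaf (nat_lit 0x100000000000000000000000000000000000000000000000000000000))
 (.node (nat_lit 8) (.leaf (nat_lit 0x100000000000000000000000000000000000000000000000000000000000000000000000000000000000000000000))
 (.leaf (nat_lit 0x10000000000000000000000000000000000000000000000000000000000))))))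
noncomputable def h2D : Tr ℕ := (.node (nat_lit 40) (.node (nat_lit 20) (.node (nat_lit 10) (.node (nat_lit 5) (.node (nat_lit 2) (.node (nat_lit 1) (.leaf (nat_lit 0x0))
 (.leaf (nat_lit 0x0)))
 (.node (nat_lit 3) (.leaf (nat_lit 0x0))
 (.node (nat_lit 4) (.leaf (nat_lit 0x0))
 (.leaf (nat_lit 0x0)))))
 (.node (nat_lit 7) (.node (nat_lit 6) (.leaf (nat_lit 0x0))
 (.leaf (nat_lit 0x0)))
 (.node (nat_lit 8) (.leaf (nat_lit 0x0))
 (.node (nat_lit 9) (.leaf (nat_lit 0x0))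
 (.leaf (nat_lit 0x0))))))
 (.node (nat_lit 15) (.node (nat_lit 12) (.node (nat_lit 11) (.leaf (nat_lit 0x0))
 (.leaf (nat_lit 0x0)))
 (.node (nat_lit 13) (.leaf (nat_lit 0x0))
 (.node (nat_lit 14) (.leaf (nat_lit 0x0))
 (.leaf (nat_lit 0x0)))))
 (.node (nat_lit 17) (.node (nat_lit 16) (.leaf (nat_lit 0x0))
 (.leaf (nat_lit 0x0)))
 (.node (nat_lit 18) (.leaf (nat_lit 0x0))
 (.node (nat_lit 19) (.leaf (nat_lit 0x0))
 (.leaf (nat_lit 0x0)))))))
 (.node (nat_lit 30) (.node (nat_lit 25) (.node (nat_lit 22) (.node (nat_lit 21) (.leaf (nat_lit 0x0))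
 (.leaf (nat_lit 0x0)))
 (.node (nat_lit 23) (.leaf (nat_lit 0x0))
 (.node (nat_lit 24) (.leaf (nat_lit 0x0))
 (.leaf (nat_lit 0x0)))))
 (.node (nat_lit 27) (.node (nat_lit 26) (.leaf (nat_lit 0x0))
 (.leaf (nat_lit 0x0)))
 (.node (nat_lit 28) (.leaf (nat_lit 0x0))
 (.node (nat_lit 29) (.leaf (nat_lit 0x0))
 (.leaf (nat_lit 0x0))))))
 (.node (nat_lit 35) (.node (nat_lit 32) (.node (nat_lit 31) (.leaf (nat_lit 0x1))
 (.leaf (nat_lit 0x0)))
 (.node (nat_lit 33) (.leaf (nat_lit 0x0))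
 (.node (nat_lit 34) (.leaf (nat_lit 0x0))
 (.leaf (nat_lit 0x0)))))
 (.node (nat_lit 37) (.node (nat_lit 36) (.leaf (nat_lit 0x0))
 (.leaf (nat_lit 0x1)))
 (.node (nat_lit 38) (.leaf (nat_lit 0x1))
 (.node (nat_lit 39) (.leaf (nat_lit 0x1))
 (.leaf (nat_lit 0x0))))))))
 (.node (nat_lit 60) (.node (nat_lit 50) (.node (nat_lit 45) (.node (nat_lit 42) (.node (nat_lit 41) (.leaf (nat_lit 0x1))
 (.leaf (nat_lit 0x0)))
 (.node (nat_lit 43) (.leaf (nat_lit 0x0))
 (.node (nat_lit 44) (.leaf (nat_lit 0x0))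
 (.leaf (nat_lit 0x0)))))
 (.node (nat_lit 47) (.node (nat_lit 46) (.leaf (nat_lit 0x0))
 (.leaf (nat_lit 0x0)))
 (.node (nat_lit 48) (.leaf (nat_lit 0x0))
 (.node (nat_lit 49) (.leaf (nat_lit 0x0))
 (.leaf (nat_lit 0x0))))))
 (.node (nat_lit 55) (.node (nat_lit 52) (.node (nat_lit 51) (.leaf (nat_lit 0x0))
 (.leaf (nat_lit 0x0)))
 (.node (nat_lit 53) (.leaf (nat_lit 0x0))
 (.node (nat_lit 54) (.leaf (nat_lit 0x0))
 (.leaf (nat_lit 0x1)))))
 (.node (nat_lit 57) (.node (nat_lit 56) (.leaf (nat_lit 0x1))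
 (.leaf (nat_lit 0x1)))
 (.node (nat_lit 58) (.leaf (nat_lit 0x1))
 (.node (nat_lit 59) (.leaf (nat_lit 0x0))
 (.leaf (nat_lit 0x0)))))))
 (.node (nat_lit 70) (.node (nat_lit 65) (.node (nat_lit 62) (.node (nat_lit 61) (.leaf (nat_lit 0x1))
 (.leaf (nat_lit 0x0)))
 (.node (nat_lit 63) (.leaf (nat_lit 0x0))
 (.node (nat_lit 64) (.leaf (nat_lit 0x1))
 (.leaf (nat_lit 0x1)))))
 (.node (nat_lit 67) (.node (nat_lit 66) (.leaf (nat_lit 0x0))
 (.leaf (nat_lit 0x0)))
 (.node (nat_lit 68) (.leaf (nat_lit 0x0))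
 (.node (nat_lit 69) (.leaf (nat_lit 0x0))
 (.leaf (nat_lit 0x1))))))
 (.node (nat_lit 75) (.node (nat_lit 72) (.node (nat_lit 71) (.leaf (nat_lit 0x1))
 (.leaf (nat_lit 0x0)))
 (.node (nat_lit 73) (.leaf (nat_lit 0x0))
 (.node (nat_lit 74) (.leaf (nat_lit 0x1))
 (.leaf (nat_lit 0x0)))))
 (.node (nat_lit 78) (.node (nat_lit 76) (.leaf (nat_lit 0x0))
 (.node (nat_lit 77) (.leaf (nat_lit 0x0))
 (.leaf (nat_lit 0x0))))
 (.node (nat_lit 79) (.leaf (nat_lit 0x0))
 (.node (nat_lit 80) (.leaf (nat_lit 0x0))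
 (.leaf (nat_lit 0x0)))))))))
noncomputable def h2Y : Tr ℕ := (.node (nat_lit 40) (.node (nat_lit 20) (.node (nat_lit 10) (.node (nat_lit 5) (.node (nat_lit 2) (.node (nat_lit 1) (.leaf (nat_lit 0x10000000001000300000300030200000201000000000302030202030200010202020201030201010303000001030000))
 (.leaf (nat_lit 0x0)))
 (.node (nat_lit 3) (.leaf (nat_lit 0x0))
 (.node (nat_lit 4) (.leaf (nat_lit 0x0))
 (.leaf (nat_lit 0x0)))))
 (.node (nat_lit 7) (.node (nat_lit 6) (.leaf (nat_lit 0x0))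
 (.leaf (nat_lit 0x0)))
 (.node (nat_lit 8) (.leaf (nat_lit 0x0))
 (.node (nat_lit 9) (.leaf (nat_lit 0x0))
 (.leaf (nat_lit 0x10000000102000002010002000003030000020301030002030100000000020100010001000000010102020000))))))
 (.node (nat_lit 15) (.node (nat_lit 12) (.node (nat_lit 11) (.leaf (nat_lit 0x300020100000300000200000000000000000000030003000000030200000201020303010302000002000000))
 (.leaf (nat_lit 0x0)))
 (.node (nat_lit 13) (.leaf (nat_lit 0x0))
 (.node (nat_lit 14) (.leaf (nat_lit 0x0))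
 (.leaf (nat_lit 0x0)))))
 (.node (nat_lit 17) (.node (nat_lit 16) (.leaf (nat_lit 0x0))
 (.leaf (nat_lit 0x0)))
 (.node (nat_lit 18) (.leaf (nat_lit 0x0))
 (.node (nat_lit 19) (.leaf (nat_lit 0x0))
 (.leaf (nat_lit 0x1000000000000000000000000000000000000000000000001000003000000000103000200000202000000000000000003)))))))
 (.node (nat_lit 30) (.node (nat_lit 25) (.node (nat_lit 22) (.node (nat_lit 21) (.leaf (nat_lit 0x10000000000000300000200000002000000000000030102020002030002010202000000000101020202000002010000))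
 (.leaf (nat_lit 0x0)))
 (.node (nat_lit 23) (.leaf (nat_lit 0x0))
 (.node (nat_lit 24) (.leaf (nat_lit 0x0))
 (.leaf (nat_lit 0x0)))))
 (.node (nat_lit 27) (.node (nat_lit 26) (.leaf (nat_lit 0x0))
 (.leaf (nat_lit 0x0)))
 (.node (nat_lit 28) (.leaf (nat_lit 0x0))
 (.node (nat_lit 29) (.leaf (nat_lit 0x0))
 (.leaf (nat_lit 0x0))))))
 (.node (nat_lit 35) (.node (nat_lit 32) (.node (nat_lit 31) (.leaf (nat_lit 0x1000103010000000302010202000300030101000102020202000103020101000101000303030301000000000001010303))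
 (.leaf (nat_lit 0x0)))
 (.node (nat_lit 33) (.leaf (nat_lit 0x0))
 (.node (nat_lit 34) (.leaf (nat_lit 0x0))
 (.leaf (nat_lit 0x0)))))
 (.node (nat_lit 37) (.node (nat_lit 36) (.leaf (nat_lit 0x0))
 (.leaf (nat_lit 0x0)))
 (.node (nat_lit 38) (.leaf (nat_lit 0x2000000000000000000000000000000000000000000000002000002000000030302000000000000000000000000000002))
 (.node (nat_lit 39) (.leaf (nat_lit 0x100000000000000000001000000000000))
 (.leaf (nat_lit 0x10000000200000000000100000000000200000000020003030000000000000001010000))))))))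
 (.node (nat_lit 60) (.node (nat_lit 50) (.node (nat_lit 45) (.node (nat_lit 42) (.node (nat_lit 41) (.leaf (nat_lit 0x300000000000000000000000000000003))
 (.leaf (nat_lit 0x0)))
 (.node (nat_lit 43) (.leaf (nat_lit 0x0))
 (.node (nat_lit 44) (.leaf (nat_lit 0x0))
 (.leaf (nat_lit 0x0)))))
 (.node (nat_lit 47) (.node (nat_lit 46) (.leaf (nat_lit 0x1000103010000000201000303000303000000030000030200020202020101010001010102010203010100010001000003))
 (.leaf (nat_lit 0x0)))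
 (.node (nat_lit 48) (.leaf (nat_lit 0x2000202020000000002000202030202000100020000020200000000000102020002010201030002020200020000000002))
 (.node (nat_lit 49) (.leaf (nat_lit 0x3000301030000000203000101000101010000010001010200020202020103030003020302030201020300030203020001))
 (.leaf (nat_lit 0x20000000200000000000300000000000200000000020002020000000000000003030000))))))
 (.node (nat_lit 55) (.node (nat_lit 52) (.node (nat_lit 51) (.leaf (nat_lit 0x1000103010000000201000303020303030200030000030200020202020001010001000300030201010100010201030003))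
 (.leaf (nat_lit 0x0)))
 (.node (nat_lit 53) (.leaf (nat_lit 0x0))
 (.node (nat_lit 54) (.leaf (nat_lit 0x0))
 (.leaf (nat_lit 0x202020000000103000201020101000303020000010002010002010302030100030203020003020200020200020003)))))
 (.node (nat_lit 57) (.node (nat_lit 56) (.leaf (nat_lit 0x2000000000000000302000102000002000202000000020202030102030203030302020202010201030300000001020002))
 (.leaf (nat_lit 0x2000000000000000300000000010002000201000000000102000203000200030302020302020301000000000003010002)))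
 (.node (nat_lit 58) (.leaf (nat_lit 0x2000000000000000302000102000002000202000000020202030102030200030302020202010201030000000001020002))
 (.node (nat_lit 59) (.leaf (nat_lit 0x1000000000000000000000000))
 (.leaf (nat_lit 0x2000202020000000203000201020203000303020000010200010203010302000202030303030102020200020201000001)))))))
 (.node (nat_lit 70) (.node (nat_lit 65) (.node (nat_lit 62) (.node (nat_lit 61) (.leaf (nat_lit 0x2000000000000000102000302000002000202000000020202010302010200010102020202030203010100000003020001))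
 (.leaf (nat_lit 0x0)))
 (.node (nat_lit 63) (.leaf (nat_lit 0x0))
 (.node (nat_lit 64) (.leaf (nat_lit 0x2000000000000000300000000000002000000000000000201000203000000030303000200030103000000000003020002))
 (.leaf (nat_lit 0x2000000000000000100000000000002000000000000000202000202000000010102000000010103000000000001020001)))))
 (.node (nat_lit 67) (.node (nat_lit 66) (.leaf (nat_lit 0x20000000200000000010100000000000200000000020002010000000000000001010000))
 (.leaf (nat_lit 0x2000202020000000203000201020200000303020000010200010103010302000202030003030102020200020201000001)))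
 (.node (nat_lit 68) (.leaf (nat_lit 0x10000000000000000000000))
 (.node (nat_lit 69) (.leaf (nat_lit 0x10001010000000000000200000202000000000000000000))
 (.leaf (nat_lit 0x2000000000000000300000000000002000000000000000202000303000000030302000300030301000000000003020002))))))
 (.node (nat_lit 75) (.node (nat_lit 72) (.node (nat_lit 71) (.leaf (nat_lit 0x2000000000000000300000000000002000000000000000202000202030000030302000000030301000000000003020002))
 (.leaf (nat_lit 0x0)))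
 (.node (nat_lit 73) (.leaf (nat_lit 0x2000202020000000000000200000200000202020000000000020002020002020002030302000203020200020300000002))
 (.node (nat_lit 74) (.leaf (nat_lit 0x2000000000000000300000000000002000000000000000202000203000000030302000000030301000000000003020002))
 (.leaf (nat_lit 0x20000000200000000000000000000000200000000020002020000000000000000030000)))))
 (.node (nat_lit 78) (.node (nat_lit 76) (.leaf (nat_lit 0x2000002000002000202000000020000020002020200000000020302020203010000000002000000))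
 (.node (nat_lit 77) (.leaf (nat_lit 0x200000000000000000000000000000000000000000001020000))
 (.leaf (nat_lit 0x300000000))))
 (.node (nat_lit 79) (.leaf (nat_lit 0x100000000000000000000000000))
 (.node (nat_lit 80) (.leaf (nat_lit 0x2000000000000000000000200000000000000000300000103000000000000000000))
 (.leaf (nat_lit 0x2000002000002000202000000020000020002020200000000020102020201000000000002000000)))))))))
noncomputable def h2H : Holt := ⟨(nat_lit 2), (nat_lit 4), (nat_lit 9), (nat_lit 105), (nat_lit 43), h2W, (nat_lit 24), h2F, h2A, h2B, h2X, [((nat_lit 2), (nat_lit 0x1000000000000000000000000000000000000000000000000000000000000000000000000), (nat_lit 0x3))], h2D, h2Y⟩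
noncomputable def h2L : List (ℕ × List (List ℕ)) := [((nat_lit 53), [[nat_lit 1]]),
  ((nat_lit 5), [[nat_lit 3], [nat_lit 6]]),
  ((nat_lit 1), [[nat_lit 2], [nat_lit 5, nat_lit 6, nat_lit 8], [nat_lit 8]]),
  ((nat_lit 7), [[nat_lit 4, nat_lit 8], [nat_lit 7, nat_lit 8]]),
  ((nat_lit 15), [[nat_lit 0, nat_lit 1, nat_lit 8]])]
theorem h2r : h2H.relChk (weqOn (nat_lit 6) (nat_lit 63) h2T B) = true := by decide +kernel
theorem h2l : h2H.linChk = true := by decide +kernel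
theorem h2 : ¬ 2 ^ (1 + 1) ∣ Nat.card (L.SM P) :=
  holt_bound h2lets.rep (ofNat_inj 63) base.1 base.2 h2H 1 h2L (show Nat.Prime 2 by norm_num)
    (by rw [card]; decide +kernel) (by decide +kernel) h2r h2l

noncomputable def h3t0 : ℕ := (nat_lit 0x2fb33a3c7f88e1fa5eaec6ad5b0171102d41cd489582746669dadca6e62f7793b8349f0ac568178a54e45320f3180dc)
noncomputable def h3t1 : ℕ := (nat_lit 0x34a5d03a8cf3826e7d8c465e0466dc0a4dffb2ad71bc85523b8961f1b18149520f436aebcb4a6dc1728d79910373a9e)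
noncomputable def h3t2 : ℕ := (nat_lit 0x1023c918034b026aed8a4a6fb8814330a1c12ac867a2e8e585769c4d561e532f77db0ef9edd41665f4947b8cf1f3ad7)
noncomputable def h3t3 : ℕ := (nat_lit 0xda5de61171542992dae2be69bdcb9ef4df0d0d0093c62c206896caa3ba789b59f65075454c04838728317ec7af33e3)
noncomputable def h3t4 : ℕ := (nat_lit 0x2bb0a25b73ae52473d2284313ced968c2e9a810a48f1c944f7e1e74722eb4615f836d4f4289cd3985fdf955b0be5980)
noncomputable def h3t5 : ℕ := (nat_lit 0x45e2f76a502d80fe86ad4c3efb152817a3e2bc0959d0b791ff056913b3a3b81918d4a7d141f2b66e406c84eec7a95c)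
noncomputable def h3t6 : ℕ := (nat_lit 0x32a36b21de5efc9b88abd67c5b15704c5884911d52c260672dce9bfe93a81fe63f70ab4b8068478f25334e50a41d0d9)
noncomputable def h3T_0 : Tr ℕ := (.node (nat_lit 3) (.node (nat_lit 1) (.leaf h3t0)
 (.node (nat_lit 2) (.leaf h3t1)
 (.leaf h3t2)))
 (.node (nat_lit 5) (.node (nat_lit 4) (.leaf h3t3)
 (.leaf h3t4))
 (.node (nat_lit 6) (.leaf h3t5)
 (.leaf h3t6))))
noncomputable def h3E_0 : Tr (List ℕ) := (.node (nat_lit 3) (.node (nat_lit 1) (.leaf [nat_lit 7, nat_lit 8, nat_lit 6, nat_lit 8, nat_lit 1, nat_lit 7, nat_lit 0, nat_lit 7, nat_lit 6, nat_lit 4, nat_lit 0, nat_lit 6, nat_lit 3, nat_lit 2, nat_lit 1, nat_lit 0])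
 (.node (nat_lit 2) (.leaf [nat_lit 2, nat_lit 8, nat_lit 0, nat_lit 8, nat_lit 7, nat_lit 4, nat_lit 2, nat_lit 7, nat_lit 3])
 (.leaf [nat_lit 2, nat_lit 8, nat_lit 6, nat_lit 8, nat_lit 7, nat_lit 4, nat_lit 2, nat_lit 7, nat_lit 6, nat_lit 4, nat_lit 0, nat_lit 6, nat_lit 5, nat_lit 4, nat_lit 3, nat_lit 2, nat_lit 1])))
 (.node (nat_lit 5) (.node (nat_lit 4) (.leaf [nat_lit 2, nat_lit 7, nat_lit 8, nat_lit 4, nat_lit 2, nat_lit 7, nat_lit 4, nat_lit 0, nat_lit 6, nat_lit 4, nat_lit 1, nat_lit 0])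
 (.leaf [nat_lit 4, nat_lit 2, nat_lit 7, nat_lit 0, nat_lit 6, nat_lit 4, nat_lit 2, nat_lit 1]))
 (.node (nat_lit 6) (.leaf [nat_lit 7, nat_lit 8, nat_lit 6, nat_lit 8, nat_lit 7, nat_lit 5, nat_lit 7, nat_lit 0, nat_lit 6, nat_lit 4, nat_lit 3, nat_lit 2, nat_lit 0])
 (.leaf [nat_lit 5, nat_lit 2, nat_lit 8, nat_lit 0, nat_lit 8, nat_lit 6, nat_lit 5, nat_lit 4, nat_lit 7, nat_lit 4, nat_lit 6, nat_lit 4, nat_lit 3, nat_lit 1, nat_lit 0]))))
noncomputable def h3T : Tr ℕ := h3T_0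
noncomputable def h3E : Tr (List ℕ) := h3E_0
theorem h3w_0 : h3T_0.all2 (fun c w => isProd 63 (nat_lit 6) (nat_lit 63) T c w) h3E_0 = true := by decide +kernel
theorem h3lets : Lets P 63 (nat_lit 6) (nat_lit 63) (Fin.ofNat 63) h3T := lets_words lets h3E h3w_0
noncomputable def h3W : Tr (List ℕ) := (.node (nat_lit 8) (.node (nat_lit 4) (.node (nat_lit 2) (.node (nat_lit 1) (.leaf [])
 (.leaf []))
 (.node (nat_lit 3) (.leaf [])
 (.leaf [])))
 (.node (nat_lit 6) (.node (nat_lit 5) (.leaf [nat_lit 1, nat_lit 2, nat_lit 2])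
 (.leaf []))
 (.node (nat_lit 7) (.leaf [])
 (.leaf []))))
 (.node (nat_lit 12) (.node (nat_lit 10) (.node (nat_lit 9) (.leaf [nat_lit 2, nat_lit 3])
 (.leaf [nat_lit 2]))
 (.node (nat_lit 11) (.leaf [])
 (.leaf [])))
 (.node (nat_lit 14) (.node (nat_lit 13) (.leaf [nat_lit 3])
 (.leaf [nat_lit 3]))
 (.node (nat_lit 15) (.leaf [nat_lit 3])
 (.leaf [])))))
noncomputable def h3F : Tr (ℕ × List ℕ × List ℕ) := (.node (nat_lit 5) (.node (nat_lit 2) (.node (nat_lit 1) (.leaf ((nat_lit 4), [nat_lit 0], [nat_lit 2, nat_lit 3]))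
 (.leaf ((nat_lit 4), [nat_lit 2], [nat_lit 0, nat_lit 0])))
 (.node (nat_lit 3) (.leaf ((nat_lit 4), [nat_lit 3], [nat_lit 3]))
 (.node (nat_lit 4) (.leaf ((nat_lit 5), [nat_lit 0], [nat_lit 0, nat_lit 0, nat_lit 2, nat_lit 2, nat_lit 3, nat_lit 3]))
 (.leaf ((nat_lit 5), [nat_lit 1], [nat_lit 1, nat_lit 2, nat_lit 2])))))
 (.node (nat_lit 7) (.node (nat_lit 6) (.leaf ((nat_lit 5), [nat_lit 2], [nat_lit 2, nat_lit 2]))
 (.leaf ((nat_lit 5), [nat_lit 3], [nat_lit 3])))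
 (.node (nat_lit 8) (.leaf ((nat_lit 6), [nat_lit 1], [nat_lit 2, nat_lit 3]))
 (.node (nat_lit 9) (.leaf ((nat_lit 6), [nat_lit 2], [nat_lit 2, nat_lit 2, nat_lit 3]))
 (.leaf ((nat_lit 6), [nat_lit 3], [nat_lit 1, nat_lit 1, nat_lit 2, nat_lit 3, nat_lit 3]))))))
noncomputable def h3A : List (List ℕ × ℕ × ℕ) := [([nat_lit 3], (nat_lit 1), (nat_lit 0)),
  ([nat_lit 2], (nat_lit 1), (nat_lit 0)),
  ([nat_lit 2, nat_lit 2], (nat_lit 2), (nat_lit 0)),
  ([nat_lit 1, nat_lit 1], (nat_lit 1), (nat_lit 0)),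
  ([nat_lit 1], (nat_lit 0), (nat_lit 0))]
noncomputable def h3B : List (ℕ × List ℕ × List ℕ) := [((nat_lit 4), [nat_lit 1, nat_lit 1, nat_lit 1], []),
  ((nat_lit 5), [nat_lit 5, nat_lit 4], [nat_lit 4, nat_lit 5]),
  ((nat_lit 6), [nat_lit 7, nat_lit 7, nat_lit 7], [])]
noncomputable def h3X : Tr ℕ := (.node (nat_lit 2) (.node (nat_lit 1) (.leaf (nat_lit 0x0))
 (.leaf (nat_lit 0x0)))
 (.node (nat_lit 3) (.leaf (nat_lit 0x200000000))
 (.leaf (nat_lit 0x10000000000000000))))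
noncomputable def h3D : Tr ℕ := (.node (nat_lit 8) (.node (nat_lit 4) (.node (nat_lit 2) (.node (nat_lit 1) (.leaf (nat_lit 0x0))
 (.leaf (nat_lit 0x0)))
 (.node (nat_lit 3) (.leaf (nat_lit 0x0))
 (.leaf (nat_lit 0x0))))
 (.node (nat_lit 6) (.node (nat_lit 5) (.leaf (nat_lit 0x0))
 (.leaf (nat_lit 0x0)))
 (.node (nat_lit 7) (.leaf (nat_lit 0x0))
 (.leaf (nat_lit 0x0)))))
 (.node (nat_lit 12) (.node (nat_lit 10) (.node (nat_lit 9) (.leaf (nat_lit 0x0))
 (.leaf (nat_lit 0x0)))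
 (.node (nat_lit 11) (.leaf (nat_lit 0x0))
 (.leaf (nat_lit 0x0))))
 (.node (nat_lit 14) (.node (nat_lit 13) (.leaf (nat_lit 0x0))
 (.leaf (nat_lit 0x0)))
 (.node (nat_lit 15) (.leaf (nat_lit 0x0))
 (.leaf (nat_lit 0x0))))))
noncomputable def h3Y : Tr ℕ := (.node (nat_lit 8) (.node (nat_lit 4) (.node (nat_lit 2) (.node (nat_lit 1) (.leaf (nat_lit 0x20001000000))
 (.leaf (nat_lit 0x0)))
 (.node (nat_lit 3) (.leaf (nat_lit 0x0))
 (.leaf (nat_lit 0x0))))
 (.node (nat_lit 6) (.node (nat_lit 5) (.leaf (nat_lit 0x0))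
 (.leaf (nat_lit 0x200000002010000)))
 (.node (nat_lit 7) (.leaf (nat_lit 0x0))
 (.leaf (nat_lit 0x0)))))
 (.node (nat_lit 12) (.node (nat_lit 10) (.node (nat_lit 9) (.leaf (nat_lit 0x0))
 (.leaf (nat_lit 0x1000000000000)))
 (.node (nat_lit 11) (.leaf (nat_lit 0x2000000))
 (.leaf (nat_lit 0x0))))
 (.node (nat_lit 14) (.node (nat_lit 13) (.leaf (nat_lit 0x101010002))
 (.leaf (nat_lit 0x102)))
 (.node (nat_lit 15) (.leaf (nat_lit 0x2))
 (.leaf (nat_lit 0x10000))))))
noncomputable def h3H : Holt := ⟨(nat_lit 3), (nat_lit 3), (nat_lit 4), (nat_lit 26), (nat_lit 32), h3W, (nat_lit 10), h3F, h3A, h3B, h3X, [], h3D, h3Y⟩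
noncomputable def h3L : List (ℕ × List (List ℕ)) := [((nat_lit 2), [[nat_lit 0], [nat_lit 3]]),
  ((nat_lit 8), [[nat_lit 2, nat_lit 3, nat_lit 3]]),
  ((nat_lit 0), [[nat_lit 1, nat_lit 3, nat_lit 3]])]
theorem h3r : h3H.relChk (weqOn (nat_lit 6) (nat_lit 63) h3T B) = true := by decide +kernel
theorem h3l : h3H.linChk = true := by decide +kernel
theorem h3 : ¬ 3 ^ (0 + 1) ∣ Nat.card (L.SM P) :=
  holt_bound h3lets.rep (ofNat_inj 63) base.1 base.2 h3H 0 h3L (show Nat.Prime 3 by norm_num)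
    (by rw [card]; decide +kernel) (by decide +kernel) h3r h3l

noncomputable def c2u0 : ℕ := (nat_lit 0x5935d8b87d3216f1dc6fecf255e3a6d8ad54f3963a8e8b59457f66f72e11cddd69319ccc30f468fd0a992b27ba3b9b3da9051686af59ece26bf5a3ab2337d64338b2f52737be5c6318deda6a4b89e8fe9a3cbacd3ac1a70d8564b74b0572a5cea283265ae224a8464b9645c4a1f54488290dc97c96766dfd594236323a62d4ce8e05b576ab4ee9e397777e319229577d2e27e9bc66d8ef4b1632b62cea0d86039e205eb92ed6fbe2f181de60f8620e065ad3b42fa2c3cdbd20bf282b0e66e0c9f3e47c8d321f0f1123418b51f8521409c4823a313dcf5f08a82c4369ecea72730799a612b8d212451760a04fd0319968f4393ca59a293389b8da6a55271220d050240c043014034190b054260001)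
noncomputable def c2u1 : ℕ := (nat_lit 0x777bf0fc542a9affb66f78cfdc473372ab8eac79ea7e2bbe55ad4a59766a9cb39d34e593a1e2b62c96a59b99a7b5cedd8e4cf674b357dc5827f3cbdde666bf313a3112fba75d9a70985d4659fa0a6af17a647aad16e16cb2572a5630d846493ea8e340cb25db483684e8845eb0b810321c133a40b576a03d746ca22f1b8674f96c71c5daa174a96dcf95cb3e9f4733b01ea92996a639b22ca50bb28979c3eedd1ebe8f640881a8cc6382df60441c2d56e9424b5287915a46db2b621d15172129d5d67e4556985e9dadebc6324a500d8642e151b5ceb610af5a51f46a250a820e394dc7ca21d1148d18891317e487c1a570b65ab39a4900682c1206562792670371b0d6023114c50261208c001202)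
noncomputable def c2u2 : ℕ := (nat_lit 0xf7fbbdbecdbe031e7773b99226d719adc2e06fb7bbac7db6d75ca4eb9d5abd457e4343a2d4f099ac3e5e7f3da36e2978a4c6673b83c03da68c736dc0d27dbbf5f6fb44559ec9625f69f666266201839e8916a198cd8e4743a229e57271428222f84d4128897119496089cbd2f4a3b1a8c45e755195c3a9ac584c1a0b03eab090a7e375f8803743740cdac74980ae3f1e1c129c86971058d83b24ab02a395ee16feaa581344e1409c4ab258ab958aa54a9d3d2e0fa90bcbcc4241b8ce4b23d19689bbc1fb30abbeee41b0b3408cc86f3e6f012ba3b0235b73270b94f933901d409c2ea652d241d248427ab8dc23a0c3c8180b04871a8ca5c2dd6804102845c7a1c9e0046a32150683318000441403)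
noncomputable def c2u3 : ℕ := (nat_lit 0x58b3767e3bf64b87c6eeb150a7bf65aab394ea14fcf6cb41389a4923b488ddf223594043c9991dd8fac120c2be34fa1cdbbf48e6aa56b6b206e35e2624634ca14ec5f88f68b9df5bcd97a7d651ecb45834300e8ef674d5e052d125dfc508ad7a8eb838a854a8be0e7fa8c475e620c42819227375b4ba48dcb54470751922cf7ac39637206e41a252cc92187aecaa34192085f7fdc0b7898fdbd205758cebe24592a709abae799d8047c3cb0830383846f6581f9792b69b3b84f839b0ca6bb572ad3686dcdf0d066b5560adb29984985e82578a8045d973275aacb54a903dc9429d980529f8bc36011b7983015047d3d5c4e003371accc262f808b4572892a803f008f06c3315c7c3c000c0481604)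
noncomputable def c2u4 : ℕ := (nat_lit 0x5975f8b87d5e6585c7f0eccdf7aba76dcf8bab156b277711474eac7772318c056efa86a03963e8f642b9b938d6741a5daa89cfa4a7d4bcb4a6d639a6e336ba205af2f52737bc5c5a988b7a7d87597a57c46cdc4d866baca6f1d0a54a2ffc95ce41d5625aa204b2415570709a6760b08d57058699967607c828d8ea388c264e8f679358db917ea1ee57546e31973d4d18f2f2a41a55b5a38c6a8ae9092cc5e261144d896a8ec9288ec1bb10e5b7fbd21e0ad3b52fa283ec0898727eca1766e049f3e688370bb785912fc7d0b069879184af4f8bb93dcd5f08286c75d0754e4d449e19e032a9403450a86dc3411070a3dcea0670a44ecce228117cb658a712e85011f8706e301648e001e0c84c1805)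
noncomputable def c2u5 : ℕ := (nat_lit 0xe2bb164ee3eac388dbef2c4f97f66b1eab8cac79ea66b74221264ac3f4316cb3990d7dd626e25c7b86a1997fa0715a3dfe95daa0b35764b46c54161d9267cc1fddd2a4e173b5ccea980b2659f9e0aebcc2155c2766e149d735c8d65eef47913e84b536129456b816cd6c6e782608707e0ea8839cdaeb878c61dc6953295ff2071d6e5cf6753890db0f945476998031a61aa90c2166e1a4d5c60bb2a97ba42ef4da72c06a48811c926583dfe0043c282ee83d2d4fa82d19e8fb2b621d15ba4905e5d69033780b5b9d815abd2866680948e60df39dceb411af22acc0eae5529d461b4dc492f4602c4d1c8a02219087e1400c7471339b2900291498b856295240242200f4703116800461f0d0501a06)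
noncomputable def c2u6 : ℕ := (nat_lit 0xe97add3a9772cbdbc0b59f2bce049f0569e4c425cd552a7da2c4a736d192145d03be925fc12f284b3636ea7f5c2772f7b3a46e65c4e8ca4d98bcec2b2a7086c74bed9e1e67a8ea9e96a98835a9599dd84bec6baad299a9f536d3946c06732d0c99854aef4ecb2bff1e1099d590adf876338120ecdf8f6e17692bf33c6f548e20f45e6a39007a5b2c627631938c62e78b8bcf3aeb573f744adad507c3514463662744e839622c8bc2b32b77a8a962c8087b70af106df1e4791d4261a38a3db59a860863375b7a64c2af26e4b31212b9c0af94708cea7217125b4895f1d55c35489f8326ad305268b91f04b321c587f81d94e872379560464308c0ba5029c045443188f872348009c48200d8541c07)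
noncomputable def c2u7 : ℕ := (nat_lit 0x59a7bcaaf749f1d698e7ab7dada2e2a1b75b299a2e1d470b92c248de13b49dcbb730a166f39cf0fd2df8fe9a3e1de2af572ab5e32037e5e38dbd751a54863017da5245a77d7560b176231cc2b5325cf6e2b5aac53d55d9e4e22d1abb91238200e4cee85563d7582112d4bfc1cb6f896aeb2f193a1fe6cc83b7f37652a955c21624cea54f1545c20d74c325e6771143dda8a0d7b57d3cf36cde4cf4317242784fb212489d364e3f02d0207eb670f01816f8b2ded131b5b920e46c5446d899836500c5c878169b65322316a63825349c600513e0aa3e184eb85b81d4052560814b4518df40b6424a4c082a441090a038b9dceb3d8d80a9436311800c59009308c44208d07400170444a210e0581e08)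
noncomputable def c2u8 : ℕ := (nat_lit 0x77edd1ec675ad1d3b2f3993cad9f196cc3c95d18939dc55635c9a0511cbaab9e9f4ba2d0dd90942401f97fc0c8ba3b074c456524704c1b24ed648e7b7da851f75e56aeab8fa0d22dab1a856c3b336d2e2a4f8a54a864235d9bd853e793add4d26e674654d7304945f4c1182176dc3b491c58929d8843a930aa3a7e55021cbfd9cfb6e25d2b6c1a3b86463c70c35b678e37df02d6cdeab9625abf6ac86e609b79c31b65044b196711a0b25d996beaa0f299497150c1e241cc03ddeb84bc06e60182c32b3882cc658fa7a1404b1672c1902fc2534ccd5ceb9203cb9604456aa14c2893816168a1181121378fc780680b01e0ec73011b40c3c318d4bc012a1348e4592c287608178544c220e85c2000)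
noncomputable def c2M : Mon := ⟨(nat_lit 240), (nat_lit 0), (nat_lit 8), (nat_lit 255), (nat_lit 9), (nat_lit 511), (nat_lit 2), (.node (nat_lit 4) (.node (nat_lit 2) (.node (nat_lit 1) (.leaf c2u0)
 (.leaf c2u1))
 (.node (nat_lit 3) (.leaf c2u2)
 (.leaf c2u3)))
 (.node (nat_lit 6) (.node (nat_lit 5) (.leaf c2u4)
 (.leaf c2u5))
 (.node (nat_lit 7) (.leaf c2u6)
 (.node (nat_lit 8) (.leaf c2u7)
 (.leaf c2u8)))))⟩
theorem c2r : RL.all c2M.relChk = true := by decide +kernel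
theorem c2 : ∃ φ : L.SM P →* Multiplicative (ZMod 2 × ZMod 2),
    Multiplicative.ofAdd (((1 : ℕ) : ZMod 2), ((1 : ℕ) : ZMod 2)) ∈ φ.range := by
  haveI : NeZero c2M.q := ⟨by decide⟩
  obtain ⟨φ, h⟩ := cover_hom std c2M (by decide +kernel) c2r
  exact ⟨φ, h [nat_lit 3, nat_lit 0, nat_lit 3, nat_lit 0]
    [nat_lit 0, nat_lit 0, nat_lit 3, nat_lit 3] 1 1 (by decide +kernel)⟩

theorem sm_dvd : Nat.card (L.SM P) ∣ 2 :=
  SM_dvd 2 [2, 3] 35 (sqfree_of_chk (by decide +kernel)) 9 (by simp only [List.mem_cons, List.not_mem_nil, or_false, forall_eq_or_imp, forall_eq]; norm_num)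
    (by rw [card]; decide +kernel) (by
      simp only [List.mem_cons, List.not_mem_nil, or_false, forall_eq_or_imp, forall_eq]
      exact ⟨⟨1, by norm_num, h2⟩, ⟨0, by norm_num, h3⟩⟩)
theorem mult : Cfsg.HasCyclicSchurMultiplier P 2 := by
  obtain ⟨φc2, hc2⟩ := c2
  have ec2 := dvd_exp_of_mem φc2 hc2
  norm_num at ec2
  exact hasCyclic_of_exp (by norm_num) sm_dvd ec2

end H8.S62
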