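import Cfsg.Agent.H8.GSL29

/-! H8.MSL29: `mult`, the Schur multiplier of `P` (generated certificate) -/

set_option autoImplicit false
set_option maxRecDepth 200000

namespace H8.SL29

noncomputable def h2t0 : ℕ := (nat_lit 0x6215fbc4a5044b443279a64021b74c61c2a264239e5a1220182cd3996b34d8d907c7028ab9591728cabd988048680be32c0649d293a3e4a11529f300e59da42ed941c173a134)
noncomputable def h2t1 : ℕ := (nat_lit 0x29a7307a222123f302a41eb9c1a84655c706d86b2288603f2c8012a92d1a8c3d188cd00a052f7860e41472c3ba1cb5639210cb9b0c9650b66dd13e2b2022976258933b153cf)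
noncomputable def h2t2 : ℕ := (nat_lit 0x9a0538d66d4dc13289f94961528862f07ac7476312920d48257217391d1489f8660d004d3d93718c1d8a7c5908749291cc0cf44af2a820133d1154708e082d6c2da17390944e)
noncomputable def h2t3 : ℕ := (nat_lit 0x4ea132a56a522546c18af66d192d5cb0f1f3a851203670d4287062c688fe03e973254e9f364498ee5d3878f5db66ed460d163c80e12284152c50c192e4899106101060e14001)
noncomputable def h2t4 : ℕ := (nat_lit 0x432c49950de20258f0aa4690c08e3b1c3307f3c69c52e08b3840081f92eca239c30dab744c2af7c613b68c117209421539241d8c09a2cd4506b514c145d3351e7a43d2c95941)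
noncomputable def h2t5 : ℕ := (nat_lit 0x630810a371de98528278f28a1cbe02b52352619946962cfce1c893b82c016406e491b48a1469e9504230352449756f08a56d103b33b306035f0e40838a9d9920866ba2a9973f)
noncomputable def h2T_0 : Tr ℕ := (.node (nat_lit 3) (.node (nat_lit 1) (.leaf h2t0)
 (.node (nat_lit 2) (.leaf h2t1)
 (.leaf h2t2)))
 (.node (nat_lit 4) (.leaf h2t3)
 (.node (nat_lit 5) (.leaf h2t4)
 (.leaf h2t5))))
noncomputable def h2E_0 : Tr (List ℕ) := (.node (nat_lit 3) (.node (nat_lit 1) (.leaf [nat_lit 5, nat_lit 2, nat_lit 5, nat_lit 2, nat_lit 0])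
 (.node (nat_lit 2) (.leaf [nat_lit 1, nat_lit 4, nat_lit 2, nat_lit 5, nat_lit 2, nat_lit 1])
 (.leaf [nat_lit 2, nat_lit 4, nat_lit 1, nat_lit 4, nat_lit 3, nat_lit 0])))
 (.node (nat_lit 4) (.leaf [nat_lit 5, nat_lit 3, nat_lit 0, nat_lit 5, nat_lit 3, nat_lit 0])
 (.node (nat_lit 5) (.leaf [nat_lit 3, nat_lit 5, nat_lit 1, nat_lit 5, nat_lit 2, nat_lit 0])
 (.leaf [nat_lit 1, nat_lit 5, nat_lit 1, nat_lit 5, nat_lit 1]))))
noncomputable def h2T : Tr ℕ := h2T_0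
noncomputable def h2E : Tr (List ℕ) := h2E_0
theorem h2w_0 : h2T_0.all2 (fun c w => isProd 80 (nat_lit 7) (nat_lit 127) T c w) h2E_0 = true := by decide +kernel
theorem h2lets : Lets P 80 (nat_lit 7) (nat_lit 127) (Fin.ofNat 80) h2T := lets_words lets h2E h2w_0
noncomputable def h2W : Tr (List ℕ) := (.node (nat_lit 8) (.node (nat_lit 4) (.node (nat_lit 2) (.node (nat_lit 1) (.leaf [nat_lit 3])
 (.leaf []))
 (.node (nat_lit 3) (.leaf [])
 (.leaf [])))
 (.node (nat_lit 6) (.node (nat_lit 5) (.leaf [nat_lit 1, nat_lit 2, nat_lit 3])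
 (.leaf [nat_lit 3]))
 (.node (nat_lit 7) (.leaf [])
 (.leaf []))))
 (.node (nat_lit 12) (.node (nat_lit 10) (.node (nat_lit 9) (.leaf [nat_lit 2, nat_lit 3])
 (.leaf [nat_lit 2, nat_lit 3]))
 (.node (nat_lit 11) (.leaf [nat_lit 3])
 (.leaf [])))
 (.node (nat_lit 14) (.node (nat_lit 13) (.leaf [nat_lit 3])
 (.leaf [nat_lit 3]))
 (.node (nat_lit 15) (.leaf [nat_lit 3])
 (.leaf [])))))
noncomputable def h2F : Tr (ℕ × List ℕ × List ℕ) := (.node (nat_lit 3) (.node (nat_lit 1) (.leaf ((nat_lit 4), [nat_lit 0], [nat_lit 0, nat_lit 3]))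
 (.node (nat_lit 2) (.leaf ((nat_lit 4), [nat_lit 2], [nat_lit 0, nat_lit 2, nat_lit 3]))
 (.leaf ((nat_lit 4), [nat_lit 3], [nat_lit 3]))))
 (.node (nat_lit 4) (.leaf ((nat_lit 5), [nat_lit 1], [nat_lit 2]))
 (.node (nat_lit 5) (.leaf ((nat_lit 5), [nat_lit 2], [nat_lit 1]))
 (.leaf ((nat_lit 5), [nat_lit 3], [nat_lit 3])))))
noncomputable def h2A : List (List ℕ × ℕ × ℕ) := [([nat_lit 0], (nat_lit 0), (nat_lit 0)),
  ([nat_lit 1], (nat_lit 1), (nat_lit 1)),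
  ([nat_lit 2], (nat_lit 2), (nat_lit 2)),
  ([nat_lit 2], (nat_lit 2), (nat_lit 0)),
  ([nat_lit 1], (nat_lit 1), (nat_lit 0)),
  ([nat_lit 1], (nat_lit 0), (nat_lit 0))]
noncomputable def h2B : List (ℕ × List ℕ × List ℕ) := [((nat_lit 4), [nat_lit 0, nat_lit 0], [nat_lit 2]),
  ((nat_lit 4), [nat_lit 1, nat_lit 1], [nat_lit 2]),
  ((nat_lit 5), [nat_lit 3, nat_lit 3], [nat_lit 5]),
  ((nat_lit 5), [nat_lit 4, nat_lit 3], [nat_lit 3, nat_lit 4, nat_lit 5])]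
noncomputable def h2X : Tr ℕ := (.node (nat_lit 2) (.node (nat_lit 1) (.leaf (nat_lit 0x0))
 (.leaf (nat_lit 0x0)))
 (.node (nat_lit 3) (.leaf (nat_lit 0x100000001))
 (.leaf (nat_lit 0x1))))
noncomputable def h2D : Tr ℕ := (.node (nat_lit 8) (.node (nat_lit 4) (.node (nat_lit 2) (.node (nat_lit 1) (.leaf (nat_lit 0x0))
 (.leaf (nat_lit 0x0)))
 (.node (nat_lit 3) (.leaf (nat_lit 0x0))
 (.leaf (nat_lit 0x0))))
 (.node (nat_lit 6) (.node (nat_lit 5) (.leaf (nat_lit 0x0))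
 (.leaf (nat_lit 0x0)))
 (.node (nat_lit 7) (.leaf (nat_lit 0x0))
 (.leaf (nat_lit 0x0)))))
 (.node (nat_lit 12) (.node (nat_lit 10) (.node (nat_lit 9) (.leaf (nat_lit 0x0))
 (.leaf (nat_lit 0x0)))
 (.node (nat_lit 11) (.leaf (nat_lit 0x0))
 (.leaf (nat_lit 0x0))))
 (.node (nat_lit 14) (.node (nat_lit 13) (.leaf (nat_lit 0x0))
 (.leaf (nat_lit 0x0)))
 (.node (nat_lit 15) (.leaf (nat_lit 0x0))
 (.leaf (nat_lit 0x0))))))
noncomputable def h2Y : Tr ℕ := (.node (nat_lit 8) (.node (nat_lit 4) (.node (nat_lit 2) (.node (nat_lit 1) (.leaf (nat_lit 0x0))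
 (.leaf (nat_lit 0x0)))
 (.node (nat_lit 3) (.leaf (nat_lit 0x0))
 (.leaf (nat_lit 0x0))))
 (.node (nat_lit 6) (.node (nat_lit 5) (.leaf (nat_lit 0x0))
 (.leaf (nat_lit 0x1010101010000010101)))
 (.node (nat_lit 7) (.leaf (nat_lit 0x0))
 (.leaf (nat_lit 0x0)))))
 (.node (nat_lit 12) (.node (nat_lit 10) (.node (nat_lit 9) (.leaf (nat_lit 0x101000001010001))
 (.leaf (nat_lit 0x101010101000001)))
 (.node (nat_lit 11) (.leaf (nat_lit 0x101010001000100))
 (.leaf (nat_lit 0x0))))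
 (.node (nat_lit 14) (.node (nat_lit 13) (.leaf (nat_lit 0x1))
 (.leaf (nat_lit 0x100)))
 (.node (nat_lit 15) (.leaf (nat_lit 0x10000))
 (.leaf (nat_lit 0x1010001))))))
noncomputable def h2H : Holt := ⟨(nat_lit 2), (nat_lit 2), (nat_lit 4), (nat_lit 22), (nat_lit 23), h2W, (nat_lit 6), h2F, h2A, h2B, h2X, [], h2D, h2Y⟩
noncomputable def h2L : List (ℕ × List (List ℕ)) := [((nat_lit 0), [[nat_lit 0], [nat_lit 1], [nat_lit 2], [nat_lit 3]])]
theorem h2r : h2H.relChk (weqOn (nat_lit 7) (nat_lit 127) h2T B) = true := by decide +kernel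
theorem h2l : h2H.linChk = true := by decide +kernel
theorem h2 : ¬ 2 ^ (0 + 1) ∣ Nat.card (L.SM P) :=
  holt_bound h2lets.rep (ofNat_inj 80) base.1 base.2 h2H 0 h2L (show Nat.Prime 2 by norm_num)
    (by rw [card]; decide +kernel) (by decide +kernel) h2r h2l

noncomputable def h3t0 : ℕ := (nat_lit 0x911e4ce9b3e5ca990a0c37efa0458919e3b7ae5c3a6cd5bac5cb593466bd8b04ca13a34a914ab54811213a7cf1a386c9922264c172c54a0d182c509104078e0e182840608080)
noncomputable def h3t1 : ℕ := (nat_lit 0x9b3e74a992e3c99101fbe8d162438505cb874d9ab778edeb160bd72d58d19b254a55a74ca12234a68e1b408909d3e789112660b992a50b0b1a3040a123880f0e182840608080)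
noncomputable def h3t2 : ℕ := (nat_lit 0x70f5b3772ede35743850c1a3c409164163166d16af60c97163044914325c995446ce9e4070d1f43021448afa1c18cfd3a94a8d42a569134e8f3254f91265cd0008385020c206)
noncomputable def h3T_0 : Tr ℕ := (.node (nat_lit 1) (.leaf h3t0)
 (.node (nat_lit 2) (.leaf h3t1)
 (.leaf h3t2)))
noncomputable def h3E_0 : Tr (List ℕ) := (.node (nat_lit 1) (.leaf [nat_lit 1])
 (.node (nat_lit 2) (.leaf [nat_lit 2, nat_lit 0])
 (.leaf [nat_lit 4, nat_lit 2, nat_lit 5, nat_lit 2, nat_lit 5, nat_lit 2])))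
noncomputable def h3T : Tr ℕ := h3T_0
noncomputable def h3E : Tr (List ℕ) := h3E_0
theorem h3w_0 : h3T_0.all2 (fun c w => isProd 80 (nat_lit 7) (nat_lit 127) T c w) h3E_0 = true := by decide +kernel
theorem h3lets : Lets P 80 (nat_lit 7) (nat_lit 127) (Fin.ofNat 80) h3T := lets_words lets h3E h3w_0
noncomputable def h3W : Tr (List ℕ) := (.node (nat_lit 2) (.node (nat_lit 1) (.leaf [])
 (.leaf []))
 (.node (nat_lit 3) (.leaf [nat_lit 1])
 (.leaf [])))
noncomputable def h3F : Tr (ℕ × List ℕ × List ℕ) := (.node (nat_lit 1) (.leaf ((nat_lit 2), [nat_lit 0], [nat_lit 0, nat_lit 0, nat_lit 1]))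
 (.leaf ((nat_lit 2), [nat_lit 1], [nat_lit 0, nat_lit 1])))
noncomputable def h3A : List (List ℕ × ℕ × ℕ) := [([nat_lit 1, nat_lit 1], (nat_lit 1), (nat_lit 0))]
noncomputable def h3B : List (ℕ × List ℕ × List ℕ) := [((nat_lit 2), [nat_lit 1, nat_lit 1, nat_lit 1], []),
  ((nat_lit 2), [nat_lit 0, nat_lit 0, nat_lit 0], [])]
noncomputable def h3X : Tr ℕ := (.node (nat_lit 1) (.leaf (nat_lit 0x70000070000))
 (.leaf (nat_lit 0x80700070008)))
noncomputable def h3D : Tr ℕ := (.node (nat_lit 2) (.node (nat_lit 1) (.leaf (nat_lit 0x0))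
 (.leaf (nat_lit 0x0)))
 (.node (nat_lit 3) (.leaf (nat_lit 0x1))
 (.leaf (nat_lit 0x0))))
noncomputable def h3Y : Tr ℕ := (.node (nat_lit 2) (.node (nat_lit 1) (.leaf (nat_lit 0x100))
 (.leaf (nat_lit 0x0)))
 (.node (nat_lit 3) (.leaf (nat_lit 0x0))
 (.leaf (nat_lit 0x10500))))
noncomputable def h3H : Holt := ⟨(nat_lit 3), (nat_lit 9), (nat_lit 2), (nat_lit 6), (nat_lit 22), h3W, (nat_lit 2), h3F, h3A, h3B, h3X, [((nat_lit 3), (nat_lit 0x10000), (nat_lit 0x4))], h3D, h3Y⟩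
noncomputable def h3L : List (ℕ × List (List ℕ)) := [((nat_lit 8), [[nat_lit 0], [nat_lit 1]])]
theorem h3r : h3H.relChk (weqOn (nat_lit 7) (nat_lit 127) h3T B) = true := by decide +kernel
theorem h3l : h3H.linChk = true := by decide +kernel
theorem h3 : ¬ 3 ^ (1 + 1) ∣ Nat.card (L.SM P) :=
  holt_bound h3lets.rep (ofNat_inj 80) base.1 base.2 h3H 1 h3L (show Nat.Prime 3 by norm_num)
    (by rw [card]; decide +kernel) (by decide +kernel) h3r h3l

noncomputable def c3u0 : ℕ := (nat_lit 0x2836a241)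
noncomputable def c3u1 : ℕ := (nat_lit 0x7564502)
noncomputable def c3u2 : ℕ := (nat_lit 0x275a4920)
noncomputable def c3u3 : ℕ := (nat_lit 0x18b6aa20)
noncomputable def c3u4 : ℕ := (nat_lit 0x2510083)
noncomputable def c3u5 : ℕ := (nat_lit 0x8100ca2)
noncomputable def c3M : Mon := ⟨(nat_lit 6), (nat_lit 0), (nat_lit 3), (nat_lit 7), (nat_lit 5), (nat_lit 31), (nat_lit 3), (.node (nat_lit 3) (.node (nat_lit 1) (.leaf c3u0)
 (.node (nat_lit 2) (.leaf c3u1)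
 (.leaf c3u2)))
 (.node (nat_lit 4) (.leaf c3u3)
 (.node (nat_lit 5) (.leaf c3u4)
 (.leaf c3u5))))⟩
theorem c3r : RL.all c3M.relChk = true := by decide +kernel
theorem c3 : ∃ φ : L.SM P →* Multiplicative (ZMod 3 × ZMod 3),
    Multiplicative.ofAdd (((1 : ℕ) : ZMod 3), ((1 : ℕ) : ZMod 3)) ∈ φ.range := by
  haveI : NeZero c3M.q := ⟨by decide⟩
  obtain ⟨φ, h⟩ := cover_hom std c3M (by decide +kernel) c3r
  exact ⟨φ, h [nat_lit 0, nat_lit 2, nat_lit 1, nat_lit 3, nat_lit 0, nat_lit 2, nat_lit 1, nat_lit 3]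
    [nat_lit 0, nat_lit 1, nat_lit 2, nat_lit 3, nat_lit 0, nat_lit 1, nat_lit 2, nat_lit 3] 1 1 (by decide +kernel)⟩

theorem sm_dvd : Nat.card (L.SM P) ∣ 3 :=
  SM_dvd 3 [2, 3] 5 (sqfree_of_chk (by decide +kernel)) 4 (by simp only [List.mem_cons, List.not_mem_nil, or_false, forall_eq_or_imp, forall_eq]; norm_num)
    (by rw [card]; decide +kernel) (by
      simp only [List.mem_cons, List.not_mem_nil, or_false, forall_eq_or_imp, forall_eq]
      exact ⟨⟨0, by norm_num, h2⟩, ⟨1, by norm_num, h3⟩⟩)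
theorem mult : Cfsg.HasCyclicSchurMultiplier P 3 := by
  obtain ⟨φc3, hc3⟩ := c3
  have ec3 := dvd_exp_of_mem φc3 hc3
  norm_num at ec3
  exact hasCyclic_of_exp (by norm_num) sm_dvd ec3

end H8.SL29
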