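import Cfsg.Agent.H8.GM11

/-! H8.OM11: `out`, the order of the outer automorphism group of `P` (generated certificate) -/

set_option autoImplicit false
set_option maxRecDepth 200000

namespace H8.M11

noncomputable def ot0 : ℕ := (nat_lit 0xa5af3592a929d017c46c535c234240)
noncomputable def ot1 : ℕ := (nat_lit 0xad8f32c1e4bb84855123885666b240)
noncomputable def ot2 : ℕ := (nat_lit 0xa38a77ca645d84d8dd2c542a11a0c0)
noncomputable def ot3 : ℕ := (nat_lit 0xada37a0542594c899e0d70df249180)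
noncomputable def ot4 : ℕ := (nat_lit 0x7daeaa04f28b8622ad2ca9270434c0)
noncomputable def ot5 : ℕ := (nat_lit 0x538b78c9669d98879d22a06b01b480)
noncomputable def ot6 : ℕ := (nat_lit 0x794eb8ca6cbd9a8aba09a0d4221820)
noncomputable def ot7 : ℕ := (nat_lit 0x7b9678ca69ba9b0a150ca8ac331020)
noncomputable def ot8 : ℕ := (nat_lit 0x8d9d478972a948d3de095326332020)
noncomputable def ot9 : ℕ := (nat_lit 0x559f42c2e99d58689d0258dcd24820)
noncomputable def ot10 : ℕ := (nat_lit 0x7cd77b49d03a849a9486a362362020)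
noncomputable def ot11 : ℕ := (nat_lit 0xa4d67b48b0bc4c3ab9827a14923420)
noncomputable def ot12 : ℕ := (nat_lit 0xb2cb37c8e37504c55d0d8c2a622420)
noncomputable def ot13 : ℕ := (nat_lit 0x55caea48e69bd0cb2c49892a383420)
noncomputable def ot14 : ℕ := (nat_lit 0x52dc5a48e99d5028dd86b0de46c020)
noncomputable def ot15 : ℕ := (nat_lit 0x51dd37c9622d469b5e0d8a28433020)
noncomputable def ot16 : ℕ := (nat_lit 0x751513c9e8b5c439d5ac2a56481820)
noncomputable def ot17 : ℕ := (nat_lit 0x73d565ca838dd282d4d0988e463420)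
noncomputable def ot18 : ℕ := (nat_lit 0x5c5f49cacda9602ba8c83a5c323020)
noncomputable def ot19 : ℕ := (nat_lit 0xb5dd4799509d4895c5833c8ad40820)
noncomputable def ot20 : ℕ := (nat_lit 0x8d6d498aed5aa0c7b823398a444920)
noncomputable def ot21 : ℕ := (nat_lit 0x756ca5ca9089d269bd03292e26b020)
noncomputable def ot22 : ℕ := (nat_lit 0x2d6d15c9f055c629d1a9730e641020)
noncomputable def ot23 : ℕ := (nat_lit 0xbc6af2cacca38d03a8435b66442420)
noncomputable def ot24 : ℕ := (nat_lit 0x8dab428ae873c6652d303b2646c820)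
noncomputable def ot25 : ℕ := (nat_lit 0x996aebc2325d1237a9a839ac460440)
noncomputable def oT_0 : Tr ℕ := (.node (nat_lit 1) (.leaf ot0)
 (.node (nat_lit 2) (.leaf ot1)
 (.leaf ot2)))
noncomputable def oE_0 : Tr (List ℕ) := (.node (nat_lit 1) (.leaf [nat_lit 6, nat_lit 5, nat_lit 1, nat_lit 4, nat_lit 3, nat_lit 1])
 (.node (nat_lit 2) (.leaf [nat_lit 6, nat_lit 1, nat_lit 1, nat_lit 5, nat_lit 0, nat_lit 4, nat_lit 2, nat_lit 1])
 (.leaf [nat_lit 0, nat_lit 6, nat_lit 1, nat_lit 1, nat_lit 4, nat_lit 0])))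
noncomputable def oT : Tr ℕ := oT_0
noncomputable def oE : Tr (List ℕ) := oE_0
theorem ow_0 : oT_0.all2 (fun c w => isProd 24 (nat_lit 5) (nat_lit 31) T c w) oE_0 = true := by decide +kernel
theorem olets : Lets P 24 (nat_lit 5) (nat_lit 31) (Fin.ofNat 24) oT := lets_words lets oE ow_0
noncomputable def oT' : Tr ℕ := (.node (nat_lit 13) (.node (nat_lit 6) (.node (nat_lit 3) (.node (nat_lit 1) (.leaf ot0)
 (.node (nat_lit 2) (.leaf ot1)
 (.leaf ot2)))
 (.node (nat_lit 4) (.leaf ot3)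
 (.node (nat_lit 5) (.leaf ot4)
 (.leaf ot5))))
 (.node (nat_lit 9) (.node (nat_lit 7) (.leaf ot6)
 (.node (nat_lit 8) (.leaf ot7)
 (.leaf ot8)))
 (.node (nat_lit 11) (.node (nat_lit 10) (.leaf ot9)
 (.leaf ot10))
 (.node (nat_lit 12) (.leaf ot11)
 (.leaf ot12)))))
 (.node (nat_lit 19) (.node (nat_lit 16) (.node (nat_lit 14) (.leaf ot13)
 (.node (nat_lit 15) (.leaf ot14)
 (.leaf ot15)))
 (.node (nat_lit 17) (.leaf ot16)
 (.node (nat_lit 18) (.leaf ot17)
 (.leaf ot18))))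
 (.node (nat_lit 22) (.node (nat_lit 20) (.leaf ot19)
 (.node (nat_lit 21) (.leaf ot20)
 (.leaf ot21)))
 (.node (nat_lit 24) (.node (nat_lit 23) (.leaf ot22)
 (.leaf ot23))
 (.node (nat_lit 25) (.leaf ot24)
 (.leaf ot25))))))
noncomputable def oD : Tr (List ℕ) := (.node (nat_lit 13) (.node (nat_lit 6) (.node (nat_lit 3) (.node (nat_lit 1) (.leaf [])
 (.node (nat_lit 2) (.leaf [])
 (.leaf [])))
 (.node (nat_lit 4) (.leaf [nat_lit 0, nat_lit 0, nat_lit 0, nat_lit 0, nat_lit 0, nat_lit 0, nat_lit 0, nat_lit 0, nat_lit 0, nat_lit 0])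
 (.node (nat_lit 5) (.leaf [nat_lit 1, nat_lit 1, nat_lit 1, nat_lit 1])
 (.leaf [nat_lit 2, nat_lit 2, nat_lit 2]))))
 (.node (nat_lit 9) (.node (nat_lit 7) (.leaf [nat_lit 3, nat_lit 4, nat_lit 2, nat_lit 4])
 (.node (nat_lit 8) (.leaf [nat_lit 1, nat_lit 5, nat_lit 1, nat_lit 0])
 (.leaf [nat_lit 3, nat_lit 1])))
 (.node (nat_lit 11) (.node (nat_lit 10) (.leaf [nat_lit 4, nat_lit 0])
 (.leaf [nat_lit 8, nat_lit 8, nat_lit 7, nat_lit 9]))
 (.node (nat_lit 12) (.leaf [nat_lit 8, nat_lit 6, nat_lit 9, nat_lit 9])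
 (.leaf [nat_lit 9, nat_lit 9, nat_lit 7, nat_lit 7, nat_lit 9])))))
 (.node (nat_lit 19) (.node (nat_lit 16) (.node (nat_lit 14) (.leaf [nat_lit 8, nat_lit 6, nat_lit 6, nat_lit 8, nat_lit 8])
 (.node (nat_lit 15) (.leaf [nat_lit 10, nat_lit 13, nat_lit 13, nat_lit 10, nat_lit 12])
 (.leaf [nat_lit 13, nat_lit 11, nat_lit 12, nat_lit 12, nat_lit 11])))
 (.node (nat_lit 17) (.leaf [nat_lit 11, nat_lit 13])
 (.node (nat_lit 18) (.leaf [nat_lit 12, nat_lit 10])
 (.leaf [nat_lit 10, nat_lit 16, nat_lit 15]))))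
 (.node (nat_lit 22) (.node (nat_lit 20) (.leaf [nat_lit 13, nat_lit 9, nat_lit 12, nat_lit 11, nat_lit 17])
 (.node (nat_lit 21) (.leaf [nat_lit 15, nat_lit 3, nat_lit 14, nat_lit 9, nat_lit 16, nat_lit 11, nat_lit 15, nat_lit 15])
 (.leaf [nat_lit 13, nat_lit 11, nat_lit 15, nat_lit 15])))
 (.node (nat_lit 24) (.node (nat_lit 23) (.leaf [nat_lit 21, nat_lit 21, nat_lit 21])
 (.leaf [nat_lit 15, nat_lit 15]))
 (.node (nat_lit 25) (.leaf [nat_lit 8, nat_lit 16, nat_lit 11, nat_lit 15])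
 (.leaf [nat_lit 14, nat_lit 3, nat_lit 9, nat_lit 12, nat_lit 11]))))))
noncomputable def oTa : Tr ℕ := (.node (nat_lit 3) (.node (nat_lit 1) (.leaf ot14)
 (.node (nat_lit 2) (.leaf ot15)
 (.leaf ot17)))
 (.node (nat_lit 5) (.node (nat_lit 4) (.leaf ot16)
 (.leaf ot18))
 (.node (nat_lit 6) (.leaf ot19)
 (.leaf ot20))))
noncomputable def oTn : Tr ℕ := (.node (nat_lit 3) (.node (nat_lit 1) (.leaf ot21)
 (.node (nat_lit 2) (.leaf ot22)
 (.leaf ot11)))
 (.node (nat_lit 5) (.node (nat_lit 4) (.leaf ot10)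
 (.leaf ot23))
 (.node (nat_lit 6) (.leaf ot24)
 (.leaf ot25))))
noncomputable def oA0 : Lev := ⟨(nat_lit 1), (nat_lit 7), (nat_lit 0x6000100000302000007030004000604010000), (nat_lit 0x3000200000202000001030002000303030000),
 (.leaf 0),
 (.leaf 0)⟩
noncomputable def oA1 : Lev := ⟨(nat_lit 18), (nat_lit 6), (nat_lit 0x400000103000003010006000502040000), (nat_lit 0x300000303000002020001000302020000),
 (.leaf 0),
 (.leaf 0)⟩
noncomputable def oA2 : Lev := ⟨(nat_lit 4), (nat_lit 5), (nat_lit 0x300000204000003010001000005040000), (nat_lit 0x200000202000003030002000001030000),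
 (.leaf 0),
 (.leaf 0)⟩
noncomputable def oA3 : Lev := ⟨(nat_lit 2), (nat_lit 4), (nat_lit 0x200000401000001040003000003000000), (nat_lit 0x100000101000002020001000002000000),
 (.leaf 0),
 (.leaf 0)⟩
noncomputable def oA : List Lev := [oA0, oA1, oA2, oA3]
noncomputable def oN0 : Lev := ⟨(nat_lit 1), (nat_lit 7), (nat_lit 0x6000500000402000005030001000103070000), (nat_lit 0x2000300000202000002020003000203010000),
 (.leaf 0),
 (.leaf 0)⟩
noncomputable def oN1 : Lev := ⟨(nat_lit 18), (nat_lit 6), (nat_lit 0x500000402000005030001000103060000), (nat_lit 0x300000202000002020003000203010000),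
 (.leaf 0),
 (.leaf 0)⟩
noncomputable def oN2 : Lev := ⟨(nat_lit 16), (nat_lit 5), (nat_lit 0x405000003030002000104010000), (nat_lit 0x301000002030002000302020000),
 (.leaf 0),
 (.leaf 0)⟩
noncomputable def oN3 : Lev := ⟨(nat_lit 4), (nat_lit 4), (nat_lit 0x301000004040001000003020000), (nat_lit 0x202000001020001000001010000),
 (.leaf 0),
 (.leaf 0)⟩
noncomputable def oN : List Lev := [oN0, oN1, oN2, oN3]
noncomputable def oO : OutD := ⟨(nat_lit 5), (nat_lit 31), B, ot0, ot1, ot2, ot0, (nat_lit 11), (nat_lit 3), (nat_lit 2), (nat_lit 0), [nat_lit 1, nat_lit 2], [([nat_lit 0, nat_lit 1, nat_lit 1, nat_lit 1, nat_lit 2], (nat_lit 3))], false⟩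
theorem oslp : slpChk 24 (nat_lit 5) (nat_lit 31) oT' oD 3 23 = true := by decide +kernel
theorem osA_0 : srchR 24 (nat_lit 5) (nat_lit 31) oTa oO.ta oO.leafA oA (0 * 24) 24  = true := by decide +kernel
theorem osN_0 : srchR 24 (nat_lit 5) (nat_lit 31) oTn oO.tn oO.leafN oN (0 * 24) 24  = true := by decide +kernel
theorem ochk : OutChk 24 oO oT' oTa oTn oD 23 oA oN 7920 24 24 :=
  ⟨by decide +kernel, by decide +kernel, oslp, by decide +kernel, by decide +kernel,
  (fun i hi => by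
    have : i < 1 := by omega
    interval_cases i
    exacts [osA_0]),
  (fun i hi => by
    have : i < 1 := by omega
    interval_cases i
    exacts [osN_0])⟩
theorem out : Nat.card (Cfsg.Out P) = 1 := out_one ochk base (ofNat_inj 24) card (show Nat.Prime 11 by norm_num) (by decide +kernel) olets (by decide +kernel) rfl

end H8.M11
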