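import Cfsg.Agent.H8.GM12

/-! H8.OM12: `out`, the order of the outer automorphism group of `P` (generated certificate) -/

set_option autoImplicit false
set_option maxRecDepth 200000

namespace H8.M12

noncomputable def ot0 : ℕ := (nat_lit 0x5aa65b4ae879c03ad0cc8b5d010524)
noncomputable def ot1 : ℕ := (nat_lit 0x9d8f15cae07aa02a1428736a931183)
noncomputable def ot2 : ℕ := (nat_lit 0x53d672a1c1b4520addb2a126610e0c)
noncomputable def ot3 : ℕ := (nat_lit 0x8cd6aac8e4794c8bd8307268060c4d)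
noncomputable def ot4 : ℕ := (nat_lit 0x8d8abbca8d79cc19b888a8d4203130)
noncomputable def ot5 : ℕ := (nat_lit 0x5bcb4386a474462bce12536c64b100)
noncomputable def ot6 : ℕ := (nat_lit 0x59634521c9b3cc2b9c61992b06b240)
noncomputable def ot7 : ℕ := (nat_lit 0x5bef52a6263a88d9b832b428c12060)
noncomputable def ot8 : ℕ := (nat_lit 0xa9e855a226b2984bba427c26d08d20)
noncomputable def ot9 : ℕ := (nat_lit 0x72a915c9f0acd89bd82228ce4419a0)
noncomputable def ot10 : ℕ := (nat_lit 0x5a9f574a908dc2d9d983288e432120)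
noncomputable def ot11 : ℕ := (nat_lit 0x59d51a09ed9de43b1509ab1c4804c0)
noncomputable def ot12 : ℕ := (nat_lit 0x72cf37b68389606bd509b054464840)
noncomputable def ot13 : ℕ := (nat_lit 0x3bd76a0dd09944cac64dba14409920)
noncomputable def ot14 : ℕ := (nat_lit 0x3d1737a550b450ca9426b89c493460)
noncomputable def ot15 : ℕ := (nat_lit 0x5b9f1524f0ad84d9dcc82868460e40)
noncomputable def ot16 : ℕ := (nat_lit 0x539e558690ad983bce488a4e4134c0)
noncomputable def ot17 : ℕ := (nat_lit 0x3bdd7a3550b54c18958898d6492440)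
noncomputable def ot18 : ℕ := (nat_lit 0xa3dd338d70b56492c448bb54430580)
noncomputable def ot19 : ℕ := (nat_lit 0x8d6ca2b27073d26a1c6858ae40c9a0)
noncomputable def ot20 : ℕ := (nat_lit 0x2d6cb88af073c323d1a85326449860)
noncomputable def ot21 : ℕ := (nat_lit 0xb5caf9b230a385252d0938ea433420)
noncomputable def ot22 : ℕ := (nat_lit 0x2da349caa9539a33be02586e4620c0)
noncomputable def ot23 : ℕ := (nat_lit 0xbbaab3c2322d9aca2883985e9408c0)
noncomputable def ot24 : ℕ := (nat_lit 0x8d9f49a2f0a9da4594127054c188c9)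
noncomputable def ot25 : ℕ := (nat_lit 0x89ecebb149ad1b02ce44799611a040)
noncomputable def ot26 : ℕ := (nat_lit 0x9d5ee526ec3d1b22c602b196818480)
noncomputable def ot27 : ℕ := (nat_lit 0x3cee5792c28ada87542951a901c980)
noncomputable def ot28 : ℕ := (nat_lit 0xac545b09e49ada171d0cb9a921c120)
noncomputable def ot29 : ℕ := (nat_lit 0xa2eb78a26c7b890b2832298ed18920)
noncomputable def ot30 : ℕ := (nat_lit 0xbae957b6289ba44b1cd0524ac18820)
noncomputable def ot31 : ℕ := (nat_lit 0x73eb19ca83b5da83a84c598a182480)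
noncomputable def ot32 : ℕ := (nat_lit 0x595547b2239b9b2bd52039ac480448)
noncomputable def ot33 : ℕ := (nat_lit 0xbdab49ca307b9ac5a928398a418820)
noncomputable def ot34 : ℕ := (nat_lit 0x121a123d95900b448e76828d774567)
noncomputable def oT_0 : Tr ℕ := (.node (nat_lit 1) (.leaf ot0)
 (.node (nat_lit 2) (.leaf ot1)
 (.leaf ot2)))
noncomputable def oE_0 : Tr (List ℕ) := (.node (nat_lit 1) (.leaf [nat_lit 0, nat_lit 7, nat_lit 0, nat_lit 6, nat_lit 3, nat_lit 5, nat_lit 2, nat_lit 1, nat_lit 4])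
 (.node (nat_lit 2) (.leaf [nat_lit 6, nat_lit 1, nat_lit 7, nat_lit 4, nat_lit 6, nat_lit 3, nat_lit 5, nat_lit 1, nat_lit 4, nat_lit 3, nat_lit 1])
 (.leaf [nat_lit 1, nat_lit 7, nat_lit 1, nat_lit 1, nat_lit 6, nat_lit 2, nat_lit 5, nat_lit 0, nat_lit 4, nat_lit 2])))
noncomputable def oT : Tr ℕ := oT_0
noncomputable def oE : Tr (List ℕ) := oE_0
theorem ow_0 : oT_0.all2 (fun c w => isProd 24 (nat_lit 5) (nat_lit 31) T c w) oE_0 = true := by decide +kernel
theorem olets : Lets P 24 (nat_lit 5) (nat_lit 31) (Fin.ofNat 24) oT := lets_words lets oE ow_0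
noncomputable def oT' : Tr ℕ := (.node (nat_lit 17) (.node (nat_lit 8) (.node (nat_lit 4) (.node (nat_lit 2) (.node (nat_lit 1) (.leaf ot0)
 (.leaf ot1))
 (.node (nat_lit 3) (.leaf ot2)
 (.leaf ot3)))
 (.node (nat_lit 6) (.node (nat_lit 5) (.leaf ot4)
 (.leaf ot5))
 (.node (nat_lit 7) (.leaf ot6)
 (.leaf ot7))))
 (.node (nat_lit 12) (.node (nat_lit 10) (.node (nat_lit 9) (.leaf ot8)
 (.leaf ot9))
 (.node (nat_lit 11) (.leaf ot10)
 (.leaf ot11)))
 (.node (nat_lit 14) (.node (nat_lit 13) (.leaf ot12)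
 (.leaf ot13))
 (.node (nat_lit 15) (.leaf ot14)
 (.node (nat_lit 16) (.leaf ot15)
 (.leaf ot16))))))
 (.node (nat_lit 25) (.node (nat_lit 21) (.node (nat_lit 19) (.node (nat_lit 18) (.leaf ot17)
 (.leaf ot18))
 (.node (nat_lit 20) (.leaf ot19)
 (.leaf ot20)))
 (.node (nat_lit 23) (.node (nat_lit 22) (.leaf ot21)
 (.leaf ot22))
 (.node (nat_lit 24) (.leaf ot23)
 (.leaf ot24))))
 (.node (nat_lit 29) (.node (nat_lit 27) (.node (nat_lit 26) (.leaf ot25)
 (.leaf ot26))
 (.node (nat_lit 28) (.leaf ot27)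
 (.leaf ot28)))
 (.node (nat_lit 31) (.node (nat_lit 30) (.leaf ot29)
 (.leaf ot30))
 (.node (nat_lit 32) (.leaf ot31)
 (.node (nat_lit 33) (.leaf ot32)
 (.leaf ot33)))))))
noncomputable def oD : Tr (List ℕ) := (.node (nat_lit 17) (.node (nat_lit 8) (.node (nat_lit 4) (.node (nat_lit 2) (.node (nat_lit 1) (.leaf [])
 (.leaf []))
 (.node (nat_lit 3) (.leaf [])
 (.leaf [nat_lit 0, nat_lit 0, nat_lit 0, nat_lit 0, nat_lit 0, nat_lit 0, nat_lit 0, nat_lit 0, nat_lit 0, nat_lit 0])))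
 (.node (nat_lit 6) (.node (nat_lit 5) (.leaf [nat_lit 1, nat_lit 1, nat_lit 1, nat_lit 1])
 (.leaf [nat_lit 4, nat_lit 0, nat_lit 2]))
 (.node (nat_lit 7) (.leaf [nat_lit 2, nat_lit 3, nat_lit 1])
 (.leaf [nat_lit 1, nat_lit 3, nat_lit 3, nat_lit 2]))))
 (.node (nat_lit 12) (.node (nat_lit 10) (.node (nat_lit 9) (.leaf [nat_lit 2, nat_lit 0, nat_lit 0, nat_lit 4])
 (.leaf [nat_lit 6, nat_lit 6, nat_lit 8]))
 (.node (nat_lit 11) (.leaf [nat_lit 7, nat_lit 5, nat_lit 5])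
 (.leaf [nat_lit 5, nat_lit 5, nat_lit 8, nat_lit 8, nat_lit 5, nat_lit 8])))
 (.node (nat_lit 14) (.node (nat_lit 13) (.leaf [nat_lit 7, nat_lit 6, nat_lit 7, nat_lit 7, nat_lit 6, nat_lit 6])
 (.leaf [nat_lit 11, nat_lit 11, nat_lit 11, nat_lit 10, nat_lit 12]))
 (.node (nat_lit 15) (.leaf [nat_lit 11, nat_lit 9, nat_lit 12, nat_lit 12, nat_lit 12])
 (.node (nat_lit 16) (.leaf [nat_lit 10, nat_lit 14, nat_lit 14])
 (.leaf [nat_lit 13, nat_lit 13, nat_lit 9]))))))
 (.node (nat_lit 25) (.node (nat_lit 21) (.node (nat_lit 19) (.node (nat_lit 18) (.leaf [nat_lit 9, nat_lit 9, nat_lit 14])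
 (.leaf [nat_lit 13, nat_lit 10, nat_lit 10]))
 (.node (nat_lit 20) (.leaf [nat_lit 18, nat_lit 16])
 (.leaf [nat_lit 19, nat_lit 19, nat_lit 19])))
 (.node (nat_lit 23) (.node (nat_lit 22) (.leaf [nat_lit 16, nat_lit 14, nat_lit 17, nat_lit 16])
 (.leaf [nat_lit 17, nat_lit 16, nat_lit 12, nat_lit 9, nat_lit 16, nat_lit 16]))
 (.node (nat_lit 24) (.leaf [nat_lit 6, nat_lit 6, nat_lit 9, nat_lit 12, nat_lit 13, nat_lit 18])
 (.leaf [nat_lit 2, nat_lit 3, nat_lit 17, nat_lit 16, nat_lit 12, nat_lit 16, nat_lit 13, nat_lit 18, nat_lit 16]))))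
 (.node (nat_lit 29) (.node (nat_lit 27) (.node (nat_lit 26) (.leaf [nat_lit 15, nat_lit 5, nat_lit 9, nat_lit 12, nat_lit 13, nat_lit 17, nat_lit 16])
 (.leaf [nat_lit 25, nat_lit 25, nat_lit 25]))
 (.node (nat_lit 28) (.leaf [nat_lit 6, nat_lit 15, nat_lit 12, nat_lit 13, nat_lit 16, nat_lit 16])
 (.leaf [nat_lit 27, nat_lit 27, nat_lit 27])))
 (.node (nat_lit 31) (.node (nat_lit 30) (.leaf [nat_lit 8, nat_lit 11, nat_lit 17])
 (.leaf [nat_lit 7, nat_lit 16, nat_lit 12, nat_lit 14, nat_lit 18]))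
 (.node (nat_lit 32) (.leaf [nat_lit 15, nat_lit 5, nat_lit 15, nat_lit 12, nat_lit 10, nat_lit 18])
 (.node (nat_lit 33) (.leaf [nat_lit 14, nat_lit 3, nat_lit 6, nat_lit 14])
 (.leaf [])))))))
noncomputable def oTa : Tr ℕ := (.node (nat_lit 4) (.node (nat_lit 2) (.node (nat_lit 1) (.leaf ot19)
 (.leaf ot20))
 (.node (nat_lit 3) (.leaf ot15)
 (.leaf ot16)))
 (.node (nat_lit 6) (.node (nat_lit 5) (.leaf ot21)
 (.leaf ot22))
 (.node (nat_lit 7) (.leaf ot23)
 (.leaf ot24))))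
noncomputable def oTn : Tr ℕ := (.node (nat_lit 4) (.node (nat_lit 2) (.node (nat_lit 1) (.leaf ot25)
 (.leaf ot26))
 (.node (nat_lit 3) (.leaf ot27)
 (.leaf ot28)))
 (.node (nat_lit 6) (.node (nat_lit 5) (.leaf ot29)
 (.leaf ot30))
 (.node (nat_lit 7) (.leaf ot31)
 (.leaf ot32))))
noncomputable def oA0 : Lev := ⟨(nat_lit 0), (nat_lit 8), (nat_lit 0x3000600000103000008050004000702040100), (nat_lit 0x2000200000203000001020002000202030300),
 (.leaf 0),
 (.leaf 0)⟩
noncomputable def oA1 : Lev := ⟨(nat_lit 4), (nat_lit 7), (nat_lit 0x3000600000103000007050004000002040100), (nat_lit 0x2000200000203000001020002000002030300),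
 (.leaf 0),
 (.leaf 0)⟩
noncomputable def oA2 : Lev := ⟨(nat_lit 16), (nat_lit 6), (nat_lit 0x3000000000103000006050004000002040100), (nat_lit 0x2000000000203000001020002000002030300),
 (.leaf 0),
 (.leaf 0)⟩
noncomputable def oA3 : Lev := ⟨(nat_lit 8), (nat_lit 5), (nat_lit 0x3000000000103000005000004000002040100), (nat_lit 0x2000000000203000001000002000002030300),
 (.leaf 0),
 (.leaf 0)⟩
noncomputable def oA4 : Lev := ⟨(nat_lit 12), (nat_lit 4), (nat_lit 0x1000000000400000004000002000003010300), (nat_lit 0x1000000000100000002000001000001020200),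
 (.leaf 0),
 (.leaf 0)⟩
noncomputable def oA : List Lev := [oA0, oA1, oA2, oA3, oA4]
noncomputable def oN0 : Lev := ⟨(nat_lit 0), (nat_lit 8), (nat_lit 0x5000600000503000004080006000207010100), (nat_lit 0x2000200000302000002010003000203020300),
 (.leaf 0),
 (.leaf 0)⟩
noncomputable def oN1 : Lev := ⟨(nat_lit 3), (nat_lit 7), (nat_lit 0x1000700000501000002060006000300040300), (nat_lit 0x3000100000302000002020003000200020300),
 (.leaf 0),
 (.leaf 0)⟩
noncomputable def oN2 : Lev := ⟨(nat_lit 6), (nat_lit 6), (nat_lit 0x2000100000601000006030000000300040400), (nat_lit 0x2000200000303000001020000000300030200),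
 (.leaf 0),
 (.leaf 0)⟩
noncomputable def oN3 : Lev := ⟨(nat_lit 13), (nat_lit 5), (nat_lit 0x3000400000003000004010000000500010200), (nat_lit 0x2000200000003000003020000000100030200),
 (.leaf 0),
 (.leaf 0)⟩
noncomputable def oN4 : Lev := ⟨(nat_lit 16), (nat_lit 4), (nat_lit 0x1000000000001000002040000000300040300), (nat_lit 0x2000000000001000001020000000100010200),
 (.leaf 0),
 (.leaf 0)⟩
noncomputable def oN : List Lev := [oN0, oN1, oN2, oN3, oN4]
noncomputable def oO : OutD := ⟨(nat_lit 5), (nat_lit 31), B, ot0, ot1, ot2, ot33, (nat_lit 11), (nat_lit 3), (nat_lit 1), (nat_lit 2), [nat_lit 1, nat_lit 2], [([nat_lit 0, nat_lit 1, nat_lit 2], (nat_lit 6)), ([nat_lit 0, nat_lit 2, nat_lit 1, nat_lit 0, nat_lit 0, nat_lit 2], (nat_lit 3))], true⟩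
theorem oslp : slpChk 24 (nat_lit 5) (nat_lit 31) oT' oD 3 31 = true := by decide +kernel
theorem osA_0 : srchR 24 (nat_lit 5) (nat_lit 31) oTa oO.ta oO.leafA oA (0 * 24) 24  = true := by decide +kernel
theorem osN_0 : srchR 24 (nat_lit 5) (nat_lit 31) oTn oO.tn oO.leafN oN (0 * 24) 24  = true := by decide +kernel
theorem ochk : OutChk 24 oO oT' oTa oTn oD 31 oA oN 95040 24 24 :=
  ⟨by decide +kernel, by decide +kernel, oslp, by decide +kernel, by decide +kernel,
  (fun i hi => by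
    have : i < 1 := by omega
    interval_cases i
    exacts [osA_0]),
  (fun i hi => by
    have : i < 1 := by omega
    interval_cases i
    exacts [osN_0])⟩
theorem out : Nat.card (Cfsg.Out P) = 2 := out_two ochk base card (show Nat.Prime 11 by norm_num) (by decide +kernel) olets (by decide +kernel) rfl ot34 (by decide +kernel)

end H8.M12
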