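import Cfsg.Agent.H8.GM22

/-! H8.OM22: `out`, the order of the outer automorphism group of `P` (generated certificate) -/

set_option autoImplicit false
set_option maxRecDepth 200000

namespace H8.M22

noncomputable def ot0 : ℕ := (nat_lit 0xb85d042ad1a2c8778c52a966969980)
noncomputable def ot1 : ℕ := (nat_lit 0xbd82c90a8e8d48b7cd0d824a650ce0)
noncomputable def ot2 : ℕ := (nat_lit 0xb9423a2e47539b313c89aa2c664600)
noncomputable def ot3 : ℕ := (nat_lit 0xbc4ef2a2145d46174893608cd526c0)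
noncomputable def ot4 : ℕ := (nat_lit 0xbd9d154de75c11460cc9090ad14aa0)
noncomputable def ot5 : ℕ := (nat_lit 0xb94f364441539a393d06812c9a2ea0)
noncomputable def ot6 : ℕ := (nat_lit 0xbd18f98ab63acce8a0838293269420)
noncomputable def ot7 : ℕ := (nat_lit 0xbc23699167a3075718aa7b44944820)
noncomputable def ot8 : ℕ := (nat_lit 0xb8984a58d193ca89d5493b6035b820)
noncomputable def ot9 : ℕ := (nat_lit 0xbc9535be05708d51a50c3c5b425820)
noncomputable def ot10 : ℕ := (nat_lit 0xb8a549a6c541dcc242a66bd435c420)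
noncomputable def ot11 : ℕ := (nat_lit 0xbc5349d44a334ec1964f7220b25820)
noncomputable def ot12 : ℕ := (nat_lit 0xb9e8a258496960ca990f9ae3270c20)
noncomputable def ot13 : ℕ := (nat_lit 0xbc975390ad40dec35209b29d314420)
noncomputable def ot14 : ℕ := (nat_lit 0xbaa0d4a2c49d1cc5c5e238cd52c820)
noncomputable def ot15 : ℕ := (nat_lit 0xbc48e789554b68c5da723947032020)
noncomputable def ot16 : ℕ := (nat_lit 0xbc84e990655b68c4c1f13d55641820)
noncomputable def ot17 : ℕ := (nat_lit 0xb90cd9d90a4d1cc7956338a128d420)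
noncomputable def ot18 : ℕ := (nat_lit 0xbbead144ab1d1cc221493ce50b1820)
noncomputable def ot19 : ℕ := (nat_lit 0xb8eae31644b368c8250a38a2b7cc20)
noncomputable def ot20 : ℕ := (nat_lit 0xbc0b47c6569b9ac48d663a2a251020)
noncomputable def ot21 : ℕ := (nat_lit 0xb89748be64939aca98a33a93045820)
noncomputable def ot22 : ℕ := (nat_lit 0xba0449bdb09262c1a9d631cb45d420)
noncomputable def ot23 : ℕ := (nat_lit 0xbaa959ca28795a93d990591c610c20)
noncomputable def ot24 : ℕ := (nat_lit 0xbbc509ad94b15b192923385c4454c0)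
noncomputable def ot25 : ℕ := (nat_lit 0xbd4ac20e705ba8d30a4a3bed14a020)
noncomputable def ot26 : ℕ := (nat_lit 0xb96cd8a490339947a0623aeb392820)
noncomputable def ot27 : ℕ := (nat_lit 0xbd0967c9b09aa2b63922394d51a020)
noncomputable def ot28 : ℕ := (nat_lit 0xbb5112ca9032eca731353be6219020)
noncomputable def ot29 : ℕ := (nat_lit 0xbd9c2612254d4d35a9e33b61245020)
noncomputable def ot30 : ℕ := (nat_lit 0xbb674ab064796d24292b31dd088820)
noncomputable def ot31 : ℕ := (nat_lit 0xbbdc79c850b546548568a19846c540)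
noncomputable def ot32 : ℕ := (nat_lit 0xb952362c449182a9d1d56c2c78bd00)
noncomputable def oT_0 : Tr ℕ := (.node (nat_lit 1) (.leaf ot0)
 (.node (nat_lit 2) (.leaf ot1)
 (.leaf ot2)))
noncomputable def oE_0 : Tr (List ℕ) := (.node (nat_lit 1) (.leaf [nat_lit 1, nat_lit 6, nat_lit 1, nat_lit 2, nat_lit 5, nat_lit 1, nat_lit 3, nat_lit 1, nat_lit 4, nat_lit 0])
 (.node (nat_lit 2) (.leaf [nat_lit 0, nat_lit 6, nat_lit 2, nat_lit 0, nat_lit 5, nat_lit 2, nat_lit 1, nat_lit 4, nat_lit 1, nat_lit 3, nat_lit 2, nat_lit 0])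
 (.leaf [nat_lit 2, nat_lit 1, nat_lit 6, nat_lit 5, nat_lit 0, nat_lit 5, nat_lit 1, nat_lit 2, nat_lit 4, nat_lit 0, nat_lit 3, nat_lit 0, nat_lit 2])))
noncomputable def oT : Tr ℕ := oT_0
noncomputable def oE : Tr (List ℕ) := oE_0
theorem ow_0 : oT_0.all2 (fun c w => isProd 24 (nat_lit 5) (nat_lit 31) T c w) oE_0 = true := by decide +kernel
theorem olets : Lets P 24 (nat_lit 5) (nat_lit 31) (Fin.ofNat 24) oT := lets_words lets oE ow_0
noncomputable def oT' : Tr ℕ := (.node (nat_lit 16) (.node (nat_lit 8) (.node (nat_lit 4) (.node (nat_lit 2) (.node (nat_lit 1) (.leaf ot0)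
 (.leaf ot1))
 (.node (nat_lit 3) (.leaf ot2)
 (.leaf ot3)))
 (.node (nat_lit 6) (.node (nat_lit 5) (.leaf ot4)
 (.leaf ot5))
 (.node (nat_lit 7) (.leaf ot6)
 (.leaf ot7))))
 (.node (nat_lit 12) (.node (nat_lit 10) (.node (nat_lit 9) (.leaf ot8)
 (.leaf ot9))
 (.node (nat_lit 11) (.leaf ot10)
 (.leaf ot11)))
 (.node (nat_lit 14) (.node (nat_lit 13) (.leaf ot12)
 (.leaf ot13))
 (.node (nat_lit 15) (.leaf ot14)
 (.leaf ot15)))))
 (.node (nat_lit 24) (.node (nat_lit 20) (.node (nat_lit 18) (.node (nat_lit 17) (.leaf ot16)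
 (.leaf ot17))
 (.node (nat_lit 19) (.leaf ot18)
 (.leaf ot19)))
 (.node (nat_lit 22) (.node (nat_lit 21) (.leaf ot20)
 (.leaf ot21))
 (.node (nat_lit 23) (.leaf ot22)
 (.leaf ot23))))
 (.node (nat_lit 28) (.node (nat_lit 26) (.node (nat_lit 25) (.leaf ot24)
 (.leaf ot25))
 (.node (nat_lit 27) (.leaf ot26)
 (.leaf ot27)))
 (.node (nat_lit 30) (.node (nat_lit 29) (.leaf ot28)
 (.leaf ot29))
 (.node (nat_lit 31) (.leaf ot30)
 (.leaf ot31))))))
noncomputable def oD : Tr (List ℕ) := (.node (nat_lit 16) (.node (nat_lit 8) (.node (nat_lit 4) (.node (nat_lit 2) (.node (nat_lit 1) (.leaf [])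
 (.leaf []))
 (.node (nat_lit 3) (.leaf [])
 (.leaf [nat_lit 0, nat_lit 0, nat_lit 0, nat_lit 0, nat_lit 0, nat_lit 0, nat_lit 0, nat_lit 0, nat_lit 0, nat_lit 0])))
 (.node (nat_lit 6) (.node (nat_lit 5) (.leaf [nat_lit 1, nat_lit 1, nat_lit 1, nat_lit 1])
 (.leaf [nat_lit 2, nat_lit 2, nat_lit 2]))
 (.node (nat_lit 7) (.leaf [nat_lit 1, nat_lit 3, nat_lit 5, nat_lit 1, nat_lit 2])
 (.leaf [nat_lit 5, nat_lit 4, nat_lit 2, nat_lit 0, nat_lit 4]))))
 (.node (nat_lit 12) (.node (nat_lit 10) (.node (nat_lit 9) (.leaf [nat_lit 0, nat_lit 1, nat_lit 3, nat_lit 2, nat_lit 4])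
 (.leaf [nat_lit 1, nat_lit 5, nat_lit 0, nat_lit 4, nat_lit 3]))
 (.node (nat_lit 11) (.leaf [nat_lit 7, nat_lit 9, nat_lit 6, nat_lit 9, nat_lit 6, nat_lit 9, nat_lit 7, nat_lit 8])
 (.leaf [nat_lit 9, nat_lit 6, nat_lit 8, nat_lit 7, nat_lit 8, nat_lit 7, nat_lit 8, nat_lit 6])))
 (.node (nat_lit 14) (.node (nat_lit 13) (.leaf [nat_lit 7, nat_lit 7, nat_lit 7, nat_lit 9, nat_lit 7, nat_lit 7, nat_lit 8])
 (.leaf [nat_lit 9, nat_lit 6, nat_lit 6, nat_lit 8, nat_lit 6, nat_lit 6, nat_lit 6]))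
 (.node (nat_lit 15) (.leaf [nat_lit 12, nat_lit 11, nat_lit 12, nat_lit 10, nat_lit 10, nat_lit 13])
 (.leaf [nat_lit 12, nat_lit 11, nat_lit 11, nat_lit 13, nat_lit 10, nat_lit 13])))))
 (.node (nat_lit 24) (.node (nat_lit 20) (.node (nat_lit 18) (.node (nat_lit 17) (.leaf [nat_lit 11, nat_lit 11, nat_lit 13, nat_lit 11, nat_lit 13, nat_lit 13, nat_lit 10, nat_lit 12, nat_lit 10, nat_lit 13])
 (.leaf [nat_lit 12, nat_lit 11, nat_lit 13, nat_lit 11, nat_lit 12, nat_lit 12, nat_lit 10, nat_lit 12, nat_lit 10, nat_lit 10]))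
 (.node (nat_lit 19) (.leaf [nat_lit 13, nat_lit 10, nat_lit 12])
 (.leaf [nat_lit 13, nat_lit 11, nat_lit 12])))
 (.node (nat_lit 22) (.node (nat_lit 21) (.leaf [nat_lit 16, nat_lit 14])
 (.leaf [nat_lit 19, nat_lit 15, nat_lit 19]))
 (.node (nat_lit 23) (.leaf [nat_lit 19, nat_lit 12, nat_lit 17, nat_lit 14, nat_lit 19])
 (.leaf [nat_lit 11, nat_lit 7, nat_lit 16, nat_lit 13, nat_lit 15, nat_lit 16, nat_lit 19]))))
 (.node (nat_lit 28) (.node (nat_lit 26) (.node (nat_lit 25) (.leaf [nat_lit 17, nat_lit 4, nat_lit 9, nat_lit 7, nat_lit 13, nat_lit 18, nat_lit 11, nat_lit 16, nat_lit 19])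
 (.leaf [nat_lit 19, nat_lit 6, nat_lit 13, nat_lit 10]))
 (.node (nat_lit 27) (.leaf [nat_lit 25, nat_lit 25])
 (.leaf [nat_lit 13, nat_lit 7, nat_lit 12, nat_lit 18, nat_lit 17, nat_lit 15])))
 (.node (nat_lit 30) (.node (nat_lit 29) (.leaf [nat_lit 9, nat_lit 7, nat_lit 12, nat_lit 10, nat_lit 18, nat_lit 17, nat_lit 18])
 (.leaf [nat_lit 13, nat_lit 15, nat_lit 7, nat_lit 17, nat_lit 13, nat_lit 16, nat_lit 19, nat_lit 15, nat_lit 18]))
 (.node (nat_lit 31) (.leaf [nat_lit 10, nat_lit 7, nat_lit 13, nat_lit 11, nat_lit 14, nat_lit 17])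
 (.leaf [nat_lit 14, nat_lit 3, nat_lit 19, nat_lit 6, nat_lit 14, nat_lit 12, nat_lit 16, nat_lit 15, nat_lit 19]))))))
noncomputable def oTa : Tr ℕ := (.node (nat_lit 3) (.node (nat_lit 1) (.leaf ot19)
 (.node (nat_lit 2) (.leaf ot18)
 (.leaf ot20)))
 (.node (nat_lit 5) (.node (nat_lit 4) (.leaf ot21)
 (.leaf ot22))
 (.node (nat_lit 6) (.leaf ot23)
 (.leaf ot24))))
noncomputable def oTn : Tr ℕ := (.node (nat_lit 3) (.node (nat_lit 1) (.leaf ot25)
 (.node (nat_lit 2) (.leaf ot26)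
 (.leaf ot27)))
 (.node (nat_lit 5) (.node (nat_lit 4) (.leaf ot28)
 (.leaf ot29))
 (.node (nat_lit 6) (.leaf ot30)
 (.leaf ot31))))
noncomputable def oA0 : Lev := ⟨(nat_lit 1), (nat_lit 7), (nat_lit 0x405050104040603050507060401030507010606020000), (nat_lit 0x303030204030303040404030203020201040203020000),
 (.leaf 0),
 (.leaf 0)⟩
noncomputable def oA1 : Lev := ⟨(nat_lit 12), (nat_lit 6), (nat_lit 0x604010101020602050200030106020604040103060000), (nat_lit 0x303030403030304020300020201020303020303040000),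
 (.leaf 0),
 (.leaf 0)⟩
noncomputable def oA2 : Lev := ⟨(nat_lit 7), (nat_lit 5), (nat_lit 0x405050104040103050500020401030005010304020000), (nat_lit 0x303040204030403040400040203020001040303020000),
 (.leaf 0),
 (.leaf 0)⟩
noncomputable def oA3 : Lev := ⟨(nat_lit 21), (nat_lit 4), (nat_lit 0x300000401020204000000040104020002030101030000), (nat_lit 0x300000302020203000000010302030004010204030000),
 (.leaf 0),
 (.leaf 0)⟩
noncomputable def oA4 : Lev := ⟨(nat_lit 14), (nat_lit 2), (nat_lit 0x10000000000000200000000000000000000000000), (nat_lit 0x10000000000000100000000000000000000000000),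
 (.leaf 0),
 (.leaf 0)⟩
noncomputable def oA : List Lev := [oA0, oA1, oA2, oA3, oA4]
noncomputable def oN0 : Lev := ⟨(nat_lit 1), (nat_lit 7), (nat_lit 0x104050506070601030204060702010702060405020000), (nat_lit 0x403030303030404020302030104020404030303020000),
 (.leaf 0),
 (.leaf 0)⟩
noncomputable def oN1 : Lev := ⟨(nat_lit 7), (nat_lit 6), (nat_lit 0x201020306030502040503010405060006030205010000), (nat_lit 0x303030304030302030203020403030001020404040000),
 (.leaf 0),
 (.leaf 0)⟩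
noncomputable def oN2 : Lev := ⟨(nat_lit 16), (nat_lit 5), (nat_lit 0x201030405010002050405010205040003050305040000), (nat_lit 0x202030204030003030303030404030002010304040000),
 (.leaf 0),
 (.leaf 0)⟩
noncomputable def oN3 : Lev := ⟨(nat_lit 14), (nat_lit 4), (nat_lit 0x104010300020001000204040300010002030400020000), (nat_lit 0x403030300040002000302010100020002030300020000),
 (.leaf 0),
 (.leaf 0)⟩
noncomputable def oN4 : Lev := ⟨(nat_lit 21), (nat_lit 2), (nat_lit 0x100000000000000000000000000000000020000000000), (nat_lit 0x100000000000000000000000000000000010000000000),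
 (.leaf 0),
 (.leaf 0)⟩
noncomputable def oN : List Lev := [oN0, oN1, oN2, oN3, oN4]
noncomputable def oO : OutD := ⟨(nat_lit 5), (nat_lit 31), B, ot0, ot1, ot2, ot4, (nat_lit 11), (nat_lit 3), (nat_lit 2), (nat_lit 2), [nat_lit 1, nat_lit 2], [([nat_lit 0, nat_lit 1, nat_lit 2], (nat_lit 5))], true⟩
theorem oslp : slpChk 24 (nat_lit 5) (nat_lit 31) oT' oD 3 29 = true := by decide +kernel
theorem osA_0 : srchR 24 (nat_lit 5) (nat_lit 31) oTa oO.ta oO.leafA oA (0 * 24) 24  = true := by decide +kernel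
theorem osN_0 : srchR 24 (nat_lit 5) (nat_lit 31) oTn oO.tn oO.leafN oN (0 * 24) 24  = true := by decide +kernel
theorem ochk : OutChk 24 oO oT' oTa oTn oD 29 oA oN 443520 24 24 :=
  ⟨by decide +kernel, by decide +kernel, oslp, by decide +kernel, by decide +kernel,
  (fun i hi => by
    have : i < 1 := by omega
    interval_cases i
    exacts [osA_0]),
  (fun i hi => by
    have : i < 1 := by omega
    interval_cases i
    exacts [osN_0])⟩
theorem out : Nat.card (Cfsg.Out P) = 2 := out_two ochk base card (show Nat.Prime 11 by norm_num) (by decide +kernel) olets (by decide +kernel) rfl ot32 (by decide +kernel)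

end H8.M22
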