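import Cfsg.Agent.H8.GM23

/-! H8.OM23: `out`, the order of the outer automorphism group of `P` (generated certificate) -/

set_option autoImplicit false
set_option maxRecDepth 200000

namespace H8.M23

noncomputable def ot0 : ℕ := (nat_lit 0xb84f17827622189942ada146a5984e)
noncomputable def ot1 : ℕ := (nat_lit 0xb8568a9d90a3ec2490aa049d368cd1)
noncomputable def ot2 : ℕ := (nat_lit 0xbc52499cd0a16407b94b606a8b086d)
noncomputable def ot3 : ℕ := (nat_lit 0xb966483546b24f440a357c80172c6c)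
noncomputable def ot4 : ℕ := (nat_lit 0xbc1278ae8a9810d1918ea88cf286d2)
noncomputable def ot5 : ℕ := (nat_lit 0xbb66f2181071471aa1749052a132c7)
noncomputable def ot6 : ℕ := (nat_lit 0xb8caf9b6d05a807426a4945d4088cc)
noncomputable def ot7 : ℕ := (nat_lit 0xbc0829526fad9270aa2e28cc85b580)
noncomputable def ot8 : ℕ := (nat_lit 0xbb9f28cd36820411a9a4614f535160)
noncomputable def ot9 : ℕ := (nat_lit 0xb854e7b45059076acca8332898c8e0)
noncomputable def ot10 : ℕ := (nat_lit 0xbb165508709d2467d48809d2e6c6c0)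
noncomputable def ot11 : ℕ := (nat_lit 0xb9573b19158b84c385aa22470a49e0)
noncomputable def ot12 : ℕ := (nat_lit 0xbce03a09e40b92caa0d15cac72b540)
noncomputable def ot13 : ℕ := (nat_lit 0xb95b614289638c4554313ad1393c60)
noncomputable def ot14 : ℕ := (nat_lit 0xbd15120d1213aaf32e053b6cc0cd20)
noncomputable def ot15 : ℕ := (nat_lit 0xb9e2f80cd6a3984a85489ada592440)
noncomputable def ot16 : ℕ := (nat_lit 0xbc16f38eb3a38ad32448b448c90540)
noncomputable def ot17 : ℕ := (nat_lit 0xbae5368606b384f3d62860e8a49480)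
noncomputable def ot18 : ℕ := (nat_lit 0xbbd45a553163a67b10685c04133640)
noncomputable def ot19 : ℕ := (nat_lit 0xb9ea9858830b9a68d1489158b9bc40)
noncomputable def ot20 : ℕ := (nat_lit 0xbcaaa19d73139a522688b30d1805e0)
noncomputable def ot21 : ℕ := (nat_lit 0xb84cf48e22a39a559e6855584942c0)
noncomputable def ot22 : ℕ := (nat_lit 0xb9876a85704b9af209885525199ca0)
noncomputable def ot23 : ℕ := (nat_lit 0xbd26619490639a989de81582baaa40)
noncomputable def ot24 : ℕ := (nat_lit 0xb88a154c8f4b9ac8ca08a54cbb0ce0)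
noncomputable def ot25 : ℕ := (nat_lit 0xb8cc792969839ac24de8096b115a80)
noncomputable def ot26 : ℕ := (nat_lit 0xba5830be27939b558ac8814c4a2a60)
noncomputable def ot27 : ℕ := (nat_lit 0xbd6c229e2f839a958d8890664550c0)
noncomputable def ot28 : ℕ := (nat_lit 0xbd9aa99cc313aa42d1289456c83c20)
noncomputable def ot29 : ℕ := (nat_lit 0xbd90959c647b9a69aa95930b088440)
noncomputable def ot30 : ℕ := (nat_lit 0xbd9cb9c90d35607a28b163d2118880)
noncomputable def ot31 : ℕ := (nat_lit 0xbc2545d4b64b9a79a9e66222418801)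
noncomputable def ot32 : ℕ := (nat_lit 0xbad463be34496ac2365344036189c0)
noncomputable def ot33 : ℕ := (nat_lit 0xb91b0426269054cb55e79d1cb188a0)
noncomputable def ot34 : ℕ := (nat_lit 0xba2a481e3330dac4a97693c34708a0)
noncomputable def ot35 : ℕ := (nat_lit 0xbd2b60be2592dac7286431e0848a60)
noncomputable def ot36 : ℕ := (nat_lit 0xbc88f13a302d82c59a6aaa2876a460)
noncomputable def ot37 : ℕ := (nat_lit 0xbb8e54da30a486c5a046229f50cda0)
noncomputable def ot38 : ℕ := (nat_lit 0xbd6d49be299382712a036188542da0)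
noncomputable def ot39 : ℕ := (nat_lit 0xbc6a320acf819a859d2c538b3a4820)
noncomputable def ot40 : ℕ := (nat_lit 0xb81b09c8d4786a520d283c58b509d6)
noncomputable def oT_0 : Tr ℕ := (.node (nat_lit 1) (.leaf ot0)
 (.node (nat_lit 2) (.leaf ot1)
 (.leaf ot2)))
noncomputable def oE_0 : Tr (List ℕ) := (.node (nat_lit 1) (.leaf [nat_lit 7, nat_lit 0, nat_lit 7, nat_lit 4, nat_lit 5, nat_lit 2, nat_lit 6, nat_lit 4, nat_lit 3, nat_lit 1, nat_lit 5, nat_lit 4, nat_lit 3, nat_lit 1, nat_lit 4, nat_lit 1, nat_lit 3, nat_lit 1, nat_lit 2, nat_lit 1])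
 (.node (nat_lit 2) (.leaf [nat_lit 5, nat_lit 3, nat_lit 7, nat_lit 4, nat_lit 3, nat_lit 6, nat_lit 2, nat_lit 5, nat_lit 1, nat_lit 4, nat_lit 3, nat_lit 4, nat_lit 3, nat_lit 2, nat_lit 0])
 (.leaf [nat_lit 4, nat_lit 7, nat_lit 0, nat_lit 2, nat_lit 6, nat_lit 3, nat_lit 5, nat_lit 2, nat_lit 1, nat_lit 4, nat_lit 1, nat_lit 3, nat_lit 1])))
noncomputable def oT : Tr ℕ := oT_0
noncomputable def oE : Tr (List ℕ) := oE_0
theorem ow_0 : oT_0.all2 (fun c w => isProd 24 (nat_lit 5) (nat_lit 31) T c w) oE_0 = true := by decide +kernel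
theorem olets : Lets P 24 (nat_lit 5) (nat_lit 31) (Fin.ofNat 24) oT := lets_words lets oE ow_0
noncomputable def oT' : Tr ℕ := (.node (nat_lit 20) (.node (nat_lit 10) (.node (nat_lit 5) (.node (nat_lit 2) (.node (nat_lit 1) (.leaf ot0)
 (.leaf ot1))
 (.node (nat_lit 3) (.leaf ot2)
 (.node (nat_lit 4) (.leaf ot3)
 (.leaf ot4))))
 (.node (nat_lit 7) (.node (nat_lit 6) (.leaf ot5)
 (.leaf ot6))
 (.node (nat_lit 8) (.leaf ot7)
 (.node (nat_lit 9) (.leaf ot8)
 (.leaf ot9)))))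
 (.node (nat_lit 15) (.node (nat_lit 12) (.node (nat_lit 11) (.leaf ot10)
 (.leaf ot11))
 (.node (nat_lit 13) (.leaf ot12)
 (.node (nat_lit 14) (.leaf ot13)
 (.leaf ot14))))
 (.node (nat_lit 17) (.node (nat_lit 16) (.leaf ot15)
 (.leaf ot16))
 (.node (nat_lit 18) (.leaf ot17)
 (.node (nat_lit 19) (.leaf ot18)
 (.leaf ot19))))))
 (.node (nat_lit 30) (.node (nat_lit 25) (.node (nat_lit 22) (.node (nat_lit 21) (.leaf ot20)
 (.leaf ot21))
 (.node (nat_lit 23) (.leaf ot22)
 (.node (nat_lit 24) (.leaf ot23)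
 (.leaf ot24))))
 (.node (nat_lit 27) (.node (nat_lit 26) (.leaf ot25)
 (.leaf ot26))
 (.node (nat_lit 28) (.leaf ot27)
 (.node (nat_lit 29) (.leaf ot28)
 (.leaf ot29)))))
 (.node (nat_lit 35) (.node (nat_lit 32) (.node (nat_lit 31) (.leaf ot30)
 (.leaf ot31))
 (.node (nat_lit 33) (.leaf ot32)
 (.node (nat_lit 34) (.leaf ot33)
 (.leaf ot34))))
 (.node (nat_lit 38) (.node (nat_lit 36) (.leaf ot35)
 (.node (nat_lit 37) (.leaf ot36)
 (.leaf ot37)))
 (.node (nat_lit 39) (.leaf ot38)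
 (.node (nat_lit 40) (.leaf ot39)
 (.leaf ot40)))))))
noncomputable def oD : Tr (List ℕ) := (.node (nat_lit 20) (.node (nat_lit 10) (.node (nat_lit 5) (.node (nat_lit 2) (.node (nat_lit 1) (.leaf [])
 (.leaf []))
 (.node (nat_lit 3) (.leaf [])
 (.node (nat_lit 4) (.leaf [nat_lit 0, nat_lit 0, nat_lit 0, nat_lit 0])
 (.leaf [nat_lit 3, nat_lit 3, nat_lit 3, nat_lit 3, nat_lit 3, nat_lit 0, nat_lit 0]))))
 (.node (nat_lit 7) (.node (nat_lit 6) (.leaf [nat_lit 1, nat_lit 1, nat_lit 1, nat_lit 1, nat_lit 1, nat_lit 1, nat_lit 1, nat_lit 1, nat_lit 1, nat_lit 1])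
 (.leaf [nat_lit 2, nat_lit 2, nat_lit 2, nat_lit 2]))
 (.node (nat_lit 8) (.leaf [nat_lit 1, nat_lit 2, nat_lit 4])
 (.node (nat_lit 9) (.leaf [nat_lit 0, nat_lit 6, nat_lit 5])
 (.leaf [nat_lit 5, nat_lit 5, nat_lit 2, nat_lit 5])))))
 (.node (nat_lit 15) (.node (nat_lit 12) (.node (nat_lit 11) (.leaf [nat_lit 1, nat_lit 6, nat_lit 1, nat_lit 1])
 (.leaf [nat_lit 8, nat_lit 9, nat_lit 8, nat_lit 8, nat_lit 10, nat_lit 10]))
 (.node (nat_lit 13) (.leaf [nat_lit 9, nat_lit 9, nat_lit 7, nat_lit 7, nat_lit 10, nat_lit 7])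
 (.node (nat_lit 14) (.leaf [nat_lit 9, nat_lit 8, nat_lit 9, nat_lit 8, nat_lit 8, nat_lit 8, nat_lit 10])
 (.leaf [nat_lit 9, nat_lit 7, nat_lit 7, nat_lit 7, nat_lit 10, nat_lit 7, nat_lit 10]))))
 (.node (nat_lit 17) (.node (nat_lit 16) (.leaf [nat_lit 13, nat_lit 12, nat_lit 14, nat_lit 11, nat_lit 14, nat_lit 12, nat_lit 13])
 (.leaf [nat_lit 14, nat_lit 11, nat_lit 13, nat_lit 12, nat_lit 13, nat_lit 11, nat_lit 14]))
 (.node (nat_lit 18) (.leaf [nat_lit 12, nat_lit 12, nat_lit 14, nat_lit 11, nat_lit 14])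
 (.node (nat_lit 19) (.leaf [nat_lit 13, nat_lit 12, nat_lit 13, nat_lit 11, nat_lit 11])
 (.leaf [nat_lit 16, nat_lit 17, nat_lit 16, nat_lit 18]))))))
 (.node (nat_lit 30) (.node (nat_lit 25) (.node (nat_lit 22) (.node (nat_lit 21) (.leaf [nat_lit 17, nat_lit 15, nat_lit 18, nat_lit 15])
 (.leaf [nat_lit 18, nat_lit 16, nat_lit 16, nat_lit 17, nat_lit 15, nat_lit 15]))
 (.node (nat_lit 23) (.leaf [nat_lit 16, nat_lit 18, nat_lit 18, nat_lit 16, nat_lit 18, nat_lit 15, nat_lit 18, nat_lit 18, nat_lit 16])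
 (.node (nat_lit 24) (.leaf [nat_lit 15, nat_lit 17, nat_lit 17, nat_lit 16, nat_lit 17, nat_lit 15, nat_lit 17, nat_lit 17, nat_lit 15])
 (.leaf [nat_lit 19, nat_lit 21]))))
 (.node (nat_lit 27) (.node (nat_lit 26) (.leaf [nat_lit 21, nat_lit 20])
 (.leaf [nat_lit 25, nat_lit 20, nat_lit 25]))
 (.node (nat_lit 28) (.leaf [nat_lit 23, nat_lit 25])
 (.node (nat_lit 29) (.leaf [nat_lit 25, nat_lit 16, nat_lit 25, nat_lit 20, nat_lit 25])
 (.leaf [nat_lit 16, nat_lit 12, nat_lit 15, nat_lit 23, nat_lit 19, nat_lit 24])))))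
 (.node (nat_lit 35) (.node (nat_lit 32) (.node (nat_lit 31) (.leaf [nat_lit 8, nat_lit 9, nat_lit 11, nat_lit 17, nat_lit 16, nat_lit 23, nat_lit 19])
 (.leaf [nat_lit 22, nat_lit 4, nat_lit 8, nat_lit 19, nat_lit 14, nat_lit 16, nat_lit 19, nat_lit 23]))
 (.node (nat_lit 33) (.leaf [nat_lit 14, nat_lit 8, nat_lit 15, nat_lit 14, nat_lit 22, nat_lit 15, nat_lit 25])
 (.node (nat_lit 34) (.leaf [nat_lit 32, nat_lit 32])
 (.leaf [nat_lit 25, nat_lit 7, nat_lit 13, nat_lit 12, nat_lit 25, nat_lit 17, nat_lit 21, nat_lit 23, nat_lit 24]))))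
 (.node (nat_lit 38) (.node (nat_lit 36) (.leaf [nat_lit 17, nat_lit 7, nat_lit 25, nat_lit 12, nat_lit 19, nat_lit 18, nat_lit 22, nat_lit 19, nat_lit 24])
 (.node (nat_lit 37) (.leaf [nat_lit 7, nat_lit 11, nat_lit 25, nat_lit 16, nat_lit 22, nat_lit 25, nat_lit 20])
 (.leaf [nat_lit 36, nat_lit 36])))
 (.node (nat_lit 39) (.leaf [nat_lit 11, nat_lit 14, nat_lit 25, nat_lit 16, nat_lit 22, nat_lit 25, nat_lit 20, nat_lit 24])
 (.node (nat_lit 40) (.leaf [nat_lit 22, nat_lit 7, nat_lit 15, nat_lit 14, nat_lit 20, nat_lit 18, nat_lit 24, nat_lit 23, nat_lit 20, nat_lit 24])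
 (.leaf [nat_lit 19, nat_lit 4, nat_lit 9, nat_lit 24, nat_lit 11, nat_lit 20, nat_lit 18, nat_lit 20, nat_lit 25])))))))
noncomputable def oTa : Tr ℕ := (.node (nat_lit 4) (.node (nat_lit 2) (.node (nat_lit 1) (.leaf ot24)
 (.leaf ot25))
 (.node (nat_lit 3) (.leaf ot26)
 (.leaf ot27)))
 (.node (nat_lit 6) (.node (nat_lit 5) (.leaf ot28)
 (.leaf ot29))
 (.node (nat_lit 7) (.leaf ot30)
 (.leaf ot31))))
noncomputable def oTn : Tr ℕ := (.node (nat_lit 4) (.node (nat_lit 2) (.node (nat_lit 1) (.leaf ot32)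
 (.leaf ot33))
 (.node (nat_lit 3) (.leaf ot34)
 (.leaf ot35)))
 (.node (nat_lit 6) (.node (nat_lit 5) (.leaf ot36)
 (.leaf ot37))
 (.node (nat_lit 7) (.leaf ot38)
 (.node (nat_lit 8) (.leaf ot39)
 (.leaf ot40)))))
noncomputable def oA0 : Lev := ⟨(nat_lit 0), (nat_lit 8), (nat_lit 0x102010304050307070707070506080204040703060800), (nat_lit 0x303020203030303040403030303030202030203020100),
 (.leaf 0),
 (.leaf 0)⟩
noncomputable def oA1 : Lev := ⟨(nat_lit 14), (nat_lit 7), (nat_lit 0x407010403050707000503050207060701020501020400), (nat_lit 0x201040304030303000202030403020302020303030300),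
 (.leaf 0),
 (.leaf 0)⟩
noncomputable def oA2 : Lev := ⟨(nat_lit 8), (nat_lit 6), (nat_lit 0x406010401050201000503050204000201020501020400), (nat_lit 0x201040304030404000202030403000402020303030300),
 (.leaf 0),
 (.leaf 0)⟩
noncomputable def oA3 : Lev := ⟨(nat_lit 13), (nat_lit 5), (nat_lit 0x405010401050201000003050204000201020501020400), (nat_lit 0x201040304030404000002030403000402020303030300),
 (.leaf 0),
 (.leaf 0)⟩
noncomputable def oA4 : Lev := ⟨(nat_lit 12), (nat_lit 4), (nat_lit 0x403010403000201000000000204000301020001020400), (nat_lit 0x201040303000202000000000401000302020003030300),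
 (.leaf 0),
 (.leaf 0)⟩
noncomputable def oA5 : Lev := ⟨(nat_lit 9), (nat_lit 2), (nat_lit 0x201000000000000000000000000000000), (nat_lit 0x101000000000000000000000000000000),
 (.leaf 0),
 (.leaf 0)⟩
noncomputable def oA : List Lev := [oA0, oA1, oA2, oA3, oA4, oA5]
noncomputable def oN0 : Lev := ⟨(nat_lit 0), (nat_lit 9), (nat_lit 0x907040806080106050108020603030605070107070100), (nat_lit 0x102020302020303020303020303020303030203030300),
 (.leaf 0),
 (.leaf 0)⟩
noncomputable def oN1 : Lev := ⟨(nat_lit 17), (nat_lit 8), (nat_lit 0x807040806000106050108020603030605070107070100), (nat_lit 0x102020302000303020303020303020303030203030300),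
 (.leaf 0),
 (.leaf 0)⟩
noncomputable def oN2 : Lev := ⟨(nat_lit 12), (nat_lit 7), (nat_lit 0x306010103000302060100010605020704070507060400), (nat_lit 0x302030202000303030300030303020102030203030300),
 (.leaf 0),
 (.leaf 0)⟩
noncomputable def oN3 : Lev := ⟨(nat_lit 2), (nat_lit 6), (nat_lit 0x306020502000301020500030606010205040404000400), (nat_lit 0x303030102000202030300020301020203030302000200),
 (.leaf 0),
 (.leaf 0)⟩
noncomputable def oN4 : Lev := ⟨(nat_lit 3), (nat_lit 4), (nat_lit 0x100020402000401030000040004010303020200000100), (nat_lit 0x300040302000302010000020001040303020300000200),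
 (.leaf 0),
 (.leaf 0)⟩
noncomputable def oN5 : Lev := ⟨(nat_lit 13), (nat_lit 2), (nat_lit 0x2000000000000000000000100000000000000000000), (nat_lit 0x1000000000000000000000100000000000000000000),
 (.leaf 0),
 (.leaf 0)⟩
noncomputable def oN : List Lev := [oN0, oN1, oN2, oN3, oN4, oN5]
noncomputable def oO : OutD := ⟨(nat_lit 5), (nat_lit 31), B, ot0, ot1, ot2, ot0, (nat_lit 23), (nat_lit 2), (nat_lit 3), (nat_lit 0), [nat_lit 1, nat_lit 5], [([nat_lit 0, nat_lit 1, nat_lit 1, nat_lit 1, nat_lit 1, nat_lit 2], (nat_lit 5))], false⟩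
theorem oslp : slpChk 24 (nat_lit 5) (nat_lit 31) oT' oD 3 38 = true := by decide +kernel
theorem osA_0 : srchR 24 (nat_lit 5) (nat_lit 31) oTa oO.ta oO.leafA oA (0 * 24) 24  = true := by decide +kernel
theorem osN_0 : srchR 24 (nat_lit 5) (nat_lit 31) oTn oO.tn oO.leafN oN (0 * 24) 24  = true := by decide +kernel
theorem ochk : OutChk 24 oO oT' oTa oTn oD 38 oA oN 10200960 24 24 :=
  ⟨by decide +kernel, by decide +kernel, oslp, by decide +kernel, by decide +kernel,
  (fun i hi => by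
    have : i < 1 := by omega
    interval_cases i
    exacts [osA_0]),
  (fun i hi => by
    have : i < 1 := by omega
    interval_cases i
    exacts [osN_0])⟩
theorem out : Nat.card (Cfsg.Out P) = 1 := out_one ochk base (ofNat_inj 24) card (show Nat.Prime 23 by norm_num) (by decide +kernel) olets (by decide +kernel) rfl

end H8.M23
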