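import Cfsg.Agent.H8.GM24

/-! H8.OM24: `out`, the order of the outer automorphism group of `P` (generated certificate) -/

set_option autoImplicit false
set_option maxRecDepth 200000

namespace H8.M24

noncomputable def ot0 : ℕ := (nat_lit 0xbba8b955028b581498f051460b4c8f)
noncomputable def ot1 : ℕ := (nat_lit 0xb99a12da4910dcc04e348556f3a888)
noncomputable def ot2 : ℕ := (nat_lit 0x628104bc2ba929731d039965613a2d)
noncomputable def ot3 : ℕ := (nat_lit 0xb84ea5a6751100f358b21b9a865230)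
noncomputable def ot4 : ℕ := (nat_lit 0xb8e5514de8059cda1d714a8c12c184)
noncomputable def ot5 : ℕ := (nat_lit 0xbc8c854527236ac28a001da6173e8b)
noncomputable def ot6 : ℕ := (nat_lit 0x611ed394349081785a6952cce40e35)
noncomputable def ot7 : ℕ := (nat_lit 0xabdc189ae45d06d2c2ca1212764e40)
noncomputable def ot8 : ℕ := (nat_lit 0x8a6ee1066ab55837a0a62497069e80)
noncomputable def ot9 : ℕ := (nat_lit 0xba46e39a158a8b66209378a41a2da0)
noncomputable def ot10 : ℕ := (nat_lit 0xbb203415f13d02b13aca9c9a9a9880)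
noncomputable def ot11 : ℕ := (nat_lit 0x9149716a37c286430f168a57b2e60)
noncomputable def ot12 : ℕ := (nat_lit 0x20e2d0950e7ccea1568b4b25681ae0)
noncomputable def ot13 : ℕ := (nat_lit 0x389c44b2707b572add1132874b1420)
noncomputable def ot14 : ℕ := (nat_lit 0x50d648b1107d5d269a69b9c542d820)
noncomputable def ot15 : ℕ := (nat_lit 0x44aed506247d983acccb140a9a1dc0)
noncomputable def ot16 : ℕ := (nat_lit 0xab96355a267868d44c97124b061e40)
noncomputable def ot17 : ℕ := (nat_lit 0xb1eb7826337c82643944a30435b4a0)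
noncomputable def ot18 : ℕ := (nat_lit 0xa5ea783a337a8461a64bb3028215a0)
noncomputable def ot19 : ℕ := (nat_lit 0xa4ca780a367b1a132968ba472a91c0)
noncomputable def ot20 : ℕ := (nat_lit 0x3c077b1233785ae4a8c8a2ea22c980)
noncomputable def ot21 : ℕ := (nat_lit 0x24d905d6257d837198e86d15272440)
noncomputable def ot22 : ℕ := (nat_lit 0x63a46b123478cf5994484aa17585a0)
noncomputable def ot23 : ℕ := (nat_lit 0xa26f519e307b0ca938a8592cd14c20)
noncomputable def ot24 : ℕ := (nat_lit 0xa969712e307a88e3b2c89352698c20)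
noncomputable def ot25 : ℕ := (nat_lit 0x60444a2e3078eed3d52893ad3328a0)
noncomputable def ot26 : ℕ := (nat_lit 0x6955321e30799979092858c34756c0)
noncomputable def ot27 : ℕ := (nat_lit 0x35d2e09e307b685955485d88c98860)
noncomputable def ot28 : ℕ := (nat_lit 0xb194d1ae307d1c43a6a895d8508a60)
noncomputable def ot29 : ℕ := (nat_lit 0x118a44ca307a8615ba683dab46dd80)
noncomputable def ot30 : ℕ := (nat_lit 0xab6e154a307a6c45cdc838c4c31680)
noncomputable def ot31 : ℕ := (nat_lit 0x9a566bb6257ba4caaac81d20239020)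
noncomputable def ot32 : ℕ := (nat_lit 0x322ad38e2e7c289595969dd4490820)
noncomputable def ot33 : ℕ := (nat_lit 0xa56d768d847ba715852831cb090940)
noncomputable def ot34 : ℕ := (nat_lit 0x43ab0996345d8c77a9376364219020)
noncomputable def ot35 : ℕ := (nat_lit 0x3cd6fb0620a39a4aa868b98ac48a50)
noncomputable def ot36 : ℕ := (nat_lit 0x2ac748c12c79ad26d668b88e453820)
noncomputable def ot37 : ℕ := (nat_lit 0x3b5544b27278970b0e282bae4a9820)
noncomputable def ot38 : ℕ := (nat_lit 0x8be1451ef5b39696cd889186428820)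
noncomputable def ot39 : ℕ := (nat_lit 0x2c9946d8693ba7552e0879ae488820)
noncomputable def ot40 : ℕ := (nat_lit 0xb8ab46263032c93716481bd4d3d820)
noncomputable def ot41 : ℕ := (nat_lit 0xb5d34384507b5c41aaa8998ac5c640)
noncomputable def ot42 : ℕ := (nat_lit 0x95aa335d907b8f1485686cc44a1540)
noncomputable def ot43 : ℕ := (nat_lit 0x186a29ae307b5cc910a74192abd2c0)
noncomputable def ot44 : ℕ := (nat_lit 0xbd6cd9a62c38e9032a487ac0470825)
noncomputable def oT_0 : Tr ℕ := (.node (nat_lit 1) (.leaf ot0)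
 (.node (nat_lit 2) (.leaf ot1)
 (.leaf ot2)))
noncomputable def oE_0 : Tr (List ℕ) := (.node (nat_lit 1) (.leaf [nat_lit 3, nat_lit 8, nat_lit 1, nat_lit 7, nat_lit 0, nat_lit 6, nat_lit 3, nat_lit 5, nat_lit 0, nat_lit 4, nat_lit 3, nat_lit 1, nat_lit 4, nat_lit 3, nat_lit 0, nat_lit 2])
 (.node (nat_lit 2) (.leaf [nat_lit 1, nat_lit 8, nat_lit 1, nat_lit 7, nat_lit 6, nat_lit 1, nat_lit 6, nat_lit 1, nat_lit 3, nat_lit 5, nat_lit 3, nat_lit 4, nat_lit 3, nat_lit 2, nat_lit 1])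
 (.leaf [nat_lit 0, nat_lit 8, nat_lit 2, nat_lit 7, nat_lit 4, nat_lit 1, nat_lit 6, nat_lit 4, nat_lit 1, nat_lit 3, nat_lit 5, nat_lit 3, nat_lit 2, nat_lit 4, nat_lit 2, nat_lit 0, nat_lit 3])))
noncomputable def oT : Tr ℕ := oT_0
noncomputable def oE : Tr (List ℕ) := oE_0
theorem ow_0 : oT_0.all2 (fun c w => isProd 24 (nat_lit 5) (nat_lit 31) T c w) oE_0 = true := by decide +kernel
theorem olets : Lets P 24 (nat_lit 5) (nat_lit 31) (Fin.ofNat 24) oT := lets_words lets oE ow_0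
noncomputable def oT' : Tr ℕ := (.node (nat_lit 22) (.node (nat_lit 11) (.node (nat_lit 5) (.node (nat_lit 2) (.node (nat_lit 1) (.leaf ot0)
 (.leaf ot1))
 (.node (nat_lit 3) (.leaf ot2)
 (.node (nat_lit 4) (.leaf ot3)
 (.leaf ot4))))
 (.node (nat_lit 8) (.node (nat_lit 6) (.leaf ot5)
 (.node (nat_lit 7) (.leaf ot6)
 (.leaf ot7)))
 (.node (nat_lit 9) (.leaf ot8)
 (.node (nat_lit 10) (.leaf ot9)
 (.leaf ot10)))))
 (.node (nat_lit 16) (.node (nat_lit 13) (.node (nat_lit 12) (.leaf ot11)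
 (.leaf ot12))
 (.node (nat_lit 14) (.leaf ot13)
 (.node (nat_lit 15) (.leaf ot14)
 (.leaf ot15))))
 (.node (nat_lit 19) (.node (nat_lit 17) (.leaf ot16)
 (.node (nat_lit 18) (.leaf ot17)
 (.leaf ot18)))
 (.node (nat_lit 20) (.leaf ot19)
 (.node (nat_lit 21) (.leaf ot20)
 (.leaf ot21))))))
 (.node (nat_lit 33) (.node (nat_lit 27) (.node (nat_lit 24) (.node (nat_lit 23) (.leaf ot22)
 (.leaf ot23))
 (.node (nat_lit 25) (.leaf ot24)
 (.node (nat_lit 26) (.leaf ot25)
 (.leaf ot26))))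
 (.node (nat_lit 30) (.node (nat_lit 28) (.leaf ot27)
 (.node (nat_lit 29) (.leaf ot28)
 (.leaf ot29)))
 (.node (nat_lit 31) (.leaf ot30)
 (.node (nat_lit 32) (.leaf ot31)
 (.leaf ot32)))))
 (.node (nat_lit 39) (.node (nat_lit 36) (.node (nat_lit 34) (.leaf ot33)
 (.node (nat_lit 35) (.leaf ot34)
 (.leaf ot35)))
 (.node (nat_lit 37) (.leaf ot36)
 (.node (nat_lit 38) (.leaf ot37)
 (.leaf ot38))))
 (.node (nat_lit 42) (.node (nat_lit 40) (.leaf ot39)
 (.node (nat_lit 41) (.leaf ot40)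
 (.leaf ot41)))
 (.node (nat_lit 43) (.leaf ot42)
 (.node (nat_lit 44) (.leaf ot43)
 (.leaf ot44)))))))
noncomputable def oD : Tr (List ℕ) := (.node (nat_lit 22) (.node (nat_lit 11) (.node (nat_lit 5) (.node (nat_lit 2) (.node (nat_lit 1) (.leaf [])
 (.leaf []))
 (.node (nat_lit 3) (.leaf [])
 (.node (nat_lit 4) (.leaf [nat_lit 0, nat_lit 0, nat_lit 0, nat_lit 0])
 (.leaf [nat_lit 3, nat_lit 3, nat_lit 3, nat_lit 3, nat_lit 3, nat_lit 0, nat_lit 0]))))
 (.node (nat_lit 8) (.node (nat_lit 6) (.leaf [nat_lit 1, nat_lit 1, nat_lit 1, nat_lit 1, nat_lit 1, nat_lit 1, nat_lit 1, nat_lit 1, nat_lit 1, nat_lit 1])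
 (.node (nat_lit 7) (.leaf [nat_lit 2, nat_lit 2, nat_lit 2, nat_lit 2, nat_lit 2, nat_lit 2, nat_lit 2, nat_lit 2, nat_lit 2])
 (.leaf [nat_lit 4, nat_lit 2, nat_lit 4, nat_lit 6])))
 (.node (nat_lit 9) (.leaf [nat_lit 2, nat_lit 0, nat_lit 6, nat_lit 0])
 (.node (nat_lit 10) (.leaf [nat_lit 4, nat_lit 1, nat_lit 4])
 (.leaf [nat_lit 0, nat_lit 5, nat_lit 0])))))
 (.node (nat_lit 16) (.node (nat_lit 13) (.node (nat_lit 12) (.leaf [nat_lit 7, nat_lit 9, nat_lit 9, nat_lit 7])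
 (.leaf [nat_lit 8, nat_lit 10, nat_lit 10, nat_lit 8]))
 (.node (nat_lit 14) (.leaf [nat_lit 7, nat_lit 7, nat_lit 9, nat_lit 8])
 (.node (nat_lit 15) (.leaf [nat_lit 7, nat_lit 10, nat_lit 8, nat_lit 8])
 (.leaf [nat_lit 14, nat_lit 11, nat_lit 13, nat_lit 12, nat_lit 13]))))
 (.node (nat_lit 19) (.node (nat_lit 17) (.leaf [nat_lit 14, nat_lit 11, nat_lit 14, nat_lit 12, nat_lit 13])
 (.node (nat_lit 18) (.leaf [nat_lit 12, nat_lit 14, nat_lit 12, nat_lit 13, nat_lit 11, nat_lit 13, nat_lit 11])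
 (.leaf [nat_lit 12, nat_lit 14, nat_lit 12, nat_lit 14, nat_lit 11, nat_lit 13, nat_lit 11])))
 (.node (nat_lit 20) (.leaf [nat_lit 18, nat_lit 15, nat_lit 15, nat_lit 18, nat_lit 15, nat_lit 15, nat_lit 18, nat_lit 16])
 (.node (nat_lit 21) (.leaf [nat_lit 15, nat_lit 17, nat_lit 16, nat_lit 16, nat_lit 17, nat_lit 16, nat_lit 16, nat_lit 17])
 (.leaf [nat_lit 18, nat_lit 15, nat_lit 17, nat_lit 15, nat_lit 17, nat_lit 15, nat_lit 17]))))))
 (.node (nat_lit 33) (.node (nat_lit 27) (.node (nat_lit 24) (.node (nat_lit 23) (.leaf [nat_lit 18, nat_lit 16, nat_lit 18, nat_lit 16, nat_lit 18, nat_lit 16, nat_lit 17])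
 (.leaf [nat_lit 19, nat_lit 22, nat_lit 22, nat_lit 20, nat_lit 20, nat_lit 21]))
 (.node (nat_lit 25) (.leaf [nat_lit 22, nat_lit 19, nat_lit 19, nat_lit 21, nat_lit 21, nat_lit 20])
 (.node (nat_lit 26) (.leaf [nat_lit 21, nat_lit 21, nat_lit 19, nat_lit 22, nat_lit 19, nat_lit 21])
 (.leaf [nat_lit 22, nat_lit 20, nat_lit 21, nat_lit 20, nat_lit 22, nat_lit 22]))))
 (.node (nat_lit 30) (.node (nat_lit 28) (.leaf [nat_lit 19, nat_lit 19, nat_lit 22, nat_lit 20])
 (.node (nat_lit 29) (.leaf [nat_lit 19, nat_lit 21, nat_lit 20, nat_lit 20])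
 (.leaf [nat_lit 23, nat_lit 26, nat_lit 27])))
 (.node (nat_lit 31) (.leaf [nat_lit 25, nat_lit 28, nat_lit 24])
 (.node (nat_lit 32) (.leaf [nat_lit 21, nat_lit 23, nat_lit 26, nat_lit 28])
 (.leaf [nat_lit 28, nat_lit 16, nat_lit 28, nat_lit 21, nat_lit 23, nat_lit 28])))))
 (.node (nat_lit 39) (.node (nat_lit 36) (.node (nat_lit 34) (.leaf [nat_lit 21, nat_lit 11, nat_lit 15, nat_lit 26])
 (.node (nat_lit 35) (.leaf [nat_lit 7, nat_lit 13, nat_lit 23, nat_lit 22, nat_lit 25, nat_lit 28, nat_lit 24])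
 (.leaf [nat_lit 16, nat_lit 4, nat_lit 10, nat_lit 8, nat_lit 20, nat_lit 16, nat_lit 28, nat_lit 22, nat_lit 27])))
 (.node (nat_lit 37) (.leaf [nat_lit 14, nat_lit 12, nat_lit 24, nat_lit 16, nat_lit 20, nat_lit 24, nat_lit 20, nat_lit 25, nat_lit 28, nat_lit 24, nat_lit 27])
 (.node (nat_lit 38) (.leaf [nat_lit 36, nat_lit 36])
 (.leaf [nat_lit 8, nat_lit 11, nat_lit 24, nat_lit 16, nat_lit 22, nat_lit 26, nat_lit 28, nat_lit 24, nat_lit 28]))))
 (.node (nat_lit 42) (.node (nat_lit 40) (.leaf [nat_lit 10, nat_lit 24, nat_lit 11, nat_lit 16, nat_lit 17, nat_lit 21, nat_lit 27, nat_lit 26, nat_lit 24])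
 (.node (nat_lit 41) (.leaf [nat_lit 28, nat_lit 8, nat_lit 16, nat_lit 12, nat_lit 22, nat_lit 28, nat_lit 16, nat_lit 28, nat_lit 22, nat_lit 24])
 (.leaf [nat_lit 25, nat_lit 11, nat_lit 15, nat_lit 27, nat_lit 20, nat_lit 23, nat_lit 28])))
 (.node (nat_lit 43) (.leaf [nat_lit 21, nat_lit 11, nat_lit 15, nat_lit 22, nat_lit 28])
 (.node (nat_lit 44) (.leaf [nat_lit 20, nat_lit 16, nat_lit 20, nat_lit 24, nat_lit 20, nat_lit 27, nat_lit 26, nat_lit 24, nat_lit 27])
 (.leaf [nat_lit 28, nat_lit 4, nat_lit 23, nat_lit 8, nat_lit 28, nat_lit 11, nat_lit 22, nat_lit 27, nat_lit 16, nat_lit 21, nat_lit 20, nat_lit 26, nat_lit 28, nat_lit 24])))))))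
noncomputable def oTa : Tr ℕ := (.node (nat_lit 4) (.node (nat_lit 2) (.node (nat_lit 1) (.leaf ot28)
 (.leaf ot27))
 (.node (nat_lit 3) (.leaf ot29)
 (.leaf ot30)))
 (.node (nat_lit 6) (.node (nat_lit 5) (.leaf ot31)
 (.leaf ot32))
 (.node (nat_lit 7) (.leaf ot33)
 (.node (nat_lit 8) (.leaf ot34)
 (.leaf ot35)))))
noncomputable def oTn : Tr ℕ := (.node (nat_lit 4) (.node (nat_lit 2) (.node (nat_lit 1) (.leaf ot36)
 (.leaf ot37))
 (.node (nat_lit 3) (.leaf ot38)
 (.leaf ot39)))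
 (.node (nat_lit 6) (.node (nat_lit 5) (.leaf ot40)
 (.leaf ot41))
 (.node (nat_lit 7) (.leaf ot42)
 (.node (nat_lit 8) (.leaf ot43)
 (.leaf ot44)))))
noncomputable def oA0 : Lev := ⟨(nat_lit 0), (nat_lit 9), (nat_lit 0x70803080408070909060102050604060805050706040400), (nat_lit 0x30303020403040103020303040303040403020204030300),
 (.leaf 0),
 (.leaf 0)⟩
noncomputable def oA1 : Lev := ⟨(nat_lit 15), (nat_lit 8), (nat_lit 0x40705010601070500020508080201080207080106040200), (nat_lit 0x30302040302040400040303010303040203030403040400),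
 (.leaf 0),
 (.leaf 0)⟩
noncomputable def oA2 : Lev := ⟨(nat_lit 17), (nat_lit 7), (nat_lit 0x40503030206000500040207050606060505010201040300), (nat_lit 0x40303030304000300030401040302040404020203030200),
 (.leaf 0),
 (.leaf 0)⟩
noncomputable def oA3 : Lev := ⟨(nat_lit 8), (nat_lit 6), (nat_lit 0x10604050505000600020406050105000602040504030100), (nat_lit 0x20103030303000400030203040302000402040403030400),
 (.leaf 0),
 (.leaf 0)⟩
noncomputable def oA4 : Lev := ⟨(nat_lit 16), (nat_lit 5), (nat_lit 0x40503030201000000010202050201000205050101040300), (nat_lit 0x30402030404000000040402030303000404010204020300),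
 (.leaf 0),
 (.leaf 0)⟩
noncomputable def oA5 : Lev := ⟨(nat_lit 2), (nat_lit 4), (nat_lit 0x30204030100000000020402000201000001040104000300), (nat_lit 0x10202030400000000040302000303000002010203000300),
 (.leaf 0),
 (.leaf 0)⟩
noncomputable def oA6 : Lev := ⟨(nat_lit 19), (nat_lit 2), (nat_lit 0x2000100), (nat_lit 0x1000100),
 (.leaf 0),
 (.leaf 0)⟩
noncomputable def oA : List Lev := [oA0, oA1, oA2, oA3, oA4, oA5, oA6]
noncomputable def oN0 : Lev := ⟨(nat_lit 0), (nat_lit 9), (nat_lit 0x10601070607030404090703060508080201090803070700), (nat_lit 0x20303030303030303030303030202030203010302020300),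
 (.leaf 0),
 (.leaf 0)⟩
noncomputable def oN1 : Lev := ⟨(nat_lit 8), (nat_lit 8), (nat_lit 0x20601070603030204060701080508000805010505070600), (nat_lit 0x20303030202030302030203030303000103020302030300),
 (.leaf 0),
 (.leaf 0)⟩
noncomputable def oN2 : Lev := ⟨(nat_lit 20), (nat_lit 7), (nat_lit 0x10101000303040304050704060206000507030607070700), (nat_lit 0x30302000303020303030303020203000204020401030300),
 (.leaf 0),
 (.leaf 0)⟩
noncomputable def oN3 : Lev := ⟨(nat_lit 1), (nat_lit 6), (nat_lit 0x20404000506010204060101020105000305010605050000), (nat_lit 0x30203000301030203040302030402000204030303030000),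
 (.leaf 0),
 (.leaf 0)⟩
noncomputable def oN4 : Lev := ⟨(nat_lit 4), (nat_lit 5), (nat_lit 0x30202000404020203050505010401000402050001050000), (nat_lit 0x40204000203030403030103020303000404040004030000),
 (.leaf 0),
 (.leaf 0)⟩
noncomputable def oN5 : Lev := ⟨(nat_lit 15), (nat_lit 4), (nat_lit 0x20302000404030200000101020401000400010003000000), (nat_lit 0x20104000302030300000203020304000100020003000000),
 (.leaf 0),
 (.leaf 0)⟩
noncomputable def oN6 : Lev := ⟨(nat_lit 2), (nat_lit 2), (nat_lit 0x20000000000000001000000000000), (nat_lit 0x10000000000000001000000000000),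
 (.leaf 0),
 (.leaf 0)⟩
noncomputable def oN : List Lev := [oN0, oN1, oN2, oN3, oN4, oN5, oN6]
noncomputable def oO : OutD := ⟨(nat_lit 5), (nat_lit 31), B, ot0, ot1, ot2, ot0, (nat_lit 23), (nat_lit 2), (nat_lit 2), (nat_lit 0), [nat_lit 1, nat_lit 5], [([nat_lit 0, nat_lit 1, nat_lit 2], (nat_lit 6))], false⟩
theorem oslp : slpChk 24 (nat_lit 5) (nat_lit 31) oT' oD 3 42 = true := by decide +kernel
theorem osA_0 : srchR 24 (nat_lit 5) (nat_lit 31) oTa oO.ta oO.leafA oA (0 * 24) 24  = true := by decide +kernel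
theorem osN_0 : srchR 24 (nat_lit 5) (nat_lit 31) oTn oO.tn oO.leafN oN (0 * 24) 24  = true := by decide +kernel
theorem ochk : OutChk 24 oO oT' oTa oTn oD 42 oA oN 244823040 24 24 :=
  ⟨by decide +kernel, by decide +kernel, oslp, by decide +kernel, by decide +kernel,
  (fun i hi => by
    have : i < 1 := by omega
    interval_cases i
    exacts [osA_0]),
  (fun i hi => by
    have : i < 1 := by omega
    interval_cases i
    exacts [osN_0])⟩
theorem out : Nat.card (Cfsg.Out P) = 1 := out_one ochk base (ofNat_inj 24) card (show Nat.Prime 23 by norm_num) (by decide +kernel) olets (by decide +kernel) rfl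

end H8.M24
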