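import Cfsg.Agent.H8.GL37
import Cfsg.Agent.H8.Glue
import Cfsg.Agent.S0243

/-! H8.XL37: `iso`: PSL(3,7) is isomorphic to `P` (generated certificate) -/

set_option autoImplicit false
set_option maxRecDepth 200000

open Matrix

namespace H8.L37

noncomputable def V : Tr ℕ := (.node (nat_lit 28) (.node (nat_lit 14) (.node (nat_lit 7) (.node (nat_lit 3) (.node (nat_lit 1) (.leaf (nat_lit 1)) (.node (nat_lit 2) (.leaf (nat_lit 8)) (.leaf (nat_lit 9))))
 (.node (nat_lit 5) (.node (nat_lit 4) (.leaf (nat_lit 17)) (.leaf (nat_lit 25))) (.node (nat_lit 6) (.leaf (nat_lit 33)) (.leaf (nat_lit 41)))))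
 (.node (nat_lit 10) (.node (nat_lit 8) (.leaf (nat_lit 49)) (.node (nat_lit 9) (.leaf (nat_lit 64)) (.leaf (nat_lit 65))))
 (.node (nat_lit 12) (.node (nat_lit 11) (.leaf (nat_lit 72)) (.leaf (nat_lit 73))) (.node (nat_lit 13) (.leaf (nat_lit 81)) (.leaf (nat_lit 89))))))
 (.node (nat_lit 21) (.node (nat_lit 17) (.node (nat_lit 15) (.leaf (nat_lit 97)) (.node (nat_lit 16) (.leaf (nat_lit 105)) (.leaf (nat_lit 113))))
 (.node (nat_lit 19) (.node (nat_lit 18) (.leaf (nat_lit 129)) (.leaf (nat_lit 136))) (.node (nat_lit 20) (.leaf (nat_lit 137)) (.leaf (nat_lit 145)))))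
 (.node (nat_lit 24) (.node (nat_lit 22) (.leaf (nat_lit 153)) (.node (nat_lit 23) (.leaf (nat_lit 161)) (.leaf (nat_lit 169))))
 (.node (nat_lit 26) (.node (nat_lit 25) (.leaf (nat_lit 177)) (.leaf (nat_lit 193))) (.node (nat_lit 27) (.leaf (nat_lit 200)) (.leaf (nat_lit 201)))))))
 (.node (nat_lit 42) (.node (nat_lit 35) (.node (nat_lit 31) (.node (nat_lit 29) (.leaf (nat_lit 209)) (.node (nat_lit 30) (.leaf (nat_lit 217)) (.leaf (nat_lit 225))))
 (.node (nat_lit 33) (.node (nat_lit 32) (.leaf (nat_lit 233)) (.leaf (nat_lit 241))) (.node (nat_lit 34) (.leaf (nat_lit 257)) (.leaf (nat_lit 264)))))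
 (.node (nat_lit 38) (.node (nat_lit 36) (.leaf (nat_lit 265)) (.node (nat_lit 37) (.leaf (nat_lit 273)) (.leaf (nat_lit 281))))
 (.node (nat_lit 40) (.node (nat_lit 39) (.leaf (nat_lit 289)) (.leaf (nat_lit 297))) (.node (nat_lit 41) (.leaf (nat_lit 305)) (.leaf (nat_lit 321))))))
 (.node (nat_lit 49) (.node (nat_lit 45) (.node (nat_lit 43) (.leaf (nat_lit 328)) (.node (nat_lit 44) (.leaf (nat_lit 329)) (.leaf (nat_lit 337))))
 (.node (nat_lit 47) (.node (nat_lit 46) (.leaf (nat_lit 345)) (.leaf (nat_lit 353))) (.node (nat_lit 48) (.leaf (nat_lit 361)) (.leaf (nat_lit 369)))))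
 (.node (nat_lit 53) (.node (nat_lit 51) (.node (nat_lit 50) (.leaf (nat_lit 385)) (.leaf (nat_lit 392))) (.node (nat_lit 52) (.leaf (nat_lit 393)) (.leaf (nat_lit 401))))
 (.node (nat_lit 55) (.node (nat_lit 54) (.leaf (nat_lit 409)) (.leaf (nat_lit 417))) (.node (nat_lit 56) (.leaf (nat_lit 425)) (.leaf (nat_lit 433))))))))
theorem pts : ptR C7 3 true V 57 0 57 = true := by decide +kernel
noncomputable def M0 : Sp := [[(nat_lit 0, nat_lit 5), (nat_lit 2, nat_lit 6)],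
  [(nat_lit 0, nat_lit 1), (nat_lit 1, nat_lit 1), (nat_lit 2, nat_lit 3)],
  [(nat_lit 0, nat_lit 2), (nat_lit 2, nat_lit 4)]]
noncomputable def M1 : Sp := [[(nat_lit 0, nat_lit 1), (nat_lit 2, nat_lit 5)],
  [(nat_lit 1, nat_lit 4), (nat_lit 2, nat_lit 6)],
  [(nat_lit 1, nat_lit 2), (nat_lit 2, nat_lit 5)]]
noncomputable def MT : Tr Sp := (.node (nat_lit 1) (.leaf M0) (.leaf M1))
noncomputable def SC : Tr ℕ := (.node (nat_lit 1) (.leaf (nat_lit 0x6db6c7139ab2124934c9248a5b6daea4925966db6cb)) (.leaf (nat_lit 0x5b6db2b6db69e8ca3ac924862492556db6cf3249251)))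
theorem act : ActAll C7 3 true V 57 (nat_lit 6) (nat_lit 63) MT G0 SC 2 := actAll_of (by decide +kernel)
noncomputable def OT : Tr ℕ := (.node (nat_lit 1) (.leaf (nat_lit 7)) (.leaf (nat_lit 7)))
theorem pw : ∀ j < 2, powChk C7 3 (MT.get j) (OT.get j) = true ∧ 0 < OT.get j ∧ Nat.Coprime (OT.get j) 6 := by decide +kernel
theorem cen : Subgroup.center P = ⊥ := center_eq_bot lets base (nat_lit 0) [[nat_lit 5, nat_lit 3]] [[], [nat_lit 5, nat_lit 3, nat_lit 3, nat_lit 6], [nat_lit 5, nat_lit 0, nat_lit 2, nat_lit 6], [nat_lit 5, nat_lit 1, nat_lit 0, nat_lit 6], [nat_lit 2, nat_lit 3, nat_lit 6]] (by decide +kernel)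
theorem iso {F : Type*} [Field F] [Fintype F] (hF : Fintype.card F = 7) :
    Nonempty (Matrix.ProjectiveSpecialLinearGroup (Fin 3) F ≃* P) := by
  haveI : CharP F 7 := charP_of_card (k := 1) (by norm_num) hF
  have h := fm7 (F := F)
  refine iso_quot_center gen (h.pt_inj (ix_fin 3) (τSL (Fin 3) F) pts)
    (act.lets h (ix_fin 3) fun j hj => h.exists_SL (ix_fin 3) (pw j hj).1 (pw j hj).2.1 (by rw [hF]; exact (pw j hj).2.2)) cen ?_
  have := Cfsg.Agent.S0243.result hF 3 (by norm_num)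
  rw [card]
  simp only [Fin.prod_univ_succ, Fin.prod_univ_zero] at this
  norm_num at this
  show Nat.card (Matrix.ProjectiveSpecialLinearGroup (Fin 3) F) ≤ _
  omega

end H8.L37
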