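import Cfsg.Agent.H8.OT

/-! H8.OT2: seven small groups with their element orders (generated certificate) -/

set_option autoImplicit false
set_option maxRecDepth 200000

set_option linter.all false
open Subgroup 

namespace H8.OT

noncomputable def g1t0 : ℕ := (nat_lit 0x6beb08)
noncomputable def g1t1 : ℕ := (nat_lit 0xb1af88)
noncomputable def g1t2 : ℕ := (nat_lit 0xd2f2d0)
noncomputable def g1t3 : ℕ := (nat_lit 0x9ee458)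
noncomputable def g1t4 : ℕ := (nat_lit 0xde54c1)
noncomputable def g1T : Tr ℕ := (.node (nat_lit 2) (.node (nat_lit 1) (.leaf g1t0) (.leaf g1t1)) (.node (nat_lit 3) (.leaf g1t2) (.node (nat_lit 4) (.leaf g1t3) (.leaf g1t4))))
noncomputable def g1R : Tr (List ℕ) := (.node (nat_lit 4) (.node (nat_lit 2) (.node (nat_lit 1) (.leaf [nat_lit 4, nat_lit 0, nat_lit 4, nat_lit 1]) (.leaf [nat_lit 0, nat_lit 1])) (.node (nat_lit 3) (.leaf [nat_lit 0, nat_lit 0, nat_lit 0]) (.leaf [nat_lit 2, nat_lit 3])))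
 (.node (nat_lit 6) (.node (nat_lit 5) (.leaf [nat_lit 2, nat_lit 2, nat_lit 2]) (.leaf [nat_lit 2, nat_lit 0, nat_lit 2, nat_lit 0, nat_lit 2, nat_lit 0])) (.node (nat_lit 7) (.leaf [nat_lit 0, nat_lit 2, nat_lit 1, nat_lit 3, nat_lit 0, nat_lit 3]) (.node (nat_lit 8) (.leaf [nat_lit 4, nat_lit 4]) (.leaf [nat_lit 4, nat_lit 2, nat_lit 4, nat_lit 2, nat_lit 4, nat_lit 2])))))
noncomputable def g1L0 : Lev := ⟨(nat_lit 0), (nat_lit 5), (nat_lit 0x101020203040500), (nat_lit 0x303030302020100),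
 (.node (nat_lit 2) (.node (nat_lit 1) (.leaf (nat_lit 0x200020001000100020000))
 (.leaf (nat_lit 0x30003000000000001000100030000)))
 (.node (nat_lit 3) (.leaf (nat_lit 0x50006000400030000000200010000))
 (.node (nat_lit 4) (.leaf (nat_lit 0x40006000300070003000000010000))
 (.leaf (nat_lit 0x50004000300040003000200000001))))),
 (.node (nat_lit 2) (.node (nat_lit 1) (.leaf (nat_lit 0x201000201000100000100000001000000))
 (.leaf (nat_lit 0x101000101000000000000000101000101000101000000)))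
 (.node (nat_lit 3) (.leaf (nat_lit 0x502000400000300000502000000000401000300000000))
 (.node (nat_lit 4) (.leaf (nat_lit 0x301000301000603000301000301000000000301000000))
 (.leaf (nat_lit 0x700000002000000000701000700000802000000000701)))))⟩
noncomputable def g1L1 : Lev := ⟨(nat_lit 1), (nat_lit 4), (nat_lit 0x101020203040000), (nat_lit 0x202020201010000),
 (.node (nat_lit 2) (.node (nat_lit 1) (.leaf (nat_lit 0x200020001000100000000))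
 (.leaf (nat_lit 0x30003000000000001000100000000)))
 (.node (nat_lit 3) (.leaf (nat_lit 0x40005000300020000000200010000))
 (.leaf (nat_lit 0x30005000200060003000000010000)))),
 (.node (nat_lit 2) (.node (nat_lit 1) (.leaf (nat_lit 0x201000201000100000100000000000000))
 (.leaf (nat_lit 0x101000101000000000000000101000101000000000000)))
 (.node (nat_lit 3) (.leaf (nat_lit 0x502000400000300000502000000000401000300000000))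
 (.leaf (nat_lit 0x301000301000603000301000301000000000301000000))))⟩
noncomputable def g1L2 : Lev := ⟨(nat_lit 2), (nat_lit 2), (nat_lit 0x1000200000000), (nat_lit 0x1000100000000),
 (.node (nat_lit 1) (.leaf (nat_lit 0x20000000100000000))
 (.leaf (nat_lit 0x3000000000000000100000000))),
 (.node (nat_lit 1) (.leaf (nat_lit 0x201000000000100000000000000))
 (.leaf (nat_lit 0x101000000000000000000000101000000000000)))⟩
noncomputable def g1L : List Lev := [g1L0, g1L1, g1L2]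
theorem g1s : g1T.all (fun c => surjF 8 (ap (nat_lit 3) (nat_lit 7) c)) = true := by decide +kernel
theorem g1lev0 : levChk 8 (nat_lit 3) (nat_lit 7) g1T g1R g1L0 g1L1.N = true := by decide +kernel
theorem g1lev1 : levChk 8 (nat_lit 3) (nat_lit 7) g1T g1R g1L1 g1L2.N = true := by decide +kernel
theorem g1lev2 : levChk 8 (nat_lit 3) (nat_lit 7) g1T g1R g1L2 0 = true := by decide +kernel
theorem g1chain : Chain 8 (nat_lit 3) (nat_lit 7) g1T g1R g1L := chain_cons g1lev0 <| chain_cons g1lev1 <| chain_one g1lev2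
theorem g1sd : band (selChk g1T g1T (topN g1L)) (g1R.all fun w => eqB (List.range 8) (apL (nat_lit 3) (nat_lit 7) g1T w) fun a => a) = true := by decide +kernel
theorem g1tc : tchainChk 8 (nat_lit 3) (nat_lit 7) g1T g1L = true := by decide +kernel
noncomputable def g1W : List (List ℕ) := [[nat_lit 3, nat_lit 4, nat_lit 3],
 [nat_lit 0, nat_lit 3, nat_lit 4, nat_lit 3],
 [nat_lit 1, nat_lit 3, nat_lit 4, nat_lit 3],
 [nat_lit 4, nat_lit 3],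
 [nat_lit 0, nat_lit 3, nat_lit 4, nat_lit 0, nat_lit 3],
 [nat_lit 1, nat_lit 2, nat_lit 4, nat_lit 1, nat_lit 3],
 [nat_lit 2, nat_lit 4, nat_lit 3],
 [nat_lit 0, nat_lit 2, nat_lit 4, nat_lit 0, nat_lit 3],
 [nat_lit 0, nat_lit 3, nat_lit 4, nat_lit 1, nat_lit 3],
 [nat_lit 4, nat_lit 0, nat_lit 3],
 [nat_lit 2, nat_lit 4, nat_lit 1, nat_lit 3],
 [nat_lit 1, nat_lit 3, nat_lit 4, nat_lit 0, nat_lit 3],
 [nat_lit 0, nat_lit 2, nat_lit 4, nat_lit 3],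
 [nat_lit 1, nat_lit 2, nat_lit 4, nat_lit 0, nat_lit 3],
 [nat_lit 1, nat_lit 3, nat_lit 4, nat_lit 1, nat_lit 3],
 [nat_lit 4, nat_lit 1, nat_lit 3],
 [nat_lit 3, nat_lit 4, nat_lit 0, nat_lit 3],
 [nat_lit 0, nat_lit 2, nat_lit 4, nat_lit 1, nat_lit 3],
 [nat_lit 2, nat_lit 4, nat_lit 0, nat_lit 3],
 [nat_lit 3, nat_lit 4, nat_lit 1, nat_lit 3],
 [nat_lit 1, nat_lit 2, nat_lit 4, nat_lit 3],
 [nat_lit 2, nat_lit 4],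
 [nat_lit 0, nat_lit 2, nat_lit 4],
 [nat_lit 1, nat_lit 2, nat_lit 4],
 [nat_lit 3, nat_lit 4, nat_lit 2],
 [nat_lit 0, nat_lit 2, nat_lit 4, nat_lit 1, nat_lit 2, nat_lit 1],
 [nat_lit 0, nat_lit 3, nat_lit 4, nat_lit 0, nat_lit 3, nat_lit 1],
 [nat_lit 3],
 [nat_lit 0, nat_lit 2, nat_lit 4, nat_lit 0, nat_lit 3, nat_lit 0],
 [nat_lit 1, nat_lit 3, nat_lit 4, nat_lit 0, nat_lit 2, nat_lit 0],
 [nat_lit 0, nat_lit 3, nat_lit 4, nat_lit 2],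
 [nat_lit 1, nat_lit 2, nat_lit 4, nat_lit 1, nat_lit 2, nat_lit 1],
 [nat_lit 1, nat_lit 3, nat_lit 4, nat_lit 0, nat_lit 3, nat_lit 1],
 [nat_lit 0, nat_lit 3],
 [nat_lit 3, nat_lit 4, nat_lit 0, nat_lit 2, nat_lit 0],
 [nat_lit 1, nat_lit 2, nat_lit 4, nat_lit 0, nat_lit 3, nat_lit 0],
 [nat_lit 2, nat_lit 4, nat_lit 1, nat_lit 2, nat_lit 1],
 [nat_lit 3, nat_lit 4, nat_lit 0, nat_lit 3, nat_lit 1],
 [nat_lit 1, nat_lit 3, nat_lit 4, nat_lit 2],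
 [nat_lit 1, nat_lit 3],
 [nat_lit 2, nat_lit 4, nat_lit 0, nat_lit 3, nat_lit 0],
 [nat_lit 0, nat_lit 3, nat_lit 4, nat_lit 0, nat_lit 2, nat_lit 0],
 [nat_lit 3, nat_lit 4],
 [nat_lit 0, nat_lit 2, nat_lit 4, nat_lit 1],
 [nat_lit 1, nat_lit 3, nat_lit 4, nat_lit 1],
 [],
 [nat_lit 1, nat_lit 2, nat_lit 4, nat_lit 2, nat_lit 0],
 [nat_lit 1, nat_lit 3, nat_lit 4, nat_lit 3, nat_lit 0],
 [nat_lit 4, nat_lit 2],
 [nat_lit 0, nat_lit 3, nat_lit 4, nat_lit 1, nat_lit 3, nat_lit 1],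
 [nat_lit 1, nat_lit 3, nat_lit 4, nat_lit 0, nat_lit 2, nat_lit 1],
 [nat_lit 4, nat_lit 0, nat_lit 3, nat_lit 1],
 [nat_lit 3, nat_lit 4, nat_lit 1, nat_lit 2, nat_lit 1],
 [nat_lit 1, nat_lit 2, nat_lit 4, nat_lit 1, nat_lit 2],
 [nat_lit 0, nat_lit 3, nat_lit 0],
 [nat_lit 4, nat_lit 0, nat_lit 2, nat_lit 0],
 [nat_lit 0, nat_lit 2, nat_lit 4, nat_lit 3, nat_lit 0],
 [nat_lit 1, nat_lit 2, nat_lit 1],
 [nat_lit 3, nat_lit 4, nat_lit 0, nat_lit 3, nat_lit 0],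
 [nat_lit 0, nat_lit 3, nat_lit 4, nat_lit 1, nat_lit 2, nat_lit 0],
 [nat_lit 0, nat_lit 2, nat_lit 4, nat_lit 0, nat_lit 2, nat_lit 1],
 [nat_lit 0, nat_lit 3, nat_lit 4, nat_lit 0, nat_lit 2],
 [nat_lit 1, nat_lit 2, nat_lit 4, nat_lit 3, nat_lit 1],
 [nat_lit 4],
 [nat_lit 1, nat_lit 2, nat_lit 4, nat_lit 0],
 [nat_lit 1, nat_lit 3, nat_lit 4, nat_lit 0],
 [nat_lit 2, nat_lit 4, nat_lit 2],
 [nat_lit 0, nat_lit 3, nat_lit 4, nat_lit 3, nat_lit 1],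
 [nat_lit 1, nat_lit 2, nat_lit 4, nat_lit 2, nat_lit 1],
 [nat_lit 2],
 [nat_lit 0, nat_lit 2, nat_lit 4, nat_lit 1, nat_lit 2, nat_lit 0],
 [nat_lit 1, nat_lit 2, nat_lit 4, nat_lit 1, nat_lit 3, nat_lit 0],
 [nat_lit 0, nat_lit 2, nat_lit 0],
 [nat_lit 4, nat_lit 0, nat_lit 3, nat_lit 0],
 [nat_lit 0, nat_lit 3, nat_lit 4, nat_lit 2, nat_lit 0],
 [nat_lit 0, nat_lit 3, nat_lit 1],
 [nat_lit 2, nat_lit 4, nat_lit 0, nat_lit 2, nat_lit 0],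
 [nat_lit 1, nat_lit 3, nat_lit 4, nat_lit 1, nat_lit 3, nat_lit 0],
 [nat_lit 0, nat_lit 2, nat_lit 4, nat_lit 1, nat_lit 3, nat_lit 1],
 [nat_lit 0, nat_lit 3, nat_lit 4, nat_lit 1, nat_lit 2],
 [nat_lit 1, nat_lit 3, nat_lit 4, nat_lit 2, nat_lit 1],
 [nat_lit 4, nat_lit 1, nat_lit 2, nat_lit 1],
 [nat_lit 2, nat_lit 4, nat_lit 0, nat_lit 3, nat_lit 1],
 [nat_lit 0, nat_lit 2, nat_lit 4, nat_lit 0, nat_lit 2],
 [nat_lit 3, nat_lit 4, nat_lit 1],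
 [nat_lit 0, nat_lit 3, nat_lit 4],
 [nat_lit 1, nat_lit 2, nat_lit 4, nat_lit 1],
 [nat_lit 0],
 [nat_lit 2, nat_lit 4, nat_lit 2, nat_lit 0],
 [nat_lit 3, nat_lit 4, nat_lit 3, nat_lit 0],
 [nat_lit 2, nat_lit 1],
 [nat_lit 0, nat_lit 3, nat_lit 4, nat_lit 0, nat_lit 3, nat_lit 0],
 [nat_lit 1, nat_lit 3, nat_lit 4, nat_lit 1, nat_lit 2, nat_lit 0],
 [nat_lit 2, nat_lit 4, nat_lit 3, nat_lit 1],
 [nat_lit 1, nat_lit 2, nat_lit 4, nat_lit 0, nat_lit 2, nat_lit 1],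
 [nat_lit 1, nat_lit 3, nat_lit 4, nat_lit 0, nat_lit 2],
 [nat_lit 4, nat_lit 0, nat_lit 2],
 [nat_lit 3, nat_lit 4, nat_lit 0, nat_lit 2, nat_lit 1],
 [nat_lit 1, nat_lit 3, nat_lit 4, nat_lit 1, nat_lit 3, nat_lit 1],
 [nat_lit 4, nat_lit 1, nat_lit 3, nat_lit 1],
 [nat_lit 2, nat_lit 4, nat_lit 1, nat_lit 2],
 [nat_lit 0, nat_lit 3, nat_lit 4, nat_lit 1, nat_lit 2, nat_lit 1],
 [nat_lit 1, nat_lit 3, nat_lit 0],
 [nat_lit 4, nat_lit 1, nat_lit 2, nat_lit 0],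
 [nat_lit 1, nat_lit 2, nat_lit 4, nat_lit 3, nat_lit 0],
 [nat_lit 4, nat_lit 0],
 [nat_lit 2, nat_lit 4, nat_lit 0],
 [nat_lit 3, nat_lit 4, nat_lit 0],
 [nat_lit 2, nat_lit 4, nat_lit 2, nat_lit 1],
 [nat_lit 0, nat_lit 2, nat_lit 4, nat_lit 2],
 [nat_lit 1, nat_lit 3, nat_lit 4, nat_lit 3, nat_lit 1],
 [nat_lit 3, nat_lit 4, nat_lit 2, nat_lit 1],
 [nat_lit 1, nat_lit 2, nat_lit 4, nat_lit 1, nat_lit 3, nat_lit 1],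
 [nat_lit 1, nat_lit 3, nat_lit 4, nat_lit 1, nat_lit 2],
 [nat_lit 4, nat_lit 2, nat_lit 1],
 [nat_lit 0, nat_lit 2, nat_lit 4, nat_lit 0, nat_lit 3, nat_lit 1],
 [nat_lit 1, nat_lit 2, nat_lit 4, nat_lit 0, nat_lit 2],
 [nat_lit 0, nat_lit 2],
 [nat_lit 2, nat_lit 4, nat_lit 1, nat_lit 3, nat_lit 0],
 [nat_lit 1, nat_lit 2, nat_lit 4, nat_lit 1, nat_lit 2, nat_lit 0],
 [nat_lit 1, nat_lit 2, nat_lit 0],
 [nat_lit 4, nat_lit 1, nat_lit 3, nat_lit 0],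
 [nat_lit 1, nat_lit 3, nat_lit 4, nat_lit 2, nat_lit 0],
 [nat_lit 1, nat_lit 3, nat_lit 1],
 [nat_lit 3, nat_lit 4, nat_lit 1, nat_lit 3, nat_lit 0],
 [nat_lit 0, nat_lit 2, nat_lit 4, nat_lit 0, nat_lit 2, nat_lit 0],
 [nat_lit 2, nat_lit 4, nat_lit 1],
 [nat_lit 0, nat_lit 3, nat_lit 4, nat_lit 1],
 [nat_lit 1, nat_lit 3, nat_lit 4],
 [nat_lit 1],
 [nat_lit 0, nat_lit 2, nat_lit 4, nat_lit 2, nat_lit 0],
 [nat_lit 0, nat_lit 3, nat_lit 4, nat_lit 3, nat_lit 0],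
 [nat_lit 4, nat_lit 3, nat_lit 1],
 [nat_lit 0, nat_lit 2, nat_lit 4, nat_lit 1, nat_lit 2],
 [nat_lit 1, nat_lit 3, nat_lit 4, nat_lit 1, nat_lit 2, nat_lit 1],
 [nat_lit 3, nat_lit 0],
 [nat_lit 4, nat_lit 2, nat_lit 0],
 [nat_lit 2, nat_lit 4, nat_lit 3, nat_lit 0],
 [nat_lit 0, nat_lit 2, nat_lit 1],
 [nat_lit 3, nat_lit 4, nat_lit 1, nat_lit 2, nat_lit 0],
 [nat_lit 1, nat_lit 3, nat_lit 4, nat_lit 0, nat_lit 3, nat_lit 0],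
 [nat_lit 2, nat_lit 4, nat_lit 0, nat_lit 2, nat_lit 1],
 [nat_lit 3, nat_lit 4, nat_lit 0, nat_lit 2],
 [nat_lit 0, nat_lit 2, nat_lit 4, nat_lit 3, nat_lit 1],
 [nat_lit 4, nat_lit 1, nat_lit 2],
 [nat_lit 3, nat_lit 4, nat_lit 1, nat_lit 3, nat_lit 1],
 [nat_lit 0, nat_lit 3, nat_lit 4, nat_lit 0, nat_lit 2, nat_lit 1],
 [nat_lit 4, nat_lit 1],
 [nat_lit 0, nat_lit 2, nat_lit 4, nat_lit 0],
 [nat_lit 0, nat_lit 3, nat_lit 4, nat_lit 0],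
 [nat_lit 3, nat_lit 4, nat_lit 3, nat_lit 1],
 [nat_lit 0, nat_lit 2, nat_lit 4, nat_lit 2, nat_lit 1],
 [nat_lit 1, nat_lit 2, nat_lit 4, nat_lit 2],
 [nat_lit 2, nat_lit 0],
 [nat_lit 4, nat_lit 3, nat_lit 0],
 [nat_lit 3, nat_lit 4, nat_lit 2, nat_lit 0],
 [nat_lit 3, nat_lit 1],
 [nat_lit 0, nat_lit 3, nat_lit 4, nat_lit 1, nat_lit 3, nat_lit 0],
 [nat_lit 1, nat_lit 2, nat_lit 4, nat_lit 0, nat_lit 2, nat_lit 0],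
 [nat_lit 2, nat_lit 4, nat_lit 1, nat_lit 3, nat_lit 1],
 [nat_lit 3, nat_lit 4, nat_lit 1, nat_lit 2],
 [nat_lit 0, nat_lit 3, nat_lit 4, nat_lit 2, nat_lit 1],
 [nat_lit 4, nat_lit 0, nat_lit 2, nat_lit 1],
 [nat_lit 2, nat_lit 4, nat_lit 0, nat_lit 2],
 [nat_lit 1, nat_lit 2, nat_lit 4, nat_lit 0, nat_lit 3, nat_lit 1],
 [nat_lit 1, nat_lit 2],
 [nat_lit 2, nat_lit 4, nat_lit 1, nat_lit 2, nat_lit 0],
 [nat_lit 0, nat_lit 2, nat_lit 4, nat_lit 1, nat_lit 3, nat_lit 0]]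
theorem g1Wc : band (incr (fun w => keyB 8 (g1L.map Lev.b) (apL (nat_lit 3) (nat_lit 7) g1T w)) g1W 0) (Nat.ble (chainOrd 8 g1L) g1W.length) = true := by decide +kernel
def g1O : List ℕ := [3, 3, 7, 3, 7, 6, 2, 6, 6, 7, 6, 3, 3, 7, 6, 6, 6, 7, 6, 7, 3, 3, 6, 7, 2, 6, 6, 3, 7, 6, 6, 3, 7, 7, 3, 6, 7, 3, 6, 3,
6, 7, 3, 3, 7, 1, 3, 3, 3, 7, 3, 3, 3, 7, 3, 7, 3, 3, 7, 3, 7, 3, 3, 2, 3, 3, 3, 3, 7, 3, 7, 6, 7, 6, 6, 3, 6, 7, 6, 7,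
6, 6, 7, 6, 6, 7, 6, 3, 7, 3, 7, 3, 6, 3, 6, 7, 6, 7, 6, 7, 6, 6, 3, 3, 2, 6, 6, 7, 3, 7, 3, 6, 7, 3, 7, 6, 6, 3, 7, 6,
3, 3, 2, 7, 6, 6, 7, 3, 6, 3, 3, 7, 6, 3, 7, 7, 6, 3, 3, 7, 6, 6, 6, 2, 7, 6, 6, 6, 7, 6, 7, 3, 3, 3, 7, 6, 3, 6, 7, 6,
6, 2, 3, 7, 6, 7, 3, 6]
theorem g1o : g1W.map (fun w => ordF (g1L.map Lev.b) 40 (apL (nat_lit 3) (nat_lit 7) g1T w)) = g1O := by decide +kernel
noncomputable def g1at0 : ℕ := (nat_lit 0x467b98)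
noncomputable def g1at1 : ℕ := (nat_lit 0x89d3f0)
noncomputable def g1at2 : ℕ := (nat_lit 0x53977)
noncomputable def g1aT : Tr ℕ := (.node (nat_lit 1) (.leaf g1at0) (.node (nat_lit 2) (.leaf g1at1) (.leaf g1at2)))
noncomputable def g1aR : Tr (List ℕ) := (.node (nat_lit 2) (.node (nat_lit 1) (.leaf [nat_lit 0, nat_lit 1]) (.leaf [nat_lit 0, nat_lit 0, nat_lit 0, nat_lit 0, nat_lit 0, nat_lit 0, nat_lit 0])) (.node (nat_lit 3) (.leaf [nat_lit 1, nat_lit 1, nat_lit 1, nat_lit 2, nat_lit 0, nat_lit 0, nat_lit 2, nat_lit 0, nat_lit 2]) (.leaf [nat_lit 2, nat_lit 2])))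
noncomputable def g1aL0 : Lev := ⟨(nat_lit 0), (nat_lit 3), (nat_lit 0x302010103020100), (nat_lit 0x103030203020400),
 (.node (nat_lit 1) (.leaf (nat_lit 0x10004000000000003000100000000))
 (.node (nat_lit 2) (.leaf (nat_lit 0x10000000200010001000000050000))
 (.leaf (nat_lit 0x6000300010000000200050001)))),
 (.node (nat_lit 1) (.leaf (nat_lit 0x100000000000000000000000000000000000000))
 (.node (nat_lit 2) (.leaf (nat_lit 0x1000000000200000001000001000000000001000000))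
 (.leaf (nat_lit 0x300000300000300000000000206000203000301))))⟩
noncomputable def g1aL1 : Lev := ⟨(nat_lit 1), (nat_lit 2), (nat_lit 0x101020202010000), (nat_lit 0x301020301020000),
 (.node (nat_lit 1) (.leaf (nat_lit 0x100020001000000010000))
 (.leaf (nat_lit 0x30001000000000000000100010000))),
 (.node (nat_lit 1) (.leaf (nat_lit 0x103000000000000000000000000))
 (.leaf (nat_lit 0x1000001000000000000000000000001000001000000)))⟩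
noncomputable def g1aL : List Lev := [g1aL0, g1aL1]
noncomputable def g1aE : Tr (List ℕ) := (.node (nat_lit 1) (.leaf [nat_lit 3, nat_lit 0]) (.node (nat_lit 2) (.leaf [nat_lit 1, nat_lit 2]) (.leaf [nat_lit 1, nat_lit 3, nat_lit 4, nat_lit 2, nat_lit 0])))
theorem g1aw_0 : g1aT.all2 (fun c w => isProd 8 (nat_lit 3) (nat_lit 7) g1T c w) g1aE = true := by decide +kernel
theorem g1aw : g1aT.all2 (fun c w => isProd 8 (nat_lit 3) (nat_lit 7) g1T c w) g1aE = true := g1aw_0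
theorem g1alev0 : levChk 8 (nat_lit 3) (nat_lit 7) g1aT g1aR g1aL0 g1aL1.N = true := by decide +kernel
theorem g1alev1 : levChk 8 (nat_lit 3) (nat_lit 7) g1aT g1aR g1aL1 0 = true := by decide +kernel
theorem g1achain : Chain 8 (nat_lit 3) (nat_lit 7) g1aT g1aR g1aL := chain_cons g1alev0 <| chain_one g1alev1
theorem g1asd : band (selChk g1aT g1aT (topN g1aL)) (g1aR.all fun w => eqB (g1L.map Lev.b) (apL (nat_lit 3) (nat_lit 7) g1aT w) fun a => a) = true := by decide +kernel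
theorem g1atc : tchainChk 8 (nat_lit 3) (nat_lit 7) g1aT g1aL = true := by decide +kernel
noncomputable def g1anW : Tr (List ℕ) := (.node (nat_lit 7) (.node (nat_lit 3) (.node (nat_lit 1) (.leaf [nat_lit 0, nat_lit 0]) (.node (nat_lit 2) (.leaf [nat_lit 1, nat_lit 1]) (.leaf [nat_lit 2, nat_lit 1, nat_lit 2, nat_lit 0])))
 (.node (nat_lit 5) (.node (nat_lit 4) (.leaf [nat_lit 1, nat_lit 1, nat_lit 1]) (.leaf [nat_lit 0, nat_lit 0, nat_lit 0])) (.node (nat_lit 6) (.leaf [nat_lit 1, nat_lit 1, nat_lit 2, nat_lit 0, nat_lit 0]) (.leaf [nat_lit 0, nat_lit 0]))))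
 (.node (nat_lit 11) (.node (nat_lit 9) (.node (nat_lit 8) (.leaf [nat_lit 1, nat_lit 1]) (.leaf [nat_lit 0, nat_lit 0, nat_lit 2, nat_lit 1, nat_lit 1])) (.node (nat_lit 10) (.leaf [nat_lit 1, nat_lit 1, nat_lit 1]) (.leaf [nat_lit 0, nat_lit 0, nat_lit 0])))
 (.node (nat_lit 13) (.node (nat_lit 12) (.leaf [nat_lit 1, nat_lit 2, nat_lit 0]) (.leaf [nat_lit 0, nat_lit 2])) (.node (nat_lit 14) (.leaf [nat_lit 2, nat_lit 1]) (.leaf [nat_lit 2])))))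
theorem g1an : nrmChk (nat_lit 3) (nat_lit 7) (g1L.map Lev.b) g1T g1aT (topN g1L) (topN g1aL) g1anW = true := by decide +kernel
noncomputable def g1bt0 : ℕ := (nat_lit 0x688fac)
noncomputable def g1bt1 : ℕ := (nat_lit 0x21ab3e)
noncomputable def g1bt2 : ℕ := (nat_lit 0xde54c1)
noncomputable def g1bT : Tr ℕ := (.node (nat_lit 1) (.leaf g1bt0) (.node (nat_lit 2) (.leaf g1bt1) (.leaf g1bt2)))
noncomputable def g1bR : Tr (List ℕ) := (.node (nat_lit 3) (.node (nat_lit 1) (.leaf [nat_lit 0, nat_lit 0]) (.node (nat_lit 2) (.leaf [nat_lit 0, nat_lit 2, nat_lit 0, nat_lit 2]) (.leaf [nat_lit 0, nat_lit 1, nat_lit 0, nat_lit 1]))) (.node (nat_lit 4) (.leaf [nat_lit 1, nat_lit 1]) (.node (nat_lit 5) (.leaf [nat_lit 1, nat_lit 2, nat_lit 1, nat_lit 2]) (.leaf [nat_lit 2, nat_lit 2]))))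
noncomputable def g1bL0 : Lev := ⟨(nat_lit 0), (nat_lit 3), (nat_lit 0x302030103020300), (nat_lit 0x201020103020100),
 (.node (nat_lit 1) (.leaf (nat_lit 0x40002000300000005000300020001))
 (.node (nat_lit 2) (.leaf (nat_lit 0x30000000300010002000000020001))
 (.leaf (nat_lit 0x1000000010000000100000001)))),
 (.node (nat_lit 1) (.leaf (nat_lit 0x202000202000000000000000001000001000102000001))
 (.node (nat_lit 2) (.leaf (nat_lit 0x300000000000300000300000402000000000402000301))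
 (.leaf (nat_lit 0x501000000000501000000000501000000000501))))⟩
noncomputable def g1bL : List Lev := [g1bL0]
noncomputable def g1bE : Tr (List ℕ) := (.node (nat_lit 1) (.leaf [nat_lit 1, nat_lit 2, nat_lit 0]) (.node (nat_lit 2) (.leaf [nat_lit 0, nat_lit 0, nat_lit 2, nat_lit 1, nat_lit 1]) (.leaf [nat_lit 1, nat_lit 2, nat_lit 1, nat_lit 2, nat_lit 0, nat_lit 0])))
theorem g1bw_0 : g1bT.all2 (fun c w => isProd 8 (nat_lit 3) (nat_lit 7) g1aT c w) g1bE = true := by decide +kernel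
theorem g1bw : g1bT.all2 (fun c w => isProd 8 (nat_lit 3) (nat_lit 7) g1aT c w) g1bE = true := g1bw_0
theorem g1blev0 : levChk 8 (nat_lit 3) (nat_lit 7) g1bT g1bR g1bL0 0 = true := by decide +kernel
theorem g1bchain : Chain 8 (nat_lit 3) (nat_lit 7) g1bT g1bR g1bL := chain_one g1blev0
theorem g1bsd : band (selChk g1bT g1bT (topN g1bL)) (g1bR.all fun w => eqB (g1aL.map Lev.b) (apL (nat_lit 3) (nat_lit 7) g1bT w) fun a => a) = true := by decide +kernel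
theorem g1btc : tchainChk 8 (nat_lit 3) (nat_lit 7) g1bT g1bL = true := by decide +kernel
noncomputable def g1bnW : Tr (List ℕ) := (.node (nat_lit 4) (.node (nat_lit 2) (.node (nat_lit 1) (.leaf [nat_lit 2, nat_lit 1]) (.leaf [nat_lit 2])) (.node (nat_lit 3) (.leaf [nat_lit 2, nat_lit 1, nat_lit 0]) (.leaf [nat_lit 2, nat_lit 0])))
 (.node (nat_lit 6) (.node (nat_lit 5) (.leaf [nat_lit 1, nat_lit 0]) (.leaf [nat_lit 1])) (.node (nat_lit 7) (.leaf [nat_lit 0]) (.node (nat_lit 8) (.leaf [nat_lit 1]) (.leaf [nat_lit 2])))))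
theorem g1bn : nrmChk (nat_lit 3) (nat_lit 7) (g1aL.map Lev.b) g1aT g1bT (topN g1aL) (topN g1bL) g1bnW = true := by decide +kernel
theorem g1x : ∃ N : Subgroup (Equiv.Perm (Fin 8)), OrdL N g1O ∧ Group.IsSolvable N :=
  let ⟨N, C, _⟩ := exists_pg g1s g1chain g1sd g1tc
  let ⟨N1, C1, _⟩ := (C.gen (lets_words C.lets g1aE g1aw) g1achain g1asd g1atc)
  let ⟨N2, C2, _⟩ := (C1.gen (lets_words C1.lets g1bE g1bw) g1bchain g1bsd g1btc)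
  ⟨N, C.ordL g1Wc g1o (by decide +kernel), solv_step N1 (C.normal C1 g1an) (solv_step N2 (C1.normal C2 g1bn) (solv_p (p := 2) (j := 3) (by norm_num) (C2.card.trans (by decide +kernel)))
    (p := 7) (j := 1) (by norm_num) (Nat.eq_of_mul_eq_mul_right (m := 8) (by norm_num) (((congrArg _ (by decide +kernel)).trans (C1.index C2)).trans (by decide +kernel)))) (p := 3) (j := 1) (by norm_num) (Nat.eq_of_mul_eq_mul_right (m := 56) (by norm_num) (((congrArg _ (by decide +kernel)).trans (C.index C1)).trans (by decide +kernel)))⟩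
noncomputable def g2t0 : ℕ := (nat_lit 0xfc4753e55d78665ba36cc5a928398a418820)
noncomputable def g2t1 : ℕ := (nat_lit 0x178665ba36cfc4753e55cc5a928398a418820)
noncomputable def g2t2 : ℕ := (nat_lit 0x13e55d78665ba36cfc474c5a928398a418820)
noncomputable def g2t3 : ℕ := (nat_lit 0x1ba36cfc4753e55d78664c5a928398a418820)
noncomputable def g2t4 : ℕ := (nat_lit 0x1cdeb38bdab49ca307b9ab53128398a418820)
noncomputable def g2t5 : ℕ := (nat_lit 0x1cdeb38bdab49ca307b9aa62d28398a418820)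
noncomputable def g2t6 : ℕ := (nat_lit 0x1996e8db3f11d4f9575e0a5b1074902511860)
noncomputable def g2t7 : ℕ := (nat_lit 0x11d4f9575e1996e8db3f0a5b0e94088608ca0)
noncomputable def g2t8 : ℕ := (nat_lit 0x1cdeb38bdab49ca307b9ab530e9404c4100a3)
noncomputable def g2t9 : ℕ := (nat_lit 0x1cdeb38bdab49ca307b9aa62d074942400cc2)
noncomputable def g2T : Tr ℕ := (.node (nat_lit 5) (.node (nat_lit 2) (.node (nat_lit 1) (.leaf g2t0) (.leaf g2t1)) (.node (nat_lit 3) (.leaf g2t2) (.node (nat_lit 4) (.leaf g2t3) (.leaf g2t4))))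
 (.node (nat_lit 7) (.node (nat_lit 6) (.leaf g2t5) (.leaf g2t6)) (.node (nat_lit 8) (.leaf g2t7) (.node (nat_lit 9) (.leaf g2t8) (.leaf g2t9)))))
noncomputable def g2R : Tr (List ℕ) := (.node (nat_lit 10) (.node (nat_lit 5) (.node (nat_lit 2) (.node (nat_lit 1) (.leaf [nat_lit 6, nat_lit 0, nat_lit 7, nat_lit 3]) (.leaf [nat_lit 8, nat_lit 0, nat_lit 9, nat_lit 1])) (.node (nat_lit 3) (.leaf [nat_lit 0, nat_lit 1]) (.node (nat_lit 4) (.leaf [nat_lit 6, nat_lit 2, nat_lit 7, nat_lit 1]) (.leaf [nat_lit 8, nat_lit 2, nat_lit 9, nat_lit 3]))))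
 (.node (nat_lit 7) (.node (nat_lit 6) (.leaf [nat_lit 2, nat_lit 3]) (.leaf [nat_lit 6, nat_lit 4, nat_lit 7, nat_lit 4])) (.node (nat_lit 8) (.leaf [nat_lit 8, nat_lit 4, nat_lit 9, nat_lit 5]) (.node (nat_lit 9) (.leaf [nat_lit 4, nat_lit 5]) (.leaf [nat_lit 6, nat_lit 7])))))
 (.node (nat_lit 15) (.node (nat_lit 12) (.node (nat_lit 11) (.leaf [nat_lit 5, nat_lit 6, nat_lit 6, nat_lit 6, nat_lit 8, nat_lit 7, nat_lit 8, nat_lit 7, nat_lit 7, nat_lit 8]) (.leaf [nat_lit 0, nat_lit 0, nat_lit 7, nat_lit 9, nat_lit 7, nat_lit 9])) (.node (nat_lit 13) (.leaf [nat_lit 0, nat_lit 0, nat_lit 7, nat_lit 7, nat_lit 7, nat_lit 7, nat_lit 7, nat_lit 7]) (.node (nat_lit 14) (.leaf [nat_lit 8, nat_lit 9]) (.leaf [nat_lit 8, nat_lit 8, nat_lit 8]))))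
 (.node (nat_lit 18) (.node (nat_lit 16) (.leaf [nat_lit 4, nat_lit 0, nat_lit 5, nat_lit 1]) (.node (nat_lit 17) (.leaf [nat_lit 4, nat_lit 2, nat_lit 5, nat_lit 3]) (.leaf [nat_lit 4, nat_lit 4, nat_lit 4]))) (.node (nat_lit 19) (.leaf [nat_lit 0, nat_lit 0, nat_lit 2, nat_lit 2]) (.node (nat_lit 20) (.leaf [nat_lit 0, nat_lit 2, nat_lit 0, nat_lit 3]) (.leaf [nat_lit 0, nat_lit 0, nat_lit 0, nat_lit 0]))))))
noncomputable def g2L0 : Lev := ⟨(nat_lit 0), (nat_lit 10), (nat_lit 0x809080a090700), (nat_lit 0x2030301010200),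
 (.node (nat_lit 5) (.node (nat_lit 2) (.node (nat_lit 1) (.leaf (nat_lit 0x4000400060004000200060000))
 (.leaf (nat_lit 0x3000500050005000300070000)))
 (.node (nat_lit 3) (.leaf (nat_lit 0x4000400060004000200060000))
 (.node (nat_lit 4) (.leaf (nat_lit 0x3000500050005000300070000))
 (.leaf (nat_lit 0x3000500040004000200050000)))))
 (.node (nat_lit 7) (.node (nat_lit 6) (.leaf (nat_lit 0x4000600050005000300060000))
 (.leaf (nat_lit 0x1000300080003000100000000)))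
 (.node (nat_lit 8) (.leaf (nat_lit 0x700000001000200020000))
 (.node (nat_lit 9) (.leaf (nat_lit 0x8000000090002000000090001))
 (.leaf (nat_lit 0x1000a00080000000300070001)))))),
 (.node (nat_lit 5) (.node (nat_lit 2) (.node (nat_lit 1) (.leaf (nat_lit 0x200000101000200000101000101000001000000))
 (.leaf (nat_lit 0x303000201000303000201000201000201000000)))
 (.node (nat_lit 3) (.leaf (nat_lit 0x500000401000500000401000401000301000000))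
 (.node (nat_lit 4) (.leaf (nat_lit 0x3000501000003000501000501000501000000))
 (.leaf (nat_lit 0x603000701000603000701000701000601000000)))))
 (.node (nat_lit 7) (.node (nat_lit 6) (.leaf (nat_lit 0x801000801000801000801000801000801000000))
 (.leaf (nat_lit 0x900000900000900000900000900000000000000)))
 (.node (nat_lit 8) (.leaf (nat_lit 0xc06000000000901000b04000a07000000))
 (.node (nat_lit 9) (.leaf (nat_lit 0xd00000000000d00000e01000000000e02000d00))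
 (.leaf (nat_lit 0xd01000d01000b05000000000d01000b05000d01))))))⟩
noncomputable def g2L1 : Lev := ⟨(nat_lit 1), (nat_lit 8), (nat_lit 0x7070708080000), (nat_lit 0x3010201020000),
 (.node (nat_lit 4) (.node (nat_lit 2) (.node (nat_lit 1) (.leaf (nat_lit 0x6000200040003000500000000))
 (.leaf (nat_lit 0x7000300050002000400000000)))
 (.node (nat_lit 3) (.leaf (nat_lit 0x6000200040003000500000000))
 (.leaf (nat_lit 0x7000300050002000400000000))))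
 (.node (nat_lit 6) (.node (nat_lit 5) (.leaf (nat_lit 0x4000200030002000300000000))
 (.leaf (nat_lit 0x5000300040003000400000000)))
 (.node (nat_lit 7) (.leaf (nat_lit 0x1000300010000))
 (.leaf (nat_lit 0x2000100010000000000010000))))),
 (.node (nat_lit 4) (.node (nat_lit 2) (.node (nat_lit 1) (.leaf (nat_lit 0x1000001000001000200000200000000000000))
 (.leaf (nat_lit 0x201000201000201000303000303000000000000)))
 (.node (nat_lit 3) (.leaf (nat_lit 0x301000301000301000500000500000000000000))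
 (.leaf (nat_lit 0x501000501000501000003000003000000000000))))
 (.node (nat_lit 6) (.node (nat_lit 5) (.leaf (nat_lit 0x601000601000601000603000603000000000000))
 (.leaf (nat_lit 0x801000801000801000801000801000000000000)))
 (.node (nat_lit 7) (.leaf (nat_lit 0x900000900000900000000))
 (.leaf (nat_lit 0xc04000901000901000000000000000901000000)))))⟩
noncomputable def g2L2 : Lev := ⟨(nat_lit 10), (nat_lit 6), (nat_lit 0x6050000000000000000000000), (nat_lit 0x1010000000000000000000000),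
 (.node (nat_lit 3) (.node (nat_lit 1) (.leaf (nat_lit 0x4000200000000000000000000000000000000000000000000))
 (.node (nat_lit 2) (.leaf (nat_lit 0x5000300000000000000000000000000000000000000000000))
 (.leaf (nat_lit 0x4000200000000000000000000000000000000000000000000))))
 (.node (nat_lit 4) (.leaf (nat_lit 0x5000300000000000000000000000000000000000000000000))
 (.node (nat_lit 5) (.leaf (nat_lit 0x2000000010000000000000000000000000000000000000000))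
 (.leaf (nat_lit 0x300010000000000000000000000000000000000000000))))),
 (.node (nat_lit 3) (.node (nat_lit 1) (.leaf (nat_lit 0xf01000f01000000000000000000000000000000000000000000000000000000000000000000))
 (.node (nat_lit 2) (.leaf (nat_lit 0x201000201000000000000000000000000000000000000000000000000000000000000000000))
 (.leaf (nat_lit 0x1001001001000000000000000000000000000000000000000000000000000000000000000000))))
 (.node (nat_lit 4) (.leaf (nat_lit 0x501000501000000000000000000000000000000000000000000000000000000000000000000))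
 (.node (nat_lit 5) (.leaf (nat_lit 0x1101000000000800000000000000000000000000000000000000000000000000000000000000))
 (.leaf (nat_lit 0x801000801000000000000000000000000000000000000000000000000000000000000)))))⟩
noncomputable def g2L3 : Lev := ⟨(nat_lit 13), (nat_lit 4), (nat_lit 0x40300000201000003040000010000000000000000000000000000), (nat_lit 0x10200000102000001020000010000000000000000000000000000),
 (.node (nat_lit 2) (.node (nat_lit 1) (.leaf (nat_lit 0x400050000000000020000000000000002000300000000000000010000000000000000000000000000000000000000000000000000))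
 (.leaf (nat_lit 0x600030000000000000003000000000004000500000000000100010000000000000000000000000000000000000000000000000000)))
 (.node (nat_lit 3) (.leaf (nat_lit 0x200000000000000020003000000000000000300000000000100010000000000000000000000000000000000000000000000000000))
 (.leaf (nat_lit 0x30000000000040003000000000004000000000000000100010000000000000000000000000000000000000000000000000000)))),
 (.node (nat_lit 2) (.node (nat_lit 1) (.leaf (nat_lit 0x1201001401000000000000001402000000000000000000001302001201000000000000000000000200000000000000000000000000000000000000000000000000000000000000000000000000000000))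
 (.leaf (nat_lit 0x201000201000000000000000000000201000000000000000201000201000000000000000201000201000000000000000000000000000000000000000000000000000000000000000000000000000000)))
 (.node (nat_lit 3) (.leaf (nat_lit 0x1202000000000000000000001203001203000000000000000000001202000000000000000500000500000000000000000000000000000000000000000000000000000000000000000000000000000000))
 (.leaf (nat_lit 0x501000000000000000501000501000000000000000501000000000000000000000501000501000000000000000000000000000000000000000000000000000000000000000000000000000000))))⟩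
noncomputable def g2L : List Lev := [g2L0, g2L1, g2L2, g2L3]
theorem g2s : g2T.all (fun c => surjF 29 (ap (nat_lit 5) (nat_lit 31) c)) = true := by decide +kernel
theorem g2lev0 : levChk 29 (nat_lit 5) (nat_lit 31) g2T g2R g2L0 g2L1.N = true := by decide +kernel
theorem g2lev1 : levChk 29 (nat_lit 5) (nat_lit 31) g2T g2R g2L1 g2L2.N = true := by decide +kernel
theorem g2lev2 : levChk 29 (nat_lit 5) (nat_lit 31) g2T g2R g2L2 g2L3.N = true := by decide +kernel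
theorem g2lev3 : levChk 29 (nat_lit 5) (nat_lit 31) g2T g2R g2L3 0 = true := by decide +kernel
theorem g2chain : Chain 29 (nat_lit 5) (nat_lit 31) g2T g2R g2L := chain_cons g2lev0 <| chain_cons g2lev1 <| chain_cons g2lev2 <| chain_one g2lev3
theorem g2sd : band (selChk g2T g2T (topN g2L)) (g2R.all fun w => eqB (List.range 29) (apL (nat_lit 5) (nat_lit 31) g2T w) fun a => a) = true := by decide +kernel
theorem g2tc : tchainChk 29 (nat_lit 5) (nat_lit 31) g2T g2L = true := by decide +kernel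
noncomputable def g2W : List (List ℕ) := [[nat_lit 8, nat_lit 6, nat_lit 6, nat_lit 5, nat_lit 1, nat_lit 1],
 [nat_lit 9, nat_lit 6, nat_lit 9, nat_lit 7],
 [nat_lit 6, nat_lit 9, nat_lit 6, nat_lit 5, nat_lit 1, nat_lit 1],
 [],
 [nat_lit 6, nat_lit 6, nat_lit 9, nat_lit 7, nat_lit 7, nat_lit 4],
 [nat_lit 6, nat_lit 9, nat_lit 7, nat_lit 7, nat_lit 7, nat_lit 5, nat_lit 1, nat_lit 1],
 [nat_lit 6, nat_lit 6, nat_lit 1, nat_lit 1],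
 [nat_lit 7, nat_lit 8, nat_lit 7, nat_lit 4, nat_lit 1, nat_lit 1],
 [nat_lit 9, nat_lit 6, nat_lit 9, nat_lit 6, nat_lit 1, nat_lit 1],
 [nat_lit 7, nat_lit 8, nat_lit 6, nat_lit 4],
 [nat_lit 9, nat_lit 6, nat_lit 6, nat_lit 4, nat_lit 1, nat_lit 1],
 [nat_lit 6, nat_lit 9, nat_lit 7, nat_lit 5],
 [nat_lit 7, nat_lit 7, nat_lit 1, nat_lit 1],
 [nat_lit 9, nat_lit 7, nat_lit 7, nat_lit 4, nat_lit 1, nat_lit 1],
 [nat_lit 8, nat_lit 7, nat_lit 7, nat_lit 5, nat_lit 1, nat_lit 1],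
 [nat_lit 7, nat_lit 8, nat_lit 7, nat_lit 7, nat_lit 7, nat_lit 4],
 [nat_lit 8, nat_lit 5],
 [nat_lit 6, nat_lit 6, nat_lit 9, nat_lit 4, nat_lit 1, nat_lit 1],
 [nat_lit 9, nat_lit 4],
 [nat_lit 6, nat_lit 6, nat_lit 9, nat_lit 6, nat_lit 6, nat_lit 4],
 [nat_lit 9, nat_lit 6, nat_lit 9, nat_lit 7, nat_lit 7, nat_lit 7, nat_lit 1, nat_lit 1],
 [nat_lit 8, nat_lit 6, nat_lit 6, nat_lit 4, nat_lit 1, nat_lit 1],
 [nat_lit 9, nat_lit 6, nat_lit 9, nat_lit 7, nat_lit 5],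
 [nat_lit 6, nat_lit 9, nat_lit 6, nat_lit 4, nat_lit 1, nat_lit 1],
 [nat_lit 5],
 [nat_lit 6, nat_lit 6, nat_lit 9, nat_lit 7, nat_lit 7],
 [nat_lit 6, nat_lit 9, nat_lit 7, nat_lit 7, nat_lit 7, nat_lit 4, nat_lit 1, nat_lit 1],
 [nat_lit 6, nat_lit 6, nat_lit 5, nat_lit 1, nat_lit 1],
 [nat_lit 7, nat_lit 8, nat_lit 7, nat_lit 1, nat_lit 1],
 [nat_lit 9, nat_lit 6, nat_lit 9, nat_lit 6, nat_lit 5, nat_lit 1, nat_lit 1],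
 [nat_lit 7, nat_lit 8, nat_lit 6],
 [nat_lit 9, nat_lit 6, nat_lit 6, nat_lit 1, nat_lit 1],
 [nat_lit 6, nat_lit 9, nat_lit 7, nat_lit 4],
 [nat_lit 7, nat_lit 7, nat_lit 5, nat_lit 1, nat_lit 1],
 [nat_lit 9, nat_lit 7, nat_lit 7, nat_lit 1, nat_lit 1],
 [nat_lit 8, nat_lit 7, nat_lit 7, nat_lit 4, nat_lit 1, nat_lit 1],
 [nat_lit 7, nat_lit 8, nat_lit 7, nat_lit 7, nat_lit 7],
 [nat_lit 8, nat_lit 4],
 [nat_lit 6, nat_lit 6, nat_lit 9, nat_lit 1, nat_lit 1],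
 [nat_lit 9],
 [nat_lit 6, nat_lit 6, nat_lit 9, nat_lit 6, nat_lit 6],
 [nat_lit 9, nat_lit 6, nat_lit 9, nat_lit 7, nat_lit 7, nat_lit 7, nat_lit 5, nat_lit 1, nat_lit 1],
 [nat_lit 8, nat_lit 6, nat_lit 6, nat_lit 1, nat_lit 1],
 [nat_lit 9, nat_lit 6, nat_lit 9, nat_lit 7, nat_lit 4],
 [nat_lit 6, nat_lit 9, nat_lit 6, nat_lit 1, nat_lit 1],
 [nat_lit 4],
 [nat_lit 6, nat_lit 6, nat_lit 9, nat_lit 7, nat_lit 7, nat_lit 5],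
 [nat_lit 6, nat_lit 9, nat_lit 7, nat_lit 7, nat_lit 7, nat_lit 1, nat_lit 1],
 [nat_lit 6, nat_lit 6, nat_lit 4, nat_lit 1, nat_lit 1],
 [nat_lit 7, nat_lit 8, nat_lit 7, nat_lit 5, nat_lit 1, nat_lit 1],
 [nat_lit 9, nat_lit 6, nat_lit 9, nat_lit 6, nat_lit 4, nat_lit 1, nat_lit 1],
 [nat_lit 7, nat_lit 8, nat_lit 6, nat_lit 5],
 [nat_lit 9, nat_lit 6, nat_lit 6, nat_lit 5, nat_lit 1, nat_lit 1],
 [nat_lit 6, nat_lit 9, nat_lit 7],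
 [nat_lit 7, nat_lit 7, nat_lit 4, nat_lit 1, nat_lit 1],
 [nat_lit 9, nat_lit 7, nat_lit 7, nat_lit 5, nat_lit 1, nat_lit 1],
 [nat_lit 8, nat_lit 7, nat_lit 7, nat_lit 1, nat_lit 1],
 [nat_lit 7, nat_lit 8, nat_lit 7, nat_lit 7, nat_lit 7, nat_lit 5],
 [nat_lit 8],
 [nat_lit 6, nat_lit 6, nat_lit 9, nat_lit 5, nat_lit 1, nat_lit 1],
 [nat_lit 9, nat_lit 5],
 [nat_lit 6, nat_lit 6, nat_lit 9, nat_lit 6, nat_lit 6, nat_lit 5],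
 [nat_lit 9, nat_lit 6, nat_lit 9, nat_lit 7, nat_lit 7, nat_lit 7, nat_lit 4, nat_lit 1, nat_lit 1],
 [nat_lit 8, nat_lit 6, nat_lit 6, nat_lit 5, nat_lit 0],
 [nat_lit 9, nat_lit 6, nat_lit 9, nat_lit 7, nat_lit 1],
 [nat_lit 6, nat_lit 9, nat_lit 6, nat_lit 5, nat_lit 0],
 [nat_lit 1],
 [nat_lit 6, nat_lit 6, nat_lit 9, nat_lit 7, nat_lit 7, nat_lit 4, nat_lit 1],
 [nat_lit 6, nat_lit 9, nat_lit 7, nat_lit 7, nat_lit 7, nat_lit 5, nat_lit 0],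
 [nat_lit 6, nat_lit 6, nat_lit 0],
 [nat_lit 7, nat_lit 8, nat_lit 7, nat_lit 4, nat_lit 0],
 [nat_lit 9, nat_lit 6, nat_lit 9, nat_lit 6, nat_lit 0],
 [nat_lit 7, nat_lit 8, nat_lit 6, nat_lit 4, nat_lit 1],
 [nat_lit 9, nat_lit 6, nat_lit 6, nat_lit 4, nat_lit 0],
 [nat_lit 6, nat_lit 9, nat_lit 7, nat_lit 5, nat_lit 1],
 [nat_lit 7, nat_lit 7, nat_lit 0],
 [nat_lit 9, nat_lit 7, nat_lit 7, nat_lit 4, nat_lit 0],
 [nat_lit 8, nat_lit 7, nat_lit 7, nat_lit 5, nat_lit 0],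
 [nat_lit 7, nat_lit 8, nat_lit 7, nat_lit 7, nat_lit 7, nat_lit 4, nat_lit 1],
 [nat_lit 8, nat_lit 5, nat_lit 1],
 [nat_lit 6, nat_lit 6, nat_lit 9, nat_lit 4, nat_lit 0],
 [nat_lit 9, nat_lit 4, nat_lit 1],
 [nat_lit 6, nat_lit 6, nat_lit 9, nat_lit 6, nat_lit 6, nat_lit 4, nat_lit 1],
 [nat_lit 9, nat_lit 6, nat_lit 9, nat_lit 7, nat_lit 7, nat_lit 7, nat_lit 0],
 [nat_lit 8, nat_lit 6, nat_lit 6, nat_lit 4, nat_lit 0],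
 [nat_lit 9, nat_lit 6, nat_lit 9, nat_lit 7, nat_lit 5, nat_lit 1],
 [nat_lit 6, nat_lit 9, nat_lit 6, nat_lit 4, nat_lit 0],
 [nat_lit 5, nat_lit 1],
 [nat_lit 6, nat_lit 6, nat_lit 9, nat_lit 7, nat_lit 7, nat_lit 1],
 [nat_lit 6, nat_lit 9, nat_lit 7, nat_lit 7, nat_lit 7, nat_lit 4, nat_lit 0],
 [nat_lit 6, nat_lit 6, nat_lit 5, nat_lit 0],
 [nat_lit 7, nat_lit 8, nat_lit 7, nat_lit 0],
 [nat_lit 9, nat_lit 6, nat_lit 9, nat_lit 6, nat_lit 5, nat_lit 0],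
 [nat_lit 7, nat_lit 8, nat_lit 6, nat_lit 1],
 [nat_lit 9, nat_lit 6, nat_lit 6, nat_lit 0],
 [nat_lit 6, nat_lit 9, nat_lit 7, nat_lit 4, nat_lit 1],
 [nat_lit 7, nat_lit 7, nat_lit 5, nat_lit 0],
 [nat_lit 9, nat_lit 7, nat_lit 7, nat_lit 0],
 [nat_lit 8, nat_lit 7, nat_lit 7, nat_lit 4, nat_lit 0],
 [nat_lit 7, nat_lit 8, nat_lit 7, nat_lit 7, nat_lit 7, nat_lit 1],
 [nat_lit 8, nat_lit 4, nat_lit 1],
 [nat_lit 6, nat_lit 6, nat_lit 9, nat_lit 0],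
 [nat_lit 9, nat_lit 1],
 [nat_lit 6, nat_lit 6, nat_lit 9, nat_lit 6, nat_lit 6, nat_lit 1],
 [nat_lit 9, nat_lit 6, nat_lit 9, nat_lit 7, nat_lit 7, nat_lit 7, nat_lit 5, nat_lit 0],
 [nat_lit 8, nat_lit 6, nat_lit 6, nat_lit 0],
 [nat_lit 9, nat_lit 6, nat_lit 9, nat_lit 7, nat_lit 4, nat_lit 1],
 [nat_lit 6, nat_lit 9, nat_lit 6, nat_lit 0],
 [nat_lit 4, nat_lit 1],
 [nat_lit 6, nat_lit 6, nat_lit 9, nat_lit 7, nat_lit 7, nat_lit 5, nat_lit 1],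
 [nat_lit 6, nat_lit 9, nat_lit 7, nat_lit 7, nat_lit 7, nat_lit 0],
 [nat_lit 6, nat_lit 6, nat_lit 4, nat_lit 0],
 [nat_lit 7, nat_lit 8, nat_lit 7, nat_lit 5, nat_lit 0],
 [nat_lit 9, nat_lit 6, nat_lit 9, nat_lit 6, nat_lit 4, nat_lit 0],
 [nat_lit 7, nat_lit 8, nat_lit 6, nat_lit 5, nat_lit 1],
 [nat_lit 9, nat_lit 6, nat_lit 6, nat_lit 5, nat_lit 0],
 [nat_lit 6, nat_lit 9, nat_lit 7, nat_lit 1],
 [nat_lit 7, nat_lit 7, nat_lit 4, nat_lit 0],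
 [nat_lit 9, nat_lit 7, nat_lit 7, nat_lit 5, nat_lit 0],
 [nat_lit 8, nat_lit 7, nat_lit 7, nat_lit 0],
 [nat_lit 7, nat_lit 8, nat_lit 7, nat_lit 7, nat_lit 7, nat_lit 5, nat_lit 1],
 [nat_lit 8, nat_lit 1],
 [nat_lit 6, nat_lit 6, nat_lit 9, nat_lit 5, nat_lit 0],
 [nat_lit 9, nat_lit 5, nat_lit 1],
 [nat_lit 6, nat_lit 6, nat_lit 9, nat_lit 6, nat_lit 6, nat_lit 5, nat_lit 1],
 [nat_lit 9, nat_lit 6, nat_lit 9, nat_lit 7, nat_lit 7, nat_lit 7, nat_lit 4, nat_lit 0],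
 [nat_lit 7, nat_lit 8, nat_lit 6, nat_lit 6, nat_lit 0],
 [nat_lit 9, nat_lit 6, nat_lit 0],
 [nat_lit 6, nat_lit 6, nat_lit 9, nat_lit 6, nat_lit 1],
 [nat_lit 9, nat_lit 7, nat_lit 1],
 [nat_lit 8, nat_lit 7, nat_lit 7, nat_lit 7, nat_lit 5, nat_lit 0],
 [nat_lit 9, nat_lit 6, nat_lit 9, nat_lit 7, nat_lit 7, nat_lit 4, nat_lit 1],
 [nat_lit 8, nat_lit 6, nat_lit 5, nat_lit 0],
 [nat_lit 6, nat_lit 6, nat_lit 9, nat_lit 7, nat_lit 0],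
 [nat_lit 6, nat_lit 9, nat_lit 6, nat_lit 6, nat_lit 5, nat_lit 1],
 [nat_lit 6, nat_lit 4, nat_lit 0],
 [nat_lit 6, nat_lit 6, nat_lit 9, nat_lit 7, nat_lit 7, nat_lit 7, nat_lit 1],
 [nat_lit 9, nat_lit 6, nat_lit 9, nat_lit 6, nat_lit 6, nat_lit 4, nat_lit 1],
 [nat_lit 7, nat_lit 8, nat_lit 1],
 [nat_lit 9, nat_lit 6, nat_lit 9, nat_lit 4, nat_lit 0],
 [nat_lit 6, nat_lit 9, nat_lit 5, nat_lit 0],
 [nat_lit 7, nat_lit 4, nat_lit 1],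
 [nat_lit 9, nat_lit 7, nat_lit 7, nat_lit 7, nat_lit 0],
 [nat_lit 6, nat_lit 9, nat_lit 7, nat_lit 7, nat_lit 5, nat_lit 1],
 [nat_lit 7, nat_lit 7, nat_lit 7, nat_lit 4, nat_lit 0],
 [nat_lit 7, nat_lit 8, nat_lit 7, nat_lit 7, nat_lit 0],
 [nat_lit 8, nat_lit 7, nat_lit 5, nat_lit 1],
 [nat_lit 7, nat_lit 8, nat_lit 6, nat_lit 6, nat_lit 4, nat_lit 0],
 [nat_lit 9, nat_lit 6, nat_lit 4, nat_lit 0],
 [nat_lit 6, nat_lit 6, nat_lit 9, nat_lit 6, nat_lit 4, nat_lit 1],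
 [nat_lit 9, nat_lit 7, nat_lit 4, nat_lit 1],
 [nat_lit 8, nat_lit 7, nat_lit 7, nat_lit 7, nat_lit 0],
 [nat_lit 9, nat_lit 6, nat_lit 9, nat_lit 7, nat_lit 7, nat_lit 5, nat_lit 1],
 [nat_lit 8, nat_lit 6, nat_lit 0],
 [nat_lit 6, nat_lit 6, nat_lit 9, nat_lit 7, nat_lit 4, nat_lit 0],
 [nat_lit 6, nat_lit 9, nat_lit 6, nat_lit 6, nat_lit 1],
 [nat_lit 6, nat_lit 5, nat_lit 0],
 [nat_lit 6, nat_lit 6, nat_lit 9, nat_lit 7, nat_lit 7, nat_lit 7, nat_lit 4, nat_lit 1],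
 [nat_lit 9, nat_lit 6, nat_lit 9, nat_lit 6, nat_lit 6, nat_lit 5, nat_lit 1],
 [nat_lit 7, nat_lit 8, nat_lit 4, nat_lit 1],
 [nat_lit 9, nat_lit 6, nat_lit 9, nat_lit 5, nat_lit 0],
 [nat_lit 6, nat_lit 9, nat_lit 0],
 [nat_lit 7, nat_lit 5, nat_lit 1],
 [nat_lit 9, nat_lit 7, nat_lit 7, nat_lit 7, nat_lit 4, nat_lit 0],
 [nat_lit 6, nat_lit 9, nat_lit 7, nat_lit 7, nat_lit 1],
 [nat_lit 7, nat_lit 7, nat_lit 7, nat_lit 5, nat_lit 0],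
 [nat_lit 7, nat_lit 8, nat_lit 7, nat_lit 7, nat_lit 4, nat_lit 0],
 [nat_lit 8, nat_lit 7, nat_lit 1],
 [nat_lit 7, nat_lit 8, nat_lit 6, nat_lit 6, nat_lit 5, nat_lit 0],
 [nat_lit 9, nat_lit 6, nat_lit 5, nat_lit 0],
 [nat_lit 6, nat_lit 6, nat_lit 9, nat_lit 6, nat_lit 5, nat_lit 1],
 [nat_lit 9, nat_lit 7, nat_lit 5, nat_lit 1],
 [nat_lit 8, nat_lit 7, nat_lit 7, nat_lit 7, nat_lit 4, nat_lit 0],
 [nat_lit 9, nat_lit 6, nat_lit 9, nat_lit 7, nat_lit 7, nat_lit 1],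
 [nat_lit 8, nat_lit 6, nat_lit 4, nat_lit 0],
 [nat_lit 6, nat_lit 6, nat_lit 9, nat_lit 7, nat_lit 5, nat_lit 0],
 [nat_lit 6, nat_lit 9, nat_lit 6, nat_lit 6, nat_lit 4, nat_lit 1],
 [nat_lit 6, nat_lit 0],
 [nat_lit 6, nat_lit 6, nat_lit 9, nat_lit 7, nat_lit 7, nat_lit 7, nat_lit 5, nat_lit 1],
 [nat_lit 9, nat_lit 6, nat_lit 9, nat_lit 6, nat_lit 6, nat_lit 1],
 [nat_lit 7, nat_lit 8, nat_lit 5, nat_lit 1],
 [nat_lit 9, nat_lit 6, nat_lit 9, nat_lit 0],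
 [nat_lit 6, nat_lit 9, nat_lit 4, nat_lit 0],
 [nat_lit 7, nat_lit 1],
 [nat_lit 9, nat_lit 7, nat_lit 7, nat_lit 7, nat_lit 5, nat_lit 0],
 [nat_lit 6, nat_lit 9, nat_lit 7, nat_lit 7, nat_lit 4, nat_lit 1],
 [nat_lit 7, nat_lit 7, nat_lit 7, nat_lit 0],
 [nat_lit 7, nat_lit 8, nat_lit 7, nat_lit 7, nat_lit 5, nat_lit 0],
 [nat_lit 8, nat_lit 7, nat_lit 4, nat_lit 1],
 [nat_lit 7, nat_lit 8, nat_lit 6, nat_lit 6],
 [nat_lit 9, nat_lit 6],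
 [nat_lit 6, nat_lit 6, nat_lit 9, nat_lit 6, nat_lit 1, nat_lit 1],
 [nat_lit 9, nat_lit 7, nat_lit 1, nat_lit 1],
 [nat_lit 8, nat_lit 7, nat_lit 7, nat_lit 7, nat_lit 5],
 [nat_lit 9, nat_lit 6, nat_lit 9, nat_lit 7, nat_lit 7, nat_lit 4, nat_lit 1, nat_lit 1],
 [nat_lit 8, nat_lit 6, nat_lit 5],
 [nat_lit 6, nat_lit 6, nat_lit 9, nat_lit 7],
 [nat_lit 6, nat_lit 9, nat_lit 6, nat_lit 6, nat_lit 5, nat_lit 1, nat_lit 1],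
 [nat_lit 6, nat_lit 4],
 [nat_lit 6, nat_lit 6, nat_lit 9, nat_lit 7, nat_lit 7, nat_lit 7, nat_lit 1, nat_lit 1],
 [nat_lit 9, nat_lit 6, nat_lit 9, nat_lit 6, nat_lit 6, nat_lit 4, nat_lit 1, nat_lit 1],
 [nat_lit 7, nat_lit 8, nat_lit 1, nat_lit 1],
 [nat_lit 9, nat_lit 6, nat_lit 9, nat_lit 4],
 [nat_lit 6, nat_lit 9, nat_lit 5],
 [nat_lit 7, nat_lit 4, nat_lit 1, nat_lit 1],
 [nat_lit 9, nat_lit 7, nat_lit 7, nat_lit 7],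
 [nat_lit 6, nat_lit 9, nat_lit 7, nat_lit 7, nat_lit 5, nat_lit 1, nat_lit 1],
 [nat_lit 7, nat_lit 7, nat_lit 7, nat_lit 4],
 [nat_lit 7, nat_lit 8, nat_lit 7, nat_lit 7],
 [nat_lit 8, nat_lit 7, nat_lit 5, nat_lit 1, nat_lit 1],
 [nat_lit 7, nat_lit 8, nat_lit 6, nat_lit 6, nat_lit 4],
 [nat_lit 9, nat_lit 6, nat_lit 4],
 [nat_lit 6, nat_lit 6, nat_lit 9, nat_lit 6, nat_lit 4, nat_lit 1, nat_lit 1],
 [nat_lit 9, nat_lit 7, nat_lit 4, nat_lit 1, nat_lit 1],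
 [nat_lit 8, nat_lit 7, nat_lit 7, nat_lit 7],
 [nat_lit 9, nat_lit 6, nat_lit 9, nat_lit 7, nat_lit 7, nat_lit 5, nat_lit 1, nat_lit 1],
 [nat_lit 8, nat_lit 6],
 [nat_lit 6, nat_lit 6, nat_lit 9, nat_lit 7, nat_lit 4],
 [nat_lit 6, nat_lit 9, nat_lit 6, nat_lit 6, nat_lit 1, nat_lit 1],
 [nat_lit 6, nat_lit 5],
 [nat_lit 6, nat_lit 6, nat_lit 9, nat_lit 7, nat_lit 7, nat_lit 7, nat_lit 4, nat_lit 1, nat_lit 1],
 [nat_lit 9, nat_lit 6, nat_lit 9, nat_lit 6, nat_lit 6, nat_lit 5, nat_lit 1, nat_lit 1],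
 [nat_lit 7, nat_lit 8, nat_lit 4, nat_lit 1, nat_lit 1],
 [nat_lit 9, nat_lit 6, nat_lit 9, nat_lit 5],
 [nat_lit 6, nat_lit 9],
 [nat_lit 7, nat_lit 5, nat_lit 1, nat_lit 1],
 [nat_lit 9, nat_lit 7, nat_lit 7, nat_lit 7, nat_lit 4],
 [nat_lit 6, nat_lit 9, nat_lit 7, nat_lit 7, nat_lit 1, nat_lit 1],
 [nat_lit 7, nat_lit 7, nat_lit 7, nat_lit 5],
 [nat_lit 7, nat_lit 8, nat_lit 7, nat_lit 7, nat_lit 4],
 [nat_lit 8, nat_lit 7, nat_lit 1, nat_lit 1],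
 [nat_lit 7, nat_lit 8, nat_lit 6, nat_lit 6, nat_lit 5],
 [nat_lit 9, nat_lit 6, nat_lit 5],
 [nat_lit 6, nat_lit 6, nat_lit 9, nat_lit 6, nat_lit 5, nat_lit 1, nat_lit 1],
 [nat_lit 9, nat_lit 7, nat_lit 5, nat_lit 1, nat_lit 1],
 [nat_lit 8, nat_lit 7, nat_lit 7, nat_lit 7, nat_lit 4],
 [nat_lit 9, nat_lit 6, nat_lit 9, nat_lit 7, nat_lit 7, nat_lit 1, nat_lit 1],
 [nat_lit 8, nat_lit 6, nat_lit 4],
 [nat_lit 6, nat_lit 6, nat_lit 9, nat_lit 7, nat_lit 5],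
 [nat_lit 6, nat_lit 9, nat_lit 6, nat_lit 6, nat_lit 4, nat_lit 1, nat_lit 1],
 [nat_lit 6],
 [nat_lit 6, nat_lit 6, nat_lit 9, nat_lit 7, nat_lit 7, nat_lit 7, nat_lit 5, nat_lit 1, nat_lit 1],
 [nat_lit 9, nat_lit 6, nat_lit 9, nat_lit 6, nat_lit 6, nat_lit 1, nat_lit 1],
 [nat_lit 7, nat_lit 8, nat_lit 5, nat_lit 1, nat_lit 1],
 [nat_lit 9, nat_lit 6, nat_lit 9],
 [nat_lit 6, nat_lit 9, nat_lit 4],
 [nat_lit 7, nat_lit 1, nat_lit 1],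
 [nat_lit 9, nat_lit 7, nat_lit 7, nat_lit 7, nat_lit 5],
 [nat_lit 6, nat_lit 9, nat_lit 7, nat_lit 7, nat_lit 4, nat_lit 1, nat_lit 1],
 [nat_lit 7, nat_lit 7, nat_lit 7],
 [nat_lit 7, nat_lit 8, nat_lit 7, nat_lit 7, nat_lit 5],
 [nat_lit 8, nat_lit 7, nat_lit 4, nat_lit 1, nat_lit 1],
 [nat_lit 8, nat_lit 6, nat_lit 6, nat_lit 5, nat_lit 3, nat_lit 1],
 [nat_lit 9, nat_lit 6, nat_lit 9, nat_lit 7, nat_lit 2, nat_lit 1],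
 [nat_lit 6, nat_lit 9, nat_lit 6, nat_lit 5, nat_lit 3, nat_lit 1],
 [nat_lit 2, nat_lit 1],
 [nat_lit 6, nat_lit 6, nat_lit 9, nat_lit 7, nat_lit 7, nat_lit 4, nat_lit 2, nat_lit 1],
 [nat_lit 6, nat_lit 9, nat_lit 7, nat_lit 7, nat_lit 7, nat_lit 5, nat_lit 3, nat_lit 1],
 [nat_lit 6, nat_lit 6, nat_lit 3, nat_lit 1],
 [nat_lit 7, nat_lit 8, nat_lit 7, nat_lit 4, nat_lit 3, nat_lit 1],
 [nat_lit 9, nat_lit 6, nat_lit 9, nat_lit 6, nat_lit 3, nat_lit 1],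
 [nat_lit 7, nat_lit 8, nat_lit 6, nat_lit 4, nat_lit 2, nat_lit 1],
 [nat_lit 9, nat_lit 6, nat_lit 6, nat_lit 4, nat_lit 3, nat_lit 1],
 [nat_lit 6, nat_lit 9, nat_lit 7, nat_lit 5, nat_lit 2, nat_lit 1],
 [nat_lit 7, nat_lit 7, nat_lit 3, nat_lit 1],
 [nat_lit 9, nat_lit 7, nat_lit 7, nat_lit 4, nat_lit 3, nat_lit 1],
 [nat_lit 8, nat_lit 7, nat_lit 7, nat_lit 5, nat_lit 3, nat_lit 1],
 [nat_lit 7, nat_lit 8, nat_lit 7, nat_lit 7, nat_lit 7, nat_lit 4, nat_lit 2, nat_lit 1],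
 [nat_lit 8, nat_lit 5, nat_lit 2, nat_lit 1],
 [nat_lit 6, nat_lit 6, nat_lit 9, nat_lit 4, nat_lit 3, nat_lit 1],
 [nat_lit 9, nat_lit 4, nat_lit 2, nat_lit 1],
 [nat_lit 6, nat_lit 6, nat_lit 9, nat_lit 6, nat_lit 6, nat_lit 4, nat_lit 2, nat_lit 1],
 [nat_lit 9, nat_lit 6, nat_lit 9, nat_lit 7, nat_lit 7, nat_lit 7, nat_lit 3, nat_lit 1],
 [nat_lit 8, nat_lit 6, nat_lit 6, nat_lit 4, nat_lit 3, nat_lit 1],
 [nat_lit 9, nat_lit 6, nat_lit 9, nat_lit 7, nat_lit 5, nat_lit 2, nat_lit 1],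
 [nat_lit 6, nat_lit 9, nat_lit 6, nat_lit 4, nat_lit 3, nat_lit 1],
 [nat_lit 5, nat_lit 2, nat_lit 1],
 [nat_lit 6, nat_lit 6, nat_lit 9, nat_lit 7, nat_lit 7, nat_lit 2, nat_lit 1],
 [nat_lit 6, nat_lit 9, nat_lit 7, nat_lit 7, nat_lit 7, nat_lit 4, nat_lit 3, nat_lit 1],
 [nat_lit 6, nat_lit 6, nat_lit 5, nat_lit 3, nat_lit 1],
 [nat_lit 7, nat_lit 8, nat_lit 7, nat_lit 3, nat_lit 1],
 [nat_lit 9, nat_lit 6, nat_lit 9, nat_lit 6, nat_lit 5, nat_lit 3, nat_lit 1],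
 [nat_lit 7, nat_lit 8, nat_lit 6, nat_lit 2, nat_lit 1],
 [nat_lit 9, nat_lit 6, nat_lit 6, nat_lit 3, nat_lit 1],
 [nat_lit 6, nat_lit 9, nat_lit 7, nat_lit 4, nat_lit 2, nat_lit 1],
 [nat_lit 7, nat_lit 7, nat_lit 5, nat_lit 3, nat_lit 1],
 [nat_lit 9, nat_lit 7, nat_lit 7, nat_lit 3, nat_lit 1],
 [nat_lit 8, nat_lit 7, nat_lit 7, nat_lit 4, nat_lit 3, nat_lit 1],
 [nat_lit 7, nat_lit 8, nat_lit 7, nat_lit 7, nat_lit 7, nat_lit 2, nat_lit 1],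
 [nat_lit 8, nat_lit 4, nat_lit 2, nat_lit 1],
 [nat_lit 6, nat_lit 6, nat_lit 9, nat_lit 3, nat_lit 1],
 [nat_lit 9, nat_lit 2, nat_lit 1],
 [nat_lit 6, nat_lit 6, nat_lit 9, nat_lit 6, nat_lit 6, nat_lit 2, nat_lit 1],
 [nat_lit 9, nat_lit 6, nat_lit 9, nat_lit 7, nat_lit 7, nat_lit 7, nat_lit 5, nat_lit 3, nat_lit 1],
 [nat_lit 8, nat_lit 6, nat_lit 6, nat_lit 3, nat_lit 1],
 [nat_lit 9, nat_lit 6, nat_lit 9, nat_lit 7, nat_lit 4, nat_lit 2, nat_lit 1],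
 [nat_lit 6, nat_lit 9, nat_lit 6, nat_lit 3, nat_lit 1],
 [nat_lit 4, nat_lit 2, nat_lit 1],
 [nat_lit 6, nat_lit 6, nat_lit 9, nat_lit 7, nat_lit 7, nat_lit 5, nat_lit 2, nat_lit 1],
 [nat_lit 6, nat_lit 9, nat_lit 7, nat_lit 7, nat_lit 7, nat_lit 3, nat_lit 1],
 [nat_lit 6, nat_lit 6, nat_lit 4, nat_lit 3, nat_lit 1],
 [nat_lit 7, nat_lit 8, nat_lit 7, nat_lit 5, nat_lit 3, nat_lit 1],
 [nat_lit 9, nat_lit 6, nat_lit 9, nat_lit 6, nat_lit 4, nat_lit 3, nat_lit 1],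
 [nat_lit 7, nat_lit 8, nat_lit 6, nat_lit 5, nat_lit 2, nat_lit 1],
 [nat_lit 9, nat_lit 6, nat_lit 6, nat_lit 5, nat_lit 3, nat_lit 1],
 [nat_lit 6, nat_lit 9, nat_lit 7, nat_lit 2, nat_lit 1],
 [nat_lit 7, nat_lit 7, nat_lit 4, nat_lit 3, nat_lit 1],
 [nat_lit 9, nat_lit 7, nat_lit 7, nat_lit 5, nat_lit 3, nat_lit 1],
 [nat_lit 8, nat_lit 7, nat_lit 7, nat_lit 3, nat_lit 1],
 [nat_lit 7, nat_lit 8, nat_lit 7, nat_lit 7, nat_lit 7, nat_lit 5, nat_lit 2, nat_lit 1],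
 [nat_lit 8, nat_lit 2, nat_lit 1],
 [nat_lit 6, nat_lit 6, nat_lit 9, nat_lit 5, nat_lit 3, nat_lit 1],
 [nat_lit 9, nat_lit 5, nat_lit 2, nat_lit 1],
 [nat_lit 6, nat_lit 6, nat_lit 9, nat_lit 6, nat_lit 6, nat_lit 5, nat_lit 2, nat_lit 1],
 [nat_lit 9, nat_lit 6, nat_lit 9, nat_lit 7, nat_lit 7, nat_lit 7, nat_lit 4, nat_lit 3, nat_lit 1],
 [nat_lit 8, nat_lit 6, nat_lit 6, nat_lit 5, nat_lit 2],
 [nat_lit 9, nat_lit 6, nat_lit 9, nat_lit 7, nat_lit 3],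
 [nat_lit 6, nat_lit 9, nat_lit 6, nat_lit 5, nat_lit 2],
 [nat_lit 3],
 [nat_lit 6, nat_lit 6, nat_lit 9, nat_lit 7, nat_lit 7, nat_lit 4, nat_lit 3],
 [nat_lit 6, nat_lit 9, nat_lit 7, nat_lit 7, nat_lit 7, nat_lit 5, nat_lit 2],
 [nat_lit 6, nat_lit 6, nat_lit 2],
 [nat_lit 7, nat_lit 8, nat_lit 7, nat_lit 4, nat_lit 2],
 [nat_lit 9, nat_lit 6, nat_lit 9, nat_lit 6, nat_lit 2],
 [nat_lit 7, nat_lit 8, nat_lit 6, nat_lit 4, nat_lit 3],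
 [nat_lit 9, nat_lit 6, nat_lit 6, nat_lit 4, nat_lit 2],
 [nat_lit 6, nat_lit 9, nat_lit 7, nat_lit 5, nat_lit 3],
 [nat_lit 7, nat_lit 7, nat_lit 2],
 [nat_lit 9, nat_lit 7, nat_lit 7, nat_lit 4, nat_lit 2],
 [nat_lit 8, nat_lit 7, nat_lit 7, nat_lit 5, nat_lit 2],
 [nat_lit 7, nat_lit 8, nat_lit 7, nat_lit 7, nat_lit 7, nat_lit 4, nat_lit 3],
 [nat_lit 8, nat_lit 5, nat_lit 3],
 [nat_lit 6, nat_lit 6, nat_lit 9, nat_lit 4, nat_lit 2],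
 [nat_lit 9, nat_lit 4, nat_lit 3],
 [nat_lit 6, nat_lit 6, nat_lit 9, nat_lit 6, nat_lit 6, nat_lit 4, nat_lit 3],
 [nat_lit 9, nat_lit 6, nat_lit 9, nat_lit 7, nat_lit 7, nat_lit 7, nat_lit 2],
 [nat_lit 8, nat_lit 6, nat_lit 6, nat_lit 4, nat_lit 2],
 [nat_lit 9, nat_lit 6, nat_lit 9, nat_lit 7, nat_lit 5, nat_lit 3],
 [nat_lit 6, nat_lit 9, nat_lit 6, nat_lit 4, nat_lit 2],
 [nat_lit 5, nat_lit 3],
 [nat_lit 6, nat_lit 6, nat_lit 9, nat_lit 7, nat_lit 7, nat_lit 3],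
 [nat_lit 6, nat_lit 9, nat_lit 7, nat_lit 7, nat_lit 7, nat_lit 4, nat_lit 2],
 [nat_lit 6, nat_lit 6, nat_lit 5, nat_lit 2],
 [nat_lit 7, nat_lit 8, nat_lit 7, nat_lit 2],
 [nat_lit 9, nat_lit 6, nat_lit 9, nat_lit 6, nat_lit 5, nat_lit 2],
 [nat_lit 7, nat_lit 8, nat_lit 6, nat_lit 3],
 [nat_lit 9, nat_lit 6, nat_lit 6, nat_lit 2],
 [nat_lit 6, nat_lit 9, nat_lit 7, nat_lit 4, nat_lit 3],
 [nat_lit 7, nat_lit 7, nat_lit 5, nat_lit 2],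
 [nat_lit 9, nat_lit 7, nat_lit 7, nat_lit 2],
 [nat_lit 8, nat_lit 7, nat_lit 7, nat_lit 4, nat_lit 2],
 [nat_lit 7, nat_lit 8, nat_lit 7, nat_lit 7, nat_lit 7, nat_lit 3],
 [nat_lit 8, nat_lit 4, nat_lit 3],
 [nat_lit 6, nat_lit 6, nat_lit 9, nat_lit 2],
 [nat_lit 9, nat_lit 3],
 [nat_lit 6, nat_lit 6, nat_lit 9, nat_lit 6, nat_lit 6, nat_lit 3],
 [nat_lit 9, nat_lit 6, nat_lit 9, nat_lit 7, nat_lit 7, nat_lit 7, nat_lit 5, nat_lit 2],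
 [nat_lit 8, nat_lit 6, nat_lit 6, nat_lit 2],
 [nat_lit 9, nat_lit 6, nat_lit 9, nat_lit 7, nat_lit 4, nat_lit 3],
 [nat_lit 6, nat_lit 9, nat_lit 6, nat_lit 2],
 [nat_lit 4, nat_lit 3],
 [nat_lit 6, nat_lit 6, nat_lit 9, nat_lit 7, nat_lit 7, nat_lit 5, nat_lit 3],
 [nat_lit 6, nat_lit 9, nat_lit 7, nat_lit 7, nat_lit 7, nat_lit 2],
 [nat_lit 6, nat_lit 6, nat_lit 4, nat_lit 2],
 [nat_lit 7, nat_lit 8, nat_lit 7, nat_lit 5, nat_lit 2],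
 [nat_lit 9, nat_lit 6, nat_lit 9, nat_lit 6, nat_lit 4, nat_lit 2],
 [nat_lit 7, nat_lit 8, nat_lit 6, nat_lit 5, nat_lit 3],
 [nat_lit 9, nat_lit 6, nat_lit 6, nat_lit 5, nat_lit 2],
 [nat_lit 6, nat_lit 9, nat_lit 7, nat_lit 3],
 [nat_lit 7, nat_lit 7, nat_lit 4, nat_lit 2],
 [nat_lit 9, nat_lit 7, nat_lit 7, nat_lit 5, nat_lit 2],
 [nat_lit 8, nat_lit 7, nat_lit 7, nat_lit 2],
 [nat_lit 7, nat_lit 8, nat_lit 7, nat_lit 7, nat_lit 7, nat_lit 5, nat_lit 3],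
 [nat_lit 8, nat_lit 3],
 [nat_lit 6, nat_lit 6, nat_lit 9, nat_lit 5, nat_lit 2],
 [nat_lit 9, nat_lit 5, nat_lit 3],
 [nat_lit 6, nat_lit 6, nat_lit 9, nat_lit 6, nat_lit 6, nat_lit 5, nat_lit 3],
 [nat_lit 9, nat_lit 6, nat_lit 9, nat_lit 7, nat_lit 7, nat_lit 7, nat_lit 4, nat_lit 2],
 [nat_lit 7, nat_lit 8, nat_lit 6, nat_lit 6, nat_lit 3],
 [nat_lit 9, nat_lit 6, nat_lit 3],
 [nat_lit 6, nat_lit 6, nat_lit 9, nat_lit 6, nat_lit 2],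
 [nat_lit 9, nat_lit 7, nat_lit 2],
 [nat_lit 8, nat_lit 7, nat_lit 7, nat_lit 7, nat_lit 5, nat_lit 3],
 [nat_lit 9, nat_lit 6, nat_lit 9, nat_lit 7, nat_lit 7, nat_lit 4, nat_lit 2],
 [nat_lit 8, nat_lit 6, nat_lit 5, nat_lit 3],
 [nat_lit 6, nat_lit 6, nat_lit 9, nat_lit 7, nat_lit 3],
 [nat_lit 6, nat_lit 9, nat_lit 6, nat_lit 6, nat_lit 5, nat_lit 2],
 [nat_lit 6, nat_lit 4, nat_lit 3],
 [nat_lit 6, nat_lit 6, nat_lit 9, nat_lit 7, nat_lit 7, nat_lit 7, nat_lit 2],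
 [nat_lit 9, nat_lit 6, nat_lit 9, nat_lit 6, nat_lit 6, nat_lit 4, nat_lit 2],
 [nat_lit 7, nat_lit 8, nat_lit 2],
 [nat_lit 9, nat_lit 6, nat_lit 9, nat_lit 4, nat_lit 3],
 [nat_lit 6, nat_lit 9, nat_lit 5, nat_lit 3],
 [nat_lit 7, nat_lit 4, nat_lit 2],
 [nat_lit 9, nat_lit 7, nat_lit 7, nat_lit 7, nat_lit 3],
 [nat_lit 6, nat_lit 9, nat_lit 7, nat_lit 7, nat_lit 5, nat_lit 2],
 [nat_lit 7, nat_lit 7, nat_lit 7, nat_lit 4, nat_lit 3],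
 [nat_lit 7, nat_lit 8, nat_lit 7, nat_lit 7, nat_lit 3],
 [nat_lit 8, nat_lit 7, nat_lit 5, nat_lit 2],
 [nat_lit 7, nat_lit 8, nat_lit 6, nat_lit 6, nat_lit 4, nat_lit 3],
 [nat_lit 9, nat_lit 6, nat_lit 4, nat_lit 3],
 [nat_lit 6, nat_lit 6, nat_lit 9, nat_lit 6, nat_lit 4, nat_lit 2],
 [nat_lit 9, nat_lit 7, nat_lit 4, nat_lit 2],
 [nat_lit 8, nat_lit 7, nat_lit 7, nat_lit 7, nat_lit 3],
 [nat_lit 9, nat_lit 6, nat_lit 9, nat_lit 7, nat_lit 7, nat_lit 5, nat_lit 2],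
 [nat_lit 8, nat_lit 6, nat_lit 3],
 [nat_lit 6, nat_lit 6, nat_lit 9, nat_lit 7, nat_lit 4, nat_lit 3],
 [nat_lit 6, nat_lit 9, nat_lit 6, nat_lit 6, nat_lit 2],
 [nat_lit 6, nat_lit 5, nat_lit 3],
 [nat_lit 6, nat_lit 6, nat_lit 9, nat_lit 7, nat_lit 7, nat_lit 7, nat_lit 4, nat_lit 2],
 [nat_lit 9, nat_lit 6, nat_lit 9, nat_lit 6, nat_lit 6, nat_lit 5, nat_lit 2],
 [nat_lit 7, nat_lit 8, nat_lit 4, nat_lit 2],
 [nat_lit 9, nat_lit 6, nat_lit 9, nat_lit 5, nat_lit 3],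
 [nat_lit 6, nat_lit 9, nat_lit 3],
 [nat_lit 7, nat_lit 5, nat_lit 2],
 [nat_lit 9, nat_lit 7, nat_lit 7, nat_lit 7, nat_lit 4, nat_lit 3],
 [nat_lit 6, nat_lit 9, nat_lit 7, nat_lit 7, nat_lit 2],
 [nat_lit 7, nat_lit 7, nat_lit 7, nat_lit 5, nat_lit 3],
 [nat_lit 7, nat_lit 8, nat_lit 7, nat_lit 7, nat_lit 4, nat_lit 3],
 [nat_lit 8, nat_lit 7, nat_lit 2],
 [nat_lit 7, nat_lit 8, nat_lit 6, nat_lit 6, nat_lit 5, nat_lit 3],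
 [nat_lit 9, nat_lit 6, nat_lit 5, nat_lit 3],
 [nat_lit 6, nat_lit 6, nat_lit 9, nat_lit 6, nat_lit 5, nat_lit 2],
 [nat_lit 9, nat_lit 7, nat_lit 5, nat_lit 2],
 [nat_lit 8, nat_lit 7, nat_lit 7, nat_lit 7, nat_lit 4, nat_lit 3],
 [nat_lit 9, nat_lit 6, nat_lit 9, nat_lit 7, nat_lit 7, nat_lit 2],
 [nat_lit 8, nat_lit 6, nat_lit 4, nat_lit 3],
 [nat_lit 6, nat_lit 6, nat_lit 9, nat_lit 7, nat_lit 5, nat_lit 3],
 [nat_lit 6, nat_lit 9, nat_lit 6, nat_lit 6, nat_lit 4, nat_lit 2],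
 [nat_lit 6, nat_lit 3],
 [nat_lit 6, nat_lit 6, nat_lit 9, nat_lit 7, nat_lit 7, nat_lit 7, nat_lit 5, nat_lit 2],
 [nat_lit 9, nat_lit 6, nat_lit 9, nat_lit 6, nat_lit 6, nat_lit 2],
 [nat_lit 7, nat_lit 8, nat_lit 5, nat_lit 2],
 [nat_lit 9, nat_lit 6, nat_lit 9, nat_lit 3],
 [nat_lit 6, nat_lit 9, nat_lit 4, nat_lit 3],
 [nat_lit 7, nat_lit 2],
 [nat_lit 9, nat_lit 7, nat_lit 7, nat_lit 7, nat_lit 5, nat_lit 3],
 [nat_lit 6, nat_lit 9, nat_lit 7, nat_lit 7, nat_lit 4, nat_lit 2],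
 [nat_lit 7, nat_lit 7, nat_lit 7, nat_lit 3],
 [nat_lit 7, nat_lit 8, nat_lit 7, nat_lit 7, nat_lit 5, nat_lit 3],
 [nat_lit 8, nat_lit 7, nat_lit 4, nat_lit 2],
 [nat_lit 7, nat_lit 8, nat_lit 6, nat_lit 6, nat_lit 3, nat_lit 1],
 [nat_lit 9, nat_lit 6, nat_lit 3, nat_lit 1],
 [nat_lit 6, nat_lit 6, nat_lit 9, nat_lit 6, nat_lit 2, nat_lit 1],
 [nat_lit 9, nat_lit 7, nat_lit 2, nat_lit 1],
 [nat_lit 8, nat_lit 7, nat_lit 7, nat_lit 7, nat_lit 5, nat_lit 3, nat_lit 1],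
 [nat_lit 9, nat_lit 6, nat_lit 9, nat_lit 7, nat_lit 7, nat_lit 4, nat_lit 2, nat_lit 1],
 [nat_lit 8, nat_lit 6, nat_lit 5, nat_lit 3, nat_lit 1],
 [nat_lit 6, nat_lit 6, nat_lit 9, nat_lit 7, nat_lit 3, nat_lit 1],
 [nat_lit 6, nat_lit 9, nat_lit 6, nat_lit 6, nat_lit 5, nat_lit 2, nat_lit 1],
 [nat_lit 6, nat_lit 4, nat_lit 3, nat_lit 1],
 [nat_lit 6, nat_lit 6, nat_lit 9, nat_lit 7, nat_lit 7, nat_lit 7, nat_lit 2, nat_lit 1],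
 [nat_lit 9, nat_lit 6, nat_lit 9, nat_lit 6, nat_lit 6, nat_lit 4, nat_lit 2, nat_lit 1],
 [nat_lit 7, nat_lit 8, nat_lit 2, nat_lit 1],
 [nat_lit 9, nat_lit 6, nat_lit 9, nat_lit 4, nat_lit 3, nat_lit 1],
 [nat_lit 6, nat_lit 9, nat_lit 5, nat_lit 3, nat_lit 1],
 [nat_lit 7, nat_lit 4, nat_lit 2, nat_lit 1],
 [nat_lit 9, nat_lit 7, nat_lit 7, nat_lit 7, nat_lit 3, nat_lit 1],
 [nat_lit 6, nat_lit 9, nat_lit 7, nat_lit 7, nat_lit 5, nat_lit 2, nat_lit 1],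
 [nat_lit 7, nat_lit 7, nat_lit 7, nat_lit 4, nat_lit 3, nat_lit 1],
 [nat_lit 7, nat_lit 8, nat_lit 7, nat_lit 7, nat_lit 3, nat_lit 1],
 [nat_lit 8, nat_lit 7, nat_lit 5, nat_lit 2, nat_lit 1],
 [nat_lit 7, nat_lit 8, nat_lit 6, nat_lit 6, nat_lit 4, nat_lit 3, nat_lit 1],
 [nat_lit 9, nat_lit 6, nat_lit 4, nat_lit 3, nat_lit 1],
 [nat_lit 6, nat_lit 6, nat_lit 9, nat_lit 6, nat_lit 4, nat_lit 2, nat_lit 1],
 [nat_lit 9, nat_lit 7, nat_lit 4, nat_lit 2, nat_lit 1],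
 [nat_lit 8, nat_lit 7, nat_lit 7, nat_lit 7, nat_lit 3, nat_lit 1],
 [nat_lit 9, nat_lit 6, nat_lit 9, nat_lit 7, nat_lit 7, nat_lit 5, nat_lit 2, nat_lit 1],
 [nat_lit 8, nat_lit 6, nat_lit 3, nat_lit 1],
 [nat_lit 6, nat_lit 6, nat_lit 9, nat_lit 7, nat_lit 4, nat_lit 3, nat_lit 1],
 [nat_lit 6, nat_lit 9, nat_lit 6, nat_lit 6, nat_lit 2, nat_lit 1],
 [nat_lit 6, nat_lit 5, nat_lit 3, nat_lit 1],
 [nat_lit 6, nat_lit 6, nat_lit 9, nat_lit 7, nat_lit 7, nat_lit 7, nat_lit 4, nat_lit 2, nat_lit 1],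
 [nat_lit 9, nat_lit 6, nat_lit 9, nat_lit 6, nat_lit 6, nat_lit 5, nat_lit 2, nat_lit 1],
 [nat_lit 7, nat_lit 8, nat_lit 4, nat_lit 2, nat_lit 1],
 [nat_lit 9, nat_lit 6, nat_lit 9, nat_lit 5, nat_lit 3, nat_lit 1],
 [nat_lit 6, nat_lit 9, nat_lit 3, nat_lit 1],
 [nat_lit 7, nat_lit 5, nat_lit 2, nat_lit 1],
 [nat_lit 9, nat_lit 7, nat_lit 7, nat_lit 7, nat_lit 4, nat_lit 3, nat_lit 1],
 [nat_lit 6, nat_lit 9, nat_lit 7, nat_lit 7, nat_lit 2, nat_lit 1],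
 [nat_lit 7, nat_lit 7, nat_lit 7, nat_lit 5, nat_lit 3, nat_lit 1],
 [nat_lit 7, nat_lit 8, nat_lit 7, nat_lit 7, nat_lit 4, nat_lit 3, nat_lit 1],
 [nat_lit 8, nat_lit 7, nat_lit 2, nat_lit 1],
 [nat_lit 7, nat_lit 8, nat_lit 6, nat_lit 6, nat_lit 5, nat_lit 3, nat_lit 1],
 [nat_lit 9, nat_lit 6, nat_lit 5, nat_lit 3, nat_lit 1],
 [nat_lit 6, nat_lit 6, nat_lit 9, nat_lit 6, nat_lit 5, nat_lit 2, nat_lit 1],
 [nat_lit 9, nat_lit 7, nat_lit 5, nat_lit 2, nat_lit 1],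
 [nat_lit 8, nat_lit 7, nat_lit 7, nat_lit 7, nat_lit 4, nat_lit 3, nat_lit 1],
 [nat_lit 9, nat_lit 6, nat_lit 9, nat_lit 7, nat_lit 7, nat_lit 2, nat_lit 1],
 [nat_lit 8, nat_lit 6, nat_lit 4, nat_lit 3, nat_lit 1],
 [nat_lit 6, nat_lit 6, nat_lit 9, nat_lit 7, nat_lit 5, nat_lit 3, nat_lit 1],
 [nat_lit 6, nat_lit 9, nat_lit 6, nat_lit 6, nat_lit 4, nat_lit 2, nat_lit 1],
 [nat_lit 6, nat_lit 3, nat_lit 1],
 [nat_lit 6, nat_lit 6, nat_lit 9, nat_lit 7, nat_lit 7, nat_lit 7, nat_lit 5, nat_lit 2, nat_lit 1],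
 [nat_lit 9, nat_lit 6, nat_lit 9, nat_lit 6, nat_lit 6, nat_lit 2, nat_lit 1],
 [nat_lit 7, nat_lit 8, nat_lit 5, nat_lit 2, nat_lit 1],
 [nat_lit 9, nat_lit 6, nat_lit 9, nat_lit 3, nat_lit 1],
 [nat_lit 6, nat_lit 9, nat_lit 4, nat_lit 3, nat_lit 1],
 [nat_lit 7, nat_lit 2, nat_lit 1],
 [nat_lit 9, nat_lit 7, nat_lit 7, nat_lit 7, nat_lit 5, nat_lit 3, nat_lit 1],
 [nat_lit 6, nat_lit 9, nat_lit 7, nat_lit 7, nat_lit 4, nat_lit 2, nat_lit 1],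
 [nat_lit 7, nat_lit 7, nat_lit 7, nat_lit 3, nat_lit 1],
 [nat_lit 7, nat_lit 8, nat_lit 7, nat_lit 7, nat_lit 5, nat_lit 3, nat_lit 1],
 [nat_lit 8, nat_lit 7, nat_lit 4, nat_lit 2, nat_lit 1],
 [nat_lit 8, nat_lit 6, nat_lit 6, nat_lit 5],
 [nat_lit 9, nat_lit 6, nat_lit 9, nat_lit 7, nat_lit 1, nat_lit 1],
 [nat_lit 6, nat_lit 9, nat_lit 6, nat_lit 5],
 [nat_lit 1, nat_lit 1],
 [nat_lit 6, nat_lit 6, nat_lit 9, nat_lit 7, nat_lit 7, nat_lit 4, nat_lit 1, nat_lit 1],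
 [nat_lit 6, nat_lit 9, nat_lit 7, nat_lit 7, nat_lit 7, nat_lit 5],
 [nat_lit 6, nat_lit 6],
 [nat_lit 7, nat_lit 8, nat_lit 7, nat_lit 4],
 [nat_lit 9, nat_lit 6, nat_lit 9, nat_lit 6],
 [nat_lit 7, nat_lit 8, nat_lit 6, nat_lit 4, nat_lit 1, nat_lit 1],
 [nat_lit 9, nat_lit 6, nat_lit 6, nat_lit 4],
 [nat_lit 6, nat_lit 9, nat_lit 7, nat_lit 5, nat_lit 1, nat_lit 1],
 [nat_lit 7, nat_lit 7],
 [nat_lit 9, nat_lit 7, nat_lit 7, nat_lit 4],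
 [nat_lit 8, nat_lit 7, nat_lit 7, nat_lit 5],
 [nat_lit 7, nat_lit 8, nat_lit 7, nat_lit 7, nat_lit 7, nat_lit 4, nat_lit 1, nat_lit 1],
 [nat_lit 8, nat_lit 5, nat_lit 1, nat_lit 1],
 [nat_lit 6, nat_lit 6, nat_lit 9, nat_lit 4],
 [nat_lit 9, nat_lit 4, nat_lit 1, nat_lit 1],
 [nat_lit 6, nat_lit 6, nat_lit 9, nat_lit 6, nat_lit 6, nat_lit 4, nat_lit 1, nat_lit 1],
 [nat_lit 9, nat_lit 6, nat_lit 9, nat_lit 7, nat_lit 7, nat_lit 7],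
 [nat_lit 8, nat_lit 6, nat_lit 6, nat_lit 4],
 [nat_lit 9, nat_lit 6, nat_lit 9, nat_lit 7, nat_lit 5, nat_lit 1, nat_lit 1],
 [nat_lit 6, nat_lit 9, nat_lit 6, nat_lit 4],
 [nat_lit 5, nat_lit 1, nat_lit 1],
 [nat_lit 6, nat_lit 6, nat_lit 9, nat_lit 7, nat_lit 7, nat_lit 1, nat_lit 1],
 [nat_lit 6, nat_lit 9, nat_lit 7, nat_lit 7, nat_lit 7, nat_lit 4],
 [nat_lit 6, nat_lit 6, nat_lit 5],
 [nat_lit 7, nat_lit 8, nat_lit 7],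
 [nat_lit 9, nat_lit 6, nat_lit 9, nat_lit 6, nat_lit 5],
 [nat_lit 7, nat_lit 8, nat_lit 6, nat_lit 1, nat_lit 1],
 [nat_lit 9, nat_lit 6, nat_lit 6],
 [nat_lit 6, nat_lit 9, nat_lit 7, nat_lit 4, nat_lit 1, nat_lit 1],
 [nat_lit 7, nat_lit 7, nat_lit 5],
 [nat_lit 9, nat_lit 7, nat_lit 7],
 [nat_lit 8, nat_lit 7, nat_lit 7, nat_lit 4],
 [nat_lit 7, nat_lit 8, nat_lit 7, nat_lit 7, nat_lit 7, nat_lit 1, nat_lit 1],
 [nat_lit 8, nat_lit 4, nat_lit 1, nat_lit 1],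
 [nat_lit 6, nat_lit 6, nat_lit 9],
 [nat_lit 9, nat_lit 1, nat_lit 1],
 [nat_lit 6, nat_lit 6, nat_lit 9, nat_lit 6, nat_lit 6, nat_lit 1, nat_lit 1],
 [nat_lit 9, nat_lit 6, nat_lit 9, nat_lit 7, nat_lit 7, nat_lit 7, nat_lit 5],
 [nat_lit 8, nat_lit 6, nat_lit 6],
 [nat_lit 9, nat_lit 6, nat_lit 9, nat_lit 7, nat_lit 4, nat_lit 1, nat_lit 1],
 [nat_lit 6, nat_lit 9, nat_lit 6],
 [nat_lit 4, nat_lit 1, nat_lit 1],
 [nat_lit 6, nat_lit 6, nat_lit 9, nat_lit 7, nat_lit 7, nat_lit 5, nat_lit 1, nat_lit 1],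
 [nat_lit 6, nat_lit 9, nat_lit 7, nat_lit 7, nat_lit 7],
 [nat_lit 6, nat_lit 6, nat_lit 4],
 [nat_lit 7, nat_lit 8, nat_lit 7, nat_lit 5],
 [nat_lit 9, nat_lit 6, nat_lit 9, nat_lit 6, nat_lit 4],
 [nat_lit 7, nat_lit 8, nat_lit 6, nat_lit 5, nat_lit 1, nat_lit 1],
 [nat_lit 9, nat_lit 6, nat_lit 6, nat_lit 5],
 [nat_lit 6, nat_lit 9, nat_lit 7, nat_lit 1, nat_lit 1],
 [nat_lit 7, nat_lit 7, nat_lit 4],
 [nat_lit 9, nat_lit 7, nat_lit 7, nat_lit 5],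
 [nat_lit 8, nat_lit 7, nat_lit 7],
 [nat_lit 7, nat_lit 8, nat_lit 7, nat_lit 7, nat_lit 7, nat_lit 5, nat_lit 1, nat_lit 1],
 [nat_lit 8, nat_lit 1, nat_lit 1],
 [nat_lit 6, nat_lit 6, nat_lit 9, nat_lit 5],
 [nat_lit 9, nat_lit 5, nat_lit 1, nat_lit 1],
 [nat_lit 6, nat_lit 6, nat_lit 9, nat_lit 6, nat_lit 6, nat_lit 5, nat_lit 1, nat_lit 1],
 [nat_lit 9, nat_lit 6, nat_lit 9, nat_lit 7, nat_lit 7, nat_lit 7, nat_lit 4],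
 [nat_lit 8, nat_lit 6, nat_lit 6, nat_lit 5, nat_lit 1],
 [nat_lit 9, nat_lit 6, nat_lit 9, nat_lit 7, nat_lit 0],
 [nat_lit 6, nat_lit 9, nat_lit 6, nat_lit 5, nat_lit 1],
 [nat_lit 0],
 [nat_lit 6, nat_lit 6, nat_lit 9, nat_lit 7, nat_lit 7, nat_lit 4, nat_lit 0],
 [nat_lit 6, nat_lit 9, nat_lit 7, nat_lit 7, nat_lit 7, nat_lit 5, nat_lit 1],
 [nat_lit 6, nat_lit 6, nat_lit 1],
 [nat_lit 7, nat_lit 8, nat_lit 7, nat_lit 4, nat_lit 1],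
 [nat_lit 9, nat_lit 6, nat_lit 9, nat_lit 6, nat_lit 1],
 [nat_lit 7, nat_lit 8, nat_lit 6, nat_lit 4, nat_lit 0],
 [nat_lit 9, nat_lit 6, nat_lit 6, nat_lit 4, nat_lit 1],
 [nat_lit 6, nat_lit 9, nat_lit 7, nat_lit 5, nat_lit 0],
 [nat_lit 7, nat_lit 7, nat_lit 1],
 [nat_lit 9, nat_lit 7, nat_lit 7, nat_lit 4, nat_lit 1],
 [nat_lit 8, nat_lit 7, nat_lit 7, nat_lit 5, nat_lit 1],
 [nat_lit 7, nat_lit 8, nat_lit 7, nat_lit 7, nat_lit 7, nat_lit 4, nat_lit 0],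
 [nat_lit 8, nat_lit 5, nat_lit 0],
 [nat_lit 6, nat_lit 6, nat_lit 9, nat_lit 4, nat_lit 1],
 [nat_lit 9, nat_lit 4, nat_lit 0],
 [nat_lit 6, nat_lit 6, nat_lit 9, nat_lit 6, nat_lit 6, nat_lit 4, nat_lit 0],
 [nat_lit 9, nat_lit 6, nat_lit 9, nat_lit 7, nat_lit 7, nat_lit 7, nat_lit 1],
 [nat_lit 8, nat_lit 6, nat_lit 6, nat_lit 4, nat_lit 1],
 [nat_lit 9, nat_lit 6, nat_lit 9, nat_lit 7, nat_lit 5, nat_lit 0],
 [nat_lit 6, nat_lit 9, nat_lit 6, nat_lit 4, nat_lit 1],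
 [nat_lit 5, nat_lit 0],
 [nat_lit 6, nat_lit 6, nat_lit 9, nat_lit 7, nat_lit 7, nat_lit 0],
 [nat_lit 6, nat_lit 9, nat_lit 7, nat_lit 7, nat_lit 7, nat_lit 4, nat_lit 1],
 [nat_lit 6, nat_lit 6, nat_lit 5, nat_lit 1],
 [nat_lit 7, nat_lit 8, nat_lit 7, nat_lit 1],
 [nat_lit 9, nat_lit 6, nat_lit 9, nat_lit 6, nat_lit 5, nat_lit 1],
 [nat_lit 7, nat_lit 8, nat_lit 6, nat_lit 0],
 [nat_lit 9, nat_lit 6, nat_lit 6, nat_lit 1],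
 [nat_lit 6, nat_lit 9, nat_lit 7, nat_lit 4, nat_lit 0],
 [nat_lit 7, nat_lit 7, nat_lit 5, nat_lit 1],
 [nat_lit 9, nat_lit 7, nat_lit 7, nat_lit 1],
 [nat_lit 8, nat_lit 7, nat_lit 7, nat_lit 4, nat_lit 1],
 [nat_lit 7, nat_lit 8, nat_lit 7, nat_lit 7, nat_lit 7, nat_lit 0],
 [nat_lit 8, nat_lit 4, nat_lit 0],
 [nat_lit 6, nat_lit 6, nat_lit 9, nat_lit 1],
 [nat_lit 9, nat_lit 0],
 [nat_lit 6, nat_lit 6, nat_lit 9, nat_lit 6, nat_lit 6, nat_lit 0],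
 [nat_lit 9, nat_lit 6, nat_lit 9, nat_lit 7, nat_lit 7, nat_lit 7, nat_lit 5, nat_lit 1],
 [nat_lit 8, nat_lit 6, nat_lit 6, nat_lit 1],
 [nat_lit 9, nat_lit 6, nat_lit 9, nat_lit 7, nat_lit 4, nat_lit 0],
 [nat_lit 6, nat_lit 9, nat_lit 6, nat_lit 1],
 [nat_lit 4, nat_lit 0],
 [nat_lit 6, nat_lit 6, nat_lit 9, nat_lit 7, nat_lit 7, nat_lit 5, nat_lit 0],
 [nat_lit 6, nat_lit 9, nat_lit 7, nat_lit 7, nat_lit 7, nat_lit 1],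
 [nat_lit 6, nat_lit 6, nat_lit 4, nat_lit 1],
 [nat_lit 7, nat_lit 8, nat_lit 7, nat_lit 5, nat_lit 1],
 [nat_lit 9, nat_lit 6, nat_lit 9, nat_lit 6, nat_lit 4, nat_lit 1],
 [nat_lit 7, nat_lit 8, nat_lit 6, nat_lit 5, nat_lit 0],
 [nat_lit 9, nat_lit 6, nat_lit 6, nat_lit 5, nat_lit 1],
 [nat_lit 6, nat_lit 9, nat_lit 7, nat_lit 0],
 [nat_lit 7, nat_lit 7, nat_lit 4, nat_lit 1],
 [nat_lit 9, nat_lit 7, nat_lit 7, nat_lit 5, nat_lit 1],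
 [nat_lit 8, nat_lit 7, nat_lit 7, nat_lit 1],
 [nat_lit 7, nat_lit 8, nat_lit 7, nat_lit 7, nat_lit 7, nat_lit 5, nat_lit 0],
 [nat_lit 8, nat_lit 0],
 [nat_lit 6, nat_lit 6, nat_lit 9, nat_lit 5, nat_lit 1],
 [nat_lit 9, nat_lit 5, nat_lit 0],
 [nat_lit 6, nat_lit 6, nat_lit 9, nat_lit 6, nat_lit 6, nat_lit 5, nat_lit 0],
 [nat_lit 9, nat_lit 6, nat_lit 9, nat_lit 7, nat_lit 7, nat_lit 7, nat_lit 4, nat_lit 1],
 [nat_lit 7, nat_lit 8, nat_lit 6, nat_lit 6, nat_lit 1],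
 [nat_lit 9, nat_lit 6, nat_lit 1],
 [nat_lit 6, nat_lit 6, nat_lit 9, nat_lit 6, nat_lit 0],
 [nat_lit 9, nat_lit 7, nat_lit 0],
 [nat_lit 8, nat_lit 7, nat_lit 7, nat_lit 7, nat_lit 5, nat_lit 1],
 [nat_lit 9, nat_lit 6, nat_lit 9, nat_lit 7, nat_lit 7, nat_lit 4, nat_lit 0],
 [nat_lit 8, nat_lit 6, nat_lit 5, nat_lit 1],
 [nat_lit 6, nat_lit 6, nat_lit 9, nat_lit 7, nat_lit 1],
 [nat_lit 6, nat_lit 9, nat_lit 6, nat_lit 6, nat_lit 5, nat_lit 0],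
 [nat_lit 6, nat_lit 4, nat_lit 1],
 [nat_lit 6, nat_lit 6, nat_lit 9, nat_lit 7, nat_lit 7, nat_lit 7, nat_lit 0],
 [nat_lit 9, nat_lit 6, nat_lit 9, nat_lit 6, nat_lit 6, nat_lit 4, nat_lit 0],
 [nat_lit 7, nat_lit 8, nat_lit 0],
 [nat_lit 9, nat_lit 6, nat_lit 9, nat_lit 4, nat_lit 1],
 [nat_lit 6, nat_lit 9, nat_lit 5, nat_lit 1],
 [nat_lit 7, nat_lit 4, nat_lit 0],
 [nat_lit 9, nat_lit 7, nat_lit 7, nat_lit 7, nat_lit 1],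
 [nat_lit 6, nat_lit 9, nat_lit 7, nat_lit 7, nat_lit 5, nat_lit 0],
 [nat_lit 7, nat_lit 7, nat_lit 7, nat_lit 4, nat_lit 1],
 [nat_lit 7, nat_lit 8, nat_lit 7, nat_lit 7, nat_lit 1],
 [nat_lit 8, nat_lit 7, nat_lit 5, nat_lit 0],
 [nat_lit 7, nat_lit 8, nat_lit 6, nat_lit 6, nat_lit 4, nat_lit 1],
 [nat_lit 9, nat_lit 6, nat_lit 4, nat_lit 1],
 [nat_lit 6, nat_lit 6, nat_lit 9, nat_lit 6, nat_lit 4, nat_lit 0],
 [nat_lit 9, nat_lit 7, nat_lit 4, nat_lit 0],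
 [nat_lit 8, nat_lit 7, nat_lit 7, nat_lit 7, nat_lit 1],
 [nat_lit 9, nat_lit 6, nat_lit 9, nat_lit 7, nat_lit 7, nat_lit 5, nat_lit 0],
 [nat_lit 8, nat_lit 6, nat_lit 1],
 [nat_lit 6, nat_lit 6, nat_lit 9, nat_lit 7, nat_lit 4, nat_lit 1],
 [nat_lit 6, nat_lit 9, nat_lit 6, nat_lit 6, nat_lit 0],
 [nat_lit 6, nat_lit 5, nat_lit 1],
 [nat_lit 6, nat_lit 6, nat_lit 9, nat_lit 7, nat_lit 7, nat_lit 7, nat_lit 4, nat_lit 0],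
 [nat_lit 9, nat_lit 6, nat_lit 9, nat_lit 6, nat_lit 6, nat_lit 5, nat_lit 0],
 [nat_lit 7, nat_lit 8, nat_lit 4, nat_lit 0],
 [nat_lit 9, nat_lit 6, nat_lit 9, nat_lit 5, nat_lit 1],
 [nat_lit 6, nat_lit 9, nat_lit 1],
 [nat_lit 7, nat_lit 5, nat_lit 0],
 [nat_lit 9, nat_lit 7, nat_lit 7, nat_lit 7, nat_lit 4, nat_lit 1],
 [nat_lit 6, nat_lit 9, nat_lit 7, nat_lit 7, nat_lit 0],
 [nat_lit 7, nat_lit 7, nat_lit 7, nat_lit 5, nat_lit 1],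
 [nat_lit 7, nat_lit 8, nat_lit 7, nat_lit 7, nat_lit 4, nat_lit 1],
 [nat_lit 8, nat_lit 7, nat_lit 0],
 [nat_lit 7, nat_lit 8, nat_lit 6, nat_lit 6, nat_lit 5, nat_lit 1],
 [nat_lit 9, nat_lit 6, nat_lit 5, nat_lit 1],
 [nat_lit 6, nat_lit 6, nat_lit 9, nat_lit 6, nat_lit 5, nat_lit 0],
 [nat_lit 9, nat_lit 7, nat_lit 5, nat_lit 0],
 [nat_lit 8, nat_lit 7, nat_lit 7, nat_lit 7, nat_lit 4, nat_lit 1],
 [nat_lit 9, nat_lit 6, nat_lit 9, nat_lit 7, nat_lit 7, nat_lit 0],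
 [nat_lit 8, nat_lit 6, nat_lit 4, nat_lit 1],
 [nat_lit 6, nat_lit 6, nat_lit 9, nat_lit 7, nat_lit 5, nat_lit 1],
 [nat_lit 6, nat_lit 9, nat_lit 6, nat_lit 6, nat_lit 4, nat_lit 0],
 [nat_lit 6, nat_lit 1],
 [nat_lit 6, nat_lit 6, nat_lit 9, nat_lit 7, nat_lit 7, nat_lit 7, nat_lit 5, nat_lit 0],
 [nat_lit 9, nat_lit 6, nat_lit 9, nat_lit 6, nat_lit 6, nat_lit 0],
 [nat_lit 7, nat_lit 8, nat_lit 5, nat_lit 0],
 [nat_lit 9, nat_lit 6, nat_lit 9, nat_lit 1],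
 [nat_lit 6, nat_lit 9, nat_lit 4, nat_lit 1],
 [nat_lit 7, nat_lit 0],
 [nat_lit 9, nat_lit 7, nat_lit 7, nat_lit 7, nat_lit 5, nat_lit 1],
 [nat_lit 6, nat_lit 9, nat_lit 7, nat_lit 7, nat_lit 4, nat_lit 0],
 [nat_lit 7, nat_lit 7, nat_lit 7, nat_lit 1],
 [nat_lit 7, nat_lit 8, nat_lit 7, nat_lit 7, nat_lit 5, nat_lit 1],
 [nat_lit 8, nat_lit 7, nat_lit 4, nat_lit 0],
 [nat_lit 7, nat_lit 8, nat_lit 6, nat_lit 6, nat_lit 1, nat_lit 1],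
 [nat_lit 9, nat_lit 6, nat_lit 1, nat_lit 1],
 [nat_lit 6, nat_lit 6, nat_lit 9, nat_lit 6],
 [nat_lit 9, nat_lit 7],
 [nat_lit 8, nat_lit 7, nat_lit 7, nat_lit 7, nat_lit 5, nat_lit 1, nat_lit 1],
 [nat_lit 9, nat_lit 6, nat_lit 9, nat_lit 7, nat_lit 7, nat_lit 4],
 [nat_lit 8, nat_lit 6, nat_lit 5, nat_lit 1, nat_lit 1],
 [nat_lit 6, nat_lit 6, nat_lit 9, nat_lit 7, nat_lit 1, nat_lit 1],
 [nat_lit 6, nat_lit 9, nat_lit 6, nat_lit 6, nat_lit 5],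
 [nat_lit 6, nat_lit 4, nat_lit 1, nat_lit 1],
 [nat_lit 6, nat_lit 6, nat_lit 9, nat_lit 7, nat_lit 7, nat_lit 7],
 [nat_lit 9, nat_lit 6, nat_lit 9, nat_lit 6, nat_lit 6, nat_lit 4],
 [nat_lit 7, nat_lit 8],
 [nat_lit 9, nat_lit 6, nat_lit 9, nat_lit 4, nat_lit 1, nat_lit 1],
 [nat_lit 6, nat_lit 9, nat_lit 5, nat_lit 1, nat_lit 1],
 [nat_lit 7, nat_lit 4],
 [nat_lit 9, nat_lit 7, nat_lit 7, nat_lit 7, nat_lit 1, nat_lit 1],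
 [nat_lit 6, nat_lit 9, nat_lit 7, nat_lit 7, nat_lit 5],
 [nat_lit 7, nat_lit 7, nat_lit 7, nat_lit 4, nat_lit 1, nat_lit 1],
 [nat_lit 7, nat_lit 8, nat_lit 7, nat_lit 7, nat_lit 1, nat_lit 1],
 [nat_lit 8, nat_lit 7, nat_lit 5],
 [nat_lit 7, nat_lit 8, nat_lit 6, nat_lit 6, nat_lit 4, nat_lit 1, nat_lit 1],
 [nat_lit 9, nat_lit 6, nat_lit 4, nat_lit 1, nat_lit 1],
 [nat_lit 6, nat_lit 6, nat_lit 9, nat_lit 6, nat_lit 4],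
 [nat_lit 9, nat_lit 7, nat_lit 4],
 [nat_lit 8, nat_lit 7, nat_lit 7, nat_lit 7, nat_lit 1, nat_lit 1],
 [nat_lit 9, nat_lit 6, nat_lit 9, nat_lit 7, nat_lit 7, nat_lit 5],
 [nat_lit 8, nat_lit 6, nat_lit 1, nat_lit 1],
 [nat_lit 6, nat_lit 6, nat_lit 9, nat_lit 7, nat_lit 4, nat_lit 1, nat_lit 1],
 [nat_lit 6, nat_lit 9, nat_lit 6, nat_lit 6],
 [nat_lit 6, nat_lit 5, nat_lit 1, nat_lit 1],
 [nat_lit 6, nat_lit 6, nat_lit 9, nat_lit 7, nat_lit 7, nat_lit 7, nat_lit 4],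
 [nat_lit 9, nat_lit 6, nat_lit 9, nat_lit 6, nat_lit 6, nat_lit 5],
 [nat_lit 7, nat_lit 8, nat_lit 4],
 [nat_lit 9, nat_lit 6, nat_lit 9, nat_lit 5, nat_lit 1, nat_lit 1],
 [nat_lit 6, nat_lit 9, nat_lit 1, nat_lit 1],
 [nat_lit 7, nat_lit 5],
 [nat_lit 9, nat_lit 7, nat_lit 7, nat_lit 7, nat_lit 4, nat_lit 1, nat_lit 1],
 [nat_lit 6, nat_lit 9, nat_lit 7, nat_lit 7],
 [nat_lit 7, nat_lit 7, nat_lit 7, nat_lit 5, nat_lit 1, nat_lit 1],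
 [nat_lit 7, nat_lit 8, nat_lit 7, nat_lit 7, nat_lit 4, nat_lit 1, nat_lit 1],
 [nat_lit 8, nat_lit 7],
 [nat_lit 7, nat_lit 8, nat_lit 6, nat_lit 6, nat_lit 5, nat_lit 1, nat_lit 1],
 [nat_lit 9, nat_lit 6, nat_lit 5, nat_lit 1, nat_lit 1],
 [nat_lit 6, nat_lit 6, nat_lit 9, nat_lit 6, nat_lit 5],
 [nat_lit 9, nat_lit 7, nat_lit 5],
 [nat_lit 8, nat_lit 7, nat_lit 7, nat_lit 7, nat_lit 4, nat_lit 1, nat_lit 1],
 [nat_lit 9, nat_lit 6, nat_lit 9, nat_lit 7, nat_lit 7],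
 [nat_lit 8, nat_lit 6, nat_lit 4, nat_lit 1, nat_lit 1],
 [nat_lit 6, nat_lit 6, nat_lit 9, nat_lit 7, nat_lit 5, nat_lit 1, nat_lit 1],
 [nat_lit 6, nat_lit 9, nat_lit 6, nat_lit 6, nat_lit 4],
 [nat_lit 6, nat_lit 1, nat_lit 1],
 [nat_lit 6, nat_lit 6, nat_lit 9, nat_lit 7, nat_lit 7, nat_lit 7, nat_lit 5],
 [nat_lit 9, nat_lit 6, nat_lit 9, nat_lit 6, nat_lit 6],
 [nat_lit 7, nat_lit 8, nat_lit 5],
 [nat_lit 9, nat_lit 6, nat_lit 9, nat_lit 1, nat_lit 1],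
 [nat_lit 6, nat_lit 9, nat_lit 4, nat_lit 1, nat_lit 1],
 [nat_lit 7],
 [nat_lit 9, nat_lit 7, nat_lit 7, nat_lit 7, nat_lit 5, nat_lit 1, nat_lit 1],
 [nat_lit 6, nat_lit 9, nat_lit 7, nat_lit 7, nat_lit 4],
 [nat_lit 7, nat_lit 7, nat_lit 7, nat_lit 1, nat_lit 1],
 [nat_lit 7, nat_lit 8, nat_lit 7, nat_lit 7, nat_lit 5, nat_lit 1, nat_lit 1],
 [nat_lit 8, nat_lit 7, nat_lit 4],
 [nat_lit 8, nat_lit 6, nat_lit 6, nat_lit 5, nat_lit 2, nat_lit 1],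
 [nat_lit 9, nat_lit 6, nat_lit 9, nat_lit 7, nat_lit 3, nat_lit 1],
 [nat_lit 6, nat_lit 9, nat_lit 6, nat_lit 5, nat_lit 2, nat_lit 1],
 [nat_lit 3, nat_lit 1],
 [nat_lit 6, nat_lit 6, nat_lit 9, nat_lit 7, nat_lit 7, nat_lit 4, nat_lit 3, nat_lit 1],
 [nat_lit 6, nat_lit 9, nat_lit 7, nat_lit 7, nat_lit 7, nat_lit 5, nat_lit 2, nat_lit 1],
 [nat_lit 6, nat_lit 6, nat_lit 2, nat_lit 1],
 [nat_lit 7, nat_lit 8, nat_lit 7, nat_lit 4, nat_lit 2, nat_lit 1],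
 [nat_lit 9, nat_lit 6, nat_lit 9, nat_lit 6, nat_lit 2, nat_lit 1],
 [nat_lit 7, nat_lit 8, nat_lit 6, nat_lit 4, nat_lit 3, nat_lit 1],
 [nat_lit 9, nat_lit 6, nat_lit 6, nat_lit 4, nat_lit 2, nat_lit 1],
 [nat_lit 6, nat_lit 9, nat_lit 7, nat_lit 5, nat_lit 3, nat_lit 1],
 [nat_lit 7, nat_lit 7, nat_lit 2, nat_lit 1],
 [nat_lit 9, nat_lit 7, nat_lit 7, nat_lit 4, nat_lit 2, nat_lit 1],
 [nat_lit 8, nat_lit 7, nat_lit 7, nat_lit 5, nat_lit 2, nat_lit 1],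
 [nat_lit 7, nat_lit 8, nat_lit 7, nat_lit 7, nat_lit 7, nat_lit 4, nat_lit 3, nat_lit 1],
 [nat_lit 8, nat_lit 5, nat_lit 3, nat_lit 1],
 [nat_lit 6, nat_lit 6, nat_lit 9, nat_lit 4, nat_lit 2, nat_lit 1],
 [nat_lit 9, nat_lit 4, nat_lit 3, nat_lit 1],
 [nat_lit 6, nat_lit 6, nat_lit 9, nat_lit 6, nat_lit 6, nat_lit 4, nat_lit 3, nat_lit 1],
 [nat_lit 9, nat_lit 6, nat_lit 9, nat_lit 7, nat_lit 7, nat_lit 7, nat_lit 2, nat_lit 1],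
 [nat_lit 8, nat_lit 6, nat_lit 6, nat_lit 4, nat_lit 2, nat_lit 1],
 [nat_lit 9, nat_lit 6, nat_lit 9, nat_lit 7, nat_lit 5, nat_lit 3, nat_lit 1],
 [nat_lit 6, nat_lit 9, nat_lit 6, nat_lit 4, nat_lit 2, nat_lit 1],
 [nat_lit 5, nat_lit 3, nat_lit 1],
 [nat_lit 6, nat_lit 6, nat_lit 9, nat_lit 7, nat_lit 7, nat_lit 3, nat_lit 1],
 [nat_lit 6, nat_lit 9, nat_lit 7, nat_lit 7, nat_lit 7, nat_lit 4, nat_lit 2, nat_lit 1],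
 [nat_lit 6, nat_lit 6, nat_lit 5, nat_lit 2, nat_lit 1],
 [nat_lit 7, nat_lit 8, nat_lit 7, nat_lit 2, nat_lit 1],
 [nat_lit 9, nat_lit 6, nat_lit 9, nat_lit 6, nat_lit 5, nat_lit 2, nat_lit 1],
 [nat_lit 7, nat_lit 8, nat_lit 6, nat_lit 3, nat_lit 1],
 [nat_lit 9, nat_lit 6, nat_lit 6, nat_lit 2, nat_lit 1],
 [nat_lit 6, nat_lit 9, nat_lit 7, nat_lit 4, nat_lit 3, nat_lit 1],
 [nat_lit 7, nat_lit 7, nat_lit 5, nat_lit 2, nat_lit 1],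
 [nat_lit 9, nat_lit 7, nat_lit 7, nat_lit 2, nat_lit 1],
 [nat_lit 8, nat_lit 7, nat_lit 7, nat_lit 4, nat_lit 2, nat_lit 1],
 [nat_lit 7, nat_lit 8, nat_lit 7, nat_lit 7, nat_lit 7, nat_lit 3, nat_lit 1],
 [nat_lit 8, nat_lit 4, nat_lit 3, nat_lit 1],
 [nat_lit 6, nat_lit 6, nat_lit 9, nat_lit 2, nat_lit 1],
 [nat_lit 9, nat_lit 3, nat_lit 1],
 [nat_lit 6, nat_lit 6, nat_lit 9, nat_lit 6, nat_lit 6, nat_lit 3, nat_lit 1],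
 [nat_lit 9, nat_lit 6, nat_lit 9, nat_lit 7, nat_lit 7, nat_lit 7, nat_lit 5, nat_lit 2, nat_lit 1],
 [nat_lit 8, nat_lit 6, nat_lit 6, nat_lit 2, nat_lit 1],
 [nat_lit 9, nat_lit 6, nat_lit 9, nat_lit 7, nat_lit 4, nat_lit 3, nat_lit 1],
 [nat_lit 6, nat_lit 9, nat_lit 6, nat_lit 2, nat_lit 1],
 [nat_lit 4, nat_lit 3, nat_lit 1],
 [nat_lit 6, nat_lit 6, nat_lit 9, nat_lit 7, nat_lit 7, nat_lit 5, nat_lit 3, nat_lit 1],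
 [nat_lit 6, nat_lit 9, nat_lit 7, nat_lit 7, nat_lit 7, nat_lit 2, nat_lit 1],
 [nat_lit 6, nat_lit 6, nat_lit 4, nat_lit 2, nat_lit 1],
 [nat_lit 7, nat_lit 8, nat_lit 7, nat_lit 5, nat_lit 2, nat_lit 1],
 [nat_lit 9, nat_lit 6, nat_lit 9, nat_lit 6, nat_lit 4, nat_lit 2, nat_lit 1],
 [nat_lit 7, nat_lit 8, nat_lit 6, nat_lit 5, nat_lit 3, nat_lit 1],
 [nat_lit 9, nat_lit 6, nat_lit 6, nat_lit 5, nat_lit 2, nat_lit 1],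
 [nat_lit 6, nat_lit 9, nat_lit 7, nat_lit 3, nat_lit 1],
 [nat_lit 7, nat_lit 7, nat_lit 4, nat_lit 2, nat_lit 1],
 [nat_lit 9, nat_lit 7, nat_lit 7, nat_lit 5, nat_lit 2, nat_lit 1],
 [nat_lit 8, nat_lit 7, nat_lit 7, nat_lit 2, nat_lit 1],
 [nat_lit 7, nat_lit 8, nat_lit 7, nat_lit 7, nat_lit 7, nat_lit 5, nat_lit 3, nat_lit 1],
 [nat_lit 8, nat_lit 3, nat_lit 1],
 [nat_lit 6, nat_lit 6, nat_lit 9, nat_lit 5, nat_lit 2, nat_lit 1],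
 [nat_lit 9, nat_lit 5, nat_lit 3, nat_lit 1],
 [nat_lit 6, nat_lit 6, nat_lit 9, nat_lit 6, nat_lit 6, nat_lit 5, nat_lit 3, nat_lit 1],
 [nat_lit 9, nat_lit 6, nat_lit 9, nat_lit 7, nat_lit 7, nat_lit 7, nat_lit 4, nat_lit 2, nat_lit 1],
 [nat_lit 8, nat_lit 6, nat_lit 6, nat_lit 5, nat_lit 3],
 [nat_lit 9, nat_lit 6, nat_lit 9, nat_lit 7, nat_lit 2],
 [nat_lit 6, nat_lit 9, nat_lit 6, nat_lit 5, nat_lit 3],
 [nat_lit 2],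
 [nat_lit 6, nat_lit 6, nat_lit 9, nat_lit 7, nat_lit 7, nat_lit 4, nat_lit 2],
 [nat_lit 6, nat_lit 9, nat_lit 7, nat_lit 7, nat_lit 7, nat_lit 5, nat_lit 3],
 [nat_lit 6, nat_lit 6, nat_lit 3],
 [nat_lit 7, nat_lit 8, nat_lit 7, nat_lit 4, nat_lit 3],
 [nat_lit 9, nat_lit 6, nat_lit 9, nat_lit 6, nat_lit 3],
 [nat_lit 7, nat_lit 8, nat_lit 6, nat_lit 4, nat_lit 2],
 [nat_lit 9, nat_lit 6, nat_lit 6, nat_lit 4, nat_lit 3],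
 [nat_lit 6, nat_lit 9, nat_lit 7, nat_lit 5, nat_lit 2],
 [nat_lit 7, nat_lit 7, nat_lit 3],
 [nat_lit 9, nat_lit 7, nat_lit 7, nat_lit 4, nat_lit 3],
 [nat_lit 8, nat_lit 7, nat_lit 7, nat_lit 5, nat_lit 3],
 [nat_lit 7, nat_lit 8, nat_lit 7, nat_lit 7, nat_lit 7, nat_lit 4, nat_lit 2],
 [nat_lit 8, nat_lit 5, nat_lit 2],
 [nat_lit 6, nat_lit 6, nat_lit 9, nat_lit 4, nat_lit 3],
 [nat_lit 9, nat_lit 4, nat_lit 2],
 [nat_lit 6, nat_lit 6, nat_lit 9, nat_lit 6, nat_lit 6, nat_lit 4, nat_lit 2],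
 [nat_lit 9, nat_lit 6, nat_lit 9, nat_lit 7, nat_lit 7, nat_lit 7, nat_lit 3],
 [nat_lit 8, nat_lit 6, nat_lit 6, nat_lit 4, nat_lit 3],
 [nat_lit 9, nat_lit 6, nat_lit 9, nat_lit 7, nat_lit 5, nat_lit 2],
 [nat_lit 6, nat_lit 9, nat_lit 6, nat_lit 4, nat_lit 3],
 [nat_lit 5, nat_lit 2],
 [nat_lit 6, nat_lit 6, nat_lit 9, nat_lit 7, nat_lit 7, nat_lit 2],
 [nat_lit 6, nat_lit 9, nat_lit 7, nat_lit 7, nat_lit 7, nat_lit 4, nat_lit 3],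
 [nat_lit 6, nat_lit 6, nat_lit 5, nat_lit 3],
 [nat_lit 7, nat_lit 8, nat_lit 7, nat_lit 3],
 [nat_lit 9, nat_lit 6, nat_lit 9, nat_lit 6, nat_lit 5, nat_lit 3],
 [nat_lit 7, nat_lit 8, nat_lit 6, nat_lit 2],
 [nat_lit 9, nat_lit 6, nat_lit 6, nat_lit 3],
 [nat_lit 6, nat_lit 9, nat_lit 7, nat_lit 4, nat_lit 2],
 [nat_lit 7, nat_lit 7, nat_lit 5, nat_lit 3],
 [nat_lit 9, nat_lit 7, nat_lit 7, nat_lit 3],
 [nat_lit 8, nat_lit 7, nat_lit 7, nat_lit 4, nat_lit 3],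
 [nat_lit 7, nat_lit 8, nat_lit 7, nat_lit 7, nat_lit 7, nat_lit 2],
 [nat_lit 8, nat_lit 4, nat_lit 2],
 [nat_lit 6, nat_lit 6, nat_lit 9, nat_lit 3],
 [nat_lit 9, nat_lit 2],
 [nat_lit 6, nat_lit 6, nat_lit 9, nat_lit 6, nat_lit 6, nat_lit 2],
 [nat_lit 9, nat_lit 6, nat_lit 9, nat_lit 7, nat_lit 7, nat_lit 7, nat_lit 5, nat_lit 3],
 [nat_lit 8, nat_lit 6, nat_lit 6, nat_lit 3],
 [nat_lit 9, nat_lit 6, nat_lit 9, nat_lit 7, nat_lit 4, nat_lit 2],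
 [nat_lit 6, nat_lit 9, nat_lit 6, nat_lit 3],
 [nat_lit 4, nat_lit 2],
 [nat_lit 6, nat_lit 6, nat_lit 9, nat_lit 7, nat_lit 7, nat_lit 5, nat_lit 2],
 [nat_lit 6, nat_lit 9, nat_lit 7, nat_lit 7, nat_lit 7, nat_lit 3],
 [nat_lit 6, nat_lit 6, nat_lit 4, nat_lit 3],
 [nat_lit 7, nat_lit 8, nat_lit 7, nat_lit 5, nat_lit 3],
 [nat_lit 9, nat_lit 6, nat_lit 9, nat_lit 6, nat_lit 4, nat_lit 3],
 [nat_lit 7, nat_lit 8, nat_lit 6, nat_lit 5, nat_lit 2],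
 [nat_lit 9, nat_lit 6, nat_lit 6, nat_lit 5, nat_lit 3],
 [nat_lit 6, nat_lit 9, nat_lit 7, nat_lit 2],
 [nat_lit 7, nat_lit 7, nat_lit 4, nat_lit 3],
 [nat_lit 9, nat_lit 7, nat_lit 7, nat_lit 5, nat_lit 3],
 [nat_lit 8, nat_lit 7, nat_lit 7, nat_lit 3],
 [nat_lit 7, nat_lit 8, nat_lit 7, nat_lit 7, nat_lit 7, nat_lit 5, nat_lit 2],
 [nat_lit 8, nat_lit 2],
 [nat_lit 6, nat_lit 6, nat_lit 9, nat_lit 5, nat_lit 3],
 [nat_lit 9, nat_lit 5, nat_lit 2],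
 [nat_lit 6, nat_lit 6, nat_lit 9, nat_lit 6, nat_lit 6, nat_lit 5, nat_lit 2],
 [nat_lit 9, nat_lit 6, nat_lit 9, nat_lit 7, nat_lit 7, nat_lit 7, nat_lit 4, nat_lit 3],
 [nat_lit 7, nat_lit 8, nat_lit 6, nat_lit 6, nat_lit 2],
 [nat_lit 9, nat_lit 6, nat_lit 2],
 [nat_lit 6, nat_lit 6, nat_lit 9, nat_lit 6, nat_lit 3],
 [nat_lit 9, nat_lit 7, nat_lit 3],
 [nat_lit 8, nat_lit 7, nat_lit 7, nat_lit 7, nat_lit 5, nat_lit 2],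
 [nat_lit 9, nat_lit 6, nat_lit 9, nat_lit 7, nat_lit 7, nat_lit 4, nat_lit 3],
 [nat_lit 8, nat_lit 6, nat_lit 5, nat_lit 2],
 [nat_lit 6, nat_lit 6, nat_lit 9, nat_lit 7, nat_lit 2],
 [nat_lit 6, nat_lit 9, nat_lit 6, nat_lit 6, nat_lit 5, nat_lit 3],
 [nat_lit 6, nat_lit 4, nat_lit 2],
 [nat_lit 6, nat_lit 6, nat_lit 9, nat_lit 7, nat_lit 7, nat_lit 7, nat_lit 3],
 [nat_lit 9, nat_lit 6, nat_lit 9, nat_lit 6, nat_lit 6, nat_lit 4, nat_lit 3],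
 [nat_lit 7, nat_lit 8, nat_lit 3],
 [nat_lit 9, nat_lit 6, nat_lit 9, nat_lit 4, nat_lit 2],
 [nat_lit 6, nat_lit 9, nat_lit 5, nat_lit 2],
 [nat_lit 7, nat_lit 4, nat_lit 3],
 [nat_lit 9, nat_lit 7, nat_lit 7, nat_lit 7, nat_lit 2],
 [nat_lit 6, nat_lit 9, nat_lit 7, nat_lit 7, nat_lit 5, nat_lit 3],
 [nat_lit 7, nat_lit 7, nat_lit 7, nat_lit 4, nat_lit 2],
 [nat_lit 7, nat_lit 8, nat_lit 7, nat_lit 7, nat_lit 2],
 [nat_lit 8, nat_lit 7, nat_lit 5, nat_lit 3],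
 [nat_lit 7, nat_lit 8, nat_lit 6, nat_lit 6, nat_lit 4, nat_lit 2],
 [nat_lit 9, nat_lit 6, nat_lit 4, nat_lit 2],
 [nat_lit 6, nat_lit 6, nat_lit 9, nat_lit 6, nat_lit 4, nat_lit 3],
 [nat_lit 9, nat_lit 7, nat_lit 4, nat_lit 3],
 [nat_lit 8, nat_lit 7, nat_lit 7, nat_lit 7, nat_lit 2],
 [nat_lit 9, nat_lit 6, nat_lit 9, nat_lit 7, nat_lit 7, nat_lit 5, nat_lit 3],
 [nat_lit 8, nat_lit 6, nat_lit 2],
 [nat_lit 6, nat_lit 6, nat_lit 9, nat_lit 7, nat_lit 4, nat_lit 2],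
 [nat_lit 6, nat_lit 9, nat_lit 6, nat_lit 6, nat_lit 3],
 [nat_lit 6, nat_lit 5, nat_lit 2],
 [nat_lit 6, nat_lit 6, nat_lit 9, nat_lit 7, nat_lit 7, nat_lit 7, nat_lit 4, nat_lit 3],
 [nat_lit 9, nat_lit 6, nat_lit 9, nat_lit 6, nat_lit 6, nat_lit 5, nat_lit 3],
 [nat_lit 7, nat_lit 8, nat_lit 4, nat_lit 3],
 [nat_lit 9, nat_lit 6, nat_lit 9, nat_lit 5, nat_lit 2],
 [nat_lit 6, nat_lit 9, nat_lit 2],
 [nat_lit 7, nat_lit 5, nat_lit 3],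
 [nat_lit 9, nat_lit 7, nat_lit 7, nat_lit 7, nat_lit 4, nat_lit 2],
 [nat_lit 6, nat_lit 9, nat_lit 7, nat_lit 7, nat_lit 3],
 [nat_lit 7, nat_lit 7, nat_lit 7, nat_lit 5, nat_lit 2],
 [nat_lit 7, nat_lit 8, nat_lit 7, nat_lit 7, nat_lit 4, nat_lit 2],
 [nat_lit 8, nat_lit 7, nat_lit 3],
 [nat_lit 7, nat_lit 8, nat_lit 6, nat_lit 6, nat_lit 5, nat_lit 2],
 [nat_lit 9, nat_lit 6, nat_lit 5, nat_lit 2],
 [nat_lit 6, nat_lit 6, nat_lit 9, nat_lit 6, nat_lit 5, nat_lit 3],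
 [nat_lit 9, nat_lit 7, nat_lit 5, nat_lit 3],
 [nat_lit 8, nat_lit 7, nat_lit 7, nat_lit 7, nat_lit 4, nat_lit 2],
 [nat_lit 9, nat_lit 6, nat_lit 9, nat_lit 7, nat_lit 7, nat_lit 3],
 [nat_lit 8, nat_lit 6, nat_lit 4, nat_lit 2],
 [nat_lit 6, nat_lit 6, nat_lit 9, nat_lit 7, nat_lit 5, nat_lit 2],
 [nat_lit 6, nat_lit 9, nat_lit 6, nat_lit 6, nat_lit 4, nat_lit 3],
 [nat_lit 6, nat_lit 2],
 [nat_lit 6, nat_lit 6, nat_lit 9, nat_lit 7, nat_lit 7, nat_lit 7, nat_lit 5, nat_lit 3],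
 [nat_lit 9, nat_lit 6, nat_lit 9, nat_lit 6, nat_lit 6, nat_lit 3],
 [nat_lit 7, nat_lit 8, nat_lit 5, nat_lit 3],
 [nat_lit 9, nat_lit 6, nat_lit 9, nat_lit 2],
 [nat_lit 6, nat_lit 9, nat_lit 4, nat_lit 2],
 [nat_lit 7, nat_lit 3],
 [nat_lit 9, nat_lit 7, nat_lit 7, nat_lit 7, nat_lit 5, nat_lit 2],
 [nat_lit 6, nat_lit 9, nat_lit 7, nat_lit 7, nat_lit 4, nat_lit 3],
 [nat_lit 7, nat_lit 7, nat_lit 7, nat_lit 2],
 [nat_lit 7, nat_lit 8, nat_lit 7, nat_lit 7, nat_lit 5, nat_lit 2],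
 [nat_lit 8, nat_lit 7, nat_lit 4, nat_lit 3],
 [nat_lit 7, nat_lit 8, nat_lit 6, nat_lit 6, nat_lit 2, nat_lit 1],
 [nat_lit 9, nat_lit 6, nat_lit 2, nat_lit 1],
 [nat_lit 6, nat_lit 6, nat_lit 9, nat_lit 6, nat_lit 3, nat_lit 1],
 [nat_lit 9, nat_lit 7, nat_lit 3, nat_lit 1],
 [nat_lit 8, nat_lit 7, nat_lit 7, nat_lit 7, nat_lit 5, nat_lit 2, nat_lit 1],
 [nat_lit 9, nat_lit 6, nat_lit 9, nat_lit 7, nat_lit 7, nat_lit 4, nat_lit 3, nat_lit 1],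
 [nat_lit 8, nat_lit 6, nat_lit 5, nat_lit 2, nat_lit 1],
 [nat_lit 6, nat_lit 6, nat_lit 9, nat_lit 7, nat_lit 2, nat_lit 1],
 [nat_lit 6, nat_lit 9, nat_lit 6, nat_lit 6, nat_lit 5, nat_lit 3, nat_lit 1],
 [nat_lit 6, nat_lit 4, nat_lit 2, nat_lit 1],
 [nat_lit 6, nat_lit 6, nat_lit 9, nat_lit 7, nat_lit 7, nat_lit 7, nat_lit 3, nat_lit 1],
 [nat_lit 9, nat_lit 6, nat_lit 9, nat_lit 6, nat_lit 6, nat_lit 4, nat_lit 3, nat_lit 1],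
 [nat_lit 7, nat_lit 8, nat_lit 3, nat_lit 1],
 [nat_lit 9, nat_lit 6, nat_lit 9, nat_lit 4, nat_lit 2, nat_lit 1],
 [nat_lit 6, nat_lit 9, nat_lit 5, nat_lit 2, nat_lit 1],
 [nat_lit 7, nat_lit 4, nat_lit 3, nat_lit 1],
 [nat_lit 9, nat_lit 7, nat_lit 7, nat_lit 7, nat_lit 2, nat_lit 1],
 [nat_lit 6, nat_lit 9, nat_lit 7, nat_lit 7, nat_lit 5, nat_lit 3, nat_lit 1],
 [nat_lit 7, nat_lit 7, nat_lit 7, nat_lit 4, nat_lit 2, nat_lit 1],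
 [nat_lit 7, nat_lit 8, nat_lit 7, nat_lit 7, nat_lit 2, nat_lit 1],
 [nat_lit 8, nat_lit 7, nat_lit 5, nat_lit 3, nat_lit 1],
 [nat_lit 7, nat_lit 8, nat_lit 6, nat_lit 6, nat_lit 4, nat_lit 2, nat_lit 1],
 [nat_lit 9, nat_lit 6, nat_lit 4, nat_lit 2, nat_lit 1],
 [nat_lit 6, nat_lit 6, nat_lit 9, nat_lit 6, nat_lit 4, nat_lit 3, nat_lit 1],
 [nat_lit 9, nat_lit 7, nat_lit 4, nat_lit 3, nat_lit 1],
 [nat_lit 8, nat_lit 7, nat_lit 7, nat_lit 7, nat_lit 2, nat_lit 1],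
 [nat_lit 9, nat_lit 6, nat_lit 9, nat_lit 7, nat_lit 7, nat_lit 5, nat_lit 3, nat_lit 1],
 [nat_lit 8, nat_lit 6, nat_lit 2, nat_lit 1],
 [nat_lit 6, nat_lit 6, nat_lit 9, nat_lit 7, nat_lit 4, nat_lit 2, nat_lit 1],
 [nat_lit 6, nat_lit 9, nat_lit 6, nat_lit 6, nat_lit 3, nat_lit 1],
 [nat_lit 6, nat_lit 5, nat_lit 2, nat_lit 1],
 [nat_lit 6, nat_lit 6, nat_lit 9, nat_lit 7, nat_lit 7, nat_lit 7, nat_lit 4, nat_lit 3, nat_lit 1],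
 [nat_lit 9, nat_lit 6, nat_lit 9, nat_lit 6, nat_lit 6, nat_lit 5, nat_lit 3, nat_lit 1],
 [nat_lit 7, nat_lit 8, nat_lit 4, nat_lit 3, nat_lit 1],
 [nat_lit 9, nat_lit 6, nat_lit 9, nat_lit 5, nat_lit 2, nat_lit 1],
 [nat_lit 6, nat_lit 9, nat_lit 2, nat_lit 1],
 [nat_lit 7, nat_lit 5, nat_lit 3, nat_lit 1],
 [nat_lit 9, nat_lit 7, nat_lit 7, nat_lit 7, nat_lit 4, nat_lit 2, nat_lit 1],
 [nat_lit 6, nat_lit 9, nat_lit 7, nat_lit 7, nat_lit 3, nat_lit 1],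
 [nat_lit 7, nat_lit 7, nat_lit 7, nat_lit 5, nat_lit 2, nat_lit 1],
 [nat_lit 7, nat_lit 8, nat_lit 7, nat_lit 7, nat_lit 4, nat_lit 2, nat_lit 1],
 [nat_lit 8, nat_lit 7, nat_lit 3, nat_lit 1],
 [nat_lit 7, nat_lit 8, nat_lit 6, nat_lit 6, nat_lit 5, nat_lit 2, nat_lit 1],
 [nat_lit 9, nat_lit 6, nat_lit 5, nat_lit 2, nat_lit 1],
 [nat_lit 6, nat_lit 6, nat_lit 9, nat_lit 6, nat_lit 5, nat_lit 3, nat_lit 1],
 [nat_lit 9, nat_lit 7, nat_lit 5, nat_lit 3, nat_lit 1],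
 [nat_lit 8, nat_lit 7, nat_lit 7, nat_lit 7, nat_lit 4, nat_lit 2, nat_lit 1],
 [nat_lit 9, nat_lit 6, nat_lit 9, nat_lit 7, nat_lit 7, nat_lit 3, nat_lit 1],
 [nat_lit 8, nat_lit 6, nat_lit 4, nat_lit 2, nat_lit 1],
 [nat_lit 6, nat_lit 6, nat_lit 9, nat_lit 7, nat_lit 5, nat_lit 2, nat_lit 1],
 [nat_lit 6, nat_lit 9, nat_lit 6, nat_lit 6, nat_lit 4, nat_lit 3, nat_lit 1],
 [nat_lit 6, nat_lit 2, nat_lit 1],
 [nat_lit 6, nat_lit 6, nat_lit 9, nat_lit 7, nat_lit 7, nat_lit 7, nat_lit 5, nat_lit 3, nat_lit 1],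
 [nat_lit 9, nat_lit 6, nat_lit 9, nat_lit 6, nat_lit 6, nat_lit 3, nat_lit 1],
 [nat_lit 7, nat_lit 8, nat_lit 5, nat_lit 3, nat_lit 1],
 [nat_lit 9, nat_lit 6, nat_lit 9, nat_lit 2, nat_lit 1],
 [nat_lit 6, nat_lit 9, nat_lit 4, nat_lit 2, nat_lit 1],
 [nat_lit 7, nat_lit 3, nat_lit 1],
 [nat_lit 9, nat_lit 7, nat_lit 7, nat_lit 7, nat_lit 5, nat_lit 2, nat_lit 1],
 [nat_lit 6, nat_lit 9, nat_lit 7, nat_lit 7, nat_lit 4, nat_lit 3, nat_lit 1],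
 [nat_lit 7, nat_lit 7, nat_lit 7, nat_lit 2, nat_lit 1],
 [nat_lit 7, nat_lit 8, nat_lit 7, nat_lit 7, nat_lit 5, nat_lit 2, nat_lit 1],
 [nat_lit 8, nat_lit 7, nat_lit 4, nat_lit 3, nat_lit 1]]
theorem g2Wc : band (incr (fun w => keyB 29 (g2L.map Lev.b) (apL (nat_lit 5) (nat_lit 31) g2T w)) g2W 0) (Nat.ble (chainOrd 29 g2L) g2W.length) = true := by decide +kernel
def g2O : List ℕ := [3, 3, 7, 1, 3, 3, 3, 7, 3, 3, 7, 3, 3, 3, 7, 3, 3, 7, 3, 3, 7, 3, 3, 21, 3, 3, 3, 3, 21, 3, 3, 21, 3, 3, 3, 21, 3, 3, 21, 3,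
3, 21, 3, 3, 21, 3, 3, 3, 3, 21, 3, 3, 21, 3, 3, 3, 21, 3, 3, 21, 3, 3, 21, 12, 12, 28, 4, 12, 12, 12, 28, 12, 12, 28, 12, 12, 12, 28, 12, 12,
28, 12, 12, 28, 12, 12, 84, 12, 12, 12, 12, 84, 12, 12, 84, 12, 12, 12, 84, 12, 12, 84, 12, 12, 84, 12, 12, 84, 12, 12, 12, 12, 84, 12, 12, 84, 12, 12, 12, 84,
12, 12, 84, 12, 12, 84, 8, 24, 24, 8, 24, 24, 8, 24, 24, 24, 8, 24, 24, 8, 24, 24, 24, 8, 8, 24, 24, 8, 24, 24, 8, 24, 24, 8, 24, 24, 24, 8, 24, 24,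
8, 24, 24, 24, 8, 8, 24, 24, 8, 24, 24, 8, 24, 24, 8, 24, 24, 24, 8, 24, 24, 8, 24, 24, 24, 8, 8, 24, 24, 4, 12, 12, 4, 12, 12, 4, 12, 12, 12, 4,
12, 12, 4, 12, 12, 12, 4, 4, 12, 12, 4, 12, 12, 4, 12, 12, 4, 12, 12, 12, 4, 12, 12, 4, 12, 12, 12, 4, 4, 12, 12, 4, 12, 12, 4, 12, 12, 4, 12, 12,
12, 4, 12, 12, 4, 12, 12, 12, 4, 4, 12, 12, 12, 12, 28, 4, 12, 12, 12, 28, 12, 12, 28, 12, 12, 12, 28, 12, 12, 28, 12, 12, 28, 12, 12, 84, 12, 12, 12, 12,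
84, 12, 12, 84, 12, 12, 12, 84, 12, 12, 84, 12, 12, 84, 12, 12, 84, 12, 12, 12, 12, 84, 12, 12, 84, 12, 12, 12, 84, 12, 12, 84, 12, 12, 84, 12, 12, 28, 4, 12,
12, 12, 28, 12, 12, 28, 12, 12, 12, 28, 12, 12, 28, 12, 12, 28, 12, 12, 84, 12, 12, 12, 12, 84, 12, 12, 84, 12, 12, 12, 84, 12, 12, 84, 12, 12, 84, 12, 12, 84,
12, 12, 12, 12, 84, 12, 12, 84, 12, 12, 12, 84, 12, 12, 84, 12, 12, 84, 8, 24, 24, 8, 24, 24, 8, 24, 24, 24, 8, 24, 24, 8, 24, 24, 24, 8, 8, 24, 24, 8,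
24, 24, 8, 24, 24, 8, 24, 24, 24, 8, 24, 24, 8, 24, 24, 24, 8, 8, 24, 24, 8, 24, 24, 8, 24, 24, 8, 24, 24, 24, 8, 24, 24, 8, 24, 24, 24, 8, 8, 24,
24, 4, 12, 12, 4, 12, 12, 4, 12, 12, 12, 4, 12, 12, 4, 12, 12, 12, 4, 4, 12, 12, 4, 12, 12, 4, 12, 12, 4, 12, 12, 12, 4, 12, 12, 4, 12, 12, 12, 4,
4, 12, 12, 4, 12, 12, 4, 12, 12, 4, 12, 12, 12, 4, 12, 12, 4, 12, 12, 12, 4, 4, 12, 12, 6, 6, 14, 2, 6, 6, 6, 14, 6, 6, 14, 6, 6, 6, 14, 6,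
6, 14, 6, 6, 14, 6, 6, 42, 6, 6, 6, 6, 42, 6, 6, 42, 6, 6, 6, 42, 6, 6, 42, 6, 6, 42, 6, 6, 42, 6, 6, 6, 6, 42, 6, 6, 42, 6, 6, 6,
42, 6, 6, 42, 6, 6, 42, 12, 12, 28, 4, 12, 12, 12, 28, 12, 12, 28, 12, 12, 12, 28, 12, 12, 28, 12, 12, 28, 12, 12, 84, 12, 12, 12, 12, 84, 12, 12, 84, 12,
12, 12, 84, 12, 12, 84, 12, 12, 84, 12, 12, 84, 12, 12, 12, 12, 84, 12, 12, 84, 12, 12, 12, 84, 12, 12, 84, 12, 12, 84, 8, 24, 24, 8, 24, 24, 8, 24, 24, 24,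
8, 24, 24, 8, 24, 24, 24, 8, 8, 24, 24, 8, 24, 24, 8, 24, 24, 8, 24, 24, 24, 8, 24, 24, 8, 24, 24, 24, 8, 8, 24, 24, 8, 24, 24, 8, 24, 24, 8, 24,
24, 24, 8, 24, 24, 8, 24, 24, 24, 8, 8, 24, 24, 4, 12, 12, 4, 12, 12, 4, 12, 12, 12, 4, 12, 12, 4, 12, 12, 12, 4, 4, 12, 12, 4, 12, 12, 4, 12, 12,
4, 12, 12, 12, 4, 12, 12, 4, 12, 12, 12, 4, 4, 12, 12, 4, 12, 12, 4, 12, 12, 4, 12, 12, 12, 4, 12, 12, 4, 12, 12, 12, 4, 4, 12, 12, 12, 12, 28, 4,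
12, 12, 12, 28, 12, 12, 28, 12, 12, 12, 28, 12, 12, 28, 12, 12, 28, 12, 12, 84, 12, 12, 12, 12, 84, 12, 12, 84, 12, 12, 12, 84, 12, 12, 84, 12, 12, 84, 12, 12,
84, 12, 12, 12, 12, 84, 12, 12, 84, 12, 12, 12, 84, 12, 12, 84, 12, 12, 84, 12, 12, 28, 4, 12, 12, 12, 28, 12, 12, 28, 12, 12, 12, 28, 12, 12, 28, 12, 12, 28,
12, 12, 84, 12, 12, 12, 12, 84, 12, 12, 84, 12, 12, 12, 84, 12, 12, 84, 12, 12, 84, 12, 12, 84, 12, 12, 12, 12, 84, 12, 12, 84, 12, 12, 12, 84, 12, 12, 84, 12,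
12, 84, 8, 24, 24, 8, 24, 24, 8, 24, 24, 24, 8, 24, 24, 8, 24, 24, 24, 8, 8, 24, 24, 8, 24, 24, 8, 24, 24, 8, 24, 24, 24, 8, 24, 24, 8, 24, 24, 24,
8, 8, 24, 24, 8, 24, 24, 8, 24, 24, 8, 24, 24, 24, 8, 24, 24, 8, 24, 24, 24, 8, 8, 24, 24, 4, 12, 12, 4, 12, 12, 4, 12, 12, 12, 4, 12, 12, 4, 12,
12, 12, 4, 4, 12, 12, 4, 12, 12, 4, 12, 12, 4, 12, 12, 12, 4, 12, 12, 4, 12, 12, 12, 4, 4, 12, 12, 4, 12, 12, 4, 12, 12, 4, 12, 12, 12, 4, 12, 12,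
4, 12, 12, 12, 4, 4, 12, 12]
theorem g2o : g2W.map (fun w => ordF (g2L.map Lev.b) 40 (apL (nat_lit 5) (nat_lit 31) g2T w)) = g2O := by decide +kernel
noncomputable def g2at0 : ℕ := (nat_lit 0x1cdeb38bdab49ca307b9ab53128398a418820)
noncomputable def g2at1 : ℕ := (nat_lit 0x1cdeb38bdab49ca307b9aa62d28398a418820)
noncomputable def g2at2 : ℕ := (nat_lit 0x1cdeb38bdab49ca307b9ab530e94146131040)
noncomputable def g2at3 : ℕ := (nat_lit 0x1cdeb38bdab49ca307b9aa62d0748cc228480)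
noncomputable def g2at4 : ℕ := (nat_lit 0x1cdeb38bdab49ca307b9aa62ce9400a309882)
noncomputable def g2at5 : ℕ := (nat_lit 0x1cdeb38bdab49ca307b9ab53107488a120066)
noncomputable def g2aT : Tr ℕ := (.node (nat_lit 3) (.node (nat_lit 1) (.leaf g2at0) (.node (nat_lit 2) (.leaf g2at1) (.leaf g2at2))) (.node (nat_lit 4) (.leaf g2at3) (.node (nat_lit 5) (.leaf g2at4) (.leaf g2at5))))
noncomputable def g2aR : Tr (List ℕ) := (.node (nat_lit 5) (.node (nat_lit 2) (.node (nat_lit 1) (.leaf [nat_lit 2, nat_lit 0, nat_lit 3, nat_lit 1]) (.leaf [nat_lit 0, nat_lit 1])) (.node (nat_lit 3) (.leaf [nat_lit 4, nat_lit 0, nat_lit 5, nat_lit 1]) (.node (nat_lit 4) (.leaf [nat_lit 2, nat_lit 3]) (.leaf [nat_lit 2, nat_lit 2, nat_lit 2]))))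
 (.node (nat_lit 7) (.node (nat_lit 6) (.leaf [nat_lit 4, nat_lit 5]) (.leaf [nat_lit 4, nat_lit 4, nat_lit 4])) (.node (nat_lit 8) (.leaf [nat_lit 4, nat_lit 2, nat_lit 4, nat_lit 2, nat_lit 4, nat_lit 2]) (.node (nat_lit 9) (.leaf [nat_lit 1, nat_lit 3, nat_lit 4, nat_lit 3, nat_lit 4, nat_lit 2, nat_lit 5]) (.leaf [nat_lit 0, nat_lit 0, nat_lit 0])))))
noncomputable def g2aL0 : Lev := ⟨(nat_lit 0), (nat_lit 6), (nat_lit 0x5040403060300), (nat_lit 0x1020202010200),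
 (.node (nat_lit 3) (.node (nat_lit 1) (.leaf (nat_lit 0x2000400050006000300030000))
 (.node (nat_lit 2) (.leaf (nat_lit 0x3000300060005000200040000))
 (.leaf (nat_lit 0x1000200020000000100000000))))
 (.node (nat_lit 4) (.leaf (nat_lit 0x1000000000003000100030000))
 (.node (nat_lit 5) (.leaf (nat_lit 0x200020003000200040001))
 (.leaf (nat_lit 0x3000300050003000000040001))))),
 (.node (nat_lit 3) (.node (nat_lit 1) (.leaf (nat_lit 0x201000100000001000100000100000001000000))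
 (.node (nat_lit 2) (.leaf (nat_lit 0x101000003000101000003000203000101000000))
 (.leaf (nat_lit 0x300000400000400000000000300000000000000))))
 (.node (nat_lit 4) (.leaf (nat_lit 0x301000000000000000301000301000301000000))
 (.node (nat_lit 5) (.leaf (nat_lit 0x804000702000700000601000602000500))
 (.leaf (nat_lit 0x501000501000501000501000000000501000501)))))⟩
noncomputable def g2aL1 : Lev := ⟨(nat_lit 1), (nat_lit 4), (nat_lit 0x300040000), (nat_lit 0x100010000),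
 (.node (nat_lit 2) (.node (nat_lit 1) (.leaf (nat_lit 0x20000000300000000))
 (.leaf (nat_lit 0x30000000200000000)))
 (.node (nat_lit 3) (.leaf (nat_lit 0x200010000))
 (.leaf (nat_lit 0x30000000000010000)))),
 (.node (nat_lit 2) (.node (nat_lit 1) (.leaf (nat_lit 0x1000000000100000000000000))
 (.leaf (nat_lit 0x101000000000003000000000000)))
 (.node (nat_lit 3) (.leaf (nat_lit 0x401000300000000))
 (.leaf (nat_lit 0x301000000000000000301000000))))⟩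
noncomputable def g2aL2 : Lev := ⟨(nat_lit 10), (nat_lit 2), (nat_lit 0x2010000000000000000000000), (nat_lit 0x1010000000000000000000000),
 (.node (nat_lit 1) (.leaf (nat_lit 0x2000000010000000000000000000000000000000000000000))
 (.leaf (nat_lit 0x300010000000000000000000000000000000000000000))),
 (.node (nat_lit 1) (.leaf (nat_lit 0x901000000000100000000000000000000000000000000000000000000000000000000000000))
 (.leaf (nat_lit 0x101000101000000000000000000000000000000000000000000000000000000000000)))⟩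
noncomputable def g2aL : List Lev := [g2aL0, g2aL1, g2aL2]
noncomputable def g2aE : Tr (List ℕ) := (.node (nat_lit 3) (.node (nat_lit 1) (.leaf [nat_lit 4]) (.node (nat_lit 2) (.leaf [nat_lit 5]) (.leaf [nat_lit 6, nat_lit 6, nat_lit 4, nat_lit 1, nat_lit 1]))) (.node (nat_lit 4) (.leaf [nat_lit 7, nat_lit 7, nat_lit 5, nat_lit 1, nat_lit 1]) (.node (nat_lit 5) (.leaf [nat_lit 9, nat_lit 7, nat_lit 7, nat_lit 1, nat_lit 1]) (.leaf [nat_lit 6, nat_lit 9, nat_lit 7]))))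
theorem g2aw_0 : g2aT.all2 (fun c w => isProd 29 (nat_lit 5) (nat_lit 31) g2T c w) g2aE = true := by decide +kernel
theorem g2aw : g2aT.all2 (fun c w => isProd 29 (nat_lit 5) (nat_lit 31) g2T c w) g2aE = true := g2aw_0
theorem g2alev0 : levChk 29 (nat_lit 5) (nat_lit 31) g2aT g2aR g2aL0 g2aL1.N = true := by decide +kernel
theorem g2alev1 : levChk 29 (nat_lit 5) (nat_lit 31) g2aT g2aR g2aL1 g2aL2.N = true := by decide +kernel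
theorem g2alev2 : levChk 29 (nat_lit 5) (nat_lit 31) g2aT g2aR g2aL2 0 = true := by decide +kernel
theorem g2achain : Chain 29 (nat_lit 5) (nat_lit 31) g2aT g2aR g2aL := chain_cons g2alev0 <| chain_cons g2alev1 <| chain_one g2alev2
theorem g2asd : band (selChk g2aT g2aT (topN g2aL)) (g2aR.all fun w => eqB (g2L.map Lev.b) (apL (nat_lit 5) (nat_lit 31) g2aT w) fun a => a) = true := by decide +kernel
theorem g2atc : tchainChk 29 (nat_lit 5) (nat_lit 31) g2aT g2aL = true := by decide +kernel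
noncomputable def g2anW : Tr (List ℕ) := (.node (nat_lit 30) (.node (nat_lit 15) (.node (nat_lit 7) (.node (nat_lit 3) (.node (nat_lit 1) (.leaf [nat_lit 0]) (.node (nat_lit 2) (.leaf [nat_lit 1]) (.leaf [nat_lit 2])))
 (.node (nat_lit 5) (.node (nat_lit 4) (.leaf [nat_lit 3]) (.leaf [nat_lit 4])) (.node (nat_lit 6) (.leaf [nat_lit 5]) (.leaf [nat_lit 0]))))
 (.node (nat_lit 11) (.node (nat_lit 9) (.node (nat_lit 8) (.leaf [nat_lit 1]) (.leaf [nat_lit 2])) (.node (nat_lit 10) (.leaf [nat_lit 3]) (.leaf [nat_lit 4])))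
 (.node (nat_lit 13) (.node (nat_lit 12) (.leaf [nat_lit 5]) (.leaf [nat_lit 0])) (.node (nat_lit 14) (.leaf [nat_lit 1]) (.leaf [nat_lit 2])))))
 (.node (nat_lit 22) (.node (nat_lit 18) (.node (nat_lit 16) (.leaf [nat_lit 3]) (.node (nat_lit 17) (.leaf [nat_lit 4]) (.leaf [nat_lit 5])))
 (.node (nat_lit 20) (.node (nat_lit 19) (.leaf [nat_lit 0]) (.leaf [nat_lit 1])) (.node (nat_lit 21) (.leaf [nat_lit 2]) (.leaf [nat_lit 3]))))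
 (.node (nat_lit 26) (.node (nat_lit 24) (.node (nat_lit 23) (.leaf [nat_lit 4]) (.leaf [nat_lit 5])) (.node (nat_lit 25) (.leaf [nat_lit 0]) (.leaf [nat_lit 1])))
 (.node (nat_lit 28) (.node (nat_lit 27) (.leaf [nat_lit 2]) (.leaf [nat_lit 3])) (.node (nat_lit 29) (.leaf [nat_lit 4]) (.leaf [nat_lit 5]))))))
 (.node (nat_lit 45) (.node (nat_lit 37) (.node (nat_lit 33) (.node (nat_lit 31) (.leaf [nat_lit 0]) (.node (nat_lit 32) (.leaf [nat_lit 1]) (.leaf [nat_lit 2])))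
 (.node (nat_lit 35) (.node (nat_lit 34) (.leaf [nat_lit 3]) (.leaf [nat_lit 4])) (.node (nat_lit 36) (.leaf [nat_lit 5]) (.leaf [nat_lit 1]))))
 (.node (nat_lit 41) (.node (nat_lit 39) (.node (nat_lit 38) (.leaf [nat_lit 0]) (.leaf [nat_lit 2, nat_lit 0])) (.node (nat_lit 40) (.leaf [nat_lit 3, nat_lit 1]) (.leaf [nat_lit 5, nat_lit 3, nat_lit 0])))
 (.node (nat_lit 43) (.node (nat_lit 42) (.leaf [nat_lit 2, nat_lit 4, nat_lit 1]) (.leaf [nat_lit 1])) (.node (nat_lit 44) (.leaf [nat_lit 0]) (.leaf [nat_lit 2, nat_lit 0])))))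
 (.node (nat_lit 52) (.node (nat_lit 48) (.node (nat_lit 46) (.leaf [nat_lit 3, nat_lit 1]) (.node (nat_lit 47) (.leaf [nat_lit 3, nat_lit 5, nat_lit 0]) (.leaf [nat_lit 4, nat_lit 2, nat_lit 1])))
 (.node (nat_lit 50) (.node (nat_lit 49) (.leaf [nat_lit 0]) (.leaf [nat_lit 1])) (.node (nat_lit 51) (.leaf [nat_lit 2, nat_lit 4, nat_lit 3, nat_lit 1]) (.leaf [nat_lit 2, nat_lit 5, nat_lit 3, nat_lit 0]))))
 (.node (nat_lit 56) (.node (nat_lit 54) (.node (nat_lit 53) (.leaf [nat_lit 3, nat_lit 4, nat_lit 2]) (.leaf [nat_lit 3, nat_lit 5, nat_lit 2])) (.node (nat_lit 55) (.leaf [nat_lit 0]) (.leaf [nat_lit 1])))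
 (.node (nat_lit 58) (.node (nat_lit 57) (.leaf [nat_lit 2, nat_lit 5, nat_lit 2, nat_lit 0]) (.leaf [nat_lit 3, nat_lit 4, nat_lit 3, nat_lit 1])) (.node (nat_lit 59) (.leaf [nat_lit 5, nat_lit 3, nat_lit 1]) (.leaf [nat_lit 2, nat_lit 4, nat_lit 0])))))))
theorem g2an : nrmChk (nat_lit 5) (nat_lit 31) (g2L.map Lev.b) g2T g2aT (topN g2L) (topN g2aL) g2anW = true := by decide +kernel
noncomputable def g2bt0 : ℕ := (nat_lit 0x1cdeb38bdab49ca307b9ac5a9283948310406)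
noncomputable def g2bt1 : ℕ := (nat_lit 0x1cdeb38bdab49ca307b9ac5a928380c520c41)
noncomputable def g2bT : Tr ℕ := (.node (nat_lit 1) (.leaf g2bt0) (.leaf g2bt1))
noncomputable def g2bR : Tr (List ℕ) := (.node (nat_lit 1) (.leaf [nat_lit 0, nat_lit 1]) (.leaf [nat_lit 0, nat_lit 0, nat_lit 0, nat_lit 0, nat_lit 0, nat_lit 0, nat_lit 0]))
noncomputable def g2bL0 : Lev := ⟨(nat_lit 0), (nat_lit 2), (nat_lit 0x2020201010100), (nat_lit 0x1020303020100),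
 (.node (nat_lit 1) (.leaf (nat_lit 0x1000100020000000000000001))
 (.leaf (nat_lit 0x3000100010001))),
 (.node (nat_lit 1) (.leaf (nat_lit 0x103000000000000000000000000))
 (.leaf (nat_lit 0x1000001000001000001)))⟩
noncomputable def g2bL : List Lev := [g2bL0]
noncomputable def g2bE : Tr (List ℕ) := (.node (nat_lit 1) (.leaf [nat_lit 5, nat_lit 2, nat_lit 0]) (.leaf [nat_lit 3, nat_lit 4, nat_lit 1]))
theorem g2bw_0 : g2bT.all2 (fun c w => isProd 29 (nat_lit 5) (nat_lit 31) g2aT c w) g2bE = true := by decide +kernel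
theorem g2bw : g2bT.all2 (fun c w => isProd 29 (nat_lit 5) (nat_lit 31) g2aT c w) g2bE = true := g2bw_0
theorem g2blev0 : levChk 29 (nat_lit 5) (nat_lit 31) g2bT g2bR g2bL0 0 = true := by decide +kernel
theorem g2bchain : Chain 29 (nat_lit 5) (nat_lit 31) g2bT g2bR g2bL := chain_one g2blev0
theorem g2bsd : band (selChk g2bT g2bT (topN g2bL)) (g2bR.all fun w => eqB (g2aL.map Lev.b) (apL (nat_lit 5) (nat_lit 31) g2bT w) fun a => a) = true := by decide +kernel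
theorem g2btc : tchainChk 29 (nat_lit 5) (nat_lit 31) g2bT g2bL = true := by decide +kernel
noncomputable def g2bnW : Tr (List ℕ) := (.node (nat_lit 6) (.node (nat_lit 3) (.node (nat_lit 1) (.leaf [nat_lit 0]) (.node (nat_lit 2) (.leaf [nat_lit 1]) (.leaf [nat_lit 0]))) (.node (nat_lit 4) (.leaf [nat_lit 1]) (.node (nat_lit 5) (.leaf [nat_lit 0, nat_lit 0]) (.leaf [nat_lit 1, nat_lit 1]))))
 (.node (nat_lit 9) (.node (nat_lit 7) (.leaf [nat_lit 1, nat_lit 1, nat_lit 1]) (.node (nat_lit 8) (.leaf [nat_lit 0, nat_lit 0, nat_lit 0]) (.leaf [nat_lit 0, nat_lit 0]))) (.node (nat_lit 10) (.leaf [nat_lit 1, nat_lit 1]) (.node (nat_lit 11) (.leaf [nat_lit 1, nat_lit 1, nat_lit 1]) (.leaf [nat_lit 0, nat_lit 0, nat_lit 0])))))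
theorem g2bn : nrmChk (nat_lit 5) (nat_lit 31) (g2aL.map Lev.b) g2aT g2bT (topN g2aL) (topN g2bL) g2bnW = true := by decide +kernel
theorem g2x : ∃ N : Subgroup (Equiv.Perm (Fin 29)), OrdL N g2O ∧ Group.IsSolvable N :=
  let ⟨N, C, _⟩ := exists_pg g2s g2chain g2sd g2tc
  let ⟨N1, C1, _⟩ := (C.gen (lets_words C.lets g2aE g2aw) g2achain g2asd g2atc)
  let ⟨N2, C2, _⟩ := (C1.gen (lets_words C1.lets g2bE g2bw) g2bchain g2bsd g2btc)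
  ⟨N, C.ordL g2Wc g2o (by decide +kernel), solv_step N1 (C.normal C1 g2an) (solv_step N2 (C1.normal C2 g2bn) (solv_p (p := 7) (j := 1) (by norm_num) (C2.card.trans (by decide +kernel)))
    (p := 3) (j := 2) (by norm_num) (Nat.eq_of_mul_eq_mul_right (m := 7) (by norm_num) (((congrArg _ (by decide +kernel)).trans (C1.index C2)).trans (by decide +kernel)))) (p := 2) (j := 4) (by norm_num) (Nat.eq_of_mul_eq_mul_right (m := 63) (by norm_num) (((congrArg _ (by decide +kernel)).trans (C.index C1)).trans (by decide +kernel)))⟩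
noncomputable def g3t0 : ℕ := (nat_lit 0x1349140f61759551d71b6998a181f78e34c2ca1c82461440c2040)
noncomputable def g3t1 : ℕ := (nat_lit 0x1055a7cb4566e03125dc84d4d876238f51978a1c82461440c2040)
noncomputable def g3t2 : ℕ := (nat_lit 0x1b46058c75389839a41f54b7128573593de50a1c82461440c2040)
noncomputable def g3t3 : ℕ := (nat_lit 0x1785270d55f41a2d889374e5a045b31478f64824a1c61440c2040)
noncomputable def g3t4 : ℕ := (nat_lit 0xd59f3dd6cb52249064e5e079370c558851689287202106043140)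
noncomputable def g3t5 : ℕ := (nat_lit 0x1a35481379174b5ce5613db4993187d68907092872040450860c0)
noncomputable def g3t6 : ℕ := (nat_lit 0x1349140f61759551d71b6998a181f78e34c2c9287206001083105)
noncomputable def g3T : Tr ℕ := (.node (nat_lit 3) (.node (nat_lit 1) (.leaf g3t0) (.node (nat_lit 2) (.leaf g3t1) (.leaf g3t2)))
 (.node (nat_lit 5) (.node (nat_lit 4) (.leaf g3t3) (.leaf g3t4)) (.node (nat_lit 6) (.leaf g3t5) (.leaf g3t6))))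
noncomputable def g3R : Tr (List ℕ) := (.node (nat_lit 10) (.node (nat_lit 5) (.node (nat_lit 2) (.node (nat_lit 1) (.leaf [nat_lit 4, nat_lit 0, nat_lit 5, nat_lit 3]) (.leaf [nat_lit 1, nat_lit 0, nat_lit 1, nat_lit 5, nat_lit 5, nat_lit 1, nat_lit 4, nat_lit 4])) (.node (nat_lit 3) (.leaf [nat_lit 6, nat_lit 0, nat_lit 2, nat_lit 6, nat_lit 0, nat_lit 2]) (.node (nat_lit 4) (.leaf [nat_lit 0, nat_lit 2, nat_lit 3, nat_lit 4, nat_lit 1, nat_lit 5]) (.leaf [nat_lit 1, nat_lit 5, nat_lit 5, nat_lit 2, nat_lit 4, nat_lit 4]))))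
 (.node (nat_lit 7) (.node (nat_lit 6) (.leaf [nat_lit 6, nat_lit 2, nat_lit 6, nat_lit 3]) (.leaf [nat_lit 4, nat_lit 5])) (.node (nat_lit 8) (.leaf [nat_lit 0, nat_lit 1, nat_lit 0, nat_lit 1, nat_lit 4, nat_lit 4, nat_lit 4, nat_lit 4, nat_lit 4, nat_lit 4]) (.node (nat_lit 9) (.leaf [nat_lit 6, nat_lit 6]) (.leaf [nat_lit 6, nat_lit 4, nat_lit 6, nat_lit 4, nat_lit 6, nat_lit 4])))))
 (.node (nat_lit 15) (.node (nat_lit 12) (.node (nat_lit 11) (.leaf [nat_lit 1, nat_lit 0, nat_lit 4, nat_lit 4, nat_lit 4, nat_lit 6, nat_lit 5, nat_lit 5, nat_lit 6, nat_lit 4, nat_lit 4, nat_lit 6]) (.leaf [nat_lit 3, nat_lit 0, nat_lit 2, nat_lit 3, nat_lit 0, nat_lit 2])) (.node (nat_lit 13) (.leaf [nat_lit 3, nat_lit 1, nat_lit 2, nat_lit 3, nat_lit 1, nat_lit 2]) (.node (nat_lit 14) (.leaf [nat_lit 3, nat_lit 2, nat_lit 3, nat_lit 2]) (.leaf [nat_lit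 3, nat_lit 3]))))
 (.node (nat_lit 17) (.node (nat_lit 16) (.leaf [nat_lit 0, nat_lit 1, nat_lit 2, nat_lit 0, nat_lit 2, nat_lit 1]) (.leaf [nat_lit 0, nat_lit 0])) (.node (nat_lit 18) (.leaf [nat_lit 1, nat_lit 1]) (.node (nat_lit 19) (.leaf [nat_lit 2, nat_lit 2]) (.leaf [nat_lit 0, nat_lit 2, nat_lit 1, nat_lit 2, nat_lit 0, nat_lit 1]))))))
noncomputable def g3L0 : Lev := ⟨(nat_lit 0), (nat_lit 7), (nat_lit 0x6070605050500), (nat_lit 0x3010203040200),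
 (.node (nat_lit 3) (.node (nat_lit 1) (.leaf (nat_lit 0xb000300080007000900030000))
 (.node (nat_lit 2) (.leaf (nat_lit 0xa000900090003000600080000))
 (.leaf (nat_lit 0xa00020007000b000b00050000))))
 (.node (nat_lit 5) (.node (nat_lit 4) (.leaf (nat_lit 0x900020004000a000c00060000))
 (.leaf (nat_lit 0x9000100010000000000000000)))
 (.node (nat_lit 6) (.leaf (nat_lit 0x100000001000a00010000))
 (.leaf (nat_lit 0x200000002000b000a00030001))))),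
 (.node (nat_lit 3) (.node (nat_lit 1) (.leaf (nat_lit 0x300000201000201000001000101000001000000))
 (.node (nat_lit 2) (.leaf (nat_lit 0x105000304000105000400000400000400000000))
 (.leaf (nat_lit 0x403000501000501000301000403000501000000))))
 (.node (nat_lit 5) (.node (nat_lit 4) (.leaf (nat_lit 0x3000503000003000003000003000302000000))
 (.leaf (nat_lit 0x706000600000600000000000000000000000000)))
 (.node (nat_lit 6) (.leaf (nat_lit 0x601000000000601000601000601000000))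
 (.leaf (nat_lit 0xa08000000000902000800000900000801000801)))))⟩
noncomputable def g3L1 : Lev := ⟨(nat_lit 1), (nat_lit 6), (nat_lit 0x5060605050000), (nat_lit 0x3010201020000),
 (.node (nat_lit 3) (.node (nat_lit 1) (.leaf (nat_lit 0x7000400060002000300000000))
 (.node (nat_lit 2) (.leaf (nat_lit 0x6000300020002000200000000))
 (.leaf (nat_lit 0x4000300020005000900000000))))
 (.node (nat_lit 4) (.leaf (nat_lit 0x7000200050004000800000000))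
 (.node (nat_lit 5) (.leaf (nat_lit 0x100020000000000010000))
 (.leaf (nat_lit 0x3000000000001000100010000))))),
 (.node (nat_lit 3) (.node (nat_lit 1) (.leaf (nat_lit 0x101000300000300000001000101000000000000))
 (.node (nat_lit 2) (.leaf (nat_lit 0x400000105000105000304000400000000000000))
 (.leaf (nat_lit 0x403000403000403000301000301000000000000))))
 (.node (nat_lit 4) (.leaf (nat_lit 0x3000003000003000003000003000000000000))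
 (.node (nat_lit 5) (.leaf (nat_lit 0x600000707000000000000000600000000))
 (.leaf (nat_lit 0x601000000000000000601000601000601000000)))))⟩
noncomputable def g3L2 : Lev := ⟨(nat_lit 8), (nat_lit 4), (nat_lit 0x400000000000000000000), (nat_lit 0x100000000000000000000),
 (.node (nat_lit 2) (.node (nat_lit 1) (.leaf (nat_lit 0x30000000000000000000000000000000000000000))
 (.leaf (nat_lit 0x30000000000000000000000000000000000000000)))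
 (.node (nat_lit 3) (.leaf (nat_lit 0x20000000000000000000000000000000000000000))
 (.leaf (nat_lit 0x100000000000000000000000000000000)))),
 (.node (nat_lit 2) (.node (nat_lit 1) (.leaf (nat_lit 0xb01000000000000000000000000000000000000000000000000000000000000))
 (.leaf (nat_lit 0xc01000000000000000000000000000000000000000000000000000000000000)))
 (.node (nat_lit 3) (.leaf (nat_lit 0xd01000000000000000000000000000000000000000000000000000000000000))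
 (.leaf (nat_lit 0xe01000000000000000000000000000000000000000000000000))))⟩
noncomputable def g3L3 : Lev := ⟨(nat_lit 11), (nat_lit 3), (nat_lit 0x2000000000100000000030000000001020203000000000000000000000000), (nat_lit 0x1000000000200000000010000000002030202000000000000000000000000),
 (.node (nat_lit 1) (.leaf (nat_lit 0x1000000000000000000000000000000000000000100000000000000000000000400020002000000000000000000000000000000000000000000000000))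
 (.node (nat_lit 2) (.leaf (nat_lit 0x50000000000000000000100000000000000000001000000000004000100000000000000000000000000000000000000000000))
 (.leaf (nat_lit 0x1000000000000000000030000000000000000000000000000000000000002000200030000000100000000000000000000000000000000000000000000)))),
 (.node (nat_lit 1) (.leaf (nat_lit 0x1000000000000000000000000000000000000000000000000000000000001001000000000000000000000000000000000f00000f00000f03000000000000000000000000000000000000000000000000000000000000000000000000))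
 (.node (nat_lit 2) (.leaf (nat_lit 0x1100000000000000000000000000001100000000000000000000000000001100000000000000000f01001101000000000000000000000000000000000000000000000000000000000000000000))
 (.leaf (nat_lit 0x1200000000000000000000000000001200000000000000000000000000000000000000000000000000000000001303000f04001201000000001201000000000000000000000000000000000000000000000000000000000000000000))))⟩
noncomputable def g3L4 : Lev := ⟨(nat_lit 7), (nat_lit 1), (nat_lit 0x1000000000000000000), (nat_lit 0x1000000000000000000),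
 (.leaf (nat_lit 0x10000000000000000000000000000)),
 (.leaf (nat_lit 0x1001000000000000000000000000000000000000000000))⟩
noncomputable def g3L : List Lev := [g3L0, g3L1, g3L2, g3L3, g3L4]
theorem g3s : g3T.all (fun c => surjF 35 (ap (nat_lit 6) (nat_lit 63) c)) = true := by decide +kernel
theorem g3lev0 : levChk 35 (nat_lit 6) (nat_lit 63) g3T g3R g3L0 g3L1.N = true := by decide +kernel
theorem g3lev1 : levChk 35 (nat_lit 6) (nat_lit 63) g3T g3R g3L1 g3L2.N = true := by decide +kernel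
theorem g3lev2 : levChk 35 (nat_lit 6) (nat_lit 63) g3T g3R g3L2 g3L3.N = true := by decide +kernel
theorem g3lev3 : levChk 35 (nat_lit 6) (nat_lit 63) g3T g3R g3L3 g3L4.N = true := by decide +kernel
theorem g3lev4 : levChk 35 (nat_lit 6) (nat_lit 63) g3T g3R g3L4 0 = true := by decide +kernel
theorem g3chain : Chain 35 (nat_lit 6) (nat_lit 63) g3T g3R g3L := chain_cons g3lev0 <| chain_cons g3lev1 <| chain_cons g3lev2 <| chain_cons g3lev3 <| chain_one g3lev4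
theorem g3sd : band (selChk g3T g3T (topN g3L)) (g3R.all fun w => eqB (List.range 35) (apL (nat_lit 6) (nat_lit 63) g3T w) fun a => a) = true := by decide +kernel
theorem g3tc : tchainChk 35 (nat_lit 6) (nat_lit 63) g3T g3L = true := by decide +kernel
noncomputable def g3W : List (List ℕ) := [[nat_lit 4, nat_lit 4, nat_lit 6, nat_lit 4, nat_lit 2, nat_lit 0],
 [],
 [nat_lit 5, nat_lit 6, nat_lit 5, nat_lit 5, nat_lit 0, nat_lit 2],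
 [nat_lit 5, nat_lit 5, nat_lit 5, nat_lit 6, nat_lit 1, nat_lit 2],
 [nat_lit 5, nat_lit 5, nat_lit 6, nat_lit 5, nat_lit 1, nat_lit 0],
 [nat_lit 4, nat_lit 6, nat_lit 4, nat_lit 4, nat_lit 0, nat_lit 1],
 [nat_lit 6, nat_lit 5, nat_lit 5, nat_lit 5, nat_lit 1, nat_lit 2],
 [nat_lit 4, nat_lit 4, nat_lit 6, nat_lit 4, nat_lit 3, nat_lit 1, nat_lit 0, nat_lit 1, nat_lit 0],
 [nat_lit 3, nat_lit 0, nat_lit 2],
 [nat_lit 5, nat_lit 6, nat_lit 5, nat_lit 5, nat_lit 3],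
 [nat_lit 5, nat_lit 5, nat_lit 5, nat_lit 6, nat_lit 3, nat_lit 1, nat_lit 0],
 [nat_lit 5, nat_lit 5, nat_lit 6, nat_lit 5, nat_lit 3, nat_lit 1, nat_lit 2],
 [nat_lit 4, nat_lit 6, nat_lit 4, nat_lit 4, nat_lit 3, nat_lit 2, nat_lit 1],
 [nat_lit 6, nat_lit 5, nat_lit 5, nat_lit 5, nat_lit 3, nat_lit 1, nat_lit 0],
 [nat_lit 4, nat_lit 4, nat_lit 6, nat_lit 4, nat_lit 1, nat_lit 0],
 [nat_lit 2, nat_lit 1],
 [nat_lit 5, nat_lit 6, nat_lit 5, nat_lit 5, nat_lit 0, nat_lit 1],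
 [nat_lit 5, nat_lit 5, nat_lit 5, nat_lit 6],
 [nat_lit 5, nat_lit 5, nat_lit 6, nat_lit 5, nat_lit 0, nat_lit 2],
 [nat_lit 4, nat_lit 6, nat_lit 4, nat_lit 4, nat_lit 2, nat_lit 0],
 [nat_lit 6, nat_lit 5, nat_lit 5, nat_lit 5],
 [nat_lit 4, nat_lit 4, nat_lit 6, nat_lit 4, nat_lit 3, nat_lit 1, nat_lit 2],
 [nat_lit 3, nat_lit 0, nat_lit 1],
 [nat_lit 5, nat_lit 6, nat_lit 5, nat_lit 5, nat_lit 3, nat_lit 2, nat_lit 1],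
 [nat_lit 5, nat_lit 5, nat_lit 5, nat_lit 6, nat_lit 3, nat_lit 0, nat_lit 2],
 [nat_lit 5, nat_lit 5, nat_lit 6, nat_lit 5, nat_lit 3],
 [nat_lit 4, nat_lit 6, nat_lit 4, nat_lit 4, nat_lit 3, nat_lit 1, nat_lit 0, nat_lit 1, nat_lit 0],
 [nat_lit 6, nat_lit 5, nat_lit 5, nat_lit 5, nat_lit 3, nat_lit 0, nat_lit 2],
 [nat_lit 4, nat_lit 4, nat_lit 6, nat_lit 4, nat_lit 0, nat_lit 1],
 [nat_lit 1, nat_lit 2],
 [nat_lit 5, nat_lit 6, nat_lit 5, nat_lit 5, nat_lit 1, nat_lit 0],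
 [nat_lit 5, nat_lit 5, nat_lit 5, nat_lit 6, nat_lit 1, nat_lit 0, nat_lit 1, nat_lit 0],
 [nat_lit 5, nat_lit 5, nat_lit 6, nat_lit 5, nat_lit 2, nat_lit 0],
 [nat_lit 4, nat_lit 6, nat_lit 4, nat_lit 4, nat_lit 0, nat_lit 2],
 [nat_lit 6, nat_lit 5, nat_lit 5, nat_lit 5, nat_lit 1, nat_lit 0, nat_lit 1, nat_lit 0],
 [nat_lit 4, nat_lit 4, nat_lit 6, nat_lit 4, nat_lit 3, nat_lit 2, nat_lit 1],
 [nat_lit 3, nat_lit 1, nat_lit 0],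
 [nat_lit 5, nat_lit 6, nat_lit 5, nat_lit 5, nat_lit 3, nat_lit 1, nat_lit 2],
 [nat_lit 5, nat_lit 5, nat_lit 5, nat_lit 6, nat_lit 3, nat_lit 2, nat_lit 0],
 [nat_lit 5, nat_lit 5, nat_lit 6, nat_lit 5, nat_lit 3, nat_lit 1, nat_lit 0, nat_lit 1, nat_lit 0],
 [nat_lit 4, nat_lit 6, nat_lit 4, nat_lit 4, nat_lit 3],
 [nat_lit 6, nat_lit 5, nat_lit 5, nat_lit 5, nat_lit 3, nat_lit 2, nat_lit 0],
 [nat_lit 4, nat_lit 4, nat_lit 6, nat_lit 4, nat_lit 0, nat_lit 2],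
 [nat_lit 1, nat_lit 0, nat_lit 1, nat_lit 0],
 [nat_lit 5, nat_lit 6, nat_lit 5, nat_lit 5, nat_lit 2, nat_lit 0],
 [nat_lit 5, nat_lit 5, nat_lit 5, nat_lit 6, nat_lit 2, nat_lit 1],
 [nat_lit 5, nat_lit 5, nat_lit 6, nat_lit 5, nat_lit 0, nat_lit 1],
 [nat_lit 4, nat_lit 6, nat_lit 4, nat_lit 4, nat_lit 1, nat_lit 0],
 [nat_lit 6, nat_lit 5, nat_lit 5, nat_lit 5, nat_lit 2, nat_lit 1],
 [nat_lit 4, nat_lit 4, nat_lit 6, nat_lit 4, nat_lit 3],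
 [nat_lit 3, nat_lit 2, nat_lit 0],
 [nat_lit 5, nat_lit 6, nat_lit 5, nat_lit 5, nat_lit 3, nat_lit 1, nat_lit 0, nat_lit 1, nat_lit 0],
 [nat_lit 5, nat_lit 5, nat_lit 5, nat_lit 6, nat_lit 3, nat_lit 0, nat_lit 1],
 [nat_lit 5, nat_lit 5, nat_lit 6, nat_lit 5, nat_lit 3, nat_lit 2, nat_lit 1],
 [nat_lit 4, nat_lit 6, nat_lit 4, nat_lit 4, nat_lit 3, nat_lit 1, nat_lit 2],
 [nat_lit 6, nat_lit 5, nat_lit 5, nat_lit 5, nat_lit 3, nat_lit 0, nat_lit 1],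
 [nat_lit 4, nat_lit 4, nat_lit 6, nat_lit 4, nat_lit 2, nat_lit 1],
 [nat_lit 0, nat_lit 1],
 [nat_lit 5, nat_lit 6, nat_lit 5, nat_lit 5, nat_lit 1, nat_lit 2],
 [nat_lit 5, nat_lit 5, nat_lit 5, nat_lit 6, nat_lit 2, nat_lit 0],
 [nat_lit 5, nat_lit 5, nat_lit 6, nat_lit 5],
 [nat_lit 4, nat_lit 6, nat_lit 4, nat_lit 4, nat_lit 1, nat_lit 0, nat_lit 1, nat_lit 0],
 [nat_lit 6, nat_lit 5, nat_lit 5, nat_lit 5, nat_lit 2, nat_lit 0],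
 [nat_lit 4, nat_lit 4, nat_lit 6, nat_lit 4, nat_lit 3, nat_lit 0, nat_lit 1],
 [nat_lit 3, nat_lit 2, nat_lit 1],
 [nat_lit 5, nat_lit 6, nat_lit 5, nat_lit 5, nat_lit 3, nat_lit 1, nat_lit 0],
 [nat_lit 5, nat_lit 5, nat_lit 5, nat_lit 6, nat_lit 3, nat_lit 1, nat_lit 0, nat_lit 1, nat_lit 0],
 [nat_lit 5, nat_lit 5, nat_lit 6, nat_lit 5, nat_lit 3, nat_lit 0, nat_lit 2],
 [nat_lit 4, nat_lit 6, nat_lit 4, nat_lit 4, nat_lit 3, nat_lit 2, nat_lit 0],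
 [nat_lit 6, nat_lit 5, nat_lit 5, nat_lit 5, nat_lit 3, nat_lit 1, nat_lit 0, nat_lit 1, nat_lit 0],
 [nat_lit 5, nat_lit 5, nat_lit 6, nat_lit 4, nat_lit 2, nat_lit 0],
 [nat_lit 4, nat_lit 6, nat_lit 5, nat_lit 5, nat_lit 2, nat_lit 0],
 [nat_lit 6, nat_lit 5, nat_lit 0, nat_lit 1],
 [nat_lit 4, nat_lit 4, nat_lit 6, nat_lit 5, nat_lit 5, nat_lit 5, nat_lit 2, nat_lit 1],
 [nat_lit 4, nat_lit 4, nat_lit 1, nat_lit 0, nat_lit 1, nat_lit 0],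
 [nat_lit 5, nat_lit 6, nat_lit 2, nat_lit 1],
 [nat_lit 5, nat_lit 5, nat_lit 5, nat_lit 6, nat_lit 4, nat_lit 4, nat_lit 0, nat_lit 1],
 [nat_lit 5, nat_lit 5, nat_lit 6, nat_lit 4, nat_lit 3, nat_lit 1, nat_lit 0, nat_lit 1, nat_lit 0],
 [nat_lit 4, nat_lit 6, nat_lit 5, nat_lit 5, nat_lit 3, nat_lit 1, nat_lit 0, nat_lit 1, nat_lit 0],
 [nat_lit 6, nat_lit 5, nat_lit 3, nat_lit 2, nat_lit 1],
 [nat_lit 4, nat_lit 4, nat_lit 6, nat_lit 5, nat_lit 5, nat_lit 5, nat_lit 3, nat_lit 0, nat_lit 1],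
 [nat_lit 4, nat_lit 4, nat_lit 3, nat_lit 2, nat_lit 0],
 [nat_lit 5, nat_lit 6, nat_lit 3, nat_lit 0, nat_lit 1],
 [nat_lit 5, nat_lit 5, nat_lit 5, nat_lit 6, nat_lit 4, nat_lit 4, nat_lit 3, nat_lit 2, nat_lit 1],
 [nat_lit 6, nat_lit 4, nat_lit 2, nat_lit 0],
 [nat_lit 4, nat_lit 4, nat_lit 6, nat_lit 5, nat_lit 0, nat_lit 1],
 [nat_lit 5, nat_lit 5],
 [nat_lit 5, nat_lit 6, nat_lit 4, nat_lit 4, nat_lit 0, nat_lit 1],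
 [nat_lit 5, nat_lit 5, nat_lit 5, nat_lit 6, nat_lit 5, nat_lit 5, nat_lit 0, nat_lit 2],
 [nat_lit 5, nat_lit 5, nat_lit 6, nat_lit 5, nat_lit 5, nat_lit 5, nat_lit 1, nat_lit 2],
 [nat_lit 4, nat_lit 6, nat_lit 2, nat_lit 1],
 [nat_lit 6, nat_lit 4, nat_lit 3, nat_lit 1, nat_lit 0, nat_lit 1, nat_lit 0],
 [nat_lit 4, nat_lit 4, nat_lit 6, nat_lit 5, nat_lit 3, nat_lit 2, nat_lit 1],
 [nat_lit 5, nat_lit 5, nat_lit 3, nat_lit 0, nat_lit 2],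
 [nat_lit 5, nat_lit 6, nat_lit 4, nat_lit 4, nat_lit 3, nat_lit 2, nat_lit 1],
 [nat_lit 5, nat_lit 5, nat_lit 5, nat_lit 6, nat_lit 5, nat_lit 5, nat_lit 3],
 [nat_lit 5, nat_lit 5, nat_lit 6, nat_lit 5, nat_lit 5, nat_lit 5, nat_lit 3, nat_lit 1, nat_lit 0],
 [nat_lit 4, nat_lit 6, nat_lit 3, nat_lit 0, nat_lit 1],
 [nat_lit 6, nat_lit 4, nat_lit 1, nat_lit 2],
 [nat_lit 4, nat_lit 4, nat_lit 6, nat_lit 5],
 [nat_lit 5, nat_lit 5, nat_lit 1, nat_lit 0],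
 [nat_lit 5, nat_lit 6, nat_lit 4, nat_lit 4],
 [nat_lit 5, nat_lit 5, nat_lit 5, nat_lit 6, nat_lit 5, nat_lit 5, nat_lit 2, nat_lit 1],
 [nat_lit 5, nat_lit 5, nat_lit 6, nat_lit 5, nat_lit 5, nat_lit 5, nat_lit 0, nat_lit 2],
 [nat_lit 4, nat_lit 6, nat_lit 2, nat_lit 0],
 [nat_lit 6, nat_lit 4, nat_lit 3, nat_lit 1, nat_lit 0],
 [nat_lit 4, nat_lit 4, nat_lit 6, nat_lit 5, nat_lit 3, nat_lit 0, nat_lit 2],
 [nat_lit 5, nat_lit 5, nat_lit 3, nat_lit 1, nat_lit 2],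
 [nat_lit 5, nat_lit 6, nat_lit 4, nat_lit 4, nat_lit 3, nat_lit 0, nat_lit 2],
 [nat_lit 5, nat_lit 5, nat_lit 5, nat_lit 6, nat_lit 5, nat_lit 5, nat_lit 3, nat_lit 0, nat_lit 1],
 [nat_lit 5, nat_lit 5, nat_lit 6, nat_lit 5, nat_lit 5, nat_lit 5, nat_lit 3],
 [nat_lit 4, nat_lit 6, nat_lit 3, nat_lit 1, nat_lit 0, nat_lit 1, nat_lit 0],
 [nat_lit 5, nat_lit 5, nat_lit 6, nat_lit 4, nat_lit 1, nat_lit 0, nat_lit 1, nat_lit 0],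
 [nat_lit 4, nat_lit 6, nat_lit 5, nat_lit 5, nat_lit 1, nat_lit 0, nat_lit 1, nat_lit 0],
 [nat_lit 6, nat_lit 5, nat_lit 1, nat_lit 2],
 [nat_lit 4, nat_lit 4, nat_lit 6, nat_lit 5, nat_lit 5, nat_lit 5, nat_lit 0, nat_lit 1],
 [nat_lit 4, nat_lit 4, nat_lit 0, nat_lit 2],
 [nat_lit 5, nat_lit 6, nat_lit 0, nat_lit 1],
 [nat_lit 5, nat_lit 5, nat_lit 5, nat_lit 6, nat_lit 4, nat_lit 4, nat_lit 1, nat_lit 2],
 [nat_lit 5, nat_lit 5, nat_lit 6, nat_lit 4, nat_lit 3, nat_lit 2, nat_lit 0],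
 [nat_lit 4, nat_lit 6, nat_lit 5, nat_lit 5, nat_lit 3, nat_lit 2, nat_lit 0],
 [nat_lit 6, nat_lit 5, nat_lit 3, nat_lit 1, nat_lit 0],
 [nat_lit 4, nat_lit 4, nat_lit 6, nat_lit 5, nat_lit 5, nat_lit 5, nat_lit 3, nat_lit 2, nat_lit 1],
 [nat_lit 4, nat_lit 4, nat_lit 3],
 [nat_lit 5, nat_lit 6, nat_lit 3, nat_lit 2, nat_lit 1],
 [nat_lit 5, nat_lit 5, nat_lit 5, nat_lit 6, nat_lit 4, nat_lit 4, nat_lit 3, nat_lit 1, nat_lit 0],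
 [nat_lit 4, nat_lit 4, nat_lit 6, nat_lit 4, nat_lit 1, nat_lit 0, nat_lit 1, nat_lit 0],
 [nat_lit 2, nat_lit 0],
 [nat_lit 5, nat_lit 6, nat_lit 5, nat_lit 5],
 [nat_lit 5, nat_lit 5, nat_lit 5, nat_lit 6, nat_lit 1, nat_lit 0],
 [nat_lit 5, nat_lit 5, nat_lit 6, nat_lit 5, nat_lit 2, nat_lit 1],
 [nat_lit 4, nat_lit 6, nat_lit 4, nat_lit 4, nat_lit 1, nat_lit 2],
 [nat_lit 6, nat_lit 5, nat_lit 5, nat_lit 5, nat_lit 1, nat_lit 0],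
 [nat_lit 4, nat_lit 4, nat_lit 6, nat_lit 4, nat_lit 3, nat_lit 2, nat_lit 0],
 [nat_lit 3, nat_lit 1, nat_lit 0, nat_lit 1, nat_lit 0],
 [nat_lit 5, nat_lit 6, nat_lit 5, nat_lit 5, nat_lit 3, nat_lit 0, nat_lit 2],
 [nat_lit 5, nat_lit 5, nat_lit 5, nat_lit 6, nat_lit 3, nat_lit 1, nat_lit 2],
 [nat_lit 5, nat_lit 5, nat_lit 6, nat_lit 5, nat_lit 3, nat_lit 0, nat_lit 1],
 [nat_lit 4, nat_lit 6, nat_lit 4, nat_lit 4, nat_lit 3, nat_lit 1, nat_lit 0],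
 [nat_lit 6, nat_lit 5, nat_lit 5, nat_lit 5, nat_lit 3, nat_lit 1, nat_lit 2],
 [nat_lit 6, nat_lit 4],
 [nat_lit 4, nat_lit 4, nat_lit 6, nat_lit 5, nat_lit 2, nat_lit 1],
 [nat_lit 5, nat_lit 5, nat_lit 0, nat_lit 2],
 [nat_lit 5, nat_lit 6, nat_lit 4, nat_lit 4, nat_lit 2, nat_lit 1],
 [nat_lit 5, nat_lit 5, nat_lit 5, nat_lit 6, nat_lit 5, nat_lit 5, nat_lit 1, nat_lit 0, nat_lit 1, nat_lit 0],
 [nat_lit 5, nat_lit 5, nat_lit 6, nat_lit 5, nat_lit 5, nat_lit 5, nat_lit 0, nat_lit 1],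
 [nat_lit 4, nat_lit 6, nat_lit 1, nat_lit 0],
 [nat_lit 6, nat_lit 4, nat_lit 3, nat_lit 0, nat_lit 2],
 [nat_lit 4, nat_lit 4, nat_lit 6, nat_lit 5, nat_lit 3, nat_lit 0, nat_lit 1],
 [nat_lit 5, nat_lit 5, nat_lit 3],
 [nat_lit 5, nat_lit 6, nat_lit 4, nat_lit 4, nat_lit 3, nat_lit 0, nat_lit 1],
 [nat_lit 5, nat_lit 5, nat_lit 5, nat_lit 6, nat_lit 5, nat_lit 5, nat_lit 3, nat_lit 2, nat_lit 0],
 [nat_lit 5, nat_lit 5, nat_lit 6, nat_lit 5, nat_lit 5, nat_lit 5, nat_lit 3, nat_lit 2, nat_lit 1],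
 [nat_lit 4, nat_lit 6, nat_lit 3, nat_lit 1, nat_lit 2],
 [nat_lit 5, nat_lit 5, nat_lit 6, nat_lit 4, nat_lit 1, nat_lit 0],
 [nat_lit 4, nat_lit 6, nat_lit 5, nat_lit 5, nat_lit 1, nat_lit 0],
 [nat_lit 6, nat_lit 5, nat_lit 2, nat_lit 0],
 [nat_lit 4, nat_lit 4, nat_lit 6, nat_lit 5, nat_lit 5, nat_lit 5, nat_lit 1, nat_lit 0, nat_lit 1, nat_lit 0],
 [nat_lit 4, nat_lit 4, nat_lit 1, nat_lit 2],
 [nat_lit 5, nat_lit 6, nat_lit 1, nat_lit 0, nat_lit 1, nat_lit 0],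
 [nat_lit 5, nat_lit 5, nat_lit 5, nat_lit 6, nat_lit 4, nat_lit 4, nat_lit 2, nat_lit 0],
 [nat_lit 5, nat_lit 5, nat_lit 6, nat_lit 4, nat_lit 3, nat_lit 1, nat_lit 2],
 [nat_lit 4, nat_lit 6, nat_lit 5, nat_lit 5, nat_lit 3, nat_lit 1, nat_lit 2],
 [nat_lit 6, nat_lit 5, nat_lit 3, nat_lit 1, nat_lit 0, nat_lit 1, nat_lit 0],
 [nat_lit 4, nat_lit 4, nat_lit 6, nat_lit 5, nat_lit 5, nat_lit 5, nat_lit 3, nat_lit 2, nat_lit 0],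
 [nat_lit 4, nat_lit 4, nat_lit 3, nat_lit 1, nat_lit 0],
 [nat_lit 5, nat_lit 6, nat_lit 3, nat_lit 2, nat_lit 0],
 [nat_lit 5, nat_lit 5, nat_lit 5, nat_lit 6, nat_lit 4, nat_lit 4, nat_lit 3, nat_lit 1, nat_lit 0, nat_lit 1, nat_lit 0],
 [nat_lit 5, nat_lit 5, nat_lit 6, nat_lit 4, nat_lit 1, nat_lit 2],
 [nat_lit 4, nat_lit 6, nat_lit 5, nat_lit 5, nat_lit 1, nat_lit 2],
 [nat_lit 6, nat_lit 5],
 [nat_lit 4, nat_lit 4, nat_lit 6, nat_lit 5, nat_lit 5, nat_lit 5, nat_lit 2, nat_lit 0],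
 [nat_lit 4, nat_lit 4, nat_lit 0, nat_lit 1],
 [nat_lit 5, nat_lit 6, nat_lit 2, nat_lit 0],
 [nat_lit 5, nat_lit 5, nat_lit 5, nat_lit 6, nat_lit 4, nat_lit 4],
 [nat_lit 5, nat_lit 5, nat_lit 6, nat_lit 4, nat_lit 3, nat_lit 1, nat_lit 0],
 [nat_lit 4, nat_lit 6, nat_lit 5, nat_lit 5, nat_lit 3, nat_lit 1, nat_lit 0],
 [nat_lit 6, nat_lit 5, nat_lit 3, nat_lit 0, nat_lit 2],
 [nat_lit 4, nat_lit 4, nat_lit 6, nat_lit 5, nat_lit 5, nat_lit 5, nat_lit 3, nat_lit 1, nat_lit 0, nat_lit 1, nat_lit 0],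
 [nat_lit 4, nat_lit 4, nat_lit 3, nat_lit 2, nat_lit 1],
 [nat_lit 5, nat_lit 6, nat_lit 3, nat_lit 1, nat_lit 0, nat_lit 1, nat_lit 0],
 [nat_lit 5, nat_lit 5, nat_lit 5, nat_lit 6, nat_lit 4, nat_lit 4, nat_lit 3, nat_lit 0, nat_lit 2],
 [nat_lit 6, nat_lit 4, nat_lit 1, nat_lit 0],
 [nat_lit 4, nat_lit 4, nat_lit 6, nat_lit 5, nat_lit 2, nat_lit 0],
 [nat_lit 5, nat_lit 5, nat_lit 2, nat_lit 1],
 [nat_lit 5, nat_lit 6, nat_lit 4, nat_lit 4, nat_lit 2, nat_lit 0],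
 [nat_lit 5, nat_lit 5, nat_lit 5, nat_lit 6, nat_lit 5, nat_lit 5, nat_lit 0, nat_lit 1],
 [nat_lit 5, nat_lit 5, nat_lit 6, nat_lit 5, nat_lit 5, nat_lit 5],
 [nat_lit 4, nat_lit 6, nat_lit 1, nat_lit 0, nat_lit 1, nat_lit 0],
 [nat_lit 6, nat_lit 4, nat_lit 3, nat_lit 1, nat_lit 2],
 [nat_lit 4, nat_lit 4, nat_lit 6, nat_lit 5, nat_lit 3, nat_lit 1, nat_lit 0, nat_lit 1, nat_lit 0],
 [nat_lit 5, nat_lit 5, nat_lit 3, nat_lit 0, nat_lit 1],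
 [nat_lit 5, nat_lit 6, nat_lit 4, nat_lit 4, nat_lit 3, nat_lit 1, nat_lit 0, nat_lit 1, nat_lit 0],
 [nat_lit 5, nat_lit 5, nat_lit 5, nat_lit 6, nat_lit 5, nat_lit 5, nat_lit 3, nat_lit 2, nat_lit 1],
 [nat_lit 5, nat_lit 5, nat_lit 6, nat_lit 5, nat_lit 5, nat_lit 5, nat_lit 3, nat_lit 0, nat_lit 2],
 [nat_lit 4, nat_lit 6, nat_lit 3, nat_lit 2, nat_lit 0],
 [nat_lit 4, nat_lit 4, nat_lit 6, nat_lit 4],
 [nat_lit 0, nat_lit 2],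
 [nat_lit 5, nat_lit 6, nat_lit 5, nat_lit 5, nat_lit 1, nat_lit 0, nat_lit 1, nat_lit 0],
 [nat_lit 5, nat_lit 5, nat_lit 5, nat_lit 6, nat_lit 0, nat_lit 1],
 [nat_lit 5, nat_lit 5, nat_lit 6, nat_lit 5, nat_lit 1, nat_lit 2],
 [nat_lit 4, nat_lit 6, nat_lit 4, nat_lit 4, nat_lit 2, nat_lit 1],
 [nat_lit 6, nat_lit 5, nat_lit 5, nat_lit 5, nat_lit 0, nat_lit 1],
 [nat_lit 4, nat_lit 4, nat_lit 6, nat_lit 4, nat_lit 3, nat_lit 0, nat_lit 2],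
 [nat_lit 3],
 [nat_lit 5, nat_lit 6, nat_lit 5, nat_lit 5, nat_lit 3, nat_lit 2, nat_lit 0],
 [nat_lit 5, nat_lit 5, nat_lit 5, nat_lit 6, nat_lit 3, nat_lit 2, nat_lit 1],
 [nat_lit 5, nat_lit 5, nat_lit 6, nat_lit 5, nat_lit 3, nat_lit 1, nat_lit 0],
 [nat_lit 4, nat_lit 6, nat_lit 4, nat_lit 4, nat_lit 3, nat_lit 0, nat_lit 1],
 [nat_lit 6, nat_lit 5, nat_lit 5, nat_lit 5, nat_lit 3, nat_lit 2, nat_lit 1],
 [nat_lit 6, nat_lit 4, nat_lit 0, nat_lit 1],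
 [nat_lit 4, nat_lit 4, nat_lit 6, nat_lit 5, nat_lit 0, nat_lit 2],
 [nat_lit 5, nat_lit 5, nat_lit 1, nat_lit 2],
 [nat_lit 5, nat_lit 6, nat_lit 4, nat_lit 4, nat_lit 0, nat_lit 2],
 [nat_lit 5, nat_lit 5, nat_lit 5, nat_lit 6, nat_lit 5, nat_lit 5, nat_lit 1, nat_lit 0],
 [nat_lit 5, nat_lit 5, nat_lit 6, nat_lit 5, nat_lit 5, nat_lit 5, nat_lit 1, nat_lit 0, nat_lit 1, nat_lit 0],
 [nat_lit 4, nat_lit 6],
 [nat_lit 6, nat_lit 4, nat_lit 3, nat_lit 2, nat_lit 1],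
 [nat_lit 4, nat_lit 4, nat_lit 6, nat_lit 5, nat_lit 3],
 [nat_lit 5, nat_lit 5, nat_lit 3, nat_lit 1, nat_lit 0],
 [nat_lit 5, nat_lit 6, nat_lit 4, nat_lit 4, nat_lit 3],
 [nat_lit 5, nat_lit 5, nat_lit 5, nat_lit 6, nat_lit 5, nat_lit 5, nat_lit 3, nat_lit 1, nat_lit 2],
 [nat_lit 5, nat_lit 5, nat_lit 6, nat_lit 5, nat_lit 5, nat_lit 5, nat_lit 3, nat_lit 2, nat_lit 0],
 [nat_lit 4, nat_lit 6, nat_lit 3, nat_lit 0, nat_lit 2],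
 [nat_lit 5, nat_lit 5, nat_lit 6, nat_lit 4, nat_lit 2, nat_lit 1],
 [nat_lit 4, nat_lit 6, nat_lit 5, nat_lit 5, nat_lit 2, nat_lit 1],
 [nat_lit 6, nat_lit 5, nat_lit 1, nat_lit 0, nat_lit 1, nat_lit 0],
 [nat_lit 4, nat_lit 4, nat_lit 6, nat_lit 5, nat_lit 5, nat_lit 5, nat_lit 0, nat_lit 2],
 [nat_lit 4, nat_lit 4, nat_lit 1, nat_lit 0],
 [nat_lit 5, nat_lit 6, nat_lit 0, nat_lit 2],
 [nat_lit 5, nat_lit 5, nat_lit 5, nat_lit 6, nat_lit 4, nat_lit 4, nat_lit 1, nat_lit 0, nat_lit 1, nat_lit 0],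
 [nat_lit 5, nat_lit 5, nat_lit 6, nat_lit 4, nat_lit 3, nat_lit 0, nat_lit 1],
 [nat_lit 4, nat_lit 6, nat_lit 5, nat_lit 5, nat_lit 3, nat_lit 0, nat_lit 1],
 [nat_lit 6, nat_lit 5, nat_lit 3, nat_lit 2, nat_lit 0],
 [nat_lit 4, nat_lit 4, nat_lit 6, nat_lit 5, nat_lit 5, nat_lit 5, nat_lit 3],
 [nat_lit 4, nat_lit 4, nat_lit 3, nat_lit 1, nat_lit 2],
 [nat_lit 5, nat_lit 6, nat_lit 3],
 [nat_lit 5, nat_lit 5, nat_lit 5, nat_lit 6, nat_lit 4, nat_lit 4, nat_lit 3, nat_lit 2, nat_lit 0],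
 [nat_lit 5, nat_lit 5, nat_lit 6, nat_lit 4, nat_lit 0, nat_lit 1],
 [nat_lit 4, nat_lit 6, nat_lit 5, nat_lit 5, nat_lit 0, nat_lit 1],
 [nat_lit 6, nat_lit 5, nat_lit 0, nat_lit 2],
 [nat_lit 4, nat_lit 4, nat_lit 6, nat_lit 5, nat_lit 5, nat_lit 5],
 [nat_lit 4, nat_lit 4, nat_lit 2, nat_lit 1],
 [nat_lit 5, nat_lit 6],
 [nat_lit 5, nat_lit 5, nat_lit 5, nat_lit 6, nat_lit 4, nat_lit 4, nat_lit 0, nat_lit 2],
 [nat_lit 5, nat_lit 5, nat_lit 6, nat_lit 4, nat_lit 3, nat_lit 2, nat_lit 1],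
 [nat_lit 4, nat_lit 6, nat_lit 5, nat_lit 5, nat_lit 3, nat_lit 2, nat_lit 1],
 [nat_lit 6, nat_lit 5, nat_lit 3],
 [nat_lit 4, nat_lit 4, nat_lit 6, nat_lit 5, nat_lit 5, nat_lit 5, nat_lit 3, nat_lit 0, nat_lit 2],
 [nat_lit 4, nat_lit 4, nat_lit 3, nat_lit 0, nat_lit 1],
 [nat_lit 5, nat_lit 6, nat_lit 3, nat_lit 0, nat_lit 2],
 [nat_lit 5, nat_lit 5, nat_lit 5, nat_lit 6, nat_lit 4, nat_lit 4, nat_lit 3],
 [nat_lit 6, nat_lit 4, nat_lit 1, nat_lit 0, nat_lit 1, nat_lit 0],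
 [nat_lit 4, nat_lit 4, nat_lit 6, nat_lit 5, nat_lit 1, nat_lit 2],
 [nat_lit 5, nat_lit 5, nat_lit 2, nat_lit 0],
 [nat_lit 5, nat_lit 6, nat_lit 4, nat_lit 4, nat_lit 1, nat_lit 2],
 [nat_lit 5, nat_lit 5, nat_lit 5, nat_lit 6, nat_lit 5, nat_lit 5],
 [nat_lit 5, nat_lit 5, nat_lit 6, nat_lit 5, nat_lit 5, nat_lit 5, nat_lit 1, nat_lit 0],
 [nat_lit 4, nat_lit 6, nat_lit 0, nat_lit 1],
 [nat_lit 6, nat_lit 4, nat_lit 3, nat_lit 2, nat_lit 0],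
 [nat_lit 4, nat_lit 4, nat_lit 6, nat_lit 5, nat_lit 3, nat_lit 1, nat_lit 0],
 [nat_lit 5, nat_lit 5, nat_lit 3, nat_lit 1, nat_lit 0, nat_lit 1, nat_lit 0],
 [nat_lit 5, nat_lit 6, nat_lit 4, nat_lit 4, nat_lit 3, nat_lit 1, nat_lit 0],
 [nat_lit 5, nat_lit 5, nat_lit 5, nat_lit 6, nat_lit 5, nat_lit 5, nat_lit 3, nat_lit 0, nat_lit 2],
 [nat_lit 5, nat_lit 5, nat_lit 6, nat_lit 5, nat_lit 5, nat_lit 5, nat_lit 3, nat_lit 1, nat_lit 2],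
 [nat_lit 4, nat_lit 6, nat_lit 3, nat_lit 2, nat_lit 1],
 [nat_lit 4, nat_lit 4, nat_lit 6, nat_lit 4, nat_lit 1, nat_lit 2],
 [nat_lit 1, nat_lit 0],
 [nat_lit 5, nat_lit 6, nat_lit 5, nat_lit 5, nat_lit 2, nat_lit 1],
 [nat_lit 5, nat_lit 5, nat_lit 5, nat_lit 6, nat_lit 0, nat_lit 2],
 [nat_lit 5, nat_lit 5, nat_lit 6, nat_lit 5, nat_lit 1, nat_lit 0, nat_lit 1, nat_lit 0],
 [nat_lit 4, nat_lit 6, nat_lit 4, nat_lit 4],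
 [nat_lit 6, nat_lit 5, nat_lit 5, nat_lit 5, nat_lit 0, nat_lit 2],
 [nat_lit 4, nat_lit 4, nat_lit 6, nat_lit 4, nat_lit 3, nat_lit 1, nat_lit 0],
 [nat_lit 3, nat_lit 1, nat_lit 2],
 [nat_lit 5, nat_lit 6, nat_lit 5, nat_lit 5, nat_lit 3, nat_lit 0, nat_lit 1],
 [nat_lit 5, nat_lit 5, nat_lit 5, nat_lit 6, nat_lit 3],
 [nat_lit 5, nat_lit 5, nat_lit 6, nat_lit 5, nat_lit 3, nat_lit 2, nat_lit 0],
 [nat_lit 4, nat_lit 6, nat_lit 4, nat_lit 4, nat_lit 3, nat_lit 0, nat_lit 2],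
 [nat_lit 6, nat_lit 5, nat_lit 5, nat_lit 5, nat_lit 3],
 [nat_lit 5, nat_lit 5, nat_lit 6, nat_lit 4],
 [nat_lit 4, nat_lit 6, nat_lit 5, nat_lit 5],
 [nat_lit 6, nat_lit 5, nat_lit 2, nat_lit 1],
 [nat_lit 4, nat_lit 4, nat_lit 6, nat_lit 5, nat_lit 5, nat_lit 5, nat_lit 1, nat_lit 0],
 [nat_lit 4, nat_lit 4, nat_lit 2, nat_lit 0],
 [nat_lit 5, nat_lit 6, nat_lit 1, nat_lit 0],
 [nat_lit 5, nat_lit 5, nat_lit 5, nat_lit 6, nat_lit 4, nat_lit 4, nat_lit 2, nat_lit 1],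
 [nat_lit 5, nat_lit 5, nat_lit 6, nat_lit 4, nat_lit 3, nat_lit 0, nat_lit 2],
 [nat_lit 4, nat_lit 6, nat_lit 5, nat_lit 5, nat_lit 3, nat_lit 0, nat_lit 2],
 [nat_lit 6, nat_lit 5, nat_lit 3, nat_lit 0, nat_lit 1],
 [nat_lit 4, nat_lit 4, nat_lit 6, nat_lit 5, nat_lit 5, nat_lit 5, nat_lit 3, nat_lit 1, nat_lit 2],
 [nat_lit 4, nat_lit 4, nat_lit 3, nat_lit 1, nat_lit 0, nat_lit 1, nat_lit 0],
 [nat_lit 5, nat_lit 6, nat_lit 3, nat_lit 1, nat_lit 2],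
 [nat_lit 5, nat_lit 5, nat_lit 5, nat_lit 6, nat_lit 4, nat_lit 4, nat_lit 3, nat_lit 0, nat_lit 1],
 [nat_lit 6, nat_lit 4, nat_lit 2, nat_lit 1],
 [nat_lit 4, nat_lit 4, nat_lit 6, nat_lit 5, nat_lit 1, nat_lit 0, nat_lit 1, nat_lit 0],
 [nat_lit 5, nat_lit 5, nat_lit 0, nat_lit 1],
 [nat_lit 5, nat_lit 6, nat_lit 4, nat_lit 4, nat_lit 1, nat_lit 0, nat_lit 1, nat_lit 0],
 [nat_lit 5, nat_lit 5, nat_lit 5, nat_lit 6, nat_lit 5, nat_lit 5, nat_lit 1, nat_lit 2],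
 [nat_lit 5, nat_lit 5, nat_lit 6, nat_lit 5, nat_lit 5, nat_lit 5, nat_lit 2, nat_lit 0],
 [nat_lit 4, nat_lit 6, nat_lit 0, nat_lit 2],
 [nat_lit 6, nat_lit 4, nat_lit 3, nat_lit 0, nat_lit 1],
 [nat_lit 4, nat_lit 4, nat_lit 6, nat_lit 5, nat_lit 3, nat_lit 2, nat_lit 0],
 [nat_lit 5, nat_lit 5, nat_lit 3, nat_lit 2, nat_lit 1],
 [nat_lit 5, nat_lit 6, nat_lit 4, nat_lit 4, nat_lit 3, nat_lit 2, nat_lit 0],
 [nat_lit 5, nat_lit 5, nat_lit 5, nat_lit 6, nat_lit 5, nat_lit 5, nat_lit 3, nat_lit 1, nat_lit 0],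
 [nat_lit 5, nat_lit 5, nat_lit 6, nat_lit 5, nat_lit 5, nat_lit 5, nat_lit 3, nat_lit 1, nat_lit 0, nat_lit 1, nat_lit 0],
 [nat_lit 4, nat_lit 6, nat_lit 3],
 [nat_lit 6, nat_lit 4, nat_lit 0, nat_lit 2],
 [nat_lit 4, nat_lit 4, nat_lit 6, nat_lit 5, nat_lit 1, nat_lit 0],
 [nat_lit 5, nat_lit 5, nat_lit 1, nat_lit 0, nat_lit 1, nat_lit 0],
 [nat_lit 5, nat_lit 6, nat_lit 4, nat_lit 4, nat_lit 1, nat_lit 0],
 [nat_lit 5, nat_lit 5, nat_lit 5, nat_lit 6, nat_lit 5, nat_lit 5, nat_lit 2, nat_lit 0],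
 [nat_lit 5, nat_lit 5, nat_lit 6, nat_lit 5, nat_lit 5, nat_lit 5, nat_lit 2, nat_lit 1],
 [nat_lit 4, nat_lit 6, nat_lit 1, nat_lit 2],
 [nat_lit 6, nat_lit 4, nat_lit 3],
 [nat_lit 4, nat_lit 4, nat_lit 6, nat_lit 5, nat_lit 3, nat_lit 1, nat_lit 2],
 [nat_lit 5, nat_lit 5, nat_lit 3, nat_lit 2, nat_lit 0],
 [nat_lit 5, nat_lit 6, nat_lit 4, nat_lit 4, nat_lit 3, nat_lit 1, nat_lit 2],
 [nat_lit 5, nat_lit 5, nat_lit 5, nat_lit 6, nat_lit 5, nat_lit 5, nat_lit 3, nat_lit 1, nat_lit 0, nat_lit 1, nat_lit 0],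
 [nat_lit 5, nat_lit 5, nat_lit 6, nat_lit 5, nat_lit 5, nat_lit 5, nat_lit 3, nat_lit 0, nat_lit 1],
 [nat_lit 4, nat_lit 6, nat_lit 3, nat_lit 1, nat_lit 0],
 [nat_lit 5, nat_lit 5, nat_lit 6, nat_lit 4, nat_lit 0, nat_lit 2],
 [nat_lit 4, nat_lit 6, nat_lit 5, nat_lit 5, nat_lit 0, nat_lit 2],
 [nat_lit 6, nat_lit 5, nat_lit 1, nat_lit 0],
 [nat_lit 4, nat_lit 4, nat_lit 6, nat_lit 5, nat_lit 5, nat_lit 5, nat_lit 1, nat_lit 2],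
 [nat_lit 4, nat_lit 4],
 [nat_lit 5, nat_lit 6, nat_lit 1, nat_lit 2],
 [nat_lit 5, nat_lit 5, nat_lit 5, nat_lit 6, nat_lit 4, nat_lit 4, nat_lit 1, nat_lit 0],
 [nat_lit 5, nat_lit 5, nat_lit 6, nat_lit 4, nat_lit 3],
 [nat_lit 4, nat_lit 6, nat_lit 5, nat_lit 5, nat_lit 3],
 [nat_lit 6, nat_lit 5, nat_lit 3, nat_lit 1, nat_lit 2],
 [nat_lit 4, nat_lit 4, nat_lit 6, nat_lit 5, nat_lit 5, nat_lit 5, nat_lit 3, nat_lit 1, nat_lit 0],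
 [nat_lit 4, nat_lit 4, nat_lit 3, nat_lit 0, nat_lit 2],
 [nat_lit 5, nat_lit 6, nat_lit 3, nat_lit 1, nat_lit 0],
 [nat_lit 5, nat_lit 5, nat_lit 5, nat_lit 6, nat_lit 4, nat_lit 4, nat_lit 3, nat_lit 1, nat_lit 2],
 [nat_lit 5, nat_lit 6, nat_lit 4, nat_lit 0, nat_lit 1],
 [nat_lit 5, nat_lit 5, nat_lit 5, nat_lit 6, nat_lit 5, nat_lit 5, nat_lit 5, nat_lit 1, nat_lit 0, nat_lit 1, nat_lit 0],
 [nat_lit 5, nat_lit 5, nat_lit 6, nat_lit 4, nat_lit 4, nat_lit 0, nat_lit 2],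
 [nat_lit 4, nat_lit 6, nat_lit 5, nat_lit 0, nat_lit 2],
 [nat_lit 6],
 [nat_lit 4, nat_lit 4, nat_lit 6, nat_lit 5, nat_lit 5, nat_lit 0, nat_lit 1],
 [nat_lit 5, nat_lit 5, nat_lit 5, nat_lit 1, nat_lit 2],
 [nat_lit 5, nat_lit 6, nat_lit 4, nat_lit 3, nat_lit 2, nat_lit 1],
 [nat_lit 5, nat_lit 5, nat_lit 5, nat_lit 6, nat_lit 5, nat_lit 5, nat_lit 5, nat_lit 3, nat_lit 2, nat_lit 0],
 [nat_lit 5, nat_lit 5, nat_lit 6, nat_lit 4, nat_lit 4, nat_lit 3],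
 [nat_lit 4, nat_lit 6, nat_lit 5, nat_lit 3],
 [nat_lit 6, nat_lit 3, nat_lit 0, nat_lit 2],
 [nat_lit 4, nat_lit 4, nat_lit 6, nat_lit 5, nat_lit 5, nat_lit 3, nat_lit 2, nat_lit 1],
 [nat_lit 5, nat_lit 5, nat_lit 5, nat_lit 3, nat_lit 1, nat_lit 0],
 [nat_lit 5, nat_lit 6, nat_lit 4, nat_lit 2, nat_lit 0],
 [nat_lit 5, nat_lit 5, nat_lit 5, nat_lit 6, nat_lit 5, nat_lit 5, nat_lit 5, nat_lit 1, nat_lit 2],
 [nat_lit 5, nat_lit 5, nat_lit 6, nat_lit 4, nat_lit 4, nat_lit 0, nat_lit 1],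
 [nat_lit 4, nat_lit 6, nat_lit 5, nat_lit 0, nat_lit 1],
 [nat_lit 6, nat_lit 2, nat_lit 1],
 [nat_lit 4, nat_lit 4, nat_lit 6, nat_lit 5, nat_lit 5, nat_lit 2, nat_lit 0],
 [nat_lit 5, nat_lit 5, nat_lit 5],
 [nat_lit 5, nat_lit 6, nat_lit 4, nat_lit 3, nat_lit 1, nat_lit 0, nat_lit 1, nat_lit 0],
 [nat_lit 5, nat_lit 5, nat_lit 5, nat_lit 6, nat_lit 5, nat_lit 5, nat_lit 5, nat_lit 3, nat_lit 1, nat_lit 0],
 [nat_lit 5, nat_lit 5, nat_lit 6, nat_lit 4, nat_lit 4, nat_lit 3, nat_lit 2, nat_lit 1],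
 [nat_lit 4, nat_lit 6, nat_lit 5, nat_lit 3, nat_lit 2, nat_lit 1],
 [nat_lit 6, nat_lit 3, nat_lit 0, nat_lit 1],
 [nat_lit 4, nat_lit 4, nat_lit 6, nat_lit 5, nat_lit 5, nat_lit 3, nat_lit 1, nat_lit 0, nat_lit 1, nat_lit 0],
 [nat_lit 5, nat_lit 5, nat_lit 5, nat_lit 3, nat_lit 0, nat_lit 2],
 [nat_lit 5, nat_lit 6, nat_lit 4, nat_lit 0, nat_lit 2],
 [nat_lit 5, nat_lit 5, nat_lit 5, nat_lit 6, nat_lit 5, nat_lit 5, nat_lit 5, nat_lit 2, nat_lit 1],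
 [nat_lit 5, nat_lit 5, nat_lit 6, nat_lit 4, nat_lit 4, nat_lit 1, nat_lit 0],
 [nat_lit 4, nat_lit 6, nat_lit 5, nat_lit 1, nat_lit 0],
 [nat_lit 6, nat_lit 1, nat_lit 2],
 [nat_lit 4, nat_lit 4, nat_lit 6, nat_lit 5, nat_lit 5, nat_lit 0, nat_lit 2],
 [nat_lit 5, nat_lit 5, nat_lit 5, nat_lit 1, nat_lit 0, nat_lit 1, nat_lit 0],
 [nat_lit 5, nat_lit 6, nat_lit 4, nat_lit 3],
 [nat_lit 5, nat_lit 5, nat_lit 5, nat_lit 6, nat_lit 5, nat_lit 5, nat_lit 5, nat_lit 3, nat_lit 0, nat_lit 1],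
 [nat_lit 5, nat_lit 5, nat_lit 6, nat_lit 4, nat_lit 4, nat_lit 3, nat_lit 1, nat_lit 2],
 [nat_lit 4, nat_lit 6, nat_lit 5, nat_lit 3, nat_lit 1, nat_lit 2],
 [nat_lit 6, nat_lit 3, nat_lit 1, nat_lit 0],
 [nat_lit 4, nat_lit 4, nat_lit 6, nat_lit 5, nat_lit 5, nat_lit 3],
 [nat_lit 5, nat_lit 5, nat_lit 5, nat_lit 3, nat_lit 2, nat_lit 0],
 [nat_lit 5, nat_lit 6, nat_lit 4, nat_lit 1, nat_lit 0],
 [nat_lit 5, nat_lit 5, nat_lit 5, nat_lit 6, nat_lit 5, nat_lit 5, nat_lit 5],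
 [nat_lit 5, nat_lit 5, nat_lit 6, nat_lit 4, nat_lit 4, nat_lit 2, nat_lit 0],
 [nat_lit 4, nat_lit 6, nat_lit 5, nat_lit 2, nat_lit 0],
 [nat_lit 6, nat_lit 1, nat_lit 0, nat_lit 1, nat_lit 0],
 [nat_lit 4, nat_lit 4, nat_lit 6, nat_lit 5, nat_lit 5, nat_lit 1, nat_lit 0],
 [nat_lit 5, nat_lit 5, nat_lit 5, nat_lit 2, nat_lit 1],
 [nat_lit 5, nat_lit 6, nat_lit 4, nat_lit 3, nat_lit 1, nat_lit 2],
 [nat_lit 5, nat_lit 5, nat_lit 5, nat_lit 6, nat_lit 5, nat_lit 5, nat_lit 5, nat_lit 3, nat_lit 0, nat_lit 2],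
 [nat_lit 5, nat_lit 5, nat_lit 6, nat_lit 4, nat_lit 4, nat_lit 3, nat_lit 1, nat_lit 0, nat_lit 1, nat_lit 0],
 [nat_lit 4, nat_lit 6, nat_lit 5, nat_lit 3, nat_lit 1, nat_lit 0, nat_lit 1, nat_lit 0],
 [nat_lit 6, nat_lit 3, nat_lit 2, nat_lit 0],
 [nat_lit 4, nat_lit 4, nat_lit 6, nat_lit 5, nat_lit 5, nat_lit 3, nat_lit 1, nat_lit 2],
 [nat_lit 5, nat_lit 5, nat_lit 5, nat_lit 3, nat_lit 0, nat_lit 1],
 [nat_lit 5, nat_lit 6, nat_lit 4],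
 [nat_lit 5, nat_lit 5, nat_lit 5, nat_lit 6, nat_lit 5, nat_lit 5, nat_lit 5, nat_lit 0, nat_lit 1],
 [nat_lit 5, nat_lit 5, nat_lit 6, nat_lit 4, nat_lit 4, nat_lit 2, nat_lit 1],
 [nat_lit 4, nat_lit 6, nat_lit 5, nat_lit 2, nat_lit 1],
 [nat_lit 6, nat_lit 1, nat_lit 0],
 [nat_lit 4, nat_lit 4, nat_lit 6, nat_lit 5, nat_lit 5],
 [nat_lit 5, nat_lit 5, nat_lit 5, nat_lit 0, nat_lit 2],
 [nat_lit 5, nat_lit 6, nat_lit 4, nat_lit 3, nat_lit 0, nat_lit 2],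
 [nat_lit 5, nat_lit 5, nat_lit 5, nat_lit 6, nat_lit 5, nat_lit 5, nat_lit 5, nat_lit 3, nat_lit 2, nat_lit 1],
 [nat_lit 5, nat_lit 5, nat_lit 6, nat_lit 4, nat_lit 4, nat_lit 3, nat_lit 0, nat_lit 1],
 [nat_lit 4, nat_lit 6, nat_lit 5, nat_lit 3, nat_lit 0, nat_lit 1],
 [nat_lit 6, nat_lit 3, nat_lit 1, nat_lit 2],
 [nat_lit 4, nat_lit 4, nat_lit 6, nat_lit 5, nat_lit 5, nat_lit 3, nat_lit 0, nat_lit 2],
 [nat_lit 5, nat_lit 5, nat_lit 5, nat_lit 3],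
 [nat_lit 4, nat_lit 6, nat_lit 4, nat_lit 1, nat_lit 0],
 [nat_lit 6, nat_lit 4, nat_lit 4, nat_lit 2, nat_lit 0],
 [nat_lit 4, nat_lit 4, nat_lit 6, nat_lit 1, nat_lit 0, nat_lit 1, nat_lit 0],
 [nat_lit 5, nat_lit 2, nat_lit 1],
 [nat_lit 5, nat_lit 6, nat_lit 5, nat_lit 5, nat_lit 5],
 [nat_lit 5, nat_lit 5, nat_lit 5, nat_lit 6, nat_lit 5, nat_lit 0, nat_lit 2],
 [nat_lit 5, nat_lit 5, nat_lit 6, nat_lit 5, nat_lit 5, nat_lit 0, nat_lit 1],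
 [nat_lit 4, nat_lit 6, nat_lit 4, nat_lit 3, nat_lit 1, nat_lit 2],
 [nat_lit 6, nat_lit 4, nat_lit 4, nat_lit 3, nat_lit 1, nat_lit 0, nat_lit 1, nat_lit 0],
 [nat_lit 4, nat_lit 4, nat_lit 6, nat_lit 3, nat_lit 2, nat_lit 0],
 [nat_lit 5, nat_lit 3, nat_lit 0, nat_lit 1],
 [nat_lit 5, nat_lit 6, nat_lit 5, nat_lit 5, nat_lit 5, nat_lit 3, nat_lit 0, nat_lit 2],
 [nat_lit 5, nat_lit 5, nat_lit 5, nat_lit 6, nat_lit 5, nat_lit 3],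
 [nat_lit 5, nat_lit 5, nat_lit 6, nat_lit 5, nat_lit 5, nat_lit 3, nat_lit 2, nat_lit 1],
 [nat_lit 5, nat_lit 5, nat_lit 5, nat_lit 6, nat_lit 4, nat_lit 0, nat_lit 1],
 [nat_lit 5, nat_lit 5, nat_lit 6],
 [nat_lit 4, nat_lit 6, nat_lit 5, nat_lit 5, nat_lit 5],
 [nat_lit 6, nat_lit 5, nat_lit 5, nat_lit 0, nat_lit 1],
 [nat_lit 4, nat_lit 4, nat_lit 6, nat_lit 4, nat_lit 4, nat_lit 2, nat_lit 0],
 [nat_lit 4, nat_lit 2, nat_lit 1],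
 [nat_lit 5, nat_lit 6, nat_lit 5, nat_lit 0, nat_lit 2],
 [nat_lit 5, nat_lit 5, nat_lit 5, nat_lit 6, nat_lit 4, nat_lit 3, nat_lit 2, nat_lit 1],
 [nat_lit 5, nat_lit 5, nat_lit 6, nat_lit 3, nat_lit 0, nat_lit 2],
 [nat_lit 4, nat_lit 6, nat_lit 5, nat_lit 5, nat_lit 5, nat_lit 3, nat_lit 0, nat_lit 2],
 [nat_lit 6, nat_lit 5, nat_lit 5, nat_lit 3, nat_lit 2, nat_lit 1],
 [nat_lit 4, nat_lit 4, nat_lit 6, nat_lit 4, nat_lit 4, nat_lit 3, nat_lit 1, nat_lit 0, nat_lit 1, nat_lit 0],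
 [nat_lit 4, nat_lit 3, nat_lit 0, nat_lit 1],
 [nat_lit 5, nat_lit 6, nat_lit 5, nat_lit 3],
 [nat_lit 5, nat_lit 5, nat_lit 5, nat_lit 6, nat_lit 4, nat_lit 1, nat_lit 0, nat_lit 1, nat_lit 0],
 [nat_lit 5, nat_lit 5, nat_lit 6, nat_lit 0, nat_lit 1],
 [nat_lit 4, nat_lit 6, nat_lit 5, nat_lit 5, nat_lit 5, nat_lit 0, nat_lit 1],
 [nat_lit 6, nat_lit 5, nat_lit 5, nat_lit 1, nat_lit 0, nat_lit 1, nat_lit 0],
 [nat_lit 4, nat_lit 4, nat_lit 6, nat_lit 4, nat_lit 4, nat_lit 2, nat_lit 1],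
 [nat_lit 4, nat_lit 0, nat_lit 2],
 [nat_lit 5, nat_lit 6, nat_lit 5, nat_lit 1, nat_lit 2],
 [nat_lit 5, nat_lit 5, nat_lit 5, nat_lit 6, nat_lit 4, nat_lit 3, nat_lit 2, nat_lit 0],
 [nat_lit 5, nat_lit 5, nat_lit 6, nat_lit 3, nat_lit 2, nat_lit 1],
 [nat_lit 4, nat_lit 6, nat_lit 5, nat_lit 5, nat_lit 5, nat_lit 3, nat_lit 2, nat_lit 1],
 [nat_lit 6, nat_lit 5, nat_lit 5, nat_lit 3, nat_lit 2, nat_lit 0],
 [nat_lit 4, nat_lit 4, nat_lit 6, nat_lit 4, nat_lit 4, nat_lit 3, nat_lit 0, nat_lit 1],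
 [nat_lit 4, nat_lit 3],
 [nat_lit 5, nat_lit 6, nat_lit 5, nat_lit 3, nat_lit 1, nat_lit 0],
 [nat_lit 4, nat_lit 6, nat_lit 4, nat_lit 1, nat_lit 2],
 [nat_lit 6, nat_lit 4, nat_lit 4],
 [nat_lit 4, nat_lit 4, nat_lit 6, nat_lit 2, nat_lit 0],
 [nat_lit 5, nat_lit 1, nat_lit 0],
 [nat_lit 5, nat_lit 6, nat_lit 5, nat_lit 5, nat_lit 5, nat_lit 0, nat_lit 2],
 [nat_lit 5, nat_lit 5, nat_lit 5, nat_lit 6, nat_lit 5, nat_lit 1, nat_lit 0, nat_lit 1, nat_lit 0],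
 [nat_lit 5, nat_lit 5, nat_lit 6, nat_lit 5, nat_lit 5, nat_lit 2, nat_lit 1],
 [nat_lit 4, nat_lit 6, nat_lit 4, nat_lit 3, nat_lit 1, nat_lit 0],
 [nat_lit 6, nat_lit 4, nat_lit 4, nat_lit 3, nat_lit 0, nat_lit 2],
 [nat_lit 4, nat_lit 4, nat_lit 6, nat_lit 3, nat_lit 1, nat_lit 0, nat_lit 1, nat_lit 0],
 [nat_lit 5, nat_lit 3, nat_lit 1, nat_lit 2],
 [nat_lit 5, nat_lit 6, nat_lit 5, nat_lit 5, nat_lit 5, nat_lit 3],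
 [nat_lit 5, nat_lit 5, nat_lit 5, nat_lit 6, nat_lit 5, nat_lit 3, nat_lit 2, nat_lit 0],
 [nat_lit 5, nat_lit 5, nat_lit 6, nat_lit 5, nat_lit 5, nat_lit 3, nat_lit 0, nat_lit 1],
 [nat_lit 5, nat_lit 6, nat_lit 4, nat_lit 2, nat_lit 1],
 [nat_lit 5, nat_lit 5, nat_lit 5, nat_lit 6, nat_lit 5, nat_lit 5, nat_lit 5, nat_lit 2, nat_lit 0],
 [nat_lit 5, nat_lit 5, nat_lit 6, nat_lit 4, nat_lit 4, nat_lit 1, nat_lit 0, nat_lit 1, nat_lit 0],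
 [nat_lit 4, nat_lit 6, nat_lit 5, nat_lit 1, nat_lit 0, nat_lit 1, nat_lit 0],
 [nat_lit 6, nat_lit 0, nat_lit 2],
 [nat_lit 4, nat_lit 4, nat_lit 6, nat_lit 5, nat_lit 5, nat_lit 2, nat_lit 1],
 [nat_lit 5, nat_lit 5, nat_lit 5, nat_lit 0, nat_lit 1],
 [nat_lit 5, nat_lit 6, nat_lit 4, nat_lit 3, nat_lit 0, nat_lit 1],
 [nat_lit 5, nat_lit 5, nat_lit 5, nat_lit 6, nat_lit 5, nat_lit 5, nat_lit 5, nat_lit 3, nat_lit 1, nat_lit 0, nat_lit 1, nat_lit 0],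
 [nat_lit 5, nat_lit 5, nat_lit 6, nat_lit 4, nat_lit 4, nat_lit 3, nat_lit 2, nat_lit 0],
 [nat_lit 4, nat_lit 6, nat_lit 5, nat_lit 3, nat_lit 2, nat_lit 0],
 [nat_lit 6, nat_lit 3],
 [nat_lit 4, nat_lit 4, nat_lit 6, nat_lit 5, nat_lit 5, nat_lit 3, nat_lit 0, nat_lit 1],
 [nat_lit 5, nat_lit 5, nat_lit 5, nat_lit 3, nat_lit 2, nat_lit 1],
 [nat_lit 5, nat_lit 5, nat_lit 5, nat_lit 6, nat_lit 4, nat_lit 1, nat_lit 2],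
 [nat_lit 5, nat_lit 5, nat_lit 6, nat_lit 2, nat_lit 0],
 [nat_lit 4, nat_lit 6, nat_lit 5, nat_lit 5, nat_lit 5, nat_lit 2, nat_lit 0],
 [nat_lit 6, nat_lit 5, nat_lit 5, nat_lit 1, nat_lit 2],
 [nat_lit 4, nat_lit 4, nat_lit 6, nat_lit 4, nat_lit 4, nat_lit 1, nat_lit 0, nat_lit 1, nat_lit 0],
 [nat_lit 4, nat_lit 0, nat_lit 1],
 [nat_lit 5, nat_lit 6, nat_lit 5],
 [nat_lit 5, nat_lit 5, nat_lit 5, nat_lit 6, nat_lit 4, nat_lit 3, nat_lit 1, nat_lit 0],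
 [nat_lit 5, nat_lit 5, nat_lit 6, nat_lit 3, nat_lit 1, nat_lit 0, nat_lit 1, nat_lit 0],
 [nat_lit 4, nat_lit 6, nat_lit 5, nat_lit 5, nat_lit 5, nat_lit 3, nat_lit 1, nat_lit 0, nat_lit 1, nat_lit 0],
 [nat_lit 6, nat_lit 5, nat_lit 5, nat_lit 3, nat_lit 1, nat_lit 0],
 [nat_lit 4, nat_lit 4, nat_lit 6, nat_lit 4, nat_lit 4, nat_lit 3, nat_lit 2, nat_lit 0],
 [nat_lit 4, nat_lit 3, nat_lit 2, nat_lit 1],
 [nat_lit 5, nat_lit 6, nat_lit 5, nat_lit 3, nat_lit 0, nat_lit 2],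
 [nat_lit 4, nat_lit 6, nat_lit 4, nat_lit 0, nat_lit 2],
 [nat_lit 6, nat_lit 4, nat_lit 4, nat_lit 1, nat_lit 0],
 [nat_lit 4, nat_lit 4, nat_lit 6, nat_lit 1, nat_lit 2],
 [nat_lit 5, nat_lit 1, nat_lit 0, nat_lit 1, nat_lit 0],
 [nat_lit 5, nat_lit 6, nat_lit 5, nat_lit 5, nat_lit 5, nat_lit 2, nat_lit 1],
 [nat_lit 5, nat_lit 5, nat_lit 5, nat_lit 6, nat_lit 5, nat_lit 0, nat_lit 1],
 [nat_lit 5, nat_lit 5, nat_lit 6, nat_lit 5, nat_lit 5, nat_lit 2, nat_lit 0],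
 [nat_lit 4, nat_lit 6, nat_lit 4, nat_lit 3],
 [nat_lit 6, nat_lit 4, nat_lit 4, nat_lit 3, nat_lit 1, nat_lit 2],
 [nat_lit 4, nat_lit 4, nat_lit 6, nat_lit 3, nat_lit 1, nat_lit 0],
 [nat_lit 5, nat_lit 3, nat_lit 2, nat_lit 0],
 [nat_lit 5, nat_lit 6, nat_lit 5, nat_lit 5, nat_lit 5, nat_lit 3, nat_lit 0, nat_lit 1],
 [nat_lit 5, nat_lit 5, nat_lit 5, nat_lit 6, nat_lit 5, nat_lit 3, nat_lit 2, nat_lit 1],
 [nat_lit 5, nat_lit 5, nat_lit 6, nat_lit 5, nat_lit 5, nat_lit 3, nat_lit 1, nat_lit 0, nat_lit 1, nat_lit 0],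
 [nat_lit 4, nat_lit 6, nat_lit 4],
 [nat_lit 6, nat_lit 4, nat_lit 4, nat_lit 2, nat_lit 1],
 [nat_lit 4, nat_lit 4, nat_lit 6, nat_lit 1, nat_lit 0],
 [nat_lit 5, nat_lit 0, nat_lit 2],
 [nat_lit 5, nat_lit 6, nat_lit 5, nat_lit 5, nat_lit 5, nat_lit 0, nat_lit 1],
 [nat_lit 5, nat_lit 5, nat_lit 5, nat_lit 6, nat_lit 5, nat_lit 1, nat_lit 2],
 [nat_lit 5, nat_lit 5, nat_lit 6, nat_lit 5, nat_lit 5, nat_lit 1, nat_lit 0, nat_lit 1, nat_lit 0],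
 [nat_lit 4, nat_lit 6, nat_lit 4, nat_lit 3, nat_lit 0, nat_lit 2],
 [nat_lit 6, nat_lit 4, nat_lit 4, nat_lit 3, nat_lit 0, nat_lit 1],
 [nat_lit 4, nat_lit 4, nat_lit 6, nat_lit 3, nat_lit 1, nat_lit 2],
 [nat_lit 5, nat_lit 3],
 [nat_lit 5, nat_lit 6, nat_lit 5, nat_lit 5, nat_lit 5, nat_lit 3, nat_lit 2, nat_lit 1],
 [nat_lit 5, nat_lit 5, nat_lit 5, nat_lit 6, nat_lit 5, nat_lit 3, nat_lit 1, nat_lit 0],
 [nat_lit 5, nat_lit 5, nat_lit 6, nat_lit 5, nat_lit 5, nat_lit 3, nat_lit 2, nat_lit 0],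
 [nat_lit 5, nat_lit 5, nat_lit 5, nat_lit 6, nat_lit 4, nat_lit 2, nat_lit 0],
 [nat_lit 5, nat_lit 5, nat_lit 6, nat_lit 2, nat_lit 1],
 [nat_lit 4, nat_lit 6, nat_lit 5, nat_lit 5, nat_lit 5, nat_lit 2, nat_lit 1],
 [nat_lit 6, nat_lit 5, nat_lit 5, nat_lit 2, nat_lit 0],
 [nat_lit 4, nat_lit 4, nat_lit 6, nat_lit 4, nat_lit 4, nat_lit 1, nat_lit 0],
 [nat_lit 4, nat_lit 1, nat_lit 0, nat_lit 1, nat_lit 0],
 [nat_lit 5, nat_lit 6, nat_lit 5, nat_lit 0, nat_lit 1],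
 [nat_lit 5, nat_lit 5, nat_lit 5, nat_lit 6, nat_lit 4, nat_lit 3, nat_lit 1, nat_lit 0, nat_lit 1, nat_lit 0],
 [nat_lit 5, nat_lit 5, nat_lit 6, nat_lit 3, nat_lit 0, nat_lit 1],
 [nat_lit 4, nat_lit 6, nat_lit 5, nat_lit 5, nat_lit 5, nat_lit 3, nat_lit 0, nat_lit 1],
 [nat_lit 6, nat_lit 5, nat_lit 5, nat_lit 3, nat_lit 1, nat_lit 0, nat_lit 1, nat_lit 0],
 [nat_lit 4, nat_lit 4, nat_lit 6, nat_lit 4, nat_lit 4, nat_lit 3, nat_lit 1, nat_lit 2],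
 [nat_lit 4, nat_lit 3, nat_lit 2, nat_lit 0],
 [nat_lit 5, nat_lit 6, nat_lit 5, nat_lit 3, nat_lit 2, nat_lit 1],
 [nat_lit 5, nat_lit 6, nat_lit 4, nat_lit 1, nat_lit 2],
 [nat_lit 5, nat_lit 5, nat_lit 5, nat_lit 6, nat_lit 5, nat_lit 5, nat_lit 5, nat_lit 0, nat_lit 2],
 [nat_lit 5, nat_lit 5, nat_lit 6, nat_lit 4, nat_lit 4],
 [nat_lit 4, nat_lit 6, nat_lit 5],
 [nat_lit 6, nat_lit 2, nat_lit 0],
 [nat_lit 4, nat_lit 4, nat_lit 6, nat_lit 5, nat_lit 5, nat_lit 1, nat_lit 2],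
 [nat_lit 5, nat_lit 5, nat_lit 5, nat_lit 1, nat_lit 0],
 [nat_lit 5, nat_lit 6, nat_lit 4, nat_lit 3, nat_lit 1, nat_lit 0],
 [nat_lit 5, nat_lit 5, nat_lit 5, nat_lit 6, nat_lit 5, nat_lit 5, nat_lit 5, nat_lit 3],
 [nat_lit 5, nat_lit 5, nat_lit 6, nat_lit 4, nat_lit 4, nat_lit 3, nat_lit 0, nat_lit 2],
 [nat_lit 4, nat_lit 6, nat_lit 5, nat_lit 3, nat_lit 0, nat_lit 2],
 [nat_lit 6, nat_lit 3, nat_lit 1, nat_lit 0, nat_lit 1, nat_lit 0],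
 [nat_lit 4, nat_lit 4, nat_lit 6, nat_lit 5, nat_lit 5, nat_lit 3, nat_lit 1, nat_lit 0],
 [nat_lit 5, nat_lit 5, nat_lit 5, nat_lit 3, nat_lit 1, nat_lit 2],
 [nat_lit 5, nat_lit 5, nat_lit 5, nat_lit 6, nat_lit 4, nat_lit 0, nat_lit 2],
 [nat_lit 5, nat_lit 5, nat_lit 6, nat_lit 1, nat_lit 2],
 [nat_lit 4, nat_lit 6, nat_lit 5, nat_lit 5, nat_lit 5, nat_lit 1, nat_lit 2],
 [nat_lit 6, nat_lit 5, nat_lit 5, nat_lit 0, nat_lit 2],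
 [nat_lit 4, nat_lit 4, nat_lit 6, nat_lit 4, nat_lit 4, nat_lit 0, nat_lit 1],
 [nat_lit 4],
 [nat_lit 5, nat_lit 6, nat_lit 5, nat_lit 1, nat_lit 0],
 [nat_lit 5, nat_lit 5, nat_lit 5, nat_lit 6, nat_lit 4, nat_lit 3],
 [nat_lit 5, nat_lit 5, nat_lit 6, nat_lit 3, nat_lit 1, nat_lit 0],
 [nat_lit 4, nat_lit 6, nat_lit 5, nat_lit 5, nat_lit 5, nat_lit 3, nat_lit 1, nat_lit 0],
 [nat_lit 6, nat_lit 5, nat_lit 5, nat_lit 3],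
 [nat_lit 4, nat_lit 4, nat_lit 6, nat_lit 4, nat_lit 4, nat_lit 3, nat_lit 2, nat_lit 1],
 [nat_lit 4, nat_lit 3, nat_lit 0, nat_lit 2],
 [nat_lit 5, nat_lit 6, nat_lit 5, nat_lit 3, nat_lit 1, nat_lit 2],
 [nat_lit 4, nat_lit 6, nat_lit 4, nat_lit 1, nat_lit 0, nat_lit 1, nat_lit 0],
 [nat_lit 6, nat_lit 4, nat_lit 4, nat_lit 1, nat_lit 2],
 [nat_lit 4, nat_lit 4, nat_lit 6, nat_lit 0, nat_lit 1],
 [nat_lit 5, nat_lit 2, nat_lit 0],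
 [nat_lit 5, nat_lit 6, nat_lit 5, nat_lit 5, nat_lit 5, nat_lit 1, nat_lit 0],
 [nat_lit 5, nat_lit 5, nat_lit 5, nat_lit 6, nat_lit 5, nat_lit 2, nat_lit 1],
 [nat_lit 5, nat_lit 5, nat_lit 6, nat_lit 5, nat_lit 5],
 [nat_lit 4, nat_lit 6, nat_lit 4, nat_lit 3, nat_lit 2, nat_lit 0],
 [nat_lit 6, nat_lit 4, nat_lit 4, nat_lit 3, nat_lit 1, nat_lit 0],
 [nat_lit 4, nat_lit 4, nat_lit 6, nat_lit 3, nat_lit 2, nat_lit 1],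
 [nat_lit 5, nat_lit 3, nat_lit 1, nat_lit 0, nat_lit 1, nat_lit 0],
 [nat_lit 5, nat_lit 6, nat_lit 5, nat_lit 5, nat_lit 5, nat_lit 3, nat_lit 1, nat_lit 2],
 [nat_lit 5, nat_lit 5, nat_lit 5, nat_lit 6, nat_lit 5, nat_lit 3, nat_lit 0, nat_lit 1],
 [nat_lit 5, nat_lit 5, nat_lit 6, nat_lit 5, nat_lit 5, nat_lit 3, nat_lit 0, nat_lit 2],
 [nat_lit 4, nat_lit 6, nat_lit 4, nat_lit 2, nat_lit 0],
 [nat_lit 6, nat_lit 4, nat_lit 4, nat_lit 0, nat_lit 1],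
 [nat_lit 4, nat_lit 4, nat_lit 6, nat_lit 2, nat_lit 1],
 [nat_lit 5],
 [nat_lit 5, nat_lit 6, nat_lit 5, nat_lit 5, nat_lit 5, nat_lit 1, nat_lit 2],
 [nat_lit 5, nat_lit 5, nat_lit 5, nat_lit 6, nat_lit 5, nat_lit 1, nat_lit 0],
 [nat_lit 5, nat_lit 5, nat_lit 6, nat_lit 5, nat_lit 5, nat_lit 0, nat_lit 2],
 [nat_lit 4, nat_lit 6, nat_lit 4, nat_lit 3, nat_lit 1, nat_lit 0, nat_lit 1, nat_lit 0],
 [nat_lit 6, nat_lit 4, nat_lit 4, nat_lit 3, nat_lit 2, nat_lit 1],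
 [nat_lit 4, nat_lit 4, nat_lit 6, nat_lit 3, nat_lit 0, nat_lit 1],
 [nat_lit 5, nat_lit 3, nat_lit 0, nat_lit 2],
 [nat_lit 5, nat_lit 6, nat_lit 5, nat_lit 5, nat_lit 5, nat_lit 3, nat_lit 1, nat_lit 0],
 [nat_lit 5, nat_lit 5, nat_lit 5, nat_lit 6, nat_lit 5, nat_lit 3, nat_lit 1, nat_lit 2],
 [nat_lit 5, nat_lit 5, nat_lit 6, nat_lit 5, nat_lit 5, nat_lit 3],
 [nat_lit 5, nat_lit 5, nat_lit 5, nat_lit 6, nat_lit 4, nat_lit 2, nat_lit 1],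
 [nat_lit 5, nat_lit 5, nat_lit 6, nat_lit 0, nat_lit 2],
 [nat_lit 4, nat_lit 6, nat_lit 5, nat_lit 5, nat_lit 5, nat_lit 0, nat_lit 2],
 [nat_lit 6, nat_lit 5, nat_lit 5, nat_lit 2, nat_lit 1],
 [nat_lit 4, nat_lit 4, nat_lit 6, nat_lit 4, nat_lit 4],
 [nat_lit 4, nat_lit 1, nat_lit 0],
 [nat_lit 5, nat_lit 6, nat_lit 5, nat_lit 1, nat_lit 0, nat_lit 1, nat_lit 0],
 [nat_lit 5, nat_lit 5, nat_lit 5, nat_lit 6, nat_lit 4, nat_lit 3, nat_lit 0, nat_lit 1],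
 [nat_lit 5, nat_lit 5, nat_lit 6, nat_lit 3],
 [nat_lit 4, nat_lit 6, nat_lit 5, nat_lit 5, nat_lit 5, nat_lit 3],
 [nat_lit 6, nat_lit 5, nat_lit 5, nat_lit 3, nat_lit 0, nat_lit 1],
 [nat_lit 4, nat_lit 4, nat_lit 6, nat_lit 4, nat_lit 4, nat_lit 3, nat_lit 0, nat_lit 2],
 [nat_lit 4, nat_lit 3, nat_lit 1, nat_lit 2],
 [nat_lit 5, nat_lit 6, nat_lit 5, nat_lit 3, nat_lit 2, nat_lit 0],
 [nat_lit 5, nat_lit 6, nat_lit 4, nat_lit 1, nat_lit 0, nat_lit 1, nat_lit 0],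
 [nat_lit 5, nat_lit 5, nat_lit 5, nat_lit 6, nat_lit 5, nat_lit 5, nat_lit 5, nat_lit 1, nat_lit 0],
 [nat_lit 5, nat_lit 5, nat_lit 6, nat_lit 4, nat_lit 4, nat_lit 1, nat_lit 2],
 [nat_lit 4, nat_lit 6, nat_lit 5, nat_lit 1, nat_lit 2],
 [nat_lit 6, nat_lit 0, nat_lit 1],
 [nat_lit 4, nat_lit 4, nat_lit 6, nat_lit 5, nat_lit 5, nat_lit 1, nat_lit 0, nat_lit 1, nat_lit 0],
 [nat_lit 5, nat_lit 5, nat_lit 5, nat_lit 2, nat_lit 0],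
 [nat_lit 5, nat_lit 6, nat_lit 4, nat_lit 3, nat_lit 2, nat_lit 0],
 [nat_lit 5, nat_lit 5, nat_lit 5, nat_lit 6, nat_lit 5, nat_lit 5, nat_lit 5, nat_lit 3, nat_lit 1, nat_lit 2],
 [nat_lit 5, nat_lit 5, nat_lit 6, nat_lit 4, nat_lit 4, nat_lit 3, nat_lit 1, nat_lit 0],
 [nat_lit 4, nat_lit 6, nat_lit 5, nat_lit 3, nat_lit 1, nat_lit 0],
 [nat_lit 6, nat_lit 3, nat_lit 2, nat_lit 1],
 [nat_lit 4, nat_lit 4, nat_lit 6, nat_lit 5, nat_lit 5, nat_lit 3, nat_lit 2, nat_lit 0],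
 [nat_lit 5, nat_lit 5, nat_lit 5, nat_lit 3, nat_lit 1, nat_lit 0, nat_lit 1, nat_lit 0],
 [nat_lit 4, nat_lit 6, nat_lit 4, nat_lit 2, nat_lit 1],
 [nat_lit 6, nat_lit 4, nat_lit 4, nat_lit 1, nat_lit 0, nat_lit 1, nat_lit 0],
 [nat_lit 4, nat_lit 4, nat_lit 6, nat_lit 0, nat_lit 2],
 [nat_lit 5, nat_lit 0, nat_lit 1],
 [nat_lit 5, nat_lit 6, nat_lit 5, nat_lit 5, nat_lit 5, nat_lit 2, nat_lit 0],
 [nat_lit 5, nat_lit 5, nat_lit 5, nat_lit 6, nat_lit 5],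
 [nat_lit 5, nat_lit 5, nat_lit 6, nat_lit 5, nat_lit 5, nat_lit 1, nat_lit 2],
 [nat_lit 4, nat_lit 6, nat_lit 4, nat_lit 3, nat_lit 0, nat_lit 1],
 [nat_lit 6, nat_lit 4, nat_lit 4, nat_lit 3, nat_lit 2, nat_lit 0],
 [nat_lit 4, nat_lit 4, nat_lit 6, nat_lit 3],
 [nat_lit 5, nat_lit 3, nat_lit 2, nat_lit 1],
 [nat_lit 5, nat_lit 6, nat_lit 5, nat_lit 5, nat_lit 5, nat_lit 3, nat_lit 1, nat_lit 0, nat_lit 1, nat_lit 0],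
 [nat_lit 5, nat_lit 5, nat_lit 5, nat_lit 6, nat_lit 5, nat_lit 3, nat_lit 0, nat_lit 2],
 [nat_lit 5, nat_lit 5, nat_lit 6, nat_lit 5, nat_lit 5, nat_lit 3, nat_lit 1, nat_lit 0],
 [nat_lit 5, nat_lit 5, nat_lit 5, nat_lit 6, nat_lit 4],
 [nat_lit 5, nat_lit 5, nat_lit 6, nat_lit 1, nat_lit 0],
 [nat_lit 4, nat_lit 6, nat_lit 5, nat_lit 5, nat_lit 5, nat_lit 1, nat_lit 0],
 [nat_lit 6, nat_lit 5, nat_lit 5],
 [nat_lit 4, nat_lit 4, nat_lit 6, nat_lit 4, nat_lit 4, nat_lit 1, nat_lit 2],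
 [nat_lit 4, nat_lit 2, nat_lit 0],
 [nat_lit 5, nat_lit 6, nat_lit 5, nat_lit 2, nat_lit 1],
 [nat_lit 5, nat_lit 5, nat_lit 5, nat_lit 6, nat_lit 4, nat_lit 3, nat_lit 0, nat_lit 2],
 [nat_lit 5, nat_lit 5, nat_lit 6, nat_lit 3, nat_lit 1, nat_lit 2],
 [nat_lit 4, nat_lit 6, nat_lit 5, nat_lit 5, nat_lit 5, nat_lit 3, nat_lit 1, nat_lit 2],
 [nat_lit 6, nat_lit 5, nat_lit 5, nat_lit 3, nat_lit 0, nat_lit 2],
 [nat_lit 4, nat_lit 4, nat_lit 6, nat_lit 4, nat_lit 4, nat_lit 3, nat_lit 1, nat_lit 0],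
 [nat_lit 4, nat_lit 3, nat_lit 1, nat_lit 0, nat_lit 1, nat_lit 0],
 [nat_lit 5, nat_lit 6, nat_lit 5, nat_lit 3, nat_lit 0, nat_lit 1],
 [nat_lit 5, nat_lit 5, nat_lit 5, nat_lit 6, nat_lit 4, nat_lit 1, nat_lit 0],
 [nat_lit 5, nat_lit 5, nat_lit 6, nat_lit 1, nat_lit 0, nat_lit 1, nat_lit 0],
 [nat_lit 4, nat_lit 6, nat_lit 5, nat_lit 5, nat_lit 5, nat_lit 1, nat_lit 0, nat_lit 1, nat_lit 0],
 [nat_lit 6, nat_lit 5, nat_lit 5, nat_lit 1, nat_lit 0],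
 [nat_lit 4, nat_lit 4, nat_lit 6, nat_lit 4, nat_lit 4, nat_lit 0, nat_lit 2],
 [nat_lit 4, nat_lit 1, nat_lit 2],
 [nat_lit 5, nat_lit 6, nat_lit 5, nat_lit 2, nat_lit 0],
 [nat_lit 5, nat_lit 5, nat_lit 5, nat_lit 6, nat_lit 4, nat_lit 3, nat_lit 1, nat_lit 2],
 [nat_lit 5, nat_lit 5, nat_lit 6, nat_lit 3, nat_lit 2, nat_lit 0],
 [nat_lit 4, nat_lit 6, nat_lit 5, nat_lit 5, nat_lit 5, nat_lit 3, nat_lit 2, nat_lit 0],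
 [nat_lit 6, nat_lit 5, nat_lit 5, nat_lit 3, nat_lit 1, nat_lit 2],
 [nat_lit 4, nat_lit 4, nat_lit 6, nat_lit 4, nat_lit 4, nat_lit 3],
 [nat_lit 4, nat_lit 3, nat_lit 1, nat_lit 0],
 [nat_lit 5, nat_lit 6, nat_lit 5, nat_lit 3, nat_lit 1, nat_lit 0, nat_lit 1, nat_lit 0],
 [nat_lit 4, nat_lit 6, nat_lit 4, nat_lit 0, nat_lit 1],
 [nat_lit 6, nat_lit 4, nat_lit 4, nat_lit 0, nat_lit 2],
 [nat_lit 4, nat_lit 4, nat_lit 6],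
 [nat_lit 5, nat_lit 1, nat_lit 2],
 [nat_lit 5, nat_lit 6, nat_lit 5, nat_lit 5, nat_lit 5, nat_lit 1, nat_lit 0, nat_lit 1, nat_lit 0],
 [nat_lit 5, nat_lit 5, nat_lit 5, nat_lit 6, nat_lit 5, nat_lit 2, nat_lit 0],
 [nat_lit 5, nat_lit 5, nat_lit 6, nat_lit 5, nat_lit 5, nat_lit 1, nat_lit 0],
 [nat_lit 4, nat_lit 6, nat_lit 4, nat_lit 3, nat_lit 2, nat_lit 1],
 [nat_lit 6, nat_lit 4, nat_lit 4, nat_lit 3],
 [nat_lit 4, nat_lit 4, nat_lit 6, nat_lit 3, nat_lit 0, nat_lit 2],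
 [nat_lit 5, nat_lit 3, nat_lit 1, nat_lit 0],
 [nat_lit 5, nat_lit 6, nat_lit 5, nat_lit 5, nat_lit 5, nat_lit 3, nat_lit 2, nat_lit 0],
 [nat_lit 5, nat_lit 5, nat_lit 5, nat_lit 6, nat_lit 5, nat_lit 3, nat_lit 1, nat_lit 0, nat_lit 1, nat_lit 0],
 [nat_lit 5, nat_lit 5, nat_lit 6, nat_lit 5, nat_lit 5, nat_lit 3, nat_lit 1, nat_lit 2],
 [nat_lit 4, nat_lit 4, nat_lit 6, nat_lit 4, nat_lit 2],
 [nat_lit 0],
 [nat_lit 5, nat_lit 6, nat_lit 5, nat_lit 5, nat_lit 0, nat_lit 2, nat_lit 0],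
 [nat_lit 5, nat_lit 5, nat_lit 5, nat_lit 6, nat_lit 1, nat_lit 2, nat_lit 0],
 [nat_lit 5, nat_lit 5, nat_lit 6, nat_lit 5, nat_lit 1],
 [nat_lit 4, nat_lit 6, nat_lit 4, nat_lit 4, nat_lit 0, nat_lit 1, nat_lit 0],
 [nat_lit 6, nat_lit 5, nat_lit 5, nat_lit 5, nat_lit 1, nat_lit 2, nat_lit 0],
 [nat_lit 4, nat_lit 4, nat_lit 6, nat_lit 4, nat_lit 3, nat_lit 1, nat_lit 0, nat_lit 1],
 [nat_lit 3, nat_lit 0, nat_lit 2, nat_lit 0],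
 [nat_lit 5, nat_lit 6, nat_lit 5, nat_lit 5, nat_lit 3, nat_lit 0],
 [nat_lit 5, nat_lit 5, nat_lit 5, nat_lit 6, nat_lit 3, nat_lit 1],
 [nat_lit 5, nat_lit 5, nat_lit 6, nat_lit 5, nat_lit 3, nat_lit 1, nat_lit 2, nat_lit 0],
 [nat_lit 4, nat_lit 6, nat_lit 4, nat_lit 4, nat_lit 3, nat_lit 2, nat_lit 1, nat_lit 0],
 [nat_lit 6, nat_lit 5, nat_lit 5, nat_lit 5, nat_lit 3, nat_lit 1],
 [nat_lit 4, nat_lit 4, nat_lit 6, nat_lit 4, nat_lit 1],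
 [nat_lit 2, nat_lit 1, nat_lit 0],
 [nat_lit 5, nat_lit 6, nat_lit 5, nat_lit 5, nat_lit 0, nat_lit 1, nat_lit 0],
 [nat_lit 5, nat_lit 5, nat_lit 5, nat_lit 6, nat_lit 0],
 [nat_lit 5, nat_lit 5, nat_lit 6, nat_lit 5, nat_lit 0, nat_lit 2, nat_lit 0],
 [nat_lit 4, nat_lit 6, nat_lit 4, nat_lit 4, nat_lit 2],
 [nat_lit 6, nat_lit 5, nat_lit 5, nat_lit 5, nat_lit 0],
 [nat_lit 4, nat_lit 4, nat_lit 6, nat_lit 4, nat_lit 3, nat_lit 1, nat_lit 2, nat_lit 0],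
 [nat_lit 3, nat_lit 0, nat_lit 1, nat_lit 0],
 [nat_lit 5, nat_lit 6, nat_lit 5, nat_lit 5, nat_lit 3, nat_lit 2, nat_lit 1, nat_lit 0],
 [nat_lit 5, nat_lit 5, nat_lit 5, nat_lit 6, nat_lit 3, nat_lit 0, nat_lit 2, nat_lit 0],
 [nat_lit 5, nat_lit 5, nat_lit 6, nat_lit 5, nat_lit 3, nat_lit 0],
 [nat_lit 4, nat_lit 6, nat_lit 4, nat_lit 4, nat_lit 3, nat_lit 1, nat_lit 0, nat_lit 1],
 [nat_lit 6, nat_lit 5, nat_lit 5, nat_lit 5, nat_lit 3, nat_lit 0, nat_lit 2, nat_lit 0],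
 [nat_lit 4, nat_lit 4, nat_lit 6, nat_lit 4, nat_lit 0, nat_lit 1, nat_lit 0],
 [nat_lit 1, nat_lit 2, nat_lit 0],
 [nat_lit 5, nat_lit 6, nat_lit 5, nat_lit 5, nat_lit 1],
 [nat_lit 5, nat_lit 5, nat_lit 5, nat_lit 6, nat_lit 1, nat_lit 0, nat_lit 1],
 [nat_lit 5, nat_lit 5, nat_lit 6, nat_lit 5, nat_lit 2],
 [nat_lit 4, nat_lit 6, nat_lit 4, nat_lit 4, nat_lit 0, nat_lit 2, nat_lit 0],
 [nat_lit 6, nat_lit 5, nat_lit 5, nat_lit 5, nat_lit 1, nat_lit 0, nat_lit 1],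
 [nat_lit 4, nat_lit 4, nat_lit 6, nat_lit 4, nat_lit 3, nat_lit 2, nat_lit 1, nat_lit 0],
 [nat_lit 3, nat_lit 1],
 [nat_lit 5, nat_lit 6, nat_lit 5, nat_lit 5, nat_lit 3, nat_lit 1, nat_lit 2, nat_lit 0],
 [nat_lit 5, nat_lit 5, nat_lit 5, nat_lit 6, nat_lit 3, nat_lit 2],
 [nat_lit 5, nat_lit 5, nat_lit 6, nat_lit 5, nat_lit 3, nat_lit 1, nat_lit 0, nat_lit 1],
 [nat_lit 4, nat_lit 6, nat_lit 4, nat_lit 4, nat_lit 3, nat_lit 0],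
 [nat_lit 6, nat_lit 5, nat_lit 5, nat_lit 5, nat_lit 3, nat_lit 2],
 [nat_lit 4, nat_lit 4, nat_lit 6, nat_lit 4, nat_lit 0, nat_lit 2, nat_lit 0],
 [nat_lit 1, nat_lit 0, nat_lit 1],
 [nat_lit 5, nat_lit 6, nat_lit 5, nat_lit 5, nat_lit 2],
 [nat_lit 5, nat_lit 5, nat_lit 5, nat_lit 6, nat_lit 2, nat_lit 1, nat_lit 0],
 [nat_lit 5, nat_lit 5, nat_lit 6, nat_lit 5, nat_lit 0, nat_lit 1, nat_lit 0],
 [nat_lit 4, nat_lit 6, nat_lit 4, nat_lit 4, nat_lit 1],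
 [nat_lit 6, nat_lit 5, nat_lit 5, nat_lit 5, nat_lit 2, nat_lit 1, nat_lit 0],
 [nat_lit 4, nat_lit 4, nat_lit 6, nat_lit 4, nat_lit 3, nat_lit 0],
 [nat_lit 3, nat_lit 2],
 [nat_lit 5, nat_lit 6, nat_lit 5, nat_lit 5, nat_lit 3, nat_lit 1, nat_lit 0, nat_lit 1],
 [nat_lit 5, nat_lit 5, nat_lit 5, nat_lit 6, nat_lit 3, nat_lit 0, nat_lit 1, nat_lit 0],
 [nat_lit 5, nat_lit 5, nat_lit 6, nat_lit 5, nat_lit 3, nat_lit 2, nat_lit 1, nat_lit 0],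
 [nat_lit 4, nat_lit 6, nat_lit 4, nat_lit 4, nat_lit 3, nat_lit 1, nat_lit 2, nat_lit 0],
 [nat_lit 6, nat_lit 5, nat_lit 5, nat_lit 5, nat_lit 3, nat_lit 0, nat_lit 1, nat_lit 0],
 [nat_lit 4, nat_lit 4, nat_lit 6, nat_lit 4, nat_lit 2, nat_lit 1, nat_lit 0],
 [nat_lit 0, nat_lit 1, nat_lit 0],
 [nat_lit 5, nat_lit 6, nat_lit 5, nat_lit 5, nat_lit 1, nat_lit 2, nat_lit 0],
 [nat_lit 5, nat_lit 5, nat_lit 5, nat_lit 6, nat_lit 2],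
 [nat_lit 5, nat_lit 5, nat_lit 6, nat_lit 5, nat_lit 0],
 [nat_lit 4, nat_lit 6, nat_lit 4, nat_lit 4, nat_lit 1, nat_lit 0, nat_lit 1],
 [nat_lit 6, nat_lit 5, nat_lit 5, nat_lit 5, nat_lit 2],
 [nat_lit 4, nat_lit 4, nat_lit 6, nat_lit 4, nat_lit 3, nat_lit 0, nat_lit 1, nat_lit 0],
 [nat_lit 3, nat_lit 2, nat_lit 1, nat_lit 0],
 [nat_lit 5, nat_lit 6, nat_lit 5, nat_lit 5, nat_lit 3, nat_lit 1],
 [nat_lit 5, nat_lit 5, nat_lit 5, nat_lit 6, nat_lit 3, nat_lit 1, nat_lit 0, nat_lit 1],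
 [nat_lit 5, nat_lit 5, nat_lit 6, nat_lit 5, nat_lit 3, nat_lit 0, nat_lit 2, nat_lit 0],
 [nat_lit 4, nat_lit 6, nat_lit 4, nat_lit 4, nat_lit 3, nat_lit 2],
 [nat_lit 6, nat_lit 5, nat_lit 5, nat_lit 5, nat_lit 3, nat_lit 1, nat_lit 0, nat_lit 1],
 [nat_lit 5, nat_lit 5, nat_lit 6, nat_lit 4, nat_lit 2],
 [nat_lit 4, nat_lit 6, nat_lit 5, nat_lit 5, nat_lit 2],
 [nat_lit 6, nat_lit 5, nat_lit 0, nat_lit 1, nat_lit 0],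
 [nat_lit 4, nat_lit 4, nat_lit 6, nat_lit 5, nat_lit 5, nat_lit 5, nat_lit 2, nat_lit 1, nat_lit 0],
 [nat_lit 4, nat_lit 4, nat_lit 1, nat_lit 0, nat_lit 1],
 [nat_lit 5, nat_lit 6, nat_lit 2, nat_lit 1, nat_lit 0],
 [nat_lit 5, nat_lit 5, nat_lit 5, nat_lit 6, nat_lit 4, nat_lit 4, nat_lit 0, nat_lit 1, nat_lit 0],
 [nat_lit 5, nat_lit 5, nat_lit 6, nat_lit 4, nat_lit 3, nat_lit 1, nat_lit 0, nat_lit 1],
 [nat_lit 4, nat_lit 6, nat_lit 5, nat_lit 5, nat_lit 3, nat_lit 1, nat_lit 0, nat_lit 1],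
 [nat_lit 6, nat_lit 5, nat_lit 3, nat_lit 2, nat_lit 1, nat_lit 0],
 [nat_lit 4, nat_lit 4, nat_lit 6, nat_lit 5, nat_lit 5, nat_lit 5, nat_lit 3, nat_lit 0, nat_lit 1, nat_lit 0],
 [nat_lit 4, nat_lit 4, nat_lit 3, nat_lit 2],
 [nat_lit 5, nat_lit 6, nat_lit 3, nat_lit 0, nat_lit 1, nat_lit 0],
 [nat_lit 5, nat_lit 5, nat_lit 5, nat_lit 6, nat_lit 4, nat_lit 4, nat_lit 3, nat_lit 2, nat_lit 1, nat_lit 0],
 [nat_lit 6, nat_lit 4, nat_lit 2],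
 [nat_lit 4, nat_lit 4, nat_lit 6, nat_lit 5, nat_lit 0, nat_lit 1, nat_lit 0],
 [nat_lit 5, nat_lit 5, nat_lit 0],
 [nat_lit 5, nat_lit 6, nat_lit 4, nat_lit 4, nat_lit 0, nat_lit 1, nat_lit 0],
 [nat_lit 5, nat_lit 5, nat_lit 5, nat_lit 6, nat_lit 5, nat_lit 5, nat_lit 0, nat_lit 2, nat_lit 0],
 [nat_lit 5, nat_lit 5, nat_lit 6, nat_lit 5, nat_lit 5, nat_lit 5, nat_lit 1, nat_lit 2, nat_lit 0],
 [nat_lit 4, nat_lit 6, nat_lit 2, nat_lit 1, nat_lit 0],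
 [nat_lit 6, nat_lit 4, nat_lit 3, nat_lit 1, nat_lit 0, nat_lit 1],
 [nat_lit 4, nat_lit 4, nat_lit 6, nat_lit 5, nat_lit 3, nat_lit 2, nat_lit 1, nat_lit 0],
 [nat_lit 5, nat_lit 5, nat_lit 3, nat_lit 0, nat_lit 2, nat_lit 0],
 [nat_lit 5, nat_lit 6, nat_lit 4, nat_lit 4, nat_lit 3, nat_lit 2, nat_lit 1, nat_lit 0],
 [nat_lit 5, nat_lit 5, nat_lit 5, nat_lit 6, nat_lit 5, nat_lit 5, nat_lit 3, nat_lit 0],
 [nat_lit 5, nat_lit 5, nat_lit 6, nat_lit 5, nat_lit 5, nat_lit 5, nat_lit 3, nat_lit 1],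
 [nat_lit 4, nat_lit 6, nat_lit 3, nat_lit 0, nat_lit 1, nat_lit 0],
 [nat_lit 6, nat_lit 4, nat_lit 1, nat_lit 2, nat_lit 0],
 [nat_lit 4, nat_lit 4, nat_lit 6, nat_lit 5, nat_lit 0],
 [nat_lit 5, nat_lit 5, nat_lit 1],
 [nat_lit 5, nat_lit 6, nat_lit 4, nat_lit 4, nat_lit 0],
 [nat_lit 5, nat_lit 5, nat_lit 5, nat_lit 6, nat_lit 5, nat_lit 5, nat_lit 2, nat_lit 1, nat_lit 0],
 [nat_lit 5, nat_lit 5, nat_lit 6, nat_lit 5, nat_lit 5, nat_lit 5, nat_lit 0, nat_lit 2, nat_lit 0],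
 [nat_lit 4, nat_lit 6, nat_lit 2],
 [nat_lit 6, nat_lit 4, nat_lit 3, nat_lit 1],
 [nat_lit 4, nat_lit 4, nat_lit 6, nat_lit 5, nat_lit 3, nat_lit 0, nat_lit 2, nat_lit 0],
 [nat_lit 5, nat_lit 5, nat_lit 3, nat_lit 1, nat_lit 2, nat_lit 0],
 [nat_lit 5, nat_lit 6, nat_lit 4, nat_lit 4, nat_lit 3, nat_lit 0, nat_lit 2, nat_lit 0],
 [nat_lit 5, nat_lit 5, nat_lit 5, nat_lit 6, nat_lit 5, nat_lit 5, nat_lit 3, nat_lit 0, nat_lit 1, nat_lit 0],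
 [nat_lit 5, nat_lit 5, nat_lit 6, nat_lit 5, nat_lit 5, nat_lit 5, nat_lit 3, nat_lit 0],
 [nat_lit 4, nat_lit 6, nat_lit 3, nat_lit 1, nat_lit 0, nat_lit 1],
 [nat_lit 5, nat_lit 5, nat_lit 6, nat_lit 4, nat_lit 1, nat_lit 0, nat_lit 1],
 [nat_lit 4, nat_lit 6, nat_lit 5, nat_lit 5, nat_lit 1, nat_lit 0, nat_lit 1],
 [nat_lit 6, nat_lit 5, nat_lit 1, nat_lit 2, nat_lit 0],
 [nat_lit 4, nat_lit 4, nat_lit 6, nat_lit 5, nat_lit 5, nat_lit 5, nat_lit 0, nat_lit 1, nat_lit 0],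
 [nat_lit 4, nat_lit 4, nat_lit 0, nat_lit 2, nat_lit 0],
 [nat_lit 5, nat_lit 6, nat_lit 0, nat_lit 1, nat_lit 0],
 [nat_lit 5, nat_lit 5, nat_lit 5, nat_lit 6, nat_lit 4, nat_lit 4, nat_lit 1, nat_lit 2, nat_lit 0],
 [nat_lit 5, nat_lit 5, nat_lit 6, nat_lit 4, nat_lit 3, nat_lit 2],
 [nat_lit 4, nat_lit 6, nat_lit 5, nat_lit 5, nat_lit 3, nat_lit 2],
 [nat_lit 6, nat_lit 5, nat_lit 3, nat_lit 1],
 [nat_lit 4, nat_lit 4, nat_lit 6, nat_lit 5, nat_lit 5, nat_lit 5, nat_lit 3, nat_lit 2, nat_lit 1, nat_lit 0],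
 [nat_lit 4, nat_lit 4, nat_lit 3, nat_lit 0],
 [nat_lit 5, nat_lit 6, nat_lit 3, nat_lit 2, nat_lit 1, nat_lit 0],
 [nat_lit 5, nat_lit 5, nat_lit 5, nat_lit 6, nat_lit 4, nat_lit 4, nat_lit 3, nat_lit 1],
 [nat_lit 4, nat_lit 4, nat_lit 6, nat_lit 4, nat_lit 1, nat_lit 0, nat_lit 1],
 [nat_lit 2],
 [nat_lit 5, nat_lit 6, nat_lit 5, nat_lit 5, nat_lit 0],
 [nat_lit 5, nat_lit 5, nat_lit 5, nat_lit 6, nat_lit 1],
 [nat_lit 5, nat_lit 5, nat_lit 6, nat_lit 5, nat_lit 2, nat_lit 1, nat_lit 0],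
 [nat_lit 4, nat_lit 6, nat_lit 4, nat_lit 4, nat_lit 1, nat_lit 2, nat_lit 0],
 [nat_lit 6, nat_lit 5, nat_lit 5, nat_lit 5, nat_lit 1],
 [nat_lit 4, nat_lit 4, nat_lit 6, nat_lit 4, nat_lit 3, nat_lit 2],
 [nat_lit 3, nat_lit 1, nat_lit 0, nat_lit 1],
 [nat_lit 5, nat_lit 6, nat_lit 5, nat_lit 5, nat_lit 3, nat_lit 0, nat_lit 2, nat_lit 0],
 [nat_lit 5, nat_lit 5, nat_lit 5, nat_lit 6, nat_lit 3, nat_lit 1, nat_lit 2, nat_lit 0],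
 [nat_lit 5, nat_lit 5, nat_lit 6, nat_lit 5, nat_lit 3, nat_lit 0, nat_lit 1, nat_lit 0],
 [nat_lit 4, nat_lit 6, nat_lit 4, nat_lit 4, nat_lit 3, nat_lit 1],
 [nat_lit 6, nat_lit 5, nat_lit 5, nat_lit 5, nat_lit 3, nat_lit 1, nat_lit 2, nat_lit 0],
 [nat_lit 6, nat_lit 4, nat_lit 0],
 [nat_lit 4, nat_lit 4, nat_lit 6, nat_lit 5, nat_lit 2, nat_lit 1, nat_lit 0],
 [nat_lit 5, nat_lit 5, nat_lit 0, nat_lit 2, nat_lit 0],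
 [nat_lit 5, nat_lit 6, nat_lit 4, nat_lit 4, nat_lit 2, nat_lit 1, nat_lit 0],
 [nat_lit 5, nat_lit 5, nat_lit 5, nat_lit 6, nat_lit 5, nat_lit 5, nat_lit 1, nat_lit 0, nat_lit 1],
 [nat_lit 5, nat_lit 5, nat_lit 6, nat_lit 5, nat_lit 5, nat_lit 5, nat_lit 0, nat_lit 1, nat_lit 0],
 [nat_lit 4, nat_lit 6, nat_lit 1],
 [nat_lit 6, nat_lit 4, nat_lit 3, nat_lit 0, nat_lit 2, nat_lit 0],
 [nat_lit 4, nat_lit 4, nat_lit 6, nat_lit 5, nat_lit 3, nat_lit 0, nat_lit 1, nat_lit 0],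
 [nat_lit 5, nat_lit 5, nat_lit 3, nat_lit 0],
 [nat_lit 5, nat_lit 6, nat_lit 4, nat_lit 4, nat_lit 3, nat_lit 0, nat_lit 1, nat_lit 0],
 [nat_lit 5, nat_lit 5, nat_lit 5, nat_lit 6, nat_lit 5, nat_lit 5, nat_lit 3, nat_lit 2],
 [nat_lit 5, nat_lit 5, nat_lit 6, nat_lit 5, nat_lit 5, nat_lit 5, nat_lit 3, nat_lit 2, nat_lit 1, nat_lit 0],
 [nat_lit 4, nat_lit 6, nat_lit 3, nat_lit 1, nat_lit 2, nat_lit 0],
 [nat_lit 5, nat_lit 5, nat_lit 6, nat_lit 4, nat_lit 1],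
 [nat_lit 4, nat_lit 6, nat_lit 5, nat_lit 5, nat_lit 1],
 [nat_lit 6, nat_lit 5, nat_lit 2],
 [nat_lit 4, nat_lit 4, nat_lit 6, nat_lit 5, nat_lit 5, nat_lit 5, nat_lit 1, nat_lit 0, nat_lit 1],
 [nat_lit 4, nat_lit 4, nat_lit 1, nat_lit 2, nat_lit 0],
 [nat_lit 5, nat_lit 6, nat_lit 1, nat_lit 0, nat_lit 1],
 [nat_lit 5, nat_lit 5, nat_lit 5, nat_lit 6, nat_lit 4, nat_lit 4, nat_lit 2],
 [nat_lit 5, nat_lit 5, nat_lit 6, nat_lit 4, nat_lit 3, nat_lit 1, nat_lit 2, nat_lit 0],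
 [nat_lit 4, nat_lit 6, nat_lit 5, nat_lit 5, nat_lit 3, nat_lit 1, nat_lit 2, nat_lit 0],
 [nat_lit 6, nat_lit 5, nat_lit 3, nat_lit 1, nat_lit 0, nat_lit 1],
 [nat_lit 4, nat_lit 4, nat_lit 6, nat_lit 5, nat_lit 5, nat_lit 5, nat_lit 3, nat_lit 2],
 [nat_lit 4, nat_lit 4, nat_lit 3, nat_lit 1],
 [nat_lit 5, nat_lit 6, nat_lit 3, nat_lit 2],
 [nat_lit 5, nat_lit 5, nat_lit 5, nat_lit 6, nat_lit 4, nat_lit 4, nat_lit 3, nat_lit 1, nat_lit 0, nat_lit 1],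
 [nat_lit 5, nat_lit 5, nat_lit 6, nat_lit 4, nat_lit 1, nat_lit 2, nat_lit 0],
 [nat_lit 4, nat_lit 6, nat_lit 5, nat_lit 5, nat_lit 1, nat_lit 2, nat_lit 0],
 [nat_lit 6, nat_lit 5, nat_lit 0],
 [nat_lit 4, nat_lit 4, nat_lit 6, nat_lit 5, nat_lit 5, nat_lit 5, nat_lit 2],
 [nat_lit 4, nat_lit 4, nat_lit 0, nat_lit 1, nat_lit 0],
 [nat_lit 5, nat_lit 6, nat_lit 2],
 [nat_lit 5, nat_lit 5, nat_lit 5, nat_lit 6, nat_lit 4, nat_lit 4, nat_lit 0],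
 [nat_lit 5, nat_lit 5, nat_lit 6, nat_lit 4, nat_lit 3, nat_lit 1],
 [nat_lit 4, nat_lit 6, nat_lit 5, nat_lit 5, nat_lit 3, nat_lit 1],
 [nat_lit 6, nat_lit 5, nat_lit 3, nat_lit 0, nat_lit 2, nat_lit 0],
 [nat_lit 4, nat_lit 4, nat_lit 6, nat_lit 5, nat_lit 5, nat_lit 5, nat_lit 3, nat_lit 1, nat_lit 0, nat_lit 1],
 [nat_lit 4, nat_lit 4, nat_lit 3, nat_lit 2, nat_lit 1, nat_lit 0],
 [nat_lit 5, nat_lit 6, nat_lit 3, nat_lit 1, nat_lit 0, nat_lit 1],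
 [nat_lit 5, nat_lit 5, nat_lit 5, nat_lit 6, nat_lit 4, nat_lit 4, nat_lit 3, nat_lit 0, nat_lit 2, nat_lit 0],
 [nat_lit 6, nat_lit 4, nat_lit 1],
 [nat_lit 4, nat_lit 4, nat_lit 6, nat_lit 5, nat_lit 2],
 [nat_lit 5, nat_lit 5, nat_lit 2, nat_lit 1, nat_lit 0],
 [nat_lit 5, nat_lit 6, nat_lit 4, nat_lit 4, nat_lit 2],
 [nat_lit 5, nat_lit 5, nat_lit 5, nat_lit 6, nat_lit 5, nat_lit 5, nat_lit 0, nat_lit 1, nat_lit 0],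
 [nat_lit 5, nat_lit 5, nat_lit 6, nat_lit 5, nat_lit 5, nat_lit 5, nat_lit 0],
 [nat_lit 4, nat_lit 6, nat_lit 1, nat_lit 0, nat_lit 1],
 [nat_lit 6, nat_lit 4, nat_lit 3, nat_lit 1, nat_lit 2, nat_lit 0],
 [nat_lit 4, nat_lit 4, nat_lit 6, nat_lit 5, nat_lit 3, nat_lit 1, nat_lit 0, nat_lit 1],
 [nat_lit 5, nat_lit 5, nat_lit 3, nat_lit 0, nat_lit 1, nat_lit 0],
 [nat_lit 5, nat_lit 6, nat_lit 4, nat_lit 4, nat_lit 3, nat_lit 1, nat_lit 0, nat_lit 1],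
 [nat_lit 5, nat_lit 5, nat_lit 5, nat_lit 6, nat_lit 5, nat_lit 5, nat_lit 3, nat_lit 2, nat_lit 1, nat_lit 0],
 [nat_lit 5, nat_lit 5, nat_lit 6, nat_lit 5, nat_lit 5, nat_lit 5, nat_lit 3, nat_lit 0, nat_lit 2, nat_lit 0],
 [nat_lit 4, nat_lit 6, nat_lit 3, nat_lit 2],
 [nat_lit 4, nat_lit 4, nat_lit 6, nat_lit 4, nat_lit 0],
 [nat_lit 0, nat_lit 2, nat_lit 0],
 [nat_lit 5, nat_lit 6, nat_lit 5, nat_lit 5, nat_lit 1, nat_lit 0, nat_lit 1],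
 [nat_lit 5, nat_lit 5, nat_lit 5, nat_lit 6, nat_lit 0, nat_lit 1, nat_lit 0],
 [nat_lit 5, nat_lit 5, nat_lit 6, nat_lit 5, nat_lit 1, nat_lit 2, nat_lit 0],
 [nat_lit 4, nat_lit 6, nat_lit 4, nat_lit 4, nat_lit 2, nat_lit 1, nat_lit 0],
 [nat_lit 6, nat_lit 5, nat_lit 5, nat_lit 5, nat_lit 0, nat_lit 1, nat_lit 0],
 [nat_lit 4, nat_lit 4, nat_lit 6, nat_lit 4, nat_lit 3, nat_lit 0, nat_lit 2, nat_lit 0],
 [nat_lit 3, nat_lit 0],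
 [nat_lit 5, nat_lit 6, nat_lit 5, nat_lit 5, nat_lit 3, nat_lit 2],
 [nat_lit 5, nat_lit 5, nat_lit 5, nat_lit 6, nat_lit 3, nat_lit 2, nat_lit 1, nat_lit 0],
 [nat_lit 5, nat_lit 5, nat_lit 6, nat_lit 5, nat_lit 3, nat_lit 1],
 [nat_lit 4, nat_lit 6, nat_lit 4, nat_lit 4, nat_lit 3, nat_lit 0, nat_lit 1, nat_lit 0],
 [nat_lit 6, nat_lit 5, nat_lit 5, nat_lit 5, nat_lit 3, nat_lit 2, nat_lit 1, nat_lit 0],
 [nat_lit 6, nat_lit 4, nat_lit 0, nat_lit 1, nat_lit 0],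
 [nat_lit 4, nat_lit 4, nat_lit 6, nat_lit 5, nat_lit 0, nat_lit 2, nat_lit 0],
 [nat_lit 5, nat_lit 5, nat_lit 1, nat_lit 2, nat_lit 0],
 [nat_lit 5, nat_lit 6, nat_lit 4, nat_lit 4, nat_lit 0, nat_lit 2, nat_lit 0],
 [nat_lit 5, nat_lit 5, nat_lit 5, nat_lit 6, nat_lit 5, nat_lit 5, nat_lit 1],
 [nat_lit 5, nat_lit 5, nat_lit 6, nat_lit 5, nat_lit 5, nat_lit 5, nat_lit 1, nat_lit 0, nat_lit 1],
 [nat_lit 4, nat_lit 6, nat_lit 0],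
 [nat_lit 6, nat_lit 4, nat_lit 3, nat_lit 2, nat_lit 1, nat_lit 0],
 [nat_lit 4, nat_lit 4, nat_lit 6, nat_lit 5, nat_lit 3, nat_lit 0],
 [nat_lit 5, nat_lit 5, nat_lit 3, nat_lit 1],
 [nat_lit 5, nat_lit 6, nat_lit 4, nat_lit 4, nat_lit 3, nat_lit 0],
 [nat_lit 5, nat_lit 5, nat_lit 5, nat_lit 6, nat_lit 5, nat_lit 5, nat_lit 3, nat_lit 1, nat_lit 2, nat_lit 0],
 [nat_lit 5, nat_lit 5, nat_lit 6, nat_lit 5, nat_lit 5, nat_lit 5, nat_lit 3, nat_lit 2],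
 [nat_lit 4, nat_lit 6, nat_lit 3, nat_lit 0, nat_lit 2, nat_lit 0],
 [nat_lit 5, nat_lit 5, nat_lit 6, nat_lit 4, nat_lit 2, nat_lit 1, nat_lit 0],
 [nat_lit 4, nat_lit 6, nat_lit 5, nat_lit 5, nat_lit 2, nat_lit 1, nat_lit 0],
 [nat_lit 6, nat_lit 5, nat_lit 1, nat_lit 0, nat_lit 1],
 [nat_lit 4, nat_lit 4, nat_lit 6, nat_lit 5, nat_lit 5, nat_lit 5, nat_lit 0, nat_lit 2, nat_lit 0],
 [nat_lit 4, nat_lit 4, nat_lit 1],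
 [nat_lit 5, nat_lit 6, nat_lit 0, nat_lit 2, nat_lit 0],
 [nat_lit 5, nat_lit 5, nat_lit 5, nat_lit 6, nat_lit 4, nat_lit 4, nat_lit 1, nat_lit 0, nat_lit 1],
 [nat_lit 5, nat_lit 5, nat_lit 6, nat_lit 4, nat_lit 3, nat_lit 0, nat_lit 1, nat_lit 0],
 [nat_lit 4, nat_lit 6, nat_lit 5, nat_lit 5, nat_lit 3, nat_lit 0, nat_lit 1, nat_lit 0],
 [nat_lit 6, nat_lit 5, nat_lit 3, nat_lit 2],
 [nat_lit 4, nat_lit 4, nat_lit 6, nat_lit 5, nat_lit 5, nat_lit 5, nat_lit 3, nat_lit 0],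
 [nat_lit 4, nat_lit 4, nat_lit 3, nat_lit 1, nat_lit 2, nat_lit 0],
 [nat_lit 5, nat_lit 6, nat_lit 3, nat_lit 0],
 [nat_lit 5, nat_lit 5, nat_lit 5, nat_lit 6, nat_lit 4, nat_lit 4, nat_lit 3, nat_lit 2],
 [nat_lit 5, nat_lit 5, nat_lit 6, nat_lit 4, nat_lit 0, nat_lit 1, nat_lit 0],
 [nat_lit 4, nat_lit 6, nat_lit 5, nat_lit 5, nat_lit 0, nat_lit 1, nat_lit 0],
 [nat_lit 6, nat_lit 5, nat_lit 0, nat_lit 2, nat_lit 0],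
 [nat_lit 4, nat_lit 4, nat_lit 6, nat_lit 5, nat_lit 5, nat_lit 5, nat_lit 0],
 [nat_lit 4, nat_lit 4, nat_lit 2, nat_lit 1, nat_lit 0],
 [nat_lit 5, nat_lit 6, nat_lit 0],
 [nat_lit 5, nat_lit 5, nat_lit 5, nat_lit 6, nat_lit 4, nat_lit 4, nat_lit 0, nat_lit 2, nat_lit 0],
 [nat_lit 5, nat_lit 5, nat_lit 6, nat_lit 4, nat_lit 3, nat_lit 2, nat_lit 1, nat_lit 0],
 [nat_lit 4, nat_lit 6, nat_lit 5, nat_lit 5, nat_lit 3, nat_lit 2, nat_lit 1, nat_lit 0],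
 [nat_lit 6, nat_lit 5, nat_lit 3, nat_lit 0],
 [nat_lit 4, nat_lit 4, nat_lit 6, nat_lit 5, nat_lit 5, nat_lit 5, nat_lit 3, nat_lit 0, nat_lit 2, nat_lit 0],
 [nat_lit 4, nat_lit 4, nat_lit 3, nat_lit 0, nat_lit 1, nat_lit 0],
 [nat_lit 5, nat_lit 6, nat_lit 3, nat_lit 0, nat_lit 2, nat_lit 0],
 [nat_lit 5, nat_lit 5, nat_lit 5, nat_lit 6, nat_lit 4, nat_lit 4, nat_lit 3, nat_lit 0],
 [nat_lit 6, nat_lit 4, nat_lit 1, nat_lit 0, nat_lit 1],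
 [nat_lit 4, nat_lit 4, nat_lit 6, nat_lit 5, nat_lit 1, nat_lit 2, nat_lit 0],
 [nat_lit 5, nat_lit 5, nat_lit 2],
 [nat_lit 5, nat_lit 6, nat_lit 4, nat_lit 4, nat_lit 1, nat_lit 2, nat_lit 0],
 [nat_lit 5, nat_lit 5, nat_lit 5, nat_lit 6, nat_lit 5, nat_lit 5, nat_lit 0],
 [nat_lit 5, nat_lit 5, nat_lit 6, nat_lit 5, nat_lit 5, nat_lit 5, nat_lit 1],
 [nat_lit 4, nat_lit 6, nat_lit 0, nat_lit 1, nat_lit 0],
 [nat_lit 6, nat_lit 4, nat_lit 3, nat_lit 2],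
 [nat_lit 4, nat_lit 4, nat_lit 6, nat_lit 5, nat_lit 3, nat_lit 1],
 [nat_lit 5, nat_lit 5, nat_lit 3, nat_lit 1, nat_lit 0, nat_lit 1],
 [nat_lit 5, nat_lit 6, nat_lit 4, nat_lit 4, nat_lit 3, nat_lit 1],
 [nat_lit 5, nat_lit 5, nat_lit 5, nat_lit 6, nat_lit 5, nat_lit 5, nat_lit 3, nat_lit 0, nat_lit 2, nat_lit 0],
 [nat_lit 5, nat_lit 5, nat_lit 6, nat_lit 5, nat_lit 5, nat_lit 5, nat_lit 3, nat_lit 1, nat_lit 2, nat_lit 0],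
 [nat_lit 4, nat_lit 6, nat_lit 3, nat_lit 2, nat_lit 1, nat_lit 0],
 [nat_lit 4, nat_lit 4, nat_lit 6, nat_lit 4, nat_lit 1, nat_lit 2, nat_lit 0],
 [nat_lit 1],
 [nat_lit 5, nat_lit 6, nat_lit 5, nat_lit 5, nat_lit 2, nat_lit 1, nat_lit 0],
 [nat_lit 5, nat_lit 5, nat_lit 5, nat_lit 6, nat_lit 0, nat_lit 2, nat_lit 0],
 [nat_lit 5, nat_lit 5, nat_lit 6, nat_lit 5, nat_lit 1, nat_lit 0, nat_lit 1],
 [nat_lit 4, nat_lit 6, nat_lit 4, nat_lit 4, nat_lit 0],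
 [nat_lit 6, nat_lit 5, nat_lit 5, nat_lit 5, nat_lit 0, nat_lit 2, nat_lit 0],
 [nat_lit 4, nat_lit 4, nat_lit 6, nat_lit 4, nat_lit 3, nat_lit 1],
 [nat_lit 3, nat_lit 1, nat_lit 2, nat_lit 0],
 [nat_lit 5, nat_lit 6, nat_lit 5, nat_lit 5, nat_lit 3, nat_lit 0, nat_lit 1, nat_lit 0],
 [nat_lit 5, nat_lit 5, nat_lit 5, nat_lit 6, nat_lit 3, nat_lit 0],
 [nat_lit 5, nat_lit 5, nat_lit 6, nat_lit 5, nat_lit 3, nat_lit 2],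
 [nat_lit 4, nat_lit 6, nat_lit 4, nat_lit 4, nat_lit 3, nat_lit 0, nat_lit 2, nat_lit 0],
 [nat_lit 6, nat_lit 5, nat_lit 5, nat_lit 5, nat_lit 3, nat_lit 0],
 [nat_lit 5, nat_lit 5, nat_lit 6, nat_lit 4, nat_lit 0],
 [nat_lit 4, nat_lit 6, nat_lit 5, nat_lit 5, nat_lit 0],
 [nat_lit 6, nat_lit 5, nat_lit 2, nat_lit 1, nat_lit 0],
 [nat_lit 4, nat_lit 4, nat_lit 6, nat_lit 5, nat_lit 5, nat_lit 5, nat_lit 1],
 [nat_lit 4, nat_lit 4, nat_lit 2],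
 [nat_lit 5, nat_lit 6, nat_lit 1],
 [nat_lit 5, nat_lit 5, nat_lit 5, nat_lit 6, nat_lit 4, nat_lit 4, nat_lit 2, nat_lit 1, nat_lit 0],
 [nat_lit 5, nat_lit 5, nat_lit 6, nat_lit 4, nat_lit 3, nat_lit 0, nat_lit 2, nat_lit 0],
 [nat_lit 4, nat_lit 6, nat_lit 5, nat_lit 5, nat_lit 3, nat_lit 0, nat_lit 2, nat_lit 0],
 [nat_lit 6, nat_lit 5, nat_lit 3, nat_lit 0, nat_lit 1, nat_lit 0],
 [nat_lit 4, nat_lit 4, nat_lit 6, nat_lit 5, nat_lit 5, nat_lit 5, nat_lit 3, nat_lit 1, nat_lit 2, nat_lit 0],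
 [nat_lit 4, nat_lit 4, nat_lit 3, nat_lit 1, nat_lit 0, nat_lit 1],
 [nat_lit 5, nat_lit 6, nat_lit 3, nat_lit 1, nat_lit 2, nat_lit 0],
 [nat_lit 5, nat_lit 5, nat_lit 5, nat_lit 6, nat_lit 4, nat_lit 4, nat_lit 3, nat_lit 0, nat_lit 1, nat_lit 0],
 [nat_lit 6, nat_lit 4, nat_lit 2, nat_lit 1, nat_lit 0],
 [nat_lit 4, nat_lit 4, nat_lit 6, nat_lit 5, nat_lit 1, nat_lit 0, nat_lit 1],
 [nat_lit 5, nat_lit 5, nat_lit 0, nat_lit 1, nat_lit 0],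
 [nat_lit 5, nat_lit 6, nat_lit 4, nat_lit 4, nat_lit 1, nat_lit 0, nat_lit 1],
 [nat_lit 5, nat_lit 5, nat_lit 5, nat_lit 6, nat_lit 5, nat_lit 5, nat_lit 1, nat_lit 2, nat_lit 0],
 [nat_lit 5, nat_lit 5, nat_lit 6, nat_lit 5, nat_lit 5, nat_lit 5, nat_lit 2],
 [nat_lit 4, nat_lit 6, nat_lit 0, nat_lit 2, nat_lit 0],
 [nat_lit 6, nat_lit 4, nat_lit 3, nat_lit 0, nat_lit 1, nat_lit 0],
 [nat_lit 4, nat_lit 4, nat_lit 6, nat_lit 5, nat_lit 3, nat_lit 2],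
 [nat_lit 5, nat_lit 5, nat_lit 3, nat_lit 2, nat_lit 1, nat_lit 0],
 [nat_lit 5, nat_lit 6, nat_lit 4, nat_lit 4, nat_lit 3, nat_lit 2],
 [nat_lit 5, nat_lit 5, nat_lit 5, nat_lit 6, nat_lit 5, nat_lit 5, nat_lit 3, nat_lit 1],
 [nat_lit 5, nat_lit 5, nat_lit 6, nat_lit 5, nat_lit 5, nat_lit 5, nat_lit 3, nat_lit 1, nat_lit 0, nat_lit 1],
 [nat_lit 4, nat_lit 6, nat_lit 3, nat_lit 0],
 [nat_lit 6, nat_lit 4, nat_lit 0, nat_lit 2, nat_lit 0],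
 [nat_lit 4, nat_lit 4, nat_lit 6, nat_lit 5, nat_lit 1],
 [nat_lit 5, nat_lit 5, nat_lit 1, nat_lit 0, nat_lit 1],
 [nat_lit 5, nat_lit 6, nat_lit 4, nat_lit 4, nat_lit 1],
 [nat_lit 5, nat_lit 5, nat_lit 5, nat_lit 6, nat_lit 5, nat_lit 5, nat_lit 2],
 [nat_lit 5, nat_lit 5, nat_lit 6, nat_lit 5, nat_lit 5, nat_lit 5, nat_lit 2, nat_lit 1, nat_lit 0],
 [nat_lit 4, nat_lit 6, nat_lit 1, nat_lit 2, nat_lit 0],
 [nat_lit 6, nat_lit 4, nat_lit 3, nat_lit 0],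
 [nat_lit 4, nat_lit 4, nat_lit 6, nat_lit 5, nat_lit 3, nat_lit 1, nat_lit 2, nat_lit 0],
 [nat_lit 5, nat_lit 5, nat_lit 3, nat_lit 2],
 [nat_lit 5, nat_lit 6, nat_lit 4, nat_lit 4, nat_lit 3, nat_lit 1, nat_lit 2, nat_lit 0],
 [nat_lit 5, nat_lit 5, nat_lit 5, nat_lit 6, nat_lit 5, nat_lit 5, nat_lit 3, nat_lit 1, nat_lit 0, nat_lit 1],
 [nat_lit 5, nat_lit 5, nat_lit 6, nat_lit 5, nat_lit 5, nat_lit 5, nat_lit 3, nat_lit 0, nat_lit 1, nat_lit 0],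
 [nat_lit 4, nat_lit 6, nat_lit 3, nat_lit 1],
 [nat_lit 5, nat_lit 5, nat_lit 6, nat_lit 4, nat_lit 0, nat_lit 2, nat_lit 0],
 [nat_lit 4, nat_lit 6, nat_lit 5, nat_lit 5, nat_lit 0, nat_lit 2, nat_lit 0],
 [nat_lit 6, nat_lit 5, nat_lit 1],
 [nat_lit 4, nat_lit 4, nat_lit 6, nat_lit 5, nat_lit 5, nat_lit 5, nat_lit 1, nat_lit 2, nat_lit 0],
 [nat_lit 4, nat_lit 4, nat_lit 0],
 [nat_lit 5, nat_lit 6, nat_lit 1, nat_lit 2, nat_lit 0],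
 [nat_lit 5, nat_lit 5, nat_lit 5, nat_lit 6, nat_lit 4, nat_lit 4, nat_lit 1],
 [nat_lit 5, nat_lit 5, nat_lit 6, nat_lit 4, nat_lit 3, nat_lit 0],
 [nat_lit 4, nat_lit 6, nat_lit 5, nat_lit 5, nat_lit 3, nat_lit 0],
 [nat_lit 6, nat_lit 5, nat_lit 3, nat_lit 1, nat_lit 2, nat_lit 0],
 [nat_lit 4, nat_lit 4, nat_lit 6, nat_lit 5, nat_lit 5, nat_lit 5, nat_lit 3, nat_lit 1],
 [nat_lit 4, nat_lit 4, nat_lit 3, nat_lit 0, nat_lit 2, nat_lit 0],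
 [nat_lit 5, nat_lit 6, nat_lit 3, nat_lit 1],
 [nat_lit 5, nat_lit 5, nat_lit 5, nat_lit 6, nat_lit 4, nat_lit 4, nat_lit 3, nat_lit 1, nat_lit 2, nat_lit 0],
 [nat_lit 5, nat_lit 6, nat_lit 4, nat_lit 0, nat_lit 1, nat_lit 0],
 [nat_lit 5, nat_lit 5, nat_lit 5, nat_lit 6, nat_lit 5, nat_lit 5, nat_lit 5, nat_lit 1, nat_lit 0, nat_lit 1],
 [nat_lit 5, nat_lit 5, nat_lit 6, nat_lit 4, nat_lit 4, nat_lit 0, nat_lit 2, nat_lit 0],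
 [nat_lit 4, nat_lit 6, nat_lit 5, nat_lit 0, nat_lit 2, nat_lit 0],
 [nat_lit 6, nat_lit 0],
 [nat_lit 4, nat_lit 4, nat_lit 6, nat_lit 5, nat_lit 5, nat_lit 0, nat_lit 1, nat_lit 0],
 [nat_lit 5, nat_lit 5, nat_lit 5, nat_lit 1, nat_lit 2, nat_lit 0],
 [nat_lit 5, nat_lit 6, nat_lit 4, nat_lit 3, nat_lit 2, nat_lit 1, nat_lit 0],
 [nat_lit 5, nat_lit 5, nat_lit 5, nat_lit 6, nat_lit 5, nat_lit 5, nat_lit 5, nat_lit 3, nat_lit 2],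
 [nat_lit 5, nat_lit 5, nat_lit 6, nat_lit 4, nat_lit 4, nat_lit 3, nat_lit 0],
 [nat_lit 4, nat_lit 6, nat_lit 5, nat_lit 3, nat_lit 0],
 [nat_lit 6, nat_lit 3, nat_lit 0, nat_lit 2, nat_lit 0],
 [nat_lit 4, nat_lit 4, nat_lit 6, nat_lit 5, nat_lit 5, nat_lit 3, nat_lit 2, nat_lit 1, nat_lit 0],
 [nat_lit 5, nat_lit 5, nat_lit 5, nat_lit 3, nat_lit 1],
 [nat_lit 5, nat_lit 6, nat_lit 4, nat_lit 2],
 [nat_lit 5, nat_lit 5, nat_lit 5, nat_lit 6, nat_lit 5, nat_lit 5, nat_lit 5, nat_lit 1, nat_lit 2, nat_lit 0],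
 [nat_lit 5, nat_lit 5, nat_lit 6, nat_lit 4, nat_lit 4, nat_lit 0, nat_lit 1, nat_lit 0],
 [nat_lit 4, nat_lit 6, nat_lit 5, nat_lit 0, nat_lit 1, nat_lit 0],
 [nat_lit 6, nat_lit 2, nat_lit 1, nat_lit 0],
 [nat_lit 4, nat_lit 4, nat_lit 6, nat_lit 5, nat_lit 5, nat_lit 2],
 [nat_lit 5, nat_lit 5, nat_lit 5, nat_lit 0],
 [nat_lit 5, nat_lit 6, nat_lit 4, nat_lit 3, nat_lit 1, nat_lit 0, nat_lit 1],
 [nat_lit 5, nat_lit 5, nat_lit 5, nat_lit 6, nat_lit 5, nat_lit 5, nat_lit 5, nat_lit 3, nat_lit 1],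
 [nat_lit 5, nat_lit 5, nat_lit 6, nat_lit 4, nat_lit 4, nat_lit 3, nat_lit 2, nat_lit 1, nat_lit 0],
 [nat_lit 4, nat_lit 6, nat_lit 5, nat_lit 3, nat_lit 2, nat_lit 1, nat_lit 0],
 [nat_lit 6, nat_lit 3, nat_lit 0, nat_lit 1, nat_lit 0],
 [nat_lit 4, nat_lit 4, nat_lit 6, nat_lit 5, nat_lit 5, nat_lit 3, nat_lit 1, nat_lit 0, nat_lit 1],
 [nat_lit 5, nat_lit 5, nat_lit 5, nat_lit 3, nat_lit 0, nat_lit 2, nat_lit 0],
 [nat_lit 5, nat_lit 6, nat_lit 4, nat_lit 0, nat_lit 2, nat_lit 0],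
 [nat_lit 5, nat_lit 5, nat_lit 5, nat_lit 6, nat_lit 5, nat_lit 5, nat_lit 5, nat_lit 2, nat_lit 1, nat_lit 0],
 [nat_lit 5, nat_lit 5, nat_lit 6, nat_lit 4, nat_lit 4, nat_lit 1],
 [nat_lit 4, nat_lit 6, nat_lit 5, nat_lit 1],
 [nat_lit 6, nat_lit 1, nat_lit 2, nat_lit 0],
 [nat_lit 4, nat_lit 4, nat_lit 6, nat_lit 5, nat_lit 5, nat_lit 0, nat_lit 2, nat_lit 0],
 [nat_lit 5, nat_lit 5, nat_lit 5, nat_lit 1, nat_lit 0, nat_lit 1],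
 [nat_lit 5, nat_lit 6, nat_lit 4, nat_lit 3, nat_lit 0],
 [nat_lit 5, nat_lit 5, nat_lit 5, nat_lit 6, nat_lit 5, nat_lit 5, nat_lit 5, nat_lit 3, nat_lit 0, nat_lit 1, nat_lit 0],
 [nat_lit 5, nat_lit 5, nat_lit 6, nat_lit 4, nat_lit 4, nat_lit 3, nat_lit 1, nat_lit 2, nat_lit 0],
 [nat_lit 4, nat_lit 6, nat_lit 5, nat_lit 3, nat_lit 1, nat_lit 2, nat_lit 0],
 [nat_lit 6, nat_lit 3, nat_lit 1],
 [nat_lit 4, nat_lit 4, nat_lit 6, nat_lit 5, nat_lit 5, nat_lit 3, nat_lit 0],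
 [nat_lit 5, nat_lit 5, nat_lit 5, nat_lit 3, nat_lit 2],
 [nat_lit 5, nat_lit 6, nat_lit 4, nat_lit 1],
 [nat_lit 5, nat_lit 5, nat_lit 5, nat_lit 6, nat_lit 5, nat_lit 5, nat_lit 5, nat_lit 0],
 [nat_lit 5, nat_lit 5, nat_lit 6, nat_lit 4, nat_lit 4, nat_lit 2],
 [nat_lit 4, nat_lit 6, nat_lit 5, nat_lit 2],
 [nat_lit 6, nat_lit 1, nat_lit 0, nat_lit 1],
 [nat_lit 4, nat_lit 4, nat_lit 6, nat_lit 5, nat_lit 5, nat_lit 1],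
 [nat_lit 5, nat_lit 5, nat_lit 5, nat_lit 2, nat_lit 1, nat_lit 0],
 [nat_lit 5, nat_lit 6, nat_lit 4, nat_lit 3, nat_lit 1, nat_lit 2, nat_lit 0],
 [nat_lit 5, nat_lit 5, nat_lit 5, nat_lit 6, nat_lit 5, nat_lit 5, nat_lit 5, nat_lit 3, nat_lit 0, nat_lit 2, nat_lit 0],
 [nat_lit 5, nat_lit 5, nat_lit 6, nat_lit 4, nat_lit 4, nat_lit 3, nat_lit 1, nat_lit 0, nat_lit 1],
 [nat_lit 4, nat_lit 6, nat_lit 5, nat_lit 3, nat_lit 1, nat_lit 0, nat_lit 1],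
 [nat_lit 6, nat_lit 3, nat_lit 2],
 [nat_lit 4, nat_lit 4, nat_lit 6, nat_lit 5, nat_lit 5, nat_lit 3, nat_lit 1, nat_lit 2, nat_lit 0],
 [nat_lit 5, nat_lit 5, nat_lit 5, nat_lit 3, nat_lit 0, nat_lit 1, nat_lit 0],
 [nat_lit 5, nat_lit 6, nat_lit 4, nat_lit 0],
 [nat_lit 5, nat_lit 5, nat_lit 5, nat_lit 6, nat_lit 5, nat_lit 5, nat_lit 5, nat_lit 0, nat_lit 1, nat_lit 0],
 [nat_lit 5, nat_lit 5, nat_lit 6, nat_lit 4, nat_lit 4, nat_lit 2, nat_lit 1, nat_lit 0],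
 [nat_lit 4, nat_lit 6, nat_lit 5, nat_lit 2, nat_lit 1, nat_lit 0],
 [nat_lit 6, nat_lit 1],
 [nat_lit 4, nat_lit 4, nat_lit 6, nat_lit 5, nat_lit 5, nat_lit 0],
 [nat_lit 5, nat_lit 5, nat_lit 5, nat_lit 0, nat_lit 2, nat_lit 0],
 [nat_lit 5, nat_lit 6, nat_lit 4, nat_lit 3, nat_lit 0, nat_lit 2, nat_lit 0],
 [nat_lit 5, nat_lit 5, nat_lit 5, nat_lit 6, nat_lit 5, nat_lit 5, nat_lit 5, nat_lit 3, nat_lit 2, nat_lit 1, nat_lit 0],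
 [nat_lit 5, nat_lit 5, nat_lit 6, nat_lit 4, nat_lit 4, nat_lit 3, nat_lit 0, nat_lit 1, nat_lit 0],
 [nat_lit 4, nat_lit 6, nat_lit 5, nat_lit 3, nat_lit 0, nat_lit 1, nat_lit 0],
 [nat_lit 6, nat_lit 3, nat_lit 1, nat_lit 2, nat_lit 0],
 [nat_lit 4, nat_lit 4, nat_lit 6, nat_lit 5, nat_lit 5, nat_lit 3, nat_lit 0, nat_lit 2, nat_lit 0],
 [nat_lit 5, nat_lit 5, nat_lit 5, nat_lit 3, nat_lit 0],
 [nat_lit 4, nat_lit 6, nat_lit 4, nat_lit 1],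
 [nat_lit 6, nat_lit 4, nat_lit 4, nat_lit 2],
 [nat_lit 4, nat_lit 4, nat_lit 6, nat_lit 1, nat_lit 0, nat_lit 1],
 [nat_lit 5, nat_lit 2, nat_lit 1, nat_lit 0],
 [nat_lit 5, nat_lit 6, nat_lit 5, nat_lit 5, nat_lit 5, nat_lit 0],
 [nat_lit 5, nat_lit 5, nat_lit 5, nat_lit 6, nat_lit 5, nat_lit 0, nat_lit 2, nat_lit 0],
 [nat_lit 5, nat_lit 5, nat_lit 6, nat_lit 5, nat_lit 5, nat_lit 0, nat_lit 1, nat_lit 0],
 [nat_lit 4, nat_lit 6, nat_lit 4, nat_lit 3, nat_lit 1, nat_lit 2, nat_lit 0],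
 [nat_lit 6, nat_lit 4, nat_lit 4, nat_lit 3, nat_lit 1, nat_lit 0, nat_lit 1],
 [nat_lit 4, nat_lit 4, nat_lit 6, nat_lit 3, nat_lit 2],
 [nat_lit 5, nat_lit 3, nat_lit 0, nat_lit 1, nat_lit 0],
 [nat_lit 5, nat_lit 6, nat_lit 5, nat_lit 5, nat_lit 5, nat_lit 3, nat_lit 0, nat_lit 2, nat_lit 0],
 [nat_lit 5, nat_lit 5, nat_lit 5, nat_lit 6, nat_lit 5, nat_lit 3, nat_lit 0],
 [nat_lit 5, nat_lit 5, nat_lit 6, nat_lit 5, nat_lit 5, nat_lit 3, nat_lit 2, nat_lit 1, nat_lit 0],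
 [nat_lit 5, nat_lit 5, nat_lit 5, nat_lit 6, nat_lit 4, nat_lit 0, nat_lit 1, nat_lit 0],
 [nat_lit 5, nat_lit 5, nat_lit 6, nat_lit 0],
 [nat_lit 4, nat_lit 6, nat_lit 5, nat_lit 5, nat_lit 5, nat_lit 0],
 [nat_lit 6, nat_lit 5, nat_lit 5, nat_lit 0, nat_lit 1, nat_lit 0],
 [nat_lit 4, nat_lit 4, nat_lit 6, nat_lit 4, nat_lit 4, nat_lit 2],
 [nat_lit 4, nat_lit 2, nat_lit 1, nat_lit 0],
 [nat_lit 5, nat_lit 6, nat_lit 5, nat_lit 0, nat_lit 2, nat_lit 0],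
 [nat_lit 5, nat_lit 5, nat_lit 5, nat_lit 6, nat_lit 4, nat_lit 3, nat_lit 2, nat_lit 1, nat_lit 0],
 [nat_lit 5, nat_lit 5, nat_lit 6, nat_lit 3, nat_lit 0, nat_lit 2, nat_lit 0],
 [nat_lit 4, nat_lit 6, nat_lit 5, nat_lit 5, nat_lit 5, nat_lit 3, nat_lit 0, nat_lit 2, nat_lit 0],
 [nat_lit 6, nat_lit 5, nat_lit 5, nat_lit 3, nat_lit 2, nat_lit 1, nat_lit 0],
 [nat_lit 4, nat_lit 4, nat_lit 6, nat_lit 4, nat_lit 4, nat_lit 3, nat_lit 1, nat_lit 0, nat_lit 1],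
 [nat_lit 4, nat_lit 3, nat_lit 0, nat_lit 1, nat_lit 0],
 [nat_lit 5, nat_lit 6, nat_lit 5, nat_lit 3, nat_lit 0],
 [nat_lit 5, nat_lit 5, nat_lit 5, nat_lit 6, nat_lit 4, nat_lit 1, nat_lit 0, nat_lit 1],
 [nat_lit 5, nat_lit 5, nat_lit 6, nat_lit 0, nat_lit 1, nat_lit 0],
 [nat_lit 4, nat_lit 6, nat_lit 5, nat_lit 5, nat_lit 5, nat_lit 0, nat_lit 1, nat_lit 0],
 [nat_lit 6, nat_lit 5, nat_lit 5, nat_lit 1, nat_lit 0, nat_lit 1],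
 [nat_lit 4, nat_lit 4, nat_lit 6, nat_lit 4, nat_lit 4, nat_lit 2, nat_lit 1, nat_lit 0],
 [nat_lit 4, nat_lit 0, nat_lit 2, nat_lit 0],
 [nat_lit 5, nat_lit 6, nat_lit 5, nat_lit 1, nat_lit 2, nat_lit 0],
 [nat_lit 5, nat_lit 5, nat_lit 5, nat_lit 6, nat_lit 4, nat_lit 3, nat_lit 2],
 [nat_lit 5, nat_lit 5, nat_lit 6, nat_lit 3, nat_lit 2, nat_lit 1, nat_lit 0],
 [nat_lit 4, nat_lit 6, nat_lit 5, nat_lit 5, nat_lit 5, nat_lit 3, nat_lit 2, nat_lit 1, nat_lit 0],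
 [nat_lit 6, nat_lit 5, nat_lit 5, nat_lit 3, nat_lit 2],
 [nat_lit 4, nat_lit 4, nat_lit 6, nat_lit 4, nat_lit 4, nat_lit 3, nat_lit 0, nat_lit 1, nat_lit 0],
 [nat_lit 4, nat_lit 3, nat_lit 0],
 [nat_lit 5, nat_lit 6, nat_lit 5, nat_lit 3, nat_lit 1],
 [nat_lit 4, nat_lit 6, nat_lit 4, nat_lit 1, nat_lit 2, nat_lit 0],
 [nat_lit 6, nat_lit 4, nat_lit 4, nat_lit 0],
 [nat_lit 4, nat_lit 4, nat_lit 6, nat_lit 2],
 [nat_lit 5, nat_lit 1],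
 [nat_lit 5, nat_lit 6, nat_lit 5, nat_lit 5, nat_lit 5, nat_lit 0, nat_lit 2, nat_lit 0],
 [nat_lit 5, nat_lit 5, nat_lit 5, nat_lit 6, nat_lit 5, nat_lit 1, nat_lit 0, nat_lit 1],
 [nat_lit 5, nat_lit 5, nat_lit 6, nat_lit 5, nat_lit 5, nat_lit 2, nat_lit 1, nat_lit 0],
 [nat_lit 4, nat_lit 6, nat_lit 4, nat_lit 3, nat_lit 1],
 [nat_lit 6, nat_lit 4, nat_lit 4, nat_lit 3, nat_lit 0, nat_lit 2, nat_lit 0],
 [nat_lit 4, nat_lit 4, nat_lit 6, nat_lit 3, nat_lit 1, nat_lit 0, nat_lit 1],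
 [nat_lit 5, nat_lit 3, nat_lit 1, nat_lit 2, nat_lit 0],
 [nat_lit 5, nat_lit 6, nat_lit 5, nat_lit 5, nat_lit 5, nat_lit 3, nat_lit 0],
 [nat_lit 5, nat_lit 5, nat_lit 5, nat_lit 6, nat_lit 5, nat_lit 3, nat_lit 2],
 [nat_lit 5, nat_lit 5, nat_lit 6, nat_lit 5, nat_lit 5, nat_lit 3, nat_lit 0, nat_lit 1, nat_lit 0],
 [nat_lit 5, nat_lit 6, nat_lit 4, nat_lit 2, nat_lit 1, nat_lit 0],
 [nat_lit 5, nat_lit 5, nat_lit 5, nat_lit 6, nat_lit 5, nat_lit 5, nat_lit 5, nat_lit 2],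
 [nat_lit 5, nat_lit 5, nat_lit 6, nat_lit 4, nat_lit 4, nat_lit 1, nat_lit 0, nat_lit 1],
 [nat_lit 4, nat_lit 6, nat_lit 5, nat_lit 1, nat_lit 0, nat_lit 1],
 [nat_lit 6, nat_lit 0, nat_lit 2, nat_lit 0],
 [nat_lit 4, nat_lit 4, nat_lit 6, nat_lit 5, nat_lit 5, nat_lit 2, nat_lit 1, nat_lit 0],
 [nat_lit 5, nat_lit 5, nat_lit 5, nat_lit 0, nat_lit 1, nat_lit 0],
 [nat_lit 5, nat_lit 6, nat_lit 4, nat_lit 3, nat_lit 0, nat_lit 1, nat_lit 0],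
 [nat_lit 5, nat_lit 5, nat_lit 5, nat_lit 6, nat_lit 5, nat_lit 5, nat_lit 5, nat_lit 3, nat_lit 1, nat_lit 0, nat_lit 1],
 [nat_lit 5, nat_lit 5, nat_lit 6, nat_lit 4, nat_lit 4, nat_lit 3, nat_lit 2],
 [nat_lit 4, nat_lit 6, nat_lit 5, nat_lit 3, nat_lit 2],
 [nat_lit 6, nat_lit 3, nat_lit 0],
 [nat_lit 4, nat_lit 4, nat_lit 6, nat_lit 5, nat_lit 5, nat_lit 3, nat_lit 0, nat_lit 1, nat_lit 0],
 [nat_lit 5, nat_lit 5, nat_lit 5, nat_lit 3, nat_lit 2, nat_lit 1, nat_lit 0],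
 [nat_lit 5, nat_lit 5, nat_lit 5, nat_lit 6, nat_lit 4, nat_lit 1, nat_lit 2, nat_lit 0],
 [nat_lit 5, nat_lit 5, nat_lit 6, nat_lit 2],
 [nat_lit 4, nat_lit 6, nat_lit 5, nat_lit 5, nat_lit 5, nat_lit 2],
 [nat_lit 6, nat_lit 5, nat_lit 5, nat_lit 1, nat_lit 2, nat_lit 0],
 [nat_lit 4, nat_lit 4, nat_lit 6, nat_lit 4, nat_lit 4, nat_lit 1, nat_lit 0, nat_lit 1],
 [nat_lit 4, nat_lit 0, nat_lit 1, nat_lit 0],
 [nat_lit 5, nat_lit 6, nat_lit 5, nat_lit 0],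
 [nat_lit 5, nat_lit 5, nat_lit 5, nat_lit 6, nat_lit 4, nat_lit 3, nat_lit 1],
 [nat_lit 5, nat_lit 5, nat_lit 6, nat_lit 3, nat_lit 1, nat_lit 0, nat_lit 1],
 [nat_lit 4, nat_lit 6, nat_lit 5, nat_lit 5, nat_lit 5, nat_lit 3, nat_lit 1, nat_lit 0, nat_lit 1],
 [nat_lit 6, nat_lit 5, nat_lit 5, nat_lit 3, nat_lit 1],
 [nat_lit 4, nat_lit 4, nat_lit 6, nat_lit 4, nat_lit 4, nat_lit 3, nat_lit 2],
 [nat_lit 4, nat_lit 3, nat_lit 2, nat_lit 1, nat_lit 0],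
 [nat_lit 5, nat_lit 6, nat_lit 5, nat_lit 3, nat_lit 0, nat_lit 2, nat_lit 0],
 [nat_lit 4, nat_lit 6, nat_lit 4, nat_lit 0, nat_lit 2, nat_lit 0],
 [nat_lit 6, nat_lit 4, nat_lit 4, nat_lit 1],
 [nat_lit 4, nat_lit 4, nat_lit 6, nat_lit 1, nat_lit 2, nat_lit 0],
 [nat_lit 5, nat_lit 1, nat_lit 0, nat_lit 1],
 [nat_lit 5, nat_lit 6, nat_lit 5, nat_lit 5, nat_lit 5, nat_lit 2, nat_lit 1, nat_lit 0],
 [nat_lit 5, nat_lit 5, nat_lit 5, nat_lit 6, nat_lit 5, nat_lit 0, nat_lit 1, nat_lit 0],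
 [nat_lit 5, nat_lit 5, nat_lit 6, nat_lit 5, nat_lit 5, nat_lit 2],
 [nat_lit 4, nat_lit 6, nat_lit 4, nat_lit 3, nat_lit 0],
 [nat_lit 6, nat_lit 4, nat_lit 4, nat_lit 3, nat_lit 1, nat_lit 2, nat_lit 0],
 [nat_lit 4, nat_lit 4, nat_lit 6, nat_lit 3, nat_lit 1],
 [nat_lit 5, nat_lit 3, nat_lit 2],
 [nat_lit 5, nat_lit 6, nat_lit 5, nat_lit 5, nat_lit 5, nat_lit 3, nat_lit 0, nat_lit 1, nat_lit 0],
 [nat_lit 5, nat_lit 5, nat_lit 5, nat_lit 6, nat_lit 5, nat_lit 3, nat_lit 2, nat_lit 1, nat_lit 0],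
 [nat_lit 5, nat_lit 5, nat_lit 6, nat_lit 5, nat_lit 5, nat_lit 3, nat_lit 1, nat_lit 0, nat_lit 1],
 [nat_lit 4, nat_lit 6, nat_lit 4, nat_lit 0],
 [nat_lit 6, nat_lit 4, nat_lit 4, nat_lit 2, nat_lit 1, nat_lit 0],
 [nat_lit 4, nat_lit 4, nat_lit 6, nat_lit 1],
 [nat_lit 5, nat_lit 0, nat_lit 2, nat_lit 0],
 [nat_lit 5, nat_lit 6, nat_lit 5, nat_lit 5, nat_lit 5, nat_lit 0, nat_lit 1, nat_lit 0],
 [nat_lit 5, nat_lit 5, nat_lit 5, nat_lit 6, nat_lit 5, nat_lit 1, nat_lit 2, nat_lit 0],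
 [nat_lit 5, nat_lit 5, nat_lit 6, nat_lit 5, nat_lit 5, nat_lit 1, nat_lit 0, nat_lit 1],
 [nat_lit 4, nat_lit 6, nat_lit 4, nat_lit 3, nat_lit 0, nat_lit 2, nat_lit 0],
 [nat_lit 6, nat_lit 4, nat_lit 4, nat_lit 3, nat_lit 0, nat_lit 1, nat_lit 0],
 [nat_lit 4, nat_lit 4, nat_lit 6, nat_lit 3, nat_lit 1, nat_lit 2, nat_lit 0],
 [nat_lit 5, nat_lit 3, nat_lit 0],
 [nat_lit 5, nat_lit 6, nat_lit 5, nat_lit 5, nat_lit 5, nat_lit 3, nat_lit 2, nat_lit 1, nat_lit 0],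
 [nat_lit 5, nat_lit 5, nat_lit 5, nat_lit 6, nat_lit 5, nat_lit 3, nat_lit 1],
 [nat_lit 5, nat_lit 5, nat_lit 6, nat_lit 5, nat_lit 5, nat_lit 3, nat_lit 2],
 [nat_lit 5, nat_lit 5, nat_lit 5, nat_lit 6, nat_lit 4, nat_lit 2],
 [nat_lit 5, nat_lit 5, nat_lit 6, nat_lit 2, nat_lit 1, nat_lit 0],
 [nat_lit 4, nat_lit 6, nat_lit 5, nat_lit 5, nat_lit 5, nat_lit 2, nat_lit 1, nat_lit 0],
 [nat_lit 6, nat_lit 5, nat_lit 5, nat_lit 2],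
 [nat_lit 4, nat_lit 4, nat_lit 6, nat_lit 4, nat_lit 4, nat_lit 1],
 [nat_lit 4, nat_lit 1, nat_lit 0, nat_lit 1],
 [nat_lit 5, nat_lit 6, nat_lit 5, nat_lit 0, nat_lit 1, nat_lit 0],
 [nat_lit 5, nat_lit 5, nat_lit 5, nat_lit 6, nat_lit 4, nat_lit 3, nat_lit 1, nat_lit 0, nat_lit 1],
 [nat_lit 5, nat_lit 5, nat_lit 6, nat_lit 3, nat_lit 0, nat_lit 1, nat_lit 0],
 [nat_lit 4, nat_lit 6, nat_lit 5, nat_lit 5, nat_lit 5, nat_lit 3, nat_lit 0, nat_lit 1, nat_lit 0],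
 [nat_lit 6, nat_lit 5, nat_lit 5, nat_lit 3, nat_lit 1, nat_lit 0, nat_lit 1],
 [nat_lit 4, nat_lit 4, nat_lit 6, nat_lit 4, nat_lit 4, nat_lit 3, nat_lit 1, nat_lit 2, nat_lit 0],
 [nat_lit 4, nat_lit 3, nat_lit 2],
 [nat_lit 5, nat_lit 6, nat_lit 5, nat_lit 3, nat_lit 2, nat_lit 1, nat_lit 0],
 [nat_lit 5, nat_lit 6, nat_lit 4, nat_lit 1, nat_lit 2, nat_lit 0],
 [nat_lit 5, nat_lit 5, nat_lit 5, nat_lit 6, nat_lit 5, nat_lit 5, nat_lit 5, nat_lit 0, nat_lit 2, nat_lit 0],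
 [nat_lit 5, nat_lit 5, nat_lit 6, nat_lit 4, nat_lit 4, nat_lit 0],
 [nat_lit 4, nat_lit 6, nat_lit 5, nat_lit 0],
 [nat_lit 6, nat_lit 2],
 [nat_lit 4, nat_lit 4, nat_lit 6, nat_lit 5, nat_lit 5, nat_lit 1, nat_lit 2, nat_lit 0],
 [nat_lit 5, nat_lit 5, nat_lit 5, nat_lit 1],
 [nat_lit 5, nat_lit 6, nat_lit 4, nat_lit 3, nat_lit 1],
 [nat_lit 5, nat_lit 5, nat_lit 5, nat_lit 6, nat_lit 5, nat_lit 5, nat_lit 5, nat_lit 3, nat_lit 0],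
 [nat_lit 5, nat_lit 5, nat_lit 6, nat_lit 4, nat_lit 4, nat_lit 3, nat_lit 0, nat_lit 2, nat_lit 0],
 [nat_lit 4, nat_lit 6, nat_lit 5, nat_lit 3, nat_lit 0, nat_lit 2, nat_lit 0],
 [nat_lit 6, nat_lit 3, nat_lit 1, nat_lit 0, nat_lit 1],
 [nat_lit 4, nat_lit 4, nat_lit 6, nat_lit 5, nat_lit 5, nat_lit 3, nat_lit 1],
 [nat_lit 5, nat_lit 5, nat_lit 5, nat_lit 3, nat_lit 1, nat_lit 2, nat_lit 0],
 [nat_lit 5, nat_lit 5, nat_lit 5, nat_lit 6, nat_lit 4, nat_lit 0, nat_lit 2, nat_lit 0],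
 [nat_lit 5, nat_lit 5, nat_lit 6, nat_lit 1, nat_lit 2, nat_lit 0],
 [nat_lit 4, nat_lit 6, nat_lit 5, nat_lit 5, nat_lit 5, nat_lit 1, nat_lit 2, nat_lit 0],
 [nat_lit 6, nat_lit 5, nat_lit 5, nat_lit 0, nat_lit 2, nat_lit 0],
 [nat_lit 4, nat_lit 4, nat_lit 6, nat_lit 4, nat_lit 4, nat_lit 0, nat_lit 1, nat_lit 0],
 [nat_lit 4, nat_lit 0],
 [nat_lit 5, nat_lit 6, nat_lit 5, nat_lit 1],
 [nat_lit 5, nat_lit 5, nat_lit 5, nat_lit 6, nat_lit 4, nat_lit 3, nat_lit 0],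
 [nat_lit 5, nat_lit 5, nat_lit 6, nat_lit 3, nat_lit 1],
 [nat_lit 4, nat_lit 6, nat_lit 5, nat_lit 5, nat_lit 5, nat_lit 3, nat_lit 1],
 [nat_lit 6, nat_lit 5, nat_lit 5, nat_lit 3, nat_lit 0],
 [nat_lit 4, nat_lit 4, nat_lit 6, nat_lit 4, nat_lit 4, nat_lit 3, nat_lit 2, nat_lit 1, nat_lit 0],
 [nat_lit 4, nat_lit 3, nat_lit 0, nat_lit 2, nat_lit 0],
 [nat_lit 5, nat_lit 6, nat_lit 5, nat_lit 3, nat_lit 1, nat_lit 2, nat_lit 0],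
 [nat_lit 4, nat_lit 6, nat_lit 4, nat_lit 1, nat_lit 0, nat_lit 1],
 [nat_lit 6, nat_lit 4, nat_lit 4, nat_lit 1, nat_lit 2, nat_lit 0],
 [nat_lit 4, nat_lit 4, nat_lit 6, nat_lit 0, nat_lit 1, nat_lit 0],
 [nat_lit 5, nat_lit 2],
 [nat_lit 5, nat_lit 6, nat_lit 5, nat_lit 5, nat_lit 5, nat_lit 1],
 [nat_lit 5, nat_lit 5, nat_lit 5, nat_lit 6, nat_lit 5, nat_lit 2, nat_lit 1, nat_lit 0],
 [nat_lit 5, nat_lit 5, nat_lit 6, nat_lit 5, nat_lit 5, nat_lit 0],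
 [nat_lit 4, nat_lit 6, nat_lit 4, nat_lit 3, nat_lit 2],
 [nat_lit 6, nat_lit 4, nat_lit 4, nat_lit 3, nat_lit 1],
 [nat_lit 4, nat_lit 4, nat_lit 6, nat_lit 3, nat_lit 2, nat_lit 1, nat_lit 0],
 [nat_lit 5, nat_lit 3, nat_lit 1, nat_lit 0, nat_lit 1],
 [nat_lit 5, nat_lit 6, nat_lit 5, nat_lit 5, nat_lit 5, nat_lit 3, nat_lit 1, nat_lit 2, nat_lit 0],
 [nat_lit 5, nat_lit 5, nat_lit 5, nat_lit 6, nat_lit 5, nat_lit 3, nat_lit 0, nat_lit 1, nat_lit 0],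
 [nat_lit 5, nat_lit 5, nat_lit 6, nat_lit 5, nat_lit 5, nat_lit 3, nat_lit 0, nat_lit 2, nat_lit 0],
 [nat_lit 4, nat_lit 6, nat_lit 4, nat_lit 2],
 [nat_lit 6, nat_lit 4, nat_lit 4, nat_lit 0, nat_lit 1, nat_lit 0],
 [nat_lit 4, nat_lit 4, nat_lit 6, nat_lit 2, nat_lit 1, nat_lit 0],
 [nat_lit 5, nat_lit 0],
 [nat_lit 5, nat_lit 6, nat_lit 5, nat_lit 5, nat_lit 5, nat_lit 1, nat_lit 2, nat_lit 0],
 [nat_lit 5, nat_lit 5, nat_lit 5, nat_lit 6, nat_lit 5, nat_lit 1],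
 [nat_lit 5, nat_lit 5, nat_lit 6, nat_lit 5, nat_lit 5, nat_lit 0, nat_lit 2, nat_lit 0],
 [nat_lit 4, nat_lit 6, nat_lit 4, nat_lit 3, nat_lit 1, nat_lit 0, nat_lit 1],
 [nat_lit 6, nat_lit 4, nat_lit 4, nat_lit 3, nat_lit 2, nat_lit 1, nat_lit 0],
 [nat_lit 4, nat_lit 4, nat_lit 6, nat_lit 3, nat_lit 0, nat_lit 1, nat_lit 0],
 [nat_lit 5, nat_lit 3, nat_lit 0, nat_lit 2, nat_lit 0],
 [nat_lit 5, nat_lit 6, nat_lit 5, nat_lit 5, nat_lit 5, nat_lit 3, nat_lit 1],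
 [nat_lit 5, nat_lit 5, nat_lit 5, nat_lit 6, nat_lit 5, nat_lit 3, nat_lit 1, nat_lit 2, nat_lit 0],
 [nat_lit 5, nat_lit 5, nat_lit 6, nat_lit 5, nat_lit 5, nat_lit 3, nat_lit 0],
 [nat_lit 5, nat_lit 5, nat_lit 5, nat_lit 6, nat_lit 4, nat_lit 2, nat_lit 1, nat_lit 0],
 [nat_lit 5, nat_lit 5, nat_lit 6, nat_lit 0, nat_lit 2, nat_lit 0],
 [nat_lit 4, nat_lit 6, nat_lit 5, nat_lit 5, nat_lit 5, nat_lit 0, nat_lit 2, nat_lit 0],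
 [nat_lit 6, nat_lit 5, nat_lit 5, nat_lit 2, nat_lit 1, nat_lit 0],
 [nat_lit 4, nat_lit 4, nat_lit 6, nat_lit 4, nat_lit 4, nat_lit 0],
 [nat_lit 4, nat_lit 1],
 [nat_lit 5, nat_lit 6, nat_lit 5, nat_lit 1, nat_lit 0, nat_lit 1],
 [nat_lit 5, nat_lit 5, nat_lit 5, nat_lit 6, nat_lit 4, nat_lit 3, nat_lit 0, nat_lit 1, nat_lit 0],
 [nat_lit 5, nat_lit 5, nat_lit 6, nat_lit 3, nat_lit 0],
 [nat_lit 4, nat_lit 6, nat_lit 5, nat_lit 5, nat_lit 5, nat_lit 3, nat_lit 0],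
 [nat_lit 6, nat_lit 5, nat_lit 5, nat_lit 3, nat_lit 0, nat_lit 1, nat_lit 0],
 [nat_lit 4, nat_lit 4, nat_lit 6, nat_lit 4, nat_lit 4, nat_lit 3, nat_lit 0, nat_lit 2, nat_lit 0],
 [nat_lit 4, nat_lit 3, nat_lit 1, nat_lit 2, nat_lit 0],
 [nat_lit 5, nat_lit 6, nat_lit 5, nat_lit 3, nat_lit 2],
 [nat_lit 5, nat_lit 6, nat_lit 4, nat_lit 1, nat_lit 0, nat_lit 1],
 [nat_lit 5, nat_lit 5, nat_lit 5, nat_lit 6, nat_lit 5, nat_lit 5, nat_lit 5, nat_lit 1],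
 [nat_lit 5, nat_lit 5, nat_lit 6, nat_lit 4, nat_lit 4, nat_lit 1, nat_lit 2, nat_lit 0],
 [nat_lit 4, nat_lit 6, nat_lit 5, nat_lit 1, nat_lit 2, nat_lit 0],
 [nat_lit 6, nat_lit 0, nat_lit 1, nat_lit 0],
 [nat_lit 4, nat_lit 4, nat_lit 6, nat_lit 5, nat_lit 5, nat_lit 1, nat_lit 0, nat_lit 1],
 [nat_lit 5, nat_lit 5, nat_lit 5, nat_lit 2],
 [nat_lit 5, nat_lit 6, nat_lit 4, nat_lit 3, nat_lit 2],
 [nat_lit 5, nat_lit 5, nat_lit 5, nat_lit 6, nat_lit 5, nat_lit 5, nat_lit 5, nat_lit 3, nat_lit 1, nat_lit 2, nat_lit 0],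
 [nat_lit 5, nat_lit 5, nat_lit 6, nat_lit 4, nat_lit 4, nat_lit 3, nat_lit 1],
 [nat_lit 4, nat_lit 6, nat_lit 5, nat_lit 3, nat_lit 1],
 [nat_lit 6, nat_lit 3, nat_lit 2, nat_lit 1, nat_lit 0],
 [nat_lit 4, nat_lit 4, nat_lit 6, nat_lit 5, nat_lit 5, nat_lit 3, nat_lit 2],
 [nat_lit 5, nat_lit 5, nat_lit 5, nat_lit 3, nat_lit 1, nat_lit 0, nat_lit 1],
 [nat_lit 4, nat_lit 6, nat_lit 4, nat_lit 2, nat_lit 1, nat_lit 0],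
 [nat_lit 6, nat_lit 4, nat_lit 4, nat_lit 1, nat_lit 0, nat_lit 1],
 [nat_lit 4, nat_lit 4, nat_lit 6, nat_lit 0, nat_lit 2, nat_lit 0],
 [nat_lit 5, nat_lit 0, nat_lit 1, nat_lit 0],
 [nat_lit 5, nat_lit 6, nat_lit 5, nat_lit 5, nat_lit 5, nat_lit 2],
 [nat_lit 5, nat_lit 5, nat_lit 5, nat_lit 6, nat_lit 5, nat_lit 0],
 [nat_lit 5, nat_lit 5, nat_lit 6, nat_lit 5, nat_lit 5, nat_lit 1, nat_lit 2, nat_lit 0],
 [nat_lit 4, nat_lit 6, nat_lit 4, nat_lit 3, nat_lit 0, nat_lit 1, nat_lit 0],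
 [nat_lit 6, nat_lit 4, nat_lit 4, nat_lit 3, nat_lit 2],
 [nat_lit 4, nat_lit 4, nat_lit 6, nat_lit 3, nat_lit 0],
 [nat_lit 5, nat_lit 3, nat_lit 2, nat_lit 1, nat_lit 0],
 [nat_lit 5, nat_lit 6, nat_lit 5, nat_lit 5, nat_lit 5, nat_lit 3, nat_lit 1, nat_lit 0, nat_lit 1],
 [nat_lit 5, nat_lit 5, nat_lit 5, nat_lit 6, nat_lit 5, nat_lit 3, nat_lit 0, nat_lit 2, nat_lit 0],
 [nat_lit 5, nat_lit 5, nat_lit 6, nat_lit 5, nat_lit 5, nat_lit 3, nat_lit 1],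
 [nat_lit 5, nat_lit 5, nat_lit 5, nat_lit 6, nat_lit 4, nat_lit 0],
 [nat_lit 5, nat_lit 5, nat_lit 6, nat_lit 1],
 [nat_lit 4, nat_lit 6, nat_lit 5, nat_lit 5, nat_lit 5, nat_lit 1],
 [nat_lit 6, nat_lit 5, nat_lit 5, nat_lit 0],
 [nat_lit 4, nat_lit 4, nat_lit 6, nat_lit 4, nat_lit 4, nat_lit 1, nat_lit 2, nat_lit 0],
 [nat_lit 4, nat_lit 2],
 [nat_lit 5, nat_lit 6, nat_lit 5, nat_lit 2, nat_lit 1, nat_lit 0],
 [nat_lit 5, nat_lit 5, nat_lit 5, nat_lit 6, nat_lit 4, nat_lit 3, nat_lit 0, nat_lit 2, nat_lit 0],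
 [nat_lit 5, nat_lit 5, nat_lit 6, nat_lit 3, nat_lit 1, nat_lit 2, nat_lit 0],
 [nat_lit 4, nat_lit 6, nat_lit 5, nat_lit 5, nat_lit 5, nat_lit 3, nat_lit 1, nat_lit 2, nat_lit 0],
 [nat_lit 6, nat_lit 5, nat_lit 5, nat_lit 3, nat_lit 0, nat_lit 2, nat_lit 0],
 [nat_lit 4, nat_lit 4, nat_lit 6, nat_lit 4, nat_lit 4, nat_lit 3, nat_lit 1],
 [nat_lit 4, nat_lit 3, nat_lit 1, nat_lit 0, nat_lit 1],
 [nat_lit 5, nat_lit 6, nat_lit 5, nat_lit 3, nat_lit 0, nat_lit 1, nat_lit 0],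
 [nat_lit 5, nat_lit 5, nat_lit 5, nat_lit 6, nat_lit 4, nat_lit 1],
 [nat_lit 5, nat_lit 5, nat_lit 6, nat_lit 1, nat_lit 0, nat_lit 1],
 [nat_lit 4, nat_lit 6, nat_lit 5, nat_lit 5, nat_lit 5, nat_lit 1, nat_lit 0, nat_lit 1],
 [nat_lit 6, nat_lit 5, nat_lit 5, nat_lit 1],
 [nat_lit 4, nat_lit 4, nat_lit 6, nat_lit 4, nat_lit 4, nat_lit 0, nat_lit 2, nat_lit 0],
 [nat_lit 4, nat_lit 1, nat_lit 2, nat_lit 0],
 [nat_lit 5, nat_lit 6, nat_lit 5, nat_lit 2],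
 [nat_lit 5, nat_lit 5, nat_lit 5, nat_lit 6, nat_lit 4, nat_lit 3, nat_lit 1, nat_lit 2, nat_lit 0],
 [nat_lit 5, nat_lit 5, nat_lit 6, nat_lit 3, nat_lit 2],
 [nat_lit 4, nat_lit 6, nat_lit 5, nat_lit 5, nat_lit 5, nat_lit 3, nat_lit 2],
 [nat_lit 6, nat_lit 5, nat_lit 5, nat_lit 3, nat_lit 1, nat_lit 2, nat_lit 0],
 [nat_lit 4, nat_lit 4, nat_lit 6, nat_lit 4, nat_lit 4, nat_lit 3, nat_lit 0],
 [nat_lit 4, nat_lit 3, nat_lit 1],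
 [nat_lit 5, nat_lit 6, nat_lit 5, nat_lit 3, nat_lit 1, nat_lit 0, nat_lit 1],
 [nat_lit 4, nat_lit 6, nat_lit 4, nat_lit 0, nat_lit 1, nat_lit 0],
 [nat_lit 6, nat_lit 4, nat_lit 4, nat_lit 0, nat_lit 2, nat_lit 0],
 [nat_lit 4, nat_lit 4, nat_lit 6, nat_lit 0],
 [nat_lit 5, nat_lit 1, nat_lit 2, nat_lit 0],
 [nat_lit 5, nat_lit 6, nat_lit 5, nat_lit 5, nat_lit 5, nat_lit 1, nat_lit 0, nat_lit 1],
 [nat_lit 5, nat_lit 5, nat_lit 5, nat_lit 6, nat_lit 5, nat_lit 2],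
 [nat_lit 5, nat_lit 5, nat_lit 6, nat_lit 5, nat_lit 5, nat_lit 1],
 [nat_lit 4, nat_lit 6, nat_lit 4, nat_lit 3, nat_lit 2, nat_lit 1, nat_lit 0],
 [nat_lit 6, nat_lit 4, nat_lit 4, nat_lit 3, nat_lit 0],
 [nat_lit 4, nat_lit 4, nat_lit 6, nat_lit 3, nat_lit 0, nat_lit 2, nat_lit 0],
 [nat_lit 5, nat_lit 3, nat_lit 1],
 [nat_lit 5, nat_lit 6, nat_lit 5, nat_lit 5, nat_lit 5, nat_lit 3, nat_lit 2],
 [nat_lit 5, nat_lit 5, nat_lit 5, nat_lit 6, nat_lit 5, nat_lit 3, nat_lit 1, nat_lit 0, nat_lit 1],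
 [nat_lit 5, nat_lit 5, nat_lit 6, nat_lit 5, nat_lit 5, nat_lit 3, nat_lit 1, nat_lit 2, nat_lit 0]]
theorem g3Wc : band (incr (fun w => keyB 35 (g3L.map Lev.b) (apL (nat_lit 6) (nat_lit 63) g3T w)) g3W 0) (Nat.ble (chainOrd 35 g3L) g3W.length) = true := by decide +kernel
def g3O : List ℕ := [7, 1, 7, 7, 7, 7, 7, 14, 2, 14, 14, 14, 14, 14, 28, 4, 28, 28, 28, 28, 28, 28, 4, 28, 28, 28, 28, 28, 28, 4, 28, 28, 28, 28, 28, 28, 4, 28, 28, 28,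
28, 28, 14, 2, 14, 14, 14, 14, 14, 14, 2, 14, 14, 14, 14, 14, 28, 4, 28, 28, 28, 28, 28, 14, 2, 14, 14, 14, 14, 14, 3, 3, 3, 3, 3, 3, 3, 12, 12, 12,
12, 12, 12, 12, 6, 6, 6, 6, 6, 6, 6, 12, 12, 12, 12, 12, 12, 12, 3, 3, 3, 3, 3, 3, 3, 12, 12, 12, 12, 12, 12, 12, 6, 6, 6, 6, 6, 6, 6, 12,
12, 12, 12, 12, 12, 12, 28, 4, 28, 28, 28, 28, 28, 14, 2, 14, 14, 14, 14, 14, 3, 3, 3, 3, 3, 3, 3, 12, 12, 12, 12, 12, 12, 12, 6, 6, 6, 6, 6, 6,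
6, 12, 12, 12, 12, 12, 12, 12, 3, 3, 3, 3, 3, 3, 3, 12, 12, 12, 12, 12, 12, 12, 6, 6, 6, 6, 6, 6, 6, 12, 12, 12, 12, 12, 12, 12, 28, 4, 28, 28,
28, 28, 28, 14, 2, 14, 14, 14, 14, 14, 3, 3, 3, 3, 3, 3, 3, 12, 12, 12, 12, 12, 12, 12, 6, 6, 6, 6, 6, 6, 6, 12, 12, 12, 12, 12, 12, 12, 3, 3,
3, 3, 3, 3, 3, 12, 12, 12, 12, 12, 12, 12, 6, 6, 6, 6, 6, 6, 6, 12, 12, 12, 12, 12, 12, 12, 28, 4, 28, 28, 28, 28, 28, 14, 2, 14, 14, 14, 14, 14,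
3, 3, 3, 3, 3, 3, 3, 12, 12, 12, 12, 12, 12, 12, 6, 6, 6, 6, 6, 6, 6, 12, 12, 12, 12, 12, 12, 12, 3, 3, 3, 3, 3, 3, 3, 12, 12, 12, 12, 12,
12, 12, 6, 6, 6, 6, 6, 6, 6, 12, 12, 12, 12, 12, 12, 12, 2, 2, 2, 2, 2, 2, 2, 4, 4, 4, 4, 4, 4, 4, 4, 4, 4, 4, 4, 4, 4, 4, 4, 4,
4, 4, 4, 4, 4, 4, 4, 4, 4, 4, 4, 4, 4, 4, 4, 4, 4, 4, 2, 2, 2, 2, 2, 2, 2, 4, 4, 4, 4, 4, 4, 4, 2, 2, 2, 2, 2, 2, 2, 4,
4, 4, 4, 4, 4, 4, 12, 12, 12, 12, 12, 12, 12, 12, 12, 12, 12, 12, 12, 12, 12, 12, 12, 12, 12, 12, 12, 12, 12, 12, 12, 12, 12, 12, 12, 12, 12, 12, 12, 12,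
12, 12, 12, 12, 12, 12, 12, 12, 12, 12, 12, 12, 12, 12, 12, 12, 12, 12, 12, 12, 12, 12, 2, 2, 2, 2, 2, 2, 2, 4, 4, 4, 4, 4, 4, 4, 12, 12, 12, 12,
12, 12, 12, 12, 12, 12, 12, 12, 12, 12, 12, 12, 12, 12, 12, 12, 12, 12, 12, 12, 12, 12, 12, 12, 12, 12, 12, 12, 12, 12, 12, 12, 12, 12, 12, 12, 12, 12, 12, 12,
12, 12, 12, 12, 12, 12, 12, 12, 12, 12, 12, 12, 2, 2, 2, 2, 2, 2, 2, 4, 4, 4, 4, 4, 4, 4, 12, 12, 12, 12, 12, 12, 12, 12, 12, 12, 12, 12, 12, 12,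
12, 12, 12, 12, 12, 12, 12, 12, 12, 12, 12, 12, 12, 12, 12, 12, 12, 12, 12, 12, 12, 12, 12, 12, 12, 12, 12, 12, 12, 12, 12, 12, 12, 12, 12, 12, 12, 12, 12, 12,
12, 12, 2, 2, 2, 2, 2, 2, 2, 4, 4, 4, 4, 4, 4, 4, 12, 12, 12, 12, 12, 12, 12, 12, 12, 12, 12, 12, 12, 12, 12, 12, 12, 12, 12, 12, 12, 12, 12, 12,
12, 12, 12, 12, 12, 12, 12, 12, 12, 12, 12, 12, 12, 12, 12, 12, 12, 12, 12, 12, 12, 12, 12, 12, 12, 12, 12, 12, 12, 12, 12, 12, 14, 2, 14, 14, 14, 14, 14, 14,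
2, 14, 14, 14, 14, 14, 28, 4, 28, 28, 28, 28, 28, 28, 4, 28, 28, 28, 28, 28, 28, 4, 28, 28, 28, 28, 28, 28, 4, 28, 28, 28, 28, 28, 14, 2, 14, 14, 14, 14,
14, 14, 2, 14, 14, 14, 14, 14, 14, 2, 14, 14, 14, 14, 14, 28, 4, 28, 28, 28, 28, 28, 12, 12, 12, 12, 12, 12, 12, 6, 6, 6, 6, 6, 6, 6, 12, 12, 12, 12,
12, 12, 12, 6, 6, 6, 6, 6, 6, 6, 12, 12, 12, 12, 12, 12, 12, 6, 6, 6, 6, 6, 6, 6, 12, 12, 12, 12, 12, 12, 12, 6, 6, 6, 6, 6, 6, 6, 14, 2,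
14, 14, 14, 14, 14, 28, 4, 28, 28, 28, 28, 28, 12, 12, 12, 12, 12, 12, 12, 6, 6, 6, 6, 6, 6, 6, 12, 12, 12, 12, 12, 12, 12, 6, 6, 6, 6, 6, 6, 6,
12, 12, 12, 12, 12, 12, 12, 6, 6, 6, 6, 6, 6, 6, 12, 12, 12, 12, 12, 12, 12, 6, 6, 6, 6, 6, 6, 6, 14, 2, 14, 14, 14, 14, 14, 28, 4, 28, 28, 28,
28, 28, 12, 12, 12, 12, 12, 12, 12, 6, 6, 6, 6, 6, 6, 6, 12, 12, 12, 12, 12, 12, 12, 6, 6, 6, 6, 6, 6, 6, 12, 12, 12, 12, 12, 12, 12, 6, 6, 6,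
6, 6, 6, 6, 12, 12, 12, 12, 12, 12, 12, 6, 6, 6, 6, 6, 6, 6, 14, 2, 14, 14, 14, 14, 14, 28, 4, 28, 28, 28, 28, 28, 12, 12, 12, 12, 12, 12, 12, 6,
6, 6, 6, 6, 6, 6, 12, 12, 12, 12, 12, 12, 12, 6, 6, 6, 6, 6, 6, 6, 12, 12, 12, 12, 12, 12, 12, 6, 6, 6, 6, 6, 6, 6, 12, 12, 12, 12, 12, 12,
12, 6, 6, 6, 6, 6, 6, 6, 4, 4, 4, 4, 4, 4, 4, 2, 2, 2, 2, 2, 2, 2, 4, 4, 4, 4, 4, 4, 4, 4, 4, 4, 4, 4, 4, 4, 4, 4, 4, 4,
4, 4, 4, 4, 4, 4, 4, 4, 4, 4, 4, 4, 4, 4, 4, 4, 4, 2, 2, 2, 2, 2, 2, 2, 4, 4, 4, 4, 4, 4, 4, 2, 2, 2, 2, 2, 2, 2, 12, 12,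
12, 12, 12, 12, 12, 12, 12, 12, 12, 12, 12, 12, 12, 12, 12, 12, 12, 12, 12, 12, 12, 12, 12, 12, 12, 12, 12, 12, 12, 12, 12, 12, 12, 12, 12, 12, 12, 12, 12, 12,
12, 12, 12, 12, 12, 12, 12, 12, 12, 12, 12, 12, 12, 12, 4, 4, 4, 4, 4, 4, 4, 2, 2, 2, 2, 2, 2, 2, 12, 12, 12, 12, 12, 12, 12, 12, 12, 12, 12, 12,
12, 12, 12, 12, 12, 12, 12, 12, 12, 12, 12, 12, 12, 12, 12, 12, 12, 12, 12, 12, 12, 12, 12, 12, 12, 12, 12, 12, 12, 12, 12, 12, 12, 12, 12, 12, 12, 12, 12, 12,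
12, 12, 12, 12, 4, 4, 4, 4, 4, 4, 4, 2, 2, 2, 2, 2, 2, 2, 12, 12, 12, 12, 12, 12, 12, 12, 12, 12, 12, 12, 12, 12, 12, 12, 12, 12, 12, 12, 12, 12,
12, 12, 12, 12, 12, 12, 12, 12, 12, 12, 12, 12, 12, 12, 12, 12, 12, 12, 12, 12, 12, 12, 12, 12, 12, 12, 12, 12, 12, 12, 12, 12, 12, 12, 4, 4, 4, 4, 4, 4,
4, 2, 2, 2, 2, 2, 2, 2, 12, 12, 12, 12, 12, 12, 12, 12, 12, 12, 12, 12, 12, 12, 12, 12, 12, 12, 12, 12, 12, 12, 12, 12, 12, 12, 12, 12, 12, 12, 12, 12,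
12, 12, 12, 12, 12, 12, 12, 12, 12, 12, 12, 12, 12, 12, 12, 12, 12, 12, 12, 12, 12, 12, 12, 12]
theorem g3o : g3W.map (fun w => ordF (g3L.map Lev.b) 40 (apL (nat_lit 6) (nat_lit 63) g3T w)) = g3O := by decide +kernel
noncomputable def g3at0 : ℕ := (nat_lit 0x1349140f61759551d71b6998a181f78e34c2ca1c82461440c2040)
noncomputable def g3at1 : ℕ := (nat_lit 0x1785270d55f41a2d889374e5a045b31478f64a1c82461440c2040)
noncomputable def g3at2 : ℕ := (nat_lit 0x227584ce85c5d23606d644c7da5502de6543ca1c82461440c2040)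
noncomputable def g3at3 : ℕ := (nat_lit 0x228607de75c6da6585d65544d24503ce34c2c81ca2461440c2040)
noncomputable def g3at4 : ℕ := (nat_lit 0x1b46058c75389839a41f54b7128573593de509287201083105180)
noncomputable def g3at5 : ℕ := (nat_lit 0x227584ce85c5d23606d644c7da5502de6543c72092851800420c4)
noncomputable def g3aT : Tr ℕ := (.node (nat_lit 3) (.node (nat_lit 1) (.leaf g3at0) (.node (nat_lit 2) (.leaf g3at1) (.leaf g3at2))) (.node (nat_lit 4) (.leaf g3at3) (.node (nat_lit 5) (.leaf g3at4) (.leaf g3at5))))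
noncomputable def g3aR : Tr (List ℕ) := (.node (nat_lit 10) (.node (nat_lit 5) (.node (nat_lit 2) (.node (nat_lit 1) (.leaf [nat_lit 5, nat_lit 0, nat_lit 2, nat_lit 5, nat_lit 0, nat_lit 2]) (.leaf [nat_lit 4, nat_lit 0, nat_lit 1, nat_lit 4, nat_lit 0, nat_lit 1])) (.node (nat_lit 3) (.leaf [nat_lit 5, nat_lit 1, nat_lit 2, nat_lit 5, nat_lit 1, nat_lit 2]) (.node (nat_lit 4) (.leaf [nat_lit 1, nat_lit 3, nat_lit 4, nat_lit 1, nat_lit 4]) (.leaf [nat_lit 2, nat_lit 3, nat_lit 5, nat_lit 2, nat_lit 5]))))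
 (.node (nat_lit 7) (.node (nat_lit 6) (.leaf [nat_lit 4, nat_lit 1, nat_lit 2, nat_lit 4, nat_lit 1, nat_lit 2]) (.leaf [nat_lit 5, nat_lit 3, nat_lit 5, nat_lit 3])) (.node (nat_lit 8) (.leaf [nat_lit 4, nat_lit 3, nat_lit 4, nat_lit 3]) (.node (nat_lit 9) (.leaf [nat_lit 4, nat_lit 4]) (.leaf [nat_lit 5, nat_lit 5])))))
 (.node (nat_lit 15) (.node (nat_lit 12) (.node (nat_lit 11) (.leaf [nat_lit 2, nat_lit 1, nat_lit 3, nat_lit 4, nat_lit 5, nat_lit 4, nat_lit 5, nat_lit 4, nat_lit 5, nat_lit 4, nat_lit 5, nat_lit 4, nat_lit 5, nat_lit 4, nat_lit 5, nat_lit 4, nat_lit 5]) (.leaf [nat_lit 3, nat_lit 0, nat_lit 3, nat_lit 0])) (.node (nat_lit 13) (.leaf [nat_lit 3, nat_lit 1, nat_lit 3, nat_lit 1]) (.node (nat_lit 14) (.leaf [nat_lit 3, nat_lit 2, nat_lit 3, nat_lit 2]) (.leaf [nat_lit 3, nat_lit 3]))))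
 (.node (nat_lit 17) (.node (nat_lit 16) (.leaf [nat_lit 0, nat_lit 2, nat_lit 1, nat_lit 0, nat_lit 1, nat_lit 2]) (.leaf [nat_lit 0, nat_lit 0])) (.node (nat_lit 18) (.leaf [nat_lit 1, nat_lit 1]) (.node (nat_lit 19) (.leaf [nat_lit 0, nat_lit 1, nat_lit 2, nat_lit 1, nat_lit 0, nat_lit 2]) (.leaf [nat_lit 2, nat_lit 2]))))))
noncomputable def g3aL0 : Lev := ⟨(nat_lit 0), (nat_lit 6), (nat_lit 0x5060605050600), (nat_lit 0x4050102060300),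
 (.node (nat_lit 3) (.node (nat_lit 1) (.leaf (nat_lit 0x9000b00030005000d00070000))
 (.node (nat_lit 2) (.leaf (nat_lit 0x8000b00030004000c00070000))
 (.leaf (nat_lit 0x9000a00020005000d00060000))))
 (.node (nat_lit 4) (.leaf (nat_lit 0x5000600020003000700040000))
 (.node (nat_lit 5) (.leaf (nat_lit 0x100010000000000010000))
 (.leaf (nat_lit 0x1000000000001000200000001))))),
 (.node (nat_lit 3) (.node (nat_lit 1) (.leaf (nat_lit 0x101000004000001000104000104000004000000))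
 (.node (nat_lit 2) (.leaf (nat_lit 0x303000204000201000300000300000204000000))
 (.leaf (nat_lit 0x502000400000403000505000505000400000000))))
 (.node (nat_lit 4) (.leaf (nat_lit 0x701000603000601000703000703000603000000))
 (.node (nat_lit 5) (.leaf (nat_lit 0x800000800000000000000000801000000))
 (.leaf (nat_lit 0x900000000000000000900000a0a000000000901)))))⟩
noncomputable def g3aL1 : Lev := ⟨(nat_lit 1), (nat_lit 5), (nat_lit 0x5000000000000), (nat_lit 0x1000000000000),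
 (.node (nat_lit 2) (.node (nat_lit 1) (.leaf (nat_lit 0x3000000000000000000000000))
 (.leaf (nat_lit 0x2000000000000000000000000)))
 (.node (nat_lit 3) (.leaf (nat_lit 0x3000000000000000000000000))
 (.node (nat_lit 4) (.leaf (nat_lit 0x2000000000000000000000000))
 (.leaf (nat_lit 0x10000))))),
 (.node (nat_lit 2) (.node (nat_lit 1) (.leaf (nat_lit 0x101000000000000000000000000000000000000))
 (.leaf (nat_lit 0x303000000000000000000000000000000000000)))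
 (.node (nat_lit 3) (.leaf (nat_lit 0x502000000000000000000000000000000000000))
 (.node (nat_lit 4) (.leaf (nat_lit 0x701000000000000000000000000000000000000))
 (.leaf (nat_lit 0x801000000)))))⟩
noncomputable def g3aL2 : Lev := ⟨(nat_lit 8), (nat_lit 4), (nat_lit 0x400000000000000000000), (nat_lit 0x100000000000000000000),
 (.node (nat_lit 2) (.node (nat_lit 1) (.leaf (nat_lit 0x20000000000000000000000000000000000000000))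
 (.leaf (nat_lit 0x20000000000000000000000000000000000000000)))
 (.node (nat_lit 3) (.leaf (nat_lit 0x20000000000000000000000000000000000000000))
 (.leaf (nat_lit 0x100000000000000000000000000000000)))),
 (.node (nat_lit 2) (.node (nat_lit 1) (.leaf (nat_lit 0xb01000000000000000000000000000000000000000000000000000000000000))
 (.leaf (nat_lit 0xc01000000000000000000000000000000000000000000000000000000000000)))
 (.node (nat_lit 3) (.leaf (nat_lit 0xd01000000000000000000000000000000000000000000000000000000000000))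
 (.leaf (nat_lit 0xe01000000000000000000000000000000000000000000000000))))⟩
noncomputable def g3aL3 : Lev := ⟨(nat_lit 11), (nat_lit 3), (nat_lit 0x1000000000200000000010000000003020302000000000000000000000000), (nat_lit 0x2000000000100000000020000000001030202000000000000000000000000),
 (.node (nat_lit 1) (.leaf (nat_lit 0x10000000000000000000000000000000000000001000400020002000000000000000000000000000000000000000000000000))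
 (.node (nat_lit 2) (.leaf (nat_lit 0x2000000000000000000000000000000000000000100000000000000000001000000030000000100000000000000000000000000000000000000000000))
 (.leaf (nat_lit 0x3000000000000000000010000000000000000000300000000000000000000000200000004000100000000000000000000000000000000000000000000)))),
 (.node (nat_lit 1) (.leaf (nat_lit 0x1000000000000000000000000000000000000000000000000000000000001001000f00000f00000f03000000000000000000000000000000000000000000000000000000000000000000000000))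
 (.node (nat_lit 2) (.leaf (nat_lit 0x1203000000000000000000000000000000000000000000000000000000001100000000000000000000000000001100000000001101000000001101000000000000000000000000000000000000000000000000000000000000000000))
 (.leaf (nat_lit 0x1300000000000000000000000000001300000000000000000000000000000f05000000000000000000000000000000000f01000000001301001301000000000000000000000000000000000000000000000000000000000000000000))))⟩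
noncomputable def g3aL4 : Lev := ⟨(nat_lit 7), (nat_lit 1), (nat_lit 0x1000000000000000000), (nat_lit 0x1000000000000000000),
 (.leaf (nat_lit 0x10000000000000000000000000000)),
 (.leaf (nat_lit 0x1001000000000000000000000000000000000000000000))⟩
noncomputable def g3aL : List Lev := [g3aL0, g3aL1, g3aL2, g3aL3, g3aL4]
noncomputable def g3aE : Tr (List ℕ) := (.node (nat_lit 3) (.node (nat_lit 1) (.leaf [nat_lit 0]) (.node (nat_lit 2) (.leaf [nat_lit 0, nat_lit 2, nat_lit 0]) (.leaf [nat_lit 0, nat_lit 1, nat_lit 0]))) (.node (nat_lit 4) (.leaf [nat_lit 3, nat_lit 0, nat_lit 2, nat_lit 0]) (.node (nat_lit 5) (.leaf [nat_lit 5, nat_lit 5, nat_lit 5, nat_lit 0, nat_lit 1]) (.leaf [nat_lit 4, nat_lit 6, nat_lit 5, nat_lit 3, nat_lit 0, nat_lit 1, nat_lit 0]))))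
theorem g3aw_0 : g3aT.all2 (fun c w => isProd 35 (nat_lit 6) (nat_lit 63) g3T c w) g3aE = true := by decide +kernel
theorem g3aw : g3aT.all2 (fun c w => isProd 35 (nat_lit 6) (nat_lit 63) g3T c w) g3aE = true := g3aw_0
theorem g3alev0 : levChk 35 (nat_lit 6) (nat_lit 63) g3aT g3aR g3aL0 g3aL1.N = true := by decide +kernel
theorem g3alev1 : levChk 35 (nat_lit 6) (nat_lit 63) g3aT g3aR g3aL1 g3aL2.N = true := by decide +kernel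
theorem g3alev2 : levChk 35 (nat_lit 6) (nat_lit 63) g3aT g3aR g3aL2 g3aL3.N = true := by decide +kernel
theorem g3alev3 : levChk 35 (nat_lit 6) (nat_lit 63) g3aT g3aR g3aL3 g3aL4.N = true := by decide +kernel
theorem g3alev4 : levChk 35 (nat_lit 6) (nat_lit 63) g3aT g3aR g3aL4 0 = true := by decide +kernel
theorem g3achain : Chain 35 (nat_lit 6) (nat_lit 63) g3aT g3aR g3aL := chain_cons g3alev0 <| chain_cons g3alev1 <| chain_cons g3alev2 <| chain_cons g3alev3 <| chain_one g3alev4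
theorem g3asd : band (selChk g3aT g3aT (topN g3aL)) (g3aR.all fun w => eqB (g3L.map Lev.b) (apL (nat_lit 6) (nat_lit 63) g3aT w) fun a => a) = true := by decide +kernel
theorem g3atc : tchainChk 35 (nat_lit 6) (nat_lit 63) g3aT g3aL = true := by decide +kernel
noncomputable def g3anW : Tr (List ℕ) := (.node (nat_lit 21) (.node (nat_lit 10) (.node (nat_lit 5) (.node (nat_lit 2) (.node (nat_lit 1) (.leaf [nat_lit 0]) (.leaf [nat_lit 0, nat_lit 1, nat_lit 0])) (.node (nat_lit 3) (.leaf [nat_lit 0, nat_lit 2, nat_lit 0]) (.node (nat_lit 4) (.leaf [nat_lit 3]) (.leaf [nat_lit 4, nat_lit 3, nat_lit 1, nat_lit 0, nat_lit 1, nat_lit 0]))))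
 (.node (nat_lit 7) (.node (nat_lit 6) (.leaf [nat_lit 5, nat_lit 3, nat_lit 1, nat_lit 0, nat_lit 1, nat_lit 0]) (.leaf [nat_lit 1, nat_lit 0, nat_lit 1])) (.node (nat_lit 8) (.leaf [nat_lit 0, nat_lit 1, nat_lit 0]) (.node (nat_lit 9) (.leaf [nat_lit 2]) (.leaf [nat_lit 3])))))
 (.node (nat_lit 15) (.node (nat_lit 12) (.node (nat_lit 11) (.leaf [nat_lit 4, nat_lit 3, nat_lit 1, nat_lit 0, nat_lit 1, nat_lit 0]) (.leaf [nat_lit 5, nat_lit 3])) (.node (nat_lit 13) (.leaf [nat_lit 1, nat_lit 0, nat_lit 1]) (.node (nat_lit 14) (.leaf [nat_lit 1]) (.leaf [nat_lit 0, nat_lit 2, nat_lit 0]))))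
 (.node (nat_lit 18) (.node (nat_lit 16) (.leaf [nat_lit 3]) (.node (nat_lit 17) (.leaf [nat_lit 4, nat_lit 3]) (.leaf [nat_lit 5, nat_lit 3, nat_lit 1, nat_lit 0, nat_lit 1, nat_lit 0]))) (.node (nat_lit 19) (.leaf [nat_lit 1, nat_lit 0, nat_lit 1]) (.node (nat_lit 20) (.leaf [nat_lit 1]) (.leaf [nat_lit 0, nat_lit 2, nat_lit 0]))))))
 (.node (nat_lit 31) (.node (nat_lit 26) (.node (nat_lit 23) (.node (nat_lit 22) (.leaf [nat_lit 3]) (.leaf [nat_lit 4, nat_lit 3])) (.node (nat_lit 24) (.leaf [nat_lit 5, nat_lit 3, nat_lit 1, nat_lit 0, nat_lit 1, nat_lit 0]) (.node (nat_lit 25) (.leaf [nat_lit 3, nat_lit 1]) (.leaf [nat_lit 3, nat_lit 2]))))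
 (.node (nat_lit 28) (.node (nat_lit 27) (.leaf [nat_lit 3, nat_lit 0]) (.leaf [nat_lit 3])) (.node (nat_lit 29) (.leaf [nat_lit 4, nat_lit 1, nat_lit 2]) (.node (nat_lit 30) (.leaf [nat_lit 4, nat_lit 5, nat_lit 4, nat_lit 5, nat_lit 4, nat_lit 3, nat_lit 1, nat_lit 0]) (.leaf [nat_lit 3, nat_lit 2])))))
 (.node (nat_lit 36) (.node (nat_lit 33) (.node (nat_lit 32) (.leaf [nat_lit 3, nat_lit 0]) (.leaf [nat_lit 3, nat_lit 1])) (.node (nat_lit 34) (.leaf [nat_lit 3]) (.node (nat_lit 35) (.leaf [nat_lit 4, nat_lit 1, nat_lit 0]) (.leaf [nat_lit 5, nat_lit 4, nat_lit 5, nat_lit 4, nat_lit 5, nat_lit 1, nat_lit 2]))))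
 (.node (nat_lit 39) (.node (nat_lit 37) (.leaf [nat_lit 3, nat_lit 0]) (.node (nat_lit 38) (.leaf [nat_lit 3, nat_lit 0, nat_lit 1, nat_lit 0]) (.leaf [nat_lit 3, nat_lit 0, nat_lit 2, nat_lit 0]))) (.node (nat_lit 40) (.leaf [nat_lit 3]) (.node (nat_lit 41) (.leaf [nat_lit 4, nat_lit 5, nat_lit 4, nat_lit 3, nat_lit 1, nat_lit 2]) (.leaf [nat_lit 4, nat_lit 5, nat_lit 4, nat_lit 5, nat_lit 4, nat_lit 3, nat_lit 2, nat_lit 1])))))))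
theorem g3an : nrmChk (nat_lit 6) (nat_lit 63) (g3L.map Lev.b) g3T g3aT (topN g3L) (topN g3aL) g3anW = true := by decide +kernel
noncomputable def g3bt0 : ℕ := (nat_lit 0x228607de75c6da6585d65544d24503ce34c2ca2481c10061440c2)
noncomputable def g3bt1 : ℕ := (nat_lit 0x228607de75c6da6585d65544d24503ce34c2ca2481c40c2040185)
noncomputable def g3bT : Tr ℕ := (.node (nat_lit 1) (.leaf g3bt0) (.leaf g3bt1))
noncomputable def g3bR : Tr (List ℕ) := (.node (nat_lit 1) (.leaf [nat_lit 0, nat_lit 1]) (.leaf [nat_lit 0, nat_lit 0, nat_lit 0, nat_lit 0, nat_lit 0, nat_lit 0, nat_lit 0]))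
noncomputable def g3bL0 : Lev := ⟨(nat_lit 0), (nat_lit 2), (nat_lit 0x2010201020100), (nat_lit 0x3010202010300),
 (.node (nat_lit 1) (.leaf (nat_lit 0x2000000010000000100000001))
 (.leaf (nat_lit 0x100000001000000030001))),
 (.node (nat_lit 1) (.leaf (nat_lit 0x103000000000000000000000000000000000000))
 (.leaf (nat_lit 0x1000000000001000000000001000001)))⟩
noncomputable def g3bL : List Lev := [g3bL0]
noncomputable def g3bE : Tr (List ℕ) := (.node (nat_lit 1) (.leaf [nat_lit 4, nat_lit 5, nat_lit 4, nat_lit 5, nat_lit 4, nat_lit 5, nat_lit 3, nat_lit 2, nat_lit 1]) (.leaf [nat_lit 5, nat_lit 4, nat_lit 5, nat_lit 4, nat_lit 5, nat_lit 4, nat_lit 3, nat_lit 1, nat_lit 2]))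
theorem g3bw_0 : g3bT.all2 (fun c w => isProd 35 (nat_lit 6) (nat_lit 63) g3aT c w) g3bE = true := by decide +kernel
theorem g3bw : g3bT.all2 (fun c w => isProd 35 (nat_lit 6) (nat_lit 63) g3aT c w) g3bE = true := g3bw_0
theorem g3blev0 : levChk 35 (nat_lit 6) (nat_lit 63) g3bT g3bR g3bL0 0 = true := by decide +kernel
theorem g3bchain : Chain 35 (nat_lit 6) (nat_lit 63) g3bT g3bR g3bL := chain_one g3blev0
theorem g3bsd : band (selChk g3bT g3bT (topN g3bL)) (g3bR.all fun w => eqB (g3aL.map Lev.b) (apL (nat_lit 6) (nat_lit 63) g3bT w) fun a => a) = true := by decide +kernel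
theorem g3btc : tchainChk 35 (nat_lit 6) (nat_lit 63) g3bT g3bL = true := by decide +kernel
noncomputable def g3bnW : Tr (List ℕ) := (.node (nat_lit 6) (.node (nat_lit 3) (.node (nat_lit 1) (.leaf [nat_lit 0]) (.node (nat_lit 2) (.leaf [nat_lit 1]) (.leaf [nat_lit 0]))) (.node (nat_lit 4) (.leaf [nat_lit 1]) (.node (nat_lit 5) (.leaf [nat_lit 0]) (.leaf [nat_lit 1]))))
 (.node (nat_lit 9) (.node (nat_lit 7) (.leaf [nat_lit 0]) (.node (nat_lit 8) (.leaf [nat_lit 1]) (.leaf [nat_lit 1]))) (.node (nat_lit 10) (.leaf [nat_lit 0]) (.node (nat_lit 11) (.leaf [nat_lit 1]) (.leaf [nat_lit 0])))))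
theorem g3bn : nrmChk (nat_lit 6) (nat_lit 63) (g3aL.map Lev.b) g3aT g3bT (topN g3aL) (topN g3bL) g3bnW = true := by decide +kernel
theorem g3x : ∃ N : Subgroup (Equiv.Perm (Fin 35)), OrdL N g3O ∧ Group.IsSolvable N :=
  let ⟨N, C, _⟩ := exists_pg g3s g3chain g3sd g3tc
  let ⟨N1, C1, _⟩ := (C.gen (lets_words C.lets g3aE g3aw) g3achain g3asd g3atc)
  let ⟨N2, C2, _⟩ := (C1.gen (lets_words C1.lets g3bE g3bw) g3bchain g3bsd g3btc)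
  ⟨N, C.ordL g3Wc g3o (by decide +kernel), solv_step N1 (C.normal C1 g3an) (solv_step N2 (C1.normal C2 g3bn) (solv_p (p := 7) (j := 1) (by norm_num) (C2.card.trans (by decide +kernel)))
    (p := 2) (j := 6) (by norm_num) (Nat.eq_of_mul_eq_mul_right (m := 7) (by norm_num) (((congrArg _ (by decide +kernel)).trans (C1.index C2)).trans (by decide +kernel)))) (p := 3) (j := 1) (by norm_num) (Nat.eq_of_mul_eq_mul_right (m := 448) (by norm_num) (((congrArg _ (by decide +kernel)).trans (C.index C1)).trans (by decide +kernel)))⟩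
noncomputable def h1t0 : ℕ := (nat_lit 0x159d10)
noncomputable def h1t1 : ℕ := (nat_lit 0xf2a60)
noncomputable def h1t2 : ℕ := (nat_lit 0x60795)
noncomputable def h1t3 : ℕ := (nat_lit 0x85674)
noncomputable def h1T : Tr ℕ := (.node (nat_lit 2) (.node (nat_lit 1) (.leaf h1t0) (.leaf h1t1)) (.node (nat_lit 3) (.leaf h1t2) (.leaf h1t3)))
noncomputable def h1R : Tr (List ℕ) := (.node (nat_lit 3) (.node (nat_lit 1) (.leaf [nat_lit 0, nat_lit 0, nat_lit 0]) (.node (nat_lit 2) (.leaf [nat_lit 0, nat_lit 1]) (.leaf [nat_lit 2, nat_lit 3]))) (.node (nat_lit 4) (.leaf [nat_lit 2, nat_lit 2, nat_lit 2]) (.node (nat_lit 5) (.leaf [nat_lit 1, nat_lit 3, nat_lit 0, nat_lit 2, nat_lit 1, nat_lit 3]) (.leaf [nat_lit 2, nat_lit 1, nat_lit 2, nat_lit 1, nat_lit 2, nat_lit 1]))))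
noncomputable def h1L0 : Lev := ⟨(nat_lit 0), (nat_lit 4), (nat_lit 0x1040302010200), (nat_lit 0x2010102020200),
 (.node (nat_lit 2) (.node (nat_lit 1) (.leaf (nat_lit 0x100010002000000020000))
 (.leaf (nat_lit 0x3000100010000000300000000)))
 (.node (nat_lit 3) (.leaf (nat_lit 0x2000200000004000200030001))
 (.leaf (nat_lit 0x3000000030005000400030001)))),
 (.node (nat_lit 2) (.node (nat_lit 1) (.leaf (nat_lit 0x100000100000002000000000002000000))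
 (.leaf (nat_lit 0x101000101000101000000000101000000000000)))
 (.node (nat_lit 3) (.leaf (nat_lit 0x502000301000000000500000403000302000200))
 (.leaf (nat_lit 0x201000000000201000201000201000201000201))))⟩
noncomputable def h1L1 : Lev := ⟨(nat_lit 1), (nat_lit 2), (nat_lit 0x100020000), (nat_lit 0x100010000),
 (.node (nat_lit 1) (.leaf (nat_lit 0x200010000))
 (.leaf (nat_lit 0x30000000000010000))),
 (.node (nat_lit 1) (.leaf (nat_lit 0x1000100000000))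
 (.leaf (nat_lit 0x101000000000000000101000000)))⟩
noncomputable def h1L : List Lev := [h1L0, h1L1]
theorem h1s : h1T.all (fun c => surjF 7 (ap (nat_lit 3) (nat_lit 7) c)) = true := by decide +kernel
theorem h1lev0 : levChk 7 (nat_lit 3) (nat_lit 7) h1T h1R h1L0 h1L1.N = true := by decide +kernel
theorem h1lev1 : levChk 7 (nat_lit 3) (nat_lit 7) h1T h1R h1L1 0 = true := by decide +kernel
theorem h1chain : Chain 7 (nat_lit 3) (nat_lit 7) h1T h1R h1L := chain_cons h1lev0 <| chain_one h1lev1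
theorem h1sd : band (selChk h1T h1T (topN h1L)) (h1R.all fun w => eqB (List.range 7) (apL (nat_lit 3) (nat_lit 7) h1T w) fun a => a) = true := by decide +kernel
theorem h1tc : tchainChk 7 (nat_lit 3) (nat_lit 7) h1T h1L = true := by decide +kernel
noncomputable def h1W : List (List ℕ) := [[nat_lit 0, nat_lit 2, nat_lit 1],
 [nat_lit 2, nat_lit 1],
 [nat_lit 1, nat_lit 2, nat_lit 1],
 [],
 [nat_lit 3, nat_lit 0],
 [nat_lit 1, nat_lit 2],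
 [nat_lit 0],
 [nat_lit 0, nat_lit 3, nat_lit 0],
 [nat_lit 2],
 [nat_lit 0, nat_lit 3, nat_lit 1],
 [nat_lit 1, nat_lit 3],
 [nat_lit 1, nat_lit 2, nat_lit 0],
 [nat_lit 1],
 [nat_lit 1, nat_lit 3, nat_lit 0],
 [nat_lit 0, nat_lit 2],
 [nat_lit 0, nat_lit 3],
 [nat_lit 0, nat_lit 2, nat_lit 0],
 [nat_lit 3, nat_lit 1],
 [nat_lit 1, nat_lit 3, nat_lit 1],
 [nat_lit 3],
 [nat_lit 2, nat_lit 0]]
theorem h1Wc : band (incr (fun w => keyB 7 (h1L.map Lev.b) (apL (nat_lit 3) (nat_lit 7) h1T w)) h1W 0) (Nat.ble (chainOrd 7 h1L) h1W.length) = true := by decide +kernel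
def h1O : List ℕ := [3, 3, 7, 1, 3, 3, 3, 7, 3, 3, 7, 3, 3, 3, 7, 3, 3, 7, 3, 3, 7]
theorem h1o : h1W.map (fun w => ordF (h1L.map Lev.b) 40 (apL (nat_lit 3) (nat_lit 7) h1T w)) = h1O := by decide +kernel
theorem h1x : ∃ N : Subgroup (Equiv.Perm (Fin 7)), OrdL N h1O ∧ True :=
  let ⟨N, C, _⟩ := exists_pg h1s h1chain h1sd h1tc
  ⟨N, C.ordL h1Wc h1o (by decide +kernel), trivial⟩
noncomputable def h2t0 : ℕ := (nat_lit 0x789adebc6543210)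
noncomputable def h2t1 : ℕ := (nat_lit 0x9a78bcde6543210)
noncomputable def h2t2 : ℕ := (nat_lit 0xdcbe987a6543210)
noncomputable def h2t3 : ℕ := (nat_lit 0xbedc7a986543210)
noncomputable def h2t4 : ℕ := (nat_lit 0xedcba9875463210)
noncomputable def h2t5 : ℕ := (nat_lit 0xedcba9874653210)
noncomputable def h2t6 : ℕ := (nat_lit 0x9a78bcde6542103)
noncomputable def h2t7 : ℕ := (nat_lit 0x789adebc6540321)
noncomputable def h2T : Tr ℕ := (.node (nat_lit 4) (.node (nat_lit 2) (.node (nat_lit 1) (.leaf h2t0) (.leaf h2t1)) (.node (nat_lit 3) (.leaf h2t2) (.leaf h2t3)))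
 (.node (nat_lit 6) (.node (nat_lit 5) (.leaf h2t4) (.leaf h2t5)) (.node (nat_lit 7) (.leaf h2t6) (.leaf h2t7))))
noncomputable def h2R : Tr (List ℕ) := (.node (nat_lit 7) (.node (nat_lit 3) (.node (nat_lit 1) (.leaf [nat_lit 6, nat_lit 0, nat_lit 7, nat_lit 1]) (.node (nat_lit 2) (.leaf [nat_lit 0, nat_lit 1]) (.leaf [nat_lit 6, nat_lit 2, nat_lit 7, nat_lit 2])))
 (.node (nat_lit 5) (.node (nat_lit 4) (.leaf [nat_lit 2, nat_lit 3]) (.leaf [nat_lit 6, nat_lit 4, nat_lit 7, nat_lit 5])) (.node (nat_lit 6) (.leaf [nat_lit 4, nat_lit 5]) (.leaf [nat_lit 6, nat_lit 7]))))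
 (.node (nat_lit 10) (.node (nat_lit 8) (.leaf [nat_lit 6, nat_lit 6, nat_lit 6, nat_lit 6]) (.node (nat_lit 9) (.leaf [nat_lit 4, nat_lit 0, nat_lit 5, nat_lit 1]) (.leaf [nat_lit 4, nat_lit 2, nat_lit 5, nat_lit 3])))
 (.node (nat_lit 12) (.node (nat_lit 11) (.leaf [nat_lit 4, nat_lit 4, nat_lit 4]) (.leaf [nat_lit 0, nat_lit 2, nat_lit 0, nat_lit 3])) (.node (nat_lit 13) (.leaf [nat_lit 0, nat_lit 0, nat_lit 0, nat_lit 0]) (.leaf [nat_lit 0, nat_lit 0, nat_lit 2, nat_lit 2])))))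
noncomputable def h2L0 : Lev := ⟨(nat_lit 0), (nat_lit 8), (nat_lit 0x8070700), (nat_lit 0x1020100),
 (.node (nat_lit 4) (.node (nat_lit 2) (.node (nat_lit 1) (.leaf (nat_lit 0x6000400020000))
 (.leaf (nat_lit 0x7000500030000)))
 (.node (nat_lit 3) (.leaf (nat_lit 0x4000300020000))
 (.leaf (nat_lit 0x5000400030000))))
 (.node (nat_lit 6) (.node (nat_lit 5) (.leaf (nat_lit 0x6000400020000))
 (.leaf (nat_lit 0x7000500030000)))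
 (.node (nat_lit 7) (.leaf (nat_lit 0x2000000000001))
 (.leaf (nat_lit 0x300010001))))),
 (.node (nat_lit 4) (.node (nat_lit 2) (.node (nat_lit 1) (.leaf (nat_lit 0x1000001000001000000))
 (.leaf (nat_lit 0x101000101000101000000)))
 (.node (nat_lit 3) (.leaf (nat_lit 0x201000201000201000000))
 (.leaf (nat_lit 0x301000301000301000000))))
 (.node (nat_lit 6) (.node (nat_lit 5) (.leaf (nat_lit 0x401000401000401000000))
 (.leaf (nat_lit 0x501000501000501000000)))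
 (.node (nat_lit 7) (.leaf (nat_lit 0x702000000000000000600))
 (.leaf (nat_lit 0x601000601000601)))))⟩
noncomputable def h2L1 : Lev := ⟨(nat_lit 4), (nat_lit 6), (nat_lit 0x6050000000000), (nat_lit 0x1010000000000),
 (.node (nat_lit 3) (.node (nat_lit 1) (.leaf (nat_lit 0x4000200000000000000000000))
 (.node (nat_lit 2) (.leaf (nat_lit 0x5000300000000000000000000))
 (.leaf (nat_lit 0x4000200000000000000000000))))
 (.node (nat_lit 4) (.leaf (nat_lit 0x5000300000000000000000000))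
 (.node (nat_lit 5) (.leaf (nat_lit 0x2000000010000000000000000))
 (.leaf (nat_lit 0x300010000000000000000))))),
 (.node (nat_lit 3) (.node (nat_lit 1) (.leaf (nat_lit 0x801000801000000000000000000000000000000))
 (.node (nat_lit 2) (.leaf (nat_lit 0x101000101000000000000000000000000000000))
 (.leaf (nat_lit 0x901000901000000000000000000000000000000))))
 (.node (nat_lit 4) (.leaf (nat_lit 0x301000301000000000000000000000000000000))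
 (.node (nat_lit 5) (.leaf (nat_lit 0xa01000000000500000000000000000000000000))
 (.leaf (nat_lit 0x501000501000000000000000000000000)))))⟩
noncomputable def h2L2 : Lev := ⟨(nat_lit 7), (nat_lit 4), (nat_lit 0x10402030401030000000000000000), (nat_lit 0x10201020102010000000000000000),
 (.node (nat_lit 2) (.node (nat_lit 1) (.leaf (nat_lit 0x30002000400050000000200010000000000000000000000000000))
 (.leaf (nat_lit 0x100060000000300050003000400010000000000000000000000000000)))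
 (.node (nat_lit 3) (.leaf (nat_lit 0x100030002000000020003000000010000000000000000000000000000))
 (.leaf (nat_lit 0x100000004000300000003000400010000000000000000000000000000)))),
 (.node (nat_lit 2) (.node (nat_lit 1) (.leaf (nat_lit 0xd01000c02000d00000c01000000000b02000100000000000000000000000000000000000000000000))
 (.leaf (nat_lit 0x101000101000000000101000101000101000101000101000000000000000000000000000000000000000000)))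
 (.node (nat_lit 3) (.leaf (nat_lit 0x300000d02000d03000000000d02000d03000000000300000000000000000000000000000000000000000000))
 (.leaf (nat_lit 0x301000000000301000301000000000301000301000301000000000000000000000000000000000000000000))))⟩
noncomputable def h2L : List Lev := [h2L0, h2L1, h2L2]
theorem h2s : h2T.all (fun c => surjF 15 (ap (nat_lit 4) (nat_lit 15) c)) = true := by decide +kernel
theorem h2lev0 : levChk 15 (nat_lit 4) (nat_lit 15) h2T h2R h2L0 h2L1.N = true := by decide +kernel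
theorem h2lev1 : levChk 15 (nat_lit 4) (nat_lit 15) h2T h2R h2L1 h2L2.N = true := by decide +kernel
theorem h2lev2 : levChk 15 (nat_lit 4) (nat_lit 15) h2T h2R h2L2 0 = true := by decide +kernel
theorem h2chain : Chain 15 (nat_lit 4) (nat_lit 15) h2T h2R h2L := chain_cons h2lev0 <| chain_cons h2lev1 <| chain_one h2lev2
theorem h2sd : band (selChk h2T h2T (topN h2L)) (h2R.all fun w => eqB (List.range 15) (apL (nat_lit 4) (nat_lit 15) h2T w) fun a => a) = true := by decide +kernel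
theorem h2tc : tchainChk 15 (nat_lit 4) (nat_lit 15) h2T h2L = true := by decide +kernel
noncomputable def h2W : List (List ℕ) := [[],
 [nat_lit 7, nat_lit 1],
 [nat_lit 7, nat_lit 7, nat_lit 1, nat_lit 1],
 [nat_lit 6, nat_lit 0],
 [nat_lit 5],
 [nat_lit 7, nat_lit 5, nat_lit 1],
 [nat_lit 7, nat_lit 7, nat_lit 5, nat_lit 1, nat_lit 1],
 [nat_lit 6, nat_lit 5, nat_lit 0],
 [nat_lit 4],
 [nat_lit 7, nat_lit 4, nat_lit 1],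
 [nat_lit 7, nat_lit 7, nat_lit 4, nat_lit 1, nat_lit 1],
 [nat_lit 6, nat_lit 4, nat_lit 0],
 [nat_lit 3],
 [nat_lit 7, nat_lit 2, nat_lit 1],
 [nat_lit 7, nat_lit 7, nat_lit 2],
 [nat_lit 6, nat_lit 3, nat_lit 1],
 [nat_lit 5, nat_lit 3],
 [nat_lit 7, nat_lit 5, nat_lit 2, nat_lit 1],
 [nat_lit 7, nat_lit 7, nat_lit 5, nat_lit 2],
 [nat_lit 6, nat_lit 5, nat_lit 3, nat_lit 1],
 [nat_lit 4, nat_lit 3],
 [nat_lit 7, nat_lit 4, nat_lit 2, nat_lit 1],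
 [nat_lit 7, nat_lit 7, nat_lit 4, nat_lit 2],
 [nat_lit 6, nat_lit 4, nat_lit 3, nat_lit 1],
 [nat_lit 1, nat_lit 1],
 [nat_lit 7, nat_lit 0],
 [nat_lit 7, nat_lit 7],
 [nat_lit 6, nat_lit 1],
 [nat_lit 5, nat_lit 1, nat_lit 1],
 [nat_lit 7, nat_lit 5, nat_lit 0],
 [nat_lit 7, nat_lit 7, nat_lit 5],
 [nat_lit 6, nat_lit 5, nat_lit 1],
 [nat_lit 4, nat_lit 1, nat_lit 1],
 [nat_lit 7, nat_lit 4, nat_lit 0],
 [nat_lit 7, nat_lit 7, nat_lit 4],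
 [nat_lit 6, nat_lit 4, nat_lit 1],
 [nat_lit 2],
 [nat_lit 7, nat_lit 3, nat_lit 1],
 [nat_lit 7, nat_lit 7, nat_lit 3],
 [nat_lit 6, nat_lit 2, nat_lit 1],
 [nat_lit 5, nat_lit 2],
 [nat_lit 7, nat_lit 5, nat_lit 3, nat_lit 1],
 [nat_lit 7, nat_lit 7, nat_lit 5, nat_lit 3],
 [nat_lit 6, nat_lit 5, nat_lit 2, nat_lit 1],
 [nat_lit 4, nat_lit 2],
 [nat_lit 7, nat_lit 4, nat_lit 3, nat_lit 1],
 [nat_lit 7, nat_lit 7, nat_lit 4, nat_lit 3],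
 [nat_lit 6, nat_lit 4, nat_lit 2, nat_lit 1],
 [nat_lit 3, nat_lit 1],
 [nat_lit 7, nat_lit 3],
 [nat_lit 7, nat_lit 7, nat_lit 2, nat_lit 1],
 [nat_lit 6, nat_lit 2],
 [nat_lit 5, nat_lit 3, nat_lit 1],
 [nat_lit 7, nat_lit 5, nat_lit 3],
 [nat_lit 7, nat_lit 7, nat_lit 5, nat_lit 2, nat_lit 1],
 [nat_lit 6, nat_lit 5, nat_lit 2],
 [nat_lit 4, nat_lit 3, nat_lit 1],
 [nat_lit 7, nat_lit 4, nat_lit 3],
 [nat_lit 7, nat_lit 7, nat_lit 4, nat_lit 2, nat_lit 1],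
 [nat_lit 6, nat_lit 4, nat_lit 2],
 [nat_lit 0],
 [nat_lit 7],
 [nat_lit 7, nat_lit 7, nat_lit 1],
 [nat_lit 6, nat_lit 1, nat_lit 1],
 [nat_lit 5, nat_lit 0],
 [nat_lit 7, nat_lit 5],
 [nat_lit 7, nat_lit 7, nat_lit 5, nat_lit 1],
 [nat_lit 6, nat_lit 5, nat_lit 1, nat_lit 1],
 [nat_lit 4, nat_lit 0],
 [nat_lit 7, nat_lit 4],
 [nat_lit 7, nat_lit 7, nat_lit 4, nat_lit 1],
 [nat_lit 6, nat_lit 4, nat_lit 1, nat_lit 1],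
 [nat_lit 2, nat_lit 1],
 [nat_lit 7, nat_lit 2],
 [nat_lit 7, nat_lit 7, nat_lit 3, nat_lit 1],
 [nat_lit 6, nat_lit 3],
 [nat_lit 5, nat_lit 2, nat_lit 1],
 [nat_lit 7, nat_lit 5, nat_lit 2],
 [nat_lit 7, nat_lit 7, nat_lit 5, nat_lit 3, nat_lit 1],
 [nat_lit 6, nat_lit 5, nat_lit 3],
 [nat_lit 4, nat_lit 2, nat_lit 1],
 [nat_lit 7, nat_lit 4, nat_lit 2],
 [nat_lit 7, nat_lit 7, nat_lit 4, nat_lit 3, nat_lit 1],
 [nat_lit 6, nat_lit 4, nat_lit 3],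
 [nat_lit 1],
 [nat_lit 7, nat_lit 1, nat_lit 1],
 [nat_lit 7, nat_lit 7, nat_lit 0],
 [nat_lit 6],
 [nat_lit 5, nat_lit 1],
 [nat_lit 7, nat_lit 5, nat_lit 1, nat_lit 1],
 [nat_lit 7, nat_lit 7, nat_lit 5, nat_lit 0],
 [nat_lit 6, nat_lit 5],
 [nat_lit 4, nat_lit 1],
 [nat_lit 7, nat_lit 4, nat_lit 1, nat_lit 1],
 [nat_lit 7, nat_lit 7, nat_lit 4, nat_lit 0],
 [nat_lit 6, nat_lit 4]]
theorem h2Wc : band (incr (fun w => keyB 15 (h2L.map Lev.b) (apL (nat_lit 4) (nat_lit 15) h2T w)) h2W 0) (Nat.ble (chainOrd 15 h2L) h2W.length) = true := by decide +kernel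
def h2O : List ℕ := [1, 4, 2, 4, 3, 12, 6, 12, 3, 12, 6, 12, 4, 4, 4, 4, 12, 12, 12, 12, 12, 12, 12, 12, 2, 4, 2, 4, 6, 12, 6, 12, 6, 12, 6, 12, 4, 4, 4, 4,
12, 12, 12, 12, 12, 12, 12, 12, 4, 4, 4, 4, 12, 12, 12, 12, 12, 12, 12, 12, 4, 4, 4, 4, 12, 12, 12, 12, 12, 12, 12, 12, 4, 4, 4, 4, 12, 12, 12, 12,
12, 12, 12, 12, 4, 4, 4, 4, 12, 12, 12, 12, 12, 12, 12, 12]
theorem h2o : h2W.map (fun w => ordF (h2L.map Lev.b) 40 (apL (nat_lit 4) (nat_lit 15) h2T w)) = h2O := by decide +kernel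
theorem h2x : ∃ N : Subgroup (Equiv.Perm (Fin 15)), OrdL N h2O ∧ True :=
  let ⟨N, C, _⟩ := exists_pg h2s h2chain h2sd h2tc
  ⟨N, C.ordL h2Wc h2o (by decide +kernel), trivial⟩
noncomputable def h3t0 : ℕ := (nat_lit 0xedcb87a96543210)
noncomputable def h3t1 : ℕ := (nat_lit 0xdebca9876543210)
noncomputable def h3t2 : ℕ := (nat_lit 0xcbeda9876543210)
noncomputable def h3t3 : ℕ := (nat_lit 0xdceb7a982461350)
noncomputable def h3t4 : ℕ := (nat_lit 0xcedb987a4152630)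
noncomputable def h3t5 : ℕ := (nat_lit 0xdbcea9870362514)
noncomputable def h3t6 : ℕ := (nat_lit 0xbecda9874205316)
noncomputable def h3T : Tr ℕ := (.node (nat_lit 3) (.node (nat_lit 1) (.leaf h3t0) (.node (nat_lit 2) (.leaf h3t1) (.leaf h3t2)))
 (.node (nat_lit 5) (.node (nat_lit 4) (.leaf h3t3) (.leaf h3t4)) (.node (nat_lit 6) (.leaf h3t5) (.leaf h3t6))))
noncomputable def h3R : Tr (List ℕ) := (.node (nat_lit 9) (.node (nat_lit 4) (.node (nat_lit 2) (.node (nat_lit 1) (.leaf [nat_lit 3, nat_lit 0, nat_lit 4, nat_lit 0]) (.leaf [nat_lit 5, nat_lit 0, nat_lit 6, nat_lit 0])) (.node (nat_lit 3) (.leaf [nat_lit 1, nat_lit 4, nat_lit 4, nat_lit 2, nat_lit 3, nat_lit 3]) (.leaf [nat_lit 3, nat_lit 2, nat_lit 4, nat_lit 1])))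
 (.node (nat_lit 6) (.node (nat_lit 5) (.leaf [nat_lit 5, nat_lit 1, nat_lit 6, nat_lit 2]) (.leaf [nat_lit 1, nat_lit 2, nat_lit 3, nat_lit 1, nat_lit 4])) (.node (nat_lit 7) (.leaf [nat_lit 1, nat_lit 2, nat_lit 5, nat_lit 2, nat_lit 6]) (.node (nat_lit 8) (.leaf [nat_lit 3, nat_lit 4]) (.leaf [nat_lit 0, nat_lit 3, nat_lit 3, nat_lit 3, nat_lit 3, nat_lit 3, nat_lit 3])))))
 (.node (nat_lit 14) (.node (nat_lit 11) (.node (nat_lit 10) (.leaf [nat_lit 0, nat_lit 3, nat_lit 5, nat_lit 3, nat_lit 5]) (.leaf [nat_lit 5, nat_lit 6])) (.node (nat_lit 12) (.leaf [nat_lit 2, nat_lit 3, nat_lit 3, nat_lit 3, nat_lit 5, nat_lit 4, nat_lit 5, nat_lit 3, nat_lit 3, nat_lit 6]) (.node (nat_lit 13) (.leaf [nat_lit 5, nat_lit 5, nat_lit 5]) (.leaf [nat_lit 1, nat_lit 0, nat_lit 1, nat_lit 0]))))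
 (.node (nat_lit 16) (.node (nat_lit 15) (.leaf [nat_lit 0, nat_lit 2, nat_lit 0, nat_lit 2]) (.leaf [nat_lit 1, nat_lit 1])) (.node (nat_lit 17) (.leaf [nat_lit 1, nat_lit 2, nat_lit 1, nat_lit 2]) (.node (nat_lit 18) (.leaf [nat_lit 2, nat_lit 2]) (.leaf [nat_lit 0, nat_lit 0]))))))
noncomputable def h3L0 : Lev := ⟨(nat_lit 0), (nat_lit 7), (nat_lit 0x6040705050400), (nat_lit 0x1020103020300),
 (.node (nat_lit 3) (.node (nat_lit 1) (.leaf (nat_lit 0x2000300020004000300040000))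
 (.node (nat_lit 2) (.leaf (nat_lit 0x2000800070005000300050000))
 (.leaf (nat_lit 0x2000600040007000400070000))))
 (.node (nat_lit 5) (.node (nat_lit 4) (.leaf (nat_lit 0x1000000020005000100000000))
 (.leaf (nat_lit 0x3000100010000000000060000)))
 (.node (nat_lit 6) (.leaf (nat_lit 0x500020002000400060001))
 (.leaf (nat_lit 0x3000500000006000300070001))))),
 (.node (nat_lit 3) (.node (nat_lit 1) (.leaf (nat_lit 0x101000001000103000003000003000001000000))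
 (.node (nat_lit 2) (.leaf (nat_lit 0x401000303000303000303000303000200000000))
 (.leaf (nat_lit 0x603000403000301000301000501000501000000))))
 (.node (nat_lit 5) (.node (nat_lit 4) (.leaf (nat_lit 0x700000000000903000801000700000000000000))
 (.leaf (nat_lit 0x701000701000701000000000000000701000000)))
 (.node (nat_lit 6) (.leaf (nat_lit 0xc01000c01000b06000904000904000a00))
 (.leaf (nat_lit 0xa01000a01000000000a01000a01000a01000a01)))))⟩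
noncomputable def h3L1 : Lev := ⟨(nat_lit 1), (nat_lit 5), (nat_lit 0x4050504040000), (nat_lit 0x3010201020000),
 (.node (nat_lit 2) (.node (nat_lit 1) (.leaf (nat_lit 0x4000200030002000300000000))
 (.leaf (nat_lit 0x4000200030002000200000000)))
 (.node (nat_lit 3) (.leaf (nat_lit 0x3000400020002000300000000))
 (.node (nat_lit 4) (.leaf (nat_lit 0x100020000000000010000))
 (.leaf (nat_lit 0x3000000000001000100010000))))),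
 (.node (nat_lit 2) (.node (nat_lit 1) (.leaf (nat_lit 0x1000003000003000001000001000000000000))
 (.leaf (nat_lit 0x303000303000500000503000200000000000000)))
 (.node (nat_lit 3) (.leaf (nat_lit 0x301000301000203000301000301000000000000))
 (.node (nat_lit 4) (.leaf (nat_lit 0x700000804000000000000000700000000))
 (.leaf (nat_lit 0x701000000000000000701000701000701000000)))))⟩
noncomputable def h3L2 : Lev := ⟨(nat_lit 11), (nat_lit 3), (nat_lit 0x30302000000000000000000000000), (nat_lit 0x20101000000000000000000000000),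
 (.node (nat_lit 1) (.leaf (nat_lit 0x400020002000000000000000000000000000000000000000000000000))
 (.node (nat_lit 2) (.leaf (nat_lit 0x300020000000100000000000000000000000000000000000000000000))
 (.leaf (nat_lit 0x1000100000000000000000000000000000000000000000000)))),
 (.node (nat_lit 1) (.leaf (nat_lit 0xd01000e02000d01000000000000000000000000000000000000000000000000000000000000000000000000))
 (.node (nat_lit 2) (.leaf (nat_lit 0xf00001002000000000f01000000000000000000000000000000000000000000000000000000000000000000))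
 (.leaf (nat_lit 0x1101001101000000000000000000000000000000000000000000000000000000000000000000))))⟩
noncomputable def h3L3 : Lev := ⟨(nat_lit 7), (nat_lit 1), (nat_lit 0x1000000000000000000), (nat_lit 0x1000000000000000000),
 (.leaf (nat_lit 0x10000000000000000000000000000)),
 (.leaf (nat_lit 0x1201000000000000000000000000000000000000000000))⟩
noncomputable def h3L : List Lev := [h3L0, h3L1, h3L2, h3L3]
theorem h3s : h3T.all (fun c => surjF 15 (ap (nat_lit 4) (nat_lit 15) c)) = true := by decide +kernel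
theorem h3lev0 : levChk 15 (nat_lit 4) (nat_lit 15) h3T h3R h3L0 h3L1.N = true := by decide +kernel
theorem h3lev1 : levChk 15 (nat_lit 4) (nat_lit 15) h3T h3R h3L1 h3L2.N = true := by decide +kernel
theorem h3lev2 : levChk 15 (nat_lit 4) (nat_lit 15) h3T h3R h3L2 h3L3.N = true := by decide +kernel
theorem h3lev3 : levChk 15 (nat_lit 4) (nat_lit 15) h3T h3R h3L3 0 = true := by decide +kernel
theorem h3chain : Chain 15 (nat_lit 4) (nat_lit 15) h3T h3R h3L := chain_cons h3lev0 <| chain_cons h3lev1 <| chain_cons h3lev2 <| chain_one h3lev3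
theorem h3sd : band (selChk h3T h3T (topN h3L)) (h3R.all fun w => eqB (List.range 15) (apL (nat_lit 4) (nat_lit 15) h3T w) fun a => a) = true := by decide +kernel
theorem h3tc : tchainChk 15 (nat_lit 4) (nat_lit 15) h3T h3L = true := by decide +kernel
noncomputable def h3W : List (List ℕ) := [[nat_lit 3, nat_lit 3, nat_lit 6, nat_lit 3, nat_lit 3, nat_lit 2],
 [nat_lit 4, nat_lit 5, nat_lit 4, nat_lit 4, nat_lit 4, nat_lit 2],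
 [nat_lit 6, nat_lit 3, nat_lit 3, nat_lit 2, nat_lit 0],
 [],
 [nat_lit 5, nat_lit 2],
 [nat_lit 6, nat_lit 2, nat_lit 1],
 [nat_lit 4, nat_lit 4, nat_lit 0],
 [nat_lit 4, nat_lit 4, nat_lit 5, nat_lit 2, nat_lit 0],
 [nat_lit 4, nat_lit 5, nat_lit 3, nat_lit 2, nat_lit 1],
 [nat_lit 4, nat_lit 4, nat_lit 5, nat_lit 4, nat_lit 4, nat_lit 2, nat_lit 1],
 [nat_lit 3, nat_lit 6, nat_lit 3, nat_lit 1, nat_lit 0],
 [nat_lit 6, nat_lit 4, nat_lit 4, nat_lit 1, nat_lit 0],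
 [nat_lit 3, nat_lit 3, nat_lit 0],
 [nat_lit 3, nat_lit 6, nat_lit 4, nat_lit 2],
 [nat_lit 3, nat_lit 3, nat_lit 6, nat_lit 2, nat_lit 1, nat_lit 0],
 [nat_lit 4, nat_lit 4, nat_lit 5, nat_lit 3, nat_lit 3, nat_lit 1],
 [nat_lit 3, nat_lit 3, nat_lit 6, nat_lit 4, nat_lit 4, nat_lit 1],
 [nat_lit 5, nat_lit 4, nat_lit 4, nat_lit 2, nat_lit 1, nat_lit 0],
 [nat_lit 3, nat_lit 6, nat_lit 4, nat_lit 4, nat_lit 4, nat_lit 2, nat_lit 1, nat_lit 0],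
 [nat_lit 5, nat_lit 3, nat_lit 3, nat_lit 1, nat_lit 0],
 [nat_lit 4, nat_lit 5, nat_lit 4, nat_lit 1, nat_lit 0],
 [nat_lit 3, nat_lit 3, nat_lit 6, nat_lit 3, nat_lit 3, nat_lit 1],
 [nat_lit 4, nat_lit 5, nat_lit 4, nat_lit 4, nat_lit 4],
 [nat_lit 6, nat_lit 3, nat_lit 3, nat_lit 2, nat_lit 1, nat_lit 0],
 [nat_lit 1],
 [nat_lit 5, nat_lit 1],
 [nat_lit 6, nat_lit 1],
 [nat_lit 4, nat_lit 4, nat_lit 2, nat_lit 0],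
 [nat_lit 4, nat_lit 4, nat_lit 5, nat_lit 2, nat_lit 1, nat_lit 0],
 [nat_lit 4, nat_lit 5, nat_lit 3],
 [nat_lit 4, nat_lit 4, nat_lit 5, nat_lit 4, nat_lit 4, nat_lit 1],
 [nat_lit 3, nat_lit 6, nat_lit 3, nat_lit 0],
 [nat_lit 6, nat_lit 4, nat_lit 4, nat_lit 2, nat_lit 0],
 [nat_lit 3, nat_lit 3, nat_lit 2, nat_lit 1, nat_lit 0],
 [nat_lit 3, nat_lit 6, nat_lit 4],
 [nat_lit 3, nat_lit 3, nat_lit 6, nat_lit 2, nat_lit 0],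
 [nat_lit 4, nat_lit 4, nat_lit 5, nat_lit 3, nat_lit 3, nat_lit 2],
 [nat_lit 3, nat_lit 3, nat_lit 6, nat_lit 4, nat_lit 4, nat_lit 2, nat_lit 1],
 [nat_lit 5, nat_lit 4, nat_lit 4, nat_lit 2, nat_lit 0],
 [nat_lit 3, nat_lit 6, nat_lit 4, nat_lit 4, nat_lit 4, nat_lit 0],
 [nat_lit 5, nat_lit 3, nat_lit 3, nat_lit 2, nat_lit 1, nat_lit 0],
 [nat_lit 4, nat_lit 5, nat_lit 4, nat_lit 0],
 [nat_lit 3, nat_lit 3, nat_lit 6, nat_lit 3, nat_lit 3, nat_lit 2, nat_lit 1],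
 [nat_lit 4, nat_lit 5, nat_lit 4, nat_lit 4, nat_lit 4, nat_lit 1],
 [nat_lit 6, nat_lit 3, nat_lit 3, nat_lit 0],
 [nat_lit 2],
 [nat_lit 5, nat_lit 2, nat_lit 1],
 [nat_lit 6],
 [nat_lit 4, nat_lit 4, nat_lit 2, nat_lit 1, nat_lit 0],
 [nat_lit 4, nat_lit 4, nat_lit 5, nat_lit 0],
 [nat_lit 4, nat_lit 5, nat_lit 3, nat_lit 2],
 [nat_lit 4, nat_lit 4, nat_lit 5, nat_lit 4, nat_lit 4],
 [nat_lit 3, nat_lit 6, nat_lit 3, nat_lit 2, nat_lit 1, nat_lit 0],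
 [nat_lit 6, nat_lit 4, nat_lit 4, nat_lit 0],
 [nat_lit 3, nat_lit 3, nat_lit 1, nat_lit 0],
 [nat_lit 3, nat_lit 6, nat_lit 4, nat_lit 1],
 [nat_lit 3, nat_lit 3, nat_lit 6, nat_lit 1, nat_lit 0],
 [nat_lit 4, nat_lit 4, nat_lit 5, nat_lit 3, nat_lit 3],
 [nat_lit 3, nat_lit 3, nat_lit 6, nat_lit 4, nat_lit 4, nat_lit 2],
 [nat_lit 5, nat_lit 4, nat_lit 4, nat_lit 1, nat_lit 0],
 [nat_lit 3, nat_lit 6, nat_lit 4, nat_lit 4, nat_lit 4, nat_lit 2, nat_lit 0],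
 [nat_lit 5, nat_lit 3, nat_lit 3, nat_lit 2, nat_lit 0],
 [nat_lit 4, nat_lit 5, nat_lit 4, nat_lit 2, nat_lit 1, nat_lit 0],
 [nat_lit 3, nat_lit 3, nat_lit 6, nat_lit 3, nat_lit 3],
 [nat_lit 4, nat_lit 5, nat_lit 4, nat_lit 4, nat_lit 4, nat_lit 2, nat_lit 1],
 [nat_lit 6, nat_lit 3, nat_lit 3, nat_lit 1, nat_lit 0],
 [nat_lit 2, nat_lit 1],
 [nat_lit 5],
 [nat_lit 6, nat_lit 2],
 [nat_lit 4, nat_lit 4, nat_lit 1, nat_lit 0],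
 [nat_lit 4, nat_lit 4, nat_lit 5, nat_lit 1, nat_lit 0],
 [nat_lit 4, nat_lit 5, nat_lit 3, nat_lit 1],
 [nat_lit 4, nat_lit 4, nat_lit 5, nat_lit 4, nat_lit 4, nat_lit 2],
 [nat_lit 3, nat_lit 6, nat_lit 3, nat_lit 2, nat_lit 0],
 [nat_lit 6, nat_lit 4, nat_lit 4, nat_lit 2, nat_lit 1, nat_lit 0],
 [nat_lit 3, nat_lit 3, nat_lit 2, nat_lit 0],
 [nat_lit 3, nat_lit 6, nat_lit 4, nat_lit 2, nat_lit 1],
 [nat_lit 3, nat_lit 3, nat_lit 6, nat_lit 0],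
 [nat_lit 4, nat_lit 4, nat_lit 5, nat_lit 3, nat_lit 3, nat_lit 2, nat_lit 1],
 [nat_lit 3, nat_lit 3, nat_lit 6, nat_lit 4, nat_lit 4],
 [nat_lit 5, nat_lit 4, nat_lit 4, nat_lit 0],
 [nat_lit 3, nat_lit 6, nat_lit 4, nat_lit 4, nat_lit 4, nat_lit 1, nat_lit 0],
 [nat_lit 5, nat_lit 3, nat_lit 3, nat_lit 0],
 [nat_lit 4, nat_lit 5, nat_lit 4, nat_lit 2, nat_lit 0],
 [nat_lit 4, nat_lit 4, nat_lit 5, nat_lit 4, nat_lit 4, nat_lit 4, nat_lit 2, nat_lit 0],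
 [nat_lit 3, nat_lit 6, nat_lit 3, nat_lit 3, nat_lit 2, nat_lit 0],
 [nat_lit 5, nat_lit 4, nat_lit 4, nat_lit 4, nat_lit 2],
 [nat_lit 3, nat_lit 6, nat_lit 4, nat_lit 4, nat_lit 1, nat_lit 0],
 [nat_lit 3, nat_lit 3, nat_lit 6, nat_lit 3, nat_lit 1, nat_lit 0],
 [nat_lit 4, nat_lit 5, nat_lit 4, nat_lit 4, nat_lit 2, nat_lit 1],
 [nat_lit 3, nat_lit 3, nat_lit 6, nat_lit 4, nat_lit 4, nat_lit 4, nat_lit 2, nat_lit 1, nat_lit 0],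
 [nat_lit 5, nat_lit 4, nat_lit 1, nat_lit 0],
 [nat_lit 6, nat_lit 3, nat_lit 1],
 [nat_lit 4, nat_lit 0],
 [nat_lit 5, nat_lit 3, nat_lit 2, nat_lit 1],
 [nat_lit 4, nat_lit 5, nat_lit 2, nat_lit 0],
 [nat_lit 4, nat_lit 4, nat_lit 5, nat_lit 4, nat_lit 1],
 [nat_lit 4, nat_lit 5, nat_lit 3, nat_lit 3, nat_lit 1],
 [nat_lit 6, nat_lit 4, nat_lit 4, nat_lit 4, nat_lit 2, nat_lit 1],
 [nat_lit 3],
 [nat_lit 3, nat_lit 6, nat_lit 2, nat_lit 1],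
 [nat_lit 6, nat_lit 4, nat_lit 2, nat_lit 0],
 [nat_lit 4, nat_lit 4, nat_lit 4],
 [nat_lit 4, nat_lit 4, nat_lit 5, nat_lit 3, nat_lit 2, nat_lit 1, nat_lit 0],
 [nat_lit 3, nat_lit 3, nat_lit 6, nat_lit 4, nat_lit 2],
 [nat_lit 4, nat_lit 4, nat_lit 5, nat_lit 4, nat_lit 4, nat_lit 4, nat_lit 2, nat_lit 1, nat_lit 0],
 [nat_lit 3, nat_lit 6, nat_lit 3, nat_lit 3, nat_lit 0],
 [nat_lit 5, nat_lit 4, nat_lit 4, nat_lit 4, nat_lit 1],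
 [nat_lit 3, nat_lit 6, nat_lit 4, nat_lit 4, nat_lit 0],
 [nat_lit 3, nat_lit 3, nat_lit 6, nat_lit 3, nat_lit 2, nat_lit 1, nat_lit 0],
 [nat_lit 4, nat_lit 5, nat_lit 4, nat_lit 4],
 [nat_lit 3, nat_lit 3, nat_lit 6, nat_lit 4, nat_lit 4, nat_lit 4, nat_lit 2, nat_lit 0],
 [nat_lit 5, nat_lit 4, nat_lit 2, nat_lit 1, nat_lit 0],
 [nat_lit 6, nat_lit 3, nat_lit 2],
 [nat_lit 4, nat_lit 2, nat_lit 1, nat_lit 0],
 [nat_lit 5, nat_lit 3, nat_lit 2],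
 [nat_lit 4, nat_lit 5, nat_lit 0],
 [nat_lit 4, nat_lit 4, nat_lit 5, nat_lit 4, nat_lit 2],
 [nat_lit 4, nat_lit 5, nat_lit 3, nat_lit 3],
 [nat_lit 6, nat_lit 4, nat_lit 4, nat_lit 4, nat_lit 1],
 [nat_lit 3, nat_lit 2],
 [nat_lit 3, nat_lit 6],
 [nat_lit 6, nat_lit 4, nat_lit 2, nat_lit 1, nat_lit 0],
 [nat_lit 4, nat_lit 4, nat_lit 4, nat_lit 1],
 [nat_lit 4, nat_lit 4, nat_lit 5, nat_lit 3, nat_lit 1, nat_lit 0],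
 [nat_lit 3, nat_lit 3, nat_lit 6, nat_lit 4, nat_lit 1],
 [nat_lit 4, nat_lit 4, nat_lit 5, nat_lit 4, nat_lit 4, nat_lit 4, nat_lit 0],
 [nat_lit 3, nat_lit 6, nat_lit 3, nat_lit 3, nat_lit 1, nat_lit 0],
 [nat_lit 5, nat_lit 4, nat_lit 4, nat_lit 4, nat_lit 2, nat_lit 1],
 [nat_lit 3, nat_lit 6, nat_lit 4, nat_lit 4, nat_lit 2, nat_lit 1, nat_lit 0],
 [nat_lit 3, nat_lit 3, nat_lit 6, nat_lit 3, nat_lit 2, nat_lit 0],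
 [nat_lit 4, nat_lit 5, nat_lit 4, nat_lit 4, nat_lit 2],
 [nat_lit 3, nat_lit 3, nat_lit 6, nat_lit 4, nat_lit 4, nat_lit 4, nat_lit 1, nat_lit 0],
 [nat_lit 5, nat_lit 4, nat_lit 2, nat_lit 0],
 [nat_lit 6, nat_lit 3],
 [nat_lit 4, nat_lit 1, nat_lit 0],
 [nat_lit 5, nat_lit 3, nat_lit 1],
 [nat_lit 4, nat_lit 5, nat_lit 1, nat_lit 0],
 [nat_lit 4, nat_lit 4, nat_lit 5, nat_lit 4],
 [nat_lit 4, nat_lit 5, nat_lit 3, nat_lit 3, nat_lit 2, nat_lit 1],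
 [nat_lit 6, nat_lit 4, nat_lit 4, nat_lit 4],
 [nat_lit 3, nat_lit 2, nat_lit 1],
 [nat_lit 3, nat_lit 6, nat_lit 2],
 [nat_lit 6, nat_lit 4, nat_lit 0],
 [nat_lit 4, nat_lit 4, nat_lit 4, nat_lit 2],
 [nat_lit 4, nat_lit 4, nat_lit 5, nat_lit 3, nat_lit 0],
 [nat_lit 3, nat_lit 3, nat_lit 6, nat_lit 4, nat_lit 2, nat_lit 1],
 [nat_lit 4, nat_lit 4, nat_lit 5, nat_lit 4, nat_lit 4, nat_lit 4, nat_lit 1, nat_lit 0],
 [nat_lit 3, nat_lit 6, nat_lit 3, nat_lit 3, nat_lit 2, nat_lit 1, nat_lit 0],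
 [nat_lit 5, nat_lit 4, nat_lit 4, nat_lit 4],
 [nat_lit 3, nat_lit 6, nat_lit 4, nat_lit 4, nat_lit 2, nat_lit 0],
 [nat_lit 3, nat_lit 3, nat_lit 6, nat_lit 3, nat_lit 0],
 [nat_lit 4, nat_lit 5, nat_lit 4, nat_lit 4, nat_lit 1],
 [nat_lit 3, nat_lit 3, nat_lit 6, nat_lit 4, nat_lit 4, nat_lit 4, nat_lit 0],
 [nat_lit 5, nat_lit 4, nat_lit 0],
 [nat_lit 6, nat_lit 3, nat_lit 2, nat_lit 1],
 [nat_lit 4, nat_lit 2, nat_lit 0],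
 [nat_lit 5, nat_lit 3],
 [nat_lit 4, nat_lit 5, nat_lit 2, nat_lit 1, nat_lit 0],
 [nat_lit 4, nat_lit 4, nat_lit 5, nat_lit 4, nat_lit 2, nat_lit 1],
 [nat_lit 4, nat_lit 5, nat_lit 3, nat_lit 3, nat_lit 2],
 [nat_lit 6, nat_lit 4, nat_lit 4, nat_lit 4, nat_lit 2],
 [nat_lit 3, nat_lit 1],
 [nat_lit 3, nat_lit 6, nat_lit 1],
 [nat_lit 6, nat_lit 4, nat_lit 1, nat_lit 0],
 [nat_lit 4, nat_lit 4, nat_lit 4, nat_lit 2, nat_lit 1],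
 [nat_lit 4, nat_lit 4, nat_lit 5, nat_lit 3, nat_lit 2, nat_lit 0],
 [nat_lit 3, nat_lit 3, nat_lit 6, nat_lit 4],
 [nat_lit 3, nat_lit 3, nat_lit 6, nat_lit 3, nat_lit 3, nat_lit 2, nat_lit 0],
 [nat_lit 4, nat_lit 5, nat_lit 4, nat_lit 4, nat_lit 4, nat_lit 2, nat_lit 0],
 [nat_lit 6, nat_lit 3, nat_lit 3, nat_lit 2],
 [nat_lit 0],
 [nat_lit 5, nat_lit 2, nat_lit 0],
 [nat_lit 6, nat_lit 2, nat_lit 1, nat_lit 0],
 [nat_lit 4, nat_lit 4],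
 [nat_lit 4, nat_lit 4, nat_lit 5, nat_lit 2],
 [nat_lit 4, nat_lit 5, nat_lit 3, nat_lit 2, nat_lit 1, nat_lit 0],
 [nat_lit 4, nat_lit 4, nat_lit 5, nat_lit 4, nat_lit 4, nat_lit 2, nat_lit 1, nat_lit 0],
 [nat_lit 3, nat_lit 6, nat_lit 3, nat_lit 1],
 [nat_lit 6, nat_lit 4, nat_lit 4, nat_lit 1],
 [nat_lit 3, nat_lit 3],
 [nat_lit 3, nat_lit 6, nat_lit 4, nat_lit 2, nat_lit 0],
 [nat_lit 3, nat_lit 3, nat_lit 6, nat_lit 2, nat_lit 1],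
 [nat_lit 4, nat_lit 4, nat_lit 5, nat_lit 3, nat_lit 3, nat_lit 1, nat_lit 0],
 [nat_lit 3, nat_lit 3, nat_lit 6, nat_lit 4, nat_lit 4, nat_lit 1, nat_lit 0],
 [nat_lit 5, nat_lit 4, nat_lit 4, nat_lit 2, nat_lit 1],
 [nat_lit 3, nat_lit 6, nat_lit 4, nat_lit 4, nat_lit 4, nat_lit 2, nat_lit 1],
 [nat_lit 5, nat_lit 3, nat_lit 3, nat_lit 1],
 [nat_lit 4, nat_lit 5, nat_lit 4, nat_lit 1],
 [nat_lit 3, nat_lit 3, nat_lit 6, nat_lit 3, nat_lit 3, nat_lit 1, nat_lit 0],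
 [nat_lit 4, nat_lit 5, nat_lit 4, nat_lit 4, nat_lit 4, nat_lit 0],
 [nat_lit 6, nat_lit 3, nat_lit 3, nat_lit 2, nat_lit 1],
 [nat_lit 1, nat_lit 0],
 [nat_lit 5, nat_lit 1, nat_lit 0],
 [nat_lit 6, nat_lit 1, nat_lit 0],
 [nat_lit 4, nat_lit 4, nat_lit 2],
 [nat_lit 4, nat_lit 4, nat_lit 5, nat_lit 2, nat_lit 1],
 [nat_lit 4, nat_lit 5, nat_lit 3, nat_lit 0],
 [nat_lit 4, nat_lit 4, nat_lit 5, nat_lit 4, nat_lit 4, nat_lit 1, nat_lit 0],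
 [nat_lit 3, nat_lit 6, nat_lit 3],
 [nat_lit 6, nat_lit 4, nat_lit 4, nat_lit 2],
 [nat_lit 3, nat_lit 3, nat_lit 2, nat_lit 1],
 [nat_lit 3, nat_lit 6, nat_lit 4, nat_lit 0],
 [nat_lit 3, nat_lit 3, nat_lit 6, nat_lit 2],
 [nat_lit 4, nat_lit 4, nat_lit 5, nat_lit 3, nat_lit 3, nat_lit 2, nat_lit 0],
 [nat_lit 3, nat_lit 3, nat_lit 6, nat_lit 4, nat_lit 4, nat_lit 2, nat_lit 1, nat_lit 0],
 [nat_lit 5, nat_lit 4, nat_lit 4, nat_lit 2],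
 [nat_lit 3, nat_lit 6, nat_lit 4, nat_lit 4, nat_lit 4],
 [nat_lit 5, nat_lit 3, nat_lit 3, nat_lit 2, nat_lit 1],
 [nat_lit 4, nat_lit 5, nat_lit 4],
 [nat_lit 3, nat_lit 3, nat_lit 6, nat_lit 3, nat_lit 3, nat_lit 2, nat_lit 1, nat_lit 0],
 [nat_lit 4, nat_lit 5, nat_lit 4, nat_lit 4, nat_lit 4, nat_lit 1, nat_lit 0],
 [nat_lit 6, nat_lit 3, nat_lit 3],
 [nat_lit 2, nat_lit 0],
 [nat_lit 5, nat_lit 2, nat_lit 1, nat_lit 0],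
 [nat_lit 6, nat_lit 0],
 [nat_lit 4, nat_lit 4, nat_lit 2, nat_lit 1],
 [nat_lit 4, nat_lit 4, nat_lit 5],
 [nat_lit 4, nat_lit 5, nat_lit 3, nat_lit 2, nat_lit 0],
 [nat_lit 4, nat_lit 4, nat_lit 5, nat_lit 4, nat_lit 4, nat_lit 0],
 [nat_lit 3, nat_lit 6, nat_lit 3, nat_lit 2, nat_lit 1],
 [nat_lit 6, nat_lit 4, nat_lit 4],
 [nat_lit 3, nat_lit 3, nat_lit 1],
 [nat_lit 3, nat_lit 6, nat_lit 4, nat_lit 1, nat_lit 0],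
 [nat_lit 3, nat_lit 3, nat_lit 6, nat_lit 1],
 [nat_lit 4, nat_lit 4, nat_lit 5, nat_lit 3, nat_lit 3, nat_lit 0],
 [nat_lit 3, nat_lit 3, nat_lit 6, nat_lit 4, nat_lit 4, nat_lit 2, nat_lit 0],
 [nat_lit 5, nat_lit 4, nat_lit 4, nat_lit 1],
 [nat_lit 3, nat_lit 6, nat_lit 4, nat_lit 4, nat_lit 4, nat_lit 2],
 [nat_lit 5, nat_lit 3, nat_lit 3, nat_lit 2],
 [nat_lit 4, nat_lit 5, nat_lit 4, nat_lit 2, nat_lit 1],
 [nat_lit 3, nat_lit 3, nat_lit 6, nat_lit 3, nat_lit 3, nat_lit 0],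
 [nat_lit 4, nat_lit 5, nat_lit 4, nat_lit 4, nat_lit 4, nat_lit 2, nat_lit 1, nat_lit 0],
 [nat_lit 6, nat_lit 3, nat_lit 3, nat_lit 1],
 [nat_lit 2, nat_lit 1, nat_lit 0],
 [nat_lit 5, nat_lit 0],
 [nat_lit 6, nat_lit 2, nat_lit 0],
 [nat_lit 4, nat_lit 4, nat_lit 1],
 [nat_lit 4, nat_lit 4, nat_lit 5, nat_lit 1],
 [nat_lit 4, nat_lit 5, nat_lit 3, nat_lit 1, nat_lit 0],
 [nat_lit 4, nat_lit 4, nat_lit 5, nat_lit 4, nat_lit 4, nat_lit 2, nat_lit 0],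
 [nat_lit 3, nat_lit 6, nat_lit 3, nat_lit 2],
 [nat_lit 6, nat_lit 4, nat_lit 4, nat_lit 2, nat_lit 1],
 [nat_lit 3, nat_lit 3, nat_lit 2],
 [nat_lit 3, nat_lit 6, nat_lit 4, nat_lit 2, nat_lit 1, nat_lit 0],
 [nat_lit 3, nat_lit 3, nat_lit 6],
 [nat_lit 4, nat_lit 4, nat_lit 5, nat_lit 3, nat_lit 3, nat_lit 2, nat_lit 1, nat_lit 0],
 [nat_lit 3, nat_lit 3, nat_lit 6, nat_lit 4, nat_lit 4, nat_lit 0],
 [nat_lit 5, nat_lit 4, nat_lit 4],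
 [nat_lit 3, nat_lit 6, nat_lit 4, nat_lit 4, nat_lit 4, nat_lit 1],
 [nat_lit 5, nat_lit 3, nat_lit 3],
 [nat_lit 4, nat_lit 5, nat_lit 4, nat_lit 2],
 [nat_lit 4, nat_lit 4, nat_lit 5, nat_lit 4, nat_lit 4, nat_lit 4, nat_lit 2],
 [nat_lit 3, nat_lit 6, nat_lit 3, nat_lit 3, nat_lit 2],
 [nat_lit 5, nat_lit 4, nat_lit 4, nat_lit 4, nat_lit 2, nat_lit 0],
 [nat_lit 3, nat_lit 6, nat_lit 4, nat_lit 4, nat_lit 1],
 [nat_lit 3, nat_lit 3, nat_lit 6, nat_lit 3, nat_lit 1],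
 [nat_lit 4, nat_lit 5, nat_lit 4, nat_lit 4, nat_lit 2, nat_lit 1, nat_lit 0],
 [nat_lit 3, nat_lit 3, nat_lit 6, nat_lit 4, nat_lit 4, nat_lit 4, nat_lit 2, nat_lit 1],
 [nat_lit 5, nat_lit 4, nat_lit 1],
 [nat_lit 6, nat_lit 3, nat_lit 1, nat_lit 0],
 [nat_lit 4],
 [nat_lit 5, nat_lit 3, nat_lit 2, nat_lit 1, nat_lit 0],
 [nat_lit 4, nat_lit 5, nat_lit 2],
 [nat_lit 4, nat_lit 4, nat_lit 5, nat_lit 4, nat_lit 1, nat_lit 0],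
 [nat_lit 4, nat_lit 5, nat_lit 3, nat_lit 3, nat_lit 1, nat_lit 0],
 [nat_lit 6, nat_lit 4, nat_lit 4, nat_lit 4, nat_lit 2, nat_lit 1, nat_lit 0],
 [nat_lit 3, nat_lit 0],
 [nat_lit 3, nat_lit 6, nat_lit 2, nat_lit 1, nat_lit 0],
 [nat_lit 6, nat_lit 4, nat_lit 2],
 [nat_lit 4, nat_lit 4, nat_lit 4, nat_lit 0],
 [nat_lit 4, nat_lit 4, nat_lit 5, nat_lit 3, nat_lit 2, nat_lit 1],
 [nat_lit 3, nat_lit 3, nat_lit 6, nat_lit 4, nat_lit 2, nat_lit 0],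
 [nat_lit 4, nat_lit 4, nat_lit 5, nat_lit 4, nat_lit 4, nat_lit 4, nat_lit 2, nat_lit 1],
 [nat_lit 3, nat_lit 6, nat_lit 3, nat_lit 3],
 [nat_lit 5, nat_lit 4, nat_lit 4, nat_lit 4, nat_lit 1, nat_lit 0],
 [nat_lit 3, nat_lit 6, nat_lit 4, nat_lit 4],
 [nat_lit 3, nat_lit 3, nat_lit 6, nat_lit 3, nat_lit 2, nat_lit 1],
 [nat_lit 4, nat_lit 5, nat_lit 4, nat_lit 4, nat_lit 0],
 [nat_lit 3, nat_lit 3, nat_lit 6, nat_lit 4, nat_lit 4, nat_lit 4, nat_lit 2],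
 [nat_lit 5, nat_lit 4, nat_lit 2, nat_lit 1],
 [nat_lit 6, nat_lit 3, nat_lit 2, nat_lit 0],
 [nat_lit 4, nat_lit 2, nat_lit 1],
 [nat_lit 5, nat_lit 3, nat_lit 2, nat_lit 0],
 [nat_lit 4, nat_lit 5],
 [nat_lit 4, nat_lit 4, nat_lit 5, nat_lit 4, nat_lit 2, nat_lit 0],
 [nat_lit 4, nat_lit 5, nat_lit 3, nat_lit 3, nat_lit 0],
 [nat_lit 6, nat_lit 4, nat_lit 4, nat_lit 4, nat_lit 1, nat_lit 0],
 [nat_lit 3, nat_lit 2, nat_lit 0],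
 [nat_lit 3, nat_lit 6, nat_lit 0],
 [nat_lit 6, nat_lit 4, nat_lit 2, nat_lit 1],
 [nat_lit 4, nat_lit 4, nat_lit 4, nat_lit 1, nat_lit 0],
 [nat_lit 4, nat_lit 4, nat_lit 5, nat_lit 3, nat_lit 1],
 [nat_lit 3, nat_lit 3, nat_lit 6, nat_lit 4, nat_lit 1, nat_lit 0],
 [nat_lit 4, nat_lit 4, nat_lit 5, nat_lit 4, nat_lit 4, nat_lit 4],
 [nat_lit 3, nat_lit 6, nat_lit 3, nat_lit 3, nat_lit 1],
 [nat_lit 5, nat_lit 4, nat_lit 4, nat_lit 4, nat_lit 2, nat_lit 1, nat_lit 0],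
 [nat_lit 3, nat_lit 6, nat_lit 4, nat_lit 4, nat_lit 2, nat_lit 1],
 [nat_lit 3, nat_lit 3, nat_lit 6, nat_lit 3, nat_lit 2],
 [nat_lit 4, nat_lit 5, nat_lit 4, nat_lit 4, nat_lit 2, nat_lit 0],
 [nat_lit 3, nat_lit 3, nat_lit 6, nat_lit 4, nat_lit 4, nat_lit 4, nat_lit 1],
 [nat_lit 5, nat_lit 4, nat_lit 2],
 [nat_lit 6, nat_lit 3, nat_lit 0],
 [nat_lit 4, nat_lit 1],
 [nat_lit 5, nat_lit 3, nat_lit 1, nat_lit 0],
 [nat_lit 4, nat_lit 5, nat_lit 1],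
 [nat_lit 4, nat_lit 4, nat_lit 5, nat_lit 4, nat_lit 0],
 [nat_lit 4, nat_lit 5, nat_lit 3, nat_lit 3, nat_lit 2, nat_lit 1, nat_lit 0],
 [nat_lit 6, nat_lit 4, nat_lit 4, nat_lit 4, nat_lit 0],
 [nat_lit 3, nat_lit 2, nat_lit 1, nat_lit 0],
 [nat_lit 3, nat_lit 6, nat_lit 2, nat_lit 0],
 [nat_lit 6, nat_lit 4],
 [nat_lit 4, nat_lit 4, nat_lit 4, nat_lit 2, nat_lit 0],
 [nat_lit 4, nat_lit 4, nat_lit 5, nat_lit 3],
 [nat_lit 3, nat_lit 3, nat_lit 6, nat_lit 4, nat_lit 2, nat_lit 1, nat_lit 0],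
 [nat_lit 4, nat_lit 4, nat_lit 5, nat_lit 4, nat_lit 4, nat_lit 4, nat_lit 1],
 [nat_lit 3, nat_lit 6, nat_lit 3, nat_lit 3, nat_lit 2, nat_lit 1],
 [nat_lit 5, nat_lit 4, nat_lit 4, nat_lit 4, nat_lit 0],
 [nat_lit 3, nat_lit 6, nat_lit 4, nat_lit 4, nat_lit 2],
 [nat_lit 3, nat_lit 3, nat_lit 6, nat_lit 3],
 [nat_lit 4, nat_lit 5, nat_lit 4, nat_lit 4, nat_lit 1, nat_lit 0],
 [nat_lit 3, nat_lit 3, nat_lit 6, nat_lit 4, nat_lit 4, nat_lit 4],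
 [nat_lit 5, nat_lit 4],
 [nat_lit 6, nat_lit 3, nat_lit 2, nat_lit 1, nat_lit 0],
 [nat_lit 4, nat_lit 2],
 [nat_lit 5, nat_lit 3, nat_lit 0],
 [nat_lit 4, nat_lit 5, nat_lit 2, nat_lit 1],
 [nat_lit 4, nat_lit 4, nat_lit 5, nat_lit 4, nat_lit 2, nat_lit 1, nat_lit 0],
 [nat_lit 4, nat_lit 5, nat_lit 3, nat_lit 3, nat_lit 2, nat_lit 0],
 [nat_lit 6, nat_lit 4, nat_lit 4, nat_lit 4, nat_lit 2, nat_lit 0],
 [nat_lit 3, nat_lit 1, nat_lit 0],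
 [nat_lit 3, nat_lit 6, nat_lit 1, nat_lit 0],
 [nat_lit 6, nat_lit 4, nat_lit 1],
 [nat_lit 4, nat_lit 4, nat_lit 4, nat_lit 2, nat_lit 1, nat_lit 0],
 [nat_lit 4, nat_lit 4, nat_lit 5, nat_lit 3, nat_lit 2],
 [nat_lit 3, nat_lit 3, nat_lit 6, nat_lit 4, nat_lit 0]]
theorem h3Wc : band (incr (fun w => keyB 15 (h3L.map Lev.b) (apL (nat_lit 4) (nat_lit 15) h3T w)) h3W 0) (Nat.ble (chainOrd 15 h3L) h3W.length) = true := by decide +kernel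
def h3O : List ℕ := [3, 3, 7, 1, 3, 3, 3, 7, 3, 3, 7, 3, 3, 3, 7, 3, 3, 7, 3, 3, 7, 3, 3, 14, 2, 3, 3, 3, 14, 3, 3, 14, 3, 3, 3, 14, 3, 3, 14, 3,
3, 14, 3, 3, 14, 2, 3, 3, 3, 14, 3, 3, 14, 3, 3, 3, 14, 3, 3, 14, 3, 3, 14, 3, 3, 14, 2, 3, 3, 3, 14, 3, 3, 14, 3, 3, 3, 14, 3, 3,
14, 3, 3, 14, 4, 12, 12, 4, 12, 12, 4, 12, 12, 12, 4, 12, 12, 4, 12, 12, 12, 4, 4, 12, 12, 4, 12, 12, 4, 12, 12, 4, 12, 12, 12, 4, 12, 12, 4, 12,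
12, 12, 4, 4, 12, 12, 4, 12, 12, 4, 12, 12, 4, 12, 12, 12, 4, 12, 12, 4, 12, 12, 12, 4, 4, 12, 12, 4, 12, 12, 4, 12, 12, 4, 12, 12, 12, 4, 12, 12,
4, 12, 12, 12, 4, 4, 12, 12, 6, 6, 14, 2, 6, 6, 6, 14, 6, 6, 14, 6, 6, 6, 14, 6, 6, 14, 6, 6, 14, 6, 6, 14, 2, 6, 6, 6, 14, 6, 6, 14,
6, 6, 6, 14, 6, 6, 14, 6, 6, 14, 6, 6, 14, 2, 6, 6, 6, 14, 6, 6, 14, 6, 6, 6, 14, 6, 6, 14, 6, 6, 14, 6, 6, 14, 2, 6, 6, 6, 14, 6,
6, 14, 6, 6, 6, 14, 6, 6, 14, 6, 6, 14, 4, 12, 12, 4, 12, 12, 4, 12, 12, 12, 4, 12, 12, 4, 12, 12, 12, 4, 4, 12, 12, 4, 12, 12, 4, 12, 12, 4,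
12, 12, 12, 4, 12, 12, 4, 12, 12, 12, 4, 4, 12, 12, 4, 12, 12, 4, 12, 12, 4, 12, 12, 12, 4, 12, 12, 4, 12, 12, 12, 4, 4, 12, 12, 4, 12, 12, 4, 12,
12, 4, 12, 12, 12, 4, 12, 12, 4, 12, 12, 12, 4, 4, 12, 12]
theorem h3o : h3W.map (fun w => ordF (h3L.map Lev.b) 40 (apL (nat_lit 4) (nat_lit 15) h3T w)) = h3O := by decide +kernel
theorem h3x : ∃ N : Subgroup (Equiv.Perm (Fin 15)), OrdL N h3O ∧ True :=
  let ⟨N, C, _⟩ := exists_pg h3s h3chain h3sd h3tc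
  ⟨N, C.ordL h3Wc h3o (by decide +kernel), trivial⟩
noncomputable def h4t0 : ℕ := (nat_lit 0xad6f08)
noncomputable def h4t1 : ℕ := (nat_lit 0x73ad48)
noncomputable def h4t2 : ℕ := (nat_lit 0xdea318)
noncomputable def h4t3 : ℕ := (nat_lit 0x8b9af)
noncomputable def h4T : Tr ℕ := (.node (nat_lit 2) (.node (nat_lit 1) (.leaf h4t0) (.leaf h4t1)) (.node (nat_lit 3) (.leaf h4t2) (.leaf h4t3)))
noncomputable def h4R : Tr (List ℕ) := (.node (nat_lit 4) (.node (nat_lit 2) (.node (nat_lit 1) (.leaf [nat_lit 2, nat_lit 0, nat_lit 2, nat_lit 0, nat_lit 2, nat_lit 0]) (.leaf [nat_lit 0, nat_lit 0, nat_lit 0, nat_lit 0, nat_lit 0, nat_lit 0])) (.node (nat_lit 3) (.leaf [nat_lit 0, nat_lit 1]) (.leaf [nat_lit 3, nat_lit 0, nat_lit 0, nat_lit 2, nat_lit 3, nat_lit 0, nat_lit 0, nat_lit 2])))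
 (.node (nat_lit 6) (.node (nat_lit 5) (.leaf [nat_lit 0, nat_lit 2, nat_lit 1, nat_lit 3, nat_lit 0, nat_lit 3, nat_lit 1, nat_lit 2, nat_lit 3]) (.leaf [nat_lit 2, nat_lit 2])) (.node (nat_lit 7) (.leaf [nat_lit 0, nat_lit 0, nat_lit 0, nat_lit 2, nat_lit 1, nat_lit 1, nat_lit 2, nat_lit 0, nat_lit 0, nat_lit 2]) (.node (nat_lit 8) (.leaf [nat_lit 3, nat_lit 3]) (.leaf [nat_lit 3, nat_lit 0, nat_lit 0, nat_lit 3, nat_lit 0, nat_lit 0, nat_lit 3, nat_lit 0, nat_lit 0])))))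
noncomputable def h4L0 : Lev := ⟨(nat_lit 0), (nat_lit 4), (nat_lit 0x403020401020300), (nat_lit 0x102020302030300),
 (.node (nat_lit 2) (.node (nat_lit 1) (.leaf (nat_lit 0x10002000100030000000400030000))
 (.leaf (nat_lit 0x10002000000050003000000040000)))
 (.node (nat_lit 3) (.leaf (nat_lit 0x10000000400060001000500000000))
 (.leaf (nat_lit 0x4000600000001000300050001)))),
 (.node (nat_lit 2) (.node (nat_lit 1) (.leaf (nat_lit 0x200000302000200000200000000000105000005000000))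
 (.leaf (nat_lit 0x201000406000000000201000201000000000201000000)))
 (.node (nat_lit 3) (.leaf (nat_lit 0x500000000000606000500000500000000000000000000))
 (.leaf (nat_lit 0x700000700000000000701000803000304000701))))⟩
noncomputable def h4L1 : Lev := ⟨(nat_lit 1), (nat_lit 3), (nat_lit 0x201020103010000), (nat_lit 0x202030301040000),
 (.node (nat_lit 1) (.leaf (nat_lit 0x10000000200000001000000000000))
 (.node (nat_lit 2) (.leaf (nat_lit 0x1000000010001000300000000))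
 (.leaf (nat_lit 0x20003000200050000000400010000)))),
 (.node (nat_lit 1) (.leaf (nat_lit 0x200000000000100000000000200000000000000000000))
 (.node (nat_lit 2) (.leaf (nat_lit 0x201000000000201000201000201000000000000))
 (.leaf (nat_lit 0x2000501000606000500000000000000000501000000))))⟩
noncomputable def h4L2 : Lev := ⟨(nat_lit 2), (nat_lit 2), (nat_lit 0x102010201000000), (nat_lit 0x202010103000000),
 (.node (nat_lit 1) (.leaf (nat_lit 0x2000000010000000100000000))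
 (.leaf (nat_lit 0x10000000100000003000100000000))),
 (.node (nat_lit 1) (.leaf (nat_lit 0x103000000000200000000000200000000000000))
 (.leaf (nat_lit 0x201000000000201000000000201000201000000000000)))⟩
noncomputable def h4L : List Lev := [h4L0, h4L1, h4L2]
theorem h4s : h4T.all (fun c => surjF 8 (ap (nat_lit 3) (nat_lit 7) c)) = true := by decide +kernel
theorem h4lev0 : levChk 8 (nat_lit 3) (nat_lit 7) h4T h4R h4L0 h4L1.N = true := by decide +kernel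
theorem h4lev1 : levChk 8 (nat_lit 3) (nat_lit 7) h4T h4R h4L1 h4L2.N = true := by decide +kernel
theorem h4lev2 : levChk 8 (nat_lit 3) (nat_lit 7) h4T h4R h4L2 0 = true := by decide +kernel
theorem h4chain : Chain 8 (nat_lit 3) (nat_lit 7) h4T h4R h4L := chain_cons h4lev0 <| chain_cons h4lev1 <| chain_one h4lev2
theorem h4sd : band (selChk h4T h4T (topN h4L)) (h4R.all fun w => eqB (List.range 8) (apL (nat_lit 3) (nat_lit 7) h4T w) fun a => a) = true := by decide +kernel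
theorem h4tc : tchainChk 8 (nat_lit 3) (nat_lit 7) h4T h4L = true := by decide +kernel
noncomputable def h4W : List (List ℕ) := [[nat_lit 0, nat_lit 0, nat_lit 3, nat_lit 0, nat_lit 0, nat_lit 2, nat_lit 1, nat_lit 1],
 [nat_lit 1, nat_lit 3, nat_lit 0, nat_lit 0, nat_lit 2, nat_lit 1, nat_lit 1],
 [nat_lit 3, nat_lit 1, nat_lit 3, nat_lit 1, nat_lit 2, nat_lit 1, nat_lit 1, nat_lit 1],
 [nat_lit 0, nat_lit 3, nat_lit 0, nat_lit 0, nat_lit 2, nat_lit 1, nat_lit 1],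
 [nat_lit 2, nat_lit 3, nat_lit 1, nat_lit 1, nat_lit 2, nat_lit 0],
 [nat_lit 3, nat_lit 0, nat_lit 0, nat_lit 2, nat_lit 1, nat_lit 1],
 [nat_lit 2, nat_lit 1, nat_lit 3, nat_lit 1, nat_lit 1, nat_lit 1, nat_lit 2],
 [nat_lit 1, nat_lit 3, nat_lit 2, nat_lit 0, nat_lit 0],
 [nat_lit 3, nat_lit 1, nat_lit 3, nat_lit 1, nat_lit 1, nat_lit 2, nat_lit 1, nat_lit 1, nat_lit 1],
 [nat_lit 0, nat_lit 3, nat_lit 1, nat_lit 1],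
 [nat_lit 2, nat_lit 3, nat_lit 2, nat_lit 0, nat_lit 0],
 [nat_lit 3, nat_lit 1, nat_lit 2, nat_lit 1],
 [nat_lit 2, nat_lit 1, nat_lit 3, nat_lit 0, nat_lit 0, nat_lit 2, nat_lit 1, nat_lit 1],
 [nat_lit 0, nat_lit 0, nat_lit 3, nat_lit 2, nat_lit 0, nat_lit 0],
 [nat_lit 3, nat_lit 1, nat_lit 3, nat_lit 1, nat_lit 1, nat_lit 1, nat_lit 2, nat_lit 1, nat_lit 1, nat_lit 1],
 [nat_lit 0, nat_lit 3, nat_lit 1, nat_lit 1, nat_lit 1, nat_lit 2],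
 [nat_lit 2, nat_lit 3, nat_lit 0, nat_lit 0, nat_lit 2, nat_lit 1, nat_lit 1],
 [nat_lit 3, nat_lit 1, nat_lit 1, nat_lit 2, nat_lit 0],
 [nat_lit 2, nat_lit 1, nat_lit 3, nat_lit 2, nat_lit 0, nat_lit 0],
 [nat_lit 0, nat_lit 0, nat_lit 3, nat_lit 1, nat_lit 1],
 [nat_lit 1, nat_lit 3, nat_lit 1, nat_lit 1, nat_lit 1, nat_lit 2],
 [nat_lit 0, nat_lit 3, nat_lit 1, nat_lit 2, nat_lit 1],
 [nat_lit 2, nat_lit 3, nat_lit 1, nat_lit 2, nat_lit 1],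
 [nat_lit 3, nat_lit 2, nat_lit 0, nat_lit 0],
 [nat_lit 2, nat_lit 1, nat_lit 3, nat_lit 1, nat_lit 2, nat_lit 1],
 [nat_lit 0, nat_lit 0, nat_lit 3, nat_lit 1, nat_lit 1, nat_lit 2, nat_lit 0],
 [nat_lit 1, nat_lit 3, nat_lit 1, nat_lit 2, nat_lit 1],
 [nat_lit 3, nat_lit 1, nat_lit 3, nat_lit 0, nat_lit 0, nat_lit 2, nat_lit 1, nat_lit 1, nat_lit 1],
 [nat_lit 2, nat_lit 3, nat_lit 1, nat_lit 1],
 [nat_lit 3, nat_lit 1, nat_lit 1],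
 [nat_lit 2, nat_lit 1, nat_lit 3, nat_lit 1, nat_lit 1],
 [nat_lit 0, nat_lit 0, nat_lit 3, nat_lit 1, nat_lit 2, nat_lit 1],
 [nat_lit 1, nat_lit 3, nat_lit 1, nat_lit 1, nat_lit 2, nat_lit 0],
 [nat_lit 3, nat_lit 1, nat_lit 3, nat_lit 2, nat_lit 1, nat_lit 1, nat_lit 1],
 [nat_lit 0, nat_lit 3, nat_lit 2, nat_lit 0, nat_lit 0],
 [nat_lit 3, nat_lit 1, nat_lit 1, nat_lit 1, nat_lit 2],
 [nat_lit 2, nat_lit 1, nat_lit 3, nat_lit 1, nat_lit 1, nat_lit 2, nat_lit 0],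
 [nat_lit 0, nat_lit 0, nat_lit 3, nat_lit 1, nat_lit 1, nat_lit 1, nat_lit 2],
 [nat_lit 1, nat_lit 3, nat_lit 1, nat_lit 1],
 [nat_lit 3, nat_lit 1, nat_lit 3, nat_lit 0, nat_lit 2, nat_lit 1, nat_lit 1, nat_lit 1],
 [nat_lit 0, nat_lit 3, nat_lit 1, nat_lit 1, nat_lit 2, nat_lit 0],
 [nat_lit 2, nat_lit 3, nat_lit 1, nat_lit 1, nat_lit 1, nat_lit 2],
 [nat_lit 0, nat_lit 0, nat_lit 3, nat_lit 0, nat_lit 2, nat_lit 0, nat_lit 0],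
 [nat_lit 1, nat_lit 3, nat_lit 0, nat_lit 2, nat_lit 0, nat_lit 0],
 [nat_lit 3, nat_lit 1, nat_lit 3, nat_lit 0, nat_lit 0],
 [nat_lit 0, nat_lit 3, nat_lit 0, nat_lit 2, nat_lit 0, nat_lit 0],
 [nat_lit 2, nat_lit 3, nat_lit 0, nat_lit 2, nat_lit 0],
 [nat_lit 3, nat_lit 0, nat_lit 2, nat_lit 0, nat_lit 0],
 [nat_lit 1, nat_lit 1, nat_lit 1, nat_lit 2, nat_lit 1, nat_lit 1, nat_lit 1],
 [nat_lit 1, nat_lit 3, nat_lit 2, nat_lit 1],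
 [nat_lit 3, nat_lit 1, nat_lit 3, nat_lit 1, nat_lit 1, nat_lit 2, nat_lit 0, nat_lit 0],
 [nat_lit 0, nat_lit 3, nat_lit 1],
 [nat_lit 2, nat_lit 3, nat_lit 2],
 [nat_lit 3, nat_lit 1, nat_lit 2, nat_lit 0],
 [nat_lit 2, nat_lit 1, nat_lit 1, nat_lit 1],
 [nat_lit 0, nat_lit 0, nat_lit 3, nat_lit 2, nat_lit 1],
 [nat_lit 3, nat_lit 1, nat_lit 3, nat_lit 1, nat_lit 1, nat_lit 1, nat_lit 2, nat_lit 1],
 [nat_lit 0, nat_lit 3, nat_lit 1, nat_lit 1, nat_lit 1, nat_lit 2, nat_lit 1, nat_lit 1],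
 [nat_lit 2, nat_lit 3, nat_lit 0, nat_lit 0, nat_lit 2, nat_lit 1],
 [nat_lit 3, nat_lit 1, nat_lit 1, nat_lit 2],
 [nat_lit 1, nat_lit 1, nat_lit 2, nat_lit 1, nat_lit 1, nat_lit 1],
 [nat_lit 0, nat_lit 0, nat_lit 3, nat_lit 1],
 [nat_lit 1, nat_lit 3, nat_lit 1, nat_lit 1, nat_lit 1, nat_lit 2, nat_lit 1, nat_lit 1],
 [nat_lit 0, nat_lit 3, nat_lit 1, nat_lit 2, nat_lit 0],
 [nat_lit 2, nat_lit 3, nat_lit 1, nat_lit 2, nat_lit 1, nat_lit 1],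
 [nat_lit 3, nat_lit 2, nat_lit 1],
 [nat_lit 0, nat_lit 0, nat_lit 2, nat_lit 1, nat_lit 1, nat_lit 1],
 [nat_lit 0, nat_lit 0, nat_lit 3, nat_lit 1, nat_lit 1, nat_lit 2],
 [nat_lit 1, nat_lit 3, nat_lit 1, nat_lit 2, nat_lit 0],
 [nat_lit 3, nat_lit 1, nat_lit 3, nat_lit 0, nat_lit 0, nat_lit 2, nat_lit 0],
 [nat_lit 2, nat_lit 3, nat_lit 0],
 [nat_lit 3, nat_lit 1],
 [nat_lit 1, nat_lit 2, nat_lit 1, nat_lit 1, nat_lit 1],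
 [nat_lit 0, nat_lit 0, nat_lit 3, nat_lit 1, nat_lit 2, nat_lit 0],
 [nat_lit 1, nat_lit 3, nat_lit 1, nat_lit 1, nat_lit 2],
 [nat_lit 3, nat_lit 1, nat_lit 3, nat_lit 2, nat_lit 1, nat_lit 1],
 [nat_lit 0, nat_lit 3, nat_lit 2, nat_lit 1],
 [nat_lit 3, nat_lit 1, nat_lit 1, nat_lit 1, nat_lit 2, nat_lit 1, nat_lit 1],
 [nat_lit 0, nat_lit 2, nat_lit 1, nat_lit 1, nat_lit 1],
 [nat_lit 0, nat_lit 0, nat_lit 3, nat_lit 1, nat_lit 1, nat_lit 1, nat_lit 2, nat_lit 1, nat_lit 1],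
 [nat_lit 1, nat_lit 3, nat_lit 1],
 [nat_lit 3, nat_lit 1, nat_lit 3, nat_lit 0, nat_lit 2],
 [nat_lit 0, nat_lit 3, nat_lit 1, nat_lit 1, nat_lit 2],
 [nat_lit 2, nat_lit 3, nat_lit 1, nat_lit 1, nat_lit 1, nat_lit 2, nat_lit 0, nat_lit 0],
 [nat_lit 2, nat_lit 1, nat_lit 3, nat_lit 0, nat_lit 2, nat_lit 1],
 [nat_lit 1, nat_lit 3, nat_lit 0, nat_lit 2, nat_lit 1, nat_lit 1],
 [nat_lit 3, nat_lit 1, nat_lit 3, nat_lit 0],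
 [nat_lit 0, nat_lit 3, nat_lit 0, nat_lit 2, nat_lit 1, nat_lit 1, nat_lit 1],
 [nat_lit 2, nat_lit 3, nat_lit 0, nat_lit 2, nat_lit 1, nat_lit 1],
 [nat_lit 3, nat_lit 0, nat_lit 2],
 [],
 [nat_lit 1, nat_lit 3, nat_lit 0, nat_lit 0, nat_lit 2],
 [nat_lit 3, nat_lit 1, nat_lit 3, nat_lit 1, nat_lit 2, nat_lit 1, nat_lit 1],
 [nat_lit 0, nat_lit 3, nat_lit 0, nat_lit 0, nat_lit 2, nat_lit 1, nat_lit 1, nat_lit 1],
 [nat_lit 2, nat_lit 3, nat_lit 1, nat_lit 1, nat_lit 2, nat_lit 1],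
 [nat_lit 3, nat_lit 0, nat_lit 0, nat_lit 2, nat_lit 0],
 [nat_lit 2, nat_lit 0],
 [nat_lit 2, nat_lit 1, nat_lit 3, nat_lit 0, nat_lit 0, nat_lit 2, nat_lit 0, nat_lit 0],
 [nat_lit 3, nat_lit 1, nat_lit 3, nat_lit 1, nat_lit 1, nat_lit 1, nat_lit 2, nat_lit 0, nat_lit 0],
 [nat_lit 0, nat_lit 3, nat_lit 1, nat_lit 1, nat_lit 1, nat_lit 2, nat_lit 1, nat_lit 1, nat_lit 1],
 [nat_lit 2, nat_lit 3, nat_lit 0, nat_lit 0, nat_lit 2],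
 [nat_lit 3, nat_lit 1, nat_lit 1, nat_lit 2, nat_lit 0, nat_lit 0],
 [nat_lit 1, nat_lit 1, nat_lit 2, nat_lit 1, nat_lit 1],
 [nat_lit 2, nat_lit 1, nat_lit 3, nat_lit 2, nat_lit 0],
 [nat_lit 1, nat_lit 3, nat_lit 1, nat_lit 1, nat_lit 1, nat_lit 2, nat_lit 0],
 [nat_lit 0, nat_lit 3, nat_lit 1, nat_lit 2, nat_lit 1, nat_lit 1, nat_lit 1],
 [nat_lit 2, nat_lit 3, nat_lit 1, nat_lit 2, nat_lit 0, nat_lit 0],
 [nat_lit 3, nat_lit 2, nat_lit 1, nat_lit 1],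
 [nat_lit 0, nat_lit 0, nat_lit 2, nat_lit 0, nat_lit 0],
 [nat_lit 2, nat_lit 1, nat_lit 3, nat_lit 1, nat_lit 2],
 [nat_lit 1, nat_lit 3, nat_lit 1, nat_lit 2, nat_lit 0, nat_lit 0],
 [nat_lit 3, nat_lit 1, nat_lit 3, nat_lit 0, nat_lit 0, nat_lit 2, nat_lit 1],
 [nat_lit 2, nat_lit 3, nat_lit 1, nat_lit 1, nat_lit 1],
 [nat_lit 3, nat_lit 0, nat_lit 0],
 [nat_lit 1, nat_lit 2],
 [nat_lit 2, nat_lit 1, nat_lit 3],
 [nat_lit 1, nat_lit 3, nat_lit 1, nat_lit 1, nat_lit 2, nat_lit 1],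
 [nat_lit 3, nat_lit 1, nat_lit 3, nat_lit 2],
 [nat_lit 0, nat_lit 3, nat_lit 2, nat_lit 1, nat_lit 1, nat_lit 1],
 [nat_lit 3, nat_lit 1, nat_lit 1, nat_lit 1, nat_lit 2, nat_lit 1],
 [nat_lit 0, nat_lit 2, nat_lit 1],
 [nat_lit 2, nat_lit 1, nat_lit 3, nat_lit 1, nat_lit 1, nat_lit 2, nat_lit 1, nat_lit 1],
 [nat_lit 1, nat_lit 3, nat_lit 1, nat_lit 1, nat_lit 1],
 [nat_lit 3, nat_lit 1, nat_lit 3, nat_lit 0, nat_lit 2, nat_lit 0],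
 [nat_lit 0, nat_lit 3, nat_lit 1, nat_lit 1, nat_lit 2, nat_lit 1, nat_lit 1, nat_lit 1],
 [nat_lit 2, nat_lit 3, nat_lit 1, nat_lit 1, nat_lit 1, nat_lit 2, nat_lit 0],
 [nat_lit 2, nat_lit 1, nat_lit 3, nat_lit 0, nat_lit 2, nat_lit 0, nat_lit 0],
 [nat_lit 0, nat_lit 0, nat_lit 3, nat_lit 0, nat_lit 2, nat_lit 1, nat_lit 1],
 [nat_lit 3, nat_lit 1, nat_lit 3],
 [nat_lit 0, nat_lit 3, nat_lit 0, nat_lit 2, nat_lit 1],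
 [nat_lit 2, nat_lit 3, nat_lit 0, nat_lit 2, nat_lit 0, nat_lit 0],
 [nat_lit 3, nat_lit 0, nat_lit 2, nat_lit 0],
 [nat_lit 1, nat_lit 1, nat_lit 1],
 [nat_lit 0, nat_lit 0, nat_lit 3, nat_lit 0, nat_lit 0, nat_lit 2],
 [nat_lit 3, nat_lit 1, nat_lit 3, nat_lit 1, nat_lit 2],
 [nat_lit 0, nat_lit 3, nat_lit 0, nat_lit 0, nat_lit 2, nat_lit 0, nat_lit 0],
 [nat_lit 2, nat_lit 3, nat_lit 1, nat_lit 1, nat_lit 2],
 [nat_lit 3, nat_lit 0, nat_lit 0, nat_lit 2, nat_lit 1],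
 [nat_lit 1, nat_lit 1, nat_lit 1, nat_lit 2, nat_lit 0],
 [nat_lit 2, nat_lit 1, nat_lit 3, nat_lit 1, nat_lit 1, nat_lit 1, nat_lit 2, nat_lit 1, nat_lit 1],
 [nat_lit 3, nat_lit 1, nat_lit 3, nat_lit 1, nat_lit 1, nat_lit 2, nat_lit 1, nat_lit 1],
 [nat_lit 0, nat_lit 3],
 [nat_lit 2, nat_lit 3, nat_lit 2, nat_lit 1],
 [nat_lit 3, nat_lit 1, nat_lit 2, nat_lit 1, nat_lit 1],
 [nat_lit 1, nat_lit 1, nat_lit 2, nat_lit 1],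
 [nat_lit 2, nat_lit 1, nat_lit 3, nat_lit 2, nat_lit 1],
 [nat_lit 0, nat_lit 0, nat_lit 3, nat_lit 1, nat_lit 1, nat_lit 1],
 [nat_lit 0, nat_lit 3, nat_lit 1, nat_lit 2],
 [nat_lit 2, nat_lit 3, nat_lit 1, nat_lit 2, nat_lit 0],
 [nat_lit 3, nat_lit 2],
 [nat_lit 0, nat_lit 0, nat_lit 2],
 [nat_lit 2, nat_lit 1, nat_lit 3, nat_lit 1, nat_lit 2, nat_lit 0],
 [nat_lit 0, nat_lit 0, nat_lit 3, nat_lit 1, nat_lit 1, nat_lit 2, nat_lit 1],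
 [nat_lit 3, nat_lit 1, nat_lit 3, nat_lit 0, nat_lit 0, nat_lit 2, nat_lit 0, nat_lit 0],
 [nat_lit 2, nat_lit 3, nat_lit 1],
 [nat_lit 3, nat_lit 0],
 [nat_lit 1, nat_lit 2, nat_lit 0, nat_lit 0],
 [nat_lit 2, nat_lit 1, nat_lit 3, nat_lit 1],
 [nat_lit 0, nat_lit 0, nat_lit 3, nat_lit 1, nat_lit 2, nat_lit 0, nat_lit 0],
 [nat_lit 3, nat_lit 1, nat_lit 3, nat_lit 2, nat_lit 0],
 [nat_lit 0, nat_lit 3, nat_lit 2, nat_lit 0],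
 [nat_lit 3, nat_lit 1, nat_lit 1, nat_lit 1, nat_lit 2, nat_lit 0, nat_lit 0],
 [nat_lit 0, nat_lit 2, nat_lit 1, nat_lit 1],
 [nat_lit 2, nat_lit 1, nat_lit 3, nat_lit 1, nat_lit 1, nat_lit 2],
 [nat_lit 0, nat_lit 0, nat_lit 3, nat_lit 1, nat_lit 1, nat_lit 1, nat_lit 2, nat_lit 0],
 [nat_lit 3, nat_lit 1, nat_lit 3, nat_lit 0, nat_lit 2, nat_lit 1],
 [nat_lit 0, nat_lit 3, nat_lit 1, nat_lit 1, nat_lit 2, nat_lit 1, nat_lit 1],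
 [nat_lit 2, nat_lit 3, nat_lit 1, nat_lit 1, nat_lit 1, nat_lit 2, nat_lit 1, nat_lit 1],
 [nat_lit 2, nat_lit 1, nat_lit 3, nat_lit 0, nat_lit 2, nat_lit 1, nat_lit 1],
 [nat_lit 0, nat_lit 0, nat_lit 3, nat_lit 0, nat_lit 2, nat_lit 1, nat_lit 1, nat_lit 1],
 [nat_lit 1, nat_lit 3, nat_lit 0, nat_lit 2, nat_lit 1],
 [nat_lit 0, nat_lit 3, nat_lit 0, nat_lit 2],
 [nat_lit 2, nat_lit 3, nat_lit 0, nat_lit 2],
 [nat_lit 3, nat_lit 0, nat_lit 2, nat_lit 1, nat_lit 1],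
 [nat_lit 0],
 [nat_lit 0, nat_lit 0, nat_lit 3, nat_lit 0, nat_lit 0, nat_lit 2, nat_lit 1, nat_lit 1, nat_lit 1],
 [nat_lit 1, nat_lit 3, nat_lit 0, nat_lit 0, nat_lit 2, nat_lit 0, nat_lit 0],
 [nat_lit 0, nat_lit 3, nat_lit 0, nat_lit 0, nat_lit 2, nat_lit 0],
 [nat_lit 2, nat_lit 3, nat_lit 1, nat_lit 1, nat_lit 2, nat_lit 0, nat_lit 0],
 [nat_lit 3, nat_lit 0, nat_lit 0, nat_lit 2],
 [nat_lit 1, nat_lit 1, nat_lit 1, nat_lit 2, nat_lit 0, nat_lit 0],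
 [nat_lit 2, nat_lit 1, nat_lit 3, nat_lit 1, nat_lit 1, nat_lit 1, nat_lit 2, nat_lit 0],
 [nat_lit 1, nat_lit 3, nat_lit 2, nat_lit 0],
 [nat_lit 0, nat_lit 3, nat_lit 0, nat_lit 0],
 [nat_lit 2, nat_lit 3, nat_lit 2, nat_lit 1, nat_lit 1],
 [nat_lit 3, nat_lit 1, nat_lit 2, nat_lit 0, nat_lit 0],
 [nat_lit 2],
 [nat_lit 2, nat_lit 1, nat_lit 3, nat_lit 0, nat_lit 0, nat_lit 2],
 [nat_lit 0, nat_lit 0, nat_lit 3, nat_lit 2, nat_lit 1, nat_lit 1, nat_lit 1],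
 [nat_lit 0, nat_lit 3, nat_lit 1, nat_lit 1, nat_lit 1, nat_lit 2, nat_lit 1],
 [nat_lit 2, nat_lit 3, nat_lit 0, nat_lit 0, nat_lit 2, nat_lit 0],
 [nat_lit 3, nat_lit 1, nat_lit 1, nat_lit 2, nat_lit 1],
 [nat_lit 0, nat_lit 0, nat_lit 2, nat_lit 1],
 [nat_lit 2, nat_lit 1, nat_lit 3, nat_lit 1, nat_lit 2, nat_lit 0, nat_lit 0],
 [nat_lit 0, nat_lit 0, nat_lit 3, nat_lit 1, nat_lit 1, nat_lit 2, nat_lit 1, nat_lit 1, nat_lit 1],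
 [nat_lit 1, nat_lit 3, nat_lit 1, nat_lit 2],
 [nat_lit 2, nat_lit 3, nat_lit 0, nat_lit 0],
 [nat_lit 3, nat_lit 1, nat_lit 1, nat_lit 1],
 [nat_lit 1, nat_lit 2, nat_lit 1, nat_lit 1],
 [nat_lit 2, nat_lit 1, nat_lit 3, nat_lit 1, nat_lit 1, nat_lit 1],
 [nat_lit 0, nat_lit 0, nat_lit 3, nat_lit 1, nat_lit 2, nat_lit 1, nat_lit 1, nat_lit 1],
 [nat_lit 1, nat_lit 3, nat_lit 1, nat_lit 1, nat_lit 2, nat_lit 1, nat_lit 1],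
 [nat_lit 0, nat_lit 3, nat_lit 2, nat_lit 1, nat_lit 1],
 [nat_lit 3, nat_lit 1, nat_lit 1, nat_lit 1, nat_lit 2, nat_lit 0],
 [nat_lit 0, nat_lit 2, nat_lit 0],
 [nat_lit 2, nat_lit 1, nat_lit 3, nat_lit 1, nat_lit 1, nat_lit 2, nat_lit 1],
 [nat_lit 0, nat_lit 0, nat_lit 3, nat_lit 1, nat_lit 1, nat_lit 1, nat_lit 2, nat_lit 1, nat_lit 1, nat_lit 1],
 [nat_lit 1, nat_lit 3],
 [nat_lit 0, nat_lit 3, nat_lit 1, nat_lit 1, nat_lit 2, nat_lit 0, nat_lit 0],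
 [nat_lit 2, nat_lit 3, nat_lit 1, nat_lit 1, nat_lit 1, nat_lit 2, nat_lit 1],
 [nat_lit 2, nat_lit 1, nat_lit 3, nat_lit 0, nat_lit 2],
 [nat_lit 0, nat_lit 0, nat_lit 3, nat_lit 0, nat_lit 2, nat_lit 0],
 [nat_lit 1, nat_lit 3, nat_lit 0, nat_lit 2],
 [nat_lit 3, nat_lit 1, nat_lit 3, nat_lit 1],
 [nat_lit 2, nat_lit 3, nat_lit 0, nat_lit 2, nat_lit 1, nat_lit 1, nat_lit 1],
 [nat_lit 3, nat_lit 0, nat_lit 2, nat_lit 1, nat_lit 1, nat_lit 1],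
 [nat_lit 1],
 [nat_lit 0, nat_lit 0, nat_lit 3, nat_lit 0, nat_lit 0, nat_lit 2, nat_lit 1],
 [nat_lit 1, nat_lit 3, nat_lit 0, nat_lit 0, nat_lit 2, nat_lit 0],
 [nat_lit 3, nat_lit 1, nat_lit 3, nat_lit 1, nat_lit 2, nat_lit 0],
 [nat_lit 2, nat_lit 3, nat_lit 1, nat_lit 1, nat_lit 2, nat_lit 1, nat_lit 1, nat_lit 1],
 [nat_lit 3, nat_lit 0, nat_lit 0, nat_lit 2, nat_lit 1, nat_lit 1, nat_lit 1],
 [nat_lit 1, nat_lit 1, nat_lit 1, nat_lit 2, nat_lit 1, nat_lit 1],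
 [nat_lit 2, nat_lit 1, nat_lit 3, nat_lit 1, nat_lit 1, nat_lit 1, nat_lit 2, nat_lit 1],
 [nat_lit 1, nat_lit 3, nat_lit 2, nat_lit 1, nat_lit 1],
 [nat_lit 3, nat_lit 1, nat_lit 3, nat_lit 1, nat_lit 1, nat_lit 2],
 [nat_lit 2, nat_lit 3, nat_lit 2, nat_lit 1, nat_lit 1, nat_lit 1],
 [nat_lit 3, nat_lit 1, nat_lit 2, nat_lit 1, nat_lit 1, nat_lit 1],
 [nat_lit 2, nat_lit 1],
 [nat_lit 2, nat_lit 1, nat_lit 3, nat_lit 0, nat_lit 0, nat_lit 2, nat_lit 0],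
 [nat_lit 0, nat_lit 0, nat_lit 3, nat_lit 2],
 [nat_lit 3, nat_lit 1, nat_lit 3, nat_lit 1, nat_lit 1, nat_lit 1, nat_lit 2, nat_lit 1, nat_lit 1],
 [nat_lit 2, nat_lit 3, nat_lit 0, nat_lit 0, nat_lit 2, nat_lit 1, nat_lit 1, nat_lit 1],
 [nat_lit 3, nat_lit 1, nat_lit 1, nat_lit 2, nat_lit 1, nat_lit 1, nat_lit 1],
 [nat_lit 1, nat_lit 1, nat_lit 2],
 [nat_lit 2, nat_lit 1, nat_lit 3, nat_lit 2, nat_lit 1, nat_lit 1],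
 [nat_lit 0, nat_lit 0, nat_lit 3, nat_lit 0],
 [nat_lit 1, nat_lit 3, nat_lit 1, nat_lit 1, nat_lit 1, nat_lit 2, nat_lit 1],
 [nat_lit 2, nat_lit 3, nat_lit 1, nat_lit 2, nat_lit 1, nat_lit 1, nat_lit 1],
 [nat_lit 3, nat_lit 2, nat_lit 1, nat_lit 1, nat_lit 1],
 [nat_lit 1, nat_lit 2, nat_lit 0],
 [nat_lit 2, nat_lit 1, nat_lit 3, nat_lit 0, nat_lit 0],
 [nat_lit 0, nat_lit 0, nat_lit 3, nat_lit 1, nat_lit 2, nat_lit 1, nat_lit 1],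
 [nat_lit 1, nat_lit 3, nat_lit 1, nat_lit 1, nat_lit 2, nat_lit 0, nat_lit 0],
 [nat_lit 3, nat_lit 1, nat_lit 3, nat_lit 2, nat_lit 1],
 [nat_lit 3, nat_lit 1, nat_lit 1, nat_lit 1, nat_lit 2, nat_lit 1, nat_lit 1, nat_lit 1],
 [nat_lit 0, nat_lit 2, nat_lit 0, nat_lit 0],
 [nat_lit 2, nat_lit 1, nat_lit 3, nat_lit 1, nat_lit 1, nat_lit 2, nat_lit 0, nat_lit 0],
 [nat_lit 0, nat_lit 0, nat_lit 3, nat_lit 1, nat_lit 1, nat_lit 1, nat_lit 2, nat_lit 0, nat_lit 0],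
 [nat_lit 1, nat_lit 3, nat_lit 0, nat_lit 0],
 [nat_lit 3, nat_lit 1, nat_lit 3, nat_lit 0, nat_lit 2, nat_lit 0, nat_lit 0],
 [nat_lit 2, nat_lit 3, nat_lit 1, nat_lit 1, nat_lit 1, nat_lit 2, nat_lit 1, nat_lit 1, nat_lit 1],
 [nat_lit 2, nat_lit 1, nat_lit 3, nat_lit 0, nat_lit 2, nat_lit 1, nat_lit 1, nat_lit 1],
 [nat_lit 0, nat_lit 0, nat_lit 3, nat_lit 0, nat_lit 2],
 [nat_lit 1, nat_lit 3, nat_lit 0, nat_lit 2, nat_lit 0],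
 [nat_lit 3, nat_lit 1, nat_lit 3, nat_lit 1, nat_lit 1, nat_lit 1],
 [nat_lit 0, nat_lit 3, nat_lit 0, nat_lit 2, nat_lit 1, nat_lit 1],
 [nat_lit 3, nat_lit 0, nat_lit 2, nat_lit 1],
 [nat_lit 0, nat_lit 0],
 [nat_lit 0, nat_lit 0, nat_lit 3, nat_lit 0, nat_lit 0, nat_lit 2, nat_lit 0],
 [nat_lit 1, nat_lit 3, nat_lit 0, nat_lit 0, nat_lit 2, nat_lit 1],
 [nat_lit 3, nat_lit 1, nat_lit 3, nat_lit 1, nat_lit 2, nat_lit 0, nat_lit 0],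
 [nat_lit 0, nat_lit 3, nat_lit 0, nat_lit 0, nat_lit 2],
 [nat_lit 3, nat_lit 0, nat_lit 0, nat_lit 2, nat_lit 0, nat_lit 0],
 [nat_lit 1, nat_lit 1, nat_lit 1, nat_lit 2, nat_lit 1],
 [nat_lit 2, nat_lit 1, nat_lit 3, nat_lit 1, nat_lit 1, nat_lit 1, nat_lit 2, nat_lit 1, nat_lit 1, nat_lit 1],
 [nat_lit 1, nat_lit 3, nat_lit 2],
 [nat_lit 3, nat_lit 1, nat_lit 3, nat_lit 1, nat_lit 1, nat_lit 2, nat_lit 1],
 [nat_lit 0, nat_lit 3, nat_lit 1, nat_lit 1, nat_lit 1],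
 [nat_lit 3, nat_lit 1, nat_lit 2],
 [nat_lit 2, nat_lit 1, nat_lit 1],
 [nat_lit 2, nat_lit 1, nat_lit 3, nat_lit 0, nat_lit 0, nat_lit 2, nat_lit 1, nat_lit 1, nat_lit 1],
 [nat_lit 0, nat_lit 0, nat_lit 3, nat_lit 2, nat_lit 1, nat_lit 1],
 [nat_lit 3, nat_lit 1, nat_lit 3, nat_lit 1, nat_lit 1, nat_lit 1, nat_lit 2, nat_lit 0],
 [nat_lit 0, nat_lit 3, nat_lit 1, nat_lit 1, nat_lit 1, nat_lit 2, nat_lit 0],
 [nat_lit 3, nat_lit 1, nat_lit 1, nat_lit 2, nat_lit 1, nat_lit 1],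
 [nat_lit 1, nat_lit 1, nat_lit 2, nat_lit 0, nat_lit 0],
 [nat_lit 2, nat_lit 1, nat_lit 3, nat_lit 2, nat_lit 1, nat_lit 1, nat_lit 1],
 [nat_lit 0, nat_lit 0, nat_lit 3, nat_lit 0, nat_lit 0],
 [nat_lit 1, nat_lit 3, nat_lit 1, nat_lit 1, nat_lit 1, nat_lit 2, nat_lit 0, nat_lit 0],
 [nat_lit 0, nat_lit 3, nat_lit 1, nat_lit 2, nat_lit 0, nat_lit 0],
 [nat_lit 3, nat_lit 2, nat_lit 0],
 [nat_lit 0, nat_lit 0, nat_lit 2, nat_lit 0],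
 [nat_lit 2, nat_lit 1, nat_lit 3, nat_lit 1, nat_lit 2, nat_lit 1, nat_lit 1, nat_lit 1],
 [nat_lit 0, nat_lit 0, nat_lit 3, nat_lit 1, nat_lit 1, nat_lit 2, nat_lit 0, nat_lit 0],
 [nat_lit 1, nat_lit 3, nat_lit 1, nat_lit 2, nat_lit 1, nat_lit 1],
 [nat_lit 3, nat_lit 1, nat_lit 3, nat_lit 0, nat_lit 0, nat_lit 2],
 [nat_lit 3],
 [nat_lit 0, nat_lit 2],
 [nat_lit 2, nat_lit 1, nat_lit 3, nat_lit 1, nat_lit 1, nat_lit 2, nat_lit 1, nat_lit 1, nat_lit 1],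
 [nat_lit 0, nat_lit 0, nat_lit 3, nat_lit 1, nat_lit 1, nat_lit 1, nat_lit 2, nat_lit 1],
 [nat_lit 1, nat_lit 3, nat_lit 0],
 [nat_lit 3, nat_lit 1, nat_lit 3, nat_lit 0, nat_lit 2, nat_lit 1, nat_lit 1],
 [nat_lit 0, nat_lit 3, nat_lit 1, nat_lit 1, nat_lit 2, nat_lit 1],
 [nat_lit 2, nat_lit 1, nat_lit 3, nat_lit 0, nat_lit 2, nat_lit 0],
 [nat_lit 0, nat_lit 0, nat_lit 3, nat_lit 0, nat_lit 2, nat_lit 1],
 [nat_lit 1, nat_lit 3, nat_lit 0, nat_lit 2, nat_lit 1, nat_lit 1, nat_lit 1],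
 [nat_lit 3, nat_lit 1, nat_lit 3, nat_lit 1, nat_lit 1],
 [nat_lit 0, nat_lit 3, nat_lit 0, nat_lit 2, nat_lit 0],
 [nat_lit 2, nat_lit 3, nat_lit 0, nat_lit 2, nat_lit 1],
 [nat_lit 1, nat_lit 1],
 [nat_lit 0, nat_lit 0, nat_lit 3, nat_lit 0, nat_lit 0, nat_lit 2, nat_lit 0, nat_lit 0],
 [nat_lit 1, nat_lit 3, nat_lit 0, nat_lit 0, nat_lit 2, nat_lit 1, nat_lit 1, nat_lit 1],
 [nat_lit 3, nat_lit 1, nat_lit 3, nat_lit 1, nat_lit 2, nat_lit 1],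
 [nat_lit 0, nat_lit 3, nat_lit 0, nat_lit 0, nat_lit 2, nat_lit 1],
 [nat_lit 2, nat_lit 3, nat_lit 1, nat_lit 1, nat_lit 2, nat_lit 1, nat_lit 1],
 [nat_lit 1, nat_lit 1, nat_lit 1, nat_lit 2],
 [nat_lit 2, nat_lit 1, nat_lit 3, nat_lit 1, nat_lit 1, nat_lit 1, nat_lit 2, nat_lit 0, nat_lit 0],
 [nat_lit 1, nat_lit 3, nat_lit 2, nat_lit 1, nat_lit 1, nat_lit 1],
 [nat_lit 3, nat_lit 1, nat_lit 3, nat_lit 1, nat_lit 1, nat_lit 2, nat_lit 0],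
 [nat_lit 0, nat_lit 3, nat_lit 0],
 [nat_lit 2, nat_lit 3, nat_lit 2, nat_lit 0],
 [nat_lit 2, nat_lit 0, nat_lit 0],
 [nat_lit 2, nat_lit 1, nat_lit 3, nat_lit 0, nat_lit 0, nat_lit 2, nat_lit 1],
 [nat_lit 0, nat_lit 0, nat_lit 3, nat_lit 2, nat_lit 0],
 [nat_lit 3, nat_lit 1, nat_lit 3, nat_lit 1, nat_lit 1, nat_lit 1, nat_lit 2],
 [nat_lit 0, nat_lit 3, nat_lit 1, nat_lit 1, nat_lit 1, nat_lit 2, nat_lit 0, nat_lit 0],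
 [nat_lit 2, nat_lit 3, nat_lit 0, nat_lit 0, nat_lit 2, nat_lit 0, nat_lit 0],
 [nat_lit 1, nat_lit 1, nat_lit 2, nat_lit 0],
 [nat_lit 2, nat_lit 1, nat_lit 3, nat_lit 2],
 [nat_lit 0, nat_lit 0, nat_lit 3],
 [nat_lit 1, nat_lit 3, nat_lit 1, nat_lit 1, nat_lit 1, nat_lit 2, nat_lit 1, nat_lit 1, nat_lit 1],
 [nat_lit 0, nat_lit 3, nat_lit 1, nat_lit 2, nat_lit 1, nat_lit 1],
 [nat_lit 2, nat_lit 3, nat_lit 1, nat_lit 2],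
 [nat_lit 0, nat_lit 0, nat_lit 2, nat_lit 1, nat_lit 1],
 [nat_lit 2, nat_lit 1, nat_lit 3, nat_lit 1, nat_lit 2, nat_lit 1, nat_lit 1],
 [nat_lit 0, nat_lit 0, nat_lit 3, nat_lit 1, nat_lit 1, nat_lit 2, nat_lit 1, nat_lit 1],
 [nat_lit 1, nat_lit 3, nat_lit 1, nat_lit 2, nat_lit 1, nat_lit 1, nat_lit 1],
 [nat_lit 3, nat_lit 1, nat_lit 3, nat_lit 0, nat_lit 0, nat_lit 2, nat_lit 1, nat_lit 1],
 [nat_lit 2, nat_lit 3],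
 [nat_lit 1, nat_lit 2, nat_lit 1],
 [nat_lit 2, nat_lit 1, nat_lit 3, nat_lit 0],
 [nat_lit 0, nat_lit 0, nat_lit 3, nat_lit 1, nat_lit 2],
 [nat_lit 1, nat_lit 3, nat_lit 1, nat_lit 1, nat_lit 2, nat_lit 1, nat_lit 1, nat_lit 1],
 [nat_lit 3, nat_lit 1, nat_lit 3, nat_lit 2, nat_lit 0, nat_lit 0],
 [nat_lit 0, nat_lit 3, nat_lit 2]]
theorem h4Wc : band (incr (fun w => keyB 8 (h4L.map Lev.b) (apL (nat_lit 3) (nat_lit 7) h4T w)) h4W 0) (Nat.ble (chainOrd 8 h4L) h4W.length) = true := by decide +kernel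
def h4O : List ℕ := [2, 7, 3, 3, 6, 6, 3, 4, 6, 8, 7, 8, 8, 2, 4, 8, 3, 4, 6, 2, 6, 4, 4, 8, 8, 2, 3, 8, 8, 3, 4, 2, 8, 8, 7, 7, 7, 2, 8, 7,
6, 8, 3, 8, 8, 6, 7, 4, 2, 2, 2, 2, 2, 2, 7, 4, 3, 6, 8, 8, 3, 8, 8, 4, 6, 7, 3, 6, 4, 8, 7, 8, 6, 8, 4, 3, 8, 7, 6, 7,
3, 8, 4, 8, 2, 6, 3, 3, 6, 7, 1, 3, 6, 6, 2, 3, 3, 6, 2, 7, 3, 6, 6, 3, 7, 3, 6, 2, 6, 3, 2, 6, 7, 3, 3, 7, 6, 3, 2, 6,
2, 6, 3, 7, 6, 3, 2, 7, 6, 7, 8, 8, 2, 6, 6, 7, 3, 3, 6, 7, 4, 8, 8, 3, 7, 7, 8, 2, 4, 8, 6, 6, 4, 2, 4, 8, 3, 8, 3, 8,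
8, 2, 3, 8, 8, 4, 4, 2, 2, 8, 3, 8, 8, 3, 6, 3, 3, 6, 7, 2, 3, 6, 8, 8, 7, 4, 2, 8, 7, 7, 8, 4, 3, 4, 4, 8, 2, 8, 7, 6,
8, 2, 7, 8, 6, 4, 6, 8, 2, 4, 2, 6, 8, 4, 4, 6, 6, 3, 2, 3, 6, 7, 3, 8, 7, 4, 6, 8, 3, 3, 8, 8, 8, 2, 6, 8, 8, 7, 2, 7,
2, 3, 4, 4, 8, 8, 7, 8, 7, 8, 2, 4, 2, 4, 7, 7, 8, 8, 3, 7, 6, 2, 3, 6, 6, 8, 7, 8, 3, 4, 6, 4, 8, 4, 2, 6, 2, 4, 3, 8,
8, 4, 7, 8, 6, 8, 7, 2, 3, 3, 8, 2, 8, 8, 2, 8, 4, 8, 4, 3, 3, 6, 6, 7, 2, 3, 7, 4, 8, 6, 3, 8, 6, 7, 7, 8, 8, 2, 3, 8,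
3, 2, 8, 8, 2, 7, 8, 4, 7, 8, 6, 8, 4, 6, 2, 4]
theorem h4o : h4W.map (fun w => ordF (h4L.map Lev.b) 40 (apL (nat_lit 3) (nat_lit 7) h4T w)) = h4O := by decide +kernel
theorem h4x : ∃ N : Subgroup (Equiv.Perm (Fin 8)), OrdL N h4O ∧ ¬ Group.IsSolvable N :=
  let ⟨N, C, _⟩ := exists_pg h4s h4chain h4sd h4tc
  have r := fun w => apL_rep C.lets.rep w
  ⟨N, C.ordL h4Wc h4o (by decide +kernel), nsolv (x := ev C.lets.e [nat_lit 3, nat_lit 0, nat_lit 2, nat_lit 1, nat_lit 1]) (a := ev C.lets.e [nat_lit 0, nat_lit 0, nat_lit 3, nat_lit 2, nat_lit 1, nat_lit 1, nat_lit 1]) (b := ev C.lets.e [nat_lit 2, nat_lit 3, nat_lit 2, nat_lit 0, nat_lit 0])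
    (fun h => absurd ((eqB_iff C.base C.inj (r _) (RepF.id _ _)).2 h) (by decide +kernel)) (by
      rw [inv_eq_of_mul_eq_one_right ((eqB_iff C.base C.inj ((r [nat_lit 0, nat_lit 0, nat_lit 3, nat_lit 2, nat_lit 1, nat_lit 1, nat_lit 1]).comp (r [nat_lit 0, nat_lit 3, nat_lit 2, nat_lit 0, nat_lit 0])) (RepF.id _ _)).1 (by decide +kernel)),
        inv_eq_of_mul_eq_one_right ((eqB_iff C.base C.inj ((r [nat_lit 2, nat_lit 3, nat_lit 2, nat_lit 0, nat_lit 0]).comp (r [nat_lit 0, nat_lit 0, nat_lit 3, nat_lit 1, nat_lit 1, nat_lit 1, nat_lit 2, nat_lit 1, nat_lit 1])) (RepF.id _ _)).1 (by decide +kernel))]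
      exact (eqB_iff C.base C.inj (((r _).comp (((r _).comp (r _)).comp (r _))).comp (((r _).comp (r _)).comp (r _)))
        ((((r _).comp (r _)).comp (r _)).comp (((r _).comp (r _)).comp (r _)))).1 (by decide +kernel))⟩

end H8.OT
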