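import Cfsg.Agent.H8.Or2
import Cfsg.Agent.H8.Alt
import Cfsg.Agent.H8.GG
import Cfsg.Agent.H8.GS43

/-! H8.Or3: small orthogonal groups over the field with two elements (generated certificate) -/

set_option autoImplicit false
set_option maxRecDepth 200000

set_option linter.all false
open Subgroup 

namespace H8.Or3

noncomputable def at0 : ℕ := (nat_lit 0xbcde9a784365210)
noncomputable def at1 : ℕ := (nat_lit 0xeac8d9b76240513)
noncomputable def at2 : ℕ := (nat_lit 0x5d914c806ea23b7)
noncomputable def aT : Tr ℕ := (.node (nat_lit 1) (.leaf at0) (.node (nat_lit 2) (.leaf at1) (.leaf at2)))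
noncomputable def aL0 : Lev := ⟨(nat_lit 1), (nat_lit 3), (nat_lit 0x10000030000020100030001020003), (nat_lit 0x20000010000020300030004040004),
 (.leaf 0),
 (.leaf 0)⟩
noncomputable def aL1 : Lev := ⟨(nat_lit 0), (nat_lit 2), (nat_lit 0x10002020000), (nat_lit 0x20001030000),
 (.leaf 0),
 (.leaf 0)⟩
noncomputable def aL2 : Lev := ⟨(nat_lit 3), (nat_lit 1), (nat_lit 0x10000000000), (nat_lit 0x10000000000),
 (.leaf 0),
 (.leaf 0)⟩
noncomputable def aL : List Lev := [aL0, aL1, aL2]
noncomputable def as0 : ℕ := (nat_lit 0x294b6d07a1c3e58)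
noncomputable def as1 : ℕ := (nat_lit 0xbc439a21de65780)
noncomputable def as2 : ℕ := (nat_lit 0x56de9a1243cb870)
noncomputable def as3 : ℕ := (nat_lit 0xeac8d9b76240513)
noncomputable def as4 : ℕ := (nat_lit 0x89a7cdeb4563012)
noncomputable def as5 : ℕ := (nat_lit 0x7d9bac8e6042315)
noncomputable def as6 : ℕ := (nat_lit 0xbcde9a784365210)
noncomputable def as7 : ℕ := (nat_lit 0x5d914c806ea23b7)
noncomputable def aS : Tr ℕ := (.node (nat_lit 4) (.node (nat_lit 2) (.node (nat_lit 1) (.leaf as0) (.leaf as1)) (.node (nat_lit 3) (.leaf as2) (.leaf as3)))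
 (.node (nat_lit 6) (.node (nat_lit 5) (.leaf as4) (.leaf as5)) (.node (nat_lit 7) (.leaf as6) (.leaf as7))))
noncomputable def aD : Tr (List ℕ) := (.node (nat_lit 4) (.node (nat_lit 2) (.node (nat_lit 1) (.leaf []) (.leaf [])) (.node (nat_lit 3) (.leaf [nat_lit 1, nat_lit 1, nat_lit 1]) (.leaf [nat_lit 0, nat_lit 1, nat_lit 1, nat_lit 0, nat_lit 1, nat_lit 0, nat_lit 1, nat_lit 1])))
 (.node (nat_lit 6) (.node (nat_lit 5) (.leaf [nat_lit 1, nat_lit 0, nat_lit 2]) (.leaf [nat_lit 0, nat_lit 1, nat_lit 0, nat_lit 2, nat_lit 2, nat_lit 0, nat_lit 2, nat_lit 2])) (.node (nat_lit 7) (.leaf [nat_lit 3, nat_lit 5, nat_lit 4]) (.leaf [nat_lit 4, nat_lit 2, nat_lit 3]))))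
theorem aslp : slpChk 15 (nat_lit 4) (nat_lit 15) aS aD 2 6 = true := by decide +kernel
noncomputable def aV : Tr ℕ := (.node (nat_lit 7) (.node (nat_lit 3) (.node (nat_lit 1) (.leaf (nat_lit 1)) (.node (nat_lit 2) (.leaf (nat_lit 2)) (.leaf (nat_lit 3))))
 (.node (nat_lit 5) (.node (nat_lit 4) (.leaf (nat_lit 4)) (.leaf (nat_lit 5))) (.node (nat_lit 6) (.leaf (nat_lit 6)) (.leaf (nat_lit 7)))))
 (.node (nat_lit 11) (.node (nat_lit 9) (.node (nat_lit 8) (.leaf (nat_lit 8)) (.leaf (nat_lit 9))) (.node (nat_lit 10) (.leaf (nat_lit 10)) (.leaf (nat_lit 11))))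
 (.node (nat_lit 13) (.node (nat_lit 12) (.leaf (nat_lit 12)) (.leaf (nat_lit 13))) (.node (nat_lit 14) (.leaf (nat_lit 14)) (.leaf (nat_lit 15))))))
theorem apts : ptR C2 4 false aV 15 0 15 = true := by decide +kernel
noncomputable def aM0 : Sp := [[(nat_lit 0, nat_lit 1)],
  [(nat_lit 1, nat_lit 1)],
  [(nat_lit 1, nat_lit 1), (nat_lit 2, nat_lit 1)],
  [(nat_lit 0, nat_lit 1), (nat_lit 3, nat_lit 1)]]
noncomputable def aM1 : Sp := [[(nat_lit 0, nat_lit 1), (nat_lit 1, nat_lit 1)],
  [(nat_lit 2, nat_lit 1), (nat_lit 3, nat_lit 1)],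
  [(nat_lit 2, nat_lit 1)],
  [(nat_lit 1, nat_lit 1)]]
noncomputable def aMT : Tr Sp := (.node (nat_lit 1) (.leaf aM0) (.leaf aM1))
noncomputable def aSC : Tr ℕ := (.node (nat_lit 1) (.leaf (nat_lit 32767)) (.leaf (nat_lit 32767)))
theorem aact : ActAll C2 4 false aV 15 (nat_lit 4) (nat_lit 15) aMT aS aSC 2 := actAll_of (by decide +kernel)
noncomputable def aOT : Tr ℕ := (.node (nat_lit 1) (.leaf (nat_lit 2)) (.leaf (nat_lit 4)))
theorem apw : (allB 2 fun j => band (powChk C2 4 (aMT.get j) (aOT.get j)) (band (Nat.ble 1 (aOT.get j)) (quadChk C2 4 (BP 2) (aMT.get j)))) = true := by decide +kernel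
theorem ach {F : Type*} [Field F] [Fintype F] (hF : Fintype.card F = 2) :
    Ch (Cfsg.isometryGroup F (Cfsg.quadFormPlus 2 F)) 15 (nat_lit 4) (nat_lit 15) (ptL (τGL (Cfsg.isometryGroup F (Cfsg.quadFormPlus 2 F))) C2 Nat.cast (ixS 2) false aV) aT aL :=
  (exm2 hF).chO (ix_sum 2 2) bp2 apts aact apw aslp (by decide +kernel) ((Cfsg.Agent.S0287.result hF 2 (by norm_num)).trans (by decide +kernel)).le
noncomputable def bt0 : ℕ := (nat_lit 0xed65a921cb43870)
noncomputable def bt1 : ℕ := (nat_lit 0x7d9bac8e6042315)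
noncomputable def bT : Tr ℕ := (.node (nat_lit 1) (.leaf bt0) (.leaf bt1))
noncomputable def bL0 : Lev := ⟨(nat_lit 0), (nat_lit 2), (nat_lit 0x10000000000020000000000), (nat_lit 0x20000000000010000000000),
 (.leaf 0),
 (.leaf 0)⟩
noncomputable def bL1 : Lev := ⟨(nat_lit 1), (nat_lit 1), (nat_lit 0x100000000000000), (nat_lit 0x100000000000000),
 (.leaf 0),
 (.leaf 0)⟩
noncomputable def bL : List Lev := [bL0, bL1]
noncomputable def bE : Tr (List ℕ) := (.node (nat_lit 1) (.leaf [nat_lit 0, nat_lit 1, nat_lit 2, nat_lit 1, nat_lit 0, nat_lit 1]) (.leaf [nat_lit 0, nat_lit 1, nat_lit 0]))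
theorem bw_0 : bT.all2 (fun c w => isProd 15 (nat_lit 4) (nat_lit 15) aT c w) bE = true := by decide +kernel
theorem bw : bT.all2 (fun c w => isProd 15 (nat_lit 4) (nat_lit 15) aT c w) bE = true := bw_0
noncomputable def beI : Tr (List ℕ) := (.node (nat_lit 1) (.leaf [nat_lit 0, nat_lit 1, nat_lit 0]) (.leaf [nat_lit 0]))
theorem beh : Alt.s3R.all (fun w => eqB (aL.map Lev.b) (apF (fun y => apL (nat_lit 4) (nat_lit 15) bT (beI.get y)) w) fun a => a) = true := by decide +kernel
noncomputable def beD : Tr (List ℕ) := (.node (nat_lit 1) (.leaf [nat_lit 1]) (.leaf [nat_lit 0, nat_lit 1, nat_lit 0]))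
theorem bes : band (surChk (nat_lit 4) (nat_lit 15) (aL.map Lev.b) bT beI (topN Alt.s3L) beD (topN bL)) (band (tchainChk 15 (nat_lit 4) (nat_lit 15) bT bL) (Nat.ble (chainOrd 3 Alt.s3L) (chainOrd 15 bL))) = true := by decide +kernel
noncomputable def bW : List (List ℕ) := [[],
 [nat_lit 1],
 [nat_lit 0],
 [nat_lit 0, nat_lit 1],
 [nat_lit 1, nat_lit 0],
 [nat_lit 0, nat_lit 1, nat_lit 0]]
theorem bWc : band (incr (fun w => keyB 15 (bL.map Lev.b) (apL (nat_lit 4) (nat_lit 15) bT w)) bW 0) (Nat.ble (chainOrd 15 bL) bW.length) = true := by decide +kernel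
noncomputable def g : ℕ := (nat_lit 0x56439a87decb120)
noncomputable def gw : List ℕ := [nat_lit 1, nat_lit 2, nat_lit 0, nat_lit 2, nat_lit 1]
theorem gp : isProd 15 (nat_lit 4) (nat_lit 15) aT g gw = true := by decide +kernel
theorem o4p {F : Type*} [Field F] [Fintype F] (hF : Fintype.card F = 2) : ∃ (A : Subgroup (Cfsg.isometryGroup F (Cfsg.quadFormPlus 2 F))) (g : (Cfsg.isometryGroup F (Cfsg.quadFormPlus 2 F))), Nonempty (A ≃* Equiv.Perm (Fin 3)) ∧ g * g = 1 ∧
    (∀ a ∈ A, ∀ b ∈ A, a * (g * b * g) = g * b * g * a ∧ (a = g * b * g → a = 1)) := by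
  have C := ach hF
  obtain ⟨N, D, ⟨e⟩, -⟩ := (Alt.s3std.emb (lets_words C.lets bE bw) C.base C.inj (by decide +kernel) beh bes)
  have rg := (rep_word C.lets gw gp)
  refine ⟨N, _, ⟨e.symm⟩, (eqB_iff C.base C.inj (rg.comp rg) (RepF.id _ _)).1 (by decide +kernel), fun a ha b hb => ?_⟩
  obtain ⟨u, hu, e1⟩ := D.words bWc ⟨a, ha⟩
  obtain ⟨v, hv, e2⟩ := D.words bWc ⟨b, hb⟩
  have r : ∀ w, RepF _ _ _ (ev D.lets.e w).1 := apL_rep D.lets.rep
  have r1 := r u
  have r2 := (rg.comp (r v)).comp rg
  rw [e1] at r1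
  rw [e2] at r2
  rw [← eqB_iff C.base C.inj (r1.comp r2) (r2.comp r1), ← eqB_iff C.base C.inj r1 r2, ← eqB_iff C.base C.inj r1 (RepF.id _ _)]
  clear r1 r2 e1 e2
  revert u v; decide +kernel
noncomputable def ct0 : ℕ := (nat_lit 0x38dfae7cefef70bf2c74cf6d6caeeb689eaa648e69607e285a6585de75c6d24503d65544ce34c2ca2481c61440c2040)
noncomputable def ct1 : ℕ := (nat_lit 0x38dfae7cefef76d74cf2c70be7a29aabb2dba59a392189f81761969b71d79559351148f4081ca24c2ce3461440c2040)
noncomputable def ct2 : ℕ := (nat_lit 0x3bf3dfb7e39eafc31cb3d35da7a29aabb2dba392599f82189e75c6da6585d24503d65544ca2481ce34c2c61440c2040)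
noncomputable def ct3 : ℕ := (nat_lit 0x2bb37e27a3bf1f833d2392fc29abdfadbb9ea59b1ca18b5d9a64e35e74a25654205244615c6c81d85cc2d03c40d44c0)
noncomputable def ct4 : ℕ := (nat_lit 0x318acef59a8de9eb48edfb07e1cbcae5db89f9aa4cfdba0bc149c2c55981d92844dd3803d108c6d51885c96940cd790)
noncomputable def ct5 : ℕ := (nat_lit 0x340bc2ba33213603e2383b0197b4f9557dd9d9ad18d385ba5ea16810998b9ca9489291ab310f92fb27306f17737d1f5)
noncomputable def cT : Tr ℕ := (.node (nat_lit 3) (.node (nat_lit 1) (.leaf ct0) (.node (nat_lit 2) (.leaf ct1) (.leaf ct2))) (.node (nat_lit 4) (.leaf ct3) (.node (nat_lit 5) (.leaf ct4) (.leaf ct5))))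
noncomputable def cL0 : Lev := ⟨(nat_lit 3), (nat_lit 6), (nat_lit 0x603000500000103040000000004060600040000040002000000000103060202000004020000050000040400000401000600030003000205050500050605), (nat_lit 0x304000500000405040000000005040400040000050005000000000404030404000002030000030000030400000405000100030002000203040400020305),
 (.leaf 0),
 (.leaf 0)⟩
noncomputable def cL1 : Lev := ⟨(nat_lit 0), (nat_lit 5), (nat_lit 0x5000004050000040000010200000502000500020005000204040500040400), (nat_lit 0x5000005040000040000020300000102000400040003000502030300030400),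
 (.leaf 0),
 (.leaf 0)⟩
noncomputable def cL2 : Lev := ⟨(nat_lit 1), (nat_lit 4), (nat_lit 0x20400000201000000000000000004040000040000), (nat_lit 0x20100000302000000000000000004030000030000),
 (.leaf 0),
 (.leaf 0)⟩
noncomputable def cL3 : Lev := ⟨(nat_lit 7), (nat_lit 3), (nat_lit 0x200030003000000000000000000), (nat_lit 0x100010002000000000000000000),
 (.leaf 0),
 (.leaf 0)⟩
noncomputable def cL4 : Lev := ⟨(nat_lit 15), (nat_lit 1), (nat_lit 0x100000000000000000000000000000000000000), (nat_lit 0x100000000000000000000000000000000000000),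
 (.leaf 0),
 (.leaf 0)⟩
noncomputable def cL : List Lev := [cL0, cL1, cL2, cL3, cL4]
noncomputable def cs0 : ℕ := (nat_lit 0x244d48c3d33109eb92aa65aa47e372285d89e6556945db51a1491882c7204cefc2eb71bb0ef7e36d79db9f40f800bf0)
noncomputable def cs1 : ℕ := (nat_lit 0x3e06959f7341f02e362d4ba140ed3a1d88ad4ec5998fb04dc6e51b9790cbc8cdb815a82f780eb4256b23762617a753c)
noncomputable def cs2 : ℕ := (nat_lit 0xc354575d2db21839e1864004728f4b2bea9e68feedb783189211430c68a6497cf5d70510e2d64f3dabb9f8b7e9a5c2)
noncomputable def cs3 : ℕ := (nat_lit 0x3e3c0b7074e7c69f85489765dbca1311f2b0a3299d29113e83ab95099336bb481b3170b8a61d8d68156ddebe0350f6e)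
noncomputable def cs4 : ℕ := (nat_lit 0x33db5d2fcb1c37eb9e3bfbdf27aa9a2bbadb239a591f8a18145564d04523d865a5dc75e6c824a1cc34e2c41460c0042)
noncomputable def cs5 : ℕ := (nat_lit 0x31c2fcb5d33dbdf3bfb9e37ea9a27aadb2bba59239a181f8904523d45564dc75e6d865a5c824a1cc34e2c41460c0042)
noncomputable def cs6 : ℕ := (nat_lit 0x24c2f8e0d337eeeb9b6afbda6ce37ae8f3b9e6cb1962db584649114259504c6172c871b1ce69934a79d24440f0c0513)
noncomputable def cs7 : ℕ := (nat_lit 0x31c29a35d2db21839e2593df36ceeaf2bea9e68feee27fadc921140d31551960101d70510e2d64ca1d23de6c60da5c2)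
noncomputable def cs8 : ℕ := (nat_lit 0x2bb3cee7a38df6d659b2c618aeb7dfaaa79eb3d248efc207cb31c6c72185d654519244108e35d78a2596935040cf400)
noncomputable def cs9 : ℕ := (nat_lit 0x289e9aacaedbb0bf1cb4cf5dbcefdfb8df9ea48e59a07e18892881cd38c2d14903d55944dd79c6d96985c51840c1080)
noncomputable def cs10 : ℕ := (nat_lit 0x2bb2eb67a2aa6fc32c73d36d77e3ae7bf3ef6392695f82284d38c2c92881d14903d55944d96985dd79c6c51840c1080)
noncomputable def cs11 : ℕ := (nat_lit 0x38dfae7cefef70bf2c74cf6d6caeeb689eaa648e69607e285a6585de75c6d24503d65544ce34c2ca2481c61440c2040)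
noncomputable def cs12 : ℕ := (nat_lit 0x3bf3dfb7e39eb5db3d31cafc2caeeb689eaa669648e28607db71d79761969559351148f40c2ce3481ca2461440c2040)
noncomputable def cs13 : ℕ := (nat_lit 0x39eb7e3dfbbf35db3d31cafc29aa7a2dbabb259a392189f81a6585de75c6d65544d24503ca2481ce34c2c61440c2040)
noncomputable def cs14 : ℕ := (nat_lit 0x38dfae7cefef76d74cf2c70be7a29aabb2dba59a392189f81761969b71d79559351148f4081ca24c2ce3461440c2040)
noncomputable def cs15 : ℕ := (nat_lit 0x3bf3dfb7e39eafc31cb3d35da7a29aabb2dba392599f82189e75c6da6585d24503d65544ca2481ce34c2c61440c2040)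
noncomputable def cs16 : ℕ := (nat_lit 0x2bb37e27a3bf1f833d2392fc29abdfadbb9ea59b1ca18b5d9a64e35e74a25654205244615c6c81d85cc2d03c40d44c0)
noncomputable def cs17 : ℕ := (nat_lit 0x318acef59a8de9eb48edfb07e1cbcae5db89f9aa4cfdba0bc149c2c55981d92844dd3803d108c6d51885c96940cd790)
noncomputable def cs18 : ℕ := (nat_lit 0x340bc2ba33213603e2383b0197b4f9557dd9d9ad18d385ba5ea16810998b9ca9489291ab310f92fb27306f17737d1f5)
noncomputable def cS : Tr ℕ := (.node (nat_lit 9) (.node (nat_lit 4) (.node (nat_lit 2) (.node (nat_lit 1) (.leaf cs0) (.leaf cs1)) (.node (nat_lit 3) (.leaf cs2) (.leaf cs3)))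
 (.node (nat_lit 6) (.node (nat_lit 5) (.leaf cs4) (.leaf cs5)) (.node (nat_lit 7) (.leaf cs6) (.node (nat_lit 8) (.leaf cs7) (.leaf cs8)))))
 (.node (nat_lit 14) (.node (nat_lit 11) (.node (nat_lit 10) (.leaf cs9) (.leaf cs10)) (.node (nat_lit 12) (.leaf cs11) (.node (nat_lit 13) (.leaf cs12) (.leaf cs13))))
 (.node (nat_lit 16) (.node (nat_lit 15) (.leaf cs14) (.leaf cs15)) (.node (nat_lit 17) (.leaf cs16) (.node (nat_lit 18) (.leaf cs17) (.leaf cs18))))))
noncomputable def cD : Tr (List ℕ) := (.node (nat_lit 9) (.node (nat_lit 4) (.node (nat_lit 2) (.node (nat_lit 1) (.leaf []) (.leaf [])) (.node (nat_lit 3) (.leaf [nat_lit 0, nat_lit 0, nat_lit 0]) (.leaf [nat_lit 1, nat_lit 1, nat_lit 1, nat_lit 1, nat_lit 1, nat_lit 1, nat_lit 1, nat_lit 1, nat_lit 1])))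
 (.node (nat_lit 6) (.node (nat_lit 5) (.leaf [nat_lit 1, nat_lit 1, nat_lit 1, nat_lit 2, nat_lit 1, nat_lit 0]) (.leaf [nat_lit 2, nat_lit 3, nat_lit 0, nat_lit 3, nat_lit 3, nat_lit 3])) (.node (nat_lit 7) (.leaf [nat_lit 0, nat_lit 3, nat_lit 3, nat_lit 3, nat_lit 3, nat_lit 3]) (.node (nat_lit 8) (.leaf [nat_lit 1, nat_lit 1, nat_lit 1, nat_lit 1, nat_lit 1, nat_lit 2]) (.leaf [nat_lit 4, nat_lit 6, nat_lit 6, nat_lit 6, nat_lit 4, nat_lit 6, nat_lit 5, nat_lit 5, nat_lit 6])))))
 (.node (nat_lit 14) (.node (nat_lit 11) (.node (nat_lit 10) (.leaf [nat_lit 4, nat_lit 6, nat_lit 4, nat_lit 6, nat_lit 6, nat_lit 4, nat_lit 6, nat_lit 4, nat_lit 4, nat_lit 4, nat_lit 4]) (.leaf [nat_lit 5, nat_lit 5, nat_lit 5, nat_lit 5, nat_lit 7, nat_lit 5, nat_lit 7, nat_lit 7, nat_lit 5, nat_lit 7, nat_lit 5])) (.node (nat_lit 12) (.leaf [nat_lit 5, nat_lit 5]) (.node (nat_lit 13) (.leaf [nat_lit 8, nat_lit 9, nat_lit 11, nat_lit 8]) (.leaf [nat_lit 8, nat_lit 10, nat_lit 10, nat_lit 8]))))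
 (.node (nat_lit 16) (.node (nat_lit 15) (.leaf [nat_lit 13, nat_lit 12]) (.leaf [nat_lit 13, nat_lit 11])) (.node (nat_lit 17) (.leaf [nat_lit 12, nat_lit 11, nat_lit 8, nat_lit 13, nat_lit 12, nat_lit 11]) (.node (nat_lit 18) (.leaf [nat_lit 12, nat_lit 8, nat_lit 5, nat_lit 12, nat_lit 11, nat_lit 8, nat_lit 13, nat_lit 12]) (.leaf [nat_lit 3, nat_lit 6, nat_lit 6, nat_lit 12, nat_lit 11, nat_lit 8, nat_lit 13]))))))
theorem cslp : slpChk 63 (nat_lit 6) (nat_lit 63) cS cD 2 17 = true := by decide +kernel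
noncomputable def cV : Tr ℕ := (.node (nat_lit 31) (.node (nat_lit 15) (.node (nat_lit 7) (.node (nat_lit 3) (.node (nat_lit 1) (.leaf (nat_lit 1)) (.node (nat_lit 2) (.leaf (nat_lit 2)) (.leaf (nat_lit 3))))
 (.node (nat_lit 5) (.node (nat_lit 4) (.leaf (nat_lit 4)) (.leaf (nat_lit 5))) (.node (nat_lit 6) (.leaf (nat_lit 6)) (.leaf (nat_lit 7)))))
 (.node (nat_lit 11) (.node (nat_lit 9) (.node (nat_lit 8) (.leaf (nat_lit 8)) (.leaf (nat_lit 9))) (.node (nat_lit 10) (.leaf (nat_lit 10)) (.leaf (nat_lit 11))))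
 (.node (nat_lit 13) (.node (nat_lit 12) (.leaf (nat_lit 12)) (.leaf (nat_lit 13))) (.node (nat_lit 14) (.leaf (nat_lit 14)) (.leaf (nat_lit 15))))))
 (.node (nat_lit 23) (.node (nat_lit 19) (.node (nat_lit 17) (.node (nat_lit 16) (.leaf (nat_lit 16)) (.leaf (nat_lit 17))) (.node (nat_lit 18) (.leaf (nat_lit 18)) (.leaf (nat_lit 19))))
 (.node (nat_lit 21) (.node (nat_lit 20) (.leaf (nat_lit 20)) (.leaf (nat_lit 21))) (.node (nat_lit 22) (.leaf (nat_lit 22)) (.leaf (nat_lit 23)))))
 (.node (nat_lit 27) (.node (nat_lit 25) (.node (nat_lit 24) (.leaf (nat_lit 24)) (.leaf (nat_lit 25))) (.node (nat_lit 26) (.leaf (nat_lit 26)) (.leaf (nat_lit 27))))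
 (.node (nat_lit 29) (.node (nat_lit 28) (.leaf (nat_lit 28)) (.leaf (nat_lit 29))) (.node (nat_lit 30) (.leaf (nat_lit 30)) (.leaf (nat_lit 31)))))))
 (.node (nat_lit 47) (.node (nat_lit 39) (.node (nat_lit 35) (.node (nat_lit 33) (.node (nat_lit 32) (.leaf (nat_lit 32)) (.leaf (nat_lit 33))) (.node (nat_lit 34) (.leaf (nat_lit 34)) (.leaf (nat_lit 35))))
 (.node (nat_lit 37) (.node (nat_lit 36) (.leaf (nat_lit 36)) (.leaf (nat_lit 37))) (.node (nat_lit 38) (.leaf (nat_lit 38)) (.leaf (nat_lit 39)))))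
 (.node (nat_lit 43) (.node (nat_lit 41) (.node (nat_lit 40) (.leaf (nat_lit 40)) (.leaf (nat_lit 41))) (.node (nat_lit 42) (.leaf (nat_lit 42)) (.leaf (nat_lit 43))))
 (.node (nat_lit 45) (.node (nat_lit 44) (.leaf (nat_lit 44)) (.leaf (nat_lit 45))) (.node (nat_lit 46) (.leaf (nat_lit 46)) (.leaf (nat_lit 47))))))
 (.node (nat_lit 55) (.node (nat_lit 51) (.node (nat_lit 49) (.node (nat_lit 48) (.leaf (nat_lit 48)) (.leaf (nat_lit 49))) (.node (nat_lit 50) (.leaf (nat_lit 50)) (.leaf (nat_lit 51))))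
 (.node (nat_lit 53) (.node (nat_lit 52) (.leaf (nat_lit 52)) (.leaf (nat_lit 53))) (.node (nat_lit 54) (.leaf (nat_lit 54)) (.leaf (nat_lit 55)))))
 (.node (nat_lit 59) (.node (nat_lit 57) (.node (nat_lit 56) (.leaf (nat_lit 56)) (.leaf (nat_lit 57))) (.node (nat_lit 58) (.leaf (nat_lit 58)) (.leaf (nat_lit 59))))
 (.node (nat_lit 61) (.node (nat_lit 60) (.leaf (nat_lit 60)) (.leaf (nat_lit 61))) (.node (nat_lit 62) (.leaf (nat_lit 62)) (.leaf (nat_lit 63))))))))
theorem cpts : ptR C2 6 false cV 63 0 63 = true := by decide +kernel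
noncomputable def cM0 : Sp := [[(nat_lit 0, nat_lit 1), (nat_lit 2, nat_lit 1), (nat_lit 3, nat_lit 1), (nat_lit 4, nat_lit 1), (nat_lit 5, nat_lit 1)],
  [(nat_lit 3, nat_lit 1), (nat_lit 5, nat_lit 1)],
  [(nat_lit 3, nat_lit 1), (nat_lit 4, nat_lit 1), (nat_lit 5, nat_lit 1)],
  [(nat_lit 3, nat_lit 1), (nat_lit 4, nat_lit 1)],
  [(nat_lit 0, nat_lit 1), (nat_lit 1, nat_lit 1)],
  [(nat_lit 0, nat_lit 1), (nat_lit 1, nat_lit 1), (nat_lit 2, nat_lit 1), (nat_lit 3, nat_lit 1), (nat_lit 4, nat_lit 1)]]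
noncomputable def cM1 : Sp := [[(nat_lit 0, nat_lit 1), (nat_lit 1, nat_lit 1), (nat_lit 2, nat_lit 1)],
  [(nat_lit 2, nat_lit 1), (nat_lit 3, nat_lit 1), (nat_lit 4, nat_lit 1)],
  [(nat_lit 0, nat_lit 1), (nat_lit 1, nat_lit 1), (nat_lit 2, nat_lit 1), (nat_lit 3, nat_lit 1), (nat_lit 4, nat_lit 1)],
  [(nat_lit 0, nat_lit 1), (nat_lit 2, nat_lit 1), (nat_lit 3, nat_lit 1), (nat_lit 4, nat_lit 1), (nat_lit 5, nat_lit 1)],
  [(nat_lit 0, nat_lit 1), (nat_lit 1, nat_lit 1), (nat_lit 2, nat_lit 1), (nat_lit 4, nat_lit 1), (nat_lit 5, nat_lit 1)],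
  [(nat_lit 0, nat_lit 1), (nat_lit 4, nat_lit 1), (nat_lit 5, nat_lit 1)]]
noncomputable def cMT : Tr Sp := (.node (nat_lit 1) (.leaf cM0) (.leaf cM1))
noncomputable def cSC : Tr ℕ := (.node (nat_lit 1) (.leaf (nat_lit 0x7fffffffffffffff)) (.leaf (nat_lit 0x7fffffffffffffff)))
theorem cact : ActAll C2 6 false cV 63 (nat_lit 6) (nat_lit 63) cMT cS cSC 2 := actAll_of (by decide +kernel)
noncomputable def cOT : Tr ℕ := (.node (nat_lit 1) (.leaf (nat_lit 4)) (.leaf (nat_lit 10)))
theorem cpw : (allB 2 fun j => band (powChk C2 6 (cMT.get j) (cOT.get j)) (band (Nat.ble 1 (cOT.get j)) (quadChk C2 6 (BP 3) (cMT.get j)))) = true := by decide +kernel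
theorem cch {F : Type*} [Field F] [Fintype F] (hF : Fintype.card F = 2) :
    Ch (Cfsg.isometryGroup F (Cfsg.quadFormPlus 3 F)) 63 (nat_lit 6) (nat_lit 63) (ptL (τGL (Cfsg.isometryGroup F (Cfsg.quadFormPlus 3 F))) C2 Nat.cast (ixS 3) false cV) cT cL :=
  (exm2 hF).chO (ix_sum 3 3) bp3 cpts cact cpw cslp (by decide +kernel) ((Cfsg.Agent.S0287.result hF 3 (by norm_num)).trans (by decide +kernel)).le
noncomputable def ciI : Tr (List ℕ) := (.node (nat_lit 3) (.node (nat_lit 1) (.leaf [nat_lit 2, nat_lit 5, nat_lit 4, nat_lit 5, nat_lit 1, nat_lit 3, nat_lit 1, nat_lit 0]) (.node (nat_lit 2) (.leaf [nat_lit 3, nat_lit 5, nat_lit 3, nat_lit 5, nat_lit 3, nat_lit 4, nat_lit 3, nat_lit 0, nat_lit 4, nat_lit 1, nat_lit 0, nat_lit 3, nat_lit 1, nat_lit 0]) (.leaf [nat_lit 5, nat_lit 3, nat_lit 5, nat_lit 3, nat_lit 4, nat_lit 3, nat_lit 0, nat_lit 4, nat_lit 3, nat_lit 1, nat_lit 0, nat_lit 3, nat_lit 1, nat_lit 0])))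
 (.node (nat_lit 5) (.node (nat_lit 4) (.leaf [nat_lit 2, nat_lit 5, nat_lit 4, nat_lit 2, nat_lit 5, nat_lit 4, nat_lit 0, nat_lit 4, nat_lit 1, nat_lit 3, nat_lit 1]) (.leaf [nat_lit 4, nat_lit 3, nat_lit 0, nat_lit 4, nat_lit 2, nat_lit 0])) (.node (nat_lit 6) (.leaf [nat_lit 3, nat_lit 5, nat_lit 4, nat_lit 2, nat_lit 5, nat_lit 4, nat_lit 0, nat_lit 4, nat_lit 3, nat_lit 1, nat_lit 0, nat_lit 3, nat_lit 1]) (.leaf [nat_lit 1, nat_lit 0, nat_lit 3, nat_lit 2, nat_lit 1]))))
theorem cih : Alt.s8R.all (fun w => eqB (cL.map Lev.b) (apF (fun y => apL (nat_lit 6) (nat_lit 63) cT (ciI.get y)) w) fun a => a) = true := by decide +kernel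
noncomputable def ciD : Tr (List ℕ) := (.node (nat_lit 3) (.node (nat_lit 1) (.leaf [nat_lit 1, nat_lit 2, nat_lit 3, nat_lit 4, nat_lit 5, nat_lit 6, nat_lit 2, nat_lit 3, nat_lit 4, nat_lit 5, nat_lit 2, nat_lit 3, nat_lit 4, nat_lit 2, nat_lit 3, nat_lit 2, nat_lit 0, nat_lit 1]) (.node (nat_lit 2) (.leaf [nat_lit 0, nat_lit 1, nat_lit 2, nat_lit 3, nat_lit 4, nat_lit 5, nat_lit 6, nat_lit 4, nat_lit 5, nat_lit 4, nat_lit 2, nat_lit 3, nat_lit 2, nat_lit 0, nat_lit 1, nat_lit 0]) (.leaf [nat_lit 3, nat_lit 4, nat_lit 5, nat_lit 6, nat_lit 1, nat_lit 2, nat_lit 3, nat_lit 4, nat_lit 5, nat_lit 1, nat_lit 2, nat_lit 3, nat_lit 4, nat_lit 0, nat_lit 1, nat_lit 2, nat_lit 3, nat_lit 1]))) (.node (nat_lit 4) (.leaf [nat_lit 6, nat_lit 0, nat_lit 1, nat_lit 2, nat_lit 3, nat_lit 4, nat_lit 3, nat_lit 0, nat_lit 1, nat_lit 2, nat_lit 0, nat_lit 1, nat_lit 0]) (.node (nat_lit 5) (.leaf [nat_lit 1, nat_lit 2, nat_lit 3, nat_lit 4, nat_lit 5, nat_lit 6, nat_lit 5, nat_lit 4, nat_lit 0, nat_lit 1, nat_lit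 2, nat_lit 3, nat_lit 1, nat_lit 2, nat_lit 0, nat_lit 1]) (.leaf [nat_lit 6, nat_lit 2, nat_lit 3, nat_lit 4, nat_lit 1, nat_lit 2, nat_lit 3, nat_lit 0, nat_lit 1, nat_lit 2]))))
theorem cis : band (surChk (nat_lit 6) (nat_lit 63) (cL.map Lev.b) cT ciI (topN Alt.s8L) ciD (topN cL)) (Nat.ble (chainOrd 8 Alt.s8L) (chainOrd 63 cL)) = true := by decide +kernel
theorem o6p {F : Type*} [Field F] [Fintype F] (hF : Fintype.card F = 2) : Nonempty (Equiv.Perm (Fin 8) ≃* (Cfsg.isometryGroup F (Cfsg.quadFormPlus 3 F))) := (Alt.s8std.isoW (cch hF) cih cis)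
noncomputable def dt0 : ℕ := (nat_lit 0xecdba8976453201)
noncomputable def dt1 : ℕ := (nat_lit 0xab8de7c90523416)
noncomputable def dt2 : ℕ := (nat_lit 0xe372095c184db6a)
noncomputable def dT : Tr ℕ := (.node (nat_lit 1) (.leaf dt0) (.node (nat_lit 2) (.leaf dt1) (.leaf dt2)))
noncomputable def dL0 : Lev := ⟨(nat_lit 3), (nat_lit 3), (nat_lit 0x301020001020300030200030000), (nat_lit 0x102020004030300040400030000),
 (.leaf 0),
 (.leaf 0)⟩
noncomputable def dL1 : Lev := ⟨(nat_lit 7), (nat_lit 2), (nat_lit 0x102020002010000000000000000), (nat_lit 0x403050001020000000000000000),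
 (.leaf 0),
 (.leaf 0)⟩
noncomputable def dL2 : Lev := ⟨(nat_lit 0), (nat_lit 1), (nat_lit 0x100), (nat_lit 0x100),
 (.leaf 0),
 (.leaf 0)⟩
noncomputable def dL : List Lev := [dL0, dL1, dL2]
noncomputable def ds0 : ℕ := (nat_lit 0xed34128765bc9a0)
noncomputable def ds1 : ℕ := (nat_lit 0xa3b21c490d5876e)
noncomputable def ds2 : ℕ := (nat_lit 0x5d814c9ab327e6)
noncomputable def ds3 : ℕ := (nat_lit 0x12cb6578a934de0)
noncomputable def ds4 : ℕ := (nat_lit 0x59ce732148dba6)
noncomputable def ds5 : ℕ := (nat_lit 0x1c8567b20d943ae)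
noncomputable def ds6 : ℕ := (nat_lit 0xab9ce7d81423506)
noncomputable def ds7 : ℕ := (nat_lit 0xa8bdec790253461)
noncomputable def ds8 : ℕ := (nat_lit 0xe7c9ab8d0523416)
noncomputable def ds9 : ℕ := (nat_lit 0xecdba8976453201)
noncomputable def ds10 : ℕ := (nat_lit 0xab8de7c90523416)
noncomputable def ds11 : ℕ := (nat_lit 0xe372095c184db6a)
noncomputable def dS : Tr ℕ := (.node (nat_lit 6) (.node (nat_lit 3) (.node (nat_lit 1) (.leaf ds0) (.node (nat_lit 2) (.leaf ds1) (.leaf ds2))) (.node (nat_lit 4) (.leaf ds3) (.node (nat_lit 5) (.leaf ds4) (.leaf ds5))))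
 (.node (nat_lit 9) (.node (nat_lit 7) (.leaf ds6) (.node (nat_lit 8) (.leaf ds7) (.leaf ds8))) (.node (nat_lit 10) (.leaf ds9) (.node (nat_lit 11) (.leaf ds10) (.leaf ds11)))))
noncomputable def dD : Tr (List ℕ) := (.node (nat_lit 6) (.node (nat_lit 3) (.node (nat_lit 1) (.leaf []) (.node (nat_lit 2) (.leaf []) (.leaf []))) (.node (nat_lit 4) (.leaf []) (.node (nat_lit 5) (.leaf [nat_lit 1, nat_lit 1, nat_lit 1, nat_lit 1]) (.leaf [nat_lit 2, nat_lit 2, nat_lit 2, nat_lit 2]))))
 (.node (nat_lit 9) (.node (nat_lit 7) (.leaf [nat_lit 4, nat_lit 2, nat_lit 0, nat_lit 5]) (.node (nat_lit 8) (.leaf [nat_lit 2, nat_lit 0, nat_lit 5, nat_lit 1]) (.leaf [nat_lit 1, nat_lit 2, nat_lit 0, nat_lit 4, nat_lit 4, nat_lit 3]))) (.node (nat_lit 10) (.leaf [nat_lit 7, nat_lit 8, nat_lit 6]) (.node (nat_lit 11) (.leaf [nat_lit 7, nat_lit 9]) (.leaf [nat_lit 4, nat_lit 8, nat_lit 7])))))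
theorem dslp : slpChk 15 (nat_lit 4) (nat_lit 15) dS dD 4 8 = true := by decide +kernel
noncomputable def dV : Tr ℕ := (.node (nat_lit 7) (.node (nat_lit 3) (.node (nat_lit 1) (.leaf (nat_lit 1)) (.node (nat_lit 2) (.leaf (nat_lit 2)) (.leaf (nat_lit 3))))
 (.node (nat_lit 5) (.node (nat_lit 4) (.leaf (nat_lit 4)) (.leaf (nat_lit 5))) (.node (nat_lit 6) (.leaf (nat_lit 6)) (.leaf (nat_lit 7)))))
 (.node (nat_lit 11) (.node (nat_lit 9) (.node (nat_lit 8) (.leaf (nat_lit 8)) (.leaf (nat_lit 9))) (.node (nat_lit 10) (.leaf (nat_lit 10)) (.leaf (nat_lit 11))))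
 (.node (nat_lit 13) (.node (nat_lit 12) (.leaf (nat_lit 12)) (.leaf (nat_lit 13))) (.node (nat_lit 14) (.leaf (nat_lit 14)) (.leaf (nat_lit 15))))))
theorem dpts : ptR C2 4 false dV 15 0 15 = true := by decide +kernel
noncomputable def dM0 : Sp := [[(nat_lit 0, nat_lit 1), (nat_lit 1, nat_lit 1), (nat_lit 2, nat_lit 1)],
  [(nat_lit 1, nat_lit 1)],
  [(nat_lit 2, nat_lit 1)],
  [(nat_lit 1, nat_lit 1), (nat_lit 2, nat_lit 1), (nat_lit 3, nat_lit 1)]]
noncomputable def dM1 : Sp := [[(nat_lit 0, nat_lit 1), (nat_lit 1, nat_lit 1), (nat_lit 2, nat_lit 1)],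
  [(nat_lit 0, nat_lit 1), (nat_lit 1, nat_lit 1), (nat_lit 3, nat_lit 1)],
  [(nat_lit 0, nat_lit 1), (nat_lit 1, nat_lit 1)],
  [(nat_lit 0, nat_lit 1), (nat_lit 2, nat_lit 1), (nat_lit 3, nat_lit 1)]]
noncomputable def dM2 : Sp := [[(nat_lit 0, nat_lit 1), (nat_lit 1, nat_lit 1), (nat_lit 2, nat_lit 1)],
  [(nat_lit 0, nat_lit 1), (nat_lit 1, nat_lit 1), (nat_lit 2, nat_lit 1), (nat_lit 3, nat_lit 1)],
  [(nat_lit 0, nat_lit 1), (nat_lit 1, nat_lit 1)],
  [(nat_lit 1, nat_lit 1), (nat_lit 3, nat_lit 1)]]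
noncomputable def dM3 : Sp := [[(nat_lit 0, nat_lit 1), (nat_lit 1, nat_lit 1), (nat_lit 2, nat_lit 1), (nat_lit 3, nat_lit 1)],
  [(nat_lit 1, nat_lit 1)],
  [(nat_lit 1, nat_lit 1), (nat_lit 2, nat_lit 1)],
  [(nat_lit 1, nat_lit 1), (nat_lit 3, nat_lit 1)]]
noncomputable def dMT : Tr Sp := (.node (nat_lit 2) (.node (nat_lit 1) (.leaf dM0) (.leaf dM1)) (.node (nat_lit 3) (.leaf dM2) (.leaf dM3)))
noncomputable def dSC : Tr ℕ := (.node (nat_lit 2) (.node (nat_lit 1) (.leaf (nat_lit 32767)) (.leaf (nat_lit 32767))) (.node (nat_lit 3) (.leaf (nat_lit 32767)) (.leaf (nat_lit 32767))))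
theorem dact : ActAll C2 4 false dV 15 (nat_lit 4) (nat_lit 15) dMT dS dSC 4 := actAll_of (by decide +kernel)
noncomputable def dOT : Tr ℕ := (.node (nat_lit 2) (.node (nat_lit 1) (.leaf (nat_lit 2)) (.leaf (nat_lit 5))) (.node (nat_lit 3) (.leaf (nat_lit 5)) (.leaf (nat_lit 2))))
theorem dpw : (allB 4 fun j => band (powChk C2 4 (dMT.get j) (dOT.get j)) (band (Nat.ble 1 (dOT.get j)) (quadChk C2 4 (BM 1) (dMT.get j)))) = true := by decide +kernel
theorem dch {F : Type*} [Field F] [Fintype F] (hF : Fintype.card F = 2) :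
    Ch (Cfsg.isometryGroup F (Cfsg.quadFormMinus 1 F 1 1)) 15 (nat_lit 4) (nat_lit 15) (ptL (τGL (Cfsg.isometryGroup F (Cfsg.quadFormMinus 1 F 1 1))) C2 Nat.cast (ixM 1) false dV) dT dL :=
  (exm2 hF).chO ix_m1 bm1 dpts dact dpw dslp (by decide +kernel) ((Cfsg.Agent.S0288.result hF 2 (by norm_num) 1 1 (aniso hF)).trans (by decide +kernel)).le
noncomputable def et0 : ℕ := (nat_lit 0xa9bced781243560)
noncomputable def et1 : ℕ := (nat_lit 0xa93412cb6578de0)
noncomputable def et2 : ℕ := (nat_lit 0x1287ed3465bc9a0)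
noncomputable def et3 : ℕ := (nat_lit 0xa897ecdb6453201)
noncomputable def eT : Tr ℕ := (.node (nat_lit 2) (.node (nat_lit 1) (.leaf et0) (.leaf et1)) (.node (nat_lit 3) (.leaf et2) (.leaf et3)))
noncomputable def eR : Tr (List ℕ) := (.node (nat_lit 4) (.node (nat_lit 2) (.node (nat_lit 1) (.leaf [nat_lit 0, nat_lit 0]) (.leaf [nat_lit 1, nat_lit 0, nat_lit 1, nat_lit 0, nat_lit 1, nat_lit 0])) (.node (nat_lit 3) (.leaf [nat_lit 1, nat_lit 2]) (.leaf [nat_lit 3, nat_lit 0, nat_lit 3, nat_lit 1, nat_lit 3, nat_lit 0, nat_lit 3, nat_lit 1])))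
 (.node (nat_lit 6) (.node (nat_lit 5) (.leaf [nat_lit 1, nat_lit 1, nat_lit 1]) (.leaf [nat_lit 3, nat_lit 3])) (.node (nat_lit 7) (.leaf [nat_lit 3, nat_lit 0, nat_lit 3, nat_lit 0, nat_lit 3, nat_lit 0]) (.leaf [nat_lit 3, nat_lit 1, nat_lit 3, nat_lit 1, nat_lit 3, nat_lit 1]))))
noncomputable def eL0 : Lev := ⟨(nat_lit 0), (nat_lit 4), (nat_lit 0x30000000200000001000000000400), (nat_lit 0x20000000200000002000000000100),
 (.node (nat_lit 2) (.node (nat_lit 1) (.leaf (nat_lit 0x400000000000000050000000000000000000000000000000000010000))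
 (.leaf (nat_lit 0x200000000000000000000000000000003000000000000000000010000)))
 (.node (nat_lit 3) (.leaf (nat_lit 0x30000000000000004000000000000000000010000))
 (.leaf (nat_lit 0x200000000000000030000000000000002000000000000000000000001)))),
 (.node (nat_lit 2) (.node (nat_lit 1) (.leaf (nat_lit 0x101000000000000000000000001000000000000000000000000000000000000000000000000000001000000))
 (.leaf (nat_lit 0x401000000000000000000000000000000000000000000000303000000000000000000000000000200000000)))
 (.node (nat_lit 3) (.leaf (nat_lit 0x201000000000000000000000201000000000000000000000000000201000000))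
 (.leaf (nat_lit 0x702000000000000000000000501000000000000000000000602000000000000000000000000000000000501))))⟩
noncomputable def eL1 : Lev := ⟨(nat_lit 3), (nat_lit 3), (nat_lit 0x2010000030100000300000000), (nat_lit 0x1020000010200000300000000),
 (.node (nat_lit 1) (.leaf (nat_lit 0x1000000000000000100000000000000040000000000000000))
 (.node (nat_lit 2) (.leaf (nat_lit 0x100000000000200020000000000030001000000000000))
 (.leaf (nat_lit 0x3000300000000000000040000000000000001000000000000)))),
 (.node (nat_lit 1) (.leaf (nat_lit 0x105000000000000000000000000))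
 (.node (nat_lit 2) (.leaf (nat_lit 0x200000000000000000401000102000000000000000402000200000000000000000000))
 (.leaf (nat_lit 0x201000201000000000000000000000201000000000000000000000201000000000000000000))))⟩
noncomputable def eL2 : Lev := ⟨(nat_lit 1), (nat_lit 1), (nat_lit 0x1000000000000), (nat_lit 0x1000000000000),
 (.leaf (nat_lit 0x10000)),
 (.leaf (nat_lit 0x1000000))⟩
noncomputable def eL : List Lev := [eL0, eL1, eL2]
noncomputable def eE : Tr (List ℕ) := (.node (nat_lit 2) (.node (nat_lit 1) (.leaf [nat_lit 0, nat_lit 1, nat_lit 0]) (.leaf [nat_lit 1, nat_lit 0, nat_lit 2, nat_lit 0])) (.node (nat_lit 3) (.leaf [nat_lit 0, nat_lit 2, nat_lit 0, nat_lit 1]) (.leaf [nat_lit 1, nat_lit 0, nat_lit 1, nat_lit 0, nat_lit 1])))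
theorem ew_0 : eT.all2 (fun c w => isProd 15 (nat_lit 4) (nat_lit 15) dT c w) eE = true := by decide +kernel
theorem ew : eT.all2 (fun c w => isProd 15 (nat_lit 4) (nat_lit 15) dT c w) eE = true := ew_0
theorem elev0 : levChk 15 (nat_lit 4) (nat_lit 15) eT eR eL0 eL1.N = true := by decide +kernel
theorem elev1 : levChk 15 (nat_lit 4) (nat_lit 15) eT eR eL1 eL2.N = true := by decide +kernel
theorem elev2 : levChk 15 (nat_lit 4) (nat_lit 15) eT eR eL2 0 = true := by decide +kernel
theorem echain : Chain 15 (nat_lit 4) (nat_lit 15) eT eR eL := chain_cons elev0 <| chain_cons elev1 <| chain_one elev2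
theorem esd : band (selChk eT eT (topN eL)) (eR.all fun w => eqB (dL.map Lev.b) (apL (nat_lit 4) (nat_lit 15) eT w) fun a => a) = true := by decide +kernel
theorem etc : tchainChk 15 (nat_lit 4) (nat_lit 15) eT eL = true := by decide +kernel
noncomputable def es0 : ℕ := (nat_lit 0xab9c1423e7d8506)
noncomputable def es1 : ℕ := (nat_lit 0x1c8567b20d943ae)
noncomputable def es2 : ℕ := (nat_lit 0x64bdec3502978a1)
noncomputable def es3 : ℕ := (nat_lit 0x5d814c9ab327e6)
noncomputable def es4 : ℕ := (nat_lit 0x12cb6578a934de0)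
noncomputable def es5 : ℕ := (nat_lit 0xed3465bc12879a0)
noncomputable def es6 : ℕ := (nat_lit 0xed781243a9bc560)
noncomputable def es7 : ℕ := (nat_lit 0xa9bced781243560)
noncomputable def es8 : ℕ := (nat_lit 0xa93412cb6578de0)
noncomputable def es9 : ℕ := (nat_lit 0x1287ed3465bc9a0)
noncomputable def es10 : ℕ := (nat_lit 0xa897ecdb6453201)
noncomputable def eS : Tr ℕ := (.node (nat_lit 5) (.node (nat_lit 2) (.node (nat_lit 1) (.leaf es0) (.leaf es1)) (.node (nat_lit 3) (.leaf es2) (.node (nat_lit 4) (.leaf es3) (.leaf es4))))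
 (.node (nat_lit 8) (.node (nat_lit 6) (.leaf es5) (.node (nat_lit 7) (.leaf es6) (.leaf es7))) (.node (nat_lit 9) (.leaf es8) (.node (nat_lit 10) (.leaf es9) (.leaf es10)))))
noncomputable def eD : Tr (List ℕ) := (.node (nat_lit 5) (.node (nat_lit 2) (.node (nat_lit 1) (.leaf []) (.leaf [])) (.node (nat_lit 3) (.leaf [nat_lit 0, nat_lit 0, nat_lit 0, nat_lit 0]) (.node (nat_lit 4) (.leaf [nat_lit 1, nat_lit 1, nat_lit 1, nat_lit 1]) (.leaf [nat_lit 3, nat_lit 3, nat_lit 2]))))
 (.node (nat_lit 8) (.node (nat_lit 6) (.leaf [nat_lit 0, nat_lit 3, nat_lit 0, nat_lit 1]) (.node (nat_lit 7) (.leaf [nat_lit 3, nat_lit 2, nat_lit 1, nat_lit 2]) (.leaf [nat_lit 5, nat_lit 4, nat_lit 6]))) (.node (nat_lit 9) (.leaf [nat_lit 5, nat_lit 4]) (.node (nat_lit 10) (.leaf [nat_lit 8, nat_lit 8]) (.leaf [nat_lit 2, nat_lit 5, nat_lit 4, nat_lit 7])))))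
theorem eslp : slpChk 15 (nat_lit 4) (nat_lit 15) eS eD 2 9 = true := by decide +kernel
noncomputable def eU : Tr ℕ := (.node (nat_lit 2) (.node (nat_lit 1) (.leaf (nat_lit 0xa83502db6479ce1)) (.leaf (nat_lit 0xab9c1423e7d8506))) (.node (nat_lit 3) (.leaf (nat_lit 0x647902dba835ce1)) (.leaf (nat_lit 0x67b20d941c853ae))))
noncomputable def euE : Tr (List ℕ) := (.node (nat_lit 2) (.node (nat_lit 1) (.leaf [nat_lit 0, nat_lit 1, nat_lit 0, nat_lit 2, nat_lit 0]) (.leaf [nat_lit 1, nat_lit 0, nat_lit 2, nat_lit 0, nat_lit 1, nat_lit 0, nat_lit 1, nat_lit 0])) (.node (nat_lit 3) (.leaf [nat_lit 2, nat_lit 1, nat_lit 0, nat_lit 2, nat_lit 0, nat_lit 1]) (.leaf [nat_lit 2, nat_lit 1, nat_lit 0, nat_lit 2, nat_lit 1, nat_lit 0, nat_lit 1, nat_lit 0, nat_lit 1, nat_lit 0])))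
theorem euw_0 : eU.all2 (fun c w => isProd 15 (nat_lit 4) (nat_lit 15) dT c w) euE = true := by decide +kernel
theorem euw : eU.all2 (fun c w => isProd 15 (nat_lit 4) (nat_lit 15) dT c w) euE = true := euw_0
theorem ech {F : Type*} [Field F] [Fintype F] (hF : Fintype.card F = 2) :
    (commutator (Cfsg.isometryGroup F (Cfsg.quadFormMinus 1 F 1 1))).index = 2 ∧ Ch (commutator (Cfsg.isometryGroup F (Cfsg.quadFormMinus 1 F 1 1))) 15 (nat_lit 4) (nat_lit 15) (ptL (τGL (Cfsg.isometryGroup F (Cfsg.quadFormMinus 1 F 1 1))) C2 Nat.cast (ixM 1) false dV) eT eL :=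
  have C := dch hF
  let ⟨_, D, _⟩ := (C.gen (lets_words C.lets eE ew) echain esd etc)
  C.der2 D (lets_slp' (lets_comm (N := 4) (fun j _ => lets_words C.lets euE euw j) (.node (nat_lit 1) (.leaf 0) (.leaf 2)) (.node (nat_lit 1) (.leaf 1) (.leaf 3)) (by decide +kernel)) eslp (by decide +kernel)) (by decide +kernel)
noncomputable def fs0 : ℕ := (nat_lit 0x5d814c9ab327e6)
noncomputable def fs1 : ℕ := (nat_lit 0x12cb6578a934de0)
noncomputable def fs2 : ℕ := (nat_lit 0x1c8567b20d943ae)
noncomputable def fs3 : ℕ := (nat_lit 0x6543edcba987210)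
noncomputable def fs4 : ℕ := (nat_lit 0xa9876543edcb210)
noncomputable def fs5 : ℕ := (nat_lit 0xa9bced781243560)
noncomputable def fs6 : ℕ := (nat_lit 0xa93412cb6578de0)
noncomputable def fs7 : ℕ := (nat_lit 0x1287ed3465bc9a0)
noncomputable def fs8 : ℕ := (nat_lit 0xa897ecdb6453201)
noncomputable def fS : Tr ℕ := (.node (nat_lit 4) (.node (nat_lit 2) (.node (nat_lit 1) (.leaf fs0) (.leaf fs1)) (.node (nat_lit 3) (.leaf fs2) (.leaf fs3)))
 (.node (nat_lit 6) (.node (nat_lit 5) (.leaf fs4) (.leaf fs5)) (.node (nat_lit 7) (.leaf fs6) (.node (nat_lit 8) (.leaf fs7) (.leaf fs8)))))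
noncomputable def fD : Tr (List ℕ) := (.node (nat_lit 4) (.node (nat_lit 2) (.node (nat_lit 1) (.leaf []) (.leaf [])) (.node (nat_lit 3) (.leaf [nat_lit 0, nat_lit 0, nat_lit 0, nat_lit 0]) (.leaf [nat_lit 0, nat_lit 0, nat_lit 1, nat_lit 2])))
 (.node (nat_lit 6) (.node (nat_lit 5) (.leaf [nat_lit 0, nat_lit 1, nat_lit 2, nat_lit 2]) (.leaf [nat_lit 1, nat_lit 4, nat_lit 1, nat_lit 3])) (.node (nat_lit 7) (.leaf [nat_lit 3, nat_lit 1, nat_lit 5]) (.node (nat_lit 8) (.leaf [nat_lit 6, nat_lit 6]) (.leaf [nat_lit 1, nat_lit 2, nat_lit 5])))))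
theorem fslp : slpChk 15 (nat_lit 4) (nat_lit 15) fS fD 2 7 = true := by decide +kernel
noncomputable def fz : ℕ := (nat_lit 0x5d814c9ab327e6)
noncomputable def fzw : List ℕ := [nat_lit 0, nat_lit 3, nat_lit 1, nat_lit 0, nat_lit 2, nat_lit 0]
theorem fzp : isProd 15 (nat_lit 4) (nat_lit 15) eT fz fzw = true := by decide +kernel
noncomputable def fx : ℕ := (nat_lit 0x12cb6578a934de0)
noncomputable def fxw : List ℕ := [nat_lit 1, nat_lit 0, nat_lit 2, nat_lit 0]
theorem fxp : isProd 15 (nat_lit 4) (nat_lit 15) eT fx fxw = true := by decide +kernel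
theorem h4m (f : commutator (Cfsg.isometryGroup (ZMod 2) (Cfsg.quadFormMinus 1 (ZMod 2) 1 1)) → _) (h : Coc ((τGL (Cfsg.isometryGroup (ZMod 2) (Cfsg.quadFormMinus 1 (ZMod 2) 1 1))).comp (commutator _).subtype) f) : ∃ v, ∀ g, f g = Matrix.mulVec (((τGL (Cfsg.isometryGroup (ZMod 2) (Cfsg.quadFormMinus 1 (ZMod 2) 1 1))).comp (commutator _).subtype) g) v - v := by
  have hF := ZMod.card 2
  have C := dch hF
  have D := (ech hF).2
  have rz := (rep_word D.lets fzw fzp)
  have rx := (rep_word D.lets fxw fxp)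
  have mz : τGL _ (ev D.lets.e fzw).1 = decM C2 Nat.cast (ixM 1) (dMT.get 2) := (let ⟨g, e⟩ := (exm2 hF).exO ix_m1 bm1 dpw 2 (by norm_num); (congrArg (τGL _) (C.lift (dact.rep (exm2 hF) ix_m1 (j := 2) (by norm_num) e) rz)).trans e)
  have mx : τGL _ (ev D.lets.e fxw).1 = decM C2 Nat.cast (ixM 1) (dMT.get 3) := (let ⟨g, e⟩ := (exm2 hF).exO ix_m1 bm1 dpw 3 (by norm_num); (congrArg (τGL _) (C.lift (dact.rep (exm2 hF) ix_m1 (j := 3) (by norm_num) e) rx)).trans e)
  refine h.triv (z := ev D.lets.e fzw) (by erw [mz]; decide +kernel) fun f h hz => D.mem_lets (lets_slp _ (fun j hj => ?_) fslp (by decide +kernel))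
  interval_cases j
  · exact ⟨_, hz, rz⟩
  · exact ⟨_, h.a5 hz ((eqB_iff D.base D.inj (rx.comp rx) (RepF.id _ _)).1 (by decide +kernel))
      ((eqB_iff D.base D.inj ((rx.comp rz).comp ((rx.comp rz).comp (rx.comp rz))) (RepF.id _ _)).1 (by decide +kernel))
      (by
        rw [show (τGL _).comp (commutator _).subtype (ev D.lets.e fzw) = _ from mz,
          show (τGL _).comp (commutator _).subtype (ev D.lets.e fxw) = _ from mx]
        decide +kernel), rx⟩
noncomputable def ht0 : ℕ := (nat_lit 0x3bf3dfb9eb7e34cf6d72c70bebb2dba9aa7a248e69628607db71d7996976144d65524503cb30d3892872040c6142040)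
noncomputable def ht1 : ℕ := (nat_lit 0x33d3cefae71cb6d7dfb7e30be392caeaa618a696dba7a207d351c6da65149655d7976103c310c2ca24108614d387200)
noncomputable def ht2 : ℕ := (nat_lit 0x31ebccfddb0df9cb4ef5fb8be1aac8ed9a09e98a4ae5ba87d169c4dd5905d94946d57983c128c0cd1801c90842c5388)
noncomputable def ht3 : ℕ := (nat_lit 0x2f9aaeece7582de348728e7f9fdbaafca65c3da24c62cf7b9e1c348151834055931b2863ce5d309110875014970b696)
noncomputable def ht4 : ℕ := (nat_lit 0x4f5a7c0e5e8ea3f436e4f02721ec5762e845c942dd8846ef80666fc1625d6ac8c529ccd4ecd0a4abd4b6067e0e477a)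
noncomputable def hT : Tr ℕ := (.node (nat_lit 2) (.node (nat_lit 1) (.leaf ht0) (.leaf ht1)) (.node (nat_lit 3) (.leaf ht2) (.node (nat_lit 4) (.leaf ht3) (.leaf ht4))))
noncomputable def hL0 : Lev := ⟨(nat_lit 15), (nat_lit 5), (nat_lit 0x20000030000040200050001030203040500000100000204000400050204040505000001000001040005000502030500000501000305000001000500000000), (nat_lit 0x30000030000020300010002020303040300000400000404000500040503040403000004000005040005000405040500000304000405000005000400000000),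
 (.leaf 0),
 (.leaf 0)⟩
noncomputable def hL1 : Lev := ⟨(nat_lit 31), (nat_lit 4), (nat_lit 0x30000030000020100010004030403040400000100000201000100020303030000000000000000000000000000000000000000000000000000000000000000), (nat_lit 0x40000040000040500040003050305050100000200000304000300020402040000000000000000000000000000000000000000000000000000000000000000),
 (.leaf 0),
 (.leaf 0)⟩
noncomputable def hL2 : Lev := ⟨(nat_lit 0), (nat_lit 3), (nat_lit 0x30000010000030100030002020200), (nat_lit 0x30000040000010200040004030200),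
 (.leaf 0),
 (.leaf 0)⟩
noncomputable def hL3 : Lev := ⟨(nat_lit 1), (nat_lit 2), (nat_lit 0x20100000000020000), (nat_lit 0x10200000000030000),
 (.leaf 0),
 (.leaf 0)⟩
noncomputable def hL4 : Lev := ⟨(nat_lit 3), (nat_lit 1), (nat_lit 0x10000000000), (nat_lit 0x10000000000),
 (.leaf 0),
 (.leaf 0)⟩
noncomputable def hL : List Lev := [hL0, hL1, hL2, hL3, hL4]
noncomputable def hs0 : ℕ := (nat_lit 0x1121d11c150276afa7f78b3ba0e6cd6dd21e0378748a3c66cd50160064c56abe6ee3fa7cbc970a71a3d9170933962da)
noncomputable def hs1 : ℕ := (nat_lit 0xc076dd951fba69dc46ff891136ad8022f8d7dc032a89526d076a8c523bcbacc036b8956071b1f1e3e4a61b175b4e4e)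
noncomputable def hs2 : ℕ := (nat_lit 0xcda93c0ea56c8cad4c4fa15e0685eec589be4781de848dcf809d8f43919fc1997f0295ad4bb11d88bd0d0ab52dc9b9)
noncomputable def hs3 : ℕ := (nat_lit 0x1120e4f4b67cb6ae9c0f28c56faacd562c94143474b1a2ece5f3a7c065b1825dd123fb8843798062dfd920e7b98571a)
noncomputable def hs4 : ℕ := (nat_lit 0x3198b616068efc9c2557325cb7b0549c1e2d768486d11abe0a7747ede8f103439ba0cde2404fea63c1938d6af92af54)
noncomputable def hs5 : ℕ := (nat_lit 0x31216af901e8fd11a7f53129cdd2a3c5f225c1e266c9c2e4e5702ded50abe940ece1606ed983e0d1a362d5b321dd93a)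
noncomputable def hs6 : ℕ := (nat_lit 0x319bc9fab73824be9fabe22d61dacdeaf63c347f9bbba3295301a35c1d118254b6097843c340a74c5c159215b219394)
noncomputable def hs7 : ℕ := (nat_lit 0x33a7c8ba931aedbe6e20fa7d63e6ccaad21efd7f6a30bb79512da11c09324754078660d3c16ca50c48365715039621d)
noncomputable def hs8 : ℕ := (nat_lit 0x2293ddfce9f966839ef8fa3872d2d9ecaafd76c29ae8bb3c5058b24e2114d448734a3153c019b65e6010c409775a705)
noncomputable def hs9 : ℕ := (nat_lit 0x31f3acf9d32ee69ed82e7e5a21b2a8e9922af6dfdc3ebf5e0a0c13022c911d4165d561e3da4d17126d950d0061c520e)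
noncomputable def hs10 : ℕ := (nat_lit 0x31eb9cbddb5fbccf4ef0df8be1aa98ad9a5bac8e4ae09e87d169949d59579c4d46d05d83c128908d18538c0c42c01c8)
noncomputable def hs11 : ℕ := (nat_lit 0x37eb6cfdf30c79e34d7bfb2be7aa68edb20869a2496bba27d76964dd71045961455b7923c72860cd30004920414b382)
noncomputable def hs12 : ℕ := (nat_lit 0x3ef3def6d35cfae39df2c31beeb2dae69258eaa299e28217de71d6d65154da6195d24113ce30d2c61050ca2091c2001)
noncomputable def hs13 : ℕ := (nat_lit 0x3bf3dfb9eb7e34cf6d72c70bebb2dba9aa7a248e69628607db71d7996976144d65524503cb30d3892872040c6142040)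
noncomputable def hs14 : ℕ := (nat_lit 0x3ef76d7ae72c7cef4cf8df0beeb6696aa6286cae48e89e07de75655a65245c6d44d85d03ce34614a24204c2c40c81c0)
noncomputable def hs15 : ℕ := (nat_lit 0x33d3cefae71cb6d7dfb7e30be392caeaa618a696dba7a207d351c6da65149655d7976103c310c2ca24108614d387200)
noncomputable def hs16 : ℕ := (nat_lit 0x31ebccfddb0df9cb4ef5fb8be1aac8ed9a09e98a4ae5ba87d169c4dd5905d94946d57983c128c0cd1801c90842c5388)
noncomputable def hs17 : ℕ := (nat_lit 0x2f9aaeece7582de348728e7f9fdbaafca65c3da24c62cf7b9e1c348151834055931b2863ce5d309110875014970b696)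
noncomputable def hs18 : ℕ := (nat_lit 0x4f5a7c0e5e8ea3f436e4f02721ec5762e845c942dd8846ef80666fc1625d6ac8c529ccd4ecd0a4abd4b6067e0e477a)
noncomputable def hS : Tr ℕ := (.node (nat_lit 9) (.node (nat_lit 4) (.node (nat_lit 2) (.node (nat_lit 1) (.leaf hs0) (.leaf hs1)) (.node (nat_lit 3) (.leaf hs2) (.leaf hs3)))
 (.node (nat_lit 6) (.node (nat_lit 5) (.leaf hs4) (.leaf hs5)) (.node (nat_lit 7) (.leaf hs6) (.node (nat_lit 8) (.leaf hs7) (.leaf hs8)))))
 (.node (nat_lit 14) (.node (nat_lit 11) (.node (nat_lit 10) (.leaf hs9) (.leaf hs10)) (.node (nat_lit 12) (.leaf hs11) (.node (nat_lit 13) (.leaf hs12) (.leaf hs13))))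
 (.node (nat_lit 16) (.node (nat_lit 15) (.leaf hs14) (.leaf hs15)) (.node (nat_lit 17) (.leaf hs16) (.node (nat_lit 18) (.leaf hs17) (.leaf hs18))))))
noncomputable def hD : Tr (List ℕ) := (.node (nat_lit 9) (.node (nat_lit 4) (.node (nat_lit 2) (.node (nat_lit 1) (.leaf []) (.leaf [])) (.node (nat_lit 3) (.leaf []) (.leaf [nat_lit 0, nat_lit 0, nat_lit 0, nat_lit 0, nat_lit 0])))
 (.node (nat_lit 6) (.node (nat_lit 5) (.leaf [nat_lit 1, nat_lit 1, nat_lit 1, nat_lit 1, nat_lit 1, nat_lit 1, nat_lit 1, nat_lit 1, nat_lit 1, nat_lit 1, nat_lit 1]) (.leaf [nat_lit 2, nat_lit 2])) (.node (nat_lit 7) (.leaf [nat_lit 1, nat_lit 2, nat_lit 3, nat_lit 3]) (.node (nat_lit 8) (.leaf [nat_lit 0, nat_lit 0, nat_lit 5, nat_lit 4]) (.leaf [nat_lit 1, nat_lit 0, nat_lit 0, nat_lit 0])))))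
 (.node (nat_lit 14) (.node (nat_lit 11) (.node (nat_lit 10) (.leaf [nat_lit 3, nat_lit 3, nat_lit 3, nat_lit 4]) (.leaf [nat_lit 9, nat_lit 7, nat_lit 9])) (.node (nat_lit 12) (.leaf [nat_lit 8, nat_lit 6, nat_lit 8]) (.node (nat_lit 13) (.leaf [nat_lit 6, nat_lit 8, nat_lit 6, nat_lit 6, nat_lit 6, nat_lit 9, nat_lit 6, nat_lit 9]) (.leaf [nat_lit 10, nat_lit 12, nat_lit 11]))))
 (.node (nat_lit 16) (.node (nat_lit 15) (.leaf [nat_lit 12, nat_lit 11, nat_lit 11, nat_lit 11, nat_lit 12]) (.leaf [nat_lit 13, nat_lit 14, nat_lit 13])) (.node (nat_lit 17) (.leaf [nat_lit 10, nat_lit 14]) (.node (nat_lit 18) (.leaf [nat_lit 6, nat_lit 13, nat_lit 7, nat_lit 12]) (.leaf [nat_lit 5, nat_lit 0, nat_lit 7, nat_lit 11, nat_lit 7, nat_lit 13, nat_lit 10]))))))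
theorem hslp : slpChk 63 (nat_lit 6) (nat_lit 63) hS hD 3 16 = true := by decide +kernel
noncomputable def hV : Tr ℕ := (.node (nat_lit 31) (.node (nat_lit 15) (.node (nat_lit 7) (.node (nat_lit 3) (.node (nat_lit 1) (.leaf (nat_lit 1)) (.node (nat_lit 2) (.leaf (nat_lit 2)) (.leaf (nat_lit 3))))
 (.node (nat_lit 5) (.node (nat_lit 4) (.leaf (nat_lit 4)) (.leaf (nat_lit 5))) (.node (nat_lit 6) (.leaf (nat_lit 6)) (.leaf (nat_lit 7)))))
 (.node (nat_lit 11) (.node (nat_lit 9) (.node (nat_lit 8) (.leaf (nat_lit 8)) (.leaf (nat_lit 9))) (.node (nat_lit 10) (.leaf (nat_lit 10)) (.leaf (nat_lit 11))))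
 (.node (nat_lit 13) (.node (nat_lit 12) (.leaf (nat_lit 12)) (.leaf (nat_lit 13))) (.node (nat_lit 14) (.leaf (nat_lit 14)) (.leaf (nat_lit 15))))))
 (.node (nat_lit 23) (.node (nat_lit 19) (.node (nat_lit 17) (.node (nat_lit 16) (.leaf (nat_lit 16)) (.leaf (nat_lit 17))) (.node (nat_lit 18) (.leaf (nat_lit 18)) (.leaf (nat_lit 19))))
 (.node (nat_lit 21) (.node (nat_lit 20) (.leaf (nat_lit 20)) (.leaf (nat_lit 21))) (.node (nat_lit 22) (.leaf (nat_lit 22)) (.leaf (nat_lit 23)))))
 (.node (nat_lit 27) (.node (nat_lit 25) (.node (nat_lit 24) (.leaf (nat_lit 24)) (.leaf (nat_lit 25))) (.node (nat_lit 26) (.leaf (nat_lit 26)) (.leaf (nat_lit 27))))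
 (.node (nat_lit 29) (.node (nat_lit 28) (.leaf (nat_lit 28)) (.leaf (nat_lit 29))) (.node (nat_lit 30) (.leaf (nat_lit 30)) (.leaf (nat_lit 31)))))))
 (.node (nat_lit 47) (.node (nat_lit 39) (.node (nat_lit 35) (.node (nat_lit 33) (.node (nat_lit 32) (.leaf (nat_lit 32)) (.leaf (nat_lit 33))) (.node (nat_lit 34) (.leaf (nat_lit 34)) (.leaf (nat_lit 35))))
 (.node (nat_lit 37) (.node (nat_lit 36) (.leaf (nat_lit 36)) (.leaf (nat_lit 37))) (.node (nat_lit 38) (.leaf (nat_lit 38)) (.leaf (nat_lit 39)))))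
 (.node (nat_lit 43) (.node (nat_lit 41) (.node (nat_lit 40) (.leaf (nat_lit 40)) (.leaf (nat_lit 41))) (.node (nat_lit 42) (.leaf (nat_lit 42)) (.leaf (nat_lit 43))))
 (.node (nat_lit 45) (.node (nat_lit 44) (.leaf (nat_lit 44)) (.leaf (nat_lit 45))) (.node (nat_lit 46) (.leaf (nat_lit 46)) (.leaf (nat_lit 47))))))
 (.node (nat_lit 55) (.node (nat_lit 51) (.node (nat_lit 49) (.node (nat_lit 48) (.leaf (nat_lit 48)) (.leaf (nat_lit 49))) (.node (nat_lit 50) (.leaf (nat_lit 50)) (.leaf (nat_lit 51))))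
 (.node (nat_lit 53) (.node (nat_lit 52) (.leaf (nat_lit 52)) (.leaf (nat_lit 53))) (.node (nat_lit 54) (.leaf (nat_lit 54)) (.leaf (nat_lit 55)))))
 (.node (nat_lit 59) (.node (nat_lit 57) (.node (nat_lit 56) (.leaf (nat_lit 56)) (.leaf (nat_lit 57))) (.node (nat_lit 58) (.leaf (nat_lit 58)) (.leaf (nat_lit 59))))
 (.node (nat_lit 61) (.node (nat_lit 60) (.leaf (nat_lit 60)) (.leaf (nat_lit 61))) (.node (nat_lit 62) (.leaf (nat_lit 62)) (.leaf (nat_lit 63))))))))
theorem hpts : ptR C2 6 false hV 63 0 63 = true := by decide +kernel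
noncomputable def hM0 : Sp := [[(nat_lit 0, nat_lit 1), (nat_lit 2, nat_lit 1), (nat_lit 3, nat_lit 1), (nat_lit 4, nat_lit 1)],
  [(nat_lit 0, nat_lit 1), (nat_lit 2, nat_lit 1), (nat_lit 4, nat_lit 1)],
  [(nat_lit 1, nat_lit 1), (nat_lit 2, nat_lit 1), (nat_lit 3, nat_lit 1), (nat_lit 5, nat_lit 1)],
  [(nat_lit 0, nat_lit 1), (nat_lit 1, nat_lit 1), (nat_lit 2, nat_lit 1), (nat_lit 5, nat_lit 1)],
  [(nat_lit 0, nat_lit 1), (nat_lit 4, nat_lit 1), (nat_lit 5, nat_lit 1)],
  [(nat_lit 3, nat_lit 1), (nat_lit 4, nat_lit 1)]]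
noncomputable def hM1 : Sp := [[(nat_lit 0, nat_lit 1), (nat_lit 2, nat_lit 1), (nat_lit 4, nat_lit 1)],
  [(nat_lit 0, nat_lit 1), (nat_lit 1, nat_lit 1), (nat_lit 2, nat_lit 1), (nat_lit 3, nat_lit 1)],
  [(nat_lit 0, nat_lit 1), (nat_lit 2, nat_lit 1), (nat_lit 5, nat_lit 1)],
  [(nat_lit 0, nat_lit 1), (nat_lit 1, nat_lit 1), (nat_lit 3, nat_lit 1), (nat_lit 4, nat_lit 1), (nat_lit 5, nat_lit 1)],
  [(nat_lit 1, nat_lit 1), (nat_lit 2, nat_lit 1), (nat_lit 4, nat_lit 1), (nat_lit 5, nat_lit 1)],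
  [(nat_lit 1, nat_lit 1), (nat_lit 3, nat_lit 1)]]
noncomputable def hM2 : Sp := [[(nat_lit 1, nat_lit 1)],
  [(nat_lit 0, nat_lit 1), (nat_lit 1, nat_lit 1)],
  [(nat_lit 1, nat_lit 1), (nat_lit 2, nat_lit 1), (nat_lit 3, nat_lit 1), (nat_lit 4, nat_lit 1), (nat_lit 5, nat_lit 1)],
  [(nat_lit 0, nat_lit 1), (nat_lit 2, nat_lit 1), (nat_lit 4, nat_lit 1)],
  [(nat_lit 0, nat_lit 1), (nat_lit 5, nat_lit 1)],
  [(nat_lit 0, nat_lit 1), (nat_lit 1, nat_lit 1), (nat_lit 4, nat_lit 1), (nat_lit 5, nat_lit 1)]]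
noncomputable def hMT : Tr Sp := (.node (nat_lit 1) (.leaf hM0) (.node (nat_lit 2) (.leaf hM1) (.leaf hM2)))
noncomputable def hSC : Tr ℕ := (.node (nat_lit 1) (.leaf (nat_lit 0x7fffffffffffffff)) (.node (nat_lit 2) (.leaf (nat_lit 0x7fffffffffffffff)) (.leaf (nat_lit 0x7fffffffffffffff))))
theorem hact : ActAll C2 6 false hV 63 (nat_lit 6) (nat_lit 63) hMT hS hSC 3 := actAll_of (by decide +kernel)
noncomputable def hOT : Tr ℕ := (.node (nat_lit 1) (.leaf (nat_lit 6)) (.node (nat_lit 2) (.leaf (nat_lit 12)) (.leaf (nat_lit 3))))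
theorem hpw : (allB 3 fun j => band (powChk C2 6 (hMT.get j) (hOT.get j)) (band (Nat.ble 1 (hOT.get j)) (quadChk C2 6 (BM 2) (hMT.get j)))) = true := by decide +kernel
theorem hch {F : Type*} [Field F] [Fintype F] (hF : Fintype.card F = 2) :
    Ch (Cfsg.isometryGroup F (Cfsg.quadFormMinus 2 F 1 1)) 63 (nat_lit 6) (nat_lit 63) (ptL (τGL (Cfsg.isometryGroup F (Cfsg.quadFormMinus 2 F 1 1))) C2 Nat.cast (ixM 2) false hV) hT hL :=
  (exm2 hF).chO ix_m2 bm2 hpts hact hpw hslp (by decide +kernel) ((Cfsg.Agent.S0288.result hF 3 (by norm_num) 1 1 (aniso hF)).trans (by decide +kernel)).le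
noncomputable def it0 : ℕ := (nat_lit 0x2eb6caeaa689e69648e28607de75c6da6585d65544d24503fef7cefae78df6d74cf2c70bce34c2ca2481c61440c2040)
noncomputable def it1 : ℕ := (nat_lit 0x1e75c6da6585d65544d24503fef7cefae78df6d74cf2c70beeb6caeaa689e69648e28607ce34c2ca2481c61440c2040)
noncomputable def it2 : ℕ := (nat_lit 0x1e75c6f9eb7e165544f1cafc0d38b32aa689c51831228607fef7ced9697636d74cd148f42dbabb0a2481e59a3902040)
noncomputable def it3 : ℕ := (nat_lit 0x3bf3dfaaa689e69648efc31cabb2dbbae78df6d74cdf82189e75c6c72092831051924503ce34c2d7619693515582040)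
noncomputable def it4 : ℕ := (nat_lit 0x2eb6696aa6286cae48e89e07fef76d7ae72c7cef4cf8df0bde75655a65245c6d44d85d03ce34614a24204c2c40c81c0)
noncomputable def it5 : ℕ := (nat_lit 0x13f793d6f3849ac34797c756e7045aea004ba63088a33497f3759bf6718cba414fb7455ec78652ca824386b28083b69)
noncomputable def iT : Tr ℕ := (.node (nat_lit 3) (.node (nat_lit 1) (.leaf it0) (.node (nat_lit 2) (.leaf it1) (.leaf it2))) (.node (nat_lit 4) (.leaf it3) (.node (nat_lit 5) (.leaf it4) (.leaf it5))))
noncomputable def iR : Tr (List ℕ) := (.node (nat_lit 9) (.node (nat_lit 4) (.node (nat_lit 2) (.node (nat_lit 1) (.leaf [nat_lit 4, nat_lit 0, nat_lit 4, nat_lit 0]) (.leaf [nat_lit 3, nat_lit 0, nat_lit 3, nat_lit 0, nat_lit 3, nat_lit 0])) (.node (nat_lit 3) (.leaf [nat_lit 5, nat_lit 0, nat_lit 5, nat_lit 0, nat_lit 5, nat_lit 0, nat_lit 5, nat_lit 0]) (.leaf [nat_lit 0, nat_lit 1])))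
 (.node (nat_lit 6) (.node (nat_lit 5) (.leaf [nat_lit 2, nat_lit 0, nat_lit 2, nat_lit 0, nat_lit 2, nat_lit 0]) (.leaf [nat_lit 0, nat_lit 3, nat_lit 1, nat_lit 5, nat_lit 1, nat_lit 5, nat_lit 3, nat_lit 5, nat_lit 0, nat_lit 5])) (.node (nat_lit 7) (.leaf [nat_lit 0, nat_lit 0, nat_lit 0]) (.node (nat_lit 8) (.leaf [nat_lit 0, nat_lit 4, nat_lit 5, nat_lit 2, nat_lit 5]) (.leaf [nat_lit 3, nat_lit 1, nat_lit 2, nat_lit 3, nat_lit 1, nat_lit 2, nat_lit 3, nat_lit 1, nat_lit 2])))))
 (.node (nat_lit 14) (.node (nat_lit 11) (.node (nat_lit 10) (.leaf [nat_lit 4, nat_lit 1, nat_lit 2, nat_lit 4, nat_lit 1, nat_lit 2]) (.leaf [nat_lit 2, nat_lit 2])) (.node (nat_lit 12) (.leaf [nat_lit 3, nat_lit 2, nat_lit 3, nat_lit 2, nat_lit 3, nat_lit 2, nat_lit 3, nat_lit 2]) (.node (nat_lit 13) (.leaf [nat_lit 0, nat_lit 2, nat_lit 0, nat_lit 3, nat_lit 2, nat_lit 3, nat_lit 0, nat_lit 3, nat_lit 2, nat_lit 3]) (.leaf [nat_lit 4, nat_lit 3, nat_lit 4, nat_lit 3, nat_lit 4, nat_lit 3]))))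
 (.node (nat_lit 16) (.node (nat_lit 15) (.leaf [nat_lit 3, nat_lit 3]) (.leaf [nat_lit 2, nat_lit 0, nat_lit 3, nat_lit 4, nat_lit 3, nat_lit 2, nat_lit 5, nat_lit 0, nat_lit 3, nat_lit 5])) (.node (nat_lit 17) (.leaf [nat_lit 4, nat_lit 4]) (.node (nat_lit 18) (.leaf [nat_lit 5, nat_lit 5]) (.leaf [nat_lit 5, nat_lit 4, nat_lit 5, nat_lit 4, nat_lit 5, nat_lit 4, nat_lit 5, nat_lit 4, nat_lit 5, nat_lit 4]))))))
noncomputable def iL0 : Lev := ⟨(nat_lit 0), (nat_lit 6), (nat_lit 0x406000301000006000100000000000004020002060000050006000000000000010600030200000600020000000000060000030000040400060004050500), (nat_lit 0x403000302000004000500000000000005040004010000040004000000000000050300030200000400050000000000050000050000030400050005040500),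
 (.node (nat_lit 3) (.node (nat_lit 1) (.leaf (nat_lit 0x4000100000001000000000000000600000000000000000000000000000000000500030000000400010000000000020000000100000000000000000000000000000002000000030002000000000005000000020000000000000000000000080000000000050000000000040007000000040000000b000500080000))
 (.node (nat_lit 2) (.leaf (nat_lit 0x1000300000004000300000000000600000003000000000000000000000000000500000000000000010000000000070000000100000000000000000000000000060004000000050000000000000003000000000000000000000000000000090000000000060000000000050006000000050000000c000600090000))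
 (.leaf (nat_lit 0x700050000000000010000000000080000000d000000000000000000000000000c00010000000500020000000000070000000a000000000000000000000000000800040000000000010000000000090000000c00000000000000000000000d000000000000000000000004000500000008000000090007000a0000))))
 (.node (nat_lit 4) (.leaf (nat_lit 0x100000008000300000000000a0000000d0000000000000000000000000000000100000009000200000000000b0000000e000000000000000000000000000600020000000100010000000000010000000f00000000000000000000000e00000000000600000000000000000000001000000000000500090000))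
 (.node (nat_lit 5) (.leaf (nat_lit 0xd000100000007000300000000000400000006000000000000000000000000000c000500000006000200000000000000000005000000000000000000000000000e00040000000800040000000000030000000700000000000000000000000900000000000900000000000100010000000a00000005000000000000))
 (.leaf (nat_lit 0xe00000000000100010000000000000000000a000000000000000000000000000c000100000007000000000000000400000000000000000000000000000000000f00000000000100010000000000000000000d00000000000000000000000000000000000a000000000001000100000000000000090008000b0001))))),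
 (.node (nat_lit 3) (.node (nat_lit 1) (.leaf (nat_lit 0x103000300000000000300000000000000000000000601000000000000000000000000000000000000000000000000000600000600000000000600000300000000000000000700000000000300000000000000000000000000000000000000000000000203000000000405000602000000000000000003000000000602000000000000000000000000000000000508000000000000000405000000000000000105000300000000000207000000000105000003000003000000))
 (.node (nat_lit 2) (.leaf (nat_lit 0x301000301000000000301000301000000000000000301000000000301000000000000000000000000000000000000000301000000000000000000000301000000000000000301000000000301000000000000000000000000000000000000000301000301000000000301000000000000000000000301000000000000000000000000000000000000000000000301000000000000000301000000000000000301000807000000000301000000000301000301000301000000))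
 (.leaf (nat_lit 0x805000a00000000000000000a01000000000000000703000000000a00000000000000000000000000000000000000000703000a00000000000402000703000000000000000703000000000a00000000000000000000000000000000000000000a01000703000000000000000a01000000000000000a01000000000402000000000000000000000000000000000a01000000000000000000000000000000000c08000b07000000000a01000000000703000905000905000000))))
 (.node (nat_lit 4) (.leaf (nat_lit 0xe01000000000102000e00000000000000000501000000000806000000000000000000000000000000000000000000000e01000000000e01000f08000000000000000e01000000000e01000000000000000000000000000000000000000100000506000000000e00000e00000000000000000e00000000000b04000000000000000000000000000000000b04000000000000000c03000000000000000000000000000000000e01000000000000000d05000d05000000))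
 (.node (nat_lit 5) (.leaf (nat_lit 0x1000001000000000001000001000000000000000000701000000001000000000000000000000000000000000000000000d02001001000000000903000701000000000000000000000000000701000000000000000000000000000000000000000000001000000000000000000000000000000000000000000000000000000000000000000000000000000000000701000000000000000900000000000000001000001000000000001001000000000d00000000000000000000))
 (.leaf (nat_lit 0x1202000000000000001100001101000000000000000000000000001206000000000000000000000000000000000000001100001100000000000204000000000000000000001204000000000000000000000000000000000000000000000000000704000000000000001101001101000000000000000000000000000704000000000000000000000000000000000000000000000000000702000000000000001101001101000000000000000000001100000f09000f09001101)))))⟩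
noncomputable def iL1 : Lev := ⟨(nat_lit 1), (nat_lit 5), (nat_lit 0x203000000000000000000000000000001010000000000000000000000000000040300000000000000000000000000000000040500000000050000), (nat_lit 0x304000000000000000000000000000003040000000000000000000000000000020300000000000000000000000000000000040100000000050000),
 (.node (nat_lit 2) (.node (nat_lit 1) (.leaf (nat_lit 0x20008000000000000000000000000000000000000000000000000000000000000000000000000000000000000000000000000000000000000000000000000000100070000000000000000000000000000000000000000000000000000000000000000000500020000000000000000000600000000))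
 (.leaf (nat_lit 0x8000000000000000000000000000000000000000000000000000000000003000900000000000000000000000000000000000000000000000000000000000100010000000000000000000000000000000000000000000000000000000000000000000600030000000000000000000700000000)))
 (.node (nat_lit 3) (.leaf (nat_lit 0x10000000000000000000000000000000000000000000000000000000000000008000900000000000000000000000000000000000000000000000000000000000100000000000000000000000000000000000000000000000000000000000000000000000500040000000000000000000800000000))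
 (.node (nat_lit 4) (.leaf (nat_lit 0x30006000000000000000000000000000000000000000000000000000000000004000500000000000000000000000000000000000000000000000000000000000000010000000000000000000000000000000000000000000000000000000000000000000000010000000000000000000900000000))
 (.leaf (nat_lit 0x30004000000000000000000000000000000000000000000000000000000000004000300000000000000000000000000000000000000000000000000000000000200080000000000000000000000000000000000000000000000000000000000000000000100000000000000000000000000010000))))),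
 (.node (nat_lit 2) (.node (nat_lit 1) (.leaf (nat_lit 0x601000601000000000000000000000000000000000000000000000000000000000000000000000000000000000000000000000000000000000000000000000000000000000000000000000000000000000000000000000000000000000000000300000103000000000000000000000000000000000000000000000000000000000000000000000000000000000000000000000000000c06000001000000000000000000000000000003000000000000))
 (.leaf (nat_lit 0x301000000000000000000000000000000000000000000000000000000000000000000000000000000000000000301000301000000000000000000000000000000000000000000000000000000000000000000000000000000000000000301000301000000000000000000000000000000000000000000000000000000000000000000000000000000000000000000000000000301000301000000000000000000000000000301000000000000)))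
 (.node (nat_lit 3) (.leaf (nat_lit 0xa00000000000000000000000000000000000000000000000000000000000000000000000000000000000000000000000402000402000000000000000000000000000000000000000000000000000000000000000000000000000000000000000a00000000000000000000000000000000000000000000000000000000000000000000000000000000000000000000000000000000000b03000902000000000000000000000000000905000000000000))
 (.node (nat_lit 4) (.leaf (nat_lit 0x102000e00000000000000000000000000000000000000000000000000000000000000000000000000000000000000000e01000803000000000000000000000000000000000000000000000000000000000000000000000000000000000000000000000e00000000000000000000000000000000000000000000000000000000000000000000000000000000000000000000000000000000000e01000000000000000000000000000d05000000000000))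
 (.leaf (nat_lit 0x2001000000000000000000000000000000000000000000000000000000000000000000000000000000000000000001001000903000000000000000000000000000000000000000000000000000000000000000000000000000000000000000d02000000000000000000000000000000000000000000000000000000000000000000000000000000000000000000000000000000001000000000000000000000000000000000000000001001000000)))))⟩
noncomputable def iL2 : Lev := ⟨(nat_lit 7), (nat_lit 4), (nat_lit 0x203000000000000000000000000000001010000000000000000000000000000040300000000000000000000000000000000040000000000000000), (nat_lit 0x203000000000000000000000000000002030000000000000000000000000000010200000000000000000000000000000000030000000000000000),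
 (.node (nat_lit 2) (.node (nat_lit 1) (.leaf (nat_lit 0x20005000000000000000000000000000000000000000000000000000000000000000000000000000000000000000000000000000000000000000000000000000100040000000000000000000000000000000000000000000000000000000000000000000200000000000000000000000000000000))
 (.leaf (nat_lit 0x5000000000000000000000000000000000000000000000000000000000003000600000000000000000000000000000000000000000000000000000000000100010000000000000000000000000000000000000000000000000000000000000000000300000000000000000000000000000000)))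
 (.node (nat_lit 3) (.leaf (nat_lit 0x10000000000000000000000000000000000000000000000000000000000000005000600000000000000000000000000000000000000000000000000000000000100000000000000000000000000000000000000000000000000000000000000000000000200000000000000000000000000000000))
 (.leaf (nat_lit 0x20003000000000000000000000000000000000000000000000000000000000003000200000000000000000000000000000000000000000000000000000000000000010000000000000000000000000000000000000000000000000000000000000000000000010000000000000000000000000000)))),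
 (.node (nat_lit 2) (.node (nat_lit 1) (.leaf (nat_lit 0x601000601000000000000000000000000000000000000000000000000000000000000000000000000000000000000000000000000000000000000000000000000000000000000000000000000000000000000000000000000000000000000000300000103000000000000000000000000000000000000000000000000000000000000000000000000000000000000000000000000000c06000000000000000000000000000000000000000000000000))
 (.leaf (nat_lit 0x301000000000000000000000000000000000000000000000000000000000000000000000000000000000000000301000301000000000000000000000000000000000000000000000000000000000000000000000000000000000000000301000301000000000000000000000000000000000000000000000000000000000000000000000000000000000000000000000000000301000000000000000000000000000000000000000000000000)))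
 (.node (nat_lit 3) (.leaf (nat_lit 0xa00000000000000000000000000000000000000000000000000000000000000000000000000000000000000000000000402000402000000000000000000000000000000000000000000000000000000000000000000000000000000000000000a00000000000000000000000000000000000000000000000000000000000000000000000000000000000000000000000000000000000b03000000000000000000000000000000000000000000000000))
 (.leaf (nat_lit 0x102000e00000000000000000000000000000000000000000000000000000000000000000000000000000000000000000e01000803000000000000000000000000000000000000000000000000000000000000000000000000000000000000000000000e00000000000000000000000000000000000000000000000000000000000000000000000000000000000000000000000000000000000e01000000000000000000000000000000000000000000))))⟩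
noncomputable def iL3 : Lev := ⟨(nat_lit 3), (nat_lit 3), (nat_lit 0x100000000000000000000000000000003000000000000000000000000000000020000000000000000000000000000000000000000), (nat_lit 0x200000000000000000000000000000001000000000000000000000000000000020000000000000000000000000000000000000000),
 (.node (nat_lit 1) (.leaf (nat_lit 0x1000000000000000000000000000000000000000000000000000000000000000200000000000000000000000000000000000000000000000000000000000000000000000000000000))
 (.node (nat_lit 2) (.leaf (nat_lit 0x30000000000000000000000000000000000000000000000000000000000000001000000000000000000000000000000000000000000000000000000000000000000000000000000000000000000000000000000000000000000000000000000000000000000000000))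
 (.leaf (nat_lit 0x30000000000000000000000000000000000000000000000000000000000000000000000000000000000000000000000000000000000000000000000000000000200000000000000000000000000000000000000000000000000000000000000000001000000000000)))),
 (.node (nat_lit 1) (.leaf (nat_lit 0x300000000000000000000000000000000000000000000000000000000000000000000000000000000000000000000000602000000000000000000000000000000000000000000000000000000000000000000000000000000000000000000000000000000000000000000000000))
 (.node (nat_lit 2) (.leaf (nat_lit 0x301000000000000000000000000000000000000000000000000000000000000000000000000000000000000000000000301000000000000000000000000000000000000000000000000000000000000000000000000000000000000000000000000000000000000000000000000000000000000000000000000000000000000000000000000000000000000000000000000000000000000000000000000))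
 (.leaf (nat_lit 0xa00000000000000000000000000000000000000000000000000000000000000000000000000000000000000000000000000000000000000000000000000000000000000000000000000000000000000000000000000000000000000000000000402000000000000000000000000000000000000000000000000000000000000000000000000000000000000000000000000000a01000000000000000000))))⟩
noncomputable def iL4 : Lev := ⟨(nat_lit 15), (nat_lit 2), (nat_lit 0x20000000000000000000000000000000100000000000000000000000000000000000000000000000000000000000000), (nat_lit 0x10000000000000000000000000000000100000000000000000000000000000000000000000000000000000000000000),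
 (.node (nat_lit 1) (.leaf (nat_lit 0x200000000000000000000000000000000000000000000000000000000000000000000000000000000000000000000000000000000000000000000000000000001000000000000000000000000000000000000000000000000000000000000))
 (.leaf (nat_lit 0x30000000000000000000000000000000000000000000000000000000000000001000000000000000000000000000000000000000000000000000000000000))),
 (.node (nat_lit 1) (.leaf (nat_lit 0x601000000000000000000000000000000000000000000000000000000000000000000000000000000000000000000000000000000000000000000000000000000000000000000000000000000000000000000000000000000000000000000000300000000000000000000000000000000000000000000000000000000000000000000000000000000000000000000))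
 (.leaf (nat_lit 0x301000000000000000000000000000000000000000000000000000000000000000000000000000000000000000000000301000000000000000000000000000000000000000000000000000000000000000000000000000000000000000000)))⟩
noncomputable def iL : List Lev := [iL0, iL1, iL2, iL3, iL4]
noncomputable def iE : Tr (List ℕ) := (.node (nat_lit 3) (.node (nat_lit 1) (.leaf [nat_lit 3, nat_lit 1, nat_lit 0, nat_lit 4, nat_lit 0, nat_lit 3, nat_lit 2, nat_lit 3, nat_lit 1, nat_lit 2, nat_lit 0]) (.node (nat_lit 2) (.leaf [nat_lit 4, nat_lit 2, nat_lit 0, nat_lit 4, nat_lit 2, nat_lit 3, nat_lit 1, nat_lit 3, nat_lit 0, nat_lit 2, nat_lit 1, nat_lit 2, nat_lit 1, nat_lit 0, nat_lit 1]) (.leaf [nat_lit 4, nat_lit 0, nat_lit 4, nat_lit 0, nat_lit 4, nat_lit 2, nat_lit 1, nat_lit 2, nat_lit 3, nat_lit 2, nat_lit 1, nat_lit 2]))) (.node (nat_lit 4) (.leaf [nat_lit 2, nat_lit 0, nat_lit 1, nat_lit 3, nat_lit 0, nat_lit 2, nat_lit 1, nat_lit 2, nat_lit 1, nat_lit 0, nat_lit 1]) (.node (nat_lit 5) (.leaf [nat_lit 3, nat_lit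 2, nat_lit 3, nat_lit 1, nat_lit 3, nat_lit 0, nat_lit 2, nat_lit 0, nat_lit 1, nat_lit 0]) (.leaf [nat_lit 2, nat_lit 0, nat_lit 4, nat_lit 2, nat_lit 3, nat_lit 2, nat_lit 3, nat_lit 0, nat_lit 2, nat_lit 1, nat_lit 2, nat_lit 0, nat_lit 1, nat_lit 0]))))
theorem iw_0 : iT.all2 (fun c w => isProd 63 (nat_lit 6) (nat_lit 63) hT c w) iE = true := by decide +kernel
theorem iw : iT.all2 (fun c w => isProd 63 (nat_lit 6) (nat_lit 63) hT c w) iE = true := iw_0
theorem ilev0 : levChk 63 (nat_lit 6) (nat_lit 63) iT iR iL0 iL1.N = true := by decide +kernel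
theorem ilev1 : levChk 63 (nat_lit 6) (nat_lit 63) iT iR iL1 iL2.N = true := by decide +kernel
theorem ilev2 : levChk 63 (nat_lit 6) (nat_lit 63) iT iR iL2 iL3.N = true := by decide +kernel
theorem ilev3 : levChk 63 (nat_lit 6) (nat_lit 63) iT iR iL3 iL4.N = true := by decide +kernel
theorem ilev4 : levChk 63 (nat_lit 6) (nat_lit 63) iT iR iL4 0 = true := by decide +kernel
theorem ichain : Chain 63 (nat_lit 6) (nat_lit 63) iT iR iL := chain_cons ilev0 <| chain_cons ilev1 <| chain_cons ilev2 <| chain_cons ilev3 <| chain_one ilev4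
theorem isd : band (selChk iT iT (topN iL)) (iR.all fun w => eqB (hL.map Lev.b) (apL (nat_lit 6) (nat_lit 63) iT w) fun a => a) = true := by decide +kernel
theorem itc : tchainChk 63 (nat_lit 6) (nat_lit 63) iT iL = true := by decide +kernel
noncomputable def is0 : ℕ := (nat_lit 0x12b43e3d0a84d49c1fb712e45790ec741e179d888cf2363609d9c7e666f30bc1a9606f5280ed5aab43a146e4fb295bc)
noncomputable def is1 : ℕ := (nat_lit 0xfb391b41de86a540ecdca363e0549d99af303e2d4a06cad6568bc02f684dc7f6277111b88ce276b405eb1397916a7c)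
noncomputable def is2 : ℕ := (nat_lit 0x33e8034817bc9d42a8e2ad5630f4328b0b8d5a4ed825a126e799c45465fb81336dfebc912c85758f7a4a461f1f39d0e)
noncomputable def is3 : ℕ := (nat_lit 0x2e640cc7f254947fa37119ba0f93d2b6058ae9783c0cde25782d685daaf102d6c5e3409f85ca77204cee7b21199ab74)
noncomputable def is4 : ℕ := (nat_lit 0x33d1d7bae503edb831207ca24c2e69410a7a1657ced7631c8616cac722189c6f6d514b7e3df93530bda66390d3aaa40)
noncomputable def is5 : ℕ := (nat_lit 0xd3a48fae4f4144fdf9f80a275d9c6c2067a2cac5197632c7bf165481e18a694b3114b8dc312eb70bd969e773d29a80)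
noncomputable def is6 : ℕ := (nat_lit 0x35db4cc720a25c6dd7a285f8040c51bae77e2dbacacf4124639269596985ce34b330bf1c965535289e9abbf3ef41080)
noncomputable def is7 : ℕ := (nat_lit 0x40c51aaa67a3dfbcecf4124659a48c720a25c6dd7b2c6fc33d36d596985ce34b3207e1896553538df9eabb2eb41080)
noncomputable def is8 : ℕ := (nat_lit 0x3ef7cefae78de48e69607e284c2ce3481ca2565544d24503eeb6caeaa689f4cf6d70bf2c5c6de7585da6461440c2040)
noncomputable def is9 : ℕ := (nat_lit 0x3ef7cefae78dd44d65503d245e75c6da6585f4cf6d70bf2c4c2ce3481ca2669648e28607ecaeeb689eaa461440c2040)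
noncomputable def is10 : ℕ := (nat_lit 0x2bb2dbbae78df6d74cdf82189e75c6c72092831051924503fbf3dfaaa689e69648efc31c8e34c2d7619693515582040)
noncomputable def is11 : ℕ := (nat_lit 0x1b71d7bae78df6d74ccf4114bbf3df9a6585d65544efc31caeb6cac72092831051a28607ce34c2e7a29aa3925982040)
noncomputable def is12 : ℕ := (nat_lit 0x2eb6cac72092831051a28607db71d7bae78df6d74ccf4114bbf3df9a6585d65544efc31c8e34c2e7a29aa3925982040)
noncomputable def is13 : ℕ := (nat_lit 0x1b71d7aaa689e69648cf4114bef7cec72092831051b2c70bebb2db9a6585d65544df82188e34c2f7e39eb3d35d82040)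
noncomputable def is14 : ℕ := (nat_lit 0x1e75c6e9aa7a165544e189f82eb6cad96976269648d148f40d38b33ae78dc5183132c70bfdfbbf0a2481f5db3d02040)
noncomputable def is15 : ℕ := (nat_lit 0xd38b31a6585c51831124503eeb6caf9eb7e269648f1cafc3ef7cee9aa7a36d74ce189f81d79b70a2481d5593502040)
noncomputable def is16 : ℕ := (nat_lit 0x1e75c6da6585d65544d24503fef7cefae78df6d74cf2c70beeb6caeaa689e69648e28607ce34c2ca2481c61440c2040)
noncomputable def is17 : ℕ := (nat_lit 0x2eb6caeaa689e69648e28607de75c6da6585d65544d24503fef7cefae78df6d74cf2c70bce34c2ca2481c61440c2040)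
noncomputable def is18 : ℕ := (nat_lit 0x1e75c6f9eb7e165544f1cafc0d38b32aa689c51831228607fef7ced9697636d74cd148f42dbabb0a2481e59a3902040)
noncomputable def is19 : ℕ := (nat_lit 0x3bf3dfaaa689e69648efc31cabb2dbbae78df6d74cdf82189e75c6c72092831051924503ce34c2d7619693515582040)
noncomputable def is20 : ℕ := (nat_lit 0x2eb6696aa6286cae48e89e07fef76d7ae72c7cef4cf8df0bde75655a65245c6d44d85d03ce34614a24204c2c40c81c0)
noncomputable def is21 : ℕ := (nat_lit 0x13f793d6f3849ac34797c756e7045aea004ba63088a33497f3759bf6718cba414fb7455ec78652ca824386b28083b69)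
noncomputable def iS : Tr ℕ := (.node (nat_lit 11) (.node (nat_lit 5) (.node (nat_lit 2) (.node (nat_lit 1) (.leaf is0) (.leaf is1)) (.node (nat_lit 3) (.leaf is2) (.node (nat_lit 4) (.leaf is3) (.leaf is4))))
 (.node (nat_lit 8) (.node (nat_lit 6) (.leaf is5) (.node (nat_lit 7) (.leaf is6) (.leaf is7))) (.node (nat_lit 9) (.leaf is8) (.node (nat_lit 10) (.leaf is9) (.leaf is10)))))
 (.node (nat_lit 16) (.node (nat_lit 13) (.node (nat_lit 12) (.leaf is11) (.leaf is12)) (.node (nat_lit 14) (.leaf is13) (.node (nat_lit 15) (.leaf is14) (.leaf is15))))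
 (.node (nat_lit 19) (.node (nat_lit 17) (.leaf is16) (.node (nat_lit 18) (.leaf is17) (.leaf is18))) (.node (nat_lit 20) (.leaf is19) (.node (nat_lit 21) (.leaf is20) (.leaf is21))))))
noncomputable def iD : Tr (List ℕ) := (.node (nat_lit 11) (.node (nat_lit 5) (.node (nat_lit 2) (.node (nat_lit 1) (.leaf []) (.leaf [])) (.node (nat_lit 3) (.leaf [nat_lit 0, nat_lit 0, nat_lit 0, nat_lit 0]) (.node (nat_lit 4) (.leaf [nat_lit 1, nat_lit 1, nat_lit 1, nat_lit 1, nat_lit 1]) (.leaf [nat_lit 0, nat_lit 1, nat_lit 2, nat_lit 1, nat_lit 1]))))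
 (.node (nat_lit 8) (.node (nat_lit 6) (.leaf [nat_lit 3, nat_lit 3, nat_lit 0, nat_lit 3, nat_lit 2]) (.node (nat_lit 7) (.leaf [nat_lit 1, nat_lit 1, nat_lit 2, nat_lit 3, nat_lit 2, nat_lit 2]) (.leaf [nat_lit 0, nat_lit 0, nat_lit 1, nat_lit 0, nat_lit 3, nat_lit 3]))) (.node (nat_lit 9) (.leaf [nat_lit 4, nat_lit 6, nat_lit 5, nat_lit 6, nat_lit 6, nat_lit 4, nat_lit 6, nat_lit 6, nat_lit 5]) (.node (nat_lit 10) (.leaf [nat_lit 4, nat_lit 7, nat_lit 7, nat_lit 5, nat_lit 7, nat_lit 7, nat_lit 4, nat_lit 7, nat_lit 5]) (.leaf [nat_lit 5, nat_lit 7, nat_lit 5, nat_lit 6, nat_lit 5, nat_lit 6])))))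
 (.node (nat_lit 16) (.node (nat_lit 13) (.node (nat_lit 12) (.leaf [nat_lit 7, nat_lit 4, nat_lit 7, nat_lit 4, nat_lit 6, nat_lit 4]) (.leaf [nat_lit 7, nat_lit 7])) (.node (nat_lit 14) (.leaf [nat_lit 6, nat_lit 6]) (.node (nat_lit 15) (.leaf [nat_lit 9, nat_lit 12, nat_lit 8]) (.leaf [nat_lit 9, nat_lit 13, nat_lit 8]))))
 (.node (nat_lit 19) (.node (nat_lit 17) (.leaf [nat_lit 10, nat_lit 12]) (.node (nat_lit 18) (.leaf [nat_lit 13, nat_lit 11]) (.leaf [nat_lit 16, nat_lit 15, nat_lit 16]))) (.node (nat_lit 20) (.leaf [nat_lit 10, nat_lit 16]) (.node (nat_lit 21) (.leaf [nat_lit 10, nat_lit 5, nat_lit 9, nat_lit 14, nat_lit 17]) (.leaf [nat_lit 11, nat_lit 1, nat_lit 2, nat_lit 5, nat_lit 16, nat_lit 9, nat_lit 16, nat_lit 15, nat_lit 16]))))))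
theorem islp : slpChk 63 (nat_lit 6) (nat_lit 63) iS iD 2 20 = true := by decide +kernel
noncomputable def iU : Tr ℕ := (.node (nat_lit 2) (.node (nat_lit 1) (.leaf (nat_lit 0x315bc5fd6b04f97b43f54b86cda808c198c9c5888ac9b847d1d9cddde90cd9f94bd5c98eed2a00e11ac1e50a82e93a4)) (.leaf (nat_lit 0x23f4260e527c797dc1902b5aefa5631a03b96dcc84847a1ddb17a836b0f2415e4fa8c8d4c746ed22e037552f0abc999))) (.node (nat_lit 3) (.leaf (nat_lit 0x1323d89a170ad627c7d7131ba7d017a6e4c3ead406e3e0d48666cbc7521f8362dc8a560efa9502f3a1d0b79113b6a5c)) (.leaf (nat_lit 0x25f29c24f68c66eeabe3fa7c847484457094037874866ca3f5b39834b78876afa7f3bb78943580553190133970962da))))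
noncomputable def iuE : Tr (List ℕ) := (.node (nat_lit 2) (.node (nat_lit 1) (.leaf [nat_lit 2, nat_lit 0, nat_lit 4, nat_lit 2, nat_lit 3, nat_lit 2, nat_lit 3, nat_lit 1, nat_lit 0, nat_lit 2, nat_lit 1, nat_lit 0, nat_lit 1, nat_lit 0]) (.leaf [nat_lit 4, nat_lit 1, nat_lit 3, nat_lit 4, nat_lit 2, nat_lit 3, nat_lit 2, nat_lit 3, nat_lit 2, nat_lit 1, nat_lit 0, nat_lit 1, nat_lit 0])) (.node (nat_lit 3) (.leaf [nat_lit 2, nat_lit 0, nat_lit 4, nat_lit 3, nat_lit 1, nat_lit 3, nat_lit 1, nat_lit 2, nat_lit 0, nat_lit 1, nat_lit 0]) (.leaf [nat_lit 1, nat_lit 3, nat_lit 2, nat_lit 3, nat_lit 4, nat_lit 0, nat_lit 3, nat_lit 2, nat_lit 3, nat_lit 2, nat_lit 1, nat_lit 0, nat_lit 2, nat_lit 0, nat_lit 1])))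
theorem iuw_0 : iU.all2 (fun c w => isProd 63 (nat_lit 6) (nat_lit 63) hT c w) iuE = true := by decide +kernel
theorem iuw : iU.all2 (fun c w => isProd 63 (nat_lit 6) (nat_lit 63) hT c w) iuE = true := iuw_0
theorem ich {F : Type*} [Field F] [Fintype F] (hF : Fintype.card F = 2) :
    (commutator (Cfsg.isometryGroup F (Cfsg.quadFormMinus 2 F 1 1))).index = 2 ∧ Ch (commutator (Cfsg.isometryGroup F (Cfsg.quadFormMinus 2 F 1 1))) 63 (nat_lit 6) (nat_lit 63) (ptL (τGL (Cfsg.isometryGroup F (Cfsg.quadFormMinus 2 F 1 1))) C2 Nat.cast (ixM 2) false hV) iT iL :=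
  have C := hch hF
  let ⟨_, D, _⟩ := (C.gen (lets_words C.lets iE iw) ichain isd itc)
  C.der2 D (lets_slp' (lets_comm (N := 4) (fun j _ => lets_words C.lets iuE iuw j) (.node (nat_lit 1) (.leaf 0) (.leaf 2)) (.node (nat_lit 1) (.leaf 1) (.leaf 3)) (by decide +kernel)) islp (by decide +kernel)) (by decide +kernel)
noncomputable def js0 : ℕ := (nat_lit 0xcda93c0ea56c8cad4c4fa15e0685eec589be4781de848dcf809d8f43919fc1997f0295ad4bb11d88bd0d0ab52dc9b9)
noncomputable def js1 : ℕ := (nat_lit 0xa3a48072e585443af95477ec402ab85067ada7b4c176f5c78f164b9f533e68883237c9376c98733bd9768b060a9b43)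
noncomputable def js2 : ℕ := (nat_lit 0x2290735c6b5be680b2587b1cf0d996ce223874c9d5ca31f9440ad9faf0f5401a9afee1345643be68b810d2537f6ca85)
noncomputable def js3 : ℕ := (nat_lit 0x31216af901e8fd11a7f53129cdd2a3c5f225c1e266c9c2e4e5702ded50abe940ece1606ed983e0d1a362d5b321dd93a)
noncomputable def js4 : ℕ := (nat_lit 0x3365dbf469ec0e82428d7e326b0459ec086a16e3c495dfb4651cb86620c89ccb661bc755fd3d3e7e414e84aae003a6d)
noncomputable def js5 : ℕ := (nat_lit 0x120d931a2d112de26be5c2edc97024c150a6f67fda3e9f583193aaf9b328ce5c54063cd62aee1d22ce9f1501e1dd216)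
noncomputable def js6 : ℕ := (nat_lit 0x3bf051881f2c5656cae189762eb544d969f80313dfb0bca275d8b302078ddc6e6967a114a48de74f429a8d3b3d3ae40)
noncomputable def js7 : ℕ := (nat_lit 0x2393df820585dd783138de286eb74cc72114944ce371ca7a0c2d6569aafc36d6cacf40928519b7207fae7bf2599a640)
noncomputable def js8 : ℕ := (nat_lit 0x35dacac205763dfa48ca24f41e743129ab0bd654b3218b8dcd3944fae5f80519c6f2c67a2697bf114881eeb73d19680)
noncomputable def js9 : ℕ := (nat_lit 0x35d8b31a6607fdf831124689c617cee9a8f40e374ce189762eb544c10b7e2695c6c92afc1d7a3932c481d55abb3ae40)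
noncomputable def js10 : ℕ := (nat_lit 0x1e75c6e9aa7a248e694f4114bbf3df881ca245183132c70beeb6cad96976144d655f82188b30d3b8dfae75db3d02040)
noncomputable def js11 : ℕ := (nat_lit 0x2bb2db881ca2451831228607de75c6f9eb7e34cf6d4f4114bef7ced96976144d656fc31c8b30d3a89eaa659a3902040)
noncomputable def js12 : ℕ := (nat_lit 0x1e75c6da6585e48e69607e286eb6caeaa689d44d65503d244c2ce3481ca276d74cf2c70bfcefef78dfae461440c2040)
noncomputable def js13 : ℕ := (nat_lit 0xc2ce3481ca2565544d24503eeb6caeaa689f4cf6d70bf2c7ef7cefae78de48e69607e285c6de7585da6461440c2040)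
noncomputable def js14 : ℕ := (nat_lit 0x3bf3df881ca245183132c70beeb6cad96976144d655f82189e75c6e9aa7a248e694f41148b30d3b8dfae75db3d02040)
noncomputable def js15 : ℕ := (nat_lit 0x3ef7ced9697636d74cd148f41e75c6f9eb7e165544f1cafc0d38b32aa689c51831228607edbabb0a2481e59a3902040)
noncomputable def js16 : ℕ := (nat_lit 0x3ef7cee9aa7a36d74ce189f80d38b31a6585c51831124503eeb6caf9eb7e269648f1cafc1d79b70a2481d5593502040)
noncomputable def js17 : ℕ := (nat_lit 0xd38b33ae78dc5183132c70bde75c6e9aa7a165544e189f82eb6cad96976269648d148f43dfbbf0a2481f5db3d02040)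
noncomputable def js18 : ℕ := (nat_lit 0x1e75c6da6585d65544d24503fef7cefae78df6d74cf2c70beeb6caeaa689e69648e28607ce34c2ca2481c61440c2040)
noncomputable def js19 : ℕ := (nat_lit 0x2eb6caeaa689e69648e28607de75c6da6585d65544d24503fef7cefae78df6d74cf2c70bce34c2ca2481c61440c2040)
noncomputable def js20 : ℕ := (nat_lit 0x1e75c6f9eb7e165544f1cafc0d38b32aa689c51831228607fef7ced9697636d74cd148f42dbabb0a2481e59a3902040)
noncomputable def js21 : ℕ := (nat_lit 0x3bf3dfaaa689e69648efc31cabb2dbbae78df6d74cdf82189e75c6c72092831051924503ce34c2d7619693515582040)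
noncomputable def js22 : ℕ := (nat_lit 0x2eb6696aa6286cae48e89e07fef76d7ae72c7cef4cf8df0bde75655a65245c6d44d85d03ce34614a24204c2c40c81c0)
noncomputable def js23 : ℕ := (nat_lit 0x13f793d6f3849ac34797c756e7045aea004ba63088a33497f3759bf6718cba414fb7455ec78652ca824386b28083b69)
noncomputable def jS : Tr ℕ := (.node (nat_lit 12) (.node (nat_lit 6) (.node (nat_lit 3) (.node (nat_lit 1) (.leaf js0) (.node (nat_lit 2) (.leaf js1) (.leaf js2))) (.node (nat_lit 4) (.leaf js3) (.node (nat_lit 5) (.leaf js4) (.leaf js5))))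
 (.node (nat_lit 9) (.node (nat_lit 7) (.leaf js6) (.node (nat_lit 8) (.leaf js7) (.leaf js8))) (.node (nat_lit 10) (.leaf js9) (.node (nat_lit 11) (.leaf js10) (.leaf js11)))))
 (.node (nat_lit 18) (.node (nat_lit 15) (.node (nat_lit 13) (.leaf js12) (.node (nat_lit 14) (.leaf js13) (.leaf js14))) (.node (nat_lit 16) (.leaf js15) (.node (nat_lit 17) (.leaf js16) (.leaf js17))))
 (.node (nat_lit 21) (.node (nat_lit 19) (.leaf js18) (.node (nat_lit 20) (.leaf js19) (.leaf js20))) (.node (nat_lit 22) (.leaf js21) (.node (nat_lit 23) (.leaf js22) (.leaf js23))))))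
noncomputable def jD : Tr (List ℕ) := (.node (nat_lit 12) (.node (nat_lit 6) (.node (nat_lit 3) (.node (nat_lit 1) (.leaf []) (.node (nat_lit 2) (.leaf []) (.leaf []))) (.node (nat_lit 4) (.leaf [nat_lit 0, nat_lit 0]) (.node (nat_lit 5) (.leaf [nat_lit 1, nat_lit 1, nat_lit 1, nat_lit 1, nat_lit 1]) (.leaf [nat_lit 2, nat_lit 2, nat_lit 2, nat_lit 2, nat_lit 2, nat_lit 2, nat_lit 2, nat_lit 2]))))
 (.node (nat_lit 9) (.node (nat_lit 7) (.leaf [nat_lit 2, nat_lit 0, nat_lit 4, nat_lit 5, nat_lit 0, nat_lit 2]) (.node (nat_lit 8) (.leaf [nat_lit 5, nat_lit 3, nat_lit 2, nat_lit 1, nat_lit 3, nat_lit 5]) (.leaf [nat_lit 2, nat_lit 4, nat_lit 5, nat_lit 5, nat_lit 1, nat_lit 0]))) (.node (nat_lit 10) (.leaf [nat_lit 3, nat_lit 4, nat_lit 2, nat_lit 2, nat_lit 1, nat_lit 5]) (.node (nat_lit 11) (.leaf [nat_lit 7, nat_lit 9]) (.leaf [nat_lit 8, nat_lit 6])))))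
 (.node (nat_lit 18) (.node (nat_lit 15) (.node (nat_lit 13) (.leaf [nat_lit 6, nat_lit 8, nat_lit 7, nat_lit 8, nat_lit 8]) (.node (nat_lit 14) (.leaf [nat_lit 9, nat_lit 9, nat_lit 6, nat_lit 9, nat_lit 7]) (.leaf [nat_lit 7, nat_lit 7, nat_lit 9, nat_lit 9, nat_lit 6, nat_lit 9]))) (.node (nat_lit 16) (.leaf [nat_lit 11, nat_lit 12]) (.node (nat_lit 17) (.leaf [nat_lit 13, nat_lit 10]) (.leaf [nat_lit 13, nat_lit 14, nat_lit 10, nat_lit 12, nat_lit 11]))))
 (.node (nat_lit 21) (.node (nat_lit 19) (.leaf [nat_lit 16, nat_lit 17, nat_lit 16]) (.node (nat_lit 20) (.leaf [nat_lit 15, nat_lit 17, nat_lit 15]) (.leaf [nat_lit 15, nat_lit 19]))) (.node (nat_lit 22) (.leaf [nat_lit 14, nat_lit 11, nat_lit 18]) (.node (nat_lit 23) (.leaf [nat_lit 12, nat_lit 7, nat_lit 10, nat_lit 18]) (.leaf [nat_lit 16, nat_lit 3, nat_lit 9, nat_lit 7, nat_lit 11, nat_lit 15, nat_lit 11, nat_lit 16]))))))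
theorem jslp : slpChk 63 (nat_lit 6) (nat_lit 63) jS jD 3 21 = true := by decide +kernel
noncomputable def jz : ℕ := (nat_lit 0xcda93c0ea56c8cad4c4fa15e0685eec589be4781de848dcf809d8f43919fc1997f0295ad4bb11d88bd0d0ab52dc9b9)
noncomputable def jzw : List ℕ := [nat_lit 1, nat_lit 5, nat_lit 0, nat_lit 3, nat_lit 4, nat_lit 3, nat_lit 2, nat_lit 3, nat_lit 2]
theorem jzp : isProd 63 (nat_lit 6) (nat_lit 63) iT jz jzw = true := by decide +kernel
noncomputable def jc : ℕ := (nat_lit 0xa3a48072e585443af95477ec402ab85067ada7b4c176f5c78f164b9f533e68883237c9376c98733bd9768b060a9b43)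
noncomputable def jcw : List ℕ := [nat_lit 3, nat_lit 5, nat_lit 2, nat_lit 1, nat_lit 5, nat_lit 0, nat_lit 3, nat_lit 4, nat_lit 2, nat_lit 0]
theorem jcp : isProd 63 (nat_lit 6) (nat_lit 63) iT jc jcw = true := by decide +kernel
noncomputable def jx : ℕ := (nat_lit 0x2290735c6b5be680b2587b1cf0d996ce223874c9d5ca31f9440ad9faf0f5401a9afee1345643be68b810d2537f6ca85)
noncomputable def jxw : List ℕ := [nat_lit 5, nat_lit 0, nat_lit 5, nat_lit 1, nat_lit 5, nat_lit 3, nat_lit 4, nat_lit 3, nat_lit 2, nat_lit 3, nat_lit 0]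
theorem jxp : isProd 63 (nat_lit 6) (nat_lit 63) iT jx jxw = true := by decide +kernel
noncomputable def jy : ℕ := (nat_lit 0xa2072649a58fdefcf8f452427a6aa050c419c79d6f2c2fc78eb9dd651354b34e3217e08995d86b3d76d2eb2bb40081)
noncomputable def jyw : List ℕ := [nat_lit 4, nat_lit 3, nat_lit 2, nat_lit 0, nat_lit 5, nat_lit 1, nat_lit 3, nat_lit 4, nat_lit 2, nat_lit 3, nat_lit 2, nat_lit 1]
theorem jyp : isProd 63 (nat_lit 6) (nat_lit 63) iT jy jyw = true := by decide +kernel
theorem h6m (f : commutator (Cfsg.isometryGroup (ZMod 2) (Cfsg.quadFormMinus 2 (ZMod 2) 1 1)) → _) (h : Coc ((τGL (Cfsg.isometryGroup (ZMod 2) (Cfsg.quadFormMinus 2 (ZMod 2) 1 1))).comp (commutator _).subtype) f) : ∃ v, ∀ g, f g = Matrix.mulVec (((τGL (Cfsg.isometryGroup (ZMod 2) (Cfsg.quadFormMinus 2 (ZMod 2) 1 1))).comp (commutator _).subtype) g) v - v := by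
  have hF := ZMod.card 2
  have C := hch hF
  have D := (ich hF).2
  have rz := (rep_word D.lets jzw jzp)
  have rc := (rep_word D.lets jcw jcp)
  have rx := (rep_word D.lets jxw jxp)
  have ry := (rep_word D.lets jyw jyp)
  have mz : τGL _ (ev D.lets.e jzw).1 = decM C2 Nat.cast (ixM 2) (hMT.get 2) := (let ⟨g, e⟩ := (exm2 hF).exO ix_m2 bm2 hpw 2 (by norm_num); (congrArg (τGL _) (C.lift (hact.rep (exm2 hF) ix_m2 (j := 2) (by norm_num) e) rz)).trans e)
  have fx : ∀ v, Matrix.mulVec (((τGL _).comp (commutator _).subtype) (ev D.lets.e jzw)) v = v → v = 0 := by erw [mz]; decide +kernel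
  refine h.triv fx fun f h hz => D.mem_lets (lets_slp _ (fun j hj => ?_) jslp (by decide +kernel))
  interval_cases j
  · exact ⟨_, hz, rz⟩
  · exact ⟨_, h.kill hz hz fx ((eqB_iff D.base D.inj (rc.comp rz) (rz.comp rc)).1 (by decide +kernel)), rc⟩
  · exact ⟨_, h.kill hz (h.kill hz hz fx ((eqB_iff D.base D.inj (ry.comp rz) (rz.comp ry)).1 (by decide +kernel))) fx
      ((eqB_iff D.base D.inj (rx.comp ry) (rz.comp rx)).1 (by decide +kernel)), rx⟩
noncomputable def kat0 : ℕ := (nat_lit 0xfab888)
noncomputable def kat1 : ℕ := (nat_lit 0xf8388d)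
noncomputable def kat2 : ℕ := (nat_lit 0x9874cd)
noncomputable def kat3 : ℕ := (nat_lit 0x11635f)
noncomputable def kaT : Tr ℕ := (.node (nat_lit 2) (.node (nat_lit 1) (.leaf kat0) (.leaf kat1)) (.node (nat_lit 3) (.leaf kat2) (.leaf kat3)))
noncomputable def kaR : Tr (List ℕ) := (.node (nat_lit 5) (.node (nat_lit 2) (.node (nat_lit 1) (.leaf [nat_lit 3, nat_lit 0, nat_lit 3, nat_lit 2, nat_lit 3, nat_lit 0, nat_lit 3, nat_lit 2]) (.leaf [nat_lit 2, nat_lit 0, nat_lit 2, nat_lit 3, nat_lit 1, nat_lit 0, nat_lit 3])) (.node (nat_lit 3) (.leaf [nat_lit 0, nat_lit 0]) (.node (nat_lit 4) (.leaf [nat_lit 3, nat_lit 0, nat_lit 3, nat_lit 0, nat_lit 3, nat_lit 0, nat_lit 3, nat_lit 0]) (.leaf [nat_lit 2, nat_lit 0, nat_lit 2, nat_lit 0, nat_lit 2, nat_lit 0, nat_lit 2, nat_lit 0]))))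
 (.node (nat_lit 8) (.node (nat_lit 6) (.leaf [nat_lit 1, nat_lit 1]) (.node (nat_lit 7) (.leaf [nat_lit 2, nat_lit 0, nat_lit 1, nat_lit 2, nat_lit 0, nat_lit 1]) (.leaf [nat_lit 1, nat_lit 2, nat_lit 0, nat_lit 3, nat_lit 0, nat_lit 2, nat_lit 3, nat_lit 2, nat_lit 3, nat_lit 2, nat_lit 3]))) (.node (nat_lit 9) (.leaf [nat_lit 2, nat_lit 2]) (.node (nat_lit 10) (.leaf [nat_lit 3, nat_lit 3]) (.leaf [nat_lit 1, nat_lit 0, nat_lit 1, nat_lit 0])))))
noncomputable def kaL0 : Lev := ⟨(nat_lit 1), (nat_lit 4), (nat_lit 0x304040104030004), (nat_lit 0x303030201020004),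
 (.node (nat_lit 2) (.node (nat_lit 1) (.leaf (nat_lit 0x30002000200000001000200000003))
 (.leaf (nat_lit 0x40004000300020003000400000004)))
 (.node (nat_lit 3) (.leaf (nat_lit 0x2000500010001000000000004))
 (.leaf (nat_lit 0x10000000000010000000100010000)))),
 (.node (nat_lit 2) (.node (nat_lit 1) (.leaf (nat_lit 0x403000303000001000000000201000101000000000005))
 (.leaf (nat_lit 0x602000104000104000104000501000605000000000501)))
 (.node (nat_lit 3) (.leaf (nat_lit 0x3000800000801000800000000000000000701))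
 (.leaf (nat_lit 0x900000000000000000901000000000901000901000000))))⟩
noncomputable def kaL1 : Lev := ⟨(nat_lit 2), (nat_lit 3), (nat_lit 0x300000103000000), (nat_lit 0x300000201000000),
 (.node (nat_lit 1) (.leaf (nat_lit 0x20000000000000001000000000000))
 (.node (nat_lit 2) (.leaf (nat_lit 0x40000000000030002000000000000))
 (.leaf (nat_lit 0x10000000100000000)))),
 (.node (nat_lit 1) (.leaf (nat_lit 0x403000000000000000000000201000000000000000000))
 (.node (nat_lit 2) (.leaf (nat_lit 0x602000000000000000500000602000000000000000000))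
 (.leaf (nat_lit 0x801000000000801000000000000))))⟩
noncomputable def kaL2 : Lev := ⟨(nat_lit 0), (nat_lit 2), (nat_lit 0x20000000000), (nat_lit 0x10000000000),
 (.node (nat_lit 1) (.leaf (nat_lit 0x200000000000000000000))
 (.leaf (nat_lit 0x1))),
 (.node (nat_lit 1) (.leaf (nat_lit 0xa01000000000000000000000000000000))
 (.leaf (nat_lit 0x501)))⟩
noncomputable def kaL3 : Lev := ⟨(nat_lit 3), (nat_lit 1), (nat_lit 0x100000000), (nat_lit 0x100000000),
 (.leaf (nat_lit 0x1000000000000)),
 (.leaf (nat_lit 0x201000000000000000000))⟩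
noncomputable def kaL : List Lev := [kaL0, kaL1, kaL2, kaL3]
noncomputable def kaE : Tr (List ℕ) := (.node (nat_lit 2) (.node (nat_lit 1) (.leaf [nat_lit 3]) (.leaf [nat_lit 2, nat_lit 3, nat_lit 4, nat_lit 5, nat_lit 6, nat_lit 5, nat_lit 4, nat_lit 2, nat_lit 3, nat_lit 2])) (.node (nat_lit 3) (.leaf [nat_lit 2, nat_lit 3, nat_lit 4, nat_lit 5, nat_lit 6, nat_lit 5, nat_lit 3, nat_lit 4, nat_lit 3, nat_lit 0, nat_lit 1, nat_lit 2, nat_lit 0]) (.leaf [nat_lit 0, nat_lit 1, nat_lit 2, nat_lit 3, nat_lit 4, nat_lit 5, nat_lit 6, nat_lit 3, nat_lit 4, nat_lit 5, nat_lit 1, nat_lit 2, nat_lit 3, nat_lit 4, nat_lit 3, nat_lit 0, nat_lit 1, nat_lit 2, nat_lit 1, nat_lit 0])))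
theorem kaw_0 : kaT.all2 (fun c w => isProd 8 (nat_lit 3) (nat_lit 7) Alt.s8T c w) kaE = true := by decide +kernel
theorem kaw : kaT.all2 (fun c w => isProd 8 (nat_lit 3) (nat_lit 7) Alt.s8T c w) kaE = true := kaw_0
theorem kalev0 : levChk 8 (nat_lit 3) (nat_lit 7) kaT kaR kaL0 kaL1.N = true := by decide +kernel
theorem kalev1 : levChk 8 (nat_lit 3) (nat_lit 7) kaT kaR kaL1 kaL2.N = true := by decide +kernel
theorem kalev2 : levChk 8 (nat_lit 3) (nat_lit 7) kaT kaR kaL2 kaL3.N = true := by decide +kernel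
theorem kalev3 : levChk 8 (nat_lit 3) (nat_lit 7) kaT kaR kaL3 0 = true := by decide +kernel
theorem kachain : Chain 8 (nat_lit 3) (nat_lit 7) kaT kaR kaL := chain_cons kalev0 <| chain_cons kalev1 <| chain_cons kalev2 <| chain_one kalev3
theorem kasd : band (selChk kaT kaT (topN kaL)) (kaR.all fun w => eqB (Alt.s8L.map Lev.b) (apL (nat_lit 3) (nat_lit 7) kaT w) fun a => a) = true := by decide +kernel
theorem katc : tchainChk 8 (nat_lit 3) (nat_lit 7) kaT kaL = true := by decide +kernel
noncomputable def kbt0 : ℕ := (nat_lit 0x1e75c6da6585d65544d24503eeb6caeaa689e69648e28607fef7cefae78df6d74cf2c70bce34c2ca2481c61440c2040)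
noncomputable def kbt1 : ℕ := (nat_lit 0x2eb6caf9eb7e269648f1cafc3ef7cee9aa7a36d74ce189f80d38b31a6585c51831124503dd79b70a2481d5593502040)
noncomputable def kbt2 : ℕ := (nat_lit 0x3bf3df9a6585f4cf6d5148f40c2ce369aa7a031051a28607db71d7bae78dd44d6571cafc2caeeb49287223925982040)
noncomputable def kbt3 : ℕ := (nat_lit 0x617cec2078ddc6e69585e286eb544eaa503f4cce370bca24c2f6d481f2c5656cad24689e48de7607da67ef440fae40)
noncomputable def kbT : Tr ℕ := (.node (nat_lit 2) (.node (nat_lit 1) (.leaf kbt0) (.leaf kbt1)) (.node (nat_lit 3) (.leaf kbt2) (.leaf kbt3)))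
noncomputable def kbR : Tr (List ℕ) := (.node (nat_lit 4) (.node (nat_lit 2) (.node (nat_lit 1) (.leaf [nat_lit 3, nat_lit 0, nat_lit 3, nat_lit 0, nat_lit 3, nat_lit 0, nat_lit 3, nat_lit 0]) (.leaf [nat_lit 0, nat_lit 2, nat_lit 0, nat_lit 2])) (.node (nat_lit 3) (.leaf [nat_lit 0, nat_lit 0]) (.leaf [nat_lit 0, nat_lit 1, nat_lit 0, nat_lit 3, nat_lit 0, nat_lit 2, nat_lit 3])))
 (.node (nat_lit 6) (.node (nat_lit 5) (.leaf [nat_lit 1, nat_lit 0, nat_lit 2, nat_lit 1, nat_lit 0, nat_lit 2]) (.leaf [nat_lit 1, nat_lit 0, nat_lit 1, nat_lit 0, nat_lit 1, nat_lit 0, nat_lit 1, nat_lit 0])) (.node (nat_lit 7) (.leaf [nat_lit 1, nat_lit 1]) (.node (nat_lit 8) (.leaf [nat_lit 2, nat_lit 2]) (.leaf [nat_lit 3, nat_lit 3])))))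
noncomputable def kbL0 : Lev := ⟨(nat_lit 1), (nat_lit 4), (nat_lit 0x204000000000000000000000000000000000000000000000000000000000000010100000000000000000000000000000000030400000000040000), (nat_lit 0x201000000000000000000000000000000000000000000000000000000000000030200000000000000000000000000000000040300000000030000),
 (.node (nat_lit 2) (.node (nat_lit 1) (.leaf (nat_lit 0x10001000000000000000000000000000000000000000000000000000000000000000000000000000000000000000000000000000000000000000000000000000000000000000000000000000000000000000000000000000000000000000000000000000300020000000000000000000600000000))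
 (.leaf (nat_lit 0x1000000000000000000000000000000000000000000000000000000000000000000000000000000000000000000000000000000000000000000000000000300020000000000000000000000000000000000000000000000000000000000000000000500040000000000000000000700000000)))
 (.node (nat_lit 3) (.leaf (nat_lit 0x30002000000000000000000000000000000000000000000000000000000000000000000000000000000000000000000000000000000000000000000000000000400030000000000000000000000000000000000000000000000000000000000000000000000010000000000000000000700000000))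
 (.leaf (nat_lit 0x10000000000000000000000000000000000000000000000000000000000000000000000000000000000000000000000000000000000000000000000000000000500010000000000000000000000000000000000000000000000000000000000000000000400000000000000000000000000010000)))),
 (.node (nat_lit 2) (.node (nat_lit 1) (.leaf (nat_lit 0x200000200000000000000000000000000000000000000000000000000000000000000000000000000000000000000000000000000000000000000000000000000000000000000000000000000000000000000000000000000000000000000000000000000000000000000000000000000000000000000000000000000000000000000000000000000000000000000000000000000000102000003000000000000000000000000000007000000000000))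
 (.leaf (nat_lit 0x601000000000000000000000000000000000000000000000000000000000000000000000000000000000000000000000000000000000000000000000000000000000000000000000000000000000000000000000000000000000000000504000301000000000000000000000000000000000000000000000000000000000000000000000000000000000000000000000000000403000301000000000000000000000000000301000000000000)))
 (.node (nat_lit 3) (.leaf (nat_lit 0x402000305000000000000000000000000000000000000000000000000000000000000000000000000000000000000000000000000000000000000000000000000000000000000000000000000000000000000000000000000000000000000000701000701000000000000000000000000000000000000000000000000000000000000000000000000000000000000000000000000000000000701000000000000000000000000000305000000000000))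
 (.leaf (nat_lit 0x800000000000000000000000000000000000000000000000000000000000000000000000000000000000000000000000000000000000000000000000000000000000000000000000000000000000000000000000000000000000000000000000800000800000000000000000000000000000000000000000000000000000000000000000000000000000000000000000000000000000303000000000000000000000000000000000000000801000000))))⟩
noncomputable def kbL1 : Lev := ⟨(nat_lit 3), (nat_lit 3), (nat_lit 0x2000100000000000000000000000000030002000000000000000000000000000300020000000000000000000000000000020000000000), (nat_lit 0x2000200000000000000000000000000010003000000000000000000000000000200010000000000000000000000000000030000000000),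
 (.node (nat_lit 1) (.leaf (nat_lit 0x5000000000000000000000000000000000000000000000000000000000000000200000002000000000000000000000000000000000000000000000000000000040000000100000000000000000000000000000000000000000000000000000000000800000000000000000000))
 (.node (nat_lit 2) (.leaf (nat_lit 0x10000000000000000000000000000000000000000000000000000000100000000000000000000000000000000000000000000000000000000000000010000000000000000000000000000000000000000000000000000000000000000000000000001000000000000))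
 (.leaf (nat_lit 0x3000000040000000000000000000000000000000000000000000000000000000000000007000000000000000000000000000000000000000000000000000000000000000100000000000000000000000000000000000000000000000000000000000600000001000000000000)))),
 (.node (nat_lit 1) (.leaf (nat_lit 0x200000000000000000000000000000000000000000000000000000000000000000000000000000000000000000000000102000000000503000000000000000000000000000000000000000000000000000000000000000000000000000000000102000000000201000000000000000000000000000000000000000000000000000000000000000000000000000000000000000100000000000000000000000000000000))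
 (.node (nat_lit 2) (.leaf (nat_lit 0x600000000000000000000000000000000000000000000000000000000000000000000000000000000000601000000000000000000000000000000000000000000000000000000000000000000000000000000000000000000000600000000000000000000000000000000000000000000000000000000000000000000000000000000000000000000000000000000000000000601000000000000000000))
 (.leaf (nat_lit 0x402000000000701000000000000000000000000000000000000000000000000000000000000000000000000000000000000000000000700000000000000000000000000000000000000000000000000000000000000000000000000000000000000000000000701000000000000000000000000000000000000000000000000000000000000000000000000000000000000000405000000000701000000000000000000))))⟩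
noncomputable def kbL2 : Lev := ⟨(nat_lit 15), (nat_lit 1), (nat_lit 0x10000000000000000000000000000000000000000000000000000000000000000000000000000000000000000000000), (nat_lit 0x10000000000000000000000000000000000000000000000000000000000000000000000000000000000000000000000),
 (.leaf (nat_lit 0x1000000000000000000000000000000000000000000000000000000000000)),
 (.leaf (nat_lit 0x201000000000000000000000000000000000000000000000000000000000000000000000000000000000000000000))⟩
noncomputable def kbL : List Lev := [kbL0, kbL1, kbL2]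
noncomputable def kbE : Tr (List ℕ) := (.node (nat_lit 2) (.node (nat_lit 1) (.leaf [nat_lit 3, nat_lit 1, nat_lit 0, nat_lit 4, nat_lit 0, nat_lit 1, nat_lit 3, nat_lit 0, nat_lit 2, nat_lit 1, nat_lit 2, nat_lit 0]) (.leaf [nat_lit 2, nat_lit 1, nat_lit 2, nat_lit 3, nat_lit 2, nat_lit 1, nat_lit 2, nat_lit 1, nat_lit 0, nat_lit 1])) (.node (nat_lit 3) (.leaf [nat_lit 2, nat_lit 3, nat_lit 4, nat_lit 2, nat_lit 0, nat_lit 3, nat_lit 2, nat_lit 3, nat_lit 2, nat_lit 0, nat_lit 1, nat_lit 0]) (.leaf [nat_lit 3, nat_lit 2, nat_lit 3, nat_lit 4, nat_lit 3, nat_lit 2, nat_lit 3, nat_lit 1, nat_lit 3, nat_lit 1])))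
theorem kbw_0 : kbT.all2 (fun c w => isProd 63 (nat_lit 6) (nat_lit 63) hT c w) kbE = true := by decide +kernel
theorem kbw : kbT.all2 (fun c w => isProd 63 (nat_lit 6) (nat_lit 63) hT c w) kbE = true := kbw_0
theorem kblev0 : levChk 63 (nat_lit 6) (nat_lit 63) kbT kbR kbL0 kbL1.N = true := by decide +kernel
theorem kblev1 : levChk 63 (nat_lit 6) (nat_lit 63) kbT kbR kbL1 kbL2.N = true := by decide +kernel
theorem kblev2 : levChk 63 (nat_lit 6) (nat_lit 63) kbT kbR kbL2 0 = true := by decide +kernel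
theorem kbchain : Chain 63 (nat_lit 6) (nat_lit 63) kbT kbR kbL := chain_cons kblev0 <| chain_cons kblev1 <| chain_one kblev2
theorem kbsd : band (selChk kbT kbT (topN kbL)) (kbR.all fun w => eqB (hL.map Lev.b) (apL (nat_lit 6) (nat_lit 63) kbT w) fun a => a) = true := by decide +kernel
theorem kbtc : tchainChk 63 (nat_lit 6) (nat_lit 63) kbT kbL = true := by decide +kernel
noncomputable def kiI : Tr (List ℕ) := (.node (nat_lit 2) (.node (nat_lit 1) (.leaf [nat_lit 2, nat_lit 0]) (.leaf [nat_lit 1, nat_lit 2, nat_lit 0])) (.node (nat_lit 3) (.leaf [nat_lit 3, nat_lit 0, nat_lit 3, nat_lit 1]) (.leaf [nat_lit 1, nat_lit 3, nat_lit 1, nat_lit 2, nat_lit 1, nat_lit 0])))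
theorem kih : kaR.all (fun w => eqB (kbL.map Lev.b) (apF (fun y => apL (nat_lit 6) (nat_lit 63) kbT (kiI.get y)) w) fun a => a) = true := by decide +kernel
noncomputable def kiD : Tr (List ℕ) := (.node (nat_lit 2) (.node (nat_lit 1) (.leaf [nat_lit 3, nat_lit 2, nat_lit 3, nat_lit 2, nat_lit 0, nat_lit 2]) (.leaf [nat_lit 1, nat_lit 0])) (.node (nat_lit 3) (.leaf [nat_lit 3, nat_lit 2, nat_lit 3, nat_lit 2, nat_lit 0, nat_lit 2, nat_lit 0]) (.leaf [nat_lit 0, nat_lit 3, nat_lit 2, nat_lit 0, nat_lit 2, nat_lit 1])))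
theorem kis : band (surChk (nat_lit 6) (nat_lit 63) (kbL.map Lev.b) kbT kiI (topN kaL) kiD (topN kbL)) (Nat.ble (chainOrd 8 kaL) (chainOrd 63 kbL)) = true := by decide +kernel
theorem k {F : Type*} [Field F] [Fintype F] (hF : Fintype.card F = 2) (P : Sylow 2 (Equiv.Perm (Fin 8))) (Q : Sylow 2 (Cfsg.isometryGroup F (Cfsg.quadFormMinus 2 F 1 1))) : Nonempty (P ≃* Q) := by
  have C := Alt.s8ch
  have C' := hch hF
  obtain ⟨N, D, D2⟩ := (C.gen (lets_words C.lets kaE kaw) kachain kasd katc)
  obtain ⟨N', D', -⟩ := (C'.gen (lets_words C'.lets kbE kbw) kbchain kbsd kbtc)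
  exact ⟨((syl_iso (k := 7) (D.card.trans (by decide +kernel)) (by rw [C.card]; decide +kernel) P).some.trans (D2.isoW D' kih kis).some).trans
    (syl_iso (k := 7) (D'.card.trans (by decide +kernel)) (by rw [C'.card]; decide +kernel) Q).some.symm⟩
noncomputable def lat0 : ℕ := (nat_lit 0xbbc4c8)
noncomputable def lat1 : ℕ := (nat_lit 0x59cbc8)
noncomputable def lat2 : ℕ := (nat_lit 0xe1ca8e)
noncomputable def lat3 : ℕ := (nat_lit 0x37213b)
noncomputable def laT : Tr ℕ := (.node (nat_lit 2) (.node (nat_lit 1) (.leaf lat0) (.leaf lat1)) (.node (nat_lit 3) (.leaf lat2) (.leaf lat3)))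
noncomputable def laR : Tr (List ℕ) := (.node (nat_lit 5) (.node (nat_lit 2) (.node (nat_lit 1) (.leaf [nat_lit 0, nat_lit 1, nat_lit 2, nat_lit 0, nat_lit 2]) (.leaf [nat_lit 0, nat_lit 0])) (.node (nat_lit 3) (.leaf [nat_lit 0, nat_lit 1, nat_lit 0, nat_lit 1]) (.node (nat_lit 4) (.leaf [nat_lit 3, nat_lit 0, nat_lit 3, nat_lit 0, nat_lit 3, nat_lit 0, nat_lit 3, nat_lit 0]) (.leaf [nat_lit 2, nat_lit 1, nat_lit 2, nat_lit 1]))))
 (.node (nat_lit 7) (.node (nat_lit 6) (.leaf [nat_lit 1, nat_lit 1]) (.leaf [nat_lit 3, nat_lit 0, nat_lit 3, nat_lit 1, nat_lit 3, nat_lit 0, nat_lit 3, nat_lit 1])) (.node (nat_lit 8) (.leaf [nat_lit 3, nat_lit 2, nat_lit 3, nat_lit 2]) (.node (nat_lit 9) (.leaf [nat_lit 2, nat_lit 2]) (.leaf [nat_lit 3, nat_lit 3])))))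
noncomputable def laL0 : Lev := ⟨(nat_lit 1), (nat_lit 4), (nat_lit 0x404010402020004), (nat_lit 0x103020303020004),
 (.node (nat_lit 2) (.node (nat_lit 1) (.leaf (nat_lit 0x100020000000a0002000300000009))
 (.leaf (nat_lit 0x100020001000b0000000000000008)))
 (.node (nat_lit 3) (.leaf (nat_lit 0x20007000500040004000300000006))
 (.leaf (nat_lit 0x100000001000100010000)))),
 (.node (nat_lit 2) (.node (nat_lit 1) (.leaf (nat_lit 0x100000303000000000303000200000101000000000000))
 (.leaf (nat_lit 0x500000603000500000001000000000000000000000403)))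
 (.node (nat_lit 3) (.leaf (nat_lit 0x701000800000800000701000002000400000000000703))
 (.leaf (nat_lit 0x901000000000900000901000901000000))))⟩
noncomputable def laL1 : Lev := ⟨(nat_lit 0), (nat_lit 3), (nat_lit 0x3000000000000), (nat_lit 0x1000000000000),
 (.node (nat_lit 1) (.leaf (nat_lit 0x2000000000000000000000000))
 (.node (nat_lit 2) (.leaf (nat_lit 0x2000000000000000000000000))
 (.leaf (nat_lit 0x1)))),
 (.node (nat_lit 1) (.leaf (nat_lit 0x3000000000000000000000000000000000000))
 (.node (nat_lit 2) (.leaf (nat_lit 0x401000000000000000000000000000000000000))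
 (.leaf (nat_lit 0x801))))⟩
noncomputable def laL2 : Lev := ⟨(nat_lit 2), (nat_lit 2), (nat_lit 0x200020001000000), (nat_lit 0x100020001000000),
 (.node (nat_lit 1) (.leaf (nat_lit 0x20000000300000000000100000000))
 (.leaf (nat_lit 0x1000100000000))),
 (.node (nat_lit 1) (.leaf (nat_lit 0x202000000000101000000000000000101000000000000))
 (.leaf (nat_lit 0x501000501000000000000)))⟩
noncomputable def laL : List Lev := [laL0, laL1, laL2]
noncomputable def laE : Tr (List ℕ) := (.node (nat_lit 2) (.node (nat_lit 1) (.leaf [nat_lit 6, nat_lit 4, nat_lit 2, nat_lit 1]) (.leaf [nat_lit 0, nat_lit 3, nat_lit 7, nat_lit 1, nat_lit 5, nat_lit 3, nat_lit 0])) (.node (nat_lit 3) (.leaf [nat_lit 3, nat_lit 7, nat_lit 11, nat_lit 8, nat_lit 0, nat_lit 5, nat_lit 0, nat_lit 3, nat_lit 1]) (.leaf [nat_lit 6, nat_lit 11, nat_lit 1, nat_lit 5, nat_lit 9, nat_lit 7, nat_lit 2, nat_lit 1])))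
theorem law_0 : laT.all2 (fun c w => isProd 8 (nat_lit 3) (nat_lit 7) Alt.a8T c w) laE = true := by decide +kernel
theorem law : laT.all2 (fun c w => isProd 8 (nat_lit 3) (nat_lit 7) Alt.a8T c w) laE = true := law_0
theorem lalev0 : levChk 8 (nat_lit 3) (nat_lit 7) laT laR laL0 laL1.N = true := by decide +kernel
theorem lalev1 : levChk 8 (nat_lit 3) (nat_lit 7) laT laR laL1 laL2.N = true := by decide +kernel
theorem lalev2 : levChk 8 (nat_lit 3) (nat_lit 7) laT laR laL2 0 = true := by decide +kernel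
theorem lachain : Chain 8 (nat_lit 3) (nat_lit 7) laT laR laL := chain_cons lalev0 <| chain_cons lalev1 <| chain_one lalev2
theorem lasd : band (selChk laT laT (topN laL)) (laR.all fun w => eqB (Alt.a8L.map Lev.b) (apL (nat_lit 3) (nat_lit 7) laT w) fun a => a) = true := by decide +kernel
theorem latc : tchainChk 8 (nat_lit 3) (nat_lit 7) laT laL = true := by decide +kernel
noncomputable def lbt0 : ℕ := (nat_lit 0x24a2078df5da89071d6e065884b14418c45e3cd3925a69e59135540420c0)
noncomputable def lbt1 : ℕ := (nat_lit 0x6d18821e039675a2cc9122838657d318805c98d5c55588de0044146673c9)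
noncomputable def lbt2 : ℕ := (nat_lit 0x8f59b2655e25487d09de0ca3602c451a98506139c7590128d3306624447)
noncomputable def lbt3 : ℕ := (nat_lit 0x15a92549934709b0497a689010f0c63a331859385100870a8149d755f74b)
noncomputable def lbT : Tr ℕ := (.node (nat_lit 2) (.node (nat_lit 1) (.leaf lbt0) (.leaf lbt1)) (.node (nat_lit 3) (.leaf lbt2) (.leaf lbt3)))
noncomputable def lbR : Tr (List ℕ) := (.node (nat_lit 4) (.node (nat_lit 2) (.node (nat_lit 1) (.leaf [nat_lit 0, nat_lit 0]) (.leaf [nat_lit 0, nat_lit 3, nat_lit 0, nat_lit 1, nat_lit 3, nat_lit 2])) (.node (nat_lit 3) (.leaf [nat_lit 1, nat_lit 0, nat_lit 1, nat_lit 1, nat_lit 0, nat_lit 1]) (.leaf [nat_lit 1, nat_lit 2])))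
 (.node (nat_lit 6) (.node (nat_lit 5) (.leaf [nat_lit 1, nat_lit 1, nat_lit 1, nat_lit 1]) (.leaf [nat_lit 1, nat_lit 3, nat_lit 1, nat_lit 3, nat_lit 1, nat_lit 3, nat_lit 1, nat_lit 3])) (.node (nat_lit 7) (.leaf [nat_lit 1, nat_lit 0, nat_lit 3, nat_lit 1, nat_lit 0, nat_lit 3]) (.leaf [nat_lit 3, nat_lit 3]))))
noncomputable def lbL0 : Lev := ⟨(nat_lit 0), (nat_lit 4), (nat_lit 0x1040401020200040204020402010404000103000004040204000003040403010200040004030400), (nat_lit 0x2040302020300020304020203030404000202000003040303000003010501040100030003030300),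
 (.node (nat_lit 2) (.node (nat_lit 1) (.leaf (nat_lit 0x700010000000300040000000100030006000700060009000000040014000000000002000000000004000b0007000e00000000000500010008000100000001000000030000000e0006000f0000))
 (.leaf (nat_lit 0x2000900030001000000000000000200000003000000010000000400050011000000020002000000000002000c000000080000000000080001001200020005000000000007000000020003000d0001)))
 (.node (nat_lit 3) (.leaf (nat_lit 0x4000900030001000300040000000100030006000100010003000200030013000000030000000000000005000a0008000e0000000000000001000600000003000100000009000000100000000d0001))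
 (.leaf (nat_lit 0x1000000000001000100010000000000050000000100000001000100000000000000010001000000000000000000010000000000000001000000000001000100010000000000000000000400000001)))),
 (.node (nat_lit 2) (.node (nat_lit 1) (.leaf (nat_lit 0x100000000000000000201000000000000000000000204000204000000000100000102000000000100000100000000000000000102000000000000000100000100000001000102000000000000000001000001000001000001000000000001000000000001000000000100000100000001000000))
 (.leaf (nat_lit 0x203000603000402000300000000000000000000000103000000000300000000000300000000000200000600000300000000000603000402000000000000000103000600000000000103000000000000000400000300000401000402000403000000000000000203000000000504000403000403000300)))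
 (.node (nat_lit 3) (.leaf (nat_lit 0x301000301000301000301000301000301000000000301000301000301000301000301000301000105000301000301000000000301000000000000000000000301000301000301000301000000000000000000000301000301000000000301000301000000000301000000000105000000000301000301))
 (.leaf (nat_lit 0x700000000000000000701000700000700000000000000000700000000000700000000000701000701000000000000000000000700000700000000000000000000000000000701000000000000000000000701000000000000000701000701000701000000000000000000000000000605000000000701))))⟩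
noncomputable def lbL1 : Lev := ⟨(nat_lit 1), (nat_lit 1), (nat_lit 0x1000000), (nat_lit 0x1000000),
 (.leaf (nat_lit 0x10000)),
 (.leaf (nat_lit 0x1000000))⟩
noncomputable def lbL : List Lev := [lbL0, lbL1]
noncomputable def lbE : Tr (List ℕ) := (.node (nat_lit 2) (.node (nat_lit 1) (.leaf [nat_lit 5, nat_lit 4, nat_lit 6, nat_lit 2, nat_lit 3]) (.leaf [nat_lit 4, nat_lit 7, nat_lit 5, nat_lit 7, nat_lit 6, nat_lit 2, nat_lit 3])) (.node (nat_lit 3) (.leaf [nat_lit 7, nat_lit 5, nat_lit 7, nat_lit 5, nat_lit 2, nat_lit 4, nat_lit 2]) (.leaf [nat_lit 2, nat_lit 7, nat_lit 1, nat_lit 7, nat_lit 5, nat_lit 3, nat_lit 2, nat_lit 3, nat_lit 1])))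
theorem lbw_0 : lbT.all2 (fun c w => isProd 40 (nat_lit 6) (nat_lit 63) S43.T c w) lbE = true := by decide +kernel
theorem lbw : lbT.all2 (fun c w => isProd 40 (nat_lit 6) (nat_lit 63) S43.T c w) lbE = true := lbw_0
theorem lblev0 : levChk 40 (nat_lit 6) (nat_lit 63) lbT lbR lbL0 lbL1.N = true := by decide +kernel
theorem lblev1 : levChk 40 (nat_lit 6) (nat_lit 63) lbT lbR lbL1 0 = true := by decide +kernel
theorem lbchain : Chain 40 (nat_lit 6) (nat_lit 63) lbT lbR lbL := chain_cons lblev0 <| chain_one lblev1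
theorem lbsd : band (selChk lbT lbT (topN lbL)) (lbR.all fun w => eqB (S43.L.map Lev.b) (apL (nat_lit 6) (nat_lit 63) lbT w) fun a => a) = true := by decide +kernel
theorem lbtc : tchainChk 40 (nat_lit 6) (nat_lit 63) lbT lbL = true := by decide +kernel
noncomputable def liI : Tr (List ℕ) := (.node (nat_lit 2) (.node (nat_lit 1) (.leaf [nat_lit 3, nat_lit 1, nat_lit 3, nat_lit 1, nat_lit 0]) (.leaf [nat_lit 2, nat_lit 2])) (.node (nat_lit 3) (.leaf [nat_lit 3, nat_lit 0, nat_lit 3, nat_lit 0, nat_lit 2, nat_lit 0]) (.leaf [nat_lit 2, nat_lit 3, nat_lit 0])))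
theorem lih : laR.all (fun w => eqB (lbL.map Lev.b) (apF (fun y => apL (nat_lit 6) (nat_lit 63) lbT (liI.get y)) w) fun a => a) = true := by decide +kernel
noncomputable def liD : Tr (List ℕ) := (.node (nat_lit 2) (.node (nat_lit 1) (.leaf [nat_lit 3, nat_lit 0, nat_lit 3]) (.leaf [nat_lit 3, nat_lit 1, nat_lit 3, nat_lit 2, nat_lit 1, nat_lit 0])) (.node (nat_lit 3) (.leaf [nat_lit 3, nat_lit 1, nat_lit 3, nat_lit 2, nat_lit 0]) (.leaf [nat_lit 1, nat_lit 3, nat_lit 2, nat_lit 1])))
theorem lis : band (surChk (nat_lit 6) (nat_lit 63) (lbL.map Lev.b) lbT liI (topN laL) liD (topN lbL)) (Nat.ble (chainOrd 8 laL) (chainOrd 40 lbL)) = true := by decide +kernel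
theorem l  (P : Sylow 2 (alternatingGroup (Fin 8))) (Q : Sylow 2 S43.P) : Nonempty (P ≃* Q) := by
  have C := Alt.a8ch
  have C' := S43.std.ch0 (by decide +kernel)
  obtain ⟨N, D, D2⟩ := (C.gen (lets_words C.lets laE law) lachain lasd latc)
  obtain ⟨N', D', -⟩ := (C'.gen (lets_words C'.lets lbE lbw) lbchain lbsd lbtc)
  exact ⟨((syl_iso (k := 6) (D.card.trans (by decide +kernel)) (by rw [C.card]; decide +kernel) P).some.trans (D2.isoW D' lih lis).some).trans
    (syl_iso (k := 6) (D'.card.trans (by decide +kernel)) (by rw [C'.card]; decide +kernel) Q).some.symm⟩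

end H8.Or3
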