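import Cfsg.Agent.H8.Simp
import Cfsg.Agent.H8.Chev

/-! H8.Pres: matrix groups modulo scalars identified with a simple permutation model through the relators of its `Std` chain:
`mslpR`/`FM.mslp` (straight line programs of matrices), `scalW` (a word is a scalar), `iso_of_pres`, `card_center_of_scalar`. -/

set_option autoImplicit false
open Matrix Subgroup

noncomputable section
namespace H8

theorem center_eq_bot_of_simple {G : Type*} [Group G] [Finite G] [IsSimpleGroup G] (h : ¬ (Nat.card G).Prime) :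
    center G = ⊥ := by
  refine (IsSimpleGroup.eq_bot_or_eq_top_of_normal (center G) inferInstance).resolve_right fun e => h ?_
  letI : CommGroup G := { mul_comm := fun a b => mem_center_iff.1 (e ▸ mem_top b) a }
  exact IsSimpleGroup.prime_card

def mpT (MT : Tr Sp) (w : List ℕ) : List Sp := List.rec [] (fun a _ r => MT.get a :: r) w

theorem mpT_eq (MT : Tr Sp) (w : List ℕ) : mpT MT w = w.map MT.get := by
  induction w with
  | nil => rfl
  | cons a w ih => exact congrArg (MT.get a :: ·) ih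

/-- the matrices `MS.get j`, `lo ≤ j < lo + len`, are products of earlier ones -/
def mslpR (C : FC) (d : ℕ) (MS : Tr Sp) (D : Tr (List ℕ)) (lo len : ℕ) : Bool :=
  allR lo len fun j => band (allL (D.get j) fun y => Nat.ble (Nat.succ y) j)
    (prodChk C d [MS.get j] (mpT MS (D.get j)))

/-- scalar matrix -/
def scalSp (d c : ℕ) : Sp :=
  Nat.rec (motive := fun _ => ℕ → Sp) (fun _ => []) (fun _ r j => [(j, c)] :: r (Nat.succ j)) d 0

/-- `S = c • w` -/
def scalW (C : FC) (d : ℕ) (MT : Tr Sp) (L : List Sp) (c : ℕ) (w : List ℕ) : Bool :=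
  band (entChk C d (scalSp d c) fun i j => ite' (Nat.beq i j) c 0) (prodChk C d L (scalSp d c :: mpT MT w))

variable {C : FC} {F : Type*} [Field F] {φ : ℕ → F} {ι : Type} [Fintype ι] [DecidableEq ι] {ix : ι → ℕ}
  {un : ℕ → ι} {d : ℕ} {G : Type*} [Group G] {τ : G →* Matrix ι ι F}

theorem prod_mpT {MT : Tr Sp} {g : ℕ → G} (w : List ℕ) (hg : ∀ y ∈ w, τ (g y) = decM C φ ix (MT.get y)) :
    ((mpT MT w).map (decM C φ ix)).prod = τ (ev g w) := by
  rw [mpT_eq]
  induction w with
  | nil => simp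
  | cons a w ih =>
    rw [List.map_cons, List.map_cons, List.prod_cons, ih fun y hy => hg y (by simp [hy]), ev_cons, map_mul,
      hg a (by simp)]

theorem FM.mslp (h : FM C φ) (hx : IX ix un d) {MS : Tr Sp} {D : Tr (List ℕ)} {N0 len : ℕ}
    (e : mslpR C d MS D N0 len = true) (h0 : ∀ j < N0, ∃ g : G, τ g = decM C φ ix (MS.get j)) :
    ∀ j < N0 + len, ∃ g : G, τ g = decM C φ ix (MS.get j) := by
  intro j
  induction j using Nat.strong_induction_on with
  | _ j ih =>
    intro hj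
    by_cases hj0 : j < N0
    · exact h0 j hj0
    · have h1 := allR_iff.1 e j (by omega) hj
      rw [band_eq_true, allL_iff] at h1
      have : ∀ y, ∃ g : G, y < j → τ g = decM C φ ix (MS.get y) := fun y => by
        by_cases hy : y < j
        · exact (ih y hy (by omega)).imp fun _ h _ => h
        · exact ⟨1, fun h => absurd h hy⟩
      choose g hg using this
      refine ⟨ev g (D.get j), ?_⟩
      rw [← prod_mpT (MT := MS) _ fun y hy => hg y (Nat.le_of_ble_eq_true (h1.1 y hy)), ← h.prodChk hx h1.2]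
      simp

theorem FM.scalW (h : FM C φ) (hx : IX ix un d) {MT : Tr Sp} {L : List Sp} {c : ℕ} {w : List ℕ}
    (e : scalW C d MT L c w = true) {g : ℕ → G} (hg : ∀ y ∈ w, τ (g y) = decM C φ ix (MT.get y)) :
    (L.map (decM C φ ix)).prod = φ c • τ (ev g w) := by
  rw [H8.scalW, band_eq_true] at e
  have h1 : decM C φ ix (scalSp d c) = φ c • (1 : Matrix ι ι F) := by
    ext i j
    have := h.eqv.1 (allB_iff.1 (allB_iff.1 e.1 _ (hx.lt i)) _ (hx.lt j))
    rw [FM.ite φ, h.zero] at this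
    simp [decM, decF, this, hx.inj.eq_iff, one_apply]
  rw [h.prodChk hx e.2, List.map_cons, List.prod_cons, h1, prod_mpT w hg, smul_mul_assoc, one_mul]

/-- scalar elements -/
def scal (τ : G →* Matrix ι ι F) [Nonempty ι] : Subgroup G where
  carrier := {g | ∃ c : F, τ g = c • 1}
  one_mem' := ⟨1, by simp⟩
  mul_mem' := fun ⟨a, ha⟩ ⟨b, hb⟩ => ⟨a * b, by simp [ha, hb, smul_smul, mul_comm]⟩
  inv_mem' := fun {g} ⟨a, ha⟩ => by
    have h1 : a • τ g⁻¹ = 1 := by rw [← map_one τ, ← mul_inv_cancel g, map_mul, ha]; simp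
    have h0 : a ≠ 0 := fun e => by rw [e, zero_smul] at h1; exact zero_ne_one h1
    exact ⟨a⁻¹, by rw [← h1, smul_smul, inv_mul_cancel₀ h0, one_smul]⟩

theorem iso_of_pres [Nonempty ι] [Finite G] (hτ : Function.Injective τ) {P : Type*} [Group P] [Finite P]
    [IsSimpleGroup P] (hP : ¬ (Nat.card P).Prime) {X : Type*} [MulAction P X] {n k m : ℕ} {pt : ℕ → X} {T : Tr ℕ}
    {RL : Tr (List ℕ)} {Ls : List Lev} (S : Std P n k m pt T RL Ls) (g : ℕ → G)
    (hR : ∀ i, ev g (RL.get i) ∈ scal τ) (S0 : Set G) (h0 : closure S0 = ⊤)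
    (h1 : ∀ s ∈ S0, ∃ (w : List ℕ) (c : F), (∀ y ∈ w, y < topN Ls) ∧ τ s = c • τ (ev g w)) (h2 : ∃ x, x ∉ scal τ) :
    center G = scal τ ∧ ∃ e : G ⧸ center G ≃* P, ∀ y < topN Ls, e (g y : G) = S.lets.e y := by
  have hle : scal τ ≤ center G := fun x ⟨c, hc⟩ => central_of_scalar τ hτ hc
  haveI : (scal τ).Normal := L.normal_of_le_center hle
  obtain ⟨ψ, hψ⟩ := S.hom (fun y => (g y : G ⧸ scal τ)) fun i => by
    rw [← (QuotientGroup.eq_one_iff _).2 (hR i)]
    exact (map_ev (QuotientGroup.mk' (scal τ)) g _).symm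
  have hs : Function.Surjective ψ := by
    have : ψ.range.comap (QuotientGroup.mk' (scal τ)) = ⊤ := by
      rw [eq_top_iff, ← h0, closure_le]
      intro s hs
      obtain ⟨w, c, hw, e⟩ := h1 s hs
      refine ⟨ev S.lets.e w, ?_⟩
      rw [map_ev, ev_congr _ (fun y => QuotientGroup.mk' (scal τ) (g y)) w fun y hy => hψ y (hw y hy), ← map_ev]
      refine QuotientGroup.eq.2 ⟨c, ?_⟩
      rw [map_mul, e, mul_smul_comm, ← map_mul, inv_mul_cancel, map_one]
    intro x
    obtain ⟨x, rfl⟩ := QuotientGroup.mk_surjective x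
    exact (this ▸ mem_top x : x ∈ ψ.range.comap (QuotientGroup.mk' (scal τ)))
  have hi : Function.Injective ψ := by
    rw [← MonoidHom.ker_eq_bot_iff]
    refine (IsSimpleGroup.eq_bot_or_eq_top_of_normal _ inferInstance).resolve_right fun e => ?_
    obtain ⟨x, hx⟩ := h2
    obtain ⟨p, hp⟩ := hs x
    exact hx ((QuotientGroup.eq_one_iff x).1 (hp.symm.trans (e ▸ mem_top p : p ∈ ψ.ker)))
  let ε := MulEquiv.ofBijective ψ ⟨hi, hs⟩
  have hc : center G = scal τ := le_antisymm (fun z hz => (QuotientGroup.eq_one_iff z).1 (ε.symm.injective (by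
    rw [map_one]
    exact map_center (ε.symm.toMonoidHom.comp (QuotientGroup.mk' _)) (ε.symm.surjective.comp
      QuotientGroup.mk_surjective) (center_eq_bot_of_simple hP) (mem_center_iff.1 hz)))) hle
  refine ⟨hc, (QuotientGroup.quotientMulEquivOfEq hc).trans ε.symm, fun y hy => ?_⟩
  exact ε.symm_apply_eq.2 (hψ y hy).symm

theorem card_scal_dvd [Nonempty ι] [Fintype F] (hτ : Function.Injective τ) :
    Nat.card (scal τ) ∣ Fintype.card F - 1 := by
  classical
  obtain ⟨i⟩ := ‹Nonempty ι›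
  have h1 : ∀ x : scal τ, τ x = τ x i i • 1 := fun ⟨x, c, hc⟩ => by simp [hc]
  let f : scal τ →* F :=
    { toFun := fun x => τ x i i
      map_one' := by simp
      map_mul' := fun x y => by
        rw [coe_mul, map_mul, h1 x, h1 y]; simp [mul_comm] }
  rw [← Fintype.card_units, ← Nat.card_eq_fintype_card]
  refine card_dvd_of_injective f.toHomUnits fun x y e => Subtype.ext (hτ ?_)
  rw [h1 x, h1 y, show τ x i i = τ y i i from congrArg Units.val e]

theorem card_scal_prime [Nonempty ι] [Fintype F] (hτ : Function.Injective τ) {p : ℕ} (hp : p.Prime)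
    (h : Fintype.card F - 1 = p) {z : G} {c : F} (hz : τ z = c • 1) (hc : c ≠ 1) : Nat.card (scal τ) = p := by
  refine ((Nat.dvd_prime hp).1 (h ▸ card_scal_dvd hτ)).resolve_left fun e => hc ?_
  obtain ⟨i⟩ := ‹Nonempty ι›
  have h1 : z = 1 := mem_bot.1 (card_eq_one.1 e ▸ (⟨c, hz⟩ : z ∈ scal τ))
  rw [h1, map_one] at hz
  simpa using (congrFun (congrFun hz i) i).symm

/-- the off diagonal entry `(i, j)` is not zero -/
theorem FM.not_scal [Nonempty ι] (h : FM C φ) (hx : IX ix un d) {S : Sp} {g : G} (hg : τ g = decM C φ ix S) (i j : ℕ)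
    (e : i < d ∧ j < d ∧ i ≠ j ∧ C.eqv (C.ent S i j) 0 = false) : g ∉ scal τ := fun ⟨c, hc⟩ => by
  have := congrFun (congrFun (hg.symm.trans hc) (un i)) (un j)
  have h2 : un i ≠ un j := fun e' => e.2.2.1 (by rw [← hx.ix_un i e.1, e', hx.ix_un j e.2.1])
  simp only [decM, decF, of_apply, hx.ix_un i e.1, hx.ix_un j e.2.1, Matrix.smul_apply, one_apply_ne h2, smul_zero] at this
  rw [← h.zero, ← h.eqv, e.2.2.2] at this
  exact absurd this (by simp)

/-- all relators are scalars -/
theorem FM.rels_scal [Nonempty ι] (h : FM C φ) (hx : IX ix un d) {MT : Tr Sp} {RL : Tr (List ℕ)} {Z : Tr ℕ} {g : ℕ → G}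
    (hg : ∀ y, τ (g y) = decM C φ ix (MT.get y))
    (e : RL.all2 (fun w c => H8.scalW C d MT (mpT MT w) c []) Z = true) (i : ℕ) : ev g (RL.get i) ∈ scal τ :=
  ⟨φ (Z.get i), by rw [← prod_mpT (MT := MT) _ fun y _ => hg y, h.scalW hx (Tr.all2_get e i) (g := g) (τ := τ) (by simp)]; simp⟩

theorem exists_sel {MS : Tr Sp} {I : Tr ℕ} {N : ℕ} (h : ∀ j < N, ∃ g : G, τ g = decM C φ ix (MS.get j))
    (e : I.all (fun j => Nat.ble (Nat.succ j) N) = true) :
    ∃ g : ℕ → G, ∀ y, τ (g y) = decM C φ ix (MS.get (I.get y)) := by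
  choose g hg using fun y => h _ (Nat.le_of_ble_eq_true (Tr.all_get e y))
  exact ⟨g, hg⟩

def Tr.map {α β : Type} (f : α → β) (t : Tr α) : Tr β :=
  Tr.rec (fun a => .leaf (f a)) (fun p _ _ l r => .node p l r) t

theorem Tr.get_map {α β : Type} (f : α → β) (t : Tr α) (i : ℕ) : (t.map f).get i = f (t.get i) := by
  induction t with
  | leaf a => rfl
  | node p l r ihl ihr =>
    have e : (Tr.node p l r).get i = Bool.rec (l.get i) (r.get i) (Nat.ble p i) := rfl
    have e' : ((Tr.node p l r).map f).get i = Bool.rec ((l.map f).get i) ((r.map f).get i) (Nat.ble p i) := rfl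
    rw [e, e', ihl, ihr]; cases Nat.ble p i <;> rfl

theorem exists_sel' {MS : Tr Sp} {I : Tr ℕ} {N : ℕ} (h : ∀ j < N, ∃ g : G, τ g = decM C φ ix (MS.get j))
    (e : I.all (fun j => Nat.ble (Nat.succ j) N) = true) :
    ∃ g : ℕ → G, ∀ y, τ (g y) = decM C φ ix ((I.map MS.get).get y) := by
  simpa only [Tr.get_map] using exists_sel h e

end H8
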