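import Cfsg.Agent.H8.GS62
import Cfsg.Agent.H8.Simp

/-! H8.SS62: `simple`: the model `P` is simple (generated certificate) -/

set_option autoImplicit false
set_option maxRecDepth 200000

open Matrix

namespace H8.S62

noncomputable def st0 : ℕ := (nat_lit 0x3ae78dfef7cef2c70bf6d74ceaa689eeb6cae28607e69648de75c6da6585d65544d24503ce34c2ca2481c61440c2040)
noncomputable def st1 : ℕ := (nat_lit 0x38dfae7cefef70bf2c74cf6d6aa689eeb6cae28607e69648dc6de7585da6544d65503d244e34c2ca2481c61440c2040)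
noncomputable def st2 : ℕ := (nat_lit 0x38dfae7cefef70bf2c74cf6d6caeeb689eaa648e69607e285a6585de75c6d24503d65544ce34c2ca2481c61440c2040)
noncomputable def st3 : ℕ := (nat_lit 0x38dfae7cefef71cafc35db3d2dbabb29aa7a248e69607e285a6585de75c6cf41149351558b30d3872092861440c2040)
noncomputable def st4 : ℕ := (nat_lit 0x3dfbbf39eb7e31cafc35db3d2dbabb29aa7a2189f8259a391a6585de75c6d65544d24503ca2481ce34c2c61440c2040)
noncomputable def st5 : ℕ := (nat_lit 0x3bf3dfb7e39eb5db3d31cafc2aa689eeb6cae07e28648e695969761d79b70f41149351558c2ce3481ca2461440c2040)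
noncomputable def st6 : ℕ := (nat_lit 0x3ef7cedb71d7924503efc31c8a2481e7a29aa69648c31051b7e39e9a6585d35155b6d74ccb30d3aeb6cadf821882040)
noncomputable def st7 : ℕ := (nat_lit 0x3df9d7adb8d3b6d56566946179e996a9a892b2c5246284207bf1b72bb0b334cd44e48c40f7e17627a07230bd03e07c0)
noncomputable def st8 : ℕ := (nat_lit 0x3e30f864589de8685cf201bb41bec797a7611397a20dee04ab742c350d8ab91d499f44ef108bd2cae23546d2765cbb1)
noncomputable def st9 : ℕ := (nat_lit 0x98b9493f23304af46dac6a06e15ed705c09df20fe3d58d9ac0dccf2642a61291ebb50b907837415fa5386b76758be8)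
noncomputable def st10 : ℕ := (nat_lit 0x278001c22698a5b8e14c0e3b1d5b6f74edb50f638bfac516b2e59497430dfccd37157bed442eb92d98634a061a9fa08)
noncomputable def st11 : ℕ := (nat_lit 0x1c8ac48bc7b072302f216d1af8188da7557956a26605df51d4aa4683e7327a10ad294d98f0380f9f74fb5e82e40dbfd)
noncomputable def sT_0 : Tr ℕ := (.node (nat_lit 6) (.node (nat_lit 3) (.node (nat_lit 1) (.leaf st0) (.node (nat_lit 2) (.leaf st1) (.leaf st2))) (.node (nat_lit 4) (.leaf st3) (.node (nat_lit 5) (.leaf st4) (.leaf st5))))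
 (.node (nat_lit 9) (.node (nat_lit 7) (.leaf st6) (.node (nat_lit 8) (.leaf st7) (.leaf st8))) (.node (nat_lit 10) (.leaf st9) (.node (nat_lit 11) (.leaf st10) (.leaf st11)))))
noncomputable def sE_0 : Tr (List ℕ) := (.node (nat_lit 6) (.node (nat_lit 3) (.node (nat_lit 1) (.leaf [nat_lit 0]) (.node (nat_lit 2) (.leaf [nat_lit 1]) (.leaf [nat_lit 2]))) (.node (nat_lit 4) (.leaf [nat_lit 3]) (.node (nat_lit 5) (.leaf [nat_lit 4]) (.leaf [nat_lit 5]))))
 (.node (nat_lit 9) (.node (nat_lit 7) (.leaf [nat_lit 6]) (.node (nat_lit 8) (.leaf [nat_lit 7]) (.leaf [nat_lit 8]))) (.node (nat_lit 10) (.leaf [nat_lit 8, nat_lit 3, nat_lit 8]) (.node (nat_lit 11) (.leaf [nat_lit 8, nat_lit 2, nat_lit 7, nat_lit 8, nat_lit 6, nat_lit 7, nat_lit 2, nat_lit 6, nat_lit 5, nat_lit 3, nat_lit 2, nat_lit 1]) (.leaf [nat_lit 5, nat_lit 8, nat_lit 6, nat_lit 1, nat_lit 8, nat_lit 1, nat_lit 7, nat_lit 0, nat_lit 7, nat_lit 6, nat_lit 4, nat_lit 0, nat_lit 6, nat_lit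 3, nat_lit 1])))))
theorem sw_0 : sT_0.all2 (fun c w => isProd 63 (nat_lit 6) (nat_lit 63) T c w) sE_0 = true := by decide +kernel
noncomputable def sT : Tr ℕ := sT_0
noncomputable def sE : Tr (List ℕ) := sE_0
theorem slets : Lets P 63 (nat_lit 6) (nat_lit 63) (Fin.ofNat 63) sT := lets_words lets sE sw_0
theorem sprim : primChk 63 (nat_lit 6) (nat_lit 63) sT 0 8 2 (nat_lit 0x7010707070603000501050006010200000302060003070707020400050505020602070701010707030206060606040404050707060507070607070700) (nat_lit 0x40404040303030401010201010001020202010201010001020103020202030203030404030204030302030302020302030203030201020202030303040300) = true := by decide +kernel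
noncomputable def sF : Tr (ℕ × ℕ) := (.node (nat_lit 1) (.leaf ((nat_lit 0x508080608060603000501050806010308000702060803070707020400050502050708080501020707030206060606080807070307080807070607070700), (nat_lit 0x50504040405050502020302020102030504040404040304030204030303040304040403030504040403040403030403050405050504040403040404050400))) (.leaf ((nat_lit 0x90409070707070601090003090609050200000302060903050900020400090509020102070701090709060109060606040404050707060507090909070900), (nat_lit 0x30405040404040404040404050403040303020302020102050405050505040503040404040305030504050505050505040304040302030304040505050500))))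
theorem sconn0 : allR 0 2 (fun j => connR (nat_lit 6) (nat_lit 63) sT 0 8 j sF 0 63) = true := by decide +kernel
noncomputable def ss0 : ℕ := (nat_lit 0x278001c22698a5b8e14c0e3b1d5b6f74edb50f638bfac516b2e59497430dfccd37157bed442eb92d98634a061a9fa08)
noncomputable def ss1 : ℕ := (nat_lit 0x1c8ac48bc7b072302f216d1af8188da7557956a26605df51d4aa4683e7327a10ad294d98f0380f9f74fb5e82e40dbfd)
noncomputable def ss2 : ℕ := (nat_lit 0x10ad6a627645ec3ea55e8588f52af303e01f89d8bc3713d091b93a1f7256ad4a751b8199b41f2346e40ec8ccec7a17c)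
noncomputable def ss3 : ℕ := (nat_lit 0xb033e1666e86b813636e4e0441fcbdd4a5aa49dc3fdc8528627ec5b423a26a5e47bc0320d0b5e945ec7ed8956b4dcc)
noncomputable def ss4 : ℕ := (nat_lit 0x1b72bb2aa5a672c42043133d37e0720e37ef5656695f80f40c2fcef9e892a18914944e48e89d85dd7adb851b5db0bc0)
noncomputable def ss5 : ℕ := (nat_lit 0x289dc6d96adb8312fc36d4204723bf3ae4e3648d03d55a18892bdfb8dcc2e695245351f82aa5e75762bb051b1cb4cc0)
noncomputable def ss6 : ℕ := (nat_lit 0xd39763ef689d35010a48f2c481de777e2db924440e18b3d3ae6cac929b7207f6d4f4051bbf29a8c2da6659afc16540)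
noncomputable def ss7 : ℕ := (nat_lit 0x3ae4d39e769a944df830bc3127a1c6cb338dc51b2c6189656cad76081fbf02075da69514bdf8a2596aeb4f4248f3d00)
noncomputable def ss8 : ℕ := (nat_lit 0xa2585edbbbf135051b0be287ef6cad968721f831c840d655c6ce377e29a8108f426974ce89fae4b31d7b5da3912440)
noncomputable def ss9 : ℕ := (nat_lit 0x2eb77e0c2d96851903e3932c79eacad760e352443130be598721e769abcee07f5d8205351c6c92bef67a33d22855580)
noncomputable def ss10 : ℕ := (nat_lit 0x37e39ebef7ced65544cf41148e34c2c720929f8218a69648db71d79a6585f2c70bf3d35daaa689ebb2db83105182040)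
noncomputable def ss11 : ℕ := (nat_lit 0x3ae78dfbf3df8f4114965544c720928e34c2e28607e392599b71d79a6585f6d74cefc31caeb6cae7a29a83105182040)
noncomputable def ss12 : ℕ := (nat_lit 0x1a6585fcefef524503f4cf6d4e34c2e89eaa461440e07e2878dfae5e75c6f0bf2c565544ecaeeb4a2481e48e6942040)
noncomputable def ss13 : ℕ := (nat_lit 0x38dfae5c6de770bf2c544d654c2ce3689eaa440c61607e285a6585fef7ced24503f6d74ceeb6caca2481e69648c2040)
noncomputable def ss14 : ℕ := (nat_lit 0x37e39e9e75c6d148f434cf6d481ca26dbabb228607c31051bef7ced76196944d6571cafc0d38b3289eaa63925982040)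
noncomputable def ss15 : ℕ := (nat_lit 0x1e75c6fbf3dfb0bf2c5148f429aa7a081ca2431051a69648fae78dd76196944d6575db3d0d38b32caeeb5f821882040)
noncomputable def ss16 : ℕ := (nat_lit 0x3ef7cefae78df3d35dafc31ca9aa7a2dbabb207e28648e69585da65c6de75148f41559350b30d3872092861440c2040)
noncomputable def ss17 : ℕ := (nat_lit 0x3cefef78dfae74cf6d70bf2c689eaa6caeeb607e28648e695a6585de75c6d24503d65544ce34c2ca2481c61440c2040)
noncomputable def ss18 : ℕ := (nat_lit 0x3ae78dfef7cef2c70bf6d74cecaeeb689eaa648e69607e28585da65c6de7503d24544d654e34c2ca2481c61440c2040)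
noncomputable def ss19 : ℕ := (nat_lit 0x37e39ebbf3dfb0bf2c74cf6d6bb2dba7a29aa48e69607e285969761d79b7124503d65544cd38b3092872061440c2040)
noncomputable def ss20 : ℕ := (nat_lit 0x3ef7cefae78df1cafc35db3d289eaa6caeeb6392599f82189b71d7976196903d24544d654928720d38b3061440c2040)
noncomputable def ss21 : ℕ := (nat_lit 0x39eb7e3dfbbf2fc31cb3d35da89eaa6caeeb628607e69648dd79b71969761351558f41148c2ce3481ca2461440c2040)
noncomputable def ss22 : ℕ := (nat_lit 0x3ae78dfef7cef2c70bf6d74ceaa689eeb6cae28607e69648de75c6da6585d65544d24503ce34c2ca2481c61440c2040)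
noncomputable def ss23 : ℕ := (nat_lit 0x38dfae7cefef70bf2c74cf6d6caeeb689eaa648e69607e285a6585de75c6d24503d65544ce34c2ca2481c61440c2040)
noncomputable def ss24 : ℕ := (nat_lit 0x29b65877ef3bc218e29051c6229aeab0d3ce093450576d33f9f75c67ae37d259e68010c232dbeea092ca197554472c3)
noncomputable def ss25 : ℕ := (nat_lit 0x2f70c7c3a384dad652ae051f899b667d482b602dbc14de71345c7900afb41dca2369196e4e8717ba545aa3218ccff2c)
noncomputable def sS : Tr ℕ := (.node (nat_lit 13) (.node (nat_lit 6) (.node (nat_lit 3) (.node (nat_lit 1) (.leaf ss0) (.node (nat_lit 2) (.leaf ss1) (.leaf ss2))) (.node (nat_lit 4) (.leaf ss3) (.node (nat_lit 5) (.leaf ss4) (.leaf ss5))))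
 (.node (nat_lit 9) (.node (nat_lit 7) (.leaf ss6) (.node (nat_lit 8) (.leaf ss7) (.leaf ss8)))
 (.node (nat_lit 11) (.node (nat_lit 10) (.leaf ss9) (.leaf ss10)) (.node (nat_lit 12) (.leaf ss11) (.leaf ss12)))))
 (.node (nat_lit 19) (.node (nat_lit 16) (.node (nat_lit 14) (.leaf ss13) (.node (nat_lit 15) (.leaf ss14) (.leaf ss15))) (.node (nat_lit 17) (.leaf ss16) (.node (nat_lit 18) (.leaf ss17) (.leaf ss18))))
 (.node (nat_lit 22) (.node (nat_lit 20) (.leaf ss19) (.node (nat_lit 21) (.leaf ss20) (.leaf ss21)))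
 (.node (nat_lit 24) (.node (nat_lit 23) (.leaf ss22) (.leaf ss23)) (.node (nat_lit 25) (.leaf ss24) (.leaf ss25))))))
noncomputable def sD : Tr (List ℕ) := (.node (nat_lit 13) (.node (nat_lit 6) (.node (nat_lit 3) (.node (nat_lit 1) (.leaf []) (.node (nat_lit 2) (.leaf []) (.leaf [nat_lit 0, nat_lit 0, nat_lit 0, nat_lit 0, nat_lit 0, nat_lit 0]))) (.node (nat_lit 4) (.leaf [nat_lit 1, nat_lit 1, nat_lit 1, nat_lit 1, nat_lit 1, nat_lit 1]) (.node (nat_lit 5) (.leaf [nat_lit 0, nat_lit 0, nat_lit 1, nat_lit 2, nat_lit 2, nat_lit 3, nat_lit 3]) (.leaf [nat_lit 1, nat_lit 1, nat_lit 0, nat_lit 0, nat_lit 3, nat_lit 2, nat_lit 2]))))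
 (.node (nat_lit 9) (.node (nat_lit 7) (.leaf [nat_lit 2, nat_lit 2, nat_lit 2, nat_lit 3, nat_lit 2, nat_lit 2, nat_lit 3, nat_lit 2, nat_lit 3, nat_lit 3, nat_lit 0, nat_lit 1, nat_lit 1]) (.node (nat_lit 8) (.leaf [nat_lit 3, nat_lit 3, nat_lit 2, nat_lit 1, nat_lit 1, nat_lit 0, nat_lit 1, nat_lit 0, nat_lit 0, nat_lit 1, nat_lit 0, nat_lit 0, nat_lit 0]) (.leaf [nat_lit 1, nat_lit 2, nat_lit 2, nat_lit 1])))
 (.node (nat_lit 11) (.node (nat_lit 10) (.leaf [nat_lit 3, nat_lit 0, nat_lit 0, nat_lit 3]) (.leaf [nat_lit 5, nat_lit 9, nat_lit 6, nat_lit 5, nat_lit 7, nat_lit 8, nat_lit 4, nat_lit 7, nat_lit 5, nat_lit 6, nat_lit 5])) (.node (nat_lit 12) (.leaf [nat_lit 4, nat_lit 7, nat_lit 4, nat_lit 6, nat_lit 5, nat_lit 9, nat_lit 6, nat_lit 4, nat_lit 7, nat_lit 8, nat_lit 4]) (.leaf [nat_lit 5, nat_lit 9, nat_lit 9, nat_lit 7, nat_lit 9, nat_lit 4, nat_lit 6])))))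
 (.node (nat_lit 19) (.node (nat_lit 16) (.node (nat_lit 14) (.leaf [nat_lit 7, nat_lit 5, nat_lit 8, nat_lit 6, nat_lit 8, nat_lit 8, nat_lit 4]) (.node (nat_lit 15) (.leaf [nat_lit 7, nat_lit 4, nat_lit 7, nat_lit 4, nat_lit 9, nat_lit 9, nat_lit 5]) (.leaf [nat_lit 4, nat_lit 8, nat_lit 8, nat_lit 5, nat_lit 6, nat_lit 5, nat_lit 6]))) (.node (nat_lit 17) (.leaf [nat_lit 10, nat_lit 12, nat_lit 12, nat_lit 11, nat_lit 15, nat_lit 10, nat_lit 13, nat_lit 10, nat_lit 13, nat_lit 15, nat_lit 10, nat_lit 15, nat_lit 10, nat_lit 10]) (.node (nat_lit 18) (.leaf [nat_lit 10, nat_lit 13, nat_lit 13, nat_lit 13, nat_lit 15, nat_lit 15, nat_lit 12, nat_lit 11, nat_lit 11, nat_lit 13, nat_lit 10]) (.leaf [nat_lit 12, nat_lit 14, nat_lit 12, nat_lit 15, nat_lit 11, nat_lit 15, nat_lit 15, nat_lit 11, nat_lit 12, nat_lit 11, nat_lit 13, nat_lit 14, nat_lit 10, nat_lit 12, nat_lit 14, nat_lit 11, nat_lit 15, nat_lit 12, nat_lit 14, nat_lit 10]))))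
 (.node (nat_lit 22) (.node (nat_lit 20) (.leaf [nat_lit 12, nat_lit 12, nat_lit 12, nat_lit 11, nat_lit 13, nat_lit 11, nat_lit 14]) (.node (nat_lit 21) (.leaf [nat_lit 15, nat_lit 11, nat_lit 15, nat_lit 13, nat_lit 14, nat_lit 12, nat_lit 14, nat_lit 13, nat_lit 13, nat_lit 14, nat_lit 10, nat_lit 15, nat_lit 11, nat_lit 12, nat_lit 11, nat_lit 14, nat_lit 13, nat_lit 15]) (.leaf [nat_lit 12, nat_lit 12, nat_lit 11, nat_lit 12, nat_lit 11, nat_lit 11, nat_lit 12, nat_lit 12, nat_lit 11, nat_lit 14, nat_lit 14])))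
 (.node (nat_lit 24) (.node (nat_lit 23) (.leaf [nat_lit 16, nat_lit 19, nat_lit 18, nat_lit 17, nat_lit 21]) (.leaf [nat_lit 16, nat_lit 20, nat_lit 18, nat_lit 16, nat_lit 21, nat_lit 19, nat_lit 20, nat_lit 16])) (.node (nat_lit 25) (.leaf [nat_lit 2, nat_lit 14, nat_lit 0, nat_lit 5, nat_lit 15, nat_lit 11, nat_lit 21, nat_lit 23]) (.leaf [nat_lit 1, nat_lit 2, nat_lit 8, nat_lit 7, nat_lit 12, nat_lit 11, nat_lit 21, nat_lit 22]))))))
theorem sslp : slpChk 63 (nat_lit 6) (nat_lit 63) sS sD 2 24 = true := by decide +kernel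
theorem sgen : genrChk 63 (nat_lit 6) (nat_lit 63) G0 sT sS 2 10 24 7 = true := by decide +kernel
theorem simple : IsSimpleGroup P :=
  simple_prim gen slets sprim (fun j hj => allR_iff.1 sconn0 j (Nat.zero_le _) (by omega))
    sgen sslp card (by norm_num) (by norm_num)

end H8.S62
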