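import Cfsg.Agent.H8.Stn

/-! H8.StA: uniqueness of S(2,5,21), S(3,6,22), S(4,5,11), S(5,6,12) (generated certificate) -/

set_option autoImplicit false
set_option maxRecDepth 200000

set_option linter.all false
open Subgroup Cfsg

namespace H8.StA

variable {X : Type*} [Fintype X] [DecidableEq X]
noncomputable def pL : List ℕ := [ (nat_lit 2386), (nat_lit 8300), (nat_lit 29200), (nat_lit 33940), (nat_lit 36875), (nat_lit 67137), (nat_lit 82082), (nat_lit 148744), (nat_lit 239616), (nat_lit 269344), (nat_lit 270721),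
 (nat_lit 393734), (nat_lit 526984), (nat_lit 594180), (nat_lit 655409), (nat_lit 835648), (nat_lit 1067013), (nat_lit 1082144), (nat_lit 1183936), (nat_lit 1376280), (nat_lit 1582082)]
theorem pf : finK 21 2 5 pL = true := by decide +kernel
theorem pg0 (C : H7.Coding X) (hn : C.n = 21) : Good C 2 5 (UQ 21 pL) pL :=
  good_fin hn (by norm_num) pf ⟨C, hn, rfl⟩
noncomputable def pc0 : SC := (SC.step (nat_lit 3) 1 (SC.sym (nat_lit 11) (nat_lit 0x149ca307b9ac5a928398a410c20) (nat_lit 7)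
 (SC.sym (nat_lit 19) (nat_lit 0x149ca307b9ac5a928398a311020) (nat_lit 7)
 (SC.sym (nat_lit 35) (nat_lit 0x149ca307b9ac5a9283988311420) (nat_lit 7)
 (SC.sym (nat_lit 67) (nat_lit 0x149ca307b9ac5a9283948311820) (nat_lit 7)
 (SC.sym (nat_lit 131) (nat_lit 0x149ca307b9ac5a9283148311c20) (nat_lit 7)
 (SC.sym (nat_lit 259) (nat_lit 0x149ca307b9ac5a9273148312020) (nat_lit 7)
 (SC.sym (nat_lit 515) (nat_lit 0x149ca307b9ac5a9073148312420) (nat_lit 7)
 (SC.sym (nat_lit 1027) (nat_lit 0x149ca307b9ac5a5073148312820) (nat_lit 7)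
 (SC.sym (nat_lit 2051) (nat_lit 0x149ca307b9ac525073148312c20) (nat_lit 7)
 (SC.sym (nat_lit 4099) (nat_lit 0x149ca307b9ab525073148313020) (nat_lit 7)
 (SC.sym (nat_lit 8195) (nat_lit 0x149ca307b98b525073148313420) (nat_lit 7)
 (SC.sym (nat_lit 16387) (nat_lit 0x149ca307b58b525073148313820) (nat_lit 7)
 (SC.sym (nat_lit 32771) (nat_lit 0x149ca307358b525073148313c20) (nat_lit 7)
 (SC.sym (nat_lit 65539) (nat_lit 0x149ca2f7358b525073148314020) (nat_lit 7)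
 (SC.sym (nat_lit 131075) (nat_lit 0x149ca0f7358b525073148314420) (nat_lit 7)
 (SC.sym (nat_lit 262147) (nat_lit 0x149c60f7358b525073148314820) (nat_lit 7)
 (SC.sym (nat_lit 524291) (nat_lit 0x149460f7358b525073148314c20) (nat_lit 7)
 (SC.sym (nat_lit 1048579) (nat_lit 0x139460f7358b525073148315020) (nat_lit 7)
 (SC.cas (nat_lit 7)
 (SC.step (nat_lit 7) 1 (SC.sym (nat_lit 23) (nat_lit 0x149ca307b9ac5a928398a320820) (nat_lit 15)
 (SC.sym (nat_lit 39) (nat_lit 0x149ca307b9ac5a9283988328820) (nat_lit 15)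
 (SC.sym (nat_lit 71) (nat_lit 0x149ca307b9ac5a9283948330820) (nat_lit 15)
 (SC.sym (nat_lit 135) (nat_lit 0x149ca307b9ac5a9283148338820) (nat_lit 15)
 (SC.sym (nat_lit 263) (nat_lit 0x149ca307b9ac5a9273148340820) (nat_lit 15)
 (SC.sym (nat_lit 519) (nat_lit 0x149ca307b9ac5a9073148348820) (nat_lit 15)
 (SC.sym (nat_lit 1031) (nat_lit 0x149ca307b9ac5a5073148350820) (nat_lit 15)
 (SC.sym (nat_lit 2055) (nat_lit 0x149ca307b9ac525073148358820) (nat_lit 15)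
 (SC.sym (nat_lit 4103) (nat_lit 0x149ca307b9ab525073148360820) (nat_lit 15)
 (SC.sym (nat_lit 8199) (nat_lit 0x149ca307b98b525073148368820) (nat_lit 15)
 (SC.sym (nat_lit 16391) (nat_lit 0x149ca307b58b525073148370820) (nat_lit 15)
 (SC.sym (nat_lit 32775) (nat_lit 0x149ca307358b525073148378820) (nat_lit 15)
 (SC.sym (nat_lit 65543) (nat_lit 0x149ca2f7358b525073148380820) (nat_lit 15)
 (SC.sym (nat_lit 131079) (nat_lit 0x149ca0f7358b525073148388820) (nat_lit 15)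
 (SC.sym (nat_lit 262151) (nat_lit 0x149c60f7358b525073148390820) (nat_lit 15)
 (SC.sym (nat_lit 524295) (nat_lit 0x149460f7358b525073148398820) (nat_lit 15)
 (SC.sym (nat_lit 1048583) (nat_lit 0x139460f7358b5250731483a0820) (nat_lit 15)
 (SC.cas (nat_lit 15)
 (SC.sub [(nat_lit 15)]
 (SC.step (nat_lit 15) 1 (SC.sym (nat_lit 47) (nat_lit 0x149ca307b9ac5a9283988518820) (nat_lit 31)
 (SC.sym (nat_lit 79) (nat_lit 0x149ca307b9ac5a9283948618820) (nat_lit 31)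
 (SC.sym (nat_lit 143) (nat_lit 0x149ca307b9ac5a9283148718820) (nat_lit 31)
 (SC.sym (nat_lit 271) (nat_lit 0x149ca307b9ac5a9273148818820) (nat_lit 31)
 (SC.sym (nat_lit 527) (nat_lit 0x149ca307b9ac5a9073148918820) (nat_lit 31)
 (SC.sym (nat_lit 1039) (nat_lit 0x149ca307b9ac5a5073148a18820) (nat_lit 31)
 (SC.sym (nat_lit 2063) (nat_lit 0x149ca307b9ac525073148b18820) (nat_lit 31)
 (SC.sym (nat_lit 4111) (nat_lit 0x149ca307b9ab525073148c18820) (nat_lit 31)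
 (SC.sym (nat_lit 8207) (nat_lit 0x149ca307b98b525073148d18820) (nat_lit 31)
 (SC.sym (nat_lit 16399) (nat_lit 0x149ca307b58b525073148e18820) (nat_lit 31)
 (SC.sym (nat_lit 32783) (nat_lit 0x149ca307358b525073148f18820) (nat_lit 31)
 (SC.sym (nat_lit 65551) (nat_lit 0x149ca2f7358b525073149018820) (nat_lit 31)
 (SC.sym (nat_lit 131087) (nat_lit 0x149ca0f7358b525073149118820) (nat_lit 31)
 (SC.sym (nat_lit 262159) (nat_lit 0x149c60f7358b525073149218820) (nat_lit 31)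
 (SC.sym (nat_lit 524303) (nat_lit 0x149460f7358b525073149318820) (nat_lit 31)
 (SC.sym (nat_lit 1048591) (nat_lit 0x139460f7358b525073149418820) (nat_lit 31)
 (SC.cas (nat_lit 31)
 (SC.sub [(nat_lit 31)]
 (SC.step (nat_lit 33) 1 (SC.sym (nat_lit 161) (nat_lit 0x149ca307b9ac5a92831ca418820) (nat_lit 97)
 (SC.sym (nat_lit 289) (nat_lit 0x149ca307b9ac5a927320a418820) (nat_lit 97)
 (SC.sym (nat_lit 545) (nat_lit 0x149ca307b9ac5a907324a418820) (nat_lit 97)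
 (SC.sym (nat_lit 1057) (nat_lit 0x149ca307b9ac5a507328a418820) (nat_lit 97)
 (SC.sym (nat_lit 2081) (nat_lit 0x149ca307b9ac5250732ca418820) (nat_lit 97)
 (SC.sym (nat_lit 4129) (nat_lit 0x149ca307b9ab52507330a418820) (nat_lit 97)
 (SC.sym (nat_lit 8225) (nat_lit 0x149ca307b98b52507334a418820) (nat_lit 97)
 (SC.sym (nat_lit 16417) (nat_lit 0x149ca307b58b52507338a418820) (nat_lit 97)
 (SC.sym (nat_lit 32801) (nat_lit 0x149ca307358b5250733ca418820) (nat_lit 97)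
 (SC.sym (nat_lit 65569) (nat_lit 0x149ca2f7358b52507340a418820) (nat_lit 97)
 (SC.sym (nat_lit 131105) (nat_lit 0x149ca0f7358b52507344a418820) (nat_lit 97)
 (SC.sym (nat_lit 262177) (nat_lit 0x149c60f7358b52507348a418820) (nat_lit 97)
 (SC.sym (nat_lit 524321) (nat_lit 0x149460f7358b5250734ca418820) (nat_lit 97)
 (SC.sym (nat_lit 1048609) (nat_lit 0x139460f7358b52507350a418820) (nat_lit 97)
 (SC.cas (nat_lit 97)
 (SC.step (nat_lit 97) 1 (SC.sym (nat_lit 353) (nat_lit 0x149ca307b9ac5a927418a418820) (nat_lit 225)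
 (SC.sym (nat_lit 609) (nat_lit 0x149ca307b9ac5a907498a418820) (nat_lit 225)
 (SC.sym (nat_lit 1121) (nat_lit 0x149ca307b9ac5a507518a418820) (nat_lit 225)
 (SC.sym (nat_lit 2145) (nat_lit 0x149ca307b9ac52507598a418820) (nat_lit 225)
 (SC.sym (nat_lit 4193) (nat_lit 0x149ca307b9ab52507618a418820) (nat_lit 225)
 (SC.sym (nat_lit 8289) (nat_lit 0x149ca307b98b52507698a418820) (nat_lit 225)
 (SC.sym (nat_lit 16481) (nat_lit 0x149ca307b58b52507718a418820) (nat_lit 225)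
 (SC.sym (nat_lit 32865) (nat_lit 0x149ca307358b52507798a418820) (nat_lit 225)
 (SC.sym (nat_lit 65633) (nat_lit 0x149ca2f7358b52507818a418820) (nat_lit 225)
 (SC.sym (nat_lit 131169) (nat_lit 0x149ca0f7358b52507898a418820) (nat_lit 225)
 (SC.sym (nat_lit 262241) (nat_lit 0x149c60f7358b52507918a418820) (nat_lit 225)
 (SC.sym (nat_lit 524385) (nat_lit 0x149460f7358b52507998a418820) (nat_lit 225)
 (SC.sym (nat_lit 1048673) (nat_lit 0x139460f7358b52507a18a418820) (nat_lit 225)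
 (SC.cas (nat_lit 225)
 (SC.sub [(nat_lit 225), (nat_lit 31)]
 (SC.step (nat_lit 225) 1 (SC.sym (nat_lit 737) (nat_lit 0x149ca307b9ac5a909398a418820) (nat_lit 481)
 (SC.sym (nat_lit 1249) (nat_lit 0x149ca307b9ac5a50a398a418820) (nat_lit 481)
 (SC.sym (nat_lit 2273) (nat_lit 0x149ca307b9ac5250b398a418820) (nat_lit 481)
 (SC.sym (nat_lit 4321) (nat_lit 0x149ca307b9ab5250c398a418820) (nat_lit 481)
 (SC.sym (nat_lit 8417) (nat_lit 0x149ca307b98b5250d398a418820) (nat_lit 481)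
 (SC.sym (nat_lit 16609) (nat_lit 0x149ca307b58b5250e398a418820) (nat_lit 481)
 (SC.sym (nat_lit 32993) (nat_lit 0x149ca307358b5250f398a418820) (nat_lit 481)
 (SC.sym (nat_lit 65761) (nat_lit 0x149ca2f7358b52510398a418820) (nat_lit 481)
 (SC.sym (nat_lit 131297) (nat_lit 0x149ca0f7358b52511398a418820) (nat_lit 481)
 (SC.sym (nat_lit 262369) (nat_lit 0x149c60f7358b52512398a418820) (nat_lit 481)
 (SC.sym (nat_lit 524513) (nat_lit 0x149460f7358b52513398a418820) (nat_lit 481)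
 (SC.sym (nat_lit 1048801) (nat_lit 0x139460f7358b52514398a418820) (nat_lit 481)
 (SC.cas (nat_lit 481)
 (SC.sub [(nat_lit 481), (nat_lit 31)]
 (SC.step (nat_lit 513) 1 (SC.sym (nat_lit 2561) (nat_lit 0x149ca307b9ac52d28398a418820) (nat_lit 1537)
 (SC.sym (nat_lit 4609) (nat_lit 0x149ca307b9ab53128398a418820) (nat_lit 1537)
 (SC.sym (nat_lit 8705) (nat_lit 0x149ca307b98b53528398a418820) (nat_lit 1537)
 (SC.sym (nat_lit 16897) (nat_lit 0x149ca307b58b53928398a418820) (nat_lit 1537)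
 (SC.sym (nat_lit 33281) (nat_lit 0x149ca307358b53d28398a418820) (nat_lit 1537)
 (SC.sym (nat_lit 66049) (nat_lit 0x149ca2f7358b54128398a418820) (nat_lit 1537)
 (SC.sym (nat_lit 131585) (nat_lit 0x149ca0f7358b54528398a418820) (nat_lit 1537)
 (SC.sym (nat_lit 262657) (nat_lit 0x149c60f7358b54928398a418820) (nat_lit 1537)
 (SC.sym (nat_lit 524801) (nat_lit 0x149460f7358b54d28398a418820) (nat_lit 1537)
 (SC.sym (nat_lit 1049089) (nat_lit 0x139460f7358b55128398a418820) (nat_lit 1537)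
 (SC.cas (nat_lit 1537)
 (SC.step (nat_lit 1537) 1 (SC.sym (nat_lit 5633) (nat_lit 0x149ca307b9ab62928398a418820) (nat_lit 3585)
 (SC.sym (nat_lit 9729) (nat_lit 0x149ca307b98b6a928398a418820) (nat_lit 3585)
 (SC.sym (nat_lit 17921) (nat_lit 0x149ca307b58b72928398a418820) (nat_lit 3585)
 (SC.sym (nat_lit 34305) (nat_lit 0x149ca307358b7a928398a418820) (nat_lit 3585)
 (SC.sym (nat_lit 67073) (nat_lit 0x149ca2f7358b82928398a418820) (nat_lit 3585)
 (SC.sym (nat_lit 132609) (nat_lit 0x149ca0f7358b8a928398a418820) (nat_lit 3585)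
 (SC.sym (nat_lit 263681) (nat_lit 0x149c60f7358b92928398a418820) (nat_lit 3585)
 (SC.sym (nat_lit 525825) (nat_lit 0x149460f7358b9a928398a418820) (nat_lit 3585)
 (SC.sym (nat_lit 1050113) (nat_lit 0x139460f7358ba2928398a418820) (nat_lit 3585)
 (SC.cas (nat_lit 3585)
 (SC.sub [(nat_lit 3585), (nat_lit 481), (nat_lit 31)]
 (SC.step (nat_lit 3585) 1 (SC.sym (nat_lit 11777) (nat_lit 0x149ca307b98d5a928398a418820) (nat_lit 7681)
 (SC.sym (nat_lit 19969) (nat_lit 0x149ca307b58e5a928398a418820) (nat_lit 7681)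
 (SC.sym (nat_lit 36353) (nat_lit 0x149ca307358f5a928398a418820) (nat_lit 7681)
 (SC.sym (nat_lit 69121) (nat_lit 0x149ca2f735905a928398a418820) (nat_lit 7681)
 (SC.sym (nat_lit 134657) (nat_lit 0x149ca0f735915a928398a418820) (nat_lit 7681)
 (SC.sym (nat_lit 265729) (nat_lit 0x149c60f735925a928398a418820) (nat_lit 7681)
 (SC.sym (nat_lit 527873) (nat_lit 0x149460f735935a928398a418820) (nat_lit 7681)
 (SC.sym (nat_lit 1052161) (nat_lit 0x139460f735945a928398a418820) (nat_lit 7681)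
 (SC.cas (nat_lit 7681)
 (SC.sub [(nat_lit 7681), (nat_lit 481), (nat_lit 31)]
 (SC.step (nat_lit 8193) 1 (SC.sym (nat_lit 40961) (nat_lit 0x149ca3073dac5a928398a418820) (nat_lit 24577)
 (SC.sym (nat_lit 73729) (nat_lit 0x149ca2f741ac5a928398a418820) (nat_lit 24577)
 (SC.sym (nat_lit 139265) (nat_lit 0x149ca0f745ac5a928398a418820) (nat_lit 24577)
 (SC.sym (nat_lit 270337) (nat_lit 0x149c60f749ac5a928398a418820) (nat_lit 24577)
 (SC.sym (nat_lit 532481) (nat_lit 0x149460f74dac5a928398a418820) (nat_lit 24577)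
 (SC.sym (nat_lit 1056769) (nat_lit 0x139460f751ac5a928398a418820) (nat_lit 24577)
 (SC.cas (nat_lit 24577)
 (SC.step (nat_lit 24577) 2 (SC.sym (nat_lit 188417) (nat_lit 0x149ca117b9ac5a928398a418820) (nat_lit 122881)
 (SC.sym (nat_lit 319489) (nat_lit 0x149c6127b9ac5a928398a418820) (nat_lit 122881)
 (SC.sym (nat_lit 581633) (nat_lit 0x14946137b9ac5a928398a418820) (nat_lit 122881)
 (SC.sym (nat_lit 1105921) (nat_lit 0x13946147b9ac5a928398a418820) (nat_lit 122881)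
 (SC.sym (nat_lit 221185) (nat_lit 0x149c9f1839ac5a928398a418820) (nat_lit 122881)
 (SC.sym (nat_lit 352257) (nat_lit 0x149c5f2839ac5a928398a418820) (nat_lit 122881)
 (SC.sym (nat_lit 614401) (nat_lit 0x14945f3839ac5a928398a418820) (nat_lit 122881)
 (SC.sym (nat_lit 1138689) (nat_lit 0x13945f4839ac5a928398a418820) (nat_lit 122881)
 (SC.sym (nat_lit 417793) (nat_lit 0x149c1f28b9ac5a928398a418820) (nat_lit 122881)
 (SC.sym (nat_lit 679937) (nat_lit 0x14941f38b9ac5a928398a418820) (nat_lit 122881)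
 (SC.sym (nat_lit 1204225) (nat_lit 0x13941f48b9ac5a928398a418820) (nat_lit 122881)
 (SC.sym (nat_lit 811009) (nat_lit 0x148c1f3939ac5a928398a418820) (nat_lit 122881)
 (SC.sym (nat_lit 1335297) (nat_lit 0x138c1f4939ac5a928398a418820) (nat_lit 122881)
 (SC.sym (nat_lit 1597441) (nat_lit 0x128c1f49b9ac5a928398a418820) (nat_lit 122881)
 (SC.cas (nat_lit 122881)
 (SC.sub [(nat_lit 122881), (nat_lit 7681), (nat_lit 481), (nat_lit 31)]
 (SC.step (nat_lit 131073) 3 (SC.cas (nat_lit 1966081)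
 (SC.step (nat_lit 34) 1 (SC.sym (nat_lit 1058) (nat_lit 0x149ca307b9ac5a548398a418820) (nat_lit 546)
 (SC.sym (nat_lit 2082) (nat_lit 0x149ca307b9ac52568398a418820) (nat_lit 546)
 (SC.sym (nat_lit 4130) (nat_lit 0x149ca307b9ab52588398a418820) (nat_lit 546)
 (SC.sym (nat_lit 8226) (nat_lit 0x149ca2c5a9307b9a8398a418820) (nat_lit 546)
 (SC.sym (nat_lit 16418) (nat_lit 0x149ca2c5a9307b5c8398a418820) (nat_lit 546)
 (SC.sym (nat_lit 32802) (nat_lit 0x149ca2c5a930735e8398a418820) (nat_lit 546)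
 (SC.sym (nat_lit 65570) (nat_lit 0x149ca2c5a92f73608398a418820) (nat_lit 546)
 (SC.sym (nat_lit 131106) (nat_lit 0x107b9ac5a9349ca28398a418820) (nat_lit 546)
 (SC.sym (nat_lit 262178) (nat_lit 0x107b9ac5a9349c648398a418820) (nat_lit 546)
 (SC.sym (nat_lit 524322) (nat_lit 0x107b9ac5a93494668398a418820) (nat_lit 546)
 (SC.sym (nat_lit 1048610) (nat_lit 0x107b9ac5a93394688398a418820) (nat_lit 546)
 (SC.cas (nat_lit 546)
 (SC.step (nat_lit 546) 2 (SC.sym (nat_lit 270882) (nat_lit 0x149c6507b9ac5a928398a418820) (nat_lit 139810)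
 (SC.sym (nat_lit 533026) (nat_lit 0x14946707b9ac5a928398a418820) (nat_lit 139810)
 (SC.sym (nat_lit 1057314) (nat_lit 0x13946907b9ac5a928398a418820) (nat_lit 139810)
 (SC.sym (nat_lit 148002) (nat_lit 0x149ca307b5cc5a928398a418820) (nat_lit 139810)
 (SC.sym (nat_lit 279074) (nat_lit 0x149c6507b5cc5a928398a418820) (nat_lit 139810)
 (SC.sym (nat_lit 541218) (nat_lit 0x14946707b5cc5a928398a418820) (nat_lit 139810)
 (SC.sym (nat_lit 1065506) (nat_lit 0x13946907b5cc5a928398a418820) (nat_lit 139810)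
 (SC.sym (nat_lit 164386) (nat_lit 0x149ca30735ec5a928398a418820) (nat_lit 139810)
 (SC.sym (nat_lit 295458) (nat_lit 0x149c650735ec5a928398a418820) (nat_lit 139810)
 (SC.sym (nat_lit 557602) (nat_lit 0x1494670735ec5a928398a418820) (nat_lit 139810)
 (SC.sym (nat_lit 1081890) (nat_lit 0x1394690735ec5a928398a418820) (nat_lit 139810)
 (SC.sym (nat_lit 197154) (nat_lit 0x149ca2f7360c5a928398a418820) (nat_lit 139810)
 (SC.sym (nat_lit 328226) (nat_lit 0x149c64f7360c5a928398a418820) (nat_lit 139810)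
 (SC.sym (nat_lit 590370) (nat_lit 0x149466f7360c5a928398a418820) (nat_lit 139810)
 (SC.sym (nat_lit 1114658) (nat_lit 0x139468f7360c5a928398a418820) (nat_lit 139810)
 (SC.cas (nat_lit 139810)
 (SC.sub [(nat_lit 139810), (nat_lit 1966081), (nat_lit 122881), (nat_lit 7681), (nat_lit 481), (nat_lit 31)]
 (SC.step (nat_lit 36) 3 (SC.sym (nat_lit 541732) (nat_lit 0x1494e307b9ac5a928398a418820) (nat_lit 279588)
 (SC.sym (nat_lit 1066020) (nat_lit 0x13952307b9ac5a928398a418820) (nat_lit 279588)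
 (SC.sym (nat_lit 295972) (nat_lit 0x149ca3073dac5a928398a418820) (nat_lit 279588)
 (SC.sym (nat_lit 558116) (nat_lit 0x1494e3073dac5a928398a418820) (nat_lit 279588)
 (SC.sym (nat_lit 1082404) (nat_lit 0x139523073dac5a928398a418820) (nat_lit 279588)
 (SC.sym (nat_lit 328740) (nat_lit 0x149ca2f741ac5a928398a418820) (nat_lit 279588)
 (SC.sym (nat_lit 590884) (nat_lit 0x1494e2f741ac5a928398a418820) (nat_lit 279588)
 (SC.sym (nat_lit 1115172) (nat_lit 0x139522f741ac5a928398a418820) (nat_lit 279588)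
 (SC.sym (nat_lit 280612) (nat_lit 0x149ca307b9ac52d28398a418820) (nat_lit 279588)
 (SC.sym (nat_lit 542756) (nat_lit 0x1494e307b9ac52d28398a418820) (nat_lit 279588)
 (SC.sym (nat_lit 1067044) (nat_lit 0x13952307b9ac52d28398a418820) (nat_lit 279588)
 (SC.sym (nat_lit 296996) (nat_lit 0x149ca3073dac52d28398a418820) (nat_lit 279588)
 (SC.sym (nat_lit 559140) (nat_lit 0x1494e3073dac52d28398a418820) (nat_lit 279588)
 (SC.sym (nat_lit 1083428) (nat_lit 0x139523073dac52d28398a418820) (nat_lit 279588)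
 (SC.sym (nat_lit 329764) (nat_lit 0x149ca2f741ac52d28398a418820) (nat_lit 279588)
 (SC.sym (nat_lit 591908) (nat_lit 0x1494e2f741ac52d28398a418820) (nat_lit 279588)
 (SC.sym (nat_lit 1116196) (nat_lit 0x139522f741ac52d28398a418820) (nat_lit 279588)
 (SC.sym (nat_lit 282660) (nat_lit 0x149ca307b9ab53128398a418820) (nat_lit 279588)
 (SC.sym (nat_lit 544804) (nat_lit 0x1494e307b9ab53128398a418820) (nat_lit 279588)
 (SC.sym (nat_lit 1069092) (nat_lit 0x13952307b9ab53128398a418820) (nat_lit 279588)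
 (SC.sym (nat_lit 299044) (nat_lit 0x149ca3073dab53128398a418820) (nat_lit 279588)
 (SC.sym (nat_lit 561188) (nat_lit 0x1494e3073dab53128398a418820) (nat_lit 279588)
 (SC.sym (nat_lit 1085476) (nat_lit 0x139523073dab53128398a418820) (nat_lit 279588)
 (SC.sym (nat_lit 331812) (nat_lit 0x149ca2f741ab53128398a418820) (nat_lit 279588)
 (SC.sym (nat_lit 593956) (nat_lit 0x1494e2f741ab53128398a418820) (nat_lit 279588)
 (SC.sym (nat_lit 1118244) (nat_lit 0x139522f741ab53128398a418820) (nat_lit 279588)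
 (SC.cas (nat_lit 279588)
 (SC.step (nat_lit 40) 3 (SC.sym (nat_lit 1083432) (nat_lit 0x13a4a307b9ac5a928398a418820) (nat_lit 559144)
 (SC.sym (nat_lit 591912) (nat_lit 0x149ca2f839ac5a928398a418820) (nat_lit 559144)
 (SC.sym (nat_lit 1116200) (nat_lit 0x13a4a2f839ac5a928398a418820) (nat_lit 559144)
 (SC.sym (nat_lit 561192) (nat_lit 0x149ca307b9ab62928398a418820) (nat_lit 559144)
 (SC.sym (nat_lit 1085480) (nat_lit 0x13a4a307b9ab62928398a418820) (nat_lit 559144)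
 (SC.sym (nat_lit 593960) (nat_lit 0x149ca2f839ab62928398a418820) (nat_lit 559144)
 (SC.sym (nat_lit 1118248) (nat_lit 0x13a4a2f839ab62928398a418820) (nat_lit 559144)
 (SC.cas (nat_lit 559144)
 (SC.step (nat_lit 48) 3 (SC.cas (nat_lit 1118256)
 (SC.step (nat_lit 516) 3 (SC.sym (nat_lit 590404) (nat_lit 0x107b9b49ca2c5a928398a418820) (nat_lit 1081924)
 (SC.sym (nat_lit 1081988) (nat_lit 0x149ca307b9ac5a92831ca418820) (nat_lit 1081924)
 (SC.sym (nat_lit 590468) (nat_lit 0x107b9b49ca2c5a92831ca418820) (nat_lit 1081924)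
 (SC.sym (nat_lit 1082116) (nat_lit 0x149ca307b9ac5a927320a418820) (nat_lit 1081924)
 (SC.sym (nat_lit 590596) (nat_lit 0x107b9b49ca2c5a927320a418820) (nat_lit 1081924)
 (SC.cas (nat_lit 1081924)
 (SC.step (nat_lit 520) 3 (SC.sym (nat_lit 328456) (nat_lit 0x149ca307b9ac5a927418a418820) (nat_lit 328328)
 (SC.cas (nat_lit 328328)
 (SC.step (nat_lit 528) 3 (SC.cas (nat_lit 541456)
 (SC.step (nat_lit 16392) 3 (SC.cas (nat_lit 151624)
 (SC.step (nat_lit 264) 3 (SC.cas (nat_lit 1058056)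
 (SC.step (nat_lit 16386) 3 (SC.cas (nat_lit 1067138)
 (SC.step (nat_lit 66) 3 (SC.cas (nat_lit 590914)
 (SC.step (nat_lit 80) 3 (SC.cas (nat_lit 272464)
 (SC.step (nat_lit 258) 3 (SC.cas (nat_lit 299266)
 (SC.step (nat_lit 1040) 3 (SC.cas (nat_lit 165008)
 (SC.step (nat_lit 65540) 3 (SC.cas (nat_lit 198916)
 (SC.step (nat_lit 524292) 3 (SC.cas (nat_lit 536708)
 (SC.rel (nat_lit 0x75b533219c34522f8494c11420) pL SC.fin) SC.nil)) SC.nil)) SC.nil)) SC.nil)) SC.nil)) SC.nil)) SC.nil)) SC.nil)) SC.nil)) SC.nil)) SC.nil))) SC.nil))))))) SC.nil)) SC.nil))))))))) SC.nil))))))))))))))))))))))))))))) SC.nil))))))))))))))))) SC.nil))))))))))))) SC.nil))) SC.nil)))))))))))))))) SC.nil))))))))) SC.nil))))))))))) SC.nil))))))))))) SC.nil))))))))))))) SC.nil))))))))))))))) SC.nil))))))))))))))) SC.nil))))))))))))))))) SC.nil))))))))))))))))))) SC.nil))))))))))))))))))) SC.nil))))))))))))))))))))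
theorem pk0 : pc0.chk 21 2 5 true [pL] true [] = true := by decide +kernel
theorem pg1 (C : H7.Coding X) (hn : C.n = 21) : Good C 2 5 (UQ 21 pL) [] :=
  chk_good hn (by norm_num) UQ.inv (List.forall_mem_singleton.2 (pg0 C hn)) pk0
theorem puq (hX : Fintype.card X = 21) {B : Set (Finset X)} (hB : IsSteinerSystem 2 5 B) : UQ 21 pL B :=
  UQ.of_good pg1 hX hB
noncomputable def hL : List ℕ := [ (nat_lit 1594), (nat_lit 4773), (nat_lit 12036), (nat_lit 16601), (nat_lit 21574), (nat_lit 41666), (nat_lit 55680), (nat_lit 58401), (nat_lit 67881), (nat_lit 73751), (nat_lit 78984),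
 (nat_lit 102512), (nat_lit 115212), (nat_lit 134275), (nat_lit 137244), (nat_lit 143650), (nat_lit 150112), (nat_lit 164165), (nat_lit 197520), (nat_lit 267080), (nat_lit 278836), (nat_lit 288778), (nat_lit 297489),
 (nat_lit 329924), (nat_lit 361730), (nat_lit 402512), (nat_lit 426152), (nat_lit 479233), (nat_lit 525792), (nat_lit 538689), (nat_lit 541443), (nat_lit 559142), (nat_lit 565528), (nat_lit 609296), (nat_lit 680068),
 (nat_lit 693760), (nat_lit 720970), (nat_lit 787469), (nat_lit 790674), (nat_lit 860704), (nat_lit 1048974), (nat_lit 1053969), (nat_lit 1058992), (nat_lit 1084488), (nat_lit 1120770), (nat_lit 1139008), (nat_lit 1188361),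
 (nat_lit 1228818), (nat_lit 1246244), (nat_lit 1310819), (nat_lit 1328768), (nat_lit 1355780), (nat_lit 1573460), (nat_lit 1593384), (nat_lit 1671297), (nat_lit 1968384), (nat_lit 2099538), (nat_lit 2105452), (nat_lit 2126352),
 (nat_lit 2131092), (nat_lit 2134027), (nat_lit 2164289), (nat_lit 2179234), (nat_lit 2245896), (nat_lit 2336768), (nat_lit 2366496), (nat_lit 2367873), (nat_lit 2490886), (nat_lit 2624136), (nat_lit 2691332), (nat_lit 2752561),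
 (nat_lit 2932800), (nat_lit 3164165), (nat_lit 3179296), (nat_lit 3281088), (nat_lit 3473432), (nat_lit 3679234)]
theorem hf : finK 22 3 6 hL = true := by decide +kernel
theorem hg0 (C : H7.Coding X) (hn : C.n = 22) : Good C 3 6 (UQ 22 hL) hL :=
  good_fin hn (by norm_num) hf ⟨C, hn, rfl⟩
noncomputable def hK0 : List ℕ := [ (nat_lit 2099538), (nat_lit 2105452), (nat_lit 2126352), (nat_lit 2131092), (nat_lit 2134027), (nat_lit 2164289), (nat_lit 2179234), (nat_lit 2245896), (nat_lit 2336768), (nat_lit 2366496), (nat_lit 2367873),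
 (nat_lit 2490886), (nat_lit 2624136), (nat_lit 2691332), (nat_lit 2752561), (nat_lit 2932800), (nat_lit 3164165), (nat_lit 3179296), (nat_lit 3281088), (nat_lit 3473432), (nat_lit 3679234)]
noncomputable def hc0 : SC := (SC.step (nat_lit 7) 3 (SC.sym (nat_lit 1319) (nat_lit 0x2ae845287acaca1e53234ca18820) (nat_lit 73751)
 (SC.sym (nat_lit 524487) (nat_lit 0x2ab426537d0cc71230515a718820) (nat_lit 73751)
 (SC.cas (nat_lit 73751)
 (SC.step (nat_lit 13) 3 (SC.cas (nat_lit 787469)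
 (SC.step (nat_lit 14) 3 (SC.cas (nat_lit 1048974)
 (SC.step (nat_lit 28) 3 (SC.cas (nat_lit 137244)
 (SC.step (nat_lit 524) 3 (SC.cas (nat_lit 115212)
 (SC.step (nat_lit 276) 3 (SC.cas (nat_lit 278836)
 (SC.step (nat_lit 84) 3 (SC.cas (nat_lit 1573460)
 (SC.step (nat_lit 327684) 3 (SC.cas (nat_lit 329924)
 (SC.step (nat_lit 65572) 3 (SC.cas (nat_lit 1246244)
 (SC.step (nat_lit 266244) 3 (SC.cas (nat_lit 1355780)
 (SC.step (nat_lit 37) 3 (SC.cas (nat_lit 4773)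
 (SC.step (nat_lit 38) 3 (SC.cas (nat_lit 559142)
 (SC.step (nat_lit 69) 3 (SC.cas (nat_lit 164165)
 (SC.step (nat_lit 772) 3 (SC.cas (nat_lit 12036)
 (SC.step (nat_lit 4102) 3 (SC.cas (nat_lit 21574)
 (SC.step (nat_lit 8324) 3 (SC.cas (nat_lit 680068)
 (SC.step (nat_lit 25) 3 (SC.cas (nat_lit 16601)
 (SC.step (nat_lit 176) 3 (SC.cas (nat_lit 1058992)
 (SC.step (nat_lit 1096) 3 (SC.cas (nat_lit 1084488)
 (SC.step (nat_lit 16417) 3 (SC.cas (nat_lit 58401)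
 (SC.step (nat_lit 26) 3 (SC.cas (nat_lit 1594)
 (SC.step (nat_lit 112) 3 (SC.cas (nat_lit 102512)
 (SC.step (nat_lit 168) 3 (SC.cas (nat_lit 426152)
 (SC.step (nat_lit 280) 3 (SC.cas (nat_lit 565528)
 (SC.step (nat_lit 578) 3 (SC.cas (nat_lit 41666)
 (SC.step (nat_lit 1104) 3 (SC.cas (nat_lit 402512)
 (SC.step (nat_lit 1120) 3 (SC.cas (nat_lit 525792)
 (SC.step (nat_lit 1160) 3 (SC.cas (nat_lit 78984)
 (SC.step (nat_lit 35) 3 (SC.cas (nat_lit 1310819)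
 (SC.step (nat_lit 41) 3 (SC.cas (nat_lit 67881)
 (SC.step (nat_lit 74) 3 (SC.cas (nat_lit 720970)
 (SC.step (nat_lit 290) 3 (SC.cas (nat_lit 143650)
 (SC.step (nat_lit 608) 3 (SC.cas (nat_lit 150112)
 (SC.step (nat_lit 2113) 3 (SC.cas (nat_lit 538689)
 (SC.step (nat_lit 262154) 3 (SC.cas (nat_lit 288778)
 (SC.step (nat_lit 262216) 3 (SC.cas (nat_lit 267080)
 (SC.step (nat_lit 262688) 3 (SC.cas (nat_lit 860704)
 (SC.step (nat_lit 1048585) 3 (SC.cas (nat_lit 1188361)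
 (SC.step (nat_lit 1048616) 3 (SC.cas (nat_lit 1593384)
 (SC.step (nat_lit 1048896) 3 (SC.cas (nat_lit 1139008)
 (SC.step (nat_lit 131) 3 (SC.cas (nat_lit 134275)
 (SC.step (nat_lit 146) 3 (SC.cas (nat_lit 790674)
 (SC.step (nat_lit 259) 3 (SC.cas (nat_lit 541443)
 (SC.step (nat_lit 1041) 3 (SC.cas (nat_lit 1053969)
 (SC.step (nat_lit 1282) 3 (SC.cas (nat_lit 361730)
 (SC.step (nat_lit 1664) 3 (SC.cas (nat_lit 1328768)
 (SC.step (nat_lit 2065) 3 (SC.cas (nat_lit 297489)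
 (SC.step (nat_lit 2432) 3 (SC.cas (nat_lit 55680)
 (SC.step (nat_lit 2562) 3 (SC.cas (nat_lit 1120770)
 (SC.step (nat_lit 3088) 3 (SC.cas (nat_lit 609296)
 (SC.step (nat_lit 32897) 3 (SC.cas (nat_lit 1671297)
 (SC.step (nat_lit 131090) 3 (SC.cas (nat_lit 1228818)
 (SC.step (nat_lit 131216) 3 (SC.cas (nat_lit 197520)
 (SC.step (nat_lit 132608) 3 (SC.cas (nat_lit 693760)
 (SC.step (nat_lit 133376) 3 (SC.cas (nat_lit 1968384)
 (SC.step (nat_lit 135169) 3 (SC.cas (nat_lit 479233)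
 (SC.sub hL SC.fin) SC.nil)) SC.nil)) SC.nil)) SC.nil)) SC.nil)) SC.nil)) SC.nil)) SC.nil)) SC.nil)) SC.nil)) SC.nil)) SC.nil)) SC.nil)) SC.nil)) SC.nil)) SC.nil)) SC.nil)) SC.nil)) SC.nil)) SC.nil)) SC.nil)) SC.nil)) SC.nil)) SC.nil)) SC.nil)) SC.nil)) SC.nil)) SC.nil)) SC.nil)) SC.nil)) SC.nil)) SC.nil)) SC.nil)) SC.nil)) SC.nil)) SC.nil)) SC.nil)) SC.nil)) SC.nil)) SC.nil)) SC.nil)) SC.nil)) SC.nil)) SC.nil)) SC.nil)) SC.nil)) SC.nil)) SC.nil)) SC.nil)) SC.nil)) SC.nil)) SC.nil)) SC.nil)) SC.nil)) SC.nil)) SC.nil))))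
theorem hk0 : hc0.chk 22 3 6 true [hL] true hK0 = true := by decide +kernel
theorem hg1 (C : H7.Coding X) (hn : C.n = 22) : Good C 3 6 (UQ 22 hL) hK0 :=
  chk_good hn (by norm_num) UQ.inv (List.forall_mem_singleton.2 (hg0 C hn)) hk0
noncomputable def hc1 : SC := (SC.step (nat_lit 2097155) 1 (SC.sym (nat_lit 2097163) (nat_lit 0x2b49ca307b9ac5a928398a410c20) (nat_lit 2097159)
 (SC.sym (nat_lit 2097171) (nat_lit 0x2b49ca307b9ac5a928398a311020) (nat_lit 2097159)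
 (SC.sym (nat_lit 2097187) (nat_lit 0x2b49ca307b9ac5a9283988311420) (nat_lit 2097159)
 (SC.sym (nat_lit 2097219) (nat_lit 0x2b49ca307b9ac5a9283948311820) (nat_lit 2097159)
 (SC.sym (nat_lit 2097283) (nat_lit 0x2b49ca307b9ac5a9283148311c20) (nat_lit 2097159)
 (SC.sym (nat_lit 2097411) (nat_lit 0x2b49ca307b9ac5a9273148312020) (nat_lit 2097159)
 (SC.sym (nat_lit 2097667) (nat_lit 0x2b49ca307b9ac5a9073148312420) (nat_lit 2097159)
 (SC.sym (nat_lit 2098179) (nat_lit 0x2b49ca307b9ac5a5073148312820) (nat_lit 2097159)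
 (SC.sym (nat_lit 2099203) (nat_lit 0x2b49ca307b9ac525073148312c20) (nat_lit 2097159)
 (SC.sym (nat_lit 2101251) (nat_lit 0x2b49ca307b9ab525073148313020) (nat_lit 2097159)
 (SC.sym (nat_lit 2105347) (nat_lit 0x2b49ca307b98b525073148313420) (nat_lit 2097159)
 (SC.sym (nat_lit 2113539) (nat_lit 0x2b49ca307b58b525073148313820) (nat_lit 2097159)
 (SC.sym (nat_lit 2129923) (nat_lit 0x2b49ca307358b525073148313c20) (nat_lit 2097159)
 (SC.sym (nat_lit 2162691) (nat_lit 0x2b49ca2f7358b525073148314020) (nat_lit 2097159)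
 (SC.sym (nat_lit 2228227) (nat_lit 0x2b49ca0f7358b525073148314420) (nat_lit 2097159)
 (SC.sym (nat_lit 2359299) (nat_lit 0x2b49c60f7358b525073148314820) (nat_lit 2097159)
 (SC.sym (nat_lit 2621443) (nat_lit 0x2b49460f7358b525073148314c20) (nat_lit 2097159)
 (SC.sym (nat_lit 3145731) (nat_lit 0x2b39460f7358b525073148315020) (nat_lit 2097159)
 (SC.cas (nat_lit 2097159)
 (SC.step (nat_lit 2097159) 1 (SC.sym (nat_lit 2097175) (nat_lit 0x2b49ca307b9ac5a928398a320820) (nat_lit 2097167)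
 (SC.sym (nat_lit 2097191) (nat_lit 0x2b49ca307b9ac5a9283988328820) (nat_lit 2097167)
 (SC.sym (nat_lit 2097223) (nat_lit 0x2b49ca307b9ac5a9283948330820) (nat_lit 2097167)
 (SC.sym (nat_lit 2097287) (nat_lit 0x2b49ca307b9ac5a9283148338820) (nat_lit 2097167)
 (SC.sym (nat_lit 2097415) (nat_lit 0x2b49ca307b9ac5a9273148340820) (nat_lit 2097167)
 (SC.sym (nat_lit 2097671) (nat_lit 0x2b49ca307b9ac5a9073148348820) (nat_lit 2097167)
 (SC.sym (nat_lit 2098183) (nat_lit 0x2b49ca307b9ac5a5073148350820) (nat_lit 2097167)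
 (SC.sym (nat_lit 2099207) (nat_lit 0x2b49ca307b9ac525073148358820) (nat_lit 2097167)
 (SC.sym (nat_lit 2101255) (nat_lit 0x2b49ca307b9ab525073148360820) (nat_lit 2097167)
 (SC.sym (nat_lit 2105351) (nat_lit 0x2b49ca307b98b525073148368820) (nat_lit 2097167)
 (SC.sym (nat_lit 2113543) (nat_lit 0x2b49ca307b58b525073148370820) (nat_lit 2097167)
 (SC.sym (nat_lit 2129927) (nat_lit 0x2b49ca307358b525073148378820) (nat_lit 2097167)
 (SC.sym (nat_lit 2162695) (nat_lit 0x2b49ca2f7358b525073148380820) (nat_lit 2097167)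
 (SC.sym (nat_lit 2228231) (nat_lit 0x2b49ca0f7358b525073148388820) (nat_lit 2097167)
 (SC.sym (nat_lit 2359303) (nat_lit 0x2b49c60f7358b525073148390820) (nat_lit 2097167)
 (SC.sym (nat_lit 2621447) (nat_lit 0x2b49460f7358b525073148398820) (nat_lit 2097167)
 (SC.sym (nat_lit 3145735) (nat_lit 0x2b39460f7358b5250731483a0820) (nat_lit 2097167)
 (SC.cas (nat_lit 2097167)
 (SC.sub [(nat_lit 2097167)]
 (SC.step (nat_lit 2097167) 1 (SC.sym (nat_lit 2097199) (nat_lit 0x2b49ca307b9ac5a9283988518820) (nat_lit 2097183)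
 (SC.sym (nat_lit 2097231) (nat_lit 0x2b49ca307b9ac5a9283948618820) (nat_lit 2097183)
 (SC.sym (nat_lit 2097295) (nat_lit 0x2b49ca307b9ac5a9283148718820) (nat_lit 2097183)
 (SC.sym (nat_lit 2097423) (nat_lit 0x2b49ca307b9ac5a9273148818820) (nat_lit 2097183)
 (SC.sym (nat_lit 2097679) (nat_lit 0x2b49ca307b9ac5a9073148918820) (nat_lit 2097183)
 (SC.sym (nat_lit 2098191) (nat_lit 0x2b49ca307b9ac5a5073148a18820) (nat_lit 2097183)
 (SC.sym (nat_lit 2099215) (nat_lit 0x2b49ca307b9ac525073148b18820) (nat_lit 2097183)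
 (SC.sym (nat_lit 2101263) (nat_lit 0x2b49ca307b9ab525073148c18820) (nat_lit 2097183)
 (SC.sym (nat_lit 2105359) (nat_lit 0x2b49ca307b98b525073148d18820) (nat_lit 2097183)
 (SC.sym (nat_lit 2113551) (nat_lit 0x2b49ca307b58b525073148e18820) (nat_lit 2097183)
 (SC.sym (nat_lit 2129935) (nat_lit 0x2b49ca307358b525073148f18820) (nat_lit 2097183)
 (SC.sym (nat_lit 2162703) (nat_lit 0x2b49ca2f7358b525073149018820) (nat_lit 2097183)
 (SC.sym (nat_lit 2228239) (nat_lit 0x2b49ca0f7358b525073149118820) (nat_lit 2097183)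
 (SC.sym (nat_lit 2359311) (nat_lit 0x2b49c60f7358b525073149218820) (nat_lit 2097183)
 (SC.sym (nat_lit 2621455) (nat_lit 0x2b49460f7358b525073149318820) (nat_lit 2097183)
 (SC.sym (nat_lit 3145743) (nat_lit 0x2b39460f7358b525073149418820) (nat_lit 2097183)
 (SC.cas (nat_lit 2097183)
 (SC.sub [(nat_lit 2097183)]
 (SC.step (nat_lit 2097185) 1 (SC.sym (nat_lit 2097313) (nat_lit 0x2b49ca307b9ac5a92831ca418820) (nat_lit 2097249)
 (SC.sym (nat_lit 2097441) (nat_lit 0x2b49ca307b9ac5a927320a418820) (nat_lit 2097249)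
 (SC.sym (nat_lit 2097697) (nat_lit 0x2b49ca307b9ac5a907324a418820) (nat_lit 2097249)
 (SC.sym (nat_lit 2098209) (nat_lit 0x2b49ca307b9ac5a507328a418820) (nat_lit 2097249)
 (SC.sym (nat_lit 2099233) (nat_lit 0x2b49ca307b9ac5250732ca418820) (nat_lit 2097249)
 (SC.sym (nat_lit 2101281) (nat_lit 0x2b49ca307b9ab52507330a418820) (nat_lit 2097249)
 (SC.sym (nat_lit 2105377) (nat_lit 0x2b49ca307b98b52507334a418820) (nat_lit 2097249)
 (SC.sym (nat_lit 2113569) (nat_lit 0x2b49ca307b58b52507338a418820) (nat_lit 2097249)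
 (SC.sym (nat_lit 2129953) (nat_lit 0x2b49ca307358b5250733ca418820) (nat_lit 2097249)
 (SC.sym (nat_lit 2162721) (nat_lit 0x2b49ca2f7358b52507340a418820) (nat_lit 2097249)
 (SC.sym (nat_lit 2228257) (nat_lit 0x2b49ca0f7358b52507344a418820) (nat_lit 2097249)
 (SC.sym (nat_lit 2359329) (nat_lit 0x2b49c60f7358b52507348a418820) (nat_lit 2097249)
 (SC.sym (nat_lit 2621473) (nat_lit 0x2b49460f7358b5250734ca418820) (nat_lit 2097249)
 (SC.sym (nat_lit 3145761) (nat_lit 0x2b39460f7358b52507350a418820) (nat_lit 2097249)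
 (SC.cas (nat_lit 2097249)
 (SC.step (nat_lit 2097249) 1 (SC.sym (nat_lit 2097505) (nat_lit 0x2b49ca307b9ac5a927418a418820) (nat_lit 2097377)
 (SC.sym (nat_lit 2097761) (nat_lit 0x2b49ca307b9ac5a907498a418820) (nat_lit 2097377)
 (SC.sym (nat_lit 2098273) (nat_lit 0x2b49ca307b9ac5a507518a418820) (nat_lit 2097377)
 (SC.sym (nat_lit 2099297) (nat_lit 0x2b49ca307b9ac52507598a418820) (nat_lit 2097377)
 (SC.sym (nat_lit 2101345) (nat_lit 0x2b49ca307b9ab52507618a418820) (nat_lit 2097377)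
 (SC.sym (nat_lit 2105441) (nat_lit 0x2b49ca307b98b52507698a418820) (nat_lit 2097377)
 (SC.sym (nat_lit 2113633) (nat_lit 0x2b49ca307b58b52507718a418820) (nat_lit 2097377)
 (SC.sym (nat_lit 2130017) (nat_lit 0x2b49ca307358b52507798a418820) (nat_lit 2097377)
 (SC.sym (nat_lit 2162785) (nat_lit 0x2b49ca2f7358b52507818a418820) (nat_lit 2097377)
 (SC.sym (nat_lit 2228321) (nat_lit 0x2b49ca0f7358b52507898a418820) (nat_lit 2097377)
 (SC.sym (nat_lit 2359393) (nat_lit 0x2b49c60f7358b52507918a418820) (nat_lit 2097377)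
 (SC.sym (nat_lit 2621537) (nat_lit 0x2b49460f7358b52507998a418820) (nat_lit 2097377)
 (SC.sym (nat_lit 3145825) (nat_lit 0x2b39460f7358b52507a18a418820) (nat_lit 2097377)
 (SC.cas (nat_lit 2097377)
 (SC.sub [(nat_lit 2097377), (nat_lit 2097183)]
 (SC.step (nat_lit 2097377) 1 (SC.sym (nat_lit 2097889) (nat_lit 0x2b49ca307b9ac5a909398a418820) (nat_lit 2097633)
 (SC.sym (nat_lit 2098401) (nat_lit 0x2b49ca307b9ac5a50a398a418820) (nat_lit 2097633)
 (SC.sym (nat_lit 2099425) (nat_lit 0x2b49ca307b9ac5250b398a418820) (nat_lit 2097633)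
 (SC.sym (nat_lit 2101473) (nat_lit 0x2b49ca307b9ab5250c398a418820) (nat_lit 2097633)
 (SC.sym (nat_lit 2105569) (nat_lit 0x2b49ca307b98b5250d398a418820) (nat_lit 2097633)
 (SC.sym (nat_lit 2113761) (nat_lit 0x2b49ca307b58b5250e398a418820) (nat_lit 2097633)
 (SC.sym (nat_lit 2130145) (nat_lit 0x2b49ca307358b5250f398a418820) (nat_lit 2097633)
 (SC.sym (nat_lit 2162913) (nat_lit 0x2b49ca2f7358b52510398a418820) (nat_lit 2097633)
 (SC.sym (nat_lit 2228449) (nat_lit 0x2b49ca0f7358b52511398a418820) (nat_lit 2097633)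
 (SC.sym (nat_lit 2359521) (nat_lit 0x2b49c60f7358b52512398a418820) (nat_lit 2097633)
 (SC.sym (nat_lit 2621665) (nat_lit 0x2b49460f7358b52513398a418820) (nat_lit 2097633)
 (SC.sym (nat_lit 3145953) (nat_lit 0x2b39460f7358b52514398a418820) (nat_lit 2097633)
 (SC.cas (nat_lit 2097633)
 (SC.sub [(nat_lit 2097633), (nat_lit 2097183)]
 (SC.step (nat_lit 2097665) 1 (SC.sym (nat_lit 2099713) (nat_lit 0x2b49ca307b9ac52d28398a418820) (nat_lit 2098689)
 (SC.sym (nat_lit 2101761) (nat_lit 0x2b49ca307b9ab53128398a418820) (nat_lit 2098689)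
 (SC.sym (nat_lit 2105857) (nat_lit 0x2b49ca307b98b53528398a418820) (nat_lit 2098689)
 (SC.sym (nat_lit 2114049) (nat_lit 0x2b49ca307b58b53928398a418820) (nat_lit 2098689)
 (SC.sym (nat_lit 2130433) (nat_lit 0x2b49ca307358b53d28398a418820) (nat_lit 2098689)
 (SC.sym (nat_lit 2163201) (nat_lit 0x2b49ca2f7358b54128398a418820) (nat_lit 2098689)
 (SC.sym (nat_lit 2228737) (nat_lit 0x2b49ca0f7358b54528398a418820) (nat_lit 2098689)
 (SC.sym (nat_lit 2359809) (nat_lit 0x2b49c60f7358b54928398a418820) (nat_lit 2098689)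
 (SC.sym (nat_lit 2621953) (nat_lit 0x2b49460f7358b54d28398a418820) (nat_lit 2098689)
 (SC.sym (nat_lit 3146241) (nat_lit 0x2b39460f7358b55128398a418820) (nat_lit 2098689)
 (SC.cas (nat_lit 2098689)
 (SC.step (nat_lit 2098689) 1 (SC.sym (nat_lit 2102785) (nat_lit 0x2b49ca307b9ab62928398a418820) (nat_lit 2100737)
 (SC.sym (nat_lit 2106881) (nat_lit 0x2b49ca307b98b6a928398a418820) (nat_lit 2100737)
 (SC.sym (nat_lit 2115073) (nat_lit 0x2b49ca307b58b72928398a418820) (nat_lit 2100737)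
 (SC.sym (nat_lit 2131457) (nat_lit 0x2b49ca307358b7a928398a418820) (nat_lit 2100737)
 (SC.sym (nat_lit 2164225) (nat_lit 0x2b49ca2f7358b82928398a418820) (nat_lit 2100737)
 (SC.sym (nat_lit 2229761) (nat_lit 0x2b49ca0f7358b8a928398a418820) (nat_lit 2100737)
 (SC.sym (nat_lit 2360833) (nat_lit 0x2b49c60f7358b92928398a418820) (nat_lit 2100737)
 (SC.sym (nat_lit 2622977) (nat_lit 0x2b49460f7358b9a928398a418820) (nat_lit 2100737)
 (SC.sym (nat_lit 3147265) (nat_lit 0x2b39460f7358ba2928398a418820) (nat_lit 2100737)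
 (SC.cas (nat_lit 2100737)
 (SC.sub [(nat_lit 2100737), (nat_lit 2097633), (nat_lit 2097183)]
 (SC.step (nat_lit 2100737) 1 (SC.sym (nat_lit 2108929) (nat_lit 0x2b49ca307b98d5a928398a418820) (nat_lit 2104833)
 (SC.sym (nat_lit 2117121) (nat_lit 0x2b49ca307b58e5a928398a418820) (nat_lit 2104833)
 (SC.sym (nat_lit 2133505) (nat_lit 0x2b49ca307358f5a928398a418820) (nat_lit 2104833)
 (SC.sym (nat_lit 2166273) (nat_lit 0x2b49ca2f735905a928398a418820) (nat_lit 2104833)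
 (SC.sym (nat_lit 2231809) (nat_lit 0x2b49ca0f735915a928398a418820) (nat_lit 2104833)
 (SC.sym (nat_lit 2362881) (nat_lit 0x2b49c60f735925a928398a418820) (nat_lit 2104833)
 (SC.sym (nat_lit 2625025) (nat_lit 0x2b49460f735935a928398a418820) (nat_lit 2104833)
 (SC.sym (nat_lit 3149313) (nat_lit 0x2b39460f735945a928398a418820) (nat_lit 2104833)
 (SC.cas (nat_lit 2104833)
 (SC.sub [(nat_lit 2104833), (nat_lit 2097633), (nat_lit 2097183)]
 (SC.step (nat_lit 2105345) 1 (SC.sym (nat_lit 2138113) (nat_lit 0x2b49ca3073dac5a928398a418820) (nat_lit 2121729)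
 (SC.sym (nat_lit 2170881) (nat_lit 0x2b49ca2f741ac5a928398a418820) (nat_lit 2121729)
 (SC.sym (nat_lit 2236417) (nat_lit 0x2b49ca0f745ac5a928398a418820) (nat_lit 2121729)
 (SC.sym (nat_lit 2367489) (nat_lit 0x2b49c60f749ac5a928398a418820) (nat_lit 2121729)
 (SC.sym (nat_lit 2629633) (nat_lit 0x2b49460f74dac5a928398a418820) (nat_lit 2121729)
 (SC.sym (nat_lit 3153921) (nat_lit 0x2b39460f751ac5a928398a418820) (nat_lit 2121729)
 (SC.cas (nat_lit 2121729)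
 (SC.step (nat_lit 2121729) 2 (SC.sym (nat_lit 2285569) (nat_lit 0x2b49ca117b9ac5a928398a418820) (nat_lit 2220033)
 (SC.sym (nat_lit 2416641) (nat_lit 0x2b49c6127b9ac5a928398a418820) (nat_lit 2220033)
 (SC.sym (nat_lit 2678785) (nat_lit 0x2b4946137b9ac5a928398a418820) (nat_lit 2220033)
 (SC.sym (nat_lit 3203073) (nat_lit 0x2b3946147b9ac5a928398a418820) (nat_lit 2220033)
 (SC.sym (nat_lit 2318337) (nat_lit 0x2b49c9f1839ac5a928398a418820) (nat_lit 2220033)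
 (SC.sym (nat_lit 2449409) (nat_lit 0x2b49c5f2839ac5a928398a418820) (nat_lit 2220033)
 (SC.sym (nat_lit 2711553) (nat_lit 0x2b4945f3839ac5a928398a418820) (nat_lit 2220033)
 (SC.sym (nat_lit 3235841) (nat_lit 0x2b3945f4839ac5a928398a418820) (nat_lit 2220033)
 (SC.sym (nat_lit 2514945) (nat_lit 0x2b49c1f28b9ac5a928398a418820) (nat_lit 2220033)
 (SC.sym (nat_lit 2777089) (nat_lit 0x2b4941f38b9ac5a928398a418820) (nat_lit 2220033)
 (SC.sym (nat_lit 3301377) (nat_lit 0x2b3941f48b9ac5a928398a418820) (nat_lit 2220033)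
 (SC.sym (nat_lit 2908161) (nat_lit 0x2b48c1f3939ac5a928398a418820) (nat_lit 2220033)
 (SC.sym (nat_lit 3432449) (nat_lit 0x2b38c1f4939ac5a928398a418820) (nat_lit 2220033)
 (SC.sym (nat_lit 3694593) (nat_lit 0x2b28c1f49b9ac5a928398a418820) (nat_lit 2220033)
 (SC.cas (nat_lit 2220033)
 (SC.sub [(nat_lit 2220033), (nat_lit 2104833), (nat_lit 2097633), (nat_lit 2097183)]
 (SC.step (nat_lit 2228225) 3 (SC.cas (nat_lit 4063233)
 (SC.step (nat_lit 2097186) 1 (SC.sym (nat_lit 2098210) (nat_lit 0x2b49ca307b9ac5a548398a418820) (nat_lit 2097698)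
 (SC.sym (nat_lit 2099234) (nat_lit 0x2b49ca307b9ac52568398a418820) (nat_lit 2097698)
 (SC.sym (nat_lit 2101282) (nat_lit 0x2b49ca307b9ab52588398a418820) (nat_lit 2097698)
 (SC.sym (nat_lit 2105378) (nat_lit 0x2b49ca2c5a9307b9a8398a418820) (nat_lit 2097698)
 (SC.sym (nat_lit 2113570) (nat_lit 0x2b49ca2c5a9307b5c8398a418820) (nat_lit 2097698)
 (SC.sym (nat_lit 2129954) (nat_lit 0x2b49ca2c5a930735e8398a418820) (nat_lit 2097698)
 (SC.sym (nat_lit 2162722) (nat_lit 0x2b49ca2c5a92f73608398a418820) (nat_lit 2097698)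
 (SC.sym (nat_lit 2228258) (nat_lit 0x2b07b9ac5a9349ca28398a418820) (nat_lit 2097698)
 (SC.sym (nat_lit 2359330) (nat_lit 0x2b07b9ac5a9349c648398a418820) (nat_lit 2097698)
 (SC.sym (nat_lit 2621474) (nat_lit 0x2b07b9ac5a93494668398a418820) (nat_lit 2097698)
 (SC.sym (nat_lit 3145762) (nat_lit 0x2b07b9ac5a93394688398a418820) (nat_lit 2097698)
 (SC.cas (nat_lit 2097698)
 (SC.step (nat_lit 2097698) 2 (SC.sym (nat_lit 2368034) (nat_lit 0x2b49c6507b9ac5a928398a418820) (nat_lit 2236962)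
 (SC.sym (nat_lit 2630178) (nat_lit 0x2b4946707b9ac5a928398a418820) (nat_lit 2236962)
 (SC.sym (nat_lit 3154466) (nat_lit 0x2b3946907b9ac5a928398a418820) (nat_lit 2236962)
 (SC.sym (nat_lit 2245154) (nat_lit 0x2b49ca307b5cc5a928398a418820) (nat_lit 2236962)
 (SC.sym (nat_lit 2376226) (nat_lit 0x2b49c6507b5cc5a928398a418820) (nat_lit 2236962)
 (SC.sym (nat_lit 2638370) (nat_lit 0x2b4946707b5cc5a928398a418820) (nat_lit 2236962)
 (SC.sym (nat_lit 3162658) (nat_lit 0x2b3946907b5cc5a928398a418820) (nat_lit 2236962)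
 (SC.sym (nat_lit 2261538) (nat_lit 0x2b49ca30735ec5a928398a418820) (nat_lit 2236962)
 (SC.sym (nat_lit 2392610) (nat_lit 0x2b49c650735ec5a928398a418820) (nat_lit 2236962)
 (SC.sym (nat_lit 2654754) (nat_lit 0x2b494670735ec5a928398a418820) (nat_lit 2236962)
 (SC.sym (nat_lit 3179042) (nat_lit 0x2b394690735ec5a928398a418820) (nat_lit 2236962)
 (SC.sym (nat_lit 2294306) (nat_lit 0x2b49ca2f7360c5a928398a418820) (nat_lit 2236962)
 (SC.sym (nat_lit 2425378) (nat_lit 0x2b49c64f7360c5a928398a418820) (nat_lit 2236962)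
 (SC.sym (nat_lit 2687522) (nat_lit 0x2b49466f7360c5a928398a418820) (nat_lit 2236962)
 (SC.sym (nat_lit 3211810) (nat_lit 0x2b39468f7360c5a928398a418820) (nat_lit 2236962)
 (SC.cas (nat_lit 2236962)
 (SC.sub [(nat_lit 2236962), (nat_lit 4063233), (nat_lit 2220033), (nat_lit 2104833), (nat_lit 2097633), (nat_lit 2097183)]
 (SC.step (nat_lit 2097188) 3 (SC.sym (nat_lit 2638884) (nat_lit 0x2b494e307b9ac5a928398a418820) (nat_lit 2376740)
 (SC.sym (nat_lit 3163172) (nat_lit 0x2b3952307b9ac5a928398a418820) (nat_lit 2376740)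
 (SC.sym (nat_lit 2393124) (nat_lit 0x2b49ca3073dac5a928398a418820) (nat_lit 2376740)
 (SC.sym (nat_lit 2655268) (nat_lit 0x2b494e3073dac5a928398a418820) (nat_lit 2376740)
 (SC.sym (nat_lit 3179556) (nat_lit 0x2b39523073dac5a928398a418820) (nat_lit 2376740)
 (SC.sym (nat_lit 2425892) (nat_lit 0x2b49ca2f741ac5a928398a418820) (nat_lit 2376740)
 (SC.sym (nat_lit 2688036) (nat_lit 0x2b494e2f741ac5a928398a418820) (nat_lit 2376740)
 (SC.sym (nat_lit 3212324) (nat_lit 0x2b39522f741ac5a928398a418820) (nat_lit 2376740)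
 (SC.sym (nat_lit 2377764) (nat_lit 0x2b49ca307b9ac52d28398a418820) (nat_lit 2376740)
 (SC.sym (nat_lit 2639908) (nat_lit 0x2b494e307b9ac52d28398a418820) (nat_lit 2376740)
 (SC.sym (nat_lit 3164196) (nat_lit 0x2b3952307b9ac52d28398a418820) (nat_lit 2376740)
 (SC.sym (nat_lit 2394148) (nat_lit 0x2b49ca3073dac52d28398a418820) (nat_lit 2376740)
 (SC.sym (nat_lit 2656292) (nat_lit 0x2b494e3073dac52d28398a418820) (nat_lit 2376740)
 (SC.sym (nat_lit 3180580) (nat_lit 0x2b39523073dac52d28398a418820) (nat_lit 2376740)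
 (SC.sym (nat_lit 2426916) (nat_lit 0x2b49ca2f741ac52d28398a418820) (nat_lit 2376740)
 (SC.sym (nat_lit 2689060) (nat_lit 0x2b494e2f741ac52d28398a418820) (nat_lit 2376740)
 (SC.sym (nat_lit 3213348) (nat_lit 0x2b39522f741ac52d28398a418820) (nat_lit 2376740)
 (SC.sym (nat_lit 2379812) (nat_lit 0x2b49ca307b9ab53128398a418820) (nat_lit 2376740)
 (SC.sym (nat_lit 2641956) (nat_lit 0x2b494e307b9ab53128398a418820) (nat_lit 2376740)
 (SC.sym (nat_lit 3166244) (nat_lit 0x2b3952307b9ab53128398a418820) (nat_lit 2376740)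
 (SC.sym (nat_lit 2396196) (nat_lit 0x2b49ca3073dab53128398a418820) (nat_lit 2376740)
 (SC.sym (nat_lit 2658340) (nat_lit 0x2b494e3073dab53128398a418820) (nat_lit 2376740)
 (SC.sym (nat_lit 3182628) (nat_lit 0x2b39523073dab53128398a418820) (nat_lit 2376740)
 (SC.sym (nat_lit 2428964) (nat_lit 0x2b49ca2f741ab53128398a418820) (nat_lit 2376740)
 (SC.sym (nat_lit 2691108) (nat_lit 0x2b494e2f741ab53128398a418820) (nat_lit 2376740)
 (SC.sym (nat_lit 3215396) (nat_lit 0x2b39522f741ab53128398a418820) (nat_lit 2376740)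
 (SC.cas (nat_lit 2376740)
 (SC.step (nat_lit 2097192) 3 (SC.sym (nat_lit 3180584) (nat_lit 0x2b3a4a307b9ac5a928398a418820) (nat_lit 2656296)
 (SC.sym (nat_lit 2689064) (nat_lit 0x2b49ca2f839ac5a928398a418820) (nat_lit 2656296)
 (SC.sym (nat_lit 3213352) (nat_lit 0x2b3a4a2f839ac5a928398a418820) (nat_lit 2656296)
 (SC.sym (nat_lit 2658344) (nat_lit 0x2b49ca307b9ab62928398a418820) (nat_lit 2656296)
 (SC.sym (nat_lit 3182632) (nat_lit 0x2b3a4a307b9ab62928398a418820) (nat_lit 2656296)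
 (SC.sym (nat_lit 2691112) (nat_lit 0x2b49ca2f839ab62928398a418820) (nat_lit 2656296)
 (SC.sym (nat_lit 3215400) (nat_lit 0x2b3a4a2f839ab62928398a418820) (nat_lit 2656296)
 (SC.cas (nat_lit 2656296)
 (SC.step (nat_lit 2097200) 3 (SC.cas (nat_lit 3215408)
 (SC.step (nat_lit 2097668) 3 (SC.sym (nat_lit 2687556) (nat_lit 0x2b07b9b49ca2c5a928398a418820) (nat_lit 3179076)
 (SC.sym (nat_lit 3179140) (nat_lit 0x2b49ca307b9ac5a92831ca418820) (nat_lit 3179076)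
 (SC.sym (nat_lit 2687620) (nat_lit 0x2b07b9b49ca2c5a92831ca418820) (nat_lit 3179076)
 (SC.sym (nat_lit 3179268) (nat_lit 0x2b49ca307b9ac5a927320a418820) (nat_lit 3179076)
 (SC.sym (nat_lit 2687748) (nat_lit 0x2b07b9b49ca2c5a927320a418820) (nat_lit 3179076)
 (SC.cas (nat_lit 3179076)
 (SC.step (nat_lit 2097672) 3 (SC.sym (nat_lit 2425608) (nat_lit 0x2b49ca307b9ac5a927418a418820) (nat_lit 2425480)
 (SC.cas (nat_lit 2425480)
 (SC.step (nat_lit 2097680) 3 (SC.cas (nat_lit 2638608)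
 (SC.step (nat_lit 2113544) 3 (SC.cas (nat_lit 2248776)
 (SC.step (nat_lit 2097416) 3 (SC.cas (nat_lit 3155208)
 (SC.step (nat_lit 2113538) 3 (SC.cas (nat_lit 3164290)
 (SC.step (nat_lit 2097218) 3 (SC.cas (nat_lit 2688066)
 (SC.step (nat_lit 2097232) 3 (SC.cas (nat_lit 2369616)
 (SC.step (nat_lit 2097410) 3 (SC.cas (nat_lit 2396418)
 (SC.step (nat_lit 2098192) 3 (SC.cas (nat_lit 2262160)
 (SC.step (nat_lit 2162692) 3 (SC.cas (nat_lit 2296068)
 (SC.step (nat_lit 2621444) 3 (SC.cas (nat_lit 2633860)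
 (SC.rel (nat_lit 0x2a75b533219c34522f8494c11420) hK0 SC.fin) SC.nil)) SC.nil)) SC.nil)) SC.nil)) SC.nil)) SC.nil)) SC.nil)) SC.nil)) SC.nil)) SC.nil)) SC.nil))) SC.nil))))))) SC.nil)) SC.nil))))))))) SC.nil))))))))))))))))))))))))))))) SC.nil))))))))))))))))) SC.nil))))))))))))) SC.nil))) SC.nil)))))))))))))))) SC.nil))))))))) SC.nil))))))))))) SC.nil))))))))))) SC.nil))))))))))))) SC.nil))))))))))))))) SC.nil))))))))))))))) SC.nil))))))))))))))))) SC.nil))))))))))))))))))) SC.nil))))))))))))))))))) SC.nil))))))))))))))))))))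
theorem hk1 : hc1.chk 22 3 6 true [hK0] true [] = true := by decide +kernel
theorem hg2 (C : H7.Coding X) (hn : C.n = 22) : Good C 3 6 (UQ 22 hL) [] :=
  chk_good hn (by norm_num) UQ.inv (List.forall_mem_singleton.2 (hg1 C hn)) hk1
theorem huq (hX : Fintype.card X = 22) {B : Set (Finset X)} (hB : IsSteinerSystem 3 6 B) : UQ 22 hL B :=
  UQ.of_good hg2 hX hB
noncomputable def eL : List ℕ := [ (nat_lit 62), (nat_lit 91), (nat_lit 109), (nat_lit 151), (nat_lit 185), (nat_lit 206), (nat_lit 227), (nat_lit 244), (nat_lit 299), (nat_lit 309), (nat_lit 327),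
 (nat_lit 348), (nat_lit 370), (nat_lit 397), (nat_lit 410), (nat_lit 422), (nat_lit 465), (nat_lit 488), (nat_lit 527), (nat_lit 563), (nat_lit 597), (nat_lit 614), (nat_lit 632),
 (nat_lit 668), (nat_lit 677), (nat_lit 682), (nat_lit 713), (nat_lit 722), (nat_lit 790), (nat_lit 793), (nat_lit 812), (nat_lit 842), (nat_lit 865), (nat_lit 899), (nat_lit 944),
 (nat_lit 964), (nat_lit 1053), (nat_lit 1063), (nat_lit 1110), (nat_lit 1130), (nat_lit 1137), (nat_lit 1163), (nat_lit 1196), (nat_lit 1202), (nat_lit 1221), (nat_lit 1240), (nat_lit 1294),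
 (nat_lit 1299), (nat_lit 1336), (nat_lit 1353), (nat_lit 1380), (nat_lit 1428), (nat_lit 1441), (nat_lit 1474), (nat_lit 1562), (nat_lit 1577), (nat_lit 1588), (nat_lit 1603), (nat_lit 1612),
 (nat_lit 1670), (nat_lit 1681), (nat_lit 1760), (nat_lit 1797), (nat_lit 1826), (nat_lit 1872), (nat_lit 1928)]
theorem ef : finK 11 4 5 eL = true := by decide +kernel
theorem eg0 (C : H7.Coding X) (hn : C.n = 11) : Good C 4 5 (UQ 11 eL) eL :=
  good_fin hn (by norm_num) ef ⟨C, hn, rfl⟩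
noncomputable def eK0 : List ℕ := [ (nat_lit 1053), (nat_lit 1063), (nat_lit 1110), (nat_lit 1130), (nat_lit 1137), (nat_lit 1163), (nat_lit 1196), (nat_lit 1202), (nat_lit 1221), (nat_lit 1240), (nat_lit 1294),
 (nat_lit 1299), (nat_lit 1336), (nat_lit 1353), (nat_lit 1380), (nat_lit 1428), (nat_lit 1441), (nat_lit 1474), (nat_lit 1562), (nat_lit 1577), (nat_lit 1588), (nat_lit 1603), (nat_lit 1612),
 (nat_lit 1670), (nat_lit 1681), (nat_lit 1760), (nat_lit 1797), (nat_lit 1826), (nat_lit 1872), (nat_lit 1928)]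
noncomputable def ec0 : SC := (SC.step (nat_lit 15) 1 (SC.sym (nat_lit 527) (nat_lit 0x28c82a4e410c20) (nat_lit 79)
 (SC.cas (nat_lit 79)
 (SC.step (nat_lit 27) 1 (SC.cas (nat_lit 59)
 (SC.step (nat_lit 45) 1 (SC.cas (nat_lit 301)
 (SC.step (nat_lit 83) 1 (SC.cas (nat_lit 211)
 (SC.step (nat_lit 89) 1 (SC.cas (nat_lit 601)
 (SC.step (nat_lit 90) 1 (SC.cas (nat_lit 346)
 (SC.step (nat_lit 101) 1 (SC.cas (nat_lit 613)
 (SC.step (nat_lit 105) 1 (SC.cas (nat_lit 233)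
 (SC.step (nat_lit 108) 1 (SC.cas (nat_lit 124)
 (SC.step (nat_lit 142) 1 (SC.cas (nat_lit 158)
 (SC.step (nat_lit 198) 1 (SC.cas (nat_lit 230)
 (SC.step (nat_lit 202) 1 (SC.cas (nat_lit 714)
 (SC.step (nat_lit 204) 1 (SC.cas (nat_lit 460)
 (SC.step (nat_lit 263) 1 (SC.cas (nat_lit 391)
 (SC.step (nat_lit 323) 1 (SC.cas (nat_lit 355)
 (SC.step (nat_lit 325) 1 (SC.cas (nat_lit 341)
 (SC.step (nat_lit 326) 1 (SC.cas (nat_lit 838)
 (SC.step (nat_lit 519) 1 (SC.cas (nat_lit 535)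
 (SC.step (nat_lit 523) 1 (SC.cas (nat_lit 779)
 (SC.step (nat_lit 525) 1 (SC.cas (nat_lit 653)
 (SC.step (nat_lit 526) 1 (SC.cas (nat_lit 558)
 (SC.step (nat_lit 53) 1 (SC.cas (nat_lit 181)
 (SC.step (nat_lit 54) 1 (SC.cas (nat_lit 310)
 (SC.step (nat_lit 114) 1 (SC.cas (nat_lit 626)
 (SC.step (nat_lit 153) 1 (SC.cas (nat_lit 409)
 (SC.step (nat_lit 163) 1 (SC.cas (nat_lit 675)
 (SC.step (nat_lit 170) 1 (SC.cas (nat_lit 426)
 (SC.step (nat_lit 184) 1 (SC.cas (nat_lit 696)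
 (SC.step (nat_lit 212) 1 (SC.cas (nat_lit 724)
 (SC.step (nat_lit 240) 1 (SC.cas (nat_lit 496)
 (SC.step (nat_lit 284) 1 (SC.cas (nat_lit 796)
 (SC.step (nat_lit 305) 1 (SC.cas (nat_lit 817)
 (SC.step (nat_lit 360) 1 (SC.cas (nat_lit 872)
 (SC.step (nat_lit 402) 1 (SC.cas (nat_lit 914)
 (SC.step (nat_lit 420) 1 (SC.cas (nat_lit 932)
 (SC.step (nat_lit 449) 1 (SC.cas (nat_lit 961)
 (SC.rel (nat_lit 0x24c54288718820) eL SC.fin) SC.nil)) SC.nil)) SC.nil)) SC.nil)) SC.nil)) SC.nil)) SC.nil)) SC.nil)) SC.nil)) SC.nil)) SC.nil)) SC.nil)) SC.nil)) SC.nil)) SC.nil)) SC.nil)) SC.nil)) SC.nil)) SC.nil)) SC.nil)) SC.nil)) SC.nil)) SC.nil)) SC.nil)) SC.nil)) SC.nil)) SC.nil)) SC.nil)) SC.nil)) SC.nil)) SC.nil)) SC.nil)) SC.nil)) SC.nil)) SC.nil)) SC.nil)))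
theorem ek0 : ec0.chk 11 4 5 true [eL] true eK0 = true := by decide +kernel
theorem eg1 (C : H7.Coding X) (hn : C.n = 11) : Good C 4 5 (UQ 11 eL) eK0 :=
  chk_good hn (by norm_num) UQ.inv (List.forall_mem_singleton.2 (eg0 C hn)) ek0
noncomputable def eK1 : List ℕ := [ (nat_lit 1562), (nat_lit 1577), (nat_lit 1588), (nat_lit 1603), (nat_lit 1612), (nat_lit 1670), (nat_lit 1681), (nat_lit 1760), (nat_lit 1797), (nat_lit 1826), (nat_lit 1872),
 (nat_lit 1928)]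
noncomputable def ec1 : SC := (SC.step (nat_lit 1031) 1 (SC.sym (nat_lit 1047) (nat_lit 0x292619d0510480) (nat_lit 1039)
 (SC.sym (nat_lit 1063) (nat_lit 0x29263a06428440) (nat_lit 1039)
 (SC.cas (nat_lit 1039)
 (SC.step (nat_lit 1045) 1 (SC.cas (nat_lit 1109)
 (SC.step (nat_lit 1062) 1 (SC.cas (nat_lit 1126)
 (SC.step (nat_lit 1161) 1 (SC.cas (nat_lit 1225)
 (SC.step (nat_lit 1290) 1 (SC.cas (nat_lit 1354)
 (SC.step (nat_lit 1046) 1 (SC.cas (nat_lit 1302)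
 (SC.step (nat_lit 1049) 1 (SC.cas (nat_lit 1305)
 (SC.step (nat_lit 1061) 1 (SC.cas (nat_lit 1189)
 (SC.step (nat_lit 1066) 1 (SC.cas (nat_lit 1194)
 (SC.step (nat_lit 1106) 1 (SC.cas (nat_lit 1234)
 (SC.step (nat_lit 1112) 1 (SC.cas (nat_lit 1144)
 (SC.step (nat_lit 1121) 1 (SC.cas (nat_lit 1377)
 (SC.step (nat_lit 1220) 1 (SC.cas (nat_lit 1476)
 (SC.step (nat_lit 1043) 1 (SC.cas (nat_lit 1075)
 (SC.step (nat_lit 1052) 1 (SC.cas (nat_lit 1180)
 (SC.step (nat_lit 1068) 1 (SC.cas (nat_lit 1324)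
 (SC.step (nat_lit 1155) 1 (SC.cas (nat_lit 1411)
 (SC.step (nat_lit 1200) 1 (SC.cas (nat_lit 1456)
 (SC.rel (nat_lit 0x28e54a06430820) eK0 SC.fin) SC.nil)) SC.nil)) SC.nil)) SC.nil)) SC.nil)) SC.nil)) SC.nil)) SC.nil)) SC.nil)) SC.nil)) SC.nil)) SC.nil)) SC.nil)) SC.nil)) SC.nil)) SC.nil)) SC.nil)) SC.nil))))
theorem ek1 : ec1.chk 11 4 5 true [eK0] true eK1 = true := by decide +kernel
theorem eg2 (C : H7.Coding X) (hn : C.n = 11) : Good C 4 5 (UQ 11 eL) eK1 :=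
  chk_good hn (by norm_num) UQ.inv (List.forall_mem_singleton.2 (eg1 C hn)) ek1
noncomputable def ec2 : SC := (SC.step (nat_lit 1539) 1 (SC.sym (nat_lit 1547) (nat_lit 0x2928398a410c20) (nat_lit 1543)
 (SC.sym (nat_lit 1555) (nat_lit 0x2928398a311020) (nat_lit 1543)
 (SC.sym (nat_lit 1571) (nat_lit 0x29283988311420) (nat_lit 1543)
 (SC.sym (nat_lit 1603) (nat_lit 0x29283948311820) (nat_lit 1543)
 (SC.sym (nat_lit 1667) (nat_lit 0x29283148311c20) (nat_lit 1543)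
 (SC.sym (nat_lit 1795) (nat_lit 0x29273148312020) (nat_lit 1543)
 (SC.cas (nat_lit 1543)
 (SC.step (nat_lit 1545) 1 (SC.sym (nat_lit 1577) (nat_lit 0x29283988518820) (nat_lit 1561)
 (SC.sym (nat_lit 1609) (nat_lit 0x29283948618820) (nat_lit 1561)
 (SC.sym (nat_lit 1673) (nat_lit 0x29283148718820) (nat_lit 1561)
 (SC.sym (nat_lit 1801) (nat_lit 0x29273148818820) (nat_lit 1561)
 (SC.cas (nat_lit 1561)
 (SC.step (nat_lit 1569) 1 (SC.sym (nat_lit 1697) (nat_lit 0x292831ca418820) (nat_lit 1633)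
 (SC.sym (nat_lit 1825) (nat_lit 0x2927320a418820) (nat_lit 1633)
 (SC.cas (nat_lit 1633)
 (SC.step (nat_lit 1665) 1 (SC.cas (nat_lit 1921)
 (SC.step (nat_lit 1546) 1 (SC.sym (nat_lit 1610) (nat_lit 0x2928394c418820) (nat_lit 1578)
 (SC.sym (nat_lit 1674) (nat_lit 0x29262a0e418820) (nat_lit 1578)
 (SC.sym (nat_lit 1802) (nat_lit 0x292629d0418820) (nat_lit 1578)
 (SC.cas (nat_lit 1578)
 (SC.step (nat_lit 1666) 1 (SC.sym (nat_lit 1730) (nat_lit 0x29283906628820) (nat_lit 1682)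
 (SC.cas (nat_lit 1682)
 (SC.step (nat_lit 1602) 1 (SC.cas (nat_lit 1858)
 (SC.step (nat_lit 1696) 1 (SC.cas (nat_lit 1700)
 (SC.step (nat_lit 1584) 1 (SC.cas (nat_lit 1840)
 (SC.step (nat_lit 1616) 1 (SC.cas (nat_lit 1620)
 (SC.step (nat_lit 1672) 1 (SC.cas (nat_lit 1736)
 (SC.step (nat_lit 1800) 1 (SC.cas (nat_lit 1804)
 (SC.rel (nat_lit 0x2924288e640c20) eK1 SC.fin) SC.nil)) SC.nil)) SC.nil)) SC.nil)) SC.nil)) SC.nil)) SC.nil))) SC.nil))))) SC.nil)) SC.nil)))) SC.nil)))))) SC.nil))))))))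
theorem ek2 : ec2.chk 11 4 5 true [eK1] true [] = true := by decide +kernel
theorem eg3 (C : H7.Coding X) (hn : C.n = 11) : Good C 4 5 (UQ 11 eL) [] :=
  chk_good hn (by norm_num) UQ.inv (List.forall_mem_singleton.2 (eg2 C hn)) ek2
theorem euq (hX : Fintype.card X = 11) {B : Set (Finset X)} (hB : IsSteinerSystem 4 5 B) : UQ 11 eL B :=
  UQ.of_good eg3 hX hB
noncomputable def tL : List ℕ := [ (nat_lit 119), (nat_lit 175), (nat_lit 221), (nat_lit 250), (nat_lit 287), (nat_lit 366), (nat_lit 377), (nat_lit 435), (nat_lit 444), (nat_lit 459), (nat_lit 470),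
 (nat_lit 485), (nat_lit 573), (nat_lit 606), (nat_lit 619), (nat_lit 667), (nat_lit 694), (nat_lit 711), (nat_lit 748), (nat_lit 753), (nat_lit 807), (nat_lit 826), (nat_lit 845),
 (nat_lit 851), (nat_lit 884), (nat_lit 910), (nat_lit 917), (nat_lit 937), (nat_lit 984), (nat_lit 994), (nat_lit 1083), (nat_lit 1103), (nat_lit 1148), (nat_lit 1182), (nat_lit 1205),
 (nat_lit 1235), (nat_lit 1254), (nat_lit 1257), (nat_lit 1325), (nat_lit 1334), (nat_lit 1365), (nat_lit 1370), (nat_lit 1379), (nat_lit 1415), (nat_lit 1433), (nat_lit 1450), (nat_lit 1484),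
 (nat_lit 1520), (nat_lit 1559), (nat_lit 1582), (nat_lit 1625), (nat_lit 1637), (nat_lit 1650), (nat_lit 1677), (nat_lit 1699), (nat_lit 1720), (nat_lit 1738), (nat_lit 1748), (nat_lit 1803),
 (nat_lit 1820), (nat_lit 1841), (nat_lit 1862), (nat_lit 1896), (nat_lit 1938), (nat_lit 1956), (nat_lit 1985), (nat_lit 2110), (nat_lit 2139), (nat_lit 2157), (nat_lit 2199), (nat_lit 2233),
 (nat_lit 2254), (nat_lit 2275), (nat_lit 2292), (nat_lit 2347), (nat_lit 2357), (nat_lit 2375), (nat_lit 2396), (nat_lit 2418), (nat_lit 2445), (nat_lit 2458), (nat_lit 2470), (nat_lit 2513),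
 (nat_lit 2536), (nat_lit 2575), (nat_lit 2611), (nat_lit 2645), (nat_lit 2662), (nat_lit 2680), (nat_lit 2716), (nat_lit 2725), (nat_lit 2730), (nat_lit 2761), (nat_lit 2770), (nat_lit 2838),
 (nat_lit 2841), (nat_lit 2860), (nat_lit 2890), (nat_lit 2913), (nat_lit 2947), (nat_lit 2992), (nat_lit 3012), (nat_lit 3101), (nat_lit 3111), (nat_lit 3158), (nat_lit 3178), (nat_lit 3185),
 (nat_lit 3211), (nat_lit 3244), (nat_lit 3250), (nat_lit 3269), (nat_lit 3288), (nat_lit 3342), (nat_lit 3347), (nat_lit 3384), (nat_lit 3401), (nat_lit 3428), (nat_lit 3476), (nat_lit 3489),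
 (nat_lit 3522), (nat_lit 3610), (nat_lit 3625), (nat_lit 3636), (nat_lit 3651), (nat_lit 3660), (nat_lit 3718), (nat_lit 3729), (nat_lit 3808), (nat_lit 3845), (nat_lit 3874), (nat_lit 3920),
 (nat_lit 3976)]
theorem tf : finK 12 5 6 tL = true := by decide +kernel
theorem tg0 (C : H7.Coding X) (hn : C.n = 12) : Good C 5 6 (UQ 12 tL) tL :=
  good_fin hn (by norm_num) tf ⟨C, hn, rfl⟩
noncomputable def tK0 : List ℕ := [ (nat_lit 2110), (nat_lit 2139), (nat_lit 2157), (nat_lit 2199), (nat_lit 2233), (nat_lit 2254), (nat_lit 2275), (nat_lit 2292), (nat_lit 2347), (nat_lit 2357), (nat_lit 2375),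
 (nat_lit 2396), (nat_lit 2418), (nat_lit 2445), (nat_lit 2458), (nat_lit 2470), (nat_lit 2513), (nat_lit 2536), (nat_lit 2575), (nat_lit 2611), (nat_lit 2645), (nat_lit 2662), (nat_lit 2680),
 (nat_lit 2716), (nat_lit 2725), (nat_lit 2730), (nat_lit 2761), (nat_lit 2770), (nat_lit 2838), (nat_lit 2841), (nat_lit 2860), (nat_lit 2890), (nat_lit 2913), (nat_lit 2947), (nat_lit 2992),
 (nat_lit 3012), (nat_lit 3101), (nat_lit 3111), (nat_lit 3158), (nat_lit 3178), (nat_lit 3185), (nat_lit 3211), (nat_lit 3244), (nat_lit 3250), (nat_lit 3269), (nat_lit 3288), (nat_lit 3342),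
 (nat_lit 3347), (nat_lit 3384), (nat_lit 3401), (nat_lit 3428), (nat_lit 3476), (nat_lit 3489), (nat_lit 3522), (nat_lit 3610), (nat_lit 3625), (nat_lit 3636), (nat_lit 3651), (nat_lit 3660),
 (nat_lit 3718), (nat_lit 3729), (nat_lit 3808), (nat_lit 3845), (nat_lit 3874), (nat_lit 3920), (nat_lit 3976)]
noncomputable def tc0 : SC := (SC.step (nat_lit 31) 1 (SC.cas (nat_lit 287)
 (SC.step (nat_lit 47) 1 (SC.cas (nat_lit 175)
 (SC.step (nat_lit 55) 1 (SC.cas (nat_lit 119)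
 (SC.step (nat_lit 59) 1 (SC.cas (nat_lit 1083)
 (SC.step (nat_lit 61) 1 (SC.cas (nat_lit 573)
 (SC.step (nat_lit 79) 1 (SC.cas (nat_lit 1103)
 (SC.step (nat_lit 93) 1 (SC.cas (nat_lit 221)
 (SC.step (nat_lit 94) 1 (SC.cas (nat_lit 606)
 (SC.step (nat_lit 107) 1 (SC.cas (nat_lit 619)
 (SC.step (nat_lit 110) 1 (SC.cas (nat_lit 366)
 (SC.step (nat_lit 121) 1 (SC.cas (nat_lit 377)
 (SC.step (nat_lit 122) 1 (SC.cas (nat_lit 250)
 (SC.step (nat_lit 124) 1 (SC.cas (nat_lit 1148)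
 (SC.step (nat_lit 155) 1 (SC.cas (nat_lit 667)
 (SC.step (nat_lit 158) 1 (SC.cas (nat_lit 1182)
 (SC.step (nat_lit 179) 1 (SC.cas (nat_lit 435)
 (SC.step (nat_lit 181) 1 (SC.cas (nat_lit 1205)
 (SC.step (nat_lit 182) 1 (SC.cas (nat_lit 694)
 (SC.step (nat_lit 188) 1 (SC.cas (nat_lit 444)
 (SC.step (nat_lit 199) 1 (SC.cas (nat_lit 711)
 (SC.step (nat_lit 203) 1 (SC.cas (nat_lit 459)
 (SC.step (nat_lit 211) 1 (SC.cas (nat_lit 1235)
 (SC.step (nat_lit 214) 1 (SC.cas (nat_lit 470)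
 (SC.step (nat_lit 229) 1 (SC.cas (nat_lit 485)
 (SC.step (nat_lit 230) 1 (SC.cas (nat_lit 1254)
 (SC.step (nat_lit 233) 1 (SC.cas (nat_lit 1257)
 (SC.step (nat_lit 236) 1 (SC.cas (nat_lit 748)
 (SC.step (nat_lit 241) 1 (SC.cas (nat_lit 753)
 (SC.step (nat_lit 295) 1 (SC.cas (nat_lit 807)
 (SC.step (nat_lit 301) 1 (SC.cas (nat_lit 1325)
 (SC.step (nat_lit 310) 1 (SC.cas (nat_lit 1334)
 (SC.step (nat_lit 314) 1 (SC.cas (nat_lit 826)
 (SC.step (nat_lit 333) 1 (SC.cas (nat_lit 845)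
 (SC.step (nat_lit 339) 1 (SC.cas (nat_lit 851)
 (SC.step (nat_lit 341) 1 (SC.cas (nat_lit 1365)
 (SC.step (nat_lit 346) 1 (SC.cas (nat_lit 1370)
 (SC.step (nat_lit 355) 1 (SC.cas (nat_lit 1379)
 (SC.step (nat_lit 372) 1 (SC.cas (nat_lit 884)
 (SC.step (nat_lit 391) 1 (SC.cas (nat_lit 1415)
 (SC.step (nat_lit 398) 1 (SC.cas (nat_lit 910)
 (SC.step (nat_lit 405) 1 (SC.cas (nat_lit 917)
 (SC.step (nat_lit 409) 1 (SC.cas (nat_lit 1433)
 (SC.step (nat_lit 425) 1 (SC.cas (nat_lit 937)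
 (SC.step (nat_lit 426) 1 (SC.cas (nat_lit 1450)
 (SC.step (nat_lit 460) 1 (SC.cas (nat_lit 1484)
 (SC.step (nat_lit 472) 1 (SC.cas (nat_lit 984)
 (SC.step (nat_lit 482) 1 (SC.cas (nat_lit 994)
 (SC.step (nat_lit 496) 1 (SC.cas (nat_lit 1520)
 (SC.step (nat_lit 535) 1 (SC.cas (nat_lit 1559)
 (SC.step (nat_lit 558) 1 (SC.cas (nat_lit 1582)
 (SC.step (nat_lit 601) 1 (SC.cas (nat_lit 1625)
 (SC.step (nat_lit 613) 1 (SC.cas (nat_lit 1637)
 (SC.step (nat_lit 626) 1 (SC.cas (nat_lit 1650)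
 (SC.step (nat_lit 653) 1 (SC.cas (nat_lit 1677)
 (SC.step (nat_lit 675) 1 (SC.cas (nat_lit 1699)
 (SC.step (nat_lit 696) 1 (SC.cas (nat_lit 1720)
 (SC.step (nat_lit 714) 1 (SC.cas (nat_lit 1738)
 (SC.step (nat_lit 724) 1 (SC.cas (nat_lit 1748)
 (SC.step (nat_lit 779) 1 (SC.cas (nat_lit 1803)
 (SC.step (nat_lit 796) 1 (SC.cas (nat_lit 1820)
 (SC.step (nat_lit 817) 1 (SC.cas (nat_lit 1841)
 (SC.step (nat_lit 838) 1 (SC.cas (nat_lit 1862)
 (SC.step (nat_lit 872) 1 (SC.cas (nat_lit 1896)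
 (SC.step (nat_lit 914) 1 (SC.cas (nat_lit 1938)
 (SC.step (nat_lit 932) 1 (SC.cas (nat_lit 1956)
 (SC.step (nat_lit 961) 1 (SC.cas (nat_lit 1985)
 (SC.sub tL SC.fin) SC.nil)) SC.nil)) SC.nil)) SC.nil)) SC.nil)) SC.nil)) SC.nil)) SC.nil)) SC.nil)) SC.nil)) SC.nil)) SC.nil)) SC.nil)) SC.nil)) SC.nil)) SC.nil)) SC.nil)) SC.nil)) SC.nil)) SC.nil)) SC.nil)) SC.nil)) SC.nil)) SC.nil)) SC.nil)) SC.nil)) SC.nil)) SC.nil)) SC.nil)) SC.nil)) SC.nil)) SC.nil)) SC.nil)) SC.nil)) SC.nil)) SC.nil)) SC.nil)) SC.nil)) SC.nil)) SC.nil)) SC.nil)) SC.nil)) SC.nil)) SC.nil)) SC.nil)) SC.nil)) SC.nil)) SC.nil)) SC.nil)) SC.nil)) SC.nil)) SC.nil)) SC.nil)) SC.nil)) SC.nil)) SC.nil)) SC.nil)) SC.nil)) SC.nil)) SC.nil)) SC.nil)) SC.nil)) SC.nil)) SC.nil)) SC.nil)) SC.nil))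
theorem tk0 : tc0.chk 12 5 6 true [tL] true tK0 = true := by decide +kernel
theorem tg1 (C : H7.Coding X) (hn : C.n = 12) : Good C 5 6 (UQ 12 tL) tK0 :=
  chk_good hn (by norm_num) UQ.inv (List.forall_mem_singleton.2 (tg0 C hn)) tk0
noncomputable def tK1 : List ℕ := [ (nat_lit 3101), (nat_lit 3111), (nat_lit 3158), (nat_lit 3178), (nat_lit 3185), (nat_lit 3211), (nat_lit 3244), (nat_lit 3250), (nat_lit 3269), (nat_lit 3288), (nat_lit 3342),
 (nat_lit 3347), (nat_lit 3384), (nat_lit 3401), (nat_lit 3428), (nat_lit 3476), (nat_lit 3489), (nat_lit 3522), (nat_lit 3610), (nat_lit 3625), (nat_lit 3636), (nat_lit 3651), (nat_lit 3660),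
 (nat_lit 3718), (nat_lit 3729), (nat_lit 3808), (nat_lit 3845), (nat_lit 3874), (nat_lit 3920), (nat_lit 3976)]
noncomputable def tc1 : SC := (SC.step (nat_lit 2063) 1 (SC.sym (nat_lit 2575) (nat_lit 0x5a8c82a4e410c20) (nat_lit 2127)
 (SC.cas (nat_lit 2127)
 (SC.step (nat_lit 2075) 1 (SC.cas (nat_lit 2107)
 (SC.step (nat_lit 2093) 1 (SC.cas (nat_lit 2349)
 (SC.step (nat_lit 2131) 1 (SC.cas (nat_lit 2259)
 (SC.step (nat_lit 2137) 1 (SC.cas (nat_lit 2649)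
 (SC.step (nat_lit 2138) 1 (SC.cas (nat_lit 2394)
 (SC.step (nat_lit 2149) 1 (SC.cas (nat_lit 2661)
 (SC.step (nat_lit 2153) 1 (SC.cas (nat_lit 2281)
 (SC.step (nat_lit 2156) 1 (SC.cas (nat_lit 2172)
 (SC.step (nat_lit 2190) 1 (SC.cas (nat_lit 2206)
 (SC.step (nat_lit 2246) 1 (SC.cas (nat_lit 2278)
 (SC.step (nat_lit 2250) 1 (SC.cas (nat_lit 2762)
 (SC.step (nat_lit 2252) 1 (SC.cas (nat_lit 2508)
 (SC.step (nat_lit 2311) 1 (SC.cas (nat_lit 2439)
 (SC.step (nat_lit 2371) 1 (SC.cas (nat_lit 2403)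
 (SC.step (nat_lit 2373) 1 (SC.cas (nat_lit 2389)
 (SC.step (nat_lit 2374) 1 (SC.cas (nat_lit 2886)
 (SC.step (nat_lit 2567) 1 (SC.cas (nat_lit 2583)
 (SC.step (nat_lit 2571) 1 (SC.cas (nat_lit 2827)
 (SC.step (nat_lit 2573) 1 (SC.cas (nat_lit 2701)
 (SC.step (nat_lit 2574) 1 (SC.cas (nat_lit 2606)
 (SC.step (nat_lit 2101) 1 (SC.cas (nat_lit 2229)
 (SC.step (nat_lit 2102) 1 (SC.cas (nat_lit 2358)
 (SC.step (nat_lit 2162) 1 (SC.cas (nat_lit 2674)
 (SC.step (nat_lit 2201) 1 (SC.cas (nat_lit 2457)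
 (SC.step (nat_lit 2211) 1 (SC.cas (nat_lit 2723)
 (SC.step (nat_lit 2218) 1 (SC.cas (nat_lit 2474)
 (SC.step (nat_lit 2232) 1 (SC.cas (nat_lit 2744)
 (SC.step (nat_lit 2260) 1 (SC.cas (nat_lit 2772)
 (SC.step (nat_lit 2288) 1 (SC.cas (nat_lit 2544)
 (SC.step (nat_lit 2332) 1 (SC.cas (nat_lit 2844)
 (SC.step (nat_lit 2353) 1 (SC.cas (nat_lit 2865)
 (SC.step (nat_lit 2408) 1 (SC.cas (nat_lit 2920)
 (SC.step (nat_lit 2450) 1 (SC.cas (nat_lit 2962)
 (SC.step (nat_lit 2468) 1 (SC.cas (nat_lit 2980)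
 (SC.step (nat_lit 2497) 1 (SC.cas (nat_lit 3009)
 (SC.rel (nat_lit 0x5a4c54288718820) tK0 SC.fin) SC.nil)) SC.nil)) SC.nil)) SC.nil)) SC.nil)) SC.nil)) SC.nil)) SC.nil)) SC.nil)) SC.nil)) SC.nil)) SC.nil)) SC.nil)) SC.nil)) SC.nil)) SC.nil)) SC.nil)) SC.nil)) SC.nil)) SC.nil)) SC.nil)) SC.nil)) SC.nil)) SC.nil)) SC.nil)) SC.nil)) SC.nil)) SC.nil)) SC.nil)) SC.nil)) SC.nil)) SC.nil)) SC.nil)) SC.nil)) SC.nil)) SC.nil)))
theorem tk1 : tc1.chk 12 5 6 true [tK0] true tK1 = true := by decide +kernel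
theorem tg2 (C : H7.Coding X) (hn : C.n = 12) : Good C 5 6 (UQ 12 tL) tK1 :=
  chk_good hn (by norm_num) UQ.inv (List.forall_mem_singleton.2 (tg1 C hn)) tk1
noncomputable def tK2 : List ℕ := [ (nat_lit 3610), (nat_lit 3625), (nat_lit 3636), (nat_lit 3651), (nat_lit 3660), (nat_lit 3718), (nat_lit 3729), (nat_lit 3808), (nat_lit 3845), (nat_lit 3874), (nat_lit 3920),
 (nat_lit 3976)]
noncomputable def tc2 : SC := (SC.step (nat_lit 3079) 1 (SC.sym (nat_lit 3095) (nat_lit 0x5a92619d0510480) (nat_lit 3087)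
 (SC.sym (nat_lit 3111) (nat_lit 0x5a9263a06428440) (nat_lit 3087)
 (SC.cas (nat_lit 3087)
 (SC.step (nat_lit 3093) 1 (SC.cas (nat_lit 3157)
 (SC.step (nat_lit 3110) 1 (SC.cas (nat_lit 3174)
 (SC.step (nat_lit 3209) 1 (SC.cas (nat_lit 3273)
 (SC.step (nat_lit 3338) 1 (SC.cas (nat_lit 3402)
 (SC.step (nat_lit 3094) 1 (SC.cas (nat_lit 3350)
 (SC.step (nat_lit 3097) 1 (SC.cas (nat_lit 3353)
 (SC.step (nat_lit 3109) 1 (SC.cas (nat_lit 3237)
 (SC.step (nat_lit 3114) 1 (SC.cas (nat_lit 3242)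
 (SC.step (nat_lit 3154) 1 (SC.cas (nat_lit 3282)
 (SC.step (nat_lit 3160) 1 (SC.cas (nat_lit 3192)
 (SC.step (nat_lit 3169) 1 (SC.cas (nat_lit 3425)
 (SC.step (nat_lit 3268) 1 (SC.cas (nat_lit 3524)
 (SC.step (nat_lit 3091) 1 (SC.cas (nat_lit 3123)
 (SC.step (nat_lit 3100) 1 (SC.cas (nat_lit 3228)
 (SC.step (nat_lit 3116) 1 (SC.cas (nat_lit 3372)
 (SC.step (nat_lit 3203) 1 (SC.cas (nat_lit 3459)
 (SC.step (nat_lit 3248) 1 (SC.cas (nat_lit 3504)
 (SC.rel (nat_lit 0x5a8e54a06430820) tK1 SC.fin) SC.nil)) SC.nil)) SC.nil)) SC.nil)) SC.nil)) SC.nil)) SC.nil)) SC.nil)) SC.nil)) SC.nil)) SC.nil)) SC.nil)) SC.nil)) SC.nil)) SC.nil)) SC.nil)) SC.nil)) SC.nil))))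
theorem tk2 : tc2.chk 12 5 6 true [tK1] true tK2 = true := by decide +kernel
theorem tg3 (C : H7.Coding X) (hn : C.n = 12) : Good C 5 6 (UQ 12 tL) tK2 :=
  chk_good hn (by norm_num) UQ.inv (List.forall_mem_singleton.2 (tg2 C hn)) tk2
noncomputable def tc3 : SC := (SC.step (nat_lit 3587) 1 (SC.sym (nat_lit 3595) (nat_lit 0x5a928398a410c20) (nat_lit 3591)
 (SC.sym (nat_lit 3603) (nat_lit 0x5a928398a311020) (nat_lit 3591)
 (SC.sym (nat_lit 3619) (nat_lit 0x5a9283988311420) (nat_lit 3591)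
 (SC.sym (nat_lit 3651) (nat_lit 0x5a9283948311820) (nat_lit 3591)
 (SC.sym (nat_lit 3715) (nat_lit 0x5a9283148311c20) (nat_lit 3591)
 (SC.sym (nat_lit 3843) (nat_lit 0x5a9273148312020) (nat_lit 3591)
 (SC.cas (nat_lit 3591)
 (SC.step (nat_lit 3593) 1 (SC.sym (nat_lit 3625) (nat_lit 0x5a9283988518820) (nat_lit 3609)
 (SC.sym (nat_lit 3657) (nat_lit 0x5a9283948618820) (nat_lit 3609)
 (SC.sym (nat_lit 3721) (nat_lit 0x5a9283148718820) (nat_lit 3609)
 (SC.sym (nat_lit 3849) (nat_lit 0x5a9273148818820) (nat_lit 3609)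
 (SC.cas (nat_lit 3609)
 (SC.step (nat_lit 3617) 1 (SC.sym (nat_lit 3745) (nat_lit 0x5a92831ca418820) (nat_lit 3681)
 (SC.sym (nat_lit 3873) (nat_lit 0x5a927320a418820) (nat_lit 3681)
 (SC.cas (nat_lit 3681)
 (SC.step (nat_lit 3713) 1 (SC.cas (nat_lit 3969)
 (SC.step (nat_lit 3594) 1 (SC.sym (nat_lit 3658) (nat_lit 0x5a928394c418820) (nat_lit 3626)
 (SC.sym (nat_lit 3722) (nat_lit 0x5a9262a0e418820) (nat_lit 3626)
 (SC.sym (nat_lit 3850) (nat_lit 0x5a92629d0418820) (nat_lit 3626)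
 (SC.cas (nat_lit 3626)
 (SC.step (nat_lit 3714) 1 (SC.sym (nat_lit 3778) (nat_lit 0x5a9283906628820) (nat_lit 3730)
 (SC.cas (nat_lit 3730)
 (SC.step (nat_lit 3650) 1 (SC.cas (nat_lit 3906)
 (SC.step (nat_lit 3744) 1 (SC.cas (nat_lit 3748)
 (SC.step (nat_lit 3632) 1 (SC.cas (nat_lit 3888)
 (SC.step (nat_lit 3664) 1 (SC.cas (nat_lit 3668)
 (SC.step (nat_lit 3720) 1 (SC.cas (nat_lit 3784)
 (SC.step (nat_lit 3848) 1 (SC.cas (nat_lit 3852)
 (SC.rel (nat_lit 0x5a924288e640c20) tK2 SC.fin) SC.nil)) SC.nil)) SC.nil)) SC.nil)) SC.nil)) SC.nil)) SC.nil))) SC.nil))))) SC.nil)) SC.nil)))) SC.nil)))))) SC.nil))))))))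
theorem tk3 : tc3.chk 12 5 6 true [tK2] true [] = true := by decide +kernel
theorem tg4 (C : H7.Coding X) (hn : C.n = 12) : Good C 5 6 (UQ 12 tL) [] :=
  chk_good hn (by norm_num) UQ.inv (List.forall_mem_singleton.2 (tg3 C hn)) tk3
theorem tuq (hX : Fintype.card X = 12) {B : Set (Finset X)} (hB : IsSteinerSystem 5 6 B) : UQ 12 tL B :=
  UQ.of_good tg4 hX hB

end H8.StA
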