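import Cfsg.Agent.H8.Stn

/-! H8.StB: uniqueness of S(4,7,23), S(5,8,24) (generated certificate) -/

set_option autoImplicit false
set_option maxRecDepth 200000

set_option linter.all false
open Subgroup Cfsg

namespace H8.StB

variable {X : Type*} [Fintype X] [DecidableEq X]
noncomputable def wL : List ℕ := [ (nat_lit 3189), (nat_lit 6378), (nat_lit 9547), (nat_lit 12756), (nat_lit 19094), (nat_lit 24073), (nat_lit 25512), (nat_lit 33203), (nat_lit 38188), (nat_lit 43149), (nat_lit 48146),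
 (nat_lit 51024), (nat_lit 66406), (nat_lit 76376), (nat_lit 83333), (nat_lit 86298), (nat_lit 96292), (nat_lit 102048), (nat_lit 111361), (nat_lit 116803), (nat_lit 132812), (nat_lit 135763), (nat_lit 147503),
 (nat_lit 152752), (nat_lit 157969), (nat_lit 166666), (nat_lit 172596), (nat_lit 192584), (nat_lit 204096), (nat_lit 205025), (nat_lit 222722), (nat_lit 230425), (nat_lit 233606), (nat_lit 265624), (nat_lit 268551),
 (nat_lit 271526), (nat_lit 274489), (nat_lit 287301), (nat_lit 295006), (nat_lit 300225), (nat_lit 305504), (nat_lit 315938), (nat_lit 328331), (nat_lit 333332), (nat_lit 345192), (nat_lit 385168), (nat_lit 395041),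
 (nat_lit 408192), (nat_lit 410050), (nat_lit 445444), (nat_lit 460850), (nat_lit 467212), (nat_lit 531248), (nat_lit 534161), (nat_lit 537102), (nat_lit 543052), (nat_lit 548978), (nat_lit 557673), (nat_lit 574602),
 (nat_lit 577557), (nat_lit 590012), (nat_lit 594979), (nat_lit 600450), (nat_lit 611008), (nat_lit 631876), (nat_lit 656662), (nat_lit 659849), (nat_lit 666664), (nat_lit 690384), (nat_lit 723461), (nat_lit 770336),
 (nat_lit 790082), (nat_lit 805025), (nat_lit 816384), (nat_lit 820100), (nat_lit 852305), (nat_lit 890888), (nat_lit 921700), (nat_lit 934424), (nat_lit 958467), (nat_lit 1051585), (nat_lit 1062496), (nat_lit 1068322),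
 (nat_lit 1074204), (nat_lit 1077379), (nat_lit 1082887), (nat_lit 1086104), (nat_lit 1097956), (nat_lit 1115346), (nat_lit 1118285), (nat_lit 1131057), (nat_lit 1149204), (nat_lit 1155114), (nat_lit 1180024), (nat_lit 1189958),
 (nat_lit 1200900), (nat_lit 1218593), (nat_lit 1222016), (nat_lit 1263752), (nat_lit 1313324), (nat_lit 1319698), (nat_lit 1333328), (nat_lit 1360137), (nat_lit 1380768), (nat_lit 1387521), (nat_lit 1441941), (nat_lit 1446922),
 (nat_lit 1540672), (nat_lit 1574939), (nat_lit 1580164), (nat_lit 1581349), (nat_lit 1610050), (nat_lit 1632768), (nat_lit 1640200), (nat_lit 1704610), (nat_lit 1721409), (nat_lit 1781776), (nat_lit 1843400), (nat_lit 1868848),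
 (nat_lit 1916934), (nat_lit 2097949), (nat_lit 2103170), (nat_lit 2107939), (nat_lit 2117985), (nat_lit 2124992), (nat_lit 2136644), (nat_lit 2148408), (nat_lit 2154758), (nat_lit 2165774), (nat_lit 2168977), (nat_lit 2172208),
 (nat_lit 2195912), (nat_lit 2230692), (nat_lit 2236570), (nat_lit 2241541), (nat_lit 2262114), (nat_lit 2278017), (nat_lit 2298408), (nat_lit 2310228), (nat_lit 2360048), (nat_lit 2376723), (nat_lit 2379916), (nat_lit 2401800),
 (nat_lit 2437186), (nat_lit 2444032), (nat_lit 2457637), (nat_lit 2492489), (nat_lit 2527504), (nat_lit 2621639), (nat_lit 2626648), (nat_lit 2639396), (nat_lit 2657537), (nat_lit 2666656), (nat_lit 2711561), (nat_lit 2720274),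
 (nat_lit 2761536), (nat_lit 2775042), (nat_lit 2883882), (nat_lit 2893844), (nat_lit 3081344), (nat_lit 3146921), (nat_lit 3149878), (nat_lit 3160328), (nat_lit 3162698), (nat_lit 3186769), (nat_lit 3220100), (nat_lit 3265536),
 (nat_lit 3280400), (nat_lit 3342595), (nat_lit 3409220), (nat_lit 3442818), (nat_lit 3563552), (nat_lit 3686800), (nat_lit 3737696), (nat_lit 3833868), (nat_lit 3936769), (nat_lit 4195898), (nat_lit 4199077), (nat_lit 4206340),
 (nat_lit 4210905), (nat_lit 4215878), (nat_lit 4235970), (nat_lit 4249984), (nat_lit 4252705), (nat_lit 4262185), (nat_lit 4268055), (nat_lit 4273288), (nat_lit 4296816), (nat_lit 4309516), (nat_lit 4328579), (nat_lit 4331548),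
 (nat_lit 4337954), (nat_lit 4344416), (nat_lit 4358469), (nat_lit 4391824), (nat_lit 4461384), (nat_lit 4473140), (nat_lit 4483082), (nat_lit 4491793), (nat_lit 4524228), (nat_lit 4556034), (nat_lit 4596816), (nat_lit 4620456),
 (nat_lit 4673537), (nat_lit 4720096), (nat_lit 4732993), (nat_lit 4735747), (nat_lit 4753446), (nat_lit 4759832), (nat_lit 4803600), (nat_lit 4874372), (nat_lit 4888064), (nat_lit 4915274), (nat_lit 4981773), (nat_lit 4984978),
 (nat_lit 5055008), (nat_lit 5243278), (nat_lit 5248273), (nat_lit 5253296), (nat_lit 5278792), (nat_lit 5315074), (nat_lit 5333312), (nat_lit 5382665), (nat_lit 5423122), (nat_lit 5440548), (nat_lit 5505123), (nat_lit 5523072),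
 (nat_lit 5550084), (nat_lit 5767764), (nat_lit 5787688), (nat_lit 5865601), (nat_lit 6162688), (nat_lit 6293842), (nat_lit 6299756), (nat_lit 6320656), (nat_lit 6325396), (nat_lit 6328331), (nat_lit 6358593), (nat_lit 6373538),
 (nat_lit 6440200), (nat_lit 6531072), (nat_lit 6560800), (nat_lit 6562177), (nat_lit 6685190), (nat_lit 6818440), (nat_lit 6885636), (nat_lit 6946865), (nat_lit 7127104), (nat_lit 7358469), (nat_lit 7373600), (nat_lit 7475392),
 (nat_lit 7667736), (nat_lit 7873538)]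
theorem wf : finK 23 4 7 wL = true := by decide +kernel
theorem wg0 (C : H7.Coding X) (hn : C.n = 23) : Good C 4 7 (UQ 23 wL) wL :=
  good_fin hn (by norm_num) wf ⟨C, hn, rfl⟩
noncomputable def wK0 : List ℕ := [ (nat_lit 4195898), (nat_lit 4199077), (nat_lit 4206340), (nat_lit 4210905), (nat_lit 4215878), (nat_lit 4235970), (nat_lit 4249984), (nat_lit 4252705), (nat_lit 4262185), (nat_lit 4268055), (nat_lit 4273288),
 (nat_lit 4296816), (nat_lit 4309516), (nat_lit 4328579), (nat_lit 4331548), (nat_lit 4337954), (nat_lit 4344416), (nat_lit 4358469), (nat_lit 4391824), (nat_lit 4461384), (nat_lit 4473140), (nat_lit 4483082), (nat_lit 4491793),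
 (nat_lit 4524228), (nat_lit 4556034), (nat_lit 4596816), (nat_lit 4620456), (nat_lit 4673537), (nat_lit 4720096), (nat_lit 4732993), (nat_lit 4735747), (nat_lit 4753446), (nat_lit 4759832), (nat_lit 4803600), (nat_lit 4874372),
 (nat_lit 4888064), (nat_lit 4915274), (nat_lit 4981773), (nat_lit 4984978), (nat_lit 5055008), (nat_lit 5243278), (nat_lit 5248273), (nat_lit 5253296), (nat_lit 5278792), (nat_lit 5315074), (nat_lit 5333312), (nat_lit 5382665),
 (nat_lit 5423122), (nat_lit 5440548), (nat_lit 5505123), (nat_lit 5523072), (nat_lit 5550084), (nat_lit 5767764), (nat_lit 5787688), (nat_lit 5865601), (nat_lit 6162688), (nat_lit 6293842), (nat_lit 6299756), (nat_lit 6320656),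
 (nat_lit 6325396), (nat_lit 6328331), (nat_lit 6358593), (nat_lit 6373538), (nat_lit 6440200), (nat_lit 6531072), (nat_lit 6560800), (nat_lit 6562177), (nat_lit 6685190), (nat_lit 6818440), (nat_lit 6885636), (nat_lit 6946865),
 (nat_lit 7127104), (nat_lit 7358469), (nat_lit 7373600), (nat_lit 7475392), (nat_lit 7667736), (nat_lit 7873538)]
noncomputable def wc0 : SC := (SC.step (nat_lit 15) 3 (SC.sym (nat_lit 2639) (nat_lit 0x59e894d6da9a0c8a8b43b92418820) (nat_lit 147503)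
 (SC.cas (nat_lit 147503)
 (SC.step (nat_lit 27) 3 (SC.cas (nat_lit 1574939)
 (SC.step (nat_lit 29) 3 (SC.cas (nat_lit 2097949)
 (SC.step (nat_lit 30) 3 (SC.cas (nat_lit 295006)
 (SC.step (nat_lit 51) 3 (SC.cas (nat_lit 33203)
 (SC.step (nat_lit 54) 3 (SC.cas (nat_lit 3149878)
 (SC.step (nat_lit 57) 3 (SC.cas (nat_lit 274489)
 (SC.step (nat_lit 531) 3 (SC.cas (nat_lit 135763)
 (SC.step (nat_lit 2321) 3 (SC.cas (nat_lit 157969)
 (SC.step (nat_lit 32775) 3 (SC.cas (nat_lit 1082887)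
 (SC.step (nat_lit 32793) 3 (SC.cas (nat_lit 230425)
 (SC.step (nat_lit 32810) 3 (SC.cas (nat_lit 1155114)
 (SC.step (nat_lit 524561) 3 (SC.cas (nat_lit 852305)
 (SC.step (nat_lit 2097171) 3 (SC.cas (nat_lit 2376723)
 (SC.step (nat_lit 53) 3 (SC.cas (nat_lit 3189)
 (SC.step (nat_lit 60) 3 (SC.cas (nat_lit 590012)
 (SC.step (nat_lit 75) 3 (SC.cas (nat_lit 9547)
 (SC.step (nat_lit 114) 3 (SC.cas (nat_lit 548978)
 (SC.step (nat_lit 210) 3 (SC.cas (nat_lit 1115346)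
 (SC.step (nat_lit 263) 3 (SC.cas (nat_lit 268551)
 (SC.step (nat_lit 278) 3 (SC.cas (nat_lit 656662)
 (SC.step (nat_lit 312) 3 (SC.cas (nat_lit 1180024)
 (SC.step (nat_lit 523) 3 (SC.cas (nat_lit 328331)
 (SC.step (nat_lit 534) 3 (SC.cas (nat_lit 19094)
 (SC.step (nat_lit 553) 3 (SC.cas (nat_lit 557673)
 (SC.step (nat_lit 561) 3 (SC.cas (nat_lit 1131057)
 (SC.step (nat_lit 600) 3 (SC.cas (nat_lit 76376)
 (SC.step (nat_lit 786) 3 (SC.cas (nat_lit 1319698)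
 (SC.step (nat_lit 1052) 3 (SC.cas (nat_lit 1074204)
 (SC.step (nat_lit 1059) 3 (SC.cas (nat_lit 594979)
 (SC.step (nat_lit 1169) 3 (SC.cas (nat_lit 534161)
 (SC.step (nat_lit 2328) 3 (SC.cas (nat_lit 265624)
 (SC.step (nat_lit 2563) 3 (SC.cas (nat_lit 2107939)
 (SC.step (nat_lit 4109) 3 (SC.cas (nat_lit 1118285)
 (SC.step (nat_lit 4117) 3 (SC.cas (nat_lit 577557)
 (SC.step (nat_lit 4122) 3 (SC.cas (nat_lit 86298)
 (SC.step (nat_lit 4138) 3 (SC.cas (nat_lit 6378)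
 (SC.step (nat_lit 4180) 3 (SC.cas (nat_lit 12756)
 (SC.step (nat_lit 4241) 3 (SC.cas (nat_lit 2168977)
 (SC.step (nat_lit 4272) 3 (SC.cas (nat_lit 152752)
 (SC.step (nat_lit 4400) 3 (SC.cas (nat_lit 531248)
 (SC.step (nat_lit 8205) 3 (SC.cas (nat_lit 43149)
 (SC.step (nat_lit 8218) 3 (SC.cas (nat_lit 2236570)
 (SC.step (nat_lit 8273) 3 (SC.cas (nat_lit 3186769)
 (SC.step (nat_lit 12306) 3 (SC.cas (nat_lit 48146)
 (SC.step (nat_lit 16515) 3 (SC.cas (nat_lit 1077379)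
 (SC.step (nat_lit 16901) 3 (SC.cas (nat_lit 287301)
 (SC.step (nat_lit 17413) 3 (SC.cas (nat_lit 83333)
 (SC.step (nat_lit 24585) 3 (SC.cas (nat_lit 2711561)
 (SC.step (nat_lit 24616) 3 (SC.cas (nat_lit 25512)
 (SC.step (nat_lit 32805) 3 (SC.cas (nat_lit 2457637)
 (SC.step (nat_lit 32812) 3 (SC.cas (nat_lit 38188)
 (SC.step (nat_lit 32820) 3 (SC.cas (nat_lit 172596)
 (SC.step (nat_lit 32824) 3 (SC.cas (nat_lit 2148408)
 (SC.step (nat_lit 33033) 3 (SC.cas (nat_lit 1360137)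
 (SC.step (nat_lit 33298) 3 (SC.cas (nat_lit 2720274)
 (SC.step (nat_lit 33304) 3 (SC.cas (nat_lit 1086104)
 (SC.step (nat_lit 33537) 3 (SC.cas (nat_lit 111361)
 (SC.step (nat_lit 33802) 3 (SC.cas (nat_lit 574602)
 (SC.step (nat_lit 33921) 3 (SC.cas (nat_lit 300225)
 (SC.step (nat_lit 34049) 3 (SC.cas (nat_lit 2657537)
 (SC.step (nat_lit 49155) 3 (SC.cas (nat_lit 116803)
 (SC.step (nat_lit 98376) 3 (SC.cas (nat_lit 2195912)
 (SC.step (nat_lit 131093) 3 (SC.cas (nat_lit 1441941)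
 (SC.step (nat_lit 131122) 3 (SC.cas (nat_lit 460850)
 (SC.step (nat_lit 131145) 3 (SC.cas (nat_lit 2492489)
 (SC.step (nat_lit 131589) 3 (SC.cas (nat_lit 723461)
 (SC.step (nat_lit 131608) 3 (SC.cas (nat_lit 934424)
 (SC.step (nat_lit 131841) 3 (SC.cas (nat_lit 395041)
 (SC.step (nat_lit 132101) 3 (SC.cas (nat_lit 2241541)
 (SC.step (nat_lit 135177) 3 (SC.cas (nat_lit 659849)
 (SC.step (nat_lit 139297) 3 (SC.cas (nat_lit 205025)
 (SC.step (nat_lit 139304) 3 (SC.cas (nat_lit 666664)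
 (SC.step (nat_lit 163843) 3 (SC.cas (nat_lit 958467)
 (SC.step (nat_lit 163850) 3 (SC.cas (nat_lit 166666)
 (SC.step (nat_lit 164112) 3 (SC.cas (nat_lit 2527504)
 (SC.step (nat_lit 196611) 3 (SC.cas (nat_lit 3342595)
 (SC.step (nat_lit 196648) 3 (SC.cas (nat_lit 2298408)
 (SC.step (nat_lit 262186) 3 (SC.cas (nat_lit 2883882)
 (SC.step (nat_lit 266260) 3 (SC.cas (nat_lit 333332)
 (SC.step (nat_lit 303112) 3 (SC.cas (nat_lit 2401800)
 (SC.step (nat_lit 360456) 3 (SC.cas (nat_lit 890888)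
 (SC.step (nat_lit 360464) 3 (SC.cas (nat_lit 385168)
 (SC.step (nat_lit 1048613) 3 (SC.cas (nat_lit 1581349)
 (SC.step (nat_lit 1048617) 3 (SC.cas (nat_lit 3146921)
 (SC.step (nat_lit 1048620) 3 (SC.cas (nat_lit 1313324)
 (SC.step (nat_lit 1060896) 3 (SC.cas (nat_lit 1062496)
 (SC.step (nat_lit 1081356) 3 (SC.cas (nat_lit 3833868)
 (SC.step (nat_lit 1081364) 3 (SC.cas (nat_lit 1149204)
 (SC.step (nat_lit 1081377) 3 (SC.cas (nat_lit 1218593)
 (SC.step (nat_lit 1081380) 3 (SC.cas (nat_lit 1097956)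
 (SC.step (nat_lit 1081392) 3 (SC.cas (nat_lit 1868848)
 (SC.step (nat_lit 1147904) 3 (SC.cas (nat_lit 3265536)
 (SC.step (nat_lit 2097159) 3 (SC.cas (nat_lit 2621639)
 (SC.step (nat_lit 2097236) 3 (SC.cas (nat_lit 2310228)
 (SC.step (nat_lit 2097456) 3 (SC.cas (nat_lit 2172208)
 (SC.step (nat_lit 2359316) 3 (SC.cas (nat_lit 2893844)
 (SC.step (nat_lit 3146244) 3 (SC.cas (nat_lit 3220100)
 (SC.step (nat_lit 102) 3 (SC.cas (nat_lit 66406)
 (SC.step (nat_lit 166) 3 (SC.cas (nat_lit 271526)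
 (SC.step (nat_lit 204) 3 (SC.cas (nat_lit 132812)
 (SC.step (nat_lit 240) 3 (SC.cas (nat_lit 2360048)
 (SC.step (nat_lit 332) 3 (SC.cas (nat_lit 543052)
 (SC.step (nat_lit 353) 3 (SC.cas (nat_lit 2117985)
 (SC.step (nat_lit 420) 3 (SC.cas (nat_lit 2230692)
 (SC.step (nat_lit 449) 3 (SC.cas (nat_lit 1051585)
 (SC.step (nat_lit 450) 3 (SC.cas (nat_lit 410050)
 (SC.step (nat_lit 526) 3 (SC.cas (nat_lit 537102)
 (SC.step (nat_lit 586) 3 (SC.cas (nat_lit 3162698)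
 (SC.step (nat_lit 674) 3 (SC.cas (nat_lit 1704610)
 (SC.step (nat_lit 848) 3 (SC.cas (nat_lit 51024)
 (SC.step (nat_lit 898) 3 (SC.cas (nat_lit 2103170)
 (SC.step (nat_lit 900) 3 (SC.cas (nat_lit 820100)
 (SC.step (nat_lit 1038) 3 (SC.cas (nat_lit 2165774)
 (SC.step (nat_lit 1112) 3 (SC.cas (nat_lit 2626648)
 (SC.step (nat_lit 1122) 3 (SC.cas (nat_lit 2262114)
 (SC.step (nat_lit 1128) 3 (SC.cas (nat_lit 345192)
 (SC.step (nat_lit 1314) 3 (SC.cas (nat_lit 1068322)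
 (SC.step (nat_lit 1348) 3 (SC.cas (nat_lit 3409220)
 (SC.step (nat_lit 1545) 3 (SC.cas (nat_lit 24073)
 (SC.step (nat_lit 1572) 3 (SC.cas (nat_lit 2639396)
 (SC.step (nat_lit 1602) 3 (SC.cas (nat_lit 790082)
 (SC.step (nat_lit 1696) 3 (SC.cas (nat_lit 102048)
 (SC.step (nat_lit 1800) 3 (SC.cas (nat_lit 1640200)
 (SC.step (nat_lit 2118) 3 (SC.cas (nat_lit 1189958)
 (SC.step (nat_lit 2209) 3 (SC.cas (nat_lit 805025)
 (SC.step (nat_lit 2256) 3 (SC.cas (nat_lit 690384)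
 (SC.step (nat_lit 2400) 3 (SC.cas (nat_lit 305504)
 (SC.step (nat_lit 2434) 3 (SC.cas (nat_lit 600450)
 (SC.step (nat_lit 2628) 3 (SC.cas (nat_lit 2136644)
 (SC.step (nat_lit 3204) 3 (SC.cas (nat_lit 1580164)
 (SC.step (nat_lit 3600) 3 (SC.cas (nat_lit 3280400)
 (SC.step (nat_lit 4196) 3 (SC.cas (nat_lit 921700)
 (SC.step (nat_lit 4230) 3 (SC.cas (nat_lit 233606)
 (SC.step (nat_lit 4236) 3 (SC.cas (nat_lit 2379916)
 (SC.step (nat_lit 4418) 3 (SC.cas (nat_lit 1610050)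
 (SC.step (nat_lit 4642) 3 (SC.cas (nat_lit 315938)
 (SC.step (nat_lit 4800) 3 (SC.cas (nat_lit 611008)
 (SC.step (nat_lit 4868) 3 (SC.cas (nat_lit 1200900)
 (SC.step (nat_lit 5130) 3 (SC.cas (nat_lit 1446922)
 (SC.step (nat_lit 6180) 3 (SC.cas (nat_lit 96292)
 (SC.step (nat_lit 6224) 3 (SC.cas (nat_lit 1333328)
 (SC.step (nat_lit 6408) 3 (SC.cas (nat_lit 3160328)
 (SC.step (nat_lit 7232) 3 (SC.cas (nat_lit 204096)
 (SC.step (nat_lit 8392) 3 (SC.cas (nat_lit 1843400)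
 (SC.step (nat_lit 8454) 3 (SC.cas (nat_lit 2154758)
 (SC.step (nat_lit 8460) 3 (SC.cas (nat_lit 467212)
 (SC.step (nat_lit 9024) 3 (SC.cas (nat_lit 2761536)
 (SC.step (nat_lit 9284) 3 (SC.cas (nat_lit 631876)
 (SC.step (nat_lit 9408) 3 (SC.cas (nat_lit 2124992)
 (SC.step (nat_lit 9600) 3 (SC.cas (nat_lit 1222016)
 (SC.step (nat_lit 9730) 3 (SC.cas (nat_lit 222722)
 (SC.step (nat_lit 10880) 3 (SC.cas (nat_lit 408192)
 (SC.step (nat_lit 11265) 3 (SC.cas (nat_lit 1387521)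
 (SC.step (nat_lit 12354) 3 (SC.cas (nat_lit 2437186)
 (SC.step (nat_lit 12360) 3 (SC.cas (nat_lit 192584)
 (SC.step (nat_lit 12448) 3 (SC.cas (nat_lit 2666656)
 (SC.step (nat_lit 13568) 3 (SC.cas (nat_lit 816384)
 (SC.step (nat_lit 16784) 3 (SC.cas (nat_lit 3686800)
 (SC.step (nat_lit 17025) 3 (SC.cas (nat_lit 2278017)
 (SC.step (nat_lit 17473) 3 (SC.cas (nat_lit 1721409)
 (SC.step (nat_lit 18568) 3 (SC.cas (nat_lit 1263752)
 (SC.step (nat_lit 19460) 3 (SC.cas (nat_lit 445444)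
 (SC.step (nat_lit 22530) 3 (SC.cas (nat_lit 2775042)
 (SC.step (nat_lit 27136) 3 (SC.cas (nat_lit 1632768)
 (SC.step (nat_lit 34946) 3 (SC.cas (nat_lit 3442818)
 (SC.step (nat_lit 49440) 3 (SC.cas (nat_lit 770336)
 (SC.step (nat_lit 65952) 3 (SC.cas (nat_lit 1380768)
 (SC.step (nat_lit 67680) 3 (SC.cas (nat_lit 3737696)
 (SC.step (nat_lit 68352) 3 (SC.cas (nat_lit 2444032)
 (SC.step (nat_lit 77840) 3 (SC.cas (nat_lit 1781776)
 (SC.step (nat_lit 81926) 3 (SC.cas (nat_lit 1916934)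
 (SC.step (nat_lit 98880) 3 (SC.cas (nat_lit 1540672)
 (SC.step (nat_lit 155680) 3 (SC.cas (nat_lit 3563552)
 (SC.step (nat_lit 197760) 3 (SC.cas (nat_lit 3081344)
 (SC.step (nat_lit 266753) 3 (SC.cas (nat_lit 3936769)
 (SC.sub wL SC.fin) SC.nil)) SC.nil)) SC.nil)) SC.nil)) SC.nil)) SC.nil)) SC.nil)) SC.nil)) SC.nil)) SC.nil)) SC.nil)) SC.nil)) SC.nil)) SC.nil)) SC.nil)) SC.nil)) SC.nil)) SC.nil)) SC.nil)) SC.nil)) SC.nil)) SC.nil)) SC.nil)) SC.nil)) SC.nil)) SC.nil)) SC.nil)) SC.nil)) SC.nil)) SC.nil)) SC.nil)) SC.nil)) SC.nil)) SC.nil)) SC.nil)) SC.nil)) SC.nil)) SC.nil)) SC.nil)) SC.nil)) SC.nil)) SC.nil)) SC.nil)) SC.nil)) SC.nil)) SC.nil)) SC.nil)) SC.nil)) SC.nil)) SC.nil)) SC.nil)) SC.nil)) SC.nil)) SC.nil)) SC.nil)) SC.nil)) SC.nil)) SC.nil)) SC.nil)) SC.nil)) SC.nil)) SC.nil)) SC.nil)) SC.nil)) SC.nil)) SC.nil)) SC.nil)) SC.nil)) SC.nil)) SC.nil)) SC.nil)) SC.nil)) SC.nil)) SC.nil)) SC.nil)) SC.nil))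 SC.nil)) SC.nil)) SC.nil)) SC.nil)) SC.nil)) SC.nil)) SC.nil)) SC.nil)) SC.nil)) SC.nil)) SC.nil)) SC.nil)) SC.nil)) SC.nil)) SC.nil)) SC.nil)) SC.nil)) SC.nil)) SC.nil)) SC.nil)) SC.nil)) SC.nil)) SC.nil)) SC.nil)) SC.nil)) SC.nil)) SC.nil)) SC.nil)) SC.nil)) SC.nil)) SC.nil)) SC.nil)) SC.nil)) SC.nil)) SC.nil)) SC.nil)) SC.nil)) SC.nil)) SC.nil)) SC.nil)) SC.nil)) SC.nil)) SC.nil)) SC.nil)) SC.nil)) SC.nil)) SC.nil)) SC.nil)) SC.nil)) SC.nil)) SC.nil)) SC.nil)) SC.nil)) SC.nil)) SC.nil)) SC.nil)) SC.nil)) SC.nil)) SC.nil)) SC.nil)) SC.nil)) SC.nil)) SC.nil)) SC.nil)) SC.nil)) SC.nil)) SC.nil)) SC.nil)) SC.nil)) SC.nil)) SC.nil)) SC.nil)) SC.nil)) SC.nil)) SC.nil)) SC.nil)) SC.nil)) SC.nil)) SC.nil)) SC.nil)) SC.nil)) SC.nil)) SC.nil)) SC.nil)) SC.nil)) SC.nil)) SC.nil)) SC.nil)) SC.nil)) SC.nil)) SC.nil)) SC.nil)) SC.nil)) SC.nil)) SC.nil)) SC.nil)) SC.nil)) SC.nil)) SC.nil)) SC.nil)))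
theorem wk0 : wc0.chk 23 4 7 true [wL] true wK0 = true := by decide +kernel
theorem wg1 (C : H7.Coding X) (hn : C.n = 23) : Good C 4 7 (UQ 23 wL) wK0 :=
  chk_good hn (by norm_num) UQ.inv (List.forall_mem_singleton.2 (wg0 C hn)) wk0
noncomputable def wK1 : List ℕ := [ (nat_lit 6293842), (nat_lit 6299756), (nat_lit 6320656), (nat_lit 6325396), (nat_lit 6328331), (nat_lit 6358593), (nat_lit 6373538), (nat_lit 6440200), (nat_lit 6531072), (nat_lit 6560800), (nat_lit 6562177),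
 (nat_lit 6685190), (nat_lit 6818440), (nat_lit 6885636), (nat_lit 6946865), (nat_lit 7127104), (nat_lit 7358469), (nat_lit 7373600), (nat_lit 7475392), (nat_lit 7667736), (nat_lit 7873538)]
noncomputable def wc1 : SC := (SC.step (nat_lit 4194311) 3 (SC.sym (nat_lit 4195623) (nat_lit 0x5aae845287acaca1e53234ca18820) (nat_lit 4268055)
 (SC.sym (nat_lit 4718791) (nat_lit 0x5aab426537d0cc71230515a718820) (nat_lit 4268055)
 (SC.cas (nat_lit 4268055)
 (SC.step (nat_lit 4194317) 3 (SC.cas (nat_lit 4981773)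
 (SC.step (nat_lit 4194318) 3 (SC.cas (nat_lit 5243278)
 (SC.step (nat_lit 4194332) 3 (SC.cas (nat_lit 4331548)
 (SC.step (nat_lit 4194828) 3 (SC.cas (nat_lit 4309516)
 (SC.step (nat_lit 4194580) 3 (SC.cas (nat_lit 4473140)
 (SC.step (nat_lit 4194388) 3 (SC.cas (nat_lit 5767764)
 (SC.step (nat_lit 4521988) 3 (SC.cas (nat_lit 4524228)
 (SC.step (nat_lit 4259876) 3 (SC.cas (nat_lit 5440548)
 (SC.step (nat_lit 4460548) 3 (SC.cas (nat_lit 5550084)
 (SC.step (nat_lit 4194341) 3 (SC.cas (nat_lit 4199077)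
 (SC.step (nat_lit 4194342) 3 (SC.cas (nat_lit 4753446)
 (SC.step (nat_lit 4194373) 3 (SC.cas (nat_lit 4358469)
 (SC.step (nat_lit 4195076) 3 (SC.cas (nat_lit 4206340)
 (SC.step (nat_lit 4198406) 3 (SC.cas (nat_lit 4215878)
 (SC.step (nat_lit 4202628) 3 (SC.cas (nat_lit 4874372)
 (SC.step (nat_lit 4194329) 3 (SC.cas (nat_lit 4210905)
 (SC.step (nat_lit 4194480) 3 (SC.cas (nat_lit 5253296)
 (SC.step (nat_lit 4195400) 3 (SC.cas (nat_lit 5278792)
 (SC.step (nat_lit 4210721) 3 (SC.cas (nat_lit 4252705)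
 (SC.step (nat_lit 4194330) 3 (SC.cas (nat_lit 4195898)
 (SC.step (nat_lit 4194416) 3 (SC.cas (nat_lit 4296816)
 (SC.step (nat_lit 4194472) 3 (SC.cas (nat_lit 4620456)
 (SC.step (nat_lit 4194584) 3 (SC.cas (nat_lit 4759832)
 (SC.step (nat_lit 4194882) 3 (SC.cas (nat_lit 4235970)
 (SC.step (nat_lit 4195408) 3 (SC.cas (nat_lit 4596816)
 (SC.step (nat_lit 4195424) 3 (SC.cas (nat_lit 4720096)
 (SC.step (nat_lit 4195464) 3 (SC.cas (nat_lit 4273288)
 (SC.step (nat_lit 4194339) 3 (SC.cas (nat_lit 5505123)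
 (SC.step (nat_lit 4194345) 3 (SC.cas (nat_lit 4262185)
 (SC.step (nat_lit 4194378) 3 (SC.cas (nat_lit 4915274)
 (SC.step (nat_lit 4194594) 3 (SC.cas (nat_lit 4337954)
 (SC.step (nat_lit 4194912) 3 (SC.cas (nat_lit 4344416)
 (SC.step (nat_lit 4196417) 3 (SC.cas (nat_lit 4732993)
 (SC.step (nat_lit 4456458) 3 (SC.cas (nat_lit 4483082)
 (SC.step (nat_lit 4456520) 3 (SC.cas (nat_lit 4461384)
 (SC.step (nat_lit 4456992) 3 (SC.cas (nat_lit 5055008)
 (SC.step (nat_lit 5242889) 3 (SC.cas (nat_lit 5382665)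
 (SC.step (nat_lit 5242920) 3 (SC.cas (nat_lit 5787688)
 (SC.step (nat_lit 5243200) 3 (SC.cas (nat_lit 5333312)
 (SC.step (nat_lit 4194435) 3 (SC.cas (nat_lit 4328579)
 (SC.step (nat_lit 4194450) 3 (SC.cas (nat_lit 4984978)
 (SC.step (nat_lit 4194563) 3 (SC.cas (nat_lit 4735747)
 (SC.step (nat_lit 4195345) 3 (SC.cas (nat_lit 5248273)
 (SC.step (nat_lit 4195586) 3 (SC.cas (nat_lit 4556034)
 (SC.step (nat_lit 4195968) 3 (SC.cas (nat_lit 5523072)
 (SC.step (nat_lit 4196369) 3 (SC.cas (nat_lit 4491793)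
 (SC.step (nat_lit 4196736) 3 (SC.cas (nat_lit 4249984)
 (SC.step (nat_lit 4196866) 3 (SC.cas (nat_lit 5315074)
 (SC.step (nat_lit 4197392) 3 (SC.cas (nat_lit 4803600)
 (SC.step (nat_lit 4227201) 3 (SC.cas (nat_lit 5865601)
 (SC.step (nat_lit 4325394) 3 (SC.cas (nat_lit 5423122)
 (SC.step (nat_lit 4325520) 3 (SC.cas (nat_lit 4391824)
 (SC.step (nat_lit 4326912) 3 (SC.cas (nat_lit 4888064)
 (SC.step (nat_lit 4327680) 3 (SC.cas (nat_lit 6162688)
 (SC.step (nat_lit 4329473) 3 (SC.cas (nat_lit 4673537)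
 (SC.sub wK0 SC.fin) SC.nil)) SC.nil)) SC.nil)) SC.nil)) SC.nil)) SC.nil)) SC.nil)) SC.nil)) SC.nil)) SC.nil)) SC.nil)) SC.nil)) SC.nil)) SC.nil)) SC.nil)) SC.nil)) SC.nil)) SC.nil)) SC.nil)) SC.nil)) SC.nil)) SC.nil)) SC.nil)) SC.nil)) SC.nil)) SC.nil)) SC.nil)) SC.nil)) SC.nil)) SC.nil)) SC.nil)) SC.nil)) SC.nil)) SC.nil)) SC.nil)) SC.nil)) SC.nil)) SC.nil)) SC.nil)) SC.nil)) SC.nil)) SC.nil)) SC.nil)) SC.nil)) SC.nil)) SC.nil)) SC.nil)) SC.nil)) SC.nil)) SC.nil)) SC.nil)) SC.nil)) SC.nil)) SC.nil)) SC.nil)) SC.nil))))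
theorem wk1 : wc1.chk 23 4 7 true [wK0] true wK1 = true := by decide +kernel
theorem wg2 (C : H7.Coding X) (hn : C.n = 23) : Good C 4 7 (UQ 23 wL) wK1 :=
  chk_good hn (by norm_num) UQ.inv (List.forall_mem_singleton.2 (wg1 C hn)) wk1
noncomputable def wc2 : SC := (SC.step (nat_lit 6291459) 1 (SC.sym (nat_lit 6291467) (nat_lit 0x5ab49ca307b9ac5a928398a410c20) (nat_lit 6291463)
 (SC.sym (nat_lit 6291475) (nat_lit 0x5ab49ca307b9ac5a928398a311020) (nat_lit 6291463)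
 (SC.sym (nat_lit 6291491) (nat_lit 0x5ab49ca307b9ac5a9283988311420) (nat_lit 6291463)
 (SC.sym (nat_lit 6291523) (nat_lit 0x5ab49ca307b9ac5a9283948311820) (nat_lit 6291463)
 (SC.sym (nat_lit 6291587) (nat_lit 0x5ab49ca307b9ac5a9283148311c20) (nat_lit 6291463)
 (SC.sym (nat_lit 6291715) (nat_lit 0x5ab49ca307b9ac5a9273148312020) (nat_lit 6291463)
 (SC.sym (nat_lit 6291971) (nat_lit 0x5ab49ca307b9ac5a9073148312420) (nat_lit 6291463)
 (SC.sym (nat_lit 6292483) (nat_lit 0x5ab49ca307b9ac5a5073148312820) (nat_lit 6291463)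
 (SC.sym (nat_lit 6293507) (nat_lit 0x5ab49ca307b9ac525073148312c20) (nat_lit 6291463)
 (SC.sym (nat_lit 6295555) (nat_lit 0x5ab49ca307b9ab525073148313020) (nat_lit 6291463)
 (SC.sym (nat_lit 6299651) (nat_lit 0x5ab49ca307b98b525073148313420) (nat_lit 6291463)
 (SC.sym (nat_lit 6307843) (nat_lit 0x5ab49ca307b58b525073148313820) (nat_lit 6291463)
 (SC.sym (nat_lit 6324227) (nat_lit 0x5ab49ca307358b525073148313c20) (nat_lit 6291463)
 (SC.sym (nat_lit 6356995) (nat_lit 0x5ab49ca2f7358b525073148314020) (nat_lit 6291463)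
 (SC.sym (nat_lit 6422531) (nat_lit 0x5ab49ca0f7358b525073148314420) (nat_lit 6291463)
 (SC.sym (nat_lit 6553603) (nat_lit 0x5ab49c60f7358b525073148314820) (nat_lit 6291463)
 (SC.sym (nat_lit 6815747) (nat_lit 0x5ab49460f7358b525073148314c20) (nat_lit 6291463)
 (SC.sym (nat_lit 7340035) (nat_lit 0x5ab39460f7358b525073148315020) (nat_lit 6291463)
 (SC.cas (nat_lit 6291463)
 (SC.step (nat_lit 6291463) 1 (SC.sym (nat_lit 6291479) (nat_lit 0x5ab49ca307b9ac5a928398a320820) (nat_lit 6291471)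
 (SC.sym (nat_lit 6291495) (nat_lit 0x5ab49ca307b9ac5a9283988328820) (nat_lit 6291471)
 (SC.sym (nat_lit 6291527) (nat_lit 0x5ab49ca307b9ac5a9283948330820) (nat_lit 6291471)
 (SC.sym (nat_lit 6291591) (nat_lit 0x5ab49ca307b9ac5a9283148338820) (nat_lit 6291471)
 (SC.sym (nat_lit 6291719) (nat_lit 0x5ab49ca307b9ac5a9273148340820) (nat_lit 6291471)
 (SC.sym (nat_lit 6291975) (nat_lit 0x5ab49ca307b9ac5a9073148348820) (nat_lit 6291471)
 (SC.sym (nat_lit 6292487) (nat_lit 0x5ab49ca307b9ac5a5073148350820) (nat_lit 6291471)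
 (SC.sym (nat_lit 6293511) (nat_lit 0x5ab49ca307b9ac525073148358820) (nat_lit 6291471)
 (SC.sym (nat_lit 6295559) (nat_lit 0x5ab49ca307b9ab525073148360820) (nat_lit 6291471)
 (SC.sym (nat_lit 6299655) (nat_lit 0x5ab49ca307b98b525073148368820) (nat_lit 6291471)
 (SC.sym (nat_lit 6307847) (nat_lit 0x5ab49ca307b58b525073148370820) (nat_lit 6291471)
 (SC.sym (nat_lit 6324231) (nat_lit 0x5ab49ca307358b525073148378820) (nat_lit 6291471)
 (SC.sym (nat_lit 6356999) (nat_lit 0x5ab49ca2f7358b525073148380820) (nat_lit 6291471)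
 (SC.sym (nat_lit 6422535) (nat_lit 0x5ab49ca0f7358b525073148388820) (nat_lit 6291471)
 (SC.sym (nat_lit 6553607) (nat_lit 0x5ab49c60f7358b525073148390820) (nat_lit 6291471)
 (SC.sym (nat_lit 6815751) (nat_lit 0x5ab49460f7358b525073148398820) (nat_lit 6291471)
 (SC.sym (nat_lit 7340039) (nat_lit 0x5ab39460f7358b5250731483a0820) (nat_lit 6291471)
 (SC.cas (nat_lit 6291471)
 (SC.sub [(nat_lit 6291471)]
 (SC.step (nat_lit 6291471) 1 (SC.sym (nat_lit 6291503) (nat_lit 0x5ab49ca307b9ac5a9283988518820) (nat_lit 6291487)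
 (SC.sym (nat_lit 6291535) (nat_lit 0x5ab49ca307b9ac5a9283948618820) (nat_lit 6291487)
 (SC.sym (nat_lit 6291599) (nat_lit 0x5ab49ca307b9ac5a9283148718820) (nat_lit 6291487)
 (SC.sym (nat_lit 6291727) (nat_lit 0x5ab49ca307b9ac5a9273148818820) (nat_lit 6291487)
 (SC.sym (nat_lit 6291983) (nat_lit 0x5ab49ca307b9ac5a9073148918820) (nat_lit 6291487)
 (SC.sym (nat_lit 6292495) (nat_lit 0x5ab49ca307b9ac5a5073148a18820) (nat_lit 6291487)
 (SC.sym (nat_lit 6293519) (nat_lit 0x5ab49ca307b9ac525073148b18820) (nat_lit 6291487)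
 (SC.sym (nat_lit 6295567) (nat_lit 0x5ab49ca307b9ab525073148c18820) (nat_lit 6291487)
 (SC.sym (nat_lit 6299663) (nat_lit 0x5ab49ca307b98b525073148d18820) (nat_lit 6291487)
 (SC.sym (nat_lit 6307855) (nat_lit 0x5ab49ca307b58b525073148e18820) (nat_lit 6291487)
 (SC.sym (nat_lit 6324239) (nat_lit 0x5ab49ca307358b525073148f18820) (nat_lit 6291487)
 (SC.sym (nat_lit 6357007) (nat_lit 0x5ab49ca2f7358b525073149018820) (nat_lit 6291487)
 (SC.sym (nat_lit 6422543) (nat_lit 0x5ab49ca0f7358b525073149118820) (nat_lit 6291487)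
 (SC.sym (nat_lit 6553615) (nat_lit 0x5ab49c60f7358b525073149218820) (nat_lit 6291487)
 (SC.sym (nat_lit 6815759) (nat_lit 0x5ab49460f7358b525073149318820) (nat_lit 6291487)
 (SC.sym (nat_lit 7340047) (nat_lit 0x5ab39460f7358b525073149418820) (nat_lit 6291487)
 (SC.cas (nat_lit 6291487)
 (SC.sub [(nat_lit 6291487)]
 (SC.step (nat_lit 6291489) 1 (SC.sym (nat_lit 6291617) (nat_lit 0x5ab49ca307b9ac5a92831ca418820) (nat_lit 6291553)
 (SC.sym (nat_lit 6291745) (nat_lit 0x5ab49ca307b9ac5a927320a418820) (nat_lit 6291553)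
 (SC.sym (nat_lit 6292001) (nat_lit 0x5ab49ca307b9ac5a907324a418820) (nat_lit 6291553)
 (SC.sym (nat_lit 6292513) (nat_lit 0x5ab49ca307b9ac5a507328a418820) (nat_lit 6291553)
 (SC.sym (nat_lit 6293537) (nat_lit 0x5ab49ca307b9ac5250732ca418820) (nat_lit 6291553)
 (SC.sym (nat_lit 6295585) (nat_lit 0x5ab49ca307b9ab52507330a418820) (nat_lit 6291553)
 (SC.sym (nat_lit 6299681) (nat_lit 0x5ab49ca307b98b52507334a418820) (nat_lit 6291553)
 (SC.sym (nat_lit 6307873) (nat_lit 0x5ab49ca307b58b52507338a418820) (nat_lit 6291553)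
 (SC.sym (nat_lit 6324257) (nat_lit 0x5ab49ca307358b5250733ca418820) (nat_lit 6291553)
 (SC.sym (nat_lit 6357025) (nat_lit 0x5ab49ca2f7358b52507340a418820) (nat_lit 6291553)
 (SC.sym (nat_lit 6422561) (nat_lit 0x5ab49ca0f7358b52507344a418820) (nat_lit 6291553)
 (SC.sym (nat_lit 6553633) (nat_lit 0x5ab49c60f7358b52507348a418820) (nat_lit 6291553)
 (SC.sym (nat_lit 6815777) (nat_lit 0x5ab49460f7358b5250734ca418820) (nat_lit 6291553)
 (SC.sym (nat_lit 7340065) (nat_lit 0x5ab39460f7358b52507350a418820) (nat_lit 6291553)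
 (SC.cas (nat_lit 6291553)
 (SC.step (nat_lit 6291553) 1 (SC.sym (nat_lit 6291809) (nat_lit 0x5ab49ca307b9ac5a927418a418820) (nat_lit 6291681)
 (SC.sym (nat_lit 6292065) (nat_lit 0x5ab49ca307b9ac5a907498a418820) (nat_lit 6291681)
 (SC.sym (nat_lit 6292577) (nat_lit 0x5ab49ca307b9ac5a507518a418820) (nat_lit 6291681)
 (SC.sym (nat_lit 6293601) (nat_lit 0x5ab49ca307b9ac52507598a418820) (nat_lit 6291681)
 (SC.sym (nat_lit 6295649) (nat_lit 0x5ab49ca307b9ab52507618a418820) (nat_lit 6291681)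
 (SC.sym (nat_lit 6299745) (nat_lit 0x5ab49ca307b98b52507698a418820) (nat_lit 6291681)
 (SC.sym (nat_lit 6307937) (nat_lit 0x5ab49ca307b58b52507718a418820) (nat_lit 6291681)
 (SC.sym (nat_lit 6324321) (nat_lit 0x5ab49ca307358b52507798a418820) (nat_lit 6291681)
 (SC.sym (nat_lit 6357089) (nat_lit 0x5ab49ca2f7358b52507818a418820) (nat_lit 6291681)
 (SC.sym (nat_lit 6422625) (nat_lit 0x5ab49ca0f7358b52507898a418820) (nat_lit 6291681)
 (SC.sym (nat_lit 6553697) (nat_lit 0x5ab49c60f7358b52507918a418820) (nat_lit 6291681)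
 (SC.sym (nat_lit 6815841) (nat_lit 0x5ab49460f7358b52507998a418820) (nat_lit 6291681)
 (SC.sym (nat_lit 7340129) (nat_lit 0x5ab39460f7358b52507a18a418820) (nat_lit 6291681)
 (SC.cas (nat_lit 6291681)
 (SC.sub [(nat_lit 6291681), (nat_lit 6291487)]
 (SC.step (nat_lit 6291681) 1 (SC.sym (nat_lit 6292193) (nat_lit 0x5ab49ca307b9ac5a909398a418820) (nat_lit 6291937)
 (SC.sym (nat_lit 6292705) (nat_lit 0x5ab49ca307b9ac5a50a398a418820) (nat_lit 6291937)
 (SC.sym (nat_lit 6293729) (nat_lit 0x5ab49ca307b9ac5250b398a418820) (nat_lit 6291937)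
 (SC.sym (nat_lit 6295777) (nat_lit 0x5ab49ca307b9ab5250c398a418820) (nat_lit 6291937)
 (SC.sym (nat_lit 6299873) (nat_lit 0x5ab49ca307b98b5250d398a418820) (nat_lit 6291937)
 (SC.sym (nat_lit 6308065) (nat_lit 0x5ab49ca307b58b5250e398a418820) (nat_lit 6291937)
 (SC.sym (nat_lit 6324449) (nat_lit 0x5ab49ca307358b5250f398a418820) (nat_lit 6291937)
 (SC.sym (nat_lit 6357217) (nat_lit 0x5ab49ca2f7358b52510398a418820) (nat_lit 6291937)
 (SC.sym (nat_lit 6422753) (nat_lit 0x5ab49ca0f7358b52511398a418820) (nat_lit 6291937)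
 (SC.sym (nat_lit 6553825) (nat_lit 0x5ab49c60f7358b52512398a418820) (nat_lit 6291937)
 (SC.sym (nat_lit 6815969) (nat_lit 0x5ab49460f7358b52513398a418820) (nat_lit 6291937)
 (SC.sym (nat_lit 7340257) (nat_lit 0x5ab39460f7358b52514398a418820) (nat_lit 6291937)
 (SC.cas (nat_lit 6291937)
 (SC.sub [(nat_lit 6291937), (nat_lit 6291487)]
 (SC.step (nat_lit 6291969) 1 (SC.sym (nat_lit 6294017) (nat_lit 0x5ab49ca307b9ac52d28398a418820) (nat_lit 6292993)
 (SC.sym (nat_lit 6296065) (nat_lit 0x5ab49ca307b9ab53128398a418820) (nat_lit 6292993)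
 (SC.sym (nat_lit 6300161) (nat_lit 0x5ab49ca307b98b53528398a418820) (nat_lit 6292993)
 (SC.sym (nat_lit 6308353) (nat_lit 0x5ab49ca307b58b53928398a418820) (nat_lit 6292993)
 (SC.sym (nat_lit 6324737) (nat_lit 0x5ab49ca307358b53d28398a418820) (nat_lit 6292993)
 (SC.sym (nat_lit 6357505) (nat_lit 0x5ab49ca2f7358b54128398a418820) (nat_lit 6292993)
 (SC.sym (nat_lit 6423041) (nat_lit 0x5ab49ca0f7358b54528398a418820) (nat_lit 6292993)
 (SC.sym (nat_lit 6554113) (nat_lit 0x5ab49c60f7358b54928398a418820) (nat_lit 6292993)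
 (SC.sym (nat_lit 6816257) (nat_lit 0x5ab49460f7358b54d28398a418820) (nat_lit 6292993)
 (SC.sym (nat_lit 7340545) (nat_lit 0x5ab39460f7358b55128398a418820) (nat_lit 6292993)
 (SC.cas (nat_lit 6292993)
 (SC.step (nat_lit 6292993) 1 (SC.sym (nat_lit 6297089) (nat_lit 0x5ab49ca307b9ab62928398a418820) (nat_lit 6295041)
 (SC.sym (nat_lit 6301185) (nat_lit 0x5ab49ca307b98b6a928398a418820) (nat_lit 6295041)
 (SC.sym (nat_lit 6309377) (nat_lit 0x5ab49ca307b58b72928398a418820) (nat_lit 6295041)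
 (SC.sym (nat_lit 6325761) (nat_lit 0x5ab49ca307358b7a928398a418820) (nat_lit 6295041)
 (SC.sym (nat_lit 6358529) (nat_lit 0x5ab49ca2f7358b82928398a418820) (nat_lit 6295041)
 (SC.sym (nat_lit 6424065) (nat_lit 0x5ab49ca0f7358b8a928398a418820) (nat_lit 6295041)
 (SC.sym (nat_lit 6555137) (nat_lit 0x5ab49c60f7358b92928398a418820) (nat_lit 6295041)
 (SC.sym (nat_lit 6817281) (nat_lit 0x5ab49460f7358b9a928398a418820) (nat_lit 6295041)
 (SC.sym (nat_lit 7341569) (nat_lit 0x5ab39460f7358ba2928398a418820) (nat_lit 6295041)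
 (SC.cas (nat_lit 6295041)
 (SC.sub [(nat_lit 6295041), (nat_lit 6291937), (nat_lit 6291487)]
 (SC.step (nat_lit 6295041) 1 (SC.sym (nat_lit 6303233) (nat_lit 0x5ab49ca307b98d5a928398a418820) (nat_lit 6299137)
 (SC.sym (nat_lit 6311425) (nat_lit 0x5ab49ca307b58e5a928398a418820) (nat_lit 6299137)
 (SC.sym (nat_lit 6327809) (nat_lit 0x5ab49ca307358f5a928398a418820) (nat_lit 6299137)
 (SC.sym (nat_lit 6360577) (nat_lit 0x5ab49ca2f735905a928398a418820) (nat_lit 6299137)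
 (SC.sym (nat_lit 6426113) (nat_lit 0x5ab49ca0f735915a928398a418820) (nat_lit 6299137)
 (SC.sym (nat_lit 6557185) (nat_lit 0x5ab49c60f735925a928398a418820) (nat_lit 6299137)
 (SC.sym (nat_lit 6819329) (nat_lit 0x5ab49460f735935a928398a418820) (nat_lit 6299137)
 (SC.sym (nat_lit 7343617) (nat_lit 0x5ab39460f735945a928398a418820) (nat_lit 6299137)
 (SC.cas (nat_lit 6299137)
 (SC.sub [(nat_lit 6299137), (nat_lit 6291937), (nat_lit 6291487)]
 (SC.step (nat_lit 6299649) 1 (SC.sym (nat_lit 6332417) (nat_lit 0x5ab49ca3073dac5a928398a418820) (nat_lit 6316033)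
 (SC.sym (nat_lit 6365185) (nat_lit 0x5ab49ca2f741ac5a928398a418820) (nat_lit 6316033)
 (SC.sym (nat_lit 6430721) (nat_lit 0x5ab49ca0f745ac5a928398a418820) (nat_lit 6316033)
 (SC.sym (nat_lit 6561793) (nat_lit 0x5ab49c60f749ac5a928398a418820) (nat_lit 6316033)
 (SC.sym (nat_lit 6823937) (nat_lit 0x5ab49460f74dac5a928398a418820) (nat_lit 6316033)
 (SC.sym (nat_lit 7348225) (nat_lit 0x5ab39460f751ac5a928398a418820) (nat_lit 6316033)
 (SC.cas (nat_lit 6316033)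
 (SC.step (nat_lit 6316033) 2 (SC.sym (nat_lit 6479873) (nat_lit 0x5ab49ca117b9ac5a928398a418820) (nat_lit 6414337)
 (SC.sym (nat_lit 6610945) (nat_lit 0x5ab49c6127b9ac5a928398a418820) (nat_lit 6414337)
 (SC.sym (nat_lit 6873089) (nat_lit 0x5ab4946137b9ac5a928398a418820) (nat_lit 6414337)
 (SC.sym (nat_lit 7397377) (nat_lit 0x5ab3946147b9ac5a928398a418820) (nat_lit 6414337)
 (SC.sym (nat_lit 6512641) (nat_lit 0x5ab49c9f1839ac5a928398a418820) (nat_lit 6414337)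
 (SC.sym (nat_lit 6643713) (nat_lit 0x5ab49c5f2839ac5a928398a418820) (nat_lit 6414337)
 (SC.sym (nat_lit 6905857) (nat_lit 0x5ab4945f3839ac5a928398a418820) (nat_lit 6414337)
 (SC.sym (nat_lit 7430145) (nat_lit 0x5ab3945f4839ac5a928398a418820) (nat_lit 6414337)
 (SC.sym (nat_lit 6709249) (nat_lit 0x5ab49c1f28b9ac5a928398a418820) (nat_lit 6414337)
 (SC.sym (nat_lit 6971393) (nat_lit 0x5ab4941f38b9ac5a928398a418820) (nat_lit 6414337)
 (SC.sym (nat_lit 7495681) (nat_lit 0x5ab3941f48b9ac5a928398a418820) (nat_lit 6414337)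
 (SC.sym (nat_lit 7102465) (nat_lit 0x5ab48c1f3939ac5a928398a418820) (nat_lit 6414337)
 (SC.sym (nat_lit 7626753) (nat_lit 0x5ab38c1f4939ac5a928398a418820) (nat_lit 6414337)
 (SC.sym (nat_lit 7888897) (nat_lit 0x5ab28c1f49b9ac5a928398a418820) (nat_lit 6414337)
 (SC.cas (nat_lit 6414337)
 (SC.sub [(nat_lit 6414337), (nat_lit 6299137), (nat_lit 6291937), (nat_lit 6291487)]
 (SC.step (nat_lit 6422529) 3 (SC.cas (nat_lit 8257537)
 (SC.step (nat_lit 6291490) 1 (SC.sym (nat_lit 6292514) (nat_lit 0x5ab49ca307b9ac5a548398a418820) (nat_lit 6292002)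
 (SC.sym (nat_lit 6293538) (nat_lit 0x5ab49ca307b9ac52568398a418820) (nat_lit 6292002)
 (SC.sym (nat_lit 6295586) (nat_lit 0x5ab49ca307b9ab52588398a418820) (nat_lit 6292002)
 (SC.sym (nat_lit 6299682) (nat_lit 0x5ab49ca2c5a9307b9a8398a418820) (nat_lit 6292002)
 (SC.sym (nat_lit 6307874) (nat_lit 0x5ab49ca2c5a9307b5c8398a418820) (nat_lit 6292002)
 (SC.sym (nat_lit 6324258) (nat_lit 0x5ab49ca2c5a930735e8398a418820) (nat_lit 6292002)
 (SC.sym (nat_lit 6357026) (nat_lit 0x5ab49ca2c5a92f73608398a418820) (nat_lit 6292002)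
 (SC.sym (nat_lit 6422562) (nat_lit 0x5ab07b9ac5a9349ca28398a418820) (nat_lit 6292002)
 (SC.sym (nat_lit 6553634) (nat_lit 0x5ab07b9ac5a9349c648398a418820) (nat_lit 6292002)
 (SC.sym (nat_lit 6815778) (nat_lit 0x5ab07b9ac5a93494668398a418820) (nat_lit 6292002)
 (SC.sym (nat_lit 7340066) (nat_lit 0x5ab07b9ac5a93394688398a418820) (nat_lit 6292002)
 (SC.cas (nat_lit 6292002)
 (SC.step (nat_lit 6292002) 2 (SC.sym (nat_lit 6562338) (nat_lit 0x5ab49c6507b9ac5a928398a418820) (nat_lit 6431266)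
 (SC.sym (nat_lit 6824482) (nat_lit 0x5ab4946707b9ac5a928398a418820) (nat_lit 6431266)
 (SC.sym (nat_lit 7348770) (nat_lit 0x5ab3946907b9ac5a928398a418820) (nat_lit 6431266)
 (SC.sym (nat_lit 6439458) (nat_lit 0x5ab49ca307b5cc5a928398a418820) (nat_lit 6431266)
 (SC.sym (nat_lit 6570530) (nat_lit 0x5ab49c6507b5cc5a928398a418820) (nat_lit 6431266)
 (SC.sym (nat_lit 6832674) (nat_lit 0x5ab4946707b5cc5a928398a418820) (nat_lit 6431266)
 (SC.sym (nat_lit 7356962) (nat_lit 0x5ab3946907b5cc5a928398a418820) (nat_lit 6431266)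
 (SC.sym (nat_lit 6455842) (nat_lit 0x5ab49ca30735ec5a928398a418820) (nat_lit 6431266)
 (SC.sym (nat_lit 6586914) (nat_lit 0x5ab49c650735ec5a928398a418820) (nat_lit 6431266)
 (SC.sym (nat_lit 6849058) (nat_lit 0x5ab494670735ec5a928398a418820) (nat_lit 6431266)
 (SC.sym (nat_lit 7373346) (nat_lit 0x5ab394690735ec5a928398a418820) (nat_lit 6431266)
 (SC.sym (nat_lit 6488610) (nat_lit 0x5ab49ca2f7360c5a928398a418820) (nat_lit 6431266)
 (SC.sym (nat_lit 6619682) (nat_lit 0x5ab49c64f7360c5a928398a418820) (nat_lit 6431266)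
 (SC.sym (nat_lit 6881826) (nat_lit 0x5ab49466f7360c5a928398a418820) (nat_lit 6431266)
 (SC.sym (nat_lit 7406114) (nat_lit 0x5ab39468f7360c5a928398a418820) (nat_lit 6431266)
 (SC.cas (nat_lit 6431266)
 (SC.sub [(nat_lit 6431266), (nat_lit 8257537), (nat_lit 6414337), (nat_lit 6299137), (nat_lit 6291937), (nat_lit 6291487)]
 (SC.step (nat_lit 6291492) 3 (SC.sym (nat_lit 6833188) (nat_lit 0x5ab494e307b9ac5a928398a418820) (nat_lit 6571044)
 (SC.sym (nat_lit 7357476) (nat_lit 0x5ab3952307b9ac5a928398a418820) (nat_lit 6571044)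
 (SC.sym (nat_lit 6587428) (nat_lit 0x5ab49ca3073dac5a928398a418820) (nat_lit 6571044)
 (SC.sym (nat_lit 6849572) (nat_lit 0x5ab494e3073dac5a928398a418820) (nat_lit 6571044)
 (SC.sym (nat_lit 7373860) (nat_lit 0x5ab39523073dac5a928398a418820) (nat_lit 6571044)
 (SC.sym (nat_lit 6620196) (nat_lit 0x5ab49ca2f741ac5a928398a418820) (nat_lit 6571044)
 (SC.sym (nat_lit 6882340) (nat_lit 0x5ab494e2f741ac5a928398a418820) (nat_lit 6571044)
 (SC.sym (nat_lit 7406628) (nat_lit 0x5ab39522f741ac5a928398a418820) (nat_lit 6571044)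
 (SC.sym (nat_lit 6572068) (nat_lit 0x5ab49ca307b9ac52d28398a418820) (nat_lit 6571044)
 (SC.sym (nat_lit 6834212) (nat_lit 0x5ab494e307b9ac52d28398a418820) (nat_lit 6571044)
 (SC.sym (nat_lit 7358500) (nat_lit 0x5ab3952307b9ac52d28398a418820) (nat_lit 6571044)
 (SC.sym (nat_lit 6588452) (nat_lit 0x5ab49ca3073dac52d28398a418820) (nat_lit 6571044)
 (SC.sym (nat_lit 6850596) (nat_lit 0x5ab494e3073dac52d28398a418820) (nat_lit 6571044)
 (SC.sym (nat_lit 7374884) (nat_lit 0x5ab39523073dac52d28398a418820) (nat_lit 6571044)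
 (SC.sym (nat_lit 6621220) (nat_lit 0x5ab49ca2f741ac52d28398a418820) (nat_lit 6571044)
 (SC.sym (nat_lit 6883364) (nat_lit 0x5ab494e2f741ac52d28398a418820) (nat_lit 6571044)
 (SC.sym (nat_lit 7407652) (nat_lit 0x5ab39522f741ac52d28398a418820) (nat_lit 6571044)
 (SC.sym (nat_lit 6574116) (nat_lit 0x5ab49ca307b9ab53128398a418820) (nat_lit 6571044)
 (SC.sym (nat_lit 6836260) (nat_lit 0x5ab494e307b9ab53128398a418820) (nat_lit 6571044)
 (SC.sym (nat_lit 7360548) (nat_lit 0x5ab3952307b9ab53128398a418820) (nat_lit 6571044)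
 (SC.sym (nat_lit 6590500) (nat_lit 0x5ab49ca3073dab53128398a418820) (nat_lit 6571044)
 (SC.sym (nat_lit 6852644) (nat_lit 0x5ab494e3073dab53128398a418820) (nat_lit 6571044)
 (SC.sym (nat_lit 7376932) (nat_lit 0x5ab39523073dab53128398a418820) (nat_lit 6571044)
 (SC.sym (nat_lit 6623268) (nat_lit 0x5ab49ca2f741ab53128398a418820) (nat_lit 6571044)
 (SC.sym (nat_lit 6885412) (nat_lit 0x5ab494e2f741ab53128398a418820) (nat_lit 6571044)
 (SC.sym (nat_lit 7409700) (nat_lit 0x5ab39522f741ab53128398a418820) (nat_lit 6571044)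
 (SC.cas (nat_lit 6571044)
 (SC.step (nat_lit 6291496) 3 (SC.sym (nat_lit 7374888) (nat_lit 0x5ab3a4a307b9ac5a928398a418820) (nat_lit 6850600)
 (SC.sym (nat_lit 6883368) (nat_lit 0x5ab49ca2f839ac5a928398a418820) (nat_lit 6850600)
 (SC.sym (nat_lit 7407656) (nat_lit 0x5ab3a4a2f839ac5a928398a418820) (nat_lit 6850600)
 (SC.sym (nat_lit 6852648) (nat_lit 0x5ab49ca307b9ab62928398a418820) (nat_lit 6850600)
 (SC.sym (nat_lit 7376936) (nat_lit 0x5ab3a4a307b9ab62928398a418820) (nat_lit 6850600)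
 (SC.sym (nat_lit 6885416) (nat_lit 0x5ab49ca2f839ab62928398a418820) (nat_lit 6850600)
 (SC.sym (nat_lit 7409704) (nat_lit 0x5ab3a4a2f839ab62928398a418820) (nat_lit 6850600)
 (SC.cas (nat_lit 6850600)
 (SC.step (nat_lit 6291504) 3 (SC.cas (nat_lit 7409712)
 (SC.step (nat_lit 6291972) 3 (SC.sym (nat_lit 6881860) (nat_lit 0x5ab07b9b49ca2c5a928398a418820) (nat_lit 7373380)
 (SC.sym (nat_lit 7373444) (nat_lit 0x5ab49ca307b9ac5a92831ca418820) (nat_lit 7373380)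
 (SC.sym (nat_lit 6881924) (nat_lit 0x5ab07b9b49ca2c5a92831ca418820) (nat_lit 7373380)
 (SC.sym (nat_lit 7373572) (nat_lit 0x5ab49ca307b9ac5a927320a418820) (nat_lit 7373380)
 (SC.sym (nat_lit 6882052) (nat_lit 0x5ab07b9b49ca2c5a927320a418820) (nat_lit 7373380)
 (SC.cas (nat_lit 7373380)
 (SC.step (nat_lit 6291976) 3 (SC.sym (nat_lit 6619912) (nat_lit 0x5ab49ca307b9ac5a927418a418820) (nat_lit 6619784)
 (SC.cas (nat_lit 6619784)
 (SC.step (nat_lit 6291984) 3 (SC.cas (nat_lit 6832912)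
 (SC.step (nat_lit 6307848) 3 (SC.cas (nat_lit 6443080)
 (SC.step (nat_lit 6291720) 3 (SC.cas (nat_lit 7349512)
 (SC.step (nat_lit 6307842) 3 (SC.cas (nat_lit 7358594)
 (SC.step (nat_lit 6291522) 3 (SC.cas (nat_lit 6882370)
 (SC.step (nat_lit 6291536) 3 (SC.cas (nat_lit 6563920)
 (SC.step (nat_lit 6291714) 3 (SC.cas (nat_lit 6590722)
 (SC.step (nat_lit 6292496) 3 (SC.cas (nat_lit 6456464)
 (SC.step (nat_lit 6356996) 3 (SC.cas (nat_lit 6490372)
 (SC.step (nat_lit 6815748) 3 (SC.cas (nat_lit 6828164)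
 (SC.rel (nat_lit 0x5aa75b533219c34522f8494c11420) wK1 SC.fin) SC.nil)) SC.nil)) SC.nil)) SC.nil)) SC.nil)) SC.nil)) SC.nil)) SC.nil)) SC.nil)) SC.nil)) SC.nil))) SC.nil))))))) SC.nil)) SC.nil))))))))) SC.nil))))))))))))))))))))))))))))) SC.nil))))))))))))))))) SC.nil))))))))))))) SC.nil))) SC.nil)))))))))))))))) SC.nil))))))))) SC.nil))))))))))) SC.nil))))))))))) SC.nil))))))))))))) SC.nil))))))))))))))) SC.nil))))))))))))))) SC.nil))))))))))))))))) SC.nil))))))))))))))))))) SC.nil))))))))))))))))))) SC.nil))))))))))))))))))))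
theorem wk2 : wc2.chk 23 4 7 true [wK1] true [] = true := by decide +kernel
theorem wg3 (C : H7.Coding X) (hn : C.n = 23) : Good C 4 7 (UQ 23 wL) [] :=
  chk_good hn (by norm_num) UQ.inv (List.forall_mem_singleton.2 (wg2 C hn)) wk2
theorem wuq (hX : Fintype.card X = 23) {B : Set (Finset X)} (hB : IsSteinerSystem 4 7 B) : UQ 23 wL B :=
  UQ.of_good wg3 hX hB
noncomputable def oL : List ℕ := [ (nat_lit 5279), (nat_lit 10558), (nat_lit 15777), (nat_lit 18147), (nat_lit 21116), (nat_lit 31554), (nat_lit 36294), (nat_lit 39257), (nat_lit 42232), (nat_lit 45159), (nat_lit 52005),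
 (nat_lit 57883), (nat_lit 63108), (nat_lit 69395), (nat_lit 72588), (nat_lit 75309), (nat_lit 78514), (nat_lit 84464), (nat_lit 90318), (nat_lit 95313), (nat_lit 99029), (nat_lit 104010), (nat_lit 115766),
 (nat_lit 118953), (nat_lit 126216), (nat_lit 133817), (nat_lit 138790), (nat_lit 140167), (nat_lit 145176), (nat_lit 150618), (nat_lit 153797), (nat_lit 157028), (nat_lit 168928), (nat_lit 175681), (nat_lit 180636),
 (nat_lit 185603), (nat_lit 190626), (nat_lit 198058), (nat_lit 201013), (nat_lit 208020), (nat_lit 210955), (nat_lit 213833), (nat_lit 231532), (nat_lit 237906), (nat_lit 252432), (nat_lit 262637), (nat_lit 267634),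
 (nat_lit 272595), (nat_lit 277580), (nat_lit 280334), (nat_lit 283537), (nat_lit 290352), (nat_lit 298027), (nat_lit 301236), (nat_lit 304405), (nat_lit 307594), (nat_lit 314056), (nat_lit 334433), (nat_lit 337856),
 (nat_lit 346141), (nat_lit 351362), (nat_lit 352547), (nat_lit 361272), (nat_lit 371206), (nat_lit 381252), (nat_lit 396116), (nat_lit 402026), (nat_lit 416040), (nat_lit 418953), (nat_lit 421910), (nat_lit 427666),
 (nat_lit 430605), (nat_lit 442481), (nat_lit 459847), (nat_lit 463064), (nat_lit 475812), (nat_lit 493953), (nat_lit 504864), (nat_lit 525274), (nat_lit 530245), (nat_lit 535268), (nat_lit 542009), (nat_lit 545190),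
 (nat_lit 551943), (nat_lit 555160), (nat_lit 560668), (nat_lit 563843), (nat_lit 567074), (nat_lit 580704), (nat_lit 582081), (nat_lit 593097), (nat_lit 596054), (nat_lit 602472), (nat_lit 608810), (nat_lit 615188),
 (nat_lit 622863), (nat_lit 628112), (nat_lit 632881), (nat_lit 657763), (nat_lit 663645), (nat_lit 668866), (nat_lit 675712), (nat_lit 684577), (nat_lit 689317), (nat_lit 692282), (nat_lit 702724), (nat_lit 705094),
 (nat_lit 722544), (nat_lit 737427), (nat_lit 742412), (nat_lit 762504), (nat_lit 786999), (nat_lit 792232), (nat_lit 797449), (nat_lit 804052), (nat_lit 806987), (nat_lit 832080), (nat_lit 837906), (nat_lit 843820),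
 (nat_lit 855332), (nat_lit 861210), (nat_lit 864389), (nat_lit 884962), (nat_lit 902657), (nat_lit 919694), (nat_lit 924689), (nat_lit 926128), (nat_lit 951624), (nat_lit 987906), (nat_lit 1009728), (nat_lit 1050548),
 (nat_lit 1053483), (nat_lit 1060490), (nat_lit 1063445), (nat_lit 1065303), (nat_lit 1070536), (nat_lit 1075305), (nat_lit 1084018), (nat_lit 1090380), (nat_lit 1100945), (nat_lit 1103886), (nat_lit 1110320), (nat_lit 1116327),
 (nat_lit 1121336), (nat_lit 1122713), (nat_lit 1127686), (nat_lit 1134148), (nat_lit 1148257), (nat_lit 1161408), (nat_lit 1164162), (nat_lit 1182989), (nat_lit 1186194), (nat_lit 1188915), (nat_lit 1192108), (nat_lit 1204944),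
 (nat_lit 1212619), (nat_lit 1217620), (nat_lit 1230376), (nat_lit 1245726), (nat_lit 1250945), (nat_lit 1256224), (nat_lit 1265762), (nat_lit 1302533), (nat_lit 1312345), (nat_lit 1315526), (nat_lit 1327290), (nat_lit 1332261),
 (nat_lit 1337732), (nat_lit 1351424), (nat_lit 1352353), (nat_lit 1369154), (nat_lit 1378634), (nat_lit 1384564), (nat_lit 1405448), (nat_lit 1410188), (nat_lit 1413139), (nat_lit 1445088), (nat_lit 1454401), (nat_lit 1460739),
 (nat_lit 1474854), (nat_lit 1484824), (nat_lit 1525008), (nat_lit 1573998), (nat_lit 1577201), (nat_lit 1584464), (nat_lit 1589901), (nat_lit 1594898), (nat_lit 1608104), (nat_lit 1613974), (nat_lit 1618953), (nat_lit 1647171),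
 (nat_lit 1661185), (nat_lit 1664160), (nat_lit 1675812), (nat_lit 1687640), (nat_lit 1710664), (nat_lit 1722420), (nat_lit 1728778), (nat_lit 1737489), (nat_lit 1769924), (nat_lit 1805314), (nat_lit 1836419), (nat_lit 1839388),
 (nat_lit 1849378), (nat_lit 1852256), (nat_lit 1869893), (nat_lit 1903248), (nat_lit 1975812), (nat_lit 2019456), (nat_lit 2031657), (nat_lit 2101096), (nat_lit 2106966), (nat_lit 2110153), (nat_lit 2115979), (nat_lit 2120980),
 (nat_lit 2121909), (nat_lit 2126890), (nat_lit 2130606), (nat_lit 2135601), (nat_lit 2141072), (nat_lit 2147405), (nat_lit 2150610), (nat_lit 2162811), (nat_lit 2168036), (nat_lit 2173253), (nat_lit 2180760), (nat_lit 2183687),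
 (nat_lit 2201890), (nat_lit 2204803), (nat_lit 2207772), (nat_lit 2220640), (nat_lit 2229713), (nat_lit 2232654), (nat_lit 2242672), (nat_lit 2245426), (nat_lit 2255372), (nat_lit 2263063), (nat_lit 2268296), (nat_lit 2269481),
 (nat_lit 2296514), (nat_lit 2313249), (nat_lit 2322816), (nat_lit 2328324), (nat_lit 2363013), (nat_lit 2365978), (nat_lit 2372388), (nat_lit 2377830), (nat_lit 2384216), (nat_lit 2392899), (nat_lit 2409888), (nat_lit 2422785),
 (nat_lit 2425238), (nat_lit 2430217), (nat_lit 2435240), (nat_lit 2460752), (nat_lit 2491452), (nat_lit 2494627), (nat_lit 2501890), (nat_lit 2512448), (nat_lit 2531524), (nat_lit 2564625), (nat_lit 2605066), (nat_lit 2624690),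
 (nat_lit 2627629), (nat_lit 2631052), (nat_lit 2634003), (nat_lit 2640465), (nat_lit 2654580), (nat_lit 2664522), (nat_lit 2675464), (nat_lit 2687905), (nat_lit 2702848), (nat_lit 2704706), (nat_lit 2738308), (nat_lit 2754059),
 (nat_lit 2757268), (nat_lit 2769128), (nat_lit 2810896), (nat_lit 2820376), (nat_lit 2826278), (nat_lit 2854977), (nat_lit 2890176), (nat_lit 2892897), (nat_lit 2908802), (nat_lit 2916505), (nat_lit 2921478), (nat_lit 2949708),
 (nat_lit 2969648), (nat_lit 3031301), (nat_lit 3050016), (nat_lit 3147996), (nat_lit 3152963), (nat_lit 3154402), (nat_lit 3168928), (nat_lit 3172097), (nat_lit 3179802), (nat_lit 3182981), (nat_lit 3189796), (nat_lit 3216208),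
 (nat_lit 3227948), (nat_lit 3237906), (nat_lit 3246601), (nat_lit 3277413), (nat_lit 3294342), (nat_lit 3297305), (nat_lit 3322370), (nat_lit 3328320), (nat_lit 3351624), (nat_lit 3375280), (nat_lit 3410225), (nat_lit 3416079),
 (nat_lit 3421328), (nat_lit 3444840), (nat_lit 3457556), (nat_lit 3474978), (nat_lit 3489985), (nat_lit 3539848), (nat_lit 3610628), (nat_lit 3672838), (nat_lit 3678776), (nat_lit 3698756), (nat_lit 3704512), (nat_lit 3719203),
 (nat_lit 3736597), (nat_lit 3739786), (nat_lit 3806496), (nat_lit 3811457), (nat_lit 3951624), (nat_lit 4038912), (nat_lit 4063314), (nat_lit 4196943), (nat_lit 4202192), (nat_lit 4203377), (nat_lit 4213932), (nat_lit 4216883),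
 (nat_lit 4220306), (nat_lit 4223245), (nat_lit 4229001), (nat_lit 4231958), (nat_lit 4241960), (nat_lit 4243818), (nat_lit 4253780), (nat_lit 4261212), (nat_lit 4264387), (nat_lit 4271202), (nat_lit 4282144), (nat_lit 4287105),
 (nat_lit 4294810), (nat_lit 4299781), (nat_lit 4301220), (nat_lit 4325622), (nat_lit 4330601), (nat_lit 4336072), (nat_lit 4343317), (nat_lit 4346506), (nat_lit 4361520), (nat_lit 4367374), (nat_lit 4370577), (nat_lit 4403780),
 (nat_lit 4409606), (nat_lit 4415544), (nat_lit 4424227), (nat_lit 4441280), (nat_lit 4459426), (nat_lit 4465308), (nat_lit 4470275), (nat_lit 4476225), (nat_lit 4485344), (nat_lit 4490852), (nat_lit 4505735), (nat_lit 4510744),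
 (nat_lit 4523185), (nat_lit 4526126), (nat_lit 4536592), (nat_lit 4538962), (nat_lit 4563017), (nat_lit 4587803), (nat_lit 4593028), (nat_lit 4597797), (nat_lit 4626498), (nat_lit 4645632), (nat_lit 4656648), (nat_lit 4721045),
 (nat_lit 4726026), (nat_lit 4726955), (nat_lit 4731956), (nat_lit 4744776), (nat_lit 4752467), (nat_lit 4755660), (nat_lit 4768432), (nat_lit 4785798), (nat_lit 4788761), (nat_lit 4800613), (nat_lit 4819776), (nat_lit 4845570),
 (nat_lit 4850476), (nat_lit 4860434), (nat_lit 4870480), (nat_lit 4900873), (nat_lit 4921504), (nat_lit 4924673), (nat_lit 4982904), (nat_lit 4989254), (nat_lit 5003780), (nat_lit 5017889), (nat_lit 5024896), (nat_lit 5063048),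
 (nat_lit 5112513), (nat_lit 5129250), (nat_lit 5210132), (nat_lit 5249380), (nat_lit 5252293), (nat_lit 5255258), (nat_lit 5262104), (nat_lit 5268006), (nat_lit 5275709), (nat_lit 5280930), (nat_lit 5286147), (nat_lit 5296705),
 (nat_lit 5309160), (nat_lit 5325835), (nat_lit 5329044), (nat_lit 5350928), (nat_lit 5375810), (nat_lit 5390753), (nat_lit 5405696), (nat_lit 5409412), (nat_lit 5441617), (nat_lit 5476616), (nat_lit 5508118), (nat_lit 5511305),
 (nat_lit 5514536), (nat_lit 5538256), (nat_lit 5571333), (nat_lit 5621792), (nat_lit 5640752), (nat_lit 5652556), (nat_lit 5709954), (nat_lit 5770785), (nat_lit 5780352), (nat_lit 5785794), (nat_lit 5817604), (nat_lit 5833010),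
 (nat_lit 5842956), (nat_lit 5899416), (nat_lit 5902343), (nat_lit 5939296), (nat_lit 6053905), (nat_lit 6062602), (nat_lit 6100032), (nat_lit 6292775), (nat_lit 6295992), (nat_lit 6302745), (nat_lit 6305926), (nat_lit 6308804),
 (nat_lit 6326497), (nat_lit 6337856), (nat_lit 6344194), (nat_lit 6359604), (nat_lit 6365962), (nat_lit 6379592), (nat_lit 6406417), (nat_lit 6429441), (nat_lit 6432416), (nat_lit 6447171), (nat_lit 6455896), (nat_lit 6475812),
 (nat_lit 6488205), (nat_lit 6493202), (nat_lit 6554826), (nat_lit 6557781), (nat_lit 6570537), (nat_lit 6588684), (nat_lit 6594610), (nat_lit 6644740), (nat_lit 6656640), (nat_lit 6703248), (nat_lit 6750560), (nat_lit 6820450),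
 (nat_lit 6832158), (nat_lit 6837377), (nat_lit 6842656), (nat_lit 6857221), (nat_lit 6889680), (nat_lit 6915112), (nat_lit 6949956), (nat_lit 6979970), (nat_lit 7079696), (nat_lit 7145475), (nat_lit 7221256), (nat_lit 7340691),
 (nat_lit 7345676), (nat_lit 7357552), (nat_lit 7397512), (nat_lit 7409024), (nat_lit 7417889), (nat_lit 7438406), (nat_lit 7473194), (nat_lit 7479572), (nat_lit 7612992), (nat_lit 7622914), (nat_lit 7767041), (nat_lit 7864649),
 (nat_lit 7903248), (nat_lit 8077824), (nat_lit 8126628), (nat_lit 8391797), (nat_lit 8394986), (nat_lit 8398155), (nat_lit 8401364), (nat_lit 8407702), (nat_lit 8412681), (nat_lit 8414120), (nat_lit 8421811), (nat_lit 8426796),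
 (nat_lit 8431757), (nat_lit 8436754), (nat_lit 8439632), (nat_lit 8455014), (nat_lit 8464984), (nat_lit 8471941), (nat_lit 8474906), (nat_lit 8484900), (nat_lit 8490656), (nat_lit 8499969), (nat_lit 8505411), (nat_lit 8521420),
 (nat_lit 8524371), (nat_lit 8536111), (nat_lit 8541360), (nat_lit 8546577), (nat_lit 8555274), (nat_lit 8561204), (nat_lit 8581192), (nat_lit 8592704), (nat_lit 8593633), (nat_lit 8611330), (nat_lit 8619033), (nat_lit 8622214),
 (nat_lit 8654232), (nat_lit 8657159), (nat_lit 8660134), (nat_lit 8663097), (nat_lit 8675909), (nat_lit 8683614), (nat_lit 8688833), (nat_lit 8694112), (nat_lit 8704546), (nat_lit 8716939), (nat_lit 8721940), (nat_lit 8733800),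
 (nat_lit 8773776), (nat_lit 8783649), (nat_lit 8796800), (nat_lit 8798658), (nat_lit 8834052), (nat_lit 8849458), (nat_lit 8855820), (nat_lit 8919856), (nat_lit 8922769), (nat_lit 8925710), (nat_lit 8931660), (nat_lit 8937586),
 (nat_lit 8946281), (nat_lit 8963210), (nat_lit 8966165), (nat_lit 8978620), (nat_lit 8983587), (nat_lit 8989058), (nat_lit 8999616), (nat_lit 9020484), (nat_lit 9045270), (nat_lit 9048457), (nat_lit 9055272), (nat_lit 9078992),
 (nat_lit 9112069), (nat_lit 9158944), (nat_lit 9178690), (nat_lit 9193633), (nat_lit 9204992), (nat_lit 9208708), (nat_lit 9240913), (nat_lit 9279496), (nat_lit 9310308), (nat_lit 9323032), (nat_lit 9347075), (nat_lit 9440193),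
 (nat_lit 9451104), (nat_lit 9456930), (nat_lit 9462812), (nat_lit 9465987), (nat_lit 9471495), (nat_lit 9474712), (nat_lit 9486564), (nat_lit 9503954), (nat_lit 9506893), (nat_lit 9519665), (nat_lit 9537812), (nat_lit 9543722),
 (nat_lit 9568632), (nat_lit 9578566), (nat_lit 9589508), (nat_lit 9607201), (nat_lit 9610624), (nat_lit 9652360), (nat_lit 9701932), (nat_lit 9708306), (nat_lit 9721936), (nat_lit 9748745), (nat_lit 9769376), (nat_lit 9776129),
 (nat_lit 9830549), (nat_lit 9835530), (nat_lit 9929280), (nat_lit 9963547), (nat_lit 9968772), (nat_lit 9969957), (nat_lit 9998658), (nat_lit 10021376), (nat_lit 10028808), (nat_lit 10093218), (nat_lit 10110017), (nat_lit 10170384),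
 (nat_lit 10232008), (nat_lit 10257456), (nat_lit 10305542), (nat_lit 10486557), (nat_lit 10491778), (nat_lit 10496547), (nat_lit 10506593), (nat_lit 10513600), (nat_lit 10525252), (nat_lit 10537016), (nat_lit 10543366), (nat_lit 10554382),
 (nat_lit 10557585), (nat_lit 10560816), (nat_lit 10584520), (nat_lit 10619300), (nat_lit 10625178), (nat_lit 10630149), (nat_lit 10650722), (nat_lit 10666625), (nat_lit 10687016), (nat_lit 10698836), (nat_lit 10748656), (nat_lit 10765331),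
 (nat_lit 10768524), (nat_lit 10790408), (nat_lit 10825794), (nat_lit 10832640), (nat_lit 10846245), (nat_lit 10881097), (nat_lit 10916112), (nat_lit 11010247), (nat_lit 11015256), (nat_lit 11028004), (nat_lit 11046145), (nat_lit 11055264),
 (nat_lit 11100169), (nat_lit 11108882), (nat_lit 11150144), (nat_lit 11163650), (nat_lit 11272490), (nat_lit 11282452), (nat_lit 11469952), (nat_lit 11535529), (nat_lit 11538486), (nat_lit 11548936), (nat_lit 11551306), (nat_lit 11575377),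
 (nat_lit 11608708), (nat_lit 11654144), (nat_lit 11669008), (nat_lit 11731203), (nat_lit 11797828), (nat_lit 11831426), (nat_lit 11952160), (nat_lit 12075408), (nat_lit 12126304), (nat_lit 12222476), (nat_lit 12325377), (nat_lit 12584506),
 (nat_lit 12587685), (nat_lit 12594948), (nat_lit 12599513), (nat_lit 12604486), (nat_lit 12624578), (nat_lit 12638592), (nat_lit 12641313), (nat_lit 12650793), (nat_lit 12656663), (nat_lit 12661896), (nat_lit 12685424), (nat_lit 12698124),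
 (nat_lit 12717187), (nat_lit 12720156), (nat_lit 12726562), (nat_lit 12733024), (nat_lit 12747077), (nat_lit 12780432), (nat_lit 12849992), (nat_lit 12861748), (nat_lit 12871690), (nat_lit 12880401), (nat_lit 12912836), (nat_lit 12944642),
 (nat_lit 12985424), (nat_lit 13009064), (nat_lit 13062145), (nat_lit 13108704), (nat_lit 13121601), (nat_lit 13124355), (nat_lit 13142054), (nat_lit 13148440), (nat_lit 13192208), (nat_lit 13262980), (nat_lit 13276672), (nat_lit 13303882),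
 (nat_lit 13370381), (nat_lit 13373586), (nat_lit 13443616), (nat_lit 13631886), (nat_lit 13636881), (nat_lit 13641904), (nat_lit 13667400), (nat_lit 13703682), (nat_lit 13721920), (nat_lit 13771273), (nat_lit 13811730), (nat_lit 13829156),
 (nat_lit 13893731), (nat_lit 13911680), (nat_lit 13938692), (nat_lit 14156372), (nat_lit 14176296), (nat_lit 14254209), (nat_lit 14551296), (nat_lit 14682450), (nat_lit 14688364), (nat_lit 14709264), (nat_lit 14714004), (nat_lit 14716939),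
 (nat_lit 14747201), (nat_lit 14762146), (nat_lit 14828808), (nat_lit 14919680), (nat_lit 14949408), (nat_lit 14950785), (nat_lit 15073798), (nat_lit 15207048), (nat_lit 15274244), (nat_lit 15335473), (nat_lit 15515712), (nat_lit 15747077),
 (nat_lit 15762208), (nat_lit 15864000), (nat_lit 16056344), (nat_lit 16262146)]
theorem of : finK 24 5 8 oL = true := by decide +kernel
theorem og0 (C : H7.Coding X) (hn : C.n = 24) : Good C 5 8 (UQ 24 oL) oL :=
  good_fin hn (by norm_num) of ⟨C, hn, rfl⟩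
noncomputable def oK0 : List ℕ := [ (nat_lit 8391797), (nat_lit 8394986), (nat_lit 8398155), (nat_lit 8401364), (nat_lit 8407702), (nat_lit 8412681), (nat_lit 8414120), (nat_lit 8421811), (nat_lit 8426796), (nat_lit 8431757), (nat_lit 8436754),
 (nat_lit 8439632), (nat_lit 8455014), (nat_lit 8464984), (nat_lit 8471941), (nat_lit 8474906), (nat_lit 8484900), (nat_lit 8490656), (nat_lit 8499969), (nat_lit 8505411), (nat_lit 8521420), (nat_lit 8524371), (nat_lit 8536111),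
 (nat_lit 8541360), (nat_lit 8546577), (nat_lit 8555274), (nat_lit 8561204), (nat_lit 8581192), (nat_lit 8592704), (nat_lit 8593633), (nat_lit 8611330), (nat_lit 8619033), (nat_lit 8622214), (nat_lit 8654232), (nat_lit 8657159),
 (nat_lit 8660134), (nat_lit 8663097), (nat_lit 8675909), (nat_lit 8683614), (nat_lit 8688833), (nat_lit 8694112), (nat_lit 8704546), (nat_lit 8716939), (nat_lit 8721940), (nat_lit 8733800), (nat_lit 8773776), (nat_lit 8783649),
 (nat_lit 8796800), (nat_lit 8798658), (nat_lit 8834052), (nat_lit 8849458), (nat_lit 8855820), (nat_lit 8919856), (nat_lit 8922769), (nat_lit 8925710), (nat_lit 8931660), (nat_lit 8937586), (nat_lit 8946281), (nat_lit 8963210),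
 (nat_lit 8966165), (nat_lit 8978620), (nat_lit 8983587), (nat_lit 8989058), (nat_lit 8999616), (nat_lit 9020484), (nat_lit 9045270), (nat_lit 9048457), (nat_lit 9055272), (nat_lit 9078992), (nat_lit 9112069), (nat_lit 9158944),
 (nat_lit 9178690), (nat_lit 9193633), (nat_lit 9204992), (nat_lit 9208708), (nat_lit 9240913), (nat_lit 9279496), (nat_lit 9310308), (nat_lit 9323032), (nat_lit 9347075), (nat_lit 9440193), (nat_lit 9451104), (nat_lit 9456930),
 (nat_lit 9462812), (nat_lit 9465987), (nat_lit 9471495), (nat_lit 9474712), (nat_lit 9486564), (nat_lit 9503954), (nat_lit 9506893), (nat_lit 9519665), (nat_lit 9537812), (nat_lit 9543722), (nat_lit 9568632), (nat_lit 9578566),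
 (nat_lit 9589508), (nat_lit 9607201), (nat_lit 9610624), (nat_lit 9652360), (nat_lit 9701932), (nat_lit 9708306), (nat_lit 9721936), (nat_lit 9748745), (nat_lit 9769376), (nat_lit 9776129), (nat_lit 9830549), (nat_lit 9835530),
 (nat_lit 9929280), (nat_lit 9963547), (nat_lit 9968772), (nat_lit 9969957), (nat_lit 9998658), (nat_lit 10021376), (nat_lit 10028808), (nat_lit 10093218), (nat_lit 10110017), (nat_lit 10170384), (nat_lit 10232008), (nat_lit 10257456),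
 (nat_lit 10305542), (nat_lit 10486557), (nat_lit 10491778), (nat_lit 10496547), (nat_lit 10506593), (nat_lit 10513600), (nat_lit 10525252), (nat_lit 10537016), (nat_lit 10543366), (nat_lit 10554382), (nat_lit 10557585), (nat_lit 10560816),
 (nat_lit 10584520), (nat_lit 10619300), (nat_lit 10625178), (nat_lit 10630149), (nat_lit 10650722), (nat_lit 10666625), (nat_lit 10687016), (nat_lit 10698836), (nat_lit 10748656), (nat_lit 10765331), (nat_lit 10768524), (nat_lit 10790408),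
 (nat_lit 10825794), (nat_lit 10832640), (nat_lit 10846245), (nat_lit 10881097), (nat_lit 10916112), (nat_lit 11010247), (nat_lit 11015256), (nat_lit 11028004), (nat_lit 11046145), (nat_lit 11055264), (nat_lit 11100169), (nat_lit 11108882),
 (nat_lit 11150144), (nat_lit 11163650), (nat_lit 11272490), (nat_lit 11282452), (nat_lit 11469952), (nat_lit 11535529), (nat_lit 11538486), (nat_lit 11548936), (nat_lit 11551306), (nat_lit 11575377), (nat_lit 11608708), (nat_lit 11654144),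
 (nat_lit 11669008), (nat_lit 11731203), (nat_lit 11797828), (nat_lit 11831426), (nat_lit 11952160), (nat_lit 12075408), (nat_lit 12126304), (nat_lit 12222476), (nat_lit 12325377), (nat_lit 12584506), (nat_lit 12587685), (nat_lit 12594948),
 (nat_lit 12599513), (nat_lit 12604486), (nat_lit 12624578), (nat_lit 12638592), (nat_lit 12641313), (nat_lit 12650793), (nat_lit 12656663), (nat_lit 12661896), (nat_lit 12685424), (nat_lit 12698124), (nat_lit 12717187), (nat_lit 12720156),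
 (nat_lit 12726562), (nat_lit 12733024), (nat_lit 12747077), (nat_lit 12780432), (nat_lit 12849992), (nat_lit 12861748), (nat_lit 12871690), (nat_lit 12880401), (nat_lit 12912836), (nat_lit 12944642), (nat_lit 12985424), (nat_lit 13009064),
 (nat_lit 13062145), (nat_lit 13108704), (nat_lit 13121601), (nat_lit 13124355), (nat_lit 13142054), (nat_lit 13148440), (nat_lit 13192208), (nat_lit 13262980), (nat_lit 13276672), (nat_lit 13303882), (nat_lit 13370381), (nat_lit 13373586),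
 (nat_lit 13443616), (nat_lit 13631886), (nat_lit 13636881), (nat_lit 13641904), (nat_lit 13667400), (nat_lit 13703682), (nat_lit 13721920), (nat_lit 13771273), (nat_lit 13811730), (nat_lit 13829156), (nat_lit 13893731), (nat_lit 13911680),
 (nat_lit 13938692), (nat_lit 14156372), (nat_lit 14176296), (nat_lit 14254209), (nat_lit 14551296), (nat_lit 14682450), (nat_lit 14688364), (nat_lit 14709264), (nat_lit 14714004), (nat_lit 14716939), (nat_lit 14747201), (nat_lit 14762146),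
 (nat_lit 14828808), (nat_lit 14919680), (nat_lit 14949408), (nat_lit 14950785), (nat_lit 15073798), (nat_lit 15207048), (nat_lit 15274244), (nat_lit 15335473), (nat_lit 15515712), (nat_lit 15747077), (nat_lit 15762208), (nat_lit 15864000),
 (nat_lit 16056344), (nat_lit 16262146)]
noncomputable def oc0 : SC := (SC.step (nat_lit 31) 3 (SC.cas (nat_lit 5279)
 (SC.step (nat_lit 55) 3 (SC.cas (nat_lit 786999)
 (SC.step (nat_lit 59) 3 (SC.cas (nat_lit 2162811)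
 (SC.step (nat_lit 61) 3 (SC.cas (nat_lit 5275709)
 (SC.step (nat_lit 62) 3 (SC.cas (nat_lit 10558)
 (SC.step (nat_lit 79) 3 (SC.cas (nat_lit 4196943)
 (SC.step (nat_lit 87) 3 (SC.cas (nat_lit 1065303)
 (SC.step (nat_lit 93) 3 (SC.cas (nat_lit 663645)
 (SC.step (nat_lit 103) 3 (SC.cas (nat_lit 45159)
 (SC.step (nat_lit 109) 3 (SC.cas (nat_lit 262637)
 (SC.step (nat_lit 110) 3 (SC.cas (nat_lit 1573998)
 (SC.step (nat_lit 118) 3 (SC.cas (nat_lit 4325622)
 (SC.step (nat_lit 124) 3 (SC.cas (nat_lit 21116)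
 (SC.step (nat_lit 167) 3 (SC.cas (nat_lit 1116327)
 (SC.step (nat_lit 171) 3 (SC.cas (nat_lit 4726955)
 (SC.step (nat_lit 174) 3 (SC.cas (nat_lit 2130606)
 (SC.step (nat_lit 181) 3 (SC.cas (nat_lit 2121909)
 (SC.step (nat_lit 185) 3 (SC.cas (nat_lit 133817)
 (SC.step (nat_lit 186) 3 (SC.cas (nat_lit 1327290)
 (SC.step (nat_lit 203) 3 (SC.cas (nat_lit 1212619)
 (SC.step (nat_lit 206) 3 (SC.cas (nat_lit 90318)
 (SC.step (nat_lit 211) 3 (SC.cas (nat_lit 272595)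
 (SC.step (nat_lit 213) 3 (SC.cas (nat_lit 99029)
 (SC.step (nat_lit 218) 3 (SC.cas (nat_lit 525274)
 (SC.step (nat_lit 220) 3 (SC.cas (nat_lit 3147996)
 (SC.step (nat_lit 227) 3 (SC.cas (nat_lit 18147)
 (SC.step (nat_lit 241) 3 (SC.cas (nat_lit 1577201)
 (SC.step (nat_lit 248) 3 (SC.cas (nat_lit 42232)
 (SC.step (nat_lit 271) 3 (SC.cas (nat_lit 622863)
 (SC.step (nat_lit 283) 3 (SC.cas (nat_lit 4587803)
 (SC.step (nat_lit 295) 3 (SC.cas (nat_lit 6292775)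
 (SC.step (nat_lit 299) 3 (SC.cas (nat_lit 1053483)
 (SC.step (nat_lit 309) 3 (SC.cas (nat_lit 201013)
 (SC.step (nat_lit 313) 3 (SC.cas (nat_lit 542009)
 (SC.step (nat_lit 334) 3 (SC.cas (nat_lit 2232654)
 (SC.step (nat_lit 345) 3 (SC.cas (nat_lit 39257)
 (SC.step (nat_lit 348) 3 (SC.cas (nat_lit 4261212)
 (SC.step (nat_lit 355) 3 (SC.cas (nat_lit 657763)
 (SC.step (nat_lit 362) 3 (SC.cas (nat_lit 4243818)
 (SC.step (nat_lit 369) 3 (SC.cas (nat_lit 4203377)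
 (SC.step (nat_lit 370) 3 (SC.cas (nat_lit 267634)
 (SC.step (nat_lit 372) 3 (SC.cas (nat_lit 2654580)
 (SC.step (nat_lit 391) 3 (SC.cas (nat_lit 140167)
 (SC.step (nat_lit 395) 3 (SC.cas (nat_lit 2115979)
 (SC.step (nat_lit 405) 3 (SC.cas (nat_lit 4721045)
 (SC.step (nat_lit 406) 3 (SC.cas (nat_lit 2425238)
 (SC.step (nat_lit 409) 3 (SC.cas (nat_lit 1122713)
 (SC.step (nat_lit 412) 3 (SC.cas (nat_lit 180636)
 (SC.step (nat_lit 422) 3 (SC.cas (nat_lit 545190)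
 (SC.step (nat_lit 426) 3 (SC.cas (nat_lit 198058)
 (SC.step (nat_lit 436) 3 (SC.cas (nat_lit 1050548)
 (SC.step (nat_lit 440) 3 (SC.cas (nat_lit 6295992)
 (SC.step (nat_lit 451) 3 (SC.cas (nat_lit 4264387)
 (SC.step (nat_lit 454) 3 (SC.cas (nat_lit 36294)
 (SC.step (nat_lit 465) 3 (SC.cas (nat_lit 2229713)
 (SC.step (nat_lit 482) 3 (SC.cas (nat_lit 3154402)
 (SC.step (nat_lit 496) 3 (SC.cas (nat_lit 84464)
 (SC.step (nat_lit 539) 3 (SC.cas (nat_lit 57883)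
 (SC.step (nat_lit 542) 3 (SC.cas (nat_lit 1245726)
 (SC.step (nat_lit 557) 3 (SC.cas (nat_lit 75309)
 (SC.step (nat_lit 598) 3 (SC.cas (nat_lit 2106966)
 (SC.step (nat_lit 601) 3 (SC.cas (nat_lit 1312345)
 (SC.step (nat_lit 613) 3 (SC.cas (nat_lit 3277413)
 (SC.step (nat_lit 618) 3 (SC.cas (nat_lit 402026)
 (SC.step (nat_lit 626) 3 (SC.cas (nat_lit 1084018)
 (SC.step (nat_lit 653) 3 (SC.cas (nat_lit 1589901)
 (SC.step (nat_lit 659) 3 (SC.cas (nat_lit 7340691)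
 (SC.step (nat_lit 668) 3 (SC.cas (nat_lit 4465308)
 (SC.step (nat_lit 690) 3 (SC.cas (nat_lit 78514)
 (SC.step (nat_lit 710) 3 (SC.cas (nat_lit 1315526)
 (SC.step (nat_lit 713) 3 (SC.cas (nat_lit 2110153)
 (SC.step (nat_lit 740) 3 (SC.cas (nat_lit 535268)
 (SC.step (nat_lit 744) 3 (SC.cas (nat_lit 5309160)
 (SC.step (nat_lit 782) 3 (SC.cas (nat_lit 280334)
 (SC.step (nat_lit 787) 3 (SC.cas (nat_lit 69395)
 (SC.step (nat_lit 790) 3 (SC.cas (nat_lit 4231958)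
 (SC.step (nat_lit 805) 3 (SC.cas (nat_lit 52005)
 (SC.step (nat_lit 812) 3 (SC.cas (nat_lit 4850476)
 (SC.step (nat_lit 818) 3 (SC.cas (nat_lit 2245426)
 (SC.step (nat_lit 824) 3 (SC.cas (nat_lit 361272)
 (SC.step (nat_lit 835) 3 (SC.cas (nat_lit 2392899)
 (SC.step (nat_lit 837) 3 (SC.cas (nat_lit 530245)
 (SC.step (nat_lit 841) 3 (SC.cas (nat_lit 213833)
 (SC.step (nat_lit 844) 3 (SC.cas (nat_lit 1090380)
 (SC.step (nat_lit 852) 3 (SC.cas (nat_lit 396116)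
 (SC.step (nat_lit 872) 3 (SC.cas (nat_lit 2101096)
 (SC.step (nat_lit 905) 3 (SC.cas (nat_lit 4229001)
 (SC.step (nat_lit 908) 3 (SC.cas (nat_lit 72588)
 (SC.step (nat_lit 913) 3 (SC.cas (nat_lit 283537)
 (SC.step (nat_lit 929) 3 (SC.cas (nat_lit 2687905)
 (SC.step (nat_lit 930) 3 (SC.cas (nat_lit 4459426)
 (SC.step (nat_lit 964) 3 (SC.cas (nat_lit 6308804)
 (SC.step (nat_lit 992) 3 (SC.cas (nat_lit 168928)
 (SC.step (nat_lit 1067) 3 (SC.cas (nat_lit 298027)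
 (SC.step (nat_lit 1075) 3 (SC.cas (nat_lit 1188915)
 (SC.step (nat_lit 1078) 3 (SC.cas (nat_lit 115766)
 (SC.step (nat_lit 1084) 3 (SC.cas (nat_lit 2491452)
 (SC.step (nat_lit 1095) 3 (SC.cas (nat_lit 459847)
 (SC.step (nat_lit 1101) 3 (SC.cas (nat_lit 2147405)
 (SC.step (nat_lit 1107) 3 (SC.cas (nat_lit 4752467)
 (SC.step (nat_lit 1114) 3 (SC.cas (nat_lit 150618)
 (SC.step (nat_lit 1129) 3 (SC.cas (nat_lit 4330601)
 (SC.step (nat_lit 1189) 3 (SC.cas (nat_lit 689317)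
 (SC.step (nat_lit 1196) 3 (SC.cas (nat_lit 4213932)
 (SC.step (nat_lit 1201) 3 (SC.cas (nat_lit 4523185)
 (SC.step (nat_lit 1202) 3 (SC.cas (nat_lit 2624690)
 (SC.step (nat_lit 1221) 3 (SC.cas (nat_lit 5252293)
 (SC.step (nat_lit 1225) 3 (SC.cas (nat_lit 593097)
 (SC.step (nat_lit 1226) 3 (SC.cas (nat_lit 6554826)
 (SC.step (nat_lit 1236) 3 (SC.cas (nat_lit 804052)
 (SC.step (nat_lit 1252) 3 (SC.cas (nat_lit 2168036)
 (SC.step (nat_lit 1293) 3 (SC.cas (nat_lit 1182989)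
 (SC.step (nat_lit 1301) 3 (SC.cas (nat_lit 304405)
 (SC.step (nat_lit 1306) 3 (SC.cas (nat_lit 3179802)
 (SC.step (nat_lit 1377) 3 (SC.cas (nat_lit 1148257)
 (SC.step (nat_lit 1380) 3 (SC.cas (nat_lit 157028)
 (SC.step (nat_lit 1411) 3 (SC.cas (nat_lit 1836419)
 (SC.step (nat_lit 1420) 3 (SC.cas (nat_lit 2631052)
 (SC.step (nat_lit 1426) 3 (SC.cas (nat_lit 4220306)
 (SC.step (nat_lit 1441) 3 (SC.cas (nat_lit 15777)
 (SC.step (nat_lit 1480) 3 (SC.cas (nat_lit 1070536)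
 (SC.step (nat_lit 1547) 3 (SC.cas (nat_lit 2754059)
 (SC.step (nat_lit 1557) 3 (SC.cas (nat_lit 4343317)
 (SC.step (nat_lit 1564) 3 (SC.cas (nat_lit 560668)
 (SC.step (nat_lit 1574) 3 (SC.cas (nat_lit 138790)
 (SC.step (nat_lit 1585) 3 (SC.cas (nat_lit 2135601)
 (SC.step (nat_lit 1610) 3 (SC.cas (nat_lit 104010)
 (SC.step (nat_lit 1636) 3 (SC.cas (nat_lit 4490852)
 (SC.step (nat_lit 1648) 3 (SC.cas (nat_lit 722544)
 (SC.step (nat_lit 1669) 3 (SC.cas (nat_lit 2363013)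
 (SC.step (nat_lit 1670) 3 (SC.cas (nat_lit 4785798)
 (SC.step (nat_lit 1674) 3 (SC.cas (nat_lit 1060490)
 (SC.step (nat_lit 1682) 3 (SC.cas (nat_lit 427666)
 (SC.step (nat_lit 1688) 3 (SC.cas (nat_lit 2180760)
 (SC.step (nat_lit 1704) 3 (SC.cas (nat_lit 792232)
 (SC.step (nat_lit 1744) 3 (SC.cas (nat_lit 4202192)
 (SC.step (nat_lit 1816) 3 (SC.cas (nat_lit 145176)
 (SC.step (nat_lit 1826) 3 (SC.cas (nat_lit 567074)
 (SC.step (nat_lit 1858) 3 (SC.cas (nat_lit 5375810)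
 (SC.step (nat_lit 1984) 3 (SC.cas (nat_lit 337856)
 (SC.step (nat_lit 2071) 3 (SC.cas (nat_lit 2263063)
 (SC.step (nat_lit 2077) 3 (SC.cas (nat_lit 346141)
 (SC.step (nat_lit 2093) 3 (SC.cas (nat_lit 2627629)
 (SC.step (nat_lit 2099) 3 (SC.cas (nat_lit 4216883)
 (SC.step (nat_lit 2134) 3 (SC.cas (nat_lit 596054)
 (SC.step (nat_lit 2150) 3 (SC.cas (nat_lit 2377830)
 (SC.step (nat_lit 2153) 3 (SC.cas (nat_lit 1075305)
 (SC.step (nat_lit 2156) 3 (SC.cas (nat_lit 231532)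
 (SC.step (nat_lit 2168) 3 (SC.cas (nat_lit 4982904)
 (SC.step (nat_lit 2190) 3 (SC.cas (nat_lit 919694)
 (SC.step (nat_lit 2202) 3 (SC.cas (nat_lit 4294810)
 (SC.step (nat_lit 2228) 3 (SC.cas (nat_lit 301236)
 (SC.step (nat_lit 2245) 3 (SC.cas (nat_lit 153797)
 (SC.step (nat_lit 2273) 3 (SC.cas (nat_lit 6326497)
 (SC.step (nat_lit 2353) 3 (SC.cas (nat_lit 3410225)
 (SC.step (nat_lit 2373) 3 (SC.cas (nat_lit 2173253)
 (SC.step (nat_lit 2378) 3 (SC.cas (nat_lit 1378634)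
 (SC.step (nat_lit 2404) 3 (SC.cas (nat_lit 5249380)
 (SC.step (nat_lit 2450) 3 (SC.cas (nat_lit 1186194)
 (SC.step (nat_lit 2472) 3 (SC.cas (nat_lit 1608104)
 (SC.step (nat_lit 2504) 3 (SC.cas (nat_lit 4336072)
 (SC.step (nat_lit 2581) 3 (SC.cas (nat_lit 1063445)
 (SC.step (nat_lit 2586) 3 (SC.cas (nat_lit 2365978)
 (SC.step (nat_lit 2602) 3 (SC.cas (nat_lit 608810)
 (SC.step (nat_lit 2612) 3 (SC.cas (nat_lit 6359604)
 (SC.step (nat_lit 2641) 3 (SC.cas (nat_lit 2640465)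
 (SC.step (nat_lit 2657) 3 (SC.cas (nat_lit 334433)
 (SC.step (nat_lit 2691) 3 (SC.cas (nat_lit 563843)
 (SC.step (nat_lit 2754) 3 (SC.cas (nat_lit 2296514)
 (SC.step (nat_lit 2760) 3 (SC.cas (nat_lit 314056)
 (SC.step (nat_lit 2822) 3 (SC.cas (nat_lit 3672838)
 (SC.step (nat_lit 2825) 3 (SC.cas (nat_lit 797449)
 (SC.step (nat_lit 2840) 3 (SC.cas (nat_lit 5262104)
 (SC.step (nat_lit 2882) 3 (SC.cas (nat_lit 31554)
 (SC.step (nat_lit 2960) 3 (SC.cas (nat_lit 2141072)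
 (SC.step (nat_lit 3079) 3 (SC.cas (nat_lit 551943)
 (SC.step (nat_lit 3094) 3 (SC.cas (nat_lit 5508118)
 (SC.step (nat_lit 3097) 3 (SC.cas (nat_lit 6302745)
 (SC.step (nat_lit 3128) 3 (SC.cas (nat_lit 1121336)
 (SC.step (nat_lit 3139) 3 (SC.cas (nat_lit 3152963)
 (SC.step (nat_lit 3148) 3 (SC.cas (nat_lit 277580)
 (SC.step (nat_lit 3170) 3 (SC.cas (nat_lit 4271202)
 (SC.step (nat_lit 3217) 3 (SC.cas (nat_lit 1100945)
 (SC.step (nat_lit 3220) 3 (SC.cas (nat_lit 208020)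
 (SC.step (nat_lit 3296) 3 (SC.cas (nat_lit 1445088)
 (SC.step (nat_lit 3338) 3 (SC.cas (nat_lit 4726026)
 (SC.step (nat_lit 3348) 3 (SC.cas (nat_lit 2120980)
 (SC.step (nat_lit 3364) 3 (SC.cas (nat_lit 855332)
 (SC.step (nat_lit 3376) 3 (SC.cas (nat_lit 4361520)
 (SC.step (nat_lit 3393) 3 (SC.cas (nat_lit 4476225)
 (SC.step (nat_lit 3408) 3 (SC.cas (nat_lit 1584464)
 (SC.step (nat_lit 3617) 3 (SC.cas (nat_lit 5770785)
 (SC.step (nat_lit 3632) 3 (SC.cas (nat_lit 290352)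
 (SC.step (nat_lit 3649) 3 (SC.cas (nat_lit 175681)
 (SC.step (nat_lit 3652) 3 (SC.cas (nat_lit 1134148)
 (SC.step (nat_lit 3968) 3 (SC.cas (nat_lit 675712)
 (SC.step (nat_lit 4142) 3 (SC.cas (nat_lit 4526126)
 (SC.step (nat_lit 4154) 3 (SC.cas (nat_lit 692282)
 (SC.step (nat_lit 4171) 3 (SC.cas (nat_lit 806987)
 (SC.step (nat_lit 4181) 3 (SC.cas (nat_lit 6557781)
 (SC.step (nat_lit 4186) 3 (SC.cas (nat_lit 5255258)
 (SC.step (nat_lit 4259) 3 (SC.cas (nat_lit 2494627)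
 (SC.step (nat_lit 4265) 3 (SC.cas (nat_lit 118953)
 (SC.step (nat_lit 4268) 3 (SC.cas (nat_lit 1192108)
 (SC.step (nat_lit 4300) 3 (SC.cas (nat_lit 4755660)
 (SC.step (nat_lit 4306) 3 (SC.cas (nat_lit 2150610)
 (SC.step (nat_lit 4312) 3 (SC.cas (nat_lit 463064)
 (SC.step (nat_lit 4365) 3 (SC.cas (nat_lit 4223245)
 (SC.step (nat_lit 4371) 3 (SC.cas (nat_lit 2634003)
 (SC.step (nat_lit 4380) 3 (SC.cas (nat_lit 1839388)
 (SC.step (nat_lit 4456) 3 (SC.cas (nat_lit 602472)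
 (SC.step (nat_lit 4485) 3 (SC.cas (nat_lit 3182981)
 (SC.step (nat_lit 4490) 3 (SC.cas (nat_lit 307594)
 (SC.step (nat_lit 4615) 3 (SC.cas (nat_lit 2183687)
 (SC.step (nat_lit 4621) 3 (SC.cas (nat_lit 430605)
 (SC.step (nat_lit 4633) 3 (SC.cas (nat_lit 4788761)
 (SC.step (nat_lit 4706) 3 (SC.cas (nat_lit 6820450)
 (SC.step (nat_lit 4746) 3 (SC.cas (nat_lit 4346506)
 (SC.step (nat_lit 4756) 3 (SC.cas (nat_lit 2757268)
 (SC.step (nat_lit 4900) 3 (SC.cas (nat_lit 2372388)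
 (SC.step (nat_lit 4944) 3 (SC.cas (nat_lit 3216208)
 (SC.step (nat_lit 5157) 3 (SC.cas (nat_lit 1332261)
 (SC.step (nat_lit 5162) 3 (SC.cas (nat_lit 2126890)
 (SC.step (nat_lit 5172) 3 (SC.cas (nat_lit 4731956)
 (SC.step (nat_lit 5201) 3 (SC.cas (nat_lit 95313)
 (SC.step (nat_lit 5204) 3 (SC.cas (nat_lit 1217620)
 (SC.step (nat_lit 5282) 3 (SC.cas (nat_lit 5280930)
 (SC.step (nat_lit 5314) 3 (SC.cas (nat_lit 668866)
 (SC.step (nat_lit 5379) 3 (SC.cas (nat_lit 185603)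
 (SC.step (nat_lit 5382) 3 (SC.cas (nat_lit 1127686)
 (SC.step (nat_lit 5385) 3 (SC.cas (nat_lit 2430217)
 (SC.step (nat_lit 5508) 3 (SC.cas (nat_lit 4593028)
 (SC.step (nat_lit 5520) 3 (SC.cas (nat_lit 628112)
 (SC.step (nat_lit 5635) 3 (SC.cas (nat_lit 4470275)
 (SC.step (nat_lit 5644) 3 (SC.cas (nat_lit 7345676)
 (SC.step (nat_lit 5650) 3 (SC.cas (nat_lit 1594898)
 (SC.step (nat_lit 5761) 3 (SC.cas (nat_lit 1250945)
 (SC.step (nat_lit 5764) 3 (SC.cas (nat_lit 63108)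
 (SC.step (nat_lit 5920) 3 (SC.cas (nat_lit 4282144)
 (SC.step (nat_lit 6155) 3 (SC.cas (nat_lit 210955)
 (SC.step (nat_lit 6158) 3 (SC.cas (nat_lit 1103886)
 (SC.step (nat_lit 6256) 3 (SC.cas (nat_lit 2242672)
 (SC.step (nat_lit 6278) 3 (SC.cas (nat_lit 6305926)
 (SC.step (nat_lit 6281) 3 (SC.cas (nat_lit 5511305)
 (SC.step (nat_lit 6296) 3 (SC.cas (nat_lit 555160)
 (SC.step (nat_lit 6434) 3 (SC.cas (nat_lit 2201890)
 (SC.step (nat_lit 6440) 3 (SC.cas (nat_lit 416040)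
 (SC.step (nat_lit 6592) 3 (SC.cas (nat_lit 2890176)
 (SC.step (nat_lit 6696) 3 (SC.cas (nat_lit 4241960)
 (SC.step (nat_lit 6728) 3 (SC.cas (nat_lit 1710664)
 (SC.step (nat_lit 6816) 3 (SC.cas (nat_lit 3168928)
 (SC.step (nat_lit 6913) 3 (SC.cas (nat_lit 6429441)
 (SC.step (nat_lit 7173) 3 (SC.cas (nat_lit 4299781)
 (SC.step (nat_lit 7185) 3 (SC.cas (nat_lit 924689)
 (SC.step (nat_lit 7264) 3 (SC.cas (nat_lit 580704)
 (SC.step (nat_lit 7298) 3 (SC.cas (nat_lit 351362)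
 (SC.step (nat_lit 7304) 3 (SC.cas (nat_lit 2268296)
 (SC.step (nat_lit 7936) 3 (SC.cas (nat_lit 1351424)
 (SC.step (nat_lit 8207) 3 (SC.cas (nat_lit 3416079)
 (SC.step (nat_lit 8308) 3 (SC.cas (nat_lit 1384564)
 (SC.step (nat_lit 8342) 3 (SC.cas (nat_lit 1613974)
 (SC.step (nat_lit 8483) 3 (SC.cas (nat_lit 352547)
 (SC.step (nat_lit 8489) 3 (SC.cas (nat_lit 2269481)
 (SC.step (nat_lit 8518) 3 (SC.cas (nat_lit 4989254)
 (SC.step (nat_lit 8530) 3 (SC.cas (nat_lit 237906)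
 (SC.step (nat_lit 8536) 3 (SC.cas (nat_lit 2384216)
 (SC.step (nat_lit 8612) 3 (SC.cas (nat_lit 4301220)
 (SC.step (nat_lit 8624) 3 (SC.cas (nat_lit 926128)
 (SC.step (nat_lit 8641) 3 (SC.cas (nat_lit 582081)
 (SC.step (nat_lit 8742) 3 (SC.cas (nat_lit 5268006)
 (SC.step (nat_lit 8760) 3 (SC.cas (nat_lit 3678776)
 (SC.step (nat_lit 8771) 3 (SC.cas (nat_lit 1647171)
 (SC.step (nat_lit 8865) 3 (SC.cas (nat_lit 1352353)
 (SC.step (nat_lit 8912) 3 (SC.cas (nat_lit 1204944)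
 (SC.step (nat_lit 8970) 3 (SC.cas (nat_lit 6365962)
 (SC.step (nat_lit 8980) 3 (SC.cas (nat_lit 615188)
 (SC.step (nat_lit 9230) 3 (SC.cas (nat_lit 4367374)
 (SC.step (nat_lit 9242) 3 (SC.cas (nat_lit 861210)
 (SC.step (nat_lit 9313) 3 (SC.cas (nat_lit 2892897)
 (SC.step (nat_lit 9347) 3 (SC.cas (nat_lit 2204803)
 (SC.step (nat_lit 9353) 3 (SC.cas (nat_lit 418953)
 (SC.step (nat_lit 9512) 3 (SC.cas (nat_lit 5514536)
 (SC.step (nat_lit 9800) 3 (SC.cas (nat_lit 4744776)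
 (SC.step (nat_lit 9888) 3 (SC.cas (nat_lit 6432416)
 (SC.step (nat_lit 9985) 3 (SC.cas (nat_lit 3172097)
 (SC.step (nat_lit 10277) 3 (SC.cas (nat_lit 4597797)
 (SC.step (nat_lit 10289) 3 (SC.cas (nat_lit 632881)
 (SC.step (nat_lit 10314) 3 (SC.cas (nat_lit 2664522)
 (SC.step (nat_lit 10324) 3 (SC.cas (nat_lit 4253780)
 (SC.step (nat_lit 10402) 3 (SC.cas (nat_lit 190626)
 (SC.step (nat_lit 10408) 3 (SC.cas (nat_lit 2435240)
 (SC.step (nat_lit 10499) 3 (SC.cas (nat_lit 5286147)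
 (SC.step (nat_lit 10628) 3 (SC.cas (nat_lit 1337732)
 (SC.step (nat_lit 10758) 3 (SC.cas (nat_lit 371206)
 (SC.step (nat_lit 10764) 3 (SC.cas (nat_lit 2255372)
 (SC.step (nat_lit 10770) 3 (SC.cas (nat_lit 4860434)
 (SC.step (nat_lit 10881) 3 (SC.cas (nat_lit 4287105)
 (SC.step (nat_lit 11040) 3 (SC.cas (nat_lit 1256224)
 (SC.step (nat_lit 11300) 3 (SC.cas (nat_lit 3189796)
 (SC.step (nat_lit 11522) 3 (SC.cas (nat_lit 2501890)
 (SC.step (nat_lit 11528) 3 (SC.cas (nat_lit 126216)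
 (SC.step (nat_lit 12310) 3 (SC.cas (nat_lit 421910)
 (SC.step (nat_lit 12316) 3 (SC.cas (nat_lit 2207772)
 (SC.step (nat_lit 12421) 3 (SC.cas (nat_lit 864389)
 (SC.step (nat_lit 12433) 3 (SC.cas (nat_lit 4370577)
 (SC.step (nat_lit 12512) 3 (SC.cas (nat_lit 4485344)
 (SC.step (nat_lit 12592) 3 (SC.cas (nat_lit 1110320)
 (SC.step (nat_lit 12609) 3 (SC.cas (nat_lit 1454401)
 (SC.step (nat_lit 12833) 3 (SC.cas (nat_lit 684577)
 (SC.step (nat_lit 12868) 3 (SC.cas (nat_lit 4403780)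
 (SC.step (nat_lit 12880) 3 (SC.cas (nat_lit 832080)
 (SC.step (nat_lit 13184) 3 (SC.cas (nat_lit 5780352)
 (SC.step (nat_lit 13321) 3 (SC.cas (nat_lit 1618953)
 (SC.step (nat_lit 13456) 3 (SC.cas (nat_lit 3421328)
 (SC.step (nat_lit 13632) 3 (SC.cas (nat_lit 6337856)
 (SC.step (nat_lit 14370) 3 (SC.cas (nat_lit 1849378)
 (SC.step (nat_lit 14528) 3 (SC.cas (nat_lit 1161408)
 (SC.step (nat_lit 14596) 3 (SC.cas (nat_lit 702724)
 (SC.step (nat_lit 14608) 3 (SC.cas (nat_lit 4536592)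
 (SC.step (nat_lit 15872) 3 (SC.cas (nat_lit 2702848)
 (SC.step (nat_lit 16414) 3 (SC.cas (nat_lit 6832158)
 (SC.step (nat_lit 16485) 3 (SC.cas (nat_lit 4800613)
 (SC.step (nat_lit 16497) 3 (SC.cas (nat_lit 442481)
 (SC.step (nat_lit 16519) 3 (SC.cas (nat_lit 4505735)
 (SC.step (nat_lit 16531) 3 (SC.cas (nat_lit 737427)
 (SC.step (nat_lit 16616) 3 (SC.cas (nat_lit 2769128)
 (SC.step (nat_lit 16684) 3 (SC.cas (nat_lit 3227948)
 (SC.step (nat_lit 16801) 3 (SC.cas (nat_lit 5390753)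
 (SC.step (nat_lit 16937) 3 (SC.cas (nat_lit 6570537)
 (SC.step (nat_lit 16966) 3 (SC.cas (nat_lit 705094)
 (SC.step (nat_lit 16978) 3 (SC.cas (nat_lit 4538962)
 (SC.step (nat_lit 17060) 3 (SC.cas (nat_lit 475812)
 (SC.step (nat_lit 17072) 3 (SC.cas (nat_lit 4768432)
 (SC.step (nat_lit 17248) 3 (SC.cas (nat_lit 1852256)
 (SC.step (nat_lit 17282) 3 (SC.cas (nat_lit 1164162)
 (SC.step (nat_lit 17419) 3 (SC.cas (nat_lit 5325835)
 (SC.step (nat_lit 17520) 3 (SC.cas (nat_lit 7357552)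
 (SC.step (nat_lit 17542) 3 (SC.cas (nat_lit 3294342)
 (SC.step (nat_lit 17730) 3 (SC.cas (nat_lit 2704706)
 (SC.step (nat_lit 17824) 3 (SC.cas (nat_lit 2409888)
 (SC.step (nat_lit 17960) 3 (SC.cas (nat_lit 1230376)
 (SC.step (nat_lit 18484) 3 (SC.cas (nat_lit 1722420)
 (SC.step (nat_lit 18626) 3 (SC.cas (nat_lit 5785794)
 (SC.step (nat_lit 18694) 3 (SC.cas (nat_lit 4409606)
 (SC.step (nat_lit 18706) 3 (SC.cas (nat_lit 837906)
 (SC.step (nat_lit 18947) 3 (SC.cas (nat_lit 1460739)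
 (SC.step (nat_lit 19489) 3 (SC.cas (nat_lit 2313249)
 (SC.step (nat_lit 19970) 3 (SC.cas (nat_lit 6344194)
 (SC.step (nat_lit 20505) 3 (SC.cas (nat_lit 3297305)
 (SC.step (nat_lit 20578) 3 (SC.cas (nat_lit 1265762)
 (SC.step (nat_lit 20628) 3 (SC.cas (nat_lit 5329044)
 (SC.step (nat_lit 20804) 3 (SC.cas (nat_lit 381252)
 (SC.step (nat_lit 20816) 3 (SC.cas (nat_lit 4870480)
 (SC.step (nat_lit 21057) 3 (SC.cas (nat_lit 5296705)
 (SC.step (nat_lit 21256) 3 (SC.cas (nat_lit 2675464)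
 (SC.step (nat_lit 21516) 3 (SC.cas (nat_lit 742412)
 (SC.step (nat_lit 21528) 3 (SC.cas (nat_lit 4510744)
 (SC.step (nat_lit 21633) 3 (SC.cas (nat_lit 6837377)
 (SC.step (nat_lit 22080) 3 (SC.cas (nat_lit 2512448)
 (SC.step (nat_lit 22600) 3 (SC.cas (nat_lit 6379592)
 (SC.step (nat_lit 22785) 3 (SC.cas (nat_lit 1661185)
 (SC.step (nat_lit 23044) 3 (SC.cas (nat_lit 5003780)
 (SC.step (nat_lit 23056) 3 (SC.cas (nat_lit 252432)
 (SC.step (nat_lit 24620) 3 (SC.cas (nat_lit 843820)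
 (SC.step (nat_lit 24632) 3 (SC.cas (nat_lit 4415544)
 (SC.step (nat_lit 24643) 3 (SC.cas (nat_lit 6447171)
 (SC.step (nat_lit 24842) 3 (SC.cas (nat_lit 1728778)
 (SC.step (nat_lit 25184) 3 (SC.cas (nat_lit 2220640)
 (SC.step (nat_lit 25218) 3 (SC.cas (nat_lit 2908802)
 (SC.step (nat_lit 25666) 3 (SC.cas (nat_lit 1369154)
 (SC.step (nat_lit 25760) 3 (SC.cas (nat_lit 1664160)
 (SC.step (nat_lit 26642) 3 (SC.cas (nat_lit 3237906)
 (SC.step (nat_lit 26912) 3 (SC.cas (nat_lit 6842656)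
 (SC.step (nat_lit 28740) 3 (SC.cas (nat_lit 3698756)
 (SC.step (nat_lit 29056) 3 (SC.cas (nat_lit 2322816)
 (SC.step (nat_lit 29192) 3 (SC.cas (nat_lit 1405448)
 (SC.step (nat_lit 30721) 3 (SC.cas (nat_lit 2422785)
 (SC.step (nat_lit 31744) 3 (SC.cas (nat_lit 5405696)
 (SC.step (nat_lit 32921) 3 (SC.cas (nat_lit 2916505)
 (SC.step (nat_lit 32994) 3 (SC.cas (nat_lit 884962)
 (SC.step (nat_lit 33062) 3 (SC.cas (nat_lit 1474854)
 (SC.step (nat_lit 33232) 3 (SC.cas (nat_lit 5538256)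
 (SC.step (nat_lit 33315) 3 (SC.cas (nat_lit 4424227)
 (SC.step (nat_lit 33368) 3 (SC.cas (nat_lit 6455896)
 (SC.step (nat_lit 33553) 3 (SC.cas (nat_lit 1737489)
 (SC.step (nat_lit 33932) 3 (SC.cas (nat_lit 1410188)
 (SC.step (nat_lit 34120) 3 (SC.cas (nat_lit 951624)
 (SC.step (nat_lit 34496) 3 (SC.cas (nat_lit 3704512)
 (SC.step (nat_lit 34564) 3 (SC.cas (nat_lit 2328324)
 (SC.step (nat_lit 34885) 3 (SC.cas (nat_lit 1869893)
 (SC.step (nat_lit 35084) 3 (SC.cas (nat_lit 6588684)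
 (SC.step (nat_lit 35201) 3 (SC.cas (nat_lit 493953)
 (SC.step (nat_lit 35337) 3 (SC.cas (nat_lit 3246601)
 (SC.step (nat_lit 35460) 3 (SC.cas (nat_lit 5409412)
 (SC.step (nat_lit 35648) 3 (SC.cas (nat_lit 4819776)
 (SC.step (nat_lit 35920) 3 (SC.cas (nat_lit 2460752)
 (SC.step (nat_lit 36883) 3 (SC.cas (nat_lit 1413139)
 (SC.step (nat_lit 36968) 3 (SC.cas (nat_lit 3444840)
 (SC.step (nat_lit 37153) 3 (SC.cas (nat_lit 5017889)
 (SC.step (nat_lit 37412) 3 (SC.cas (nat_lit 1675812)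
 (SC.step (nat_lit 37894) 3 (SC.cas (nat_lit 2921478)
 (SC.step (nat_lit 38978) 3 (SC.cas (nat_lit 4626498)
 (SC.step (nat_lit 41010) 3 (SC.cas (nat_lit 6594610)
 (SC.step (nat_lit 41033) 3 (SC.cas (nat_lit 4563017)
 (SC.step (nat_lit 41156) 3 (SC.cas (nat_lit 2531524)
 (SC.step (nat_lit 41477) 3 (SC.cas (nat_lit 6857221)
 (SC.step (nat_lit 41608) 3 (SC.cas (nat_lit 762504)
 (SC.step (nat_lit 42512) 3 (SC.cas (nat_lit 5350928)
 (SC.step (nat_lit 43032) 3 (SC.cas (nat_lit 1484824)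
 (SC.step (nat_lit 44160) 3 (SC.cas (nat_lit 5024896)
 (SC.step (nat_lit 45570) 3 (SC.cas (nat_lit 3322370)
 (SC.step (nat_lit 46112) 3 (SC.cas (nat_lit 504864)
 (SC.step (nat_lit 49187) 3 (SC.cas (nat_lit 3719203)
 (SC.step (nat_lit 49240) 3 (SC.cas (nat_lit 1687640)
 (SC.step (nat_lit 49425) 3 (SC.cas (nat_lit 6406417)
 (SC.step (nat_lit 49684) 3 (SC.cas (nat_lit 3457556)
 (SC.step (nat_lit 50368) 3 (SC.cas (nat_lit 4441280)
 (SC.step (nat_lit 50436) 3 (SC.cas (nat_lit 5817604)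
 (SC.step (nat_lit 50689) 3 (SC.cas (nat_lit 902657)
 (SC.step (nat_lit 51209) 3 (SC.cas (nat_lit 4900873)
 (SC.step (nat_lit 51332) 3 (SC.cas (nat_lit 2738308)
 (SC.step (nat_lit 51520) 3 (SC.cas (nat_lit 3328320)
 (SC.step (nat_lit 53284) 3 (SC.cas (nat_lit 6475812)
 (SC.step (nat_lit 57349) 3 (SC.cas (nat_lit 1302533)
 (SC.step (nat_lit 57480) 3 (SC.cas (nat_lit 7397512)
 (SC.step (nat_lit 58112) 3 (SC.cas (nat_lit 4645632)
 (SC.step (nat_lit 58384) 3 (SC.cas (nat_lit 2810896)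
 (SC.step (nat_lit 61442) 3 (SC.cas (nat_lit 4845570)
 (SC.step (nat_lit 65677) 3 (SC.cas (nat_lit 6488205)
 (SC.step (nat_lit 65842) 3 (SC.cas (nat_lit 5833010)
 (SC.step (nat_lit 65988) 3 (SC.cas (nat_lit 1769924)
 (SC.step (nat_lit 66124) 3 (SC.cas (nat_lit 2949708)
 (SC.step (nat_lit 66309) 3 (SC.cas (nat_lit 5571333)
 (SC.step (nat_lit 66581) 3 (SC.cas (nat_lit 3736597)
 (SC.step (nat_lit 67106) 3 (SC.cas (nat_lit 3474978)
 (SC.step (nat_lit 67665) 3 (SC.cas (nat_lit 5441617)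
 (SC.step (nat_lit 67864) 3 (SC.cas (nat_lit 2820376)
 (SC.step (nat_lit 68240) 3 (SC.cas (nat_lit 1903248)
 (SC.step (nat_lit 68992) 3 (SC.cas (nat_lit 7409024)
 (SC.step (nat_lit 69128) 3 (SC.cas (nat_lit 4656648)
 (SC.step (nat_lit 69770) 3 (SC.cas (nat_lit 3739786)
 (SC.step (nat_lit 70402) 3 (SC.cas (nat_lit 987906)
 (SC.step (nat_lit 70674) 3 (SC.cas (nat_lit 6493202)
 (SC.step (nat_lit 71840) 3 (SC.cas (nat_lit 4921504)
 (SC.step (nat_lit 73766) 3 (SC.cas (nat_lit 2826278)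
 (SC.step (nat_lit 73936) 3 (SC.cas (nat_lit 6889680)
 (SC.step (nat_lit 74257) 3 (SC.cas (nat_lit 2564625)
 (SC.step (nat_lit 74824) 3 (SC.cas (nat_lit 3351624)
 (SC.step (nat_lit 75009) 3 (SC.cas (nat_lit 4924673)
 (SC.step (nat_lit 75788) 3 (SC.cas (nat_lit 5842956)
 (SC.step (nat_lit 77857) 3 (SC.cas (nat_lit 7417889)
 (SC.step (nat_lit 82113) 3 (SC.cas (nat_lit 3489985)
 (SC.step (nat_lit 82312) 3 (SC.cas (nat_lit 5063048)
 (SC.step (nat_lit 83216) 3 (SC.cas (nat_lit 1525008)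
 (SC.step (nat_lit 86064) 3 (SC.cas (nat_lit 2969648)
 (SC.step (nat_lit 91140) 3 (SC.cas (nat_lit 6644740)
 (SC.step (nat_lit 92224) 3 (SC.cas (nat_lit 1009728)
 (SC.step (nat_lit 98374) 3 (SC.cas (nat_lit 7438406)
 (SC.step (nat_lit 98480) 3 (SC.cas (nat_lit 3375280)
 (SC.step (nat_lit 99368) 3 (SC.cas (nat_lit 6915112)
 (SC.step (nat_lit 101378) 3 (SC.cas (nat_lit 1805314)
 (SC.step (nat_lit 102465) 3 (SC.cas (nat_lit 2854977)
 (SC.step (nat_lit 102664) 3 (SC.cas (nat_lit 5476616)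
 (SC.step (nat_lit 103040) 3 (SC.cas (nat_lit 6656640)
 (SC.step (nat_lit 114698) 3 (SC.cas (nat_lit 2605066)
 (SC.step (nat_lit 116768) 3 (SC.cas (nat_lit 5621792)
 (SC.step (nat_lit 131777) 3 (SC.cas (nat_lit 5112513)
 (SC.step (nat_lit 131976) 3 (SC.cas (nat_lit 3539848)
 (SC.step (nat_lit 132248) 3 (SC.cas (nat_lit 5899416)
 (SC.step (nat_lit 133162) 3 (SC.cas (nat_lit 7473194)
 (SC.step (nat_lit 134212) 3 (SC.cas (nat_lit 6949956)
 (SC.step (nat_lit 135175) 3 (SC.cas (nat_lit 5902343)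
 (SC.step (nat_lit 135728) 3 (SC.cas (nat_lit 5640752)
 (SC.step (nat_lit 136480) 3 (SC.cas (nat_lit 3806496)
 (SC.step (nat_lit 139540) 3 (SC.cas (nat_lit 7479572)
 (SC.step (nat_lit 140804) 3 (SC.cas (nat_lit 1975812)
 (SC.step (nat_lit 141441) 3 (SC.cas (nat_lit 3811457)
 (SC.step (nat_lit 147532) 3 (SC.cas (nat_lit 5652556)
 (SC.step (nat_lit 147717) 3 (SC.cas (nat_lit 3031301)
 (SC.step (nat_lit 148514) 3 (SC.cas (nat_lit 5129250)
 (SC.step (nat_lit 149648) 3 (SC.cas (nat_lit 6703248)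
 (SC.step (nat_lit 164226) 3 (SC.cas (nat_lit 6979970)
 (SC.step (nat_lit 166432) 3 (SC.cas (nat_lit 3050016)
 (SC.step (nat_lit 172128) 3 (SC.cas (nat_lit 5939296)
 (SC.step (nat_lit 184448) 3 (SC.cas (nat_lit 2019456)
 (SC.step (nat_lit 196649) 3 (SC.cas (nat_lit 2031657)
 (SC.step (nat_lit 196960) 3 (SC.cas (nat_lit 6750560)
 (SC.step (nat_lit 202756) 3 (SC.cas (nat_lit 3610628)
 (SC.step (nat_lit 204930) 3 (SC.cas (nat_lit 5709954)
 (SC.step (nat_lit 229396) 3 (SC.cas (nat_lit 5210132)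
 (SC.step (nat_lit 263952) 3 (SC.cas (nat_lit 7079696)
 (SC.step (nat_lit 272960) 3 (SC.cas (nat_lit 7612992)
 (SC.step (nat_lit 281608) 3 (SC.cas (nat_lit 3951624)
 (SC.step (nat_lit 282882) 3 (SC.cas (nat_lit 7622914)
 (SC.step (nat_lit 286737) 3 (SC.cas (nat_lit 6053905)
 (SC.step (nat_lit 295434) 3 (SC.cas (nat_lit 6062602)
 (SC.step (nat_lit 329731) 3 (SC.cas (nat_lit 7145475)
 (SC.step (nat_lit 332864) 3 (SC.cas (nat_lit 6100032)
 (SC.step (nat_lit 368896) 3 (SC.cas (nat_lit 4038912)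
 (SC.step (nat_lit 393298) 3 (SC.cas (nat_lit 4063314)
 (SC.step (nat_lit 405512) 3 (SC.cas (nat_lit 7221256)
 (SC.step (nat_lit 427009) 3 (SC.cas (nat_lit 7767041)
 (SC.step (nat_lit 524617) 3 (SC.cas (nat_lit 7864649)
 (SC.step (nat_lit 563216) 3 (SC.cas (nat_lit 7903248)
 (SC.step (nat_lit 737792) 3 (SC.cas (nat_lit 8077824)
 (SC.step (nat_lit 786596) 3 (SC.cas (nat_lit 8126628)
 (SC.sub oL SC.fin) SC.nil)) SC.nil)) SC.nil)) SC.nil)) SC.nil)) SC.nil)) SC.nil)) SC.nil)) SC.nil)) SC.nil)) SC.nil)) SC.nil)) SC.nil)) SC.nil)) SC.nil)) SC.nil)) SC.nil)) SC.nil)) SC.nil)) SC.nil)) SC.nil)) SC.nil)) SC.nil)) SC.nil)) SC.nil)) SC.nil)) SC.nil)) SC.nil)) SC.nil)) SC.nil)) SC.nil)) SC.nil)) SC.nil)) SC.nil)) SC.nil)) SC.nil)) SC.nil)) SC.nil)) SC.nil)) SC.nil)) SC.nil)) SC.nil)) SC.nil)) SC.nil)) SC.nil)) SC.nil)) SC.nil)) SC.nil)) SC.nil)) SC.nil)) SC.nil)) SC.nil)) SC.nil)) SC.nil)) SC.nil)) SC.nil)) SC.nil)) SC.nil))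 SC.nil)) SC.nil)) SC.nil)) SC.nil)) SC.nil)) SC.nil)) SC.nil)) SC.nil)) SC.nil)) SC.nil)) SC.nil)) SC.nil)) SC.nil)) SC.nil)) SC.nil)) SC.nil)) SC.nil)) SC.nil)) SC.nil)) SC.nil)) SC.nil)) SC.nil)) SC.nil)) SC.nil)) SC.nil)) SC.nil)) SC.nil)) SC.nil)) SC.nil)) SC.nil)) SC.nil)) SC.nil)) SC.nil)) SC.nil)) SC.nil)) SC.nil)) SC.nil)) SC.nil)) SC.nil)) SC.nil)) SC.nil)) SC.nil)) SC.nil)) SC.nil)) SC.nil)) SC.nil)) SC.nil)) SC.nil)) SC.nil)) SC.nil)) SC.nil)) SC.nil)) SC.nil)) SC.nil)) SC.nil)) SC.nil)) SC.nil)) SC.nil)) SC.nil)) SC.nil)) SC.nil)) SC.nil)) SC.nil)) SC.nil)) SC.nil)) SC.nil)) SC.nil)) SC.nil)) SC.nil)) SC.nil)) SC.nil)) SC.nil)) SC.nil)) SC.nil)) SC.nil)) SC.nil)) SC.nil)) SC.nil)) SC.nil)) SC.nil)) SC.nil)) SC.nil)) SC.nil)) SC.nil)) SC.nil)) SC.nil)) SC.nil)) SC.nil)) SC.nil)) SC.nil)) SC.nil)) SC.nil)) SC.nil)) SC.nil)) SC.nil)) SC.nil)) SC.nil)) SC.nil)) SC.nil)) SC.nil)) SC.nil)) SC.nil)) SC.nil))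 SC.nil)) SC.nil)) SC.nil)) SC.nil)) SC.nil)) SC.nil)) SC.nil)) SC.nil)) SC.nil)) SC.nil)) SC.nil)) SC.nil)) SC.nil)) SC.nil)) SC.nil)) SC.nil)) SC.nil)) SC.nil)) SC.nil)) SC.nil)) SC.nil)) SC.nil)) SC.nil)) SC.nil)) SC.nil)) SC.nil)) SC.nil)) SC.nil)) SC.nil)) SC.nil)) SC.nil)) SC.nil)) SC.nil)) SC.nil)) SC.nil)) SC.nil)) SC.nil)) SC.nil)) SC.nil)) SC.nil)) SC.nil)) SC.nil)) SC.nil)) SC.nil)) SC.nil)) SC.nil)) SC.nil)) SC.nil)) SC.nil)) SC.nil)) SC.nil)) SC.nil)) SC.nil)) SC.nil)) SC.nil)) SC.nil)) SC.nil)) SC.nil)) SC.nil)) SC.nil)) SC.nil)) SC.nil)) SC.nil)) SC.nil)) SC.nil)) SC.nil)) SC.nil)) SC.nil)) SC.nil)) SC.nil)) SC.nil)) SC.nil)) SC.nil)) SC.nil)) SC.nil)) SC.nil)) SC.nil)) SC.nil)) SC.nil)) SC.nil)) SC.nil)) SC.nil)) SC.nil)) SC.nil)) SC.nil)) SC.nil)) SC.nil)) SC.nil)) SC.nil)) SC.nil)) SC.nil)) SC.nil)) SC.nil)) SC.nil)) SC.nil)) SC.nil)) SC.nil)) SC.nil)) SC.nil)) SC.nil)) SC.nil)) SC.nil)) SC.nil))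 SC.nil)) SC.nil)) SC.nil)) SC.nil)) SC.nil)) SC.nil)) SC.nil)) SC.nil)) SC.nil)) SC.nil)) SC.nil)) SC.nil)) SC.nil)) SC.nil)) SC.nil)) SC.nil)) SC.nil)) SC.nil)) SC.nil)) SC.nil)) SC.nil)) SC.nil)) SC.nil)) SC.nil)) SC.nil)) SC.nil)) SC.nil)) SC.nil)) SC.nil)) SC.nil)) SC.nil)) SC.nil)) SC.nil)) SC.nil)) SC.nil)) SC.nil)) SC.nil)) SC.nil)) SC.nil)) SC.nil)) SC.nil)) SC.nil)) SC.nil)) SC.nil)) SC.nil)) SC.nil)) SC.nil)) SC.nil)) SC.nil)) SC.nil)) SC.nil)) SC.nil)) SC.nil)) SC.nil)) SC.nil)) SC.nil)) SC.nil)) SC.nil)) SC.nil)) SC.nil)) SC.nil)) SC.nil)) SC.nil)) SC.nil)) SC.nil)) SC.nil)) SC.nil)) SC.nil)) SC.nil)) SC.nil)) SC.nil)) SC.nil)) SC.nil)) SC.nil)) SC.nil)) SC.nil)) SC.nil)) SC.nil)) SC.nil)) SC.nil)) SC.nil)) SC.nil)) SC.nil)) SC.nil)) SC.nil)) SC.nil)) SC.nil)) SC.nil)) SC.nil)) SC.nil)) SC.nil)) SC.nil)) SC.nil)) SC.nil)) SC.nil)) SC.nil)) SC.nil)) SC.nil)) SC.nil)) SC.nil)) SC.nil)) SC.nil)) SC.nil))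 SC.nil)) SC.nil)) SC.nil)) SC.nil)) SC.nil)) SC.nil)) SC.nil)) SC.nil)) SC.nil)) SC.nil)) SC.nil)) SC.nil)) SC.nil)) SC.nil)) SC.nil)) SC.nil)) SC.nil)) SC.nil)) SC.nil)) SC.nil)) SC.nil)) SC.nil)) SC.nil)) SC.nil)) SC.nil)) SC.nil)) SC.nil)) SC.nil)) SC.nil)) SC.nil)) SC.nil)) SC.nil)) SC.nil)) SC.nil)) SC.nil)) SC.nil)) SC.nil)) SC.nil)) SC.nil)) SC.nil)) SC.nil)) SC.nil)) SC.nil)) SC.nil)) SC.nil)) SC.nil)) SC.nil)) SC.nil)) SC.nil)) SC.nil)) SC.nil)) SC.nil)) SC.nil)) SC.nil)) SC.nil)) SC.nil)) SC.nil)) SC.nil)) SC.nil)) SC.nil)) SC.nil)) SC.nil)) SC.nil)) SC.nil)) SC.nil)) SC.nil)) SC.nil)) SC.nil)) SC.nil)) SC.nil)) SC.nil)) SC.nil)) SC.nil)) SC.nil)) SC.nil)) SC.nil)) SC.nil)) SC.nil)) SC.nil)) SC.nil)) SC.nil)) SC.nil)) SC.nil)) SC.nil)) SC.nil)) SC.nil)) SC.nil)) SC.nil)) SC.nil)) SC.nil)) SC.nil)) SC.nil)) SC.nil)) SC.nil)) SC.nil)) SC.nil)) SC.nil)) SC.nil)) SC.nil)) SC.nil)) SC.nil)) SC.nil)) SC.nil))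 SC.nil)) SC.nil)) SC.nil)) SC.nil)) SC.nil)) SC.nil)) SC.nil)) SC.nil)) SC.nil)) SC.nil)) SC.nil)) SC.nil)) SC.nil)) SC.nil)) SC.nil)) SC.nil)) SC.nil)) SC.nil)) SC.nil)) SC.nil)) SC.nil)) SC.nil)) SC.nil)) SC.nil)) SC.nil)) SC.nil)) SC.nil)) SC.nil)) SC.nil)) SC.nil)) SC.nil)) SC.nil)) SC.nil)) SC.nil)) SC.nil)) SC.nil))
theorem ok0 : oc0.chk 24 5 8 true [oL] true oK0 = true := by decide +kernel
theorem og1 (C : H7.Coding X) (hn : C.n = 24) : Good C 5 8 (UQ 24 oL) oK0 :=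
  chk_good hn (by norm_num) UQ.inv (List.forall_mem_singleton.2 (og0 C hn)) ok0
noncomputable def oK1 : List ℕ := [ (nat_lit 12584506), (nat_lit 12587685), (nat_lit 12594948), (nat_lit 12599513), (nat_lit 12604486), (nat_lit 12624578), (nat_lit 12638592), (nat_lit 12641313), (nat_lit 12650793), (nat_lit 12656663), (nat_lit 12661896),
 (nat_lit 12685424), (nat_lit 12698124), (nat_lit 12717187), (nat_lit 12720156), (nat_lit 12726562), (nat_lit 12733024), (nat_lit 12747077), (nat_lit 12780432), (nat_lit 12849992), (nat_lit 12861748), (nat_lit 12871690), (nat_lit 12880401),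
 (nat_lit 12912836), (nat_lit 12944642), (nat_lit 12985424), (nat_lit 13009064), (nat_lit 13062145), (nat_lit 13108704), (nat_lit 13121601), (nat_lit 13124355), (nat_lit 13142054), (nat_lit 13148440), (nat_lit 13192208), (nat_lit 13262980),
 (nat_lit 13276672), (nat_lit 13303882), (nat_lit 13370381), (nat_lit 13373586), (nat_lit 13443616), (nat_lit 13631886), (nat_lit 13636881), (nat_lit 13641904), (nat_lit 13667400), (nat_lit 13703682), (nat_lit 13721920), (nat_lit 13771273),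
 (nat_lit 13811730), (nat_lit 13829156), (nat_lit 13893731), (nat_lit 13911680), (nat_lit 13938692), (nat_lit 14156372), (nat_lit 14176296), (nat_lit 14254209), (nat_lit 14551296), (nat_lit 14682450), (nat_lit 14688364), (nat_lit 14709264),
 (nat_lit 14714004), (nat_lit 14716939), (nat_lit 14747201), (nat_lit 14762146), (nat_lit 14828808), (nat_lit 14919680), (nat_lit 14949408), (nat_lit 14950785), (nat_lit 15073798), (nat_lit 15207048), (nat_lit 15274244), (nat_lit 15335473),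
 (nat_lit 15515712), (nat_lit 15747077), (nat_lit 15762208), (nat_lit 15864000), (nat_lit 16056344), (nat_lit 16262146)]
noncomputable def oc1 : SC := (SC.step (nat_lit 8388623) 3 (SC.sym (nat_lit 8391247) (nat_lit 0xbd9e894d6da9a0c8a8b43b92418820) (nat_lit 8536111)
 (SC.cas (nat_lit 8536111)
 (SC.step (nat_lit 8388635) 3 (SC.cas (nat_lit 9963547)
 (SC.step (nat_lit 8388637) 3 (SC.cas (nat_lit 10486557)
 (SC.step (nat_lit 8388638) 3 (SC.cas (nat_lit 8683614)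
 (SC.step (nat_lit 8388659) 3 (SC.cas (nat_lit 8421811)
 (SC.step (nat_lit 8388662) 3 (SC.cas (nat_lit 11538486)
 (SC.step (nat_lit 8388665) 3 (SC.cas (nat_lit 8663097)
 (SC.step (nat_lit 8389139) 3 (SC.cas (nat_lit 8524371)
 (SC.step (nat_lit 8390929) 3 (SC.cas (nat_lit 8546577)
 (SC.step (nat_lit 8421383) 3 (SC.cas (nat_lit 9471495)
 (SC.step (nat_lit 8421401) 3 (SC.cas (nat_lit 8619033)
 (SC.step (nat_lit 8421418) 3 (SC.cas (nat_lit 9543722)
 (SC.step (nat_lit 8913169) 3 (SC.cas (nat_lit 9240913)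
 (SC.step (nat_lit 10485779) 3 (SC.cas (nat_lit 10765331)
 (SC.step (nat_lit 8388661) 3 (SC.cas (nat_lit 8391797)
 (SC.step (nat_lit 8388668) 3 (SC.cas (nat_lit 8978620)
 (SC.step (nat_lit 8388683) 3 (SC.cas (nat_lit 8398155)
 (SC.step (nat_lit 8388722) 3 (SC.cas (nat_lit 8937586)
 (SC.step (nat_lit 8388818) 3 (SC.cas (nat_lit 9503954)
 (SC.step (nat_lit 8388871) 3 (SC.cas (nat_lit 8657159)
 (SC.step (nat_lit 8388886) 3 (SC.cas (nat_lit 9045270)
 (SC.step (nat_lit 8388920) 3 (SC.cas (nat_lit 9568632)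
 (SC.step (nat_lit 8389131) 3 (SC.cas (nat_lit 8716939)
 (SC.step (nat_lit 8389142) 3 (SC.cas (nat_lit 8407702)
 (SC.step (nat_lit 8389161) 3 (SC.cas (nat_lit 8946281)
 (SC.step (nat_lit 8389169) 3 (SC.cas (nat_lit 9519665)
 (SC.step (nat_lit 8389208) 3 (SC.cas (nat_lit 8464984)
 (SC.step (nat_lit 8389394) 3 (SC.cas (nat_lit 9708306)
 (SC.step (nat_lit 8389660) 3 (SC.cas (nat_lit 9462812)
 (SC.step (nat_lit 8389667) 3 (SC.cas (nat_lit 8983587)
 (SC.step (nat_lit 8389777) 3 (SC.cas (nat_lit 8922769)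
 (SC.step (nat_lit 8390936) 3 (SC.cas (nat_lit 8654232)
 (SC.step (nat_lit 8391171) 3 (SC.cas (nat_lit 10496547)
 (SC.step (nat_lit 8392717) 3 (SC.cas (nat_lit 9506893)
 (SC.step (nat_lit 8392725) 3 (SC.cas (nat_lit 8966165)
 (SC.step (nat_lit 8392730) 3 (SC.cas (nat_lit 8474906)
 (SC.step (nat_lit 8392746) 3 (SC.cas (nat_lit 8394986)
 (SC.step (nat_lit 8392788) 3 (SC.cas (nat_lit 8401364)
 (SC.step (nat_lit 8392849) 3 (SC.cas (nat_lit 10557585)
 (SC.step (nat_lit 8392880) 3 (SC.cas (nat_lit 8541360)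
 (SC.step (nat_lit 8393008) 3 (SC.cas (nat_lit 8919856)
 (SC.step (nat_lit 8396813) 3 (SC.cas (nat_lit 8431757)
 (SC.step (nat_lit 8396826) 3 (SC.cas (nat_lit 10625178)
 (SC.step (nat_lit 8396881) 3 (SC.cas (nat_lit 11575377)
 (SC.step (nat_lit 8400914) 3 (SC.cas (nat_lit 8436754)
 (SC.step (nat_lit 8405123) 3 (SC.cas (nat_lit 9465987)
 (SC.step (nat_lit 8405509) 3 (SC.cas (nat_lit 8675909)
 (SC.step (nat_lit 8406021) 3 (SC.cas (nat_lit 8471941)
 (SC.step (nat_lit 8413193) 3 (SC.cas (nat_lit 11100169)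
 (SC.step (nat_lit 8413224) 3 (SC.cas (nat_lit 8414120)
 (SC.step (nat_lit 8421413) 3 (SC.cas (nat_lit 10846245)
 (SC.step (nat_lit 8421420) 3 (SC.cas (nat_lit 8426796)
 (SC.step (nat_lit 8421428) 3 (SC.cas (nat_lit 8561204)
 (SC.step (nat_lit 8421432) 3 (SC.cas (nat_lit 10537016)
 (SC.step (nat_lit 8421641) 3 (SC.cas (nat_lit 9748745)
 (SC.step (nat_lit 8421906) 3 (SC.cas (nat_lit 11108882)
 (SC.step (nat_lit 8421912) 3 (SC.cas (nat_lit 9474712)
 (SC.step (nat_lit 8422145) 3 (SC.cas (nat_lit 8499969)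
 (SC.step (nat_lit 8422410) 3 (SC.cas (nat_lit 8963210)
 (SC.step (nat_lit 8422529) 3 (SC.cas (nat_lit 8688833)
 (SC.step (nat_lit 8422657) 3 (SC.cas (nat_lit 11046145)
 (SC.step (nat_lit 8437763) 3 (SC.cas (nat_lit 8505411)
 (SC.step (nat_lit 8486984) 3 (SC.cas (nat_lit 10584520)
 (SC.step (nat_lit 8519701) 3 (SC.cas (nat_lit 9830549)
 (SC.step (nat_lit 8519730) 3 (SC.cas (nat_lit 8849458)
 (SC.step (nat_lit 8519753) 3 (SC.cas (nat_lit 10881097)
 (SC.step (nat_lit 8520197) 3 (SC.cas (nat_lit 9112069)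
 (SC.step (nat_lit 8520216) 3 (SC.cas (nat_lit 9323032)
 (SC.step (nat_lit 8520449) 3 (SC.cas (nat_lit 8783649)
 (SC.step (nat_lit 8520709) 3 (SC.cas (nat_lit 10630149)
 (SC.step (nat_lit 8523785) 3 (SC.cas (nat_lit 9048457)
 (SC.step (nat_lit 8527905) 3 (SC.cas (nat_lit 8593633)
 (SC.step (nat_lit 8527912) 3 (SC.cas (nat_lit 9055272)
 (SC.step (nat_lit 8552451) 3 (SC.cas (nat_lit 9347075)
 (SC.step (nat_lit 8552458) 3 (SC.cas (nat_lit 8555274)
 (SC.step (nat_lit 8552720) 3 (SC.cas (nat_lit 10916112)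
 (SC.step (nat_lit 8585219) 3 (SC.cas (nat_lit 11731203)
 (SC.step (nat_lit 8585256) 3 (SC.cas (nat_lit 10687016)
 (SC.step (nat_lit 8650794) 3 (SC.cas (nat_lit 11272490)
 (SC.step (nat_lit 8654868) 3 (SC.cas (nat_lit 8721940)
 (SC.step (nat_lit 8691720) 3 (SC.cas (nat_lit 10790408)
 (SC.step (nat_lit 8749064) 3 (SC.cas (nat_lit 9279496)
 (SC.step (nat_lit 8749072) 3 (SC.cas (nat_lit 8773776)
 (SC.step (nat_lit 9437221) 3 (SC.cas (nat_lit 9969957)
 (SC.step (nat_lit 9437225) 3 (SC.cas (nat_lit 11535529)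
 (SC.step (nat_lit 9437228) 3 (SC.cas (nat_lit 9701932)
 (SC.step (nat_lit 9449504) 3 (SC.cas (nat_lit 9451104)
 (SC.step (nat_lit 9469964) 3 (SC.cas (nat_lit 12222476)
 (SC.step (nat_lit 9469972) 3 (SC.cas (nat_lit 9537812)
 (SC.step (nat_lit 9469985) 3 (SC.cas (nat_lit 9607201)
 (SC.step (nat_lit 9469988) 3 (SC.cas (nat_lit 9486564)
 (SC.step (nat_lit 9470000) 3 (SC.cas (nat_lit 10257456)
 (SC.step (nat_lit 9536512) 3 (SC.cas (nat_lit 11654144)
 (SC.step (nat_lit 10485767) 3 (SC.cas (nat_lit 11010247)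
 (SC.step (nat_lit 10485844) 3 (SC.cas (nat_lit 10698836)
 (SC.step (nat_lit 10486064) 3 (SC.cas (nat_lit 10560816)
 (SC.step (nat_lit 10747924) 3 (SC.cas (nat_lit 11282452)
 (SC.step (nat_lit 11534852) 3 (SC.cas (nat_lit 11608708)
 (SC.step (nat_lit 8388710) 3 (SC.cas (nat_lit 8455014)
 (SC.step (nat_lit 8388774) 3 (SC.cas (nat_lit 8660134)
 (SC.step (nat_lit 8388812) 3 (SC.cas (nat_lit 8521420)
 (SC.step (nat_lit 8388848) 3 (SC.cas (nat_lit 10748656)
 (SC.step (nat_lit 8388940) 3 (SC.cas (nat_lit 8931660)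
 (SC.step (nat_lit 8388961) 3 (SC.cas (nat_lit 10506593)
 (SC.step (nat_lit 8389028) 3 (SC.cas (nat_lit 10619300)
 (SC.step (nat_lit 8389057) 3 (SC.cas (nat_lit 9440193)
 (SC.step (nat_lit 8389058) 3 (SC.cas (nat_lit 8798658)
 (SC.step (nat_lit 8389134) 3 (SC.cas (nat_lit 8925710)
 (SC.step (nat_lit 8389194) 3 (SC.cas (nat_lit 11551306)
 (SC.step (nat_lit 8389282) 3 (SC.cas (nat_lit 10093218)
 (SC.step (nat_lit 8389456) 3 (SC.cas (nat_lit 8439632)
 (SC.step (nat_lit 8389506) 3 (SC.cas (nat_lit 10491778)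
 (SC.step (nat_lit 8389508) 3 (SC.cas (nat_lit 9208708)
 (SC.step (nat_lit 8389646) 3 (SC.cas (nat_lit 10554382)
 (SC.step (nat_lit 8389720) 3 (SC.cas (nat_lit 11015256)
 (SC.step (nat_lit 8389730) 3 (SC.cas (nat_lit 10650722)
 (SC.step (nat_lit 8389736) 3 (SC.cas (nat_lit 8733800)
 (SC.step (nat_lit 8389922) 3 (SC.cas (nat_lit 9456930)
 (SC.step (nat_lit 8389956) 3 (SC.cas (nat_lit 11797828)
 (SC.step (nat_lit 8390153) 3 (SC.cas (nat_lit 8412681)
 (SC.step (nat_lit 8390180) 3 (SC.cas (nat_lit 11028004)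
 (SC.step (nat_lit 8390210) 3 (SC.cas (nat_lit 9178690)
 (SC.step (nat_lit 8390304) 3 (SC.cas (nat_lit 8490656)
 (SC.step (nat_lit 8390408) 3 (SC.cas (nat_lit 10028808)
 (SC.step (nat_lit 8390726) 3 (SC.cas (nat_lit 9578566)
 (SC.step (nat_lit 8390817) 3 (SC.cas (nat_lit 9193633)
 (SC.step (nat_lit 8390864) 3 (SC.cas (nat_lit 9078992)
 (SC.step (nat_lit 8391008) 3 (SC.cas (nat_lit 8694112)
 (SC.step (nat_lit 8391042) 3 (SC.cas (nat_lit 8989058)
 (SC.step (nat_lit 8391236) 3 (SC.cas (nat_lit 10525252)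
 (SC.step (nat_lit 8391812) 3 (SC.cas (nat_lit 9968772)
 (SC.step (nat_lit 8392208) 3 (SC.cas (nat_lit 11669008)
 (SC.step (nat_lit 8392804) 3 (SC.cas (nat_lit 9310308)
 (SC.step (nat_lit 8392838) 3 (SC.cas (nat_lit 8622214)
 (SC.step (nat_lit 8392844) 3 (SC.cas (nat_lit 10768524)
 (SC.step (nat_lit 8393026) 3 (SC.cas (nat_lit 9998658)
 (SC.step (nat_lit 8393250) 3 (SC.cas (nat_lit 8704546)
 (SC.step (nat_lit 8393408) 3 (SC.cas (nat_lit 8999616)
 (SC.step (nat_lit 8393476) 3 (SC.cas (nat_lit 9589508)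
 (SC.step (nat_lit 8393738) 3 (SC.cas (nat_lit 9835530)
 (SC.step (nat_lit 8394788) 3 (SC.cas (nat_lit 8484900)
 (SC.step (nat_lit 8394832) 3 (SC.cas (nat_lit 9721936)
 (SC.step (nat_lit 8395016) 3 (SC.cas (nat_lit 11548936)
 (SC.step (nat_lit 8395840) 3 (SC.cas (nat_lit 8592704)
 (SC.step (nat_lit 8397000) 3 (SC.cas (nat_lit 10232008)
 (SC.step (nat_lit 8397062) 3 (SC.cas (nat_lit 10543366)
 (SC.step (nat_lit 8397068) 3 (SC.cas (nat_lit 8855820)
 (SC.step (nat_lit 8397632) 3 (SC.cas (nat_lit 11150144)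
 (SC.step (nat_lit 8397892) 3 (SC.cas (nat_lit 9020484)
 (SC.step (nat_lit 8398016) 3 (SC.cas (nat_lit 10513600)
 (SC.step (nat_lit 8398208) 3 (SC.cas (nat_lit 9610624)
 (SC.step (nat_lit 8398338) 3 (SC.cas (nat_lit 8611330)
 (SC.step (nat_lit 8399488) 3 (SC.cas (nat_lit 8796800)
 (SC.step (nat_lit 8399873) 3 (SC.cas (nat_lit 9776129)
 (SC.step (nat_lit 8400962) 3 (SC.cas (nat_lit 10825794)
 (SC.step (nat_lit 8400968) 3 (SC.cas (nat_lit 8581192)
 (SC.step (nat_lit 8401056) 3 (SC.cas (nat_lit 11055264)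
 (SC.step (nat_lit 8402176) 3 (SC.cas (nat_lit 9204992)
 (SC.step (nat_lit 8405392) 3 (SC.cas (nat_lit 12075408)
 (SC.step (nat_lit 8405633) 3 (SC.cas (nat_lit 10666625)
 (SC.step (nat_lit 8406081) 3 (SC.cas (nat_lit 10110017)
 (SC.step (nat_lit 8407176) 3 (SC.cas (nat_lit 9652360)
 (SC.step (nat_lit 8408068) 3 (SC.cas (nat_lit 8834052)
 (SC.step (nat_lit 8411138) 3 (SC.cas (nat_lit 11163650)
 (SC.step (nat_lit 8415744) 3 (SC.cas (nat_lit 10021376)
 (SC.step (nat_lit 8423554) 3 (SC.cas (nat_lit 11831426)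
 (SC.step (nat_lit 8438048) 3 (SC.cas (nat_lit 9158944)
 (SC.step (nat_lit 8454560) 3 (SC.cas (nat_lit 9769376)
 (SC.step (nat_lit 8456288) 3 (SC.cas (nat_lit 12126304)
 (SC.step (nat_lit 8456960) 3 (SC.cas (nat_lit 10832640)
 (SC.step (nat_lit 8466448) 3 (SC.cas (nat_lit 10170384)
 (SC.step (nat_lit 8470534) 3 (SC.cas (nat_lit 10305542)
 (SC.step (nat_lit 8487488) 3 (SC.cas (nat_lit 9929280)
 (SC.step (nat_lit 8544288) 3 (SC.cas (nat_lit 11952160)
 (SC.step (nat_lit 8586368) 3 (SC.cas (nat_lit 11469952)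
 (SC.step (nat_lit 8655361) 3 (SC.cas (nat_lit 12325377)
 (SC.sub oK0 SC.fin) SC.nil)) SC.nil)) SC.nil)) SC.nil)) SC.nil)) SC.nil)) SC.nil)) SC.nil)) SC.nil)) SC.nil)) SC.nil)) SC.nil)) SC.nil)) SC.nil)) SC.nil)) SC.nil)) SC.nil)) SC.nil)) SC.nil)) SC.nil)) SC.nil)) SC.nil)) SC.nil)) SC.nil)) SC.nil)) SC.nil)) SC.nil)) SC.nil)) SC.nil)) SC.nil)) SC.nil)) SC.nil)) SC.nil)) SC.nil)) SC.nil)) SC.nil)) SC.nil)) SC.nil)) SC.nil)) SC.nil)) SC.nil)) SC.nil)) SC.nil)) SC.nil)) SC.nil)) SC.nil)) SC.nil)) SC.nil)) SC.nil)) SC.nil)) SC.nil)) SC.nil)) SC.nil)) SC.nil)) SC.nil)) SC.nil)) SC.nil)) SC.nil)) SC.nil)) SC.nil)) SC.nil)) SC.nil)) SC.nil)) SC.nil)) SC.nil)) SC.nil)) SC.nil)) SC.nil)) SC.nil)) SC.nil)) SC.nil)) SC.nil)) SC.nil)) SC.nil)) SC.nil)) SC.nil)) SC.nil)) SC.nil)) SC.nil)) SC.nil)) SC.nil)) SC.nil)) SC.nil)) SC.nil)) SC.nil)) SC.nil)) SC.nil)) SC.nil)) SC.nil)) SC.nil)) SC.nil)) SC.nil)) SC.nil)) SC.nil))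 SC.nil)) SC.nil)) SC.nil)) SC.nil)) SC.nil)) SC.nil)) SC.nil)) SC.nil)) SC.nil)) SC.nil)) SC.nil)) SC.nil)) SC.nil)) SC.nil)) SC.nil)) SC.nil)) SC.nil)) SC.nil)) SC.nil)) SC.nil)) SC.nil)) SC.nil)) SC.nil)) SC.nil)) SC.nil)) SC.nil)) SC.nil)) SC.nil)) SC.nil)) SC.nil)) SC.nil)) SC.nil)) SC.nil)) SC.nil)) SC.nil)) SC.nil)) SC.nil)) SC.nil)) SC.nil)) SC.nil)) SC.nil)) SC.nil)) SC.nil)) SC.nil)) SC.nil)) SC.nil)) SC.nil)) SC.nil)) SC.nil)) SC.nil)) SC.nil)) SC.nil)) SC.nil)) SC.nil)) SC.nil)) SC.nil)) SC.nil)) SC.nil)) SC.nil)) SC.nil)) SC.nil)) SC.nil)) SC.nil)) SC.nil)) SC.nil)) SC.nil)) SC.nil)) SC.nil)) SC.nil)) SC.nil)) SC.nil)) SC.nil)) SC.nil)) SC.nil)) SC.nil)) SC.nil)) SC.nil)) SC.nil)) SC.nil)) SC.nil)) SC.nil)) SC.nil)))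
theorem ok1 : oc1.chk 24 5 8 true [oK0] true oK1 = true := by decide +kernel
theorem og2 (C : H7.Coding X) (hn : C.n = 24) : Good C 5 8 (UQ 24 oL) oK1 :=
  chk_good hn (by norm_num) UQ.inv (List.forall_mem_singleton.2 (og1 C hn)) ok1
noncomputable def oK2 : List ℕ := [ (nat_lit 14682450), (nat_lit 14688364), (nat_lit 14709264), (nat_lit 14714004), (nat_lit 14716939), (nat_lit 14747201), (nat_lit 14762146), (nat_lit 14828808), (nat_lit 14919680), (nat_lit 14949408), (nat_lit 14950785),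
 (nat_lit 15073798), (nat_lit 15207048), (nat_lit 15274244), (nat_lit 15335473), (nat_lit 15515712), (nat_lit 15747077), (nat_lit 15762208), (nat_lit 15864000), (nat_lit 16056344), (nat_lit 16262146)]
noncomputable def oc2 : SC := (SC.step (nat_lit 12582919) 3 (SC.sym (nat_lit 12584231) (nat_lit 0xbdaae845287acaca1e53234ca18820) (nat_lit 12656663)
 (SC.sym (nat_lit 13107399) (nat_lit 0xbdaab426537d0cc71230515a718820) (nat_lit 12656663)
 (SC.cas (nat_lit 12656663)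
 (SC.step (nat_lit 12582925) 3 (SC.cas (nat_lit 13370381)
 (SC.step (nat_lit 12582926) 3 (SC.cas (nat_lit 13631886)
 (SC.step (nat_lit 12582940) 3 (SC.cas (nat_lit 12720156)
 (SC.step (nat_lit 12583436) 3 (SC.cas (nat_lit 12698124)
 (SC.step (nat_lit 12583188) 3 (SC.cas (nat_lit 12861748)
 (SC.step (nat_lit 12582996) 3 (SC.cas (nat_lit 14156372)
 (SC.step (nat_lit 12910596) 3 (SC.cas (nat_lit 12912836)
 (SC.step (nat_lit 12648484) 3 (SC.cas (nat_lit 13829156)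
 (SC.step (nat_lit 12849156) 3 (SC.cas (nat_lit 13938692)
 (SC.step (nat_lit 12582949) 3 (SC.cas (nat_lit 12587685)
 (SC.step (nat_lit 12582950) 3 (SC.cas (nat_lit 13142054)
 (SC.step (nat_lit 12582981) 3 (SC.cas (nat_lit 12747077)
 (SC.step (nat_lit 12583684) 3 (SC.cas (nat_lit 12594948)
 (SC.step (nat_lit 12587014) 3 (SC.cas (nat_lit 12604486)
 (SC.step (nat_lit 12591236) 3 (SC.cas (nat_lit 13262980)
 (SC.step (nat_lit 12582937) 3 (SC.cas (nat_lit 12599513)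
 (SC.step (nat_lit 12583088) 3 (SC.cas (nat_lit 13641904)
 (SC.step (nat_lit 12584008) 3 (SC.cas (nat_lit 13667400)
 (SC.step (nat_lit 12599329) 3 (SC.cas (nat_lit 12641313)
 (SC.step (nat_lit 12582938) 3 (SC.cas (nat_lit 12584506)
 (SC.step (nat_lit 12583024) 3 (SC.cas (nat_lit 12685424)
 (SC.step (nat_lit 12583080) 3 (SC.cas (nat_lit 13009064)
 (SC.step (nat_lit 12583192) 3 (SC.cas (nat_lit 13148440)
 (SC.step (nat_lit 12583490) 3 (SC.cas (nat_lit 12624578)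
 (SC.step (nat_lit 12584016) 3 (SC.cas (nat_lit 12985424)
 (SC.step (nat_lit 12584032) 3 (SC.cas (nat_lit 13108704)
 (SC.step (nat_lit 12584072) 3 (SC.cas (nat_lit 12661896)
 (SC.step (nat_lit 12582947) 3 (SC.cas (nat_lit 13893731)
 (SC.step (nat_lit 12582953) 3 (SC.cas (nat_lit 12650793)
 (SC.step (nat_lit 12582986) 3 (SC.cas (nat_lit 13303882)
 (SC.step (nat_lit 12583202) 3 (SC.cas (nat_lit 12726562)
 (SC.step (nat_lit 12583520) 3 (SC.cas (nat_lit 12733024)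
 (SC.step (nat_lit 12585025) 3 (SC.cas (nat_lit 13121601)
 (SC.step (nat_lit 12845066) 3 (SC.cas (nat_lit 12871690)
 (SC.step (nat_lit 12845128) 3 (SC.cas (nat_lit 12849992)
 (SC.step (nat_lit 12845600) 3 (SC.cas (nat_lit 13443616)
 (SC.step (nat_lit 13631497) 3 (SC.cas (nat_lit 13771273)
 (SC.step (nat_lit 13631528) 3 (SC.cas (nat_lit 14176296)
 (SC.step (nat_lit 13631808) 3 (SC.cas (nat_lit 13721920)
 (SC.step (nat_lit 12583043) 3 (SC.cas (nat_lit 12717187)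
 (SC.step (nat_lit 12583058) 3 (SC.cas (nat_lit 13373586)
 (SC.step (nat_lit 12583171) 3 (SC.cas (nat_lit 13124355)
 (SC.step (nat_lit 12583953) 3 (SC.cas (nat_lit 13636881)
 (SC.step (nat_lit 12584194) 3 (SC.cas (nat_lit 12944642)
 (SC.step (nat_lit 12584576) 3 (SC.cas (nat_lit 13911680)
 (SC.step (nat_lit 12584977) 3 (SC.cas (nat_lit 12880401)
 (SC.step (nat_lit 12585344) 3 (SC.cas (nat_lit 12638592)
 (SC.step (nat_lit 12585474) 3 (SC.cas (nat_lit 13703682)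
 (SC.step (nat_lit 12586000) 3 (SC.cas (nat_lit 13192208)
 (SC.step (nat_lit 12615809) 3 (SC.cas (nat_lit 14254209)
 (SC.step (nat_lit 12714002) 3 (SC.cas (nat_lit 13811730)
 (SC.step (nat_lit 12714128) 3 (SC.cas (nat_lit 12780432)
 (SC.step (nat_lit 12715520) 3 (SC.cas (nat_lit 13276672)
 (SC.step (nat_lit 12716288) 3 (SC.cas (nat_lit 14551296)
 (SC.step (nat_lit 12718081) 3 (SC.cas (nat_lit 13062145)
 (SC.sub oK1 SC.fin) SC.nil)) SC.nil)) SC.nil)) SC.nil)) SC.nil)) SC.nil)) SC.nil)) SC.nil)) SC.nil)) SC.nil)) SC.nil)) SC.nil)) SC.nil)) SC.nil)) SC.nil)) SC.nil)) SC.nil)) SC.nil)) SC.nil)) SC.nil)) SC.nil)) SC.nil)) SC.nil)) SC.nil)) SC.nil)) SC.nil)) SC.nil)) SC.nil)) SC.nil)) SC.nil)) SC.nil)) SC.nil)) SC.nil)) SC.nil)) SC.nil)) SC.nil)) SC.nil)) SC.nil)) SC.nil)) SC.nil)) SC.nil)) SC.nil)) SC.nil)) SC.nil)) SC.nil)) SC.nil)) SC.nil)) SC.nil)) SC.nil)) SC.nil)) SC.nil)) SC.nil)) SC.nil)) SC.nil)) SC.nil))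 SC.nil))))
theorem ok2 : oc2.chk 24 5 8 true [oK1] true oK2 = true := by decide +kernel
theorem og3 (C : H7.Coding X) (hn : C.n = 24) : Good C 5 8 (UQ 24 oL) oK2 :=
  chk_good hn (by norm_num) UQ.inv (List.forall_mem_singleton.2 (og2 C hn)) ok2
noncomputable def oc3 : SC := (SC.step (nat_lit 14680067) 1 (SC.sym (nat_lit 14680075) (nat_lit 0xbdab49ca307b9ac5a928398a410c20) (nat_lit 14680071)
 (SC.sym (nat_lit 14680083) (nat_lit 0xbdab49ca307b9ac5a928398a311020) (nat_lit 14680071)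
 (SC.sym (nat_lit 14680099) (nat_lit 0xbdab49ca307b9ac5a9283988311420) (nat_lit 14680071)
 (SC.sym (nat_lit 14680131) (nat_lit 0xbdab49ca307b9ac5a9283948311820) (nat_lit 14680071)
 (SC.sym (nat_lit 14680195) (nat_lit 0xbdab49ca307b9ac5a9283148311c20) (nat_lit 14680071)
 (SC.sym (nat_lit 14680323) (nat_lit 0xbdab49ca307b9ac5a9273148312020) (nat_lit 14680071)
 (SC.sym (nat_lit 14680579) (nat_lit 0xbdab49ca307b9ac5a9073148312420) (nat_lit 14680071)
 (SC.sym (nat_lit 14681091) (nat_lit 0xbdab49ca307b9ac5a5073148312820) (nat_lit 14680071)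
 (SC.sym (nat_lit 14682115) (nat_lit 0xbdab49ca307b9ac525073148312c20) (nat_lit 14680071)
 (SC.sym (nat_lit 14684163) (nat_lit 0xbdab49ca307b9ab525073148313020) (nat_lit 14680071)
 (SC.sym (nat_lit 14688259) (nat_lit 0xbdab49ca307b98b525073148313420) (nat_lit 14680071)
 (SC.sym (nat_lit 14696451) (nat_lit 0xbdab49ca307b58b525073148313820) (nat_lit 14680071)
 (SC.sym (nat_lit 14712835) (nat_lit 0xbdab49ca307358b525073148313c20) (nat_lit 14680071)
 (SC.sym (nat_lit 14745603) (nat_lit 0xbdab49ca2f7358b525073148314020) (nat_lit 14680071)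
 (SC.sym (nat_lit 14811139) (nat_lit 0xbdab49ca0f7358b525073148314420) (nat_lit 14680071)
 (SC.sym (nat_lit 14942211) (nat_lit 0xbdab49c60f7358b525073148314820) (nat_lit 14680071)
 (SC.sym (nat_lit 15204355) (nat_lit 0xbdab49460f7358b525073148314c20) (nat_lit 14680071)
 (SC.sym (nat_lit 15728643) (nat_lit 0xbdab39460f7358b525073148315020) (nat_lit 14680071)
 (SC.cas (nat_lit 14680071)
 (SC.step (nat_lit 14680071) 1 (SC.sym (nat_lit 14680087) (nat_lit 0xbdab49ca307b9ac5a928398a320820) (nat_lit 14680079)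
 (SC.sym (nat_lit 14680103) (nat_lit 0xbdab49ca307b9ac5a9283988328820) (nat_lit 14680079)
 (SC.sym (nat_lit 14680135) (nat_lit 0xbdab49ca307b9ac5a9283948330820) (nat_lit 14680079)
 (SC.sym (nat_lit 14680199) (nat_lit 0xbdab49ca307b9ac5a9283148338820) (nat_lit 14680079)
 (SC.sym (nat_lit 14680327) (nat_lit 0xbdab49ca307b9ac5a9273148340820) (nat_lit 14680079)
 (SC.sym (nat_lit 14680583) (nat_lit 0xbdab49ca307b9ac5a9073148348820) (nat_lit 14680079)
 (SC.sym (nat_lit 14681095) (nat_lit 0xbdab49ca307b9ac5a5073148350820) (nat_lit 14680079)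
 (SC.sym (nat_lit 14682119) (nat_lit 0xbdab49ca307b9ac525073148358820) (nat_lit 14680079)
 (SC.sym (nat_lit 14684167) (nat_lit 0xbdab49ca307b9ab525073148360820) (nat_lit 14680079)
 (SC.sym (nat_lit 14688263) (nat_lit 0xbdab49ca307b98b525073148368820) (nat_lit 14680079)
 (SC.sym (nat_lit 14696455) (nat_lit 0xbdab49ca307b58b525073148370820) (nat_lit 14680079)
 (SC.sym (nat_lit 14712839) (nat_lit 0xbdab49ca307358b525073148378820) (nat_lit 14680079)
 (SC.sym (nat_lit 14745607) (nat_lit 0xbdab49ca2f7358b525073148380820) (nat_lit 14680079)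
 (SC.sym (nat_lit 14811143) (nat_lit 0xbdab49ca0f7358b525073148388820) (nat_lit 14680079)
 (SC.sym (nat_lit 14942215) (nat_lit 0xbdab49c60f7358b525073148390820) (nat_lit 14680079)
 (SC.sym (nat_lit 15204359) (nat_lit 0xbdab49460f7358b525073148398820) (nat_lit 14680079)
 (SC.sym (nat_lit 15728647) (nat_lit 0xbdab39460f7358b5250731483a0820) (nat_lit 14680079)
 (SC.cas (nat_lit 14680079)
 (SC.sub [(nat_lit 14680079)]
 (SC.step (nat_lit 14680079) 1 (SC.sym (nat_lit 14680111) (nat_lit 0xbdab49ca307b9ac5a9283988518820) (nat_lit 14680095)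
 (SC.sym (nat_lit 14680143) (nat_lit 0xbdab49ca307b9ac5a9283948618820) (nat_lit 14680095)
 (SC.sym (nat_lit 14680207) (nat_lit 0xbdab49ca307b9ac5a9283148718820) (nat_lit 14680095)
 (SC.sym (nat_lit 14680335) (nat_lit 0xbdab49ca307b9ac5a9273148818820) (nat_lit 14680095)
 (SC.sym (nat_lit 14680591) (nat_lit 0xbdab49ca307b9ac5a9073148918820) (nat_lit 14680095)
 (SC.sym (nat_lit 14681103) (nat_lit 0xbdab49ca307b9ac5a5073148a18820) (nat_lit 14680095)
 (SC.sym (nat_lit 14682127) (nat_lit 0xbdab49ca307b9ac525073148b18820) (nat_lit 14680095)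
 (SC.sym (nat_lit 14684175) (nat_lit 0xbdab49ca307b9ab525073148c18820) (nat_lit 14680095)
 (SC.sym (nat_lit 14688271) (nat_lit 0xbdab49ca307b98b525073148d18820) (nat_lit 14680095)
 (SC.sym (nat_lit 14696463) (nat_lit 0xbdab49ca307b58b525073148e18820) (nat_lit 14680095)
 (SC.sym (nat_lit 14712847) (nat_lit 0xbdab49ca307358b525073148f18820) (nat_lit 14680095)
 (SC.sym (nat_lit 14745615) (nat_lit 0xbdab49ca2f7358b525073149018820) (nat_lit 14680095)
 (SC.sym (nat_lit 14811151) (nat_lit 0xbdab49ca0f7358b525073149118820) (nat_lit 14680095)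
 (SC.sym (nat_lit 14942223) (nat_lit 0xbdab49c60f7358b525073149218820) (nat_lit 14680095)
 (SC.sym (nat_lit 15204367) (nat_lit 0xbdab49460f7358b525073149318820) (nat_lit 14680095)
 (SC.sym (nat_lit 15728655) (nat_lit 0xbdab39460f7358b525073149418820) (nat_lit 14680095)
 (SC.cas (nat_lit 14680095)
 (SC.sub [(nat_lit 14680095)]
 (SC.step (nat_lit 14680097) 1 (SC.sym (nat_lit 14680225) (nat_lit 0xbdab49ca307b9ac5a92831ca418820) (nat_lit 14680161)
 (SC.sym (nat_lit 14680353) (nat_lit 0xbdab49ca307b9ac5a927320a418820) (nat_lit 14680161)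
 (SC.sym (nat_lit 14680609) (nat_lit 0xbdab49ca307b9ac5a907324a418820) (nat_lit 14680161)
 (SC.sym (nat_lit 14681121) (nat_lit 0xbdab49ca307b9ac5a507328a418820) (nat_lit 14680161)
 (SC.sym (nat_lit 14682145) (nat_lit 0xbdab49ca307b9ac5250732ca418820) (nat_lit 14680161)
 (SC.sym (nat_lit 14684193) (nat_lit 0xbdab49ca307b9ab52507330a418820) (nat_lit 14680161)
 (SC.sym (nat_lit 14688289) (nat_lit 0xbdab49ca307b98b52507334a418820) (nat_lit 14680161)
 (SC.sym (nat_lit 14696481) (nat_lit 0xbdab49ca307b58b52507338a418820) (nat_lit 14680161)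
 (SC.sym (nat_lit 14712865) (nat_lit 0xbdab49ca307358b5250733ca418820) (nat_lit 14680161)
 (SC.sym (nat_lit 14745633) (nat_lit 0xbdab49ca2f7358b52507340a418820) (nat_lit 14680161)
 (SC.sym (nat_lit 14811169) (nat_lit 0xbdab49ca0f7358b52507344a418820) (nat_lit 14680161)
 (SC.sym (nat_lit 14942241) (nat_lit 0xbdab49c60f7358b52507348a418820) (nat_lit 14680161)
 (SC.sym (nat_lit 15204385) (nat_lit 0xbdab49460f7358b5250734ca418820) (nat_lit 14680161)
 (SC.sym (nat_lit 15728673) (nat_lit 0xbdab39460f7358b52507350a418820) (nat_lit 14680161)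
 (SC.cas (nat_lit 14680161)
 (SC.step (nat_lit 14680161) 1 (SC.sym (nat_lit 14680417) (nat_lit 0xbdab49ca307b9ac5a927418a418820) (nat_lit 14680289)
 (SC.sym (nat_lit 14680673) (nat_lit 0xbdab49ca307b9ac5a907498a418820) (nat_lit 14680289)
 (SC.sym (nat_lit 14681185) (nat_lit 0xbdab49ca307b9ac5a507518a418820) (nat_lit 14680289)
 (SC.sym (nat_lit 14682209) (nat_lit 0xbdab49ca307b9ac52507598a418820) (nat_lit 14680289)
 (SC.sym (nat_lit 14684257) (nat_lit 0xbdab49ca307b9ab52507618a418820) (nat_lit 14680289)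
 (SC.sym (nat_lit 14688353) (nat_lit 0xbdab49ca307b98b52507698a418820) (nat_lit 14680289)
 (SC.sym (nat_lit 14696545) (nat_lit 0xbdab49ca307b58b52507718a418820) (nat_lit 14680289)
 (SC.sym (nat_lit 14712929) (nat_lit 0xbdab49ca307358b52507798a418820) (nat_lit 14680289)
 (SC.sym (nat_lit 14745697) (nat_lit 0xbdab49ca2f7358b52507818a418820) (nat_lit 14680289)
 (SC.sym (nat_lit 14811233) (nat_lit 0xbdab49ca0f7358b52507898a418820) (nat_lit 14680289)
 (SC.sym (nat_lit 14942305) (nat_lit 0xbdab49c60f7358b52507918a418820) (nat_lit 14680289)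
 (SC.sym (nat_lit 15204449) (nat_lit 0xbdab49460f7358b52507998a418820) (nat_lit 14680289)
 (SC.sym (nat_lit 15728737) (nat_lit 0xbdab39460f7358b52507a18a418820) (nat_lit 14680289)
 (SC.cas (nat_lit 14680289)
 (SC.sub [(nat_lit 14680289), (nat_lit 14680095)]
 (SC.step (nat_lit 14680289) 1 (SC.sym (nat_lit 14680801) (nat_lit 0xbdab49ca307b9ac5a909398a418820) (nat_lit 14680545)
 (SC.sym (nat_lit 14681313) (nat_lit 0xbdab49ca307b9ac5a50a398a418820) (nat_lit 14680545)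
 (SC.sym (nat_lit 14682337) (nat_lit 0xbdab49ca307b9ac5250b398a418820) (nat_lit 14680545)
 (SC.sym (nat_lit 14684385) (nat_lit 0xbdab49ca307b9ab5250c398a418820) (nat_lit 14680545)
 (SC.sym (nat_lit 14688481) (nat_lit 0xbdab49ca307b98b5250d398a418820) (nat_lit 14680545)
 (SC.sym (nat_lit 14696673) (nat_lit 0xbdab49ca307b58b5250e398a418820) (nat_lit 14680545)
 (SC.sym (nat_lit 14713057) (nat_lit 0xbdab49ca307358b5250f398a418820) (nat_lit 14680545)
 (SC.sym (nat_lit 14745825) (nat_lit 0xbdab49ca2f7358b52510398a418820) (nat_lit 14680545)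
 (SC.sym (nat_lit 14811361) (nat_lit 0xbdab49ca0f7358b52511398a418820) (nat_lit 14680545)
 (SC.sym (nat_lit 14942433) (nat_lit 0xbdab49c60f7358b52512398a418820) (nat_lit 14680545)
 (SC.sym (nat_lit 15204577) (nat_lit 0xbdab49460f7358b52513398a418820) (nat_lit 14680545)
 (SC.sym (nat_lit 15728865) (nat_lit 0xbdab39460f7358b52514398a418820) (nat_lit 14680545)
 (SC.cas (nat_lit 14680545)
 (SC.sub [(nat_lit 14680545), (nat_lit 14680095)]
 (SC.step (nat_lit 14680577) 1 (SC.sym (nat_lit 14682625) (nat_lit 0xbdab49ca307b9ac52d28398a418820) (nat_lit 14681601)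
 (SC.sym (nat_lit 14684673) (nat_lit 0xbdab49ca307b9ab53128398a418820) (nat_lit 14681601)
 (SC.sym (nat_lit 14688769) (nat_lit 0xbdab49ca307b98b53528398a418820) (nat_lit 14681601)
 (SC.sym (nat_lit 14696961) (nat_lit 0xbdab49ca307b58b53928398a418820) (nat_lit 14681601)
 (SC.sym (nat_lit 14713345) (nat_lit 0xbdab49ca307358b53d28398a418820) (nat_lit 14681601)
 (SC.sym (nat_lit 14746113) (nat_lit 0xbdab49ca2f7358b54128398a418820) (nat_lit 14681601)
 (SC.sym (nat_lit 14811649) (nat_lit 0xbdab49ca0f7358b54528398a418820) (nat_lit 14681601)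
 (SC.sym (nat_lit 14942721) (nat_lit 0xbdab49c60f7358b54928398a418820) (nat_lit 14681601)
 (SC.sym (nat_lit 15204865) (nat_lit 0xbdab49460f7358b54d28398a418820) (nat_lit 14681601)
 (SC.sym (nat_lit 15729153) (nat_lit 0xbdab39460f7358b55128398a418820) (nat_lit 14681601)
 (SC.cas (nat_lit 14681601)
 (SC.step (nat_lit 14681601) 1 (SC.sym (nat_lit 14685697) (nat_lit 0xbdab49ca307b9ab62928398a418820) (nat_lit 14683649)
 (SC.sym (nat_lit 14689793) (nat_lit 0xbdab49ca307b98b6a928398a418820) (nat_lit 14683649)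
 (SC.sym (nat_lit 14697985) (nat_lit 0xbdab49ca307b58b72928398a418820) (nat_lit 14683649)
 (SC.sym (nat_lit 14714369) (nat_lit 0xbdab49ca307358b7a928398a418820) (nat_lit 14683649)
 (SC.sym (nat_lit 14747137) (nat_lit 0xbdab49ca2f7358b82928398a418820) (nat_lit 14683649)
 (SC.sym (nat_lit 14812673) (nat_lit 0xbdab49ca0f7358b8a928398a418820) (nat_lit 14683649)
 (SC.sym (nat_lit 14943745) (nat_lit 0xbdab49c60f7358b92928398a418820) (nat_lit 14683649)
 (SC.sym (nat_lit 15205889) (nat_lit 0xbdab49460f7358b9a928398a418820) (nat_lit 14683649)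
 (SC.sym (nat_lit 15730177) (nat_lit 0xbdab39460f7358ba2928398a418820) (nat_lit 14683649)
 (SC.cas (nat_lit 14683649)
 (SC.sub [(nat_lit 14683649), (nat_lit 14680545), (nat_lit 14680095)]
 (SC.step (nat_lit 14683649) 1 (SC.sym (nat_lit 14691841) (nat_lit 0xbdab49ca307b98d5a928398a418820) (nat_lit 14687745)
 (SC.sym (nat_lit 14700033) (nat_lit 0xbdab49ca307b58e5a928398a418820) (nat_lit 14687745)
 (SC.sym (nat_lit 14716417) (nat_lit 0xbdab49ca307358f5a928398a418820) (nat_lit 14687745)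
 (SC.sym (nat_lit 14749185) (nat_lit 0xbdab49ca2f735905a928398a418820) (nat_lit 14687745)
 (SC.sym (nat_lit 14814721) (nat_lit 0xbdab49ca0f735915a928398a418820) (nat_lit 14687745)
 (SC.sym (nat_lit 14945793) (nat_lit 0xbdab49c60f735925a928398a418820) (nat_lit 14687745)
 (SC.sym (nat_lit 15207937) (nat_lit 0xbdab49460f735935a928398a418820) (nat_lit 14687745)
 (SC.sym (nat_lit 15732225) (nat_lit 0xbdab39460f735945a928398a418820) (nat_lit 14687745)
 (SC.cas (nat_lit 14687745)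
 (SC.sub [(nat_lit 14687745), (nat_lit 14680545), (nat_lit 14680095)]
 (SC.step (nat_lit 14688257) 1 (SC.sym (nat_lit 14721025) (nat_lit 0xbdab49ca3073dac5a928398a418820) (nat_lit 14704641)
 (SC.sym (nat_lit 14753793) (nat_lit 0xbdab49ca2f741ac5a928398a418820) (nat_lit 14704641)
 (SC.sym (nat_lit 14819329) (nat_lit 0xbdab49ca0f745ac5a928398a418820) (nat_lit 14704641)
 (SC.sym (nat_lit 14950401) (nat_lit 0xbdab49c60f749ac5a928398a418820) (nat_lit 14704641)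
 (SC.sym (nat_lit 15212545) (nat_lit 0xbdab49460f74dac5a928398a418820) (nat_lit 14704641)
 (SC.sym (nat_lit 15736833) (nat_lit 0xbdab39460f751ac5a928398a418820) (nat_lit 14704641)
 (SC.cas (nat_lit 14704641)
 (SC.step (nat_lit 14704641) 2 (SC.sym (nat_lit 14868481) (nat_lit 0xbdab49ca117b9ac5a928398a418820) (nat_lit 14802945)
 (SC.sym (nat_lit 14999553) (nat_lit 0xbdab49c6127b9ac5a928398a418820) (nat_lit 14802945)
 (SC.sym (nat_lit 15261697) (nat_lit 0xbdab4946137b9ac5a928398a418820) (nat_lit 14802945)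
 (SC.sym (nat_lit 15785985) (nat_lit 0xbdab3946147b9ac5a928398a418820) (nat_lit 14802945)
 (SC.sym (nat_lit 14901249) (nat_lit 0xbdab49c9f1839ac5a928398a418820) (nat_lit 14802945)
 (SC.sym (nat_lit 15032321) (nat_lit 0xbdab49c5f2839ac5a928398a418820) (nat_lit 14802945)
 (SC.sym (nat_lit 15294465) (nat_lit 0xbdab4945f3839ac5a928398a418820) (nat_lit 14802945)
 (SC.sym (nat_lit 15818753) (nat_lit 0xbdab3945f4839ac5a928398a418820) (nat_lit 14802945)
 (SC.sym (nat_lit 15097857) (nat_lit 0xbdab49c1f28b9ac5a928398a418820) (nat_lit 14802945)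
 (SC.sym (nat_lit 15360001) (nat_lit 0xbdab4941f38b9ac5a928398a418820) (nat_lit 14802945)
 (SC.sym (nat_lit 15884289) (nat_lit 0xbdab3941f48b9ac5a928398a418820) (nat_lit 14802945)
 (SC.sym (nat_lit 15491073) (nat_lit 0xbdab48c1f3939ac5a928398a418820) (nat_lit 14802945)
 (SC.sym (nat_lit 16015361) (nat_lit 0xbdab38c1f4939ac5a928398a418820) (nat_lit 14802945)
 (SC.sym (nat_lit 16277505) (nat_lit 0xbdab28c1f49b9ac5a928398a418820) (nat_lit 14802945)
 (SC.cas (nat_lit 14802945)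
 (SC.sub [(nat_lit 14802945), (nat_lit 14687745), (nat_lit 14680545), (nat_lit 14680095)]
 (SC.step (nat_lit 14811137) 3 (SC.cas (nat_lit 16646145)
 (SC.step (nat_lit 14680098) 1 (SC.sym (nat_lit 14681122) (nat_lit 0xbdab49ca307b9ac5a548398a418820) (nat_lit 14680610)
 (SC.sym (nat_lit 14682146) (nat_lit 0xbdab49ca307b9ac52568398a418820) (nat_lit 14680610)
 (SC.sym (nat_lit 14684194) (nat_lit 0xbdab49ca307b9ab52588398a418820) (nat_lit 14680610)
 (SC.sym (nat_lit 14688290) (nat_lit 0xbdab49ca2c5a9307b9a8398a418820) (nat_lit 14680610)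
 (SC.sym (nat_lit 14696482) (nat_lit 0xbdab49ca2c5a9307b5c8398a418820) (nat_lit 14680610)
 (SC.sym (nat_lit 14712866) (nat_lit 0xbdab49ca2c5a930735e8398a418820) (nat_lit 14680610)
 (SC.sym (nat_lit 14745634) (nat_lit 0xbdab49ca2c5a92f73608398a418820) (nat_lit 14680610)
 (SC.sym (nat_lit 14811170) (nat_lit 0xbdab07b9ac5a9349ca28398a418820) (nat_lit 14680610)
 (SC.sym (nat_lit 14942242) (nat_lit 0xbdab07b9ac5a9349c648398a418820) (nat_lit 14680610)
 (SC.sym (nat_lit 15204386) (nat_lit 0xbdab07b9ac5a93494668398a418820) (nat_lit 14680610)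
 (SC.sym (nat_lit 15728674) (nat_lit 0xbdab07b9ac5a93394688398a418820) (nat_lit 14680610)
 (SC.cas (nat_lit 14680610)
 (SC.step (nat_lit 14680610) 2 (SC.sym (nat_lit 14950946) (nat_lit 0xbdab49c6507b9ac5a928398a418820) (nat_lit 14819874)
 (SC.sym (nat_lit 15213090) (nat_lit 0xbdab4946707b9ac5a928398a418820) (nat_lit 14819874)
 (SC.sym (nat_lit 15737378) (nat_lit 0xbdab3946907b9ac5a928398a418820) (nat_lit 14819874)
 (SC.sym (nat_lit 14828066) (nat_lit 0xbdab49ca307b5cc5a928398a418820) (nat_lit 14819874)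
 (SC.sym (nat_lit 14959138) (nat_lit 0xbdab49c6507b5cc5a928398a418820) (nat_lit 14819874)
 (SC.sym (nat_lit 15221282) (nat_lit 0xbdab4946707b5cc5a928398a418820) (nat_lit 14819874)
 (SC.sym (nat_lit 15745570) (nat_lit 0xbdab3946907b5cc5a928398a418820) (nat_lit 14819874)
 (SC.sym (nat_lit 14844450) (nat_lit 0xbdab49ca30735ec5a928398a418820) (nat_lit 14819874)
 (SC.sym (nat_lit 14975522) (nat_lit 0xbdab49c650735ec5a928398a418820) (nat_lit 14819874)
 (SC.sym (nat_lit 15237666) (nat_lit 0xbdab494670735ec5a928398a418820) (nat_lit 14819874)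
 (SC.sym (nat_lit 15761954) (nat_lit 0xbdab394690735ec5a928398a418820) (nat_lit 14819874)
 (SC.sym (nat_lit 14877218) (nat_lit 0xbdab49ca2f7360c5a928398a418820) (nat_lit 14819874)
 (SC.sym (nat_lit 15008290) (nat_lit 0xbdab49c64f7360c5a928398a418820) (nat_lit 14819874)
 (SC.sym (nat_lit 15270434) (nat_lit 0xbdab49466f7360c5a928398a418820) (nat_lit 14819874)
 (SC.sym (nat_lit 15794722) (nat_lit 0xbdab39468f7360c5a928398a418820) (nat_lit 14819874)
 (SC.cas (nat_lit 14819874)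
 (SC.sub [(nat_lit 14819874), (nat_lit 16646145), (nat_lit 14802945), (nat_lit 14687745), (nat_lit 14680545), (nat_lit 14680095)]
 (SC.step (nat_lit 14680100) 3 (SC.sym (nat_lit 15221796) (nat_lit 0xbdab494e307b9ac5a928398a418820) (nat_lit 14959652)
 (SC.sym (nat_lit 15746084) (nat_lit 0xbdab3952307b9ac5a928398a418820) (nat_lit 14959652)
 (SC.sym (nat_lit 14976036) (nat_lit 0xbdab49ca3073dac5a928398a418820) (nat_lit 14959652)
 (SC.sym (nat_lit 15238180) (nat_lit 0xbdab494e3073dac5a928398a418820) (nat_lit 14959652)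
 (SC.sym (nat_lit 15762468) (nat_lit 0xbdab39523073dac5a928398a418820) (nat_lit 14959652)
 (SC.sym (nat_lit 15008804) (nat_lit 0xbdab49ca2f741ac5a928398a418820) (nat_lit 14959652)
 (SC.sym (nat_lit 15270948) (nat_lit 0xbdab494e2f741ac5a928398a418820) (nat_lit 14959652)
 (SC.sym (nat_lit 15795236) (nat_lit 0xbdab39522f741ac5a928398a418820) (nat_lit 14959652)
 (SC.sym (nat_lit 14960676) (nat_lit 0xbdab49ca307b9ac52d28398a418820) (nat_lit 14959652)
 (SC.sym (nat_lit 15222820) (nat_lit 0xbdab494e307b9ac52d28398a418820) (nat_lit 14959652)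
 (SC.sym (nat_lit 15747108) (nat_lit 0xbdab3952307b9ac52d28398a418820) (nat_lit 14959652)
 (SC.sym (nat_lit 14977060) (nat_lit 0xbdab49ca3073dac52d28398a418820) (nat_lit 14959652)
 (SC.sym (nat_lit 15239204) (nat_lit 0xbdab494e3073dac52d28398a418820) (nat_lit 14959652)
 (SC.sym (nat_lit 15763492) (nat_lit 0xbdab39523073dac52d28398a418820) (nat_lit 14959652)
 (SC.sym (nat_lit 15009828) (nat_lit 0xbdab49ca2f741ac52d28398a418820) (nat_lit 14959652)
 (SC.sym (nat_lit 15271972) (nat_lit 0xbdab494e2f741ac52d28398a418820) (nat_lit 14959652)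
 (SC.sym (nat_lit 15796260) (nat_lit 0xbdab39522f741ac52d28398a418820) (nat_lit 14959652)
 (SC.sym (nat_lit 14962724) (nat_lit 0xbdab49ca307b9ab53128398a418820) (nat_lit 14959652)
 (SC.sym (nat_lit 15224868) (nat_lit 0xbdab494e307b9ab53128398a418820) (nat_lit 14959652)
 (SC.sym (nat_lit 15749156) (nat_lit 0xbdab3952307b9ab53128398a418820) (nat_lit 14959652)
 (SC.sym (nat_lit 14979108) (nat_lit 0xbdab49ca3073dab53128398a418820) (nat_lit 14959652)
 (SC.sym (nat_lit 15241252) (nat_lit 0xbdab494e3073dab53128398a418820) (nat_lit 14959652)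
 (SC.sym (nat_lit 15765540) (nat_lit 0xbdab39523073dab53128398a418820) (nat_lit 14959652)
 (SC.sym (nat_lit 15011876) (nat_lit 0xbdab49ca2f741ab53128398a418820) (nat_lit 14959652)
 (SC.sym (nat_lit 15274020) (nat_lit 0xbdab494e2f741ab53128398a418820) (nat_lit 14959652)
 (SC.sym (nat_lit 15798308) (nat_lit 0xbdab39522f741ab53128398a418820) (nat_lit 14959652)
 (SC.cas (nat_lit 14959652)
 (SC.step (nat_lit 14680104) 3 (SC.sym (nat_lit 15763496) (nat_lit 0xbdab3a4a307b9ac5a928398a418820) (nat_lit 15239208)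
 (SC.sym (nat_lit 15271976) (nat_lit 0xbdab49ca2f839ac5a928398a418820) (nat_lit 15239208)
 (SC.sym (nat_lit 15796264) (nat_lit 0xbdab3a4a2f839ac5a928398a418820) (nat_lit 15239208)
 (SC.sym (nat_lit 15241256) (nat_lit 0xbdab49ca307b9ab62928398a418820) (nat_lit 15239208)
 (SC.sym (nat_lit 15765544) (nat_lit 0xbdab3a4a307b9ab62928398a418820) (nat_lit 15239208)
 (SC.sym (nat_lit 15274024) (nat_lit 0xbdab49ca2f839ab62928398a418820) (nat_lit 15239208)
 (SC.sym (nat_lit 15798312) (nat_lit 0xbdab3a4a2f839ab62928398a418820) (nat_lit 15239208)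
 (SC.cas (nat_lit 15239208)
 (SC.step (nat_lit 14680112) 3 (SC.cas (nat_lit 15798320)
 (SC.step (nat_lit 14680580) 3 (SC.sym (nat_lit 15270468) (nat_lit 0xbdab07b9b49ca2c5a928398a418820) (nat_lit 15761988)
 (SC.sym (nat_lit 15762052) (nat_lit 0xbdab49ca307b9ac5a92831ca418820) (nat_lit 15761988)
 (SC.sym (nat_lit 15270532) (nat_lit 0xbdab07b9b49ca2c5a92831ca418820) (nat_lit 15761988)
 (SC.sym (nat_lit 15762180) (nat_lit 0xbdab49ca307b9ac5a927320a418820) (nat_lit 15761988)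
 (SC.sym (nat_lit 15270660) (nat_lit 0xbdab07b9b49ca2c5a927320a418820) (nat_lit 15761988)
 (SC.cas (nat_lit 15761988)
 (SC.step (nat_lit 14680584) 3 (SC.sym (nat_lit 15008520) (nat_lit 0xbdab49ca307b9ac5a927418a418820) (nat_lit 15008392)
 (SC.cas (nat_lit 15008392)
 (SC.step (nat_lit 14680592) 3 (SC.cas (nat_lit 15221520)
 (SC.step (nat_lit 14696456) 3 (SC.cas (nat_lit 14831688)
 (SC.step (nat_lit 14680328) 3 (SC.cas (nat_lit 15738120)
 (SC.step (nat_lit 14696450) 3 (SC.cas (nat_lit 15747202)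
 (SC.step (nat_lit 14680130) 3 (SC.cas (nat_lit 15270978)
 (SC.step (nat_lit 14680144) 3 (SC.cas (nat_lit 14952528)
 (SC.step (nat_lit 14680322) 3 (SC.cas (nat_lit 14979330)
 (SC.step (nat_lit 14681104) 3 (SC.cas (nat_lit 14845072)
 (SC.step (nat_lit 14745604) 3 (SC.cas (nat_lit 14878980)
 (SC.step (nat_lit 15204356) 3 (SC.cas (nat_lit 15216772)
 (SC.rel (nat_lit 0xbdaa75b533219c34522f8494c11420) oK2 SC.fin) SC.nil)) SC.nil)) SC.nil)) SC.nil)) SC.nil)) SC.nil)) SC.nil)) SC.nil)) SC.nil)) SC.nil)) SC.nil))) SC.nil))))))) SC.nil)) SC.nil))))))))) SC.nil))))))))))))))))))))))))))))) SC.nil))))))))))))))))) SC.nil))))))))))))) SC.nil))) SC.nil)))))))))))))))) SC.nil))))))))) SC.nil))))))))))) SC.nil))))))))))) SC.nil))))))))))))) SC.nil))))))))))))))) SC.nil))))))))))))))) SC.nil))))))))))))))))) SC.nil))))))))))))))))))) SC.nil))))))))))))))))))) SC.nil))))))))))))))))))))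
theorem ok3 : oc3.chk 24 5 8 true [oK2] true [] = true := by decide +kernel
theorem og4 (C : H7.Coding X) (hn : C.n = 24) : Good C 5 8 (UQ 24 oL) [] :=
  chk_good hn (by norm_num) UQ.inv (List.forall_mem_singleton.2 (og3 C hn)) ok3
theorem ouq (hX : Fintype.card X = 24) {B : Set (Finset X)} (hB : IsSteinerSystem 5 8 B) : UQ 24 oL B :=
  UQ.of_good og4 hX hB

end H8.StB
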