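import Cfsg.Agent.H8.Stn2
import Cfsg.Agent.H8.StA
import Cfsg.Agent.H8.StB

/-! H8.StC: automorphism groups of the Steiner systems (generated certificate) -/

set_option autoImplicit false
set_option maxRecDepth 200000

set_option linter.all false
open Subgroup Cfsg

namespace H8.StC

variable {X : Type*} [Fintype X] [DecidableEq X]
noncomputable def est0 : ℕ := (nat_lit 0x9a876543210)
noncomputable def est1 : ℕ := (nat_lit 0xa8976543210)
noncomputable def est2 : ℕ := (nat_lit 0x87a96543210)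
noncomputable def est3 : ℕ := (nat_lit 0x86a79543210)
noncomputable def est4 : ℕ := (nat_lit 0x85a67943210)
noncomputable def est5 : ℕ := (nat_lit 0x84a67593210)
noncomputable def est6 : ℕ := (nat_lit 0xa3856749210)
noncomputable def est7 : ℕ := (nat_lit 0x427865a3910)
noncomputable def est8 : ℕ := (nat_lit 0x418765a3290)
noncomputable def est9 : ℕ := (nat_lit 0x104672835a9)
noncomputable def esT : Tr ℕ := (.node (nat_lit 5) (.node (nat_lit 2) (.node (nat_lit 1) (.leaf est0) (.leaf est1)) (.node (nat_lit 3) (.leaf est2) (.node (nat_lit 4) (.leaf est3) (.leaf est4))))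
 (.node (nat_lit 7) (.node (nat_lit 6) (.leaf est5) (.leaf est6)) (.node (nat_lit 8) (.leaf est7) (.node (nat_lit 9) (.leaf est8) (.leaf est9)))))
noncomputable def esL0 : Lev := ⟨(nat_lit 0), (nat_lit 10), (nat_lit 0x10a020304050607080900), (nat_lit 0x201020202020202020200),
 (.leaf 0),
 (.leaf 0)⟩
noncomputable def esL1 : Lev := ⟨(nat_lit 1), (nat_lit 9), (nat_lit 0x109020304050607080000), (nat_lit 0x201020202020202020000),
 (.leaf 0),
 (.leaf 0)⟩
noncomputable def esL2 : Lev := ⟨(nat_lit 2), (nat_lit 8), (nat_lit 0x108020304050607000000), (nat_lit 0x201020202020202000000),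
 (.leaf 0),
 (.leaf 0)⟩
noncomputable def esL3 : Lev := ⟨(nat_lit 3), (nat_lit 7), (nat_lit 0x107020304050600000000), (nat_lit 0x201020202020200000000),
 (.leaf 0),
 (.leaf 0)⟩
noncomputable def esL4 : Lev := ⟨(nat_lit 4), (nat_lit 6), (nat_lit 0x106020304050000000000), (nat_lit 0x201020202020000000000),
 (.leaf 0),
 (.leaf 0)⟩
noncomputable def esL5 : Lev := ⟨(nat_lit 5), (nat_lit 5), (nat_lit 0x105020304000000000000), (nat_lit 0x201020202000000000000),
 (.leaf 0),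
 (.leaf 0)⟩
noncomputable def esL6 : Lev := ⟨(nat_lit 6), (nat_lit 4), (nat_lit 0x104020300000000000000), (nat_lit 0x201020200000000000000),
 (.leaf 0),
 (.leaf 0)⟩
noncomputable def esL7 : Lev := ⟨(nat_lit 7), (nat_lit 3), (nat_lit 0x103020000000000000000), (nat_lit 0x201020000000000000000),
 (.leaf 0),
 (.leaf 0)⟩
noncomputable def esL8 : Lev := ⟨(nat_lit 8), (nat_lit 2), (nat_lit 0x102000000000000000000), (nat_lit 0x201000000000000000000),
 (.leaf 0),
 (.leaf 0)⟩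
noncomputable def esL9 : Lev := ⟨(nat_lit 9), (nat_lit 1), (nat_lit 0x100000000000000000000), (nat_lit 0x100000000000000000000),
 (.leaf 0),
 (.leaf 0)⟩
noncomputable def esL : List Lev := [esL0, esL1, esL2, esL3, esL4, esL5, esL6, esL7, esL8, esL9]
noncomputable def eat0 : ℕ := (nat_lit 0x9576438a210)
noncomputable def eat1 : ℕ := (nat_lit 0x3a487965210)
noncomputable def eat2 : ℕ := (nat_lit 0x8459a637210)
noncomputable def eat3 : ℕ := (nat_lit 0x67a35894210)
noncomputable def eat4 : ℕ := (nat_lit 0x478923a5610)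
noncomputable def eat5 : ℕ := (nat_lit 0x768a9521430)
noncomputable def eat6 : ℕ := (nat_lit 0xa5867902314)
noncomputable def eaT : Tr ℕ := (.node (nat_lit 3) (.node (nat_lit 1) (.leaf eat0) (.node (nat_lit 2) (.leaf eat1) (.leaf eat2)))
 (.node (nat_lit 5) (.node (nat_lit 4) (.leaf eat3) (.leaf eat4)) (.node (nat_lit 6) (.leaf eat5) (.leaf eat6))))
noncomputable def eaL0 : Lev := ⟨(nat_lit 0), (nat_lit 7), (nat_lit 0x503020101030704060600), (nat_lit 0x202020302030102020300),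
 (.leaf 0),
 (.leaf 0)⟩
noncomputable def eaL1 : Lev := ⟨(nat_lit 1), (nat_lit 6), (nat_lit 0x201030404010306060000), (nat_lit 0x203030203020201030000),
 (.leaf 0),
 (.leaf 0)⟩
noncomputable def eaL2 : Lev := ⟨(nat_lit 2), (nat_lit 5), (nat_lit 0x404010105030203000000), (nat_lit 0x203030201020203000000),
 (.leaf 0),
 (.leaf 0)⟩
noncomputable def eaL3 : Lev := ⟨(nat_lit 3), (nat_lit 4), (nat_lit 0x201030404010300000000), (nat_lit 0x102020102010100000000),
 (.leaf 0),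
 (.leaf 0)⟩
noncomputable def eaL4 : Lev := ⟨(nat_lit 4), (nat_lit 0), (nat_lit 0x0), (nat_lit 0x0),
 (.leaf 0),
 (.leaf 0)⟩
noncomputable def eaL5 : Lev := ⟨(nat_lit 5), (nat_lit 0), (nat_lit 0x0), (nat_lit 0x0),
 (.leaf 0),
 (.leaf 0)⟩
noncomputable def eaL6 : Lev := ⟨(nat_lit 6), (nat_lit 0), (nat_lit 0x0), (nat_lit 0x0),
 (.leaf 0),
 (.leaf 0)⟩
noncomputable def eaL7 : Lev := ⟨(nat_lit 7), (nat_lit 0), (nat_lit 0x0), (nat_lit 0x0),
 (.leaf 0),
 (.leaf 0)⟩
noncomputable def eaL8 : Lev := ⟨(nat_lit 8), (nat_lit 0), (nat_lit 0x0), (nat_lit 0x0),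
 (.leaf 0),
 (.leaf 0)⟩
noncomputable def eaL9 : Lev := ⟨(nat_lit 9), (nat_lit 0), (nat_lit 0x0), (nat_lit 0x0),
 (.leaf 0),
 (.leaf 0)⟩
noncomputable def eaL : List Lev := [eaL0, eaL1, eaL2, eaL3, eaL4, eaL5, eaL6, eaL7, eaL8, eaL9]
theorem em : mskC 11 StA.eL = true := by decide +kernel
theorem es1 : band (esT.all fun c => surjF 11 (ap (nat_lit 4) (nat_lit 15) c)) (band (tchainChk 11 (nat_lit 4) (nat_lit 15) esT esL) (Nat.ble (Nat.factorial 11) (chainOrd 11 esL))) = true := by decide +kernel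
theorem es2 : eaT.all (fun c => surjF 11 (ap (nat_lit 4) (nat_lit 15) c)) = true := by decide +kernel
theorem es3 : eaT.all (fun c => fxF 11 StA.eL (ap (nat_lit 4) (nat_lit 15) c)) = true := by decide +kernel
theorem eatc : tchainChk 11 (nat_lit 4) (nat_lit 15) eaT eaL = true := by decide +kernel
noncomputable def eaJ : List Pr := [(prS 11 4 StA.eL)]
noncomputable def eaF0 : ℕ × ℕ := ((nat_lit 0), (nat_lit 0))
theorem eab0 : allR 0 11 (ptB 11 (nat_lit 4) (nat_lit 15) esT eaT eaJ esL0 [esL1, esL2, esL3, esL4, esL5, esL6, esL7, esL8, esL9] eaL0 (dg []) eaF0.1 eaF0.2) = true := by decide +kernel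
noncomputable def eaF1 : ℕ × ℕ := ((nat_lit 0), (nat_lit 0))
theorem eab1 : allR 0 11 (ptB 11 (nat_lit 4) (nat_lit 15) esT eaT eaJ esL1 [esL2, esL3, esL4, esL5, esL6, esL7, esL8, esL9] eaL1 (dg [esL0.b]) eaF1.1 eaF1.2) = true := by decide +kernel
noncomputable def eaF2 : ℕ × ℕ := ((nat_lit 0), (nat_lit 0))
theorem eab2 : allR 0 11 (ptB 11 (nat_lit 4) (nat_lit 15) esT eaT eaJ esL2 [esL3, esL4, esL5, esL6, esL7, esL8, esL9] eaL2 (dg [esL1.b, esL0.b]) eaF2.1 eaF2.2) = true := by decide +kernel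
noncomputable def eaF3 : ℕ × ℕ := ((nat_lit 0), (nat_lit 0))
theorem eab3 : allR 0 11 (ptB 11 (nat_lit 4) (nat_lit 15) esT eaT eaJ esL3 [esL4, esL5, esL6, esL7, esL8, esL9] eaL3 (dg [esL2.b, esL1.b, esL0.b]) eaF3.1 eaF3.2) = true := by decide +kernel
noncomputable def eaF4 : ℕ × ℕ := ((nat_lit 0xffffffffffff0000000000), (nat_lit 0))
theorem eab4 : allR 0 11 (ptB 11 (nat_lit 4) (nat_lit 15) esT eaT eaJ esL4 [esL5, esL6, esL7, esL8, esL9] eaL4 (dg [esL3.b, esL2.b, esL1.b, esL0.b]) eaF4.1 eaF4.2) = true := by decide +kernel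
noncomputable def eaF5 : ℕ × ℕ := ((nat_lit 0xffffffffff000000000000), (nat_lit 0))
theorem eab5 : allR 0 11 (ptB 11 (nat_lit 4) (nat_lit 15) esT eaT eaJ esL5 [esL6, esL7, esL8, esL9] eaL5 (dg [esL4.b, esL3.b, esL2.b, esL1.b, esL0.b]) eaF5.1 eaF5.2) = true := by decide +kernel
noncomputable def eaF6 : ℕ × ℕ := ((nat_lit 0xffffffff00000000000000), (nat_lit 0))
theorem eab6 : allR 0 11 (ptB 11 (nat_lit 4) (nat_lit 15) esT eaT eaJ esL6 [esL7, esL8, esL9] eaL6 (dg [esL5.b, esL4.b, esL3.b, esL2.b, esL1.b, esL0.b]) eaF6.1 eaF6.2) = true := by decide +kernel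
noncomputable def eaF7 : ℕ × ℕ := ((nat_lit 0xffffff0000000000000000), (nat_lit 0))
theorem eab7 : allR 0 11 (ptB 11 (nat_lit 4) (nat_lit 15) esT eaT eaJ esL7 [esL8, esL9] eaL7 (dg [esL6.b, esL5.b, esL4.b, esL3.b, esL2.b, esL1.b, esL0.b]) eaF7.1 eaF7.2) = true := by decide +kernel
noncomputable def eaF8 : ℕ × ℕ := ((nat_lit 0xffff000000000000000000), (nat_lit 0))
theorem eab8 : allR 0 11 (ptB 11 (nat_lit 4) (nat_lit 15) esT eaT eaJ esL8 [esL9] eaL8 (dg [esL7.b, esL6.b, esL5.b, esL4.b, esL3.b, esL2.b, esL1.b, esL0.b]) eaF8.1 eaF8.2) = true := by decide +kernel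
noncomputable def eaF9 : ℕ × ℕ := ((nat_lit 0xff00000000000000000000), (nat_lit 0))
theorem eab9 : allR 0 11 (ptB 11 (nat_lit 4) (nat_lit 15) esT eaT eaJ esL9 [] eaL9 (dg [esL8.b, esL7.b, esL6.b, esL5.b, esL4.b, esL3.b, esL2.b, esL1.b, esL0.b]) eaF9.1 eaF9.2) = true := by decide +kernel
theorem eabk : Bk 11 (nat_lit 4) (nat_lit 15) esT eaT eaJ esL eaL [eaF0, eaF1, eaF2, eaF3, eaF4, eaF5, eaF6, eaF7, eaF8, eaF9] [] :=
  ⟨rfl, eab0, rfl, eab1, rfl, eab2, rfl, eab3, rfl, eab4, rfl, eab5, rfl, eab6, rfl, eab7, rfl, eab8, rfl, eab9, trivial⟩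
noncomputable def ebt0 : ℕ := (nat_lit 0x67a35894210)
noncomputable def ebt1 : ℕ := (nat_lit 0x8459a637210)
noncomputable def ebt2 : ℕ := (nat_lit 0x783594a6210)
noncomputable def ebt3 : ℕ := (nat_lit 0x469a3758210)
noncomputable def ebt4 : ℕ := (nat_lit 0x24367598a10)
noncomputable def ebt5 : ℕ := (nat_lit 0x489165a2370)
noncomputable def ebt6 : ℕ := (nat_lit 0xa0786325419)
noncomputable def ebT : Tr ℕ := (.node (nat_lit 3) (.node (nat_lit 1) (.leaf ebt0) (.node (nat_lit 2) (.leaf ebt1) (.leaf ebt2)))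
 (.node (nat_lit 5) (.node (nat_lit 4) (.leaf ebt3) (.leaf ebt4)) (.node (nat_lit 6) (.leaf ebt5) (.leaf ebt6))))
noncomputable def ebL0 : Lev := ⟨(nat_lit 0), (nat_lit 7), (nat_lit 0x407040203030101070600), (nat_lit 0x301020202030203030300),
 (.leaf 0),
 (.leaf 0)⟩
noncomputable def ebL1 : Lev := ⟨(nat_lit 1), (nat_lit 6), (nat_lit 0x301040605040102060000), (nat_lit 0x202030102020302030000),
 (.leaf 0),
 (.leaf 0)⟩
noncomputable def ebL2 : Lev := ⟨(nat_lit 2), (nat_lit 5), (nat_lit 0x503010402010304000000), (nat_lit 0x103020202030203000000),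
 (.leaf 0),
 (.leaf 0)⟩
noncomputable def ebL3 : Lev := ⟨(nat_lit 3), (nat_lit 4), (nat_lit 0x301030104040200000000), (nat_lit 0x202010101020100000000),
 (.leaf 0),
 (.leaf 0)⟩
noncomputable def ebL : List Lev := [ebL0, ebL1, ebL2, ebL3]
noncomputable def ebE : Tr (List ℕ) := (.node (nat_lit 3) (.node (nat_lit 1) (.leaf [nat_lit 3]) (.node (nat_lit 2) (.leaf [nat_lit 2]) (.leaf [nat_lit 2, nat_lit 1])))
 (.node (nat_lit 5) (.node (nat_lit 4) (.leaf [nat_lit 3, nat_lit 1]) (.leaf [nat_lit 2, nat_lit 4, nat_lit 3])) (.node (nat_lit 6) (.leaf [nat_lit 2, nat_lit 5, nat_lit 3]) (.leaf [nat_lit 3, nat_lit 6, nat_lit 2]))))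
theorem ebw_0 : ebT.all2 (fun c w => isProd 11 (nat_lit 4) (nat_lit 15) eaT c w) ebE = true := by decide +kernel
theorem ebw : ebT.all2 (fun c w => isProd 11 (nat_lit 4) (nat_lit 15) eaT c w) ebE = true := ebw_0
theorem ebc : band (tchainChk 11 (nat_lit 4) (nat_lit 15) ebT ebL) (Nat.ble (chainOrd 11 eaL) (chainOrd 11 ebL)) = true := by decide +kernel
theorem ech {C : H7.Coding X} (hn : C.n = 11) : Ch (setSystemAut (blk C StA.eL)) 11 (nat_lit 4) (nat_lit 15) C.dec ebT ebL :=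
  have C1 := (ch_sym hn es1).aut hn em 4 (lets_sym hn es2) es3 eatc eabk
  (C1.ch (lets_words C1.lets ebE ebw) ebc)
theorem emv : mvChk 11 ([0, 1, 2, 3].map fun b => (H7.ones 11, b)) ebL [] = true := by decide +kernel
noncomputable def eiI : Tr (List ℕ) := (.node (nat_lit 3) (.node (nat_lit 1) (.leaf [nat_lit 0, nat_lit 6, nat_lit 5, nat_lit 0, nat_lit 5, nat_lit 3, nat_lit 1, nat_lit 4, nat_lit 1]) (.node (nat_lit 2) (.leaf [nat_lit 6, nat_lit 2, nat_lit 1, nat_lit 5, nat_lit 3, nat_lit 1, nat_lit 4, nat_lit 1, nat_lit 1]) (.leaf [nat_lit 1, nat_lit 1, nat_lit 6, nat_lit 2, nat_lit 1, nat_lit 5, nat_lit 3, nat_lit 1, nat_lit 4])))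
 (.node (nat_lit 5) (.node (nat_lit 4) (.leaf [nat_lit 1, nat_lit 6, nat_lit 5, nat_lit 0, nat_lit 5, nat_lit 3, nat_lit 1, nat_lit 4, nat_lit 0]) (.leaf [nat_lit 3, nat_lit 1, nat_lit 6, nat_lit 5, nat_lit 4, nat_lit 3, nat_lit 1])) (.node (nat_lit 6) (.leaf [nat_lit 6, nat_lit 1, nat_lit 1, nat_lit 5, nat_lit 2, nat_lit 4, nat_lit 2, nat_lit 1]) (.leaf [nat_lit 6, nat_lit 3, nat_lit 4, nat_lit 1, nat_lit 1]))))
theorem eih : M11.RL.all (fun w => eqB (ebL.map Lev.b) (apF (fun y => apL (nat_lit 4) (nat_lit 15) ebT (eiI.get y)) w) fun a => a) = true := by decide +kernel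
noncomputable def eiD : Tr (List ℕ) := (.node (nat_lit 3) (.node (nat_lit 1) (.leaf [nat_lit 3, nat_lit 6, nat_lit 2, nat_lit 4, nat_lit 2, nat_lit 1]) (.node (nat_lit 2) (.leaf [nat_lit 2, nat_lit 6, nat_lit 2, nat_lit 4, nat_lit 3, nat_lit 1]) (.leaf [nat_lit 1, nat_lit 1, nat_lit 6, nat_lit 1, nat_lit 4, nat_lit 3, nat_lit 1])))
 (.node (nat_lit 5) (.node (nat_lit 4) (.leaf [nat_lit 2, nat_lit 1, nat_lit 6, nat_lit 1, nat_lit 1, nat_lit 4, nat_lit 3]) (.leaf [nat_lit 6, nat_lit 4, nat_lit 2, nat_lit 5, nat_lit 3, nat_lit 1, nat_lit 4, nat_lit 2])) (.node (nat_lit 6) (.leaf [nat_lit 3, nat_lit 5, nat_lit 2]) (.leaf [nat_lit 2, nat_lit 5, nat_lit 3]))))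
theorem eis : band (surChk (nat_lit 4) (nat_lit 15) (ebL.map Lev.b) ebT eiI (topN M11.L) eiD (topN ebL)) (Nat.ble (chainOrd 24 M11.L) (chainOrd 11 ebL)) = true := by decide +kernel
theorem eiso {C : H7.Coding X} (hn : C.n = 11) : Nonempty (M11.P ≃* (setSystemAut (blk C StA.eL))) :=
  (M11.std.isoW (ech hn) eih eis)
noncomputable def tst0 : ℕ := (nat_lit 0xab9876543210)
noncomputable def tst1 : ℕ := (nat_lit 0xb9a876543210)
noncomputable def tst2 : ℕ := (nat_lit 0xb89a76543210)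
noncomputable def tst3 : ℕ := (nat_lit 0x879ba6543210)
noncomputable def tst4 : ℕ := (nat_lit 0x96b87a543210)
noncomputable def tst5 : ℕ := (nat_lit 0x95b867a43210)
noncomputable def tst6 : ℕ := (nat_lit 0x849b765a3210)
noncomputable def tst7 : ℕ := (nat_lit 0xb3578496a210)
noncomputable def tst8 : ℕ := (nat_lit 0x829b76543a10)
noncomputable def tst9 : ℕ := (nat_lit 0xb196284537a0)
noncomputable def tst10 : ℕ := (nat_lit 0x90b25173486a)
noncomputable def tsT : Tr ℕ := (.node (nat_lit 5) (.node (nat_lit 2) (.node (nat_lit 1) (.leaf tst0) (.leaf tst1)) (.node (nat_lit 3) (.leaf tst2) (.node (nat_lit 4) (.leaf tst3) (.leaf tst4))))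
 (.node (nat_lit 8) (.node (nat_lit 6) (.leaf tst5) (.node (nat_lit 7) (.leaf tst6) (.leaf tst7))) (.node (nat_lit 9) (.leaf tst8) (.node (nat_lit 10) (.leaf tst9) (.leaf tst10)))))
noncomputable def tsL0 : Lev := ⟨(nat_lit 0), (nat_lit 11), (nat_lit 0x10b02030405060708090a00), (nat_lit 0x20102020202020202020200),
 (.leaf 0),
 (.leaf 0)⟩
noncomputable def tsL1 : Lev := ⟨(nat_lit 1), (nat_lit 10), (nat_lit 0x10a02030405060708090000), (nat_lit 0x20102020202020202020000),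
 (.leaf 0),
 (.leaf 0)⟩
noncomputable def tsL2 : Lev := ⟨(nat_lit 2), (nat_lit 9), (nat_lit 0x10902030405060708000000), (nat_lit 0x20102020202020202000000),
 (.leaf 0),
 (.leaf 0)⟩
noncomputable def tsL3 : Lev := ⟨(nat_lit 3), (nat_lit 8), (nat_lit 0x10802030405060700000000), (nat_lit 0x20102020202020200000000),
 (.leaf 0),
 (.leaf 0)⟩
noncomputable def tsL4 : Lev := ⟨(nat_lit 4), (nat_lit 7), (nat_lit 0x10702030405060000000000), (nat_lit 0x20102020202020000000000),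
 (.leaf 0),
 (.leaf 0)⟩
noncomputable def tsL5 : Lev := ⟨(nat_lit 5), (nat_lit 6), (nat_lit 0x10602030405000000000000), (nat_lit 0x20102020202000000000000),
 (.leaf 0),
 (.leaf 0)⟩
noncomputable def tsL6 : Lev := ⟨(nat_lit 6), (nat_lit 5), (nat_lit 0x10502030400000000000000), (nat_lit 0x20102020200000000000000),
 (.leaf 0),
 (.leaf 0)⟩
noncomputable def tsL7 : Lev := ⟨(nat_lit 7), (nat_lit 4), (nat_lit 0x10402030000000000000000), (nat_lit 0x20102020000000000000000),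
 (.leaf 0),
 (.leaf 0)⟩
noncomputable def tsL8 : Lev := ⟨(nat_lit 8), (nat_lit 3), (nat_lit 0x10302000000000000000000), (nat_lit 0x20102000000000000000000),
 (.leaf 0),
 (.leaf 0)⟩
noncomputable def tsL9 : Lev := ⟨(nat_lit 9), (nat_lit 2), (nat_lit 0x10200000000000000000000), (nat_lit 0x20100000000000000000000),
 (.leaf 0),
 (.leaf 0)⟩
noncomputable def tsL10 : Lev := ⟨(nat_lit 10), (nat_lit 1), (nat_lit 0x10000000000000000000000), (nat_lit 0x10000000000000000000000),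
 (.leaf 0),
 (.leaf 0)⟩
noncomputable def tsL : List Lev := [tsL0, tsL1, tsL2, tsL3, tsL4, tsL5, tsL6, tsL7, tsL8, tsL9, tsL10]
noncomputable def tat0 : ℕ := (nat_lit 0x6ba749853210)
noncomputable def tat1 : ℕ := (nat_lit 0xa9658b473210)
noncomputable def tat2 : ℕ := (nat_lit 0x5876b49a3210)
noncomputable def tat3 : ℕ := (nat_lit 0x745a98b63210)
noncomputable def tat4 : ℕ := (nat_lit 0xb53648a79210)
noncomputable def tat5 : ℕ := (nat_lit 0x3789a624b510)
noncomputable def tat6 : ℕ := (nat_lit 0x2a8976315b40)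
noncomputable def tat7 : ℕ := (nat_lit 0x287a91305b64)
noncomputable def taT : Tr ℕ := (.node (nat_lit 4) (.node (nat_lit 2) (.node (nat_lit 1) (.leaf tat0) (.leaf tat1)) (.node (nat_lit 3) (.leaf tat2) (.leaf tat3)))
 (.node (nat_lit 6) (.node (nat_lit 5) (.leaf tat4) (.leaf tat5)) (.node (nat_lit 7) (.leaf tat6) (.leaf tat7))))
noncomputable def taL0 : Lev := ⟨(nat_lit 0), (nat_lit 8), (nat_lit 0x40403010103020807060700), (nat_lit 0x30203030202020103030200),
 (.leaf 0),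
 (.leaf 0)⟩
noncomputable def taL1 : Lev := ⟨(nat_lit 1), (nat_lit 7), (nat_lit 0x40403010103020707060000), (nat_lit 0x30203030202020103030000),
 (.leaf 0),
 (.leaf 0)⟩
noncomputable def taL2 : Lev := ⟨(nat_lit 2), (nat_lit 6), (nat_lit 0x30504020103060106000000), (nat_lit 0x20202020303010203000000),
 (.leaf 0),
 (.leaf 0)⟩
noncomputable def taL3 : Lev := ⟨(nat_lit 3), (nat_lit 5), (nat_lit 0x10205030401030400000000), (nat_lit 0x30201030202020300000000),
 (.leaf 0),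
 (.leaf 0)⟩
noncomputable def taL4 : Lev := ⟨(nat_lit 4), (nat_lit 4), (nat_lit 0x40403010103020000000000), (nat_lit 0x20102020101010000000000),
 (.leaf 0),
 (.leaf 0)⟩
noncomputable def taL5 : Lev := ⟨(nat_lit 5), (nat_lit 0), (nat_lit 0x0), (nat_lit 0x0),
 (.leaf 0),
 (.leaf 0)⟩
noncomputable def taL6 : Lev := ⟨(nat_lit 6), (nat_lit 0), (nat_lit 0x0), (nat_lit 0x0),
 (.leaf 0),
 (.leaf 0)⟩
noncomputable def taL7 : Lev := ⟨(nat_lit 7), (nat_lit 0), (nat_lit 0x0), (nat_lit 0x0),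
 (.leaf 0),
 (.leaf 0)⟩
noncomputable def taL8 : Lev := ⟨(nat_lit 8), (nat_lit 0), (nat_lit 0x0), (nat_lit 0x0),
 (.leaf 0),
 (.leaf 0)⟩
noncomputable def taL9 : Lev := ⟨(nat_lit 9), (nat_lit 0), (nat_lit 0x0), (nat_lit 0x0),
 (.leaf 0),
 (.leaf 0)⟩
noncomputable def taL10 : Lev := ⟨(nat_lit 10), (nat_lit 0), (nat_lit 0x0), (nat_lit 0x0),
 (.leaf 0),
 (.leaf 0)⟩
noncomputable def taL : List Lev := [taL0, taL1, taL2, taL3, taL4, taL5, taL6, taL7, taL8, taL9, taL10]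
theorem tm : mskC 12 StA.tL = true := by decide +kernel
theorem ts1 : band (tsT.all fun c => surjF 12 (ap (nat_lit 4) (nat_lit 15) c)) (band (tchainChk 12 (nat_lit 4) (nat_lit 15) tsT tsL) (Nat.ble (Nat.factorial 12) (chainOrd 12 tsL))) = true := by decide +kernel
theorem ts2 : taT.all (fun c => surjF 12 (ap (nat_lit 4) (nat_lit 15) c)) = true := by decide +kernel
theorem ts3 : taT.all (fun c => fxF 12 StA.tL (ap (nat_lit 4) (nat_lit 15) c)) = true := by decide +kernel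
theorem tatc : tchainChk 12 (nat_lit 4) (nat_lit 15) taT taL = true := by decide +kernel
noncomputable def taJ : List Pr := [(prS 12 5 StA.tL)]
noncomputable def taF0 : ℕ × ℕ := ((nat_lit 0), (nat_lit 0))
theorem tab0 : allR 0 12 (ptB 12 (nat_lit 4) (nat_lit 15) tsT taT taJ tsL0 [tsL1, tsL2, tsL3, tsL4, tsL5, tsL6, tsL7, tsL8, tsL9, tsL10] taL0 (dg []) taF0.1 taF0.2) = true := by decide +kernel
noncomputable def taF1 : ℕ × ℕ := ((nat_lit 0), (nat_lit 0))
theorem tab1 : allR 0 12 (ptB 12 (nat_lit 4) (nat_lit 15) tsT taT taJ tsL1 [tsL2, tsL3, tsL4, tsL5, tsL6, tsL7, tsL8, tsL9, tsL10] taL1 (dg [tsL0.b]) taF1.1 taF1.2) = true := by decide +kernel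
noncomputable def taF2 : ℕ × ℕ := ((nat_lit 0), (nat_lit 0))
theorem tab2 : allR 0 12 (ptB 12 (nat_lit 4) (nat_lit 15) tsT taT taJ tsL2 [tsL3, tsL4, tsL5, tsL6, tsL7, tsL8, tsL9, tsL10] taL2 (dg [tsL1.b, tsL0.b]) taF2.1 taF2.2) = true := by decide +kernel
noncomputable def taF3 : ℕ × ℕ := ((nat_lit 0), (nat_lit 0))
theorem tab3 : allR 0 12 (ptB 12 (nat_lit 4) (nat_lit 15) tsT taT taJ tsL3 [tsL4, tsL5, tsL6, tsL7, tsL8, tsL9, tsL10] taL3 (dg [tsL2.b, tsL1.b, tsL0.b]) taF3.1 taF3.2) = true := by decide +kernel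
noncomputable def taF4 : ℕ × ℕ := ((nat_lit 0), (nat_lit 0))
theorem tab4 : allR 0 12 (ptB 12 (nat_lit 4) (nat_lit 15) tsT taT taJ tsL4 [tsL5, tsL6, tsL7, tsL8, tsL9, tsL10] taL4 (dg [tsL3.b, tsL2.b, tsL1.b, tsL0.b]) taF4.1 taF4.2) = true := by decide +kernel
noncomputable def taF5 : ℕ × ℕ := ((nat_lit 0xffffffffffff000000000000), (nat_lit 0))
theorem tab5 : allR 0 12 (ptB 12 (nat_lit 4) (nat_lit 15) tsT taT taJ tsL5 [tsL6, tsL7, tsL8, tsL9, tsL10] taL5 (dg [tsL4.b, tsL3.b, tsL2.b, tsL1.b, tsL0.b]) taF5.1 taF5.2) = true := by decide +kernel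
noncomputable def taF6 : ℕ × ℕ := ((nat_lit 0xffffffffff00000000000000), (nat_lit 0))
theorem tab6 : allR 0 12 (ptB 12 (nat_lit 4) (nat_lit 15) tsT taT taJ tsL6 [tsL7, tsL8, tsL9, tsL10] taL6 (dg [tsL5.b, tsL4.b, tsL3.b, tsL2.b, tsL1.b, tsL0.b]) taF6.1 taF6.2) = true := by decide +kernel
noncomputable def taF7 : ℕ × ℕ := ((nat_lit 0xffffffff0000000000000000), (nat_lit 0))
theorem tab7 : allR 0 12 (ptB 12 (nat_lit 4) (nat_lit 15) tsT taT taJ tsL7 [tsL8, tsL9, tsL10] taL7 (dg [tsL6.b, tsL5.b, tsL4.b, tsL3.b, tsL2.b, tsL1.b, tsL0.b]) taF7.1 taF7.2) = true := by decide +kernel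
noncomputable def taF8 : ℕ × ℕ := ((nat_lit 0xffffff000000000000000000), (nat_lit 0))
theorem tab8 : allR 0 12 (ptB 12 (nat_lit 4) (nat_lit 15) tsT taT taJ tsL8 [tsL9, tsL10] taL8 (dg [tsL7.b, tsL6.b, tsL5.b, tsL4.b, tsL3.b, tsL2.b, tsL1.b, tsL0.b]) taF8.1 taF8.2) = true := by decide +kernel
noncomputable def taF9 : ℕ × ℕ := ((nat_lit 0xffff00000000000000000000), (nat_lit 0))
theorem tab9 : allR 0 12 (ptB 12 (nat_lit 4) (nat_lit 15) tsT taT taJ tsL9 [tsL10] taL9 (dg [tsL8.b, tsL7.b, tsL6.b, tsL5.b, tsL4.b, tsL3.b, tsL2.b, tsL1.b, tsL0.b]) taF9.1 taF9.2) = true := by decide +kernel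
noncomputable def taF10 : ℕ × ℕ := ((nat_lit 0xff0000000000000000000000), (nat_lit 0))
theorem tab10 : allR 0 12 (ptB 12 (nat_lit 4) (nat_lit 15) tsT taT taJ tsL10 [] taL10 (dg [tsL9.b, tsL8.b, tsL7.b, tsL6.b, tsL5.b, tsL4.b, tsL3.b, tsL2.b, tsL1.b, tsL0.b]) taF10.1 taF10.2) = true := by decide +kernel
theorem tabk : Bk 12 (nat_lit 4) (nat_lit 15) tsT taT taJ tsL taL [taF0, taF1, taF2, taF3, taF4, taF5, taF6, taF7, taF8, taF9, taF10] [] :=
  ⟨rfl, tab0, rfl, tab1, rfl, tab2, rfl, tab3, rfl, tab4, rfl, tab5, rfl, tab6, rfl, tab7, rfl, tab8, rfl, tab9, rfl, tab10, trivial⟩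
noncomputable def tbt0 : ℕ := (nat_lit 0x6ba749853210)
noncomputable def tbt1 : ℕ := (nat_lit 0xa9658b473210)
noncomputable def tbt2 : ℕ := (nat_lit 0x458ba7693210)
noncomputable def tbt3 : ℕ := (nat_lit 0x874965ab3210)
noncomputable def tbt4 : ℕ := (nat_lit 0x6758ab934210)
noncomputable def tbt5 : ℕ := (nat_lit 0x529638b47a10)
noncomputable def tbt6 : ℕ := (nat_lit 0x359821a4b760)
noncomputable def tbt7 : ℕ := (nat_lit 0x9a42568173b)
noncomputable def tbT : Tr ℕ := (.node (nat_lit 4) (.node (nat_lit 2) (.node (nat_lit 1) (.leaf tbt0) (.leaf tbt1)) (.node (nat_lit 3) (.leaf tbt2) (.leaf tbt3)))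
 (.node (nat_lit 6) (.node (nat_lit 5) (.leaf tbt4) (.leaf tbt5)) (.node (nat_lit 7) (.leaf tbt6) (.leaf tbt7))))
noncomputable def tbL0 : Lev := ⟨(nat_lit 0), (nat_lit 8), (nat_lit 0x80101030302060407060700), (nat_lit 0x10203020302020202030300),
 (.leaf 0),
 (.leaf 0)⟩
noncomputable def tbL1 : Lev := ⟨(nat_lit 1), (nat_lit 7), (nat_lit 0x10102060407030407070000), (nat_lit 0x20302020201020303030000),
 (.leaf 0),
 (.leaf 0)⟩
noncomputable def tbL2 : Lev := ⟨(nat_lit 2), (nat_lit 6), (nat_lit 0x20601040301040306000000), (nat_lit 0x20102030203020303000000),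
 (.leaf 0),
 (.leaf 0)⟩
noncomputable def tbL3 : Lev := ⟨(nat_lit 3), (nat_lit 5), (nat_lit 0x30404010103020500000000), (nat_lit 0x20302030203020100000000),
 (.leaf 0),
 (.leaf 0)⟩
noncomputable def tbL4 : Lev := ⟨(nat_lit 4), (nat_lit 4), (nat_lit 0x30404010103020000000000), (nat_lit 0x10201020102010000000000),
 (.leaf 0),
 (.leaf 0)⟩
noncomputable def tbL : List Lev := [tbL0, tbL1, tbL2, tbL3, tbL4]
noncomputable def tbE : Tr (List ℕ) := (.node (nat_lit 4) (.node (nat_lit 2) (.node (nat_lit 1) (.leaf [nat_lit 0]) (.leaf [nat_lit 1])) (.node (nat_lit 3) (.leaf [nat_lit 3, nat_lit 1]) (.leaf [nat_lit 2, nat_lit 1])))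
 (.node (nat_lit 6) (.node (nat_lit 5) (.leaf [nat_lit 2, nat_lit 1, nat_lit 4, nat_lit 3, nat_lit 1]) (.leaf [nat_lit 4, nat_lit 5, nat_lit 2, nat_lit 1, nat_lit 4, nat_lit 2])) (.node (nat_lit 7) (.leaf [nat_lit 3, nat_lit 6, nat_lit 2]) (.leaf [nat_lit 2, nat_lit 1, nat_lit 7, nat_lit 0, nat_lit 6, nat_lit 5, nat_lit 3, nat_lit 5, nat_lit 3, nat_lit 1, nat_lit 4, nat_lit 3]))))
theorem tbw_0 : tbT.all2 (fun c w => isProd 12 (nat_lit 4) (nat_lit 15) taT c w) tbE = true := by decide +kernel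
theorem tbw : tbT.all2 (fun c w => isProd 12 (nat_lit 4) (nat_lit 15) taT c w) tbE = true := tbw_0
theorem tbc : band (tchainChk 12 (nat_lit 4) (nat_lit 15) tbT tbL) (Nat.ble (chainOrd 12 taL) (chainOrd 12 tbL)) = true := by decide +kernel
theorem tch {C : H7.Coding X} (hn : C.n = 12) : Ch (setSystemAut (blk C StA.tL)) 12 (nat_lit 4) (nat_lit 15) C.dec tbT tbL :=
  have C1 := (ch_sym hn ts1).aut hn tm 5 (lets_sym hn ts2) ts3 tatc tabk
  (C1.ch (lets_words C1.lets tbE tbw) tbc)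
theorem tmv : mvChk 12 ([0, 1, 2, 3, 4].map fun b => (H7.ones 12, b)) tbL [] = true := by decide +kernel
noncomputable def tiI : Tr (List ℕ) := (.node (nat_lit 4) (.node (nat_lit 2) (.node (nat_lit 1) (.leaf [nat_lit 2]) (.leaf [nat_lit 3])) (.node (nat_lit 3) (.leaf [nat_lit 1]) (.leaf [nat_lit 0])))
 (.node (nat_lit 6) (.node (nat_lit 5) (.leaf [nat_lit 4]) (.leaf [nat_lit 3, nat_lit 5, nat_lit 3, nat_lit 1, nat_lit 4, nat_lit 1])) (.node (nat_lit 7) (.leaf [nat_lit 2, nat_lit 1, nat_lit 6, nat_lit 3, nat_lit 5, nat_lit 1, nat_lit 1, nat_lit 4]) (.leaf [nat_lit 7, nat_lit 6, nat_lit 1, nat_lit 6, nat_lit 2, nat_lit 4, nat_lit 3]))))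
theorem tih : M12.RL.all (fun w => eqB (tbL.map Lev.b) (apF (fun y => apL (nat_lit 4) (nat_lit 15) tbT (tiI.get y)) w) fun a => a) = true := by decide +kernel
noncomputable def tiD : Tr (List ℕ) := (.node (nat_lit 4) (.node (nat_lit 2) (.node (nat_lit 1) (.leaf [nat_lit 3]) (.leaf [nat_lit 2])) (.node (nat_lit 3) (.leaf [nat_lit 0]) (.leaf [nat_lit 1])))
 (.node (nat_lit 6) (.node (nat_lit 5) (.leaf [nat_lit 4]) (.leaf [nat_lit 0, nat_lit 5, nat_lit 3, nat_lit 4, nat_lit 2, nat_lit 1])) (.node (nat_lit 7) (.leaf [nat_lit 3, nat_lit 1, nat_lit 6, nat_lit 2, nat_lit 1, nat_lit 5, nat_lit 3, nat_lit 1, nat_lit 4, nat_lit 1]) (.leaf [nat_lit 7, nat_lit 4, nat_lit 6, nat_lit 1, nat_lit 5, nat_lit 3]))))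
theorem tis : band (surChk (nat_lit 4) (nat_lit 15) (tbL.map Lev.b) tbT tiI (topN M12.L) tiD (topN tbL)) (Nat.ble (chainOrd 24 M12.L) (chainOrd 12 tbL)) = true := by decide +kernel
theorem tiso {C : H7.Coding X} (hn : C.n = 12) : Nonempty (M12.P ≃* (setSystemAut (blk C StA.tL))) :=
  (M12.std.isoW (tch hn) tih tis)
noncomputable def pst0 : ℕ := (nat_lit 0x13a4a307b9ac5a928398a418820)
noncomputable def pst1 : ℕ := (nat_lit 0x1494e307b9ac5a928398a418820)
noncomputable def pst2 : ℕ := (nat_lit 0x128d2707b9ac5a928398a418820)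
noncomputable def pst3 : ℕ := (nat_lit 0x12852337b9ac5a928398a418820)
noncomputable def pst4 : ℕ := (nat_lit 0x117ca909b9ac5a928398a418820)
noncomputable def pst5 : ℕ := (nat_lit 0xe9be11951ac5a928398a418820)
noncomputable def pst6 : ℕ := (nat_lit 0x11742926cdec5a928398a418820)
noncomputable def pst7 : ℕ := (nat_lit 0xb9c9ae7c22ca2928398a418820)
noncomputable def pst8 : ℕ := (nat_lit 0xd5b9507ca8c9c528398a418820)
noncomputable def pst9 : ℕ := (nat_lit 0x119ca8a7a5ac5c1c8398a418820)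
noncomputable def pst10 : ℕ := (nat_lit 0xa4464e7c12c5d1b3398a418820)
noncomputable def pst11 : ℕ := (nat_lit 0x1144a877a5ac5a9d3818a418820)
noncomputable def pst12 : ℕ := (nat_lit 0x13a40d27b94c4b567444a418820)
noncomputable def pst13 : ℕ := (nat_lit 0x14992307b9ac5a928398b218820)
noncomputable def pst14 : ℕ := (nat_lit 0xa99630791ac5d10939a4e18820)
noncomputable def pst15 : ℕ := (nat_lit 0xb149ed8ba0ca2928398a41cc20)
noncomputable def pst16 : ℕ := (nat_lit 0x1141e8c73d3052db39104619420)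
noncomputable def pst17 : ℕ := (nat_lit 0xd4c86c53a905be663a0a289020)
noncomputable def pst18 : ℕ := (nat_lit 0x140c9107b9ac29d315196418a60)
noncomputable def pst19 : ℕ := (nat_lit 0x14c80773ca23226a82da323291)
noncomputable def psT : Tr ℕ := (.node (nat_lit 10) (.node (nat_lit 5) (.node (nat_lit 2) (.node (nat_lit 1) (.leaf pst0) (.leaf pst1)) (.node (nat_lit 3) (.leaf pst2) (.node (nat_lit 4) (.leaf pst3) (.leaf pst4))))
 (.node (nat_lit 7) (.node (nat_lit 6) (.leaf pst5) (.leaf pst6)) (.node (nat_lit 8) (.leaf pst7) (.node (nat_lit 9) (.leaf pst8) (.leaf pst9)))))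
 (.node (nat_lit 15) (.node (nat_lit 12) (.node (nat_lit 11) (.leaf pst10) (.leaf pst11)) (.node (nat_lit 13) (.leaf pst12) (.node (nat_lit 14) (.leaf pst13) (.leaf pst14))))
 (.node (nat_lit 17) (.node (nat_lit 16) (.leaf pst15) (.leaf pst16)) (.node (nat_lit 18) (.leaf pst17) (.node (nat_lit 19) (.leaf pst18) (.leaf pst19))))))
noncomputable def psL0 : Lev := ⟨(nat_lit 0), (nat_lit 20), (nat_lit 0x5030b140610070811090912130c0d140e12101300), (nat_lit 0x20202010202030203030203020302030302030300),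
 (.leaf 0),
 (.leaf 0)⟩
noncomputable def psL1 : Lev := ⟨(nat_lit 1), (nat_lit 19), (nat_lit 0x11302030405070911090b120b110d0f0e12100000), (nat_lit 0x20102020202020303020302020303030303020000),
 (.leaf 0),
 (.leaf 0)⟩
noncomputable def psL2 : Lev := ⟨(nat_lit 3), (nat_lit 18), (nat_lit 0x5030b1206100708110909120b0c0d0f0e00100000), (nat_lit 0x20202010202030203030203030302030300030000),
 (.leaf 0),
 (.leaf 0)⟩
noncomputable def psL3 : Lev := ⟨(nat_lit 12), (nat_lit 17), (nat_lit 0x10407061105081000090a0a0b0c0d0f0e00100000), (nat_lit 0x30202020103020200030203030203030300030000),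
 (.leaf 0),
 (.leaf 0)⟩
noncomputable def psL4 : Lev := ⟨(nat_lit 2), (nat_lit 16), (nat_lit 0x11002030405070900090b0a0b0c0d0f0e00000000), (nat_lit 0x20102020202020300020303020303030300000000),
 (.leaf 0),
 (.leaf 0)⟩
noncomputable def psL5 : Lev := ⟨(nat_lit 5), (nat_lit 15), (nat_lit 0x3020f0b0706090900090b0a0b0c0d000e00000000), (nat_lit 0x20201020202020300030303030303000200000000),
 (.leaf 0),
 (.leaf 0)⟩
noncomputable def psL6 : Lev := ⟨(nat_lit 4), (nat_lit 14), (nat_lit 0x3020e0b0706090900090b0a0b0c0d000000000000), (nat_lit 0x20201020202020300030303030303000000000000),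
 (.leaf 0),
 (.leaf 0)⟩
noncomputable def psL7 : Lev := ⟨(nat_lit 6), (nat_lit 13), (nat_lit 0x5030b0d060507080009090b0b0c00000000000000), (nat_lit 0x20202010203030200030203030300000000000000),
 (.leaf 0),
 (.leaf 0)⟩
noncomputable def psL8 : Lev := ⟨(nat_lit 7), (nat_lit 12), (nat_lit 0x10407060c05080800090a0a0b0000000000000000), (nat_lit 0x30202020103020300030203030000000000000000),
 (.leaf 0),
 (.leaf 0)⟩
noncomputable def psL9 : Lev := ⟨(nat_lit 8), (nat_lit 11), (nat_lit 0x10b02030405070900090b0a000000000000000000), (nat_lit 0x20102020202020300020303000000000000000000),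
 (.leaf 0),
 (.leaf 0)⟩
noncomputable def psL10 : Lev := ⟨(nat_lit 9), (nat_lit 10), (nat_lit 0x607090508050a0900080a00000000000000000000), (nat_lit 0x20202030203010300030300000000000000000000),
 (.leaf 0),
 (.leaf 0)⟩
noncomputable def psL11 : Lev := ⟨(nat_lit 10), (nat_lit 9), (nat_lit 0x50302090605070800090000000000000000000000), (nat_lit 0x20203010203030200030000000000000000000000),
 (.leaf 0),
 (.leaf 0)⟩
noncomputable def psL12 : Lev := ⟨(nat_lit 11), (nat_lit 8), (nat_lit 0x80103050405060800000000000000000000000000), (nat_lit 0x10202020303020300000000000000000000000000),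
 (.leaf 0),
 (.leaf 0)⟩
noncomputable def psL13 : Lev := ⟨(nat_lit 13), (nat_lit 7), (nat_lit 0x10506030407070000000000000000000000000000), (nat_lit 0x30202030301030000000000000000000000000000),
 (.leaf 0),
 (.leaf 0)⟩
noncomputable def psL14 : Lev := ⟨(nat_lit 14), (nat_lit 6), (nat_lit 0x60103050405000000000000000000000000000000), (nat_lit 0x10202020303000000000000000000000000000000),
 (.leaf 0),
 (.leaf 0)⟩
noncomputable def psL15 : Lev := ⟨(nat_lit 15), (nat_lit 5), (nat_lit 0x10502030400000000000000000000000000000000), (nat_lit 0x20102020200000000000000000000000000000000),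
 (.leaf 0),
 (.leaf 0)⟩
noncomputable def psL16 : Lev := ⟨(nat_lit 16), (nat_lit 4), (nat_lit 0x10402030000000000000000000000000000000000), (nat_lit 0x20102020000000000000000000000000000000000),
 (.leaf 0),
 (.leaf 0)⟩
noncomputable def psL17 : Lev := ⟨(nat_lit 17), (nat_lit 3), (nat_lit 0x10302000000000000000000000000000000000000), (nat_lit 0x20102000000000000000000000000000000000000),
 (.leaf 0),
 (.leaf 0)⟩
noncomputable def psL18 : Lev := ⟨(nat_lit 18), (nat_lit 2), (nat_lit 0x10200000000000000000000000000000000000000), (nat_lit 0x20100000000000000000000000000000000000000),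
 (.leaf 0),
 (.leaf 0)⟩
noncomputable def psL19 : Lev := ⟨(nat_lit 19), (nat_lit 1), (nat_lit 0x10000000000000000000000000000000000000000), (nat_lit 0x10000000000000000000000000000000000000000),
 (.leaf 0),
 (.leaf 0)⟩
noncomputable def psL : List Lev := [psL0, psL1, psL2, psL3, psL4, psL5, psL6, psL7, psL8, psL9, psL10, psL11, psL12, psL13, psL14, psL15, psL16, psL17, psL18, psL19]
noncomputable def pat0 : ℕ := (nat_lit 0xe845287acaca1e53234ca18820)
noncomputable def pat1 : ℕ := (nat_lit 0xb426537d0cc71230515a718820)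
noncomputable def pat2 : ℕ := (nat_lit 0x994dab79a2c80a85239071a820)
noncomputable def pat3 : ℕ := (nat_lit 0x10391147a8ac4b971989b219820)
noncomputable def pat4 : ℕ := (nat_lit 0xa9a08e641af4d172388b119820)
noncomputable def pat5 : ℕ := (nat_lit 0x14520c51b9ac14c923c6097ac20)
noncomputable def pat6 : ℕ := (nat_lit 0x229e2f839a958d8890664550c0)
noncomputable def pat7 : ℕ := (nat_lit 0x14048b03b5c9089867a2241a973)
noncomputable def paT : Tr ℕ := (.node (nat_lit 4) (.node (nat_lit 2) (.node (nat_lit 1) (.leaf pat0) (.leaf pat1)) (.node (nat_lit 3) (.leaf pat2) (.leaf pat3)))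
 (.node (nat_lit 6) (.node (nat_lit 5) (.leaf pat4) (.leaf pat5)) (.node (nat_lit 7) (.leaf pat6) (.leaf pat7))))
noncomputable def paL0 : Lev := ⟨(nat_lit 0), (nat_lit 8), (nat_lit 0x40803040207050105030601010408070407030700), (nat_lit 0x30102030203030304030203020203020303030400),
 (.leaf 0),
 (.leaf 0)⟩
noncomputable def paL1 : Lev := ⟨(nat_lit 1), (nat_lit 7), (nat_lit 0x10701060607030207020402030407010507040000), (nat_lit 0x30303020304020204030303030401020304020000),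
 (.leaf 0),
 (.leaf 0)⟩
noncomputable def paL2 : Lev := ⟨(nat_lit 3), (nat_lit 6), (nat_lit 0x6000005000000000000000000000000), (nat_lit 0x1000002000000000000000000000000),
 (.leaf 0),
 (.leaf 0)⟩
noncomputable def paL3 : Lev := ⟨(nat_lit 12), (nat_lit 5), (nat_lit 0x5000000000000000000000000000000), (nat_lit 0x1000000000000000000000000000000),
 (.leaf 0),
 (.leaf 0)⟩
noncomputable def paL4 : Lev := ⟨(nat_lit 2), (nat_lit 4), (nat_lit 0x10404030200040200020301030204010100000000), (nat_lit 0x30303030400020200030104030201020200000000),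
 (.leaf 0),
 (.leaf 0)⟩
noncomputable def paL5 : Lev := ⟨(nat_lit 5), (nat_lit 2), (nat_lit 0x100000000000002000000000000), (nat_lit 0x100000000000001000000000000),
 (.leaf 0),
 (.leaf 0)⟩
noncomputable def paL6 : Lev := ⟨(nat_lit 4), (nat_lit 0), (nat_lit 0x0), (nat_lit 0x0),
 (.leaf 0),
 (.leaf 0)⟩
noncomputable def paL7 : Lev := ⟨(nat_lit 6), (nat_lit 0), (nat_lit 0x0), (nat_lit 0x0),
 (.leaf 0),
 (.leaf 0)⟩
noncomputable def paL8 : Lev := ⟨(nat_lit 7), (nat_lit 0), (nat_lit 0x0), (nat_lit 0x0),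
 (.leaf 0),
 (.leaf 0)⟩
noncomputable def paL9 : Lev := ⟨(nat_lit 8), (nat_lit 0), (nat_lit 0x0), (nat_lit 0x0),
 (.leaf 0),
 (.leaf 0)⟩
noncomputable def paL10 : Lev := ⟨(nat_lit 9), (nat_lit 0), (nat_lit 0x0), (nat_lit 0x0),
 (.leaf 0),
 (.leaf 0)⟩
noncomputable def paL11 : Lev := ⟨(nat_lit 10), (nat_lit 0), (nat_lit 0x0), (nat_lit 0x0),
 (.leaf 0),
 (.leaf 0)⟩
noncomputable def paL12 : Lev := ⟨(nat_lit 11), (nat_lit 0), (nat_lit 0x0), (nat_lit 0x0),
 (.leaf 0),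
 (.leaf 0)⟩
noncomputable def paL13 : Lev := ⟨(nat_lit 13), (nat_lit 0), (nat_lit 0x0), (nat_lit 0x0),
 (.leaf 0),
 (.leaf 0)⟩
noncomputable def paL14 : Lev := ⟨(nat_lit 14), (nat_lit 0), (nat_lit 0x0), (nat_lit 0x0),
 (.leaf 0),
 (.leaf 0)⟩
noncomputable def paL15 : Lev := ⟨(nat_lit 15), (nat_lit 0), (nat_lit 0x0), (nat_lit 0x0),
 (.leaf 0),
 (.leaf 0)⟩
noncomputable def paL16 : Lev := ⟨(nat_lit 16), (nat_lit 0), (nat_lit 0x0), (nat_lit 0x0),
 (.leaf 0),
 (.leaf 0)⟩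
noncomputable def paL17 : Lev := ⟨(nat_lit 17), (nat_lit 0), (nat_lit 0x0), (nat_lit 0x0),
 (.leaf 0),
 (.leaf 0)⟩
noncomputable def paL18 : Lev := ⟨(nat_lit 18), (nat_lit 0), (nat_lit 0x0), (nat_lit 0x0),
 (.leaf 0),
 (.leaf 0)⟩
noncomputable def paL19 : Lev := ⟨(nat_lit 19), (nat_lit 0), (nat_lit 0x0), (nat_lit 0x0),
 (.leaf 0),
 (.leaf 0)⟩
noncomputable def paL : List Lev := [paL0, paL1, paL2, paL3, paL4, paL5, paL6, paL7, paL8, paL9, paL10, paL11, paL12, paL13, paL14, paL15, paL16, paL17, paL18, paL19]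
theorem pm : mskC 21 StA.pL = true := by decide +kernel
theorem ps1 : band (psT.all fun c => surjF 21 (ap (nat_lit 5) (nat_lit 31) c)) (band (tchainChk 21 (nat_lit 5) (nat_lit 31) psT psL) (Nat.ble (Nat.factorial 21) (chainOrd 21 psL))) = true := by decide +kernel
theorem ps2 : paT.all (fun c => surjF 21 (ap (nat_lit 5) (nat_lit 31) c)) = true := by decide +kernel
theorem ps3 : paT.all (fun c => fxF 21 StA.pL (ap (nat_lit 5) (nat_lit 31) c)) = true := by decide +kernel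
theorem patc : tchainChk 21 (nat_lit 5) (nat_lit 31) paT paL = true := by decide +kernel
noncomputable def paJ : List Pr := [(prS 21 2 StA.pL)]
noncomputable def paF0 : ℕ × ℕ := ((nat_lit 0), (nat_lit 0))
theorem pab0 : allR 0 21 (ptB 21 (nat_lit 5) (nat_lit 31) psT paT paJ psL0 [psL1, psL2, psL3, psL4, psL5, psL6, psL7, psL8, psL9, psL10, psL11, psL12, psL13, psL14, psL15, psL16, psL17, psL18, psL19] paL0 (dg []) paF0.1 paF0.2) = true := by decide +kernel
noncomputable def paF1 : ℕ × ℕ := ((nat_lit 0), (nat_lit 0))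
theorem pab1 : allR 0 21 (ptB 21 (nat_lit 5) (nat_lit 31) psT paT paJ psL1 [psL2, psL3, psL4, psL5, psL6, psL7, psL8, psL9, psL10, psL11, psL12, psL13, psL14, psL15, psL16, psL17, psL18, psL19] paL1 (dg [psL0.b]) paF1.1 paF1.2) = true := by decide +kernel
noncomputable def paF2 : ℕ × ℕ := ((nat_lit 0xffffffffff00ffff00ffffffffffffffff00ff0000), (nat_lit 0))
theorem pab2 : allR 0 21 (ptB 21 (nat_lit 5) (nat_lit 31) psT paT paJ psL2 [psL3, psL4, psL5, psL6, psL7, psL8, psL9, psL10, psL11, psL12, psL13, psL14, psL15, psL16, psL17, psL18, psL19] paL2 (dg [psL1.b, psL0.b]) paF2.1 paF2.2) = true := by decide +kernel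
noncomputable def paF3 : ℕ × ℕ := ((nat_lit 0xffffffffff00ffff00ffffffffffffffff00ff0000), (nat_lit 0))
theorem pab3 : allR 0 21 (ptB 21 (nat_lit 5) (nat_lit 31) psT paT paJ psL3 [psL4, psL5, psL6, psL7, psL8, psL9, psL10, psL11, psL12, psL13, psL14, psL15, psL16, psL17, psL18, psL19] paL3 (dg [psL2.b, psL1.b, psL0.b]) paF3.1 paF3.2) = true := by decide +kernel
noncomputable def paF4 : ℕ × ℕ := ((nat_lit 0xff000000000000000000000000000000), (nat_lit 0))
theorem pab4 : allR 0 21 (ptB 21 (nat_lit 5) (nat_lit 31) psT paT paJ psL4 [psL5, psL6, psL7, psL8, psL9, psL10, psL11, psL12, psL13, psL14, psL15, psL16, psL17, psL18, psL19] paL4 (dg [psL3.b, psL2.b, psL1.b, psL0.b]) paF4.1 paF4.2) = true := by decide +kernel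
noncomputable def paF5 : ℕ × ℕ := ((nat_lit 0xffffffffffffff0000ffffffffff0000ff00000000), (nat_lit 0))
theorem pab5 : allR 0 21 (ptB 21 (nat_lit 5) (nat_lit 31) psT paT paJ psL5 [psL6, psL7, psL8, psL9, psL10, psL11, psL12, psL13, psL14, psL15, psL16, psL17, psL18, psL19] paL5 (dg [psL4.b, psL3.b, psL2.b, psL1.b, psL0.b]) paF5.1 paF5.2) = true := by decide +kernel
noncomputable def paF6 : ℕ × ℕ := ((nat_lit 0xffffffffffffffff00ffffffffffff000000000000), (nat_lit 0))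
theorem pab6 : allR 0 21 (ptB 21 (nat_lit 5) (nat_lit 31) psT paT paJ psL6 [psL7, psL8, psL9, psL10, psL11, psL12, psL13, psL14, psL15, psL16, psL17, psL18, psL19] paL6 (dg [psL5.b, psL4.b, psL3.b, psL2.b, psL1.b, psL0.b]) paF6.1 paF6.2) = true := by decide +kernel
noncomputable def paF7 : ℕ × ℕ := ((nat_lit 0xffffffffffffffff00ffffffffff00000000000000), (nat_lit 0))
theorem pab7 : allR 0 21 (ptB 21 (nat_lit 5) (nat_lit 31) psT paT paJ psL7 [psL8, psL9, psL10, psL11, psL12, psL13, psL14, psL15, psL16, psL17, psL18, psL19] paL7 (dg [psL6.b, psL5.b, psL4.b, psL3.b, psL2.b, psL1.b, psL0.b]) paF7.1 paF7.2) = true := by decide +kernel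
noncomputable def paF8 : ℕ × ℕ := ((nat_lit 0xffffffffffffffff00ffffffff0000000000000000), (nat_lit 0))
theorem pab8 : allR 0 21 (ptB 21 (nat_lit 5) (nat_lit 31) psT paT paJ psL8 [psL9, psL10, psL11, psL12, psL13, psL14, psL15, psL16, psL17, psL18, psL19] paL8 (dg [psL7.b, psL6.b, psL5.b, psL4.b, psL3.b, psL2.b, psL1.b, psL0.b]) paF8.1 paF8.2) = true := by decide +kernel
noncomputable def paF9 : ℕ × ℕ := ((nat_lit 0xffffffffffffffff00ffffff000000000000000000), (nat_lit 0))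
theorem pab9 : allR 0 21 (ptB 21 (nat_lit 5) (nat_lit 31) psT paT paJ psL9 [psL10, psL11, psL12, psL13, psL14, psL15, psL16, psL17, psL18, psL19] paL9 (dg [psL8.b, psL7.b, psL6.b, psL5.b, psL4.b, psL3.b, psL2.b, psL1.b, psL0.b]) paF9.1 paF9.2) = true := by decide +kernel
noncomputable def paF10 : ℕ × ℕ := ((nat_lit 0xffffffffffffffff00ffff00000000000000000000), (nat_lit 0))
theorem pab10 : allR 0 21 (ptB 21 (nat_lit 5) (nat_lit 31) psT paT paJ psL10 [psL11, psL12, psL13, psL14, psL15, psL16, psL17, psL18, psL19] paL10 (dg [psL9.b, psL8.b, psL7.b, psL6.b, psL5.b, psL4.b, psL3.b, psL2.b, psL1.b, psL0.b]) paF10.1 paF10.2) = true := by decide +kernel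
noncomputable def paF11 : ℕ × ℕ := ((nat_lit 0xffffffffffffffff00ff0000000000000000000000), (nat_lit 0))
theorem pab11 : allR 0 21 (ptB 21 (nat_lit 5) (nat_lit 31) psT paT paJ psL11 [psL12, psL13, psL14, psL15, psL16, psL17, psL18, psL19] paL11 (dg [psL10.b, psL9.b, psL8.b, psL7.b, psL6.b, psL5.b, psL4.b, psL3.b, psL2.b, psL1.b, psL0.b]) paF11.1 paF11.2) = true := by decide +kernel
noncomputable def paF12 : ℕ × ℕ := ((nat_lit 0xffffffffffffffff00000000000000000000000000), (nat_lit 0))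
theorem pab12 : allR 0 21 (ptB 21 (nat_lit 5) (nat_lit 31) psT paT paJ psL12 [psL13, psL14, psL15, psL16, psL17, psL18, psL19] paL12 (dg [psL11.b, psL10.b, psL9.b, psL8.b, psL7.b, psL6.b, psL5.b, psL4.b, psL3.b, psL2.b, psL1.b, psL0.b]) paF12.1 paF12.2) = true := by decide +kernel
noncomputable def paF13 : ℕ × ℕ := ((nat_lit 0xffffffffffffff0000000000000000000000000000), (nat_lit 0))
theorem pab13 : allR 0 21 (ptB 21 (nat_lit 5) (nat_lit 31) psT paT paJ psL13 [psL14, psL15, psL16, psL17, psL18, psL19] paL13 (dg [psL12.b, psL11.b, psL10.b, psL9.b, psL8.b, psL7.b, psL6.b, psL5.b, psL4.b, psL3.b, psL2.b, psL1.b, psL0.b]) paF13.1 paF13.2) = true := by decide +kernel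
noncomputable def paF14 : ℕ × ℕ := ((nat_lit 0xffffffffffff000000000000000000000000000000), (nat_lit 0))
theorem pab14 : allR 0 21 (ptB 21 (nat_lit 5) (nat_lit 31) psT paT paJ psL14 [psL15, psL16, psL17, psL18, psL19] paL14 (dg [psL13.b, psL12.b, psL11.b, psL10.b, psL9.b, psL8.b, psL7.b, psL6.b, psL5.b, psL4.b, psL3.b, psL2.b, psL1.b, psL0.b]) paF14.1 paF14.2) = true := by decide +kernel
noncomputable def paF15 : ℕ × ℕ := ((nat_lit 0xffffffffff00000000000000000000000000000000), (nat_lit 0))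
theorem pab15 : allR 0 21 (ptB 21 (nat_lit 5) (nat_lit 31) psT paT paJ psL15 [psL16, psL17, psL18, psL19] paL15 (dg [psL14.b, psL13.b, psL12.b, psL11.b, psL10.b, psL9.b, psL8.b, psL7.b, psL6.b, psL5.b, psL4.b, psL3.b, psL2.b, psL1.b, psL0.b]) paF15.1 paF15.2) = true := by decide +kernel
noncomputable def paF16 : ℕ × ℕ := ((nat_lit 0xffffffff0000000000000000000000000000000000), (nat_lit 0))
theorem pab16 : allR 0 21 (ptB 21 (nat_lit 5) (nat_lit 31) psT paT paJ psL16 [psL17, psL18, psL19] paL16 (dg [psL15.b, psL14.b, psL13.b, psL12.b, psL11.b, psL10.b, psL9.b, psL8.b, psL7.b, psL6.b, psL5.b, psL4.b, psL3.b, psL2.b, psL1.b, psL0.b]) paF16.1 paF16.2) = true := by decide +kernel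
noncomputable def paF17 : ℕ × ℕ := ((nat_lit 0xffffff000000000000000000000000000000000000), (nat_lit 0))
theorem pab17 : allR 0 21 (ptB 21 (nat_lit 5) (nat_lit 31) psT paT paJ psL17 [psL18, psL19] paL17 (dg [psL16.b, psL15.b, psL14.b, psL13.b, psL12.b, psL11.b, psL10.b, psL9.b, psL8.b, psL7.b, psL6.b, psL5.b, psL4.b, psL3.b, psL2.b, psL1.b, psL0.b]) paF17.1 paF17.2) = true := by decide +kernel
noncomputable def paF18 : ℕ × ℕ := ((nat_lit 0xffff00000000000000000000000000000000000000), (nat_lit 0))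
theorem pab18 : allR 0 21 (ptB 21 (nat_lit 5) (nat_lit 31) psT paT paJ psL18 [psL19] paL18 (dg [psL17.b, psL16.b, psL15.b, psL14.b, psL13.b, psL12.b, psL11.b, psL10.b, psL9.b, psL8.b, psL7.b, psL6.b, psL5.b, psL4.b, psL3.b, psL2.b, psL1.b, psL0.b]) paF18.1 paF18.2) = true := by decide +kernel
noncomputable def paF19 : ℕ × ℕ := ((nat_lit 0xff0000000000000000000000000000000000000000), (nat_lit 0))
theorem pab19 : allR 0 21 (ptB 21 (nat_lit 5) (nat_lit 31) psT paT paJ psL19 [] paL19 (dg [psL18.b, psL17.b, psL16.b, psL15.b, psL14.b, psL13.b, psL12.b, psL11.b, psL10.b, psL9.b, psL8.b, psL7.b, psL6.b, psL5.b, psL4.b, psL3.b, psL2.b, psL1.b, psL0.b]) paF19.1 paF19.2) = true := by decide +kernel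
theorem pabk : Bk 21 (nat_lit 5) (nat_lit 31) psT paT paJ psL paL [paF0, paF1, paF2, paF3, paF4, paF5, paF6, paF7, paF8, paF9, paF10, paF11, paF12, paF13, paF14, paF15, paF16, paF17, paF18, paF19] [] :=
  ⟨rfl, pab0, rfl, pab1, rfl, pab2, rfl, pab3, rfl, pab4, rfl, pab5, rfl, pab6, rfl, pab7, rfl, pab8, rfl, pab9, rfl, pab10, rfl, pab11, rfl, pab12, rfl, pab13, rfl, pab14, rfl, pab15, rfl, pab16, rfl, pab17, rfl, pab18, rfl, pab19, trivial⟩
noncomputable def pbt0 : ℕ := (nat_lit 0xe845287acaca1e53234ca18820)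
noncomputable def pbt1 : ℕ := (nat_lit 0xb426537d0cc71230515a718820)
noncomputable def pbt2 : ℕ := (nat_lit 0x13a24477954c23646821cb1c420)
noncomputable def pbt3 : ℕ := (nat_lit 0xb21ca97890ca1a0d92a331b820)
noncomputable def pbt4 : ℕ := (nat_lit 0x102ca34628ef338486ae641a420)
noncomputable def pbt5 : ℕ := (nat_lit 0x13a2170795a38a8d23a5c261020)
noncomputable def pbt6 : ℕ := (nat_lit 0x1462428238d359e505346f28a20)
noncomputable def pbt7 : ℕ := (nat_lit 0x14835d37c64230d2802ca153087)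
noncomputable def pbT : Tr ℕ := (.node (nat_lit 4) (.node (nat_lit 2) (.node (nat_lit 1) (.leaf pbt0) (.leaf pbt1)) (.node (nat_lit 3) (.leaf pbt2) (.leaf pbt3)))
 (.node (nat_lit 6) (.node (nat_lit 5) (.leaf pbt4) (.leaf pbt5)) (.node (nat_lit 7) (.leaf pbt6) (.leaf pbt7))))
noncomputable def pbL0 : Lev := ⟨(nat_lit 0), (nat_lit 8), (nat_lit 0x50404020307050506030104020804020208060800), (nat_lit 0x30302030203030204030203030103030203030300),
 (.leaf 0),
 (.leaf 0)⟩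
noncomputable def pbL1 : Lev := ⟨(nat_lit 1), (nat_lit 7), (nat_lit 0x20501070407040107060102060406040607030000), (nat_lit 0x30302010304030304020402030303020303020000),
 (.leaf 0),
 (.leaf 0)⟩
noncomputable def pbL2 : Lev := ⟨(nat_lit 3), (nat_lit 6), (nat_lit 0x5000006000000000000000000000000), (nat_lit 0x2000001000000000000000000000000),
 (.leaf 0),
 (.leaf 0)⟩
noncomputable def pbL3 : Lev := ⟨(nat_lit 12), (nat_lit 5), (nat_lit 0x5000000000000000000000000000000), (nat_lit 0x1000000000000000000000000000000),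
 (.leaf 0),
 (.leaf 0)⟩
noncomputable def pbL4 : Lev := ⟨(nat_lit 2), (nat_lit 4), (nat_lit 0x10301030400040100020102020402040300000000), (nat_lit 0x20302010300010300020402040303020300000000),
 (.leaf 0),
 (.leaf 0)⟩
noncomputable def pbL5 : Lev := ⟨(nat_lit 5), (nat_lit 2), (nat_lit 0x100000000000002000000000000), (nat_lit 0x100000000000001000000000000),
 (.leaf 0),
 (.leaf 0)⟩
noncomputable def pbL : List Lev := [pbL0, pbL1, pbL2, pbL3, pbL4, pbL5]
noncomputable def pbE : Tr (List ℕ) := (.node (nat_lit 4) (.node (nat_lit 2) (.node (nat_lit 1) (.leaf [nat_lit 0]) (.leaf [nat_lit 1])) (.node (nat_lit 3) (.leaf [nat_lit 2, nat_lit 0, nat_lit 3, nat_lit 1]) (.leaf [nat_lit 3, nat_lit 2])))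
 (.node (nat_lit 6) (.node (nat_lit 5) (.leaf [nat_lit 4, nat_lit 0, nat_lit 3, nat_lit 2, nat_lit 1]) (.leaf [nat_lit 4, nat_lit 5, nat_lit 4])) (.node (nat_lit 7) (.leaf [nat_lit 5, nat_lit 6, nat_lit 5, nat_lit 4, nat_lit 3, nat_lit 1]) (.leaf [nat_lit 3, nat_lit 7, nat_lit 1, nat_lit 5, nat_lit 6, nat_lit 5, nat_lit 4, nat_lit 2, nat_lit 1, nat_lit 3, nat_lit 0]))))
theorem pbw_0 : pbT.all2 (fun c w => isProd 21 (nat_lit 5) (nat_lit 31) paT c w) pbE = true := by decide +kernel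
theorem pbw : pbT.all2 (fun c w => isProd 21 (nat_lit 5) (nat_lit 31) paT c w) pbE = true := pbw_0
theorem pbc : band (tchainChk 21 (nat_lit 5) (nat_lit 31) pbT pbL) (Nat.ble (chainOrd 21 paL) (chainOrd 21 pbL)) = true := by decide +kernel
theorem pch {C : H7.Coding X} (hn : C.n = 21) : Ch (setSystemAut (blk C StA.pL)) 21 (nat_lit 5) (nat_lit 31) C.dec pbT pbL :=
  have C1 := (ch_sym hn ps1).aut hn pm 2 (lets_sym hn ps2) ps3 patc pabk
  (C1.ch (lets_words C1.lets pbE pbw) pbc)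
theorem pmv : mvChk 21 ([0, 1].map fun b => (H7.ones 21, b)) pbL [] = true := by decide +kernel
noncomputable def hst0 : ℕ := (nat_lit 0x2959ca307b9ac5a928398a418820)
noncomputable def hst1 : ℕ := (nat_lit 0x2b3a4a307b9ac5a928398a418820)
noncomputable def hst2 : ℕ := (nat_lit 0x2b29d2307b9ac5a928398a418820)
noncomputable def hst3 : ℕ := (nat_lit 0x271aca907b9ac5a928398a418820)
noncomputable def hst4 : ℕ := (nat_lit 0x23094eb47b9ac5a928398a418820)
noncomputable def hst5 : ℕ := (nat_lit 0x2b47ca309b9ac5a928398a418820)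
noncomputable def hst6 : ℕ := (nat_lit 0x1d49ca307d5ac5a928398a418820)
noncomputable def hst7 : ℕ := (nat_lit 0x2b464a3073db35a928398a418820)
noncomputable def hst8 : ℕ := (nat_lit 0x2ab9b9907c9b1a2928398a418820)
noncomputable def hst9 : ℕ := (nat_lit 0x1d49a9707d5ac8c928398a418820)
noncomputable def hst10 : ℕ := (nat_lit 0x16973d4c94db0ac688398a418820)
noncomputable def hst11 : ℕ := (nat_lit 0x213a4915531ae5bd31398a418820)
noncomputable def hst12 : ℕ := (nat_lit 0x1079ba307c9ac5a555a18a418820)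
noncomputable def hst13 : ℕ := (nat_lit 0x1c69a611655af5aa47450a418820)
noncomputable def hst14 : ℕ := (nat_lit 0x1059ca2c7b9b05a8f549a8418820)
noncomputable def hst15 : ℕ := (nat_lit 0x2a39ca307b9ac5a928398a4a0820)
noncomputable def hst16 : ℕ := (nat_lit 0x295741f28cd2a5b1a8198a438820)
noncomputable def hst17 : ℕ := (nat_lit 0xa47ca299b0ce3a20a5b6b418820)
noncomputable def hst18 : ℕ := (nat_lit 0x1e2190edaaa0b638a68a1329d020)
noncomputable def hst19 : ℕ := (nat_lit 0x3439a257b9ac4286b9ca0448aa0)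
noncomputable def hst20 : ℕ := (nat_lit 0x2ad011895069113e08194d23add3)
noncomputable def hsT : Tr ℕ := (.node (nat_lit 10) (.node (nat_lit 5) (.node (nat_lit 2) (.node (nat_lit 1) (.leaf hst0) (.leaf hst1)) (.node (nat_lit 3) (.leaf hst2) (.node (nat_lit 4) (.leaf hst3) (.leaf hst4))))
 (.node (nat_lit 7) (.node (nat_lit 6) (.leaf hst5) (.leaf hst6)) (.node (nat_lit 8) (.leaf hst7) (.node (nat_lit 9) (.leaf hst8) (.leaf hst9)))))
 (.node (nat_lit 15) (.node (nat_lit 12) (.node (nat_lit 11) (.leaf hst10) (.leaf hst11)) (.node (nat_lit 13) (.leaf hst12) (.node (nat_lit 14) (.leaf hst13) (.leaf hst14))))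
 (.node (nat_lit 18) (.node (nat_lit 16) (.leaf hst15) (.node (nat_lit 17) (.leaf hst16) (.leaf hst17))) (.node (nat_lit 19) (.leaf hst18) (.node (nat_lit 20) (.leaf hst19) (.leaf hst20))))))
noncomputable def hsL0 : Lev := ⟨(nat_lit 0), (nat_lit 21), (nat_lit 0x40215050405060b1508090a0b0d140e0f1213131400), (nat_lit 0x2020102030302020302030303030203030302030300),
 (.leaf 0),
 (.leaf 0)⟩
noncomputable def hsL1 : Lev := ⟨(nat_lit 1), (nat_lit 20), (nat_lit 0x14010403050c130713080b0b0b0d0d0e121210130000), (nat_lit 0x1020203020202020303020303020303020303030000),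
 (.leaf 0),
 (.leaf 0)⟩
noncomputable def hsL2 : Lev := ⟨(nat_lit 2), (nat_lit 19), (nat_lit 0x1130203040513071308090a0b0d0d0e0f1210000000), (nat_lit 0x2010202020203030303020302030202020202000000),
 (.leaf 0),
 (.leaf 0)⟩
noncomputable def hsL3 : Lev := ⟨(nat_lit 4), (nat_lit 18), (nat_lit 0x1120203040506071108090a0b0d0d0e0f0010000000), (nat_lit 0x2010202020203030303020302030202020002000000),
 (.leaf 0),
 (.leaf 0)⟩
noncomputable def hsL4 : Lev := ⟨(nat_lit 13), (nat_lit 17), (nat_lit 0x10b020e04050c090011090d110e0f0e0f0010000000), (nat_lit 0x3020302030303030003030201030203030003000000),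
 (.leaf 0),
 (.leaf 0)⟩
noncomputable def hsL5 : Lev := ⟨(nat_lit 3), (nat_lit 16), (nat_lit 0x1100203040506070008090a0b0d0d0e0f0000000000), (nat_lit 0x2010202020203030003020302030202020000000000),
 (.leaf 0),
 (.leaf 0)⟩
noncomputable def hsL6 : Lev := ⟨(nat_lit 5), (nat_lit 15), (nat_lit 0x10f0203040506070008090a0b0d0d0e000000000000), (nat_lit 0x2010202020203030003020302030202000000000000),
 (.leaf 0),
 (.leaf 0)⟩
noncomputable def hsL7 : Lev := ⟨(nat_lit 6), (nat_lit 14), (nat_lit 0x10e0203040506070008090a0b0d0d00000000000000), (nat_lit 0x2010202020203030003020302030200000000000000),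
 (.leaf 0),
 (.leaf 0)⟩
noncomputable def hsL8 : Lev := ⟨(nat_lit 7), (nat_lit 13), (nat_lit 0x10d0203040506070008090a0b0d0000000000000000), (nat_lit 0x2010202020203030003020302030000000000000000),
 (.leaf 0),
 (.leaf 0)⟩
noncomputable def hsL9 : Lev := ⟨(nat_lit 8), (nat_lit 12), (nat_lit 0x50402030c050c0700090a0b0b000000000000000000), (nat_lit 0x2020303010303030002020203000000000000000000),
 (.leaf 0),
 (.leaf 0)⟩
noncomputable def hsL10 : Lev := ⟨(nat_lit 9), (nat_lit 11), (nat_lit 0x10b0203040506070008090a00000000000000000000), (nat_lit 0x2010202020203030003020300000000000000000000),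
 (.leaf 0),
 (.leaf 0)⟩
noncomputable def hsL11 : Lev := ⟨(nat_lit 10), (nat_lit 10), (nat_lit 0x103050a040506090008090000000000000000000000), (nat_lit 0x3020201030303020003030000000000000000000000),
 (.leaf 0),
 (.leaf 0)⟩
noncomputable def hsL12 : Lev := ⟨(nat_lit 11), (nat_lit 9), (nat_lit 0x1090203040506070008000000000000000000000000), (nat_lit 0x2010202020203030003000000000000000000000000),
 (.leaf 0),
 (.leaf 0)⟩
noncomputable def hsL13 : Lev := ⟨(nat_lit 12), (nat_lit 8), (nat_lit 0x4020805040506070000000000000000000000000000), (nat_lit 0x2020102030302030000000000000000000000000000),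
 (.leaf 0),
 (.leaf 0)⟩
noncomputable def hsL14 : Lev := ⟨(nat_lit 14), (nat_lit 7), (nat_lit 0x7010403050506000000000000000000000000000000), (nat_lit 0x1020203020303000000000000000000000000000000),
 (.leaf 0),
 (.leaf 0)⟩
noncomputable def hsL15 : Lev := ⟨(nat_lit 15), (nat_lit 6), (nat_lit 0x4020605040500000000000000000000000000000000), (nat_lit 0x2020102030300000000000000000000000000000000),
 (.leaf 0),
 (.leaf 0)⟩
noncomputable def hsL16 : Lev := ⟨(nat_lit 16), (nat_lit 5), (nat_lit 0x1050203040000000000000000000000000000000000), (nat_lit 0x2010202020000000000000000000000000000000000),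
 (.leaf 0),
 (.leaf 0)⟩
noncomputable def hsL17 : Lev := ⟨(nat_lit 17), (nat_lit 4), (nat_lit 0x1040203000000000000000000000000000000000000), (nat_lit 0x2010202000000000000000000000000000000000000),
 (.leaf 0),
 (.leaf 0)⟩
noncomputable def hsL18 : Lev := ⟨(nat_lit 18), (nat_lit 3), (nat_lit 0x1030200000000000000000000000000000000000000), (nat_lit 0x2010200000000000000000000000000000000000000),
 (.leaf 0),
 (.leaf 0)⟩
noncomputable def hsL19 : Lev := ⟨(nat_lit 19), (nat_lit 2), (nat_lit 0x1020000000000000000000000000000000000000000), (nat_lit 0x2010000000000000000000000000000000000000000),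
 (.leaf 0),
 (.leaf 0)⟩
noncomputable def hsL20 : Lev := ⟨(nat_lit 20), (nat_lit 1), (nat_lit 0x1000000000000000000000000000000000000000000), (nat_lit 0x1000000000000000000000000000000000000000000),
 (.leaf 0),
 (.leaf 0)⟩
noncomputable def hsL : List Lev := [hsL0, hsL1, hsL2, hsL3, hsL4, hsL5, hsL6, hsL7, hsL8, hsL9, hsL10, hsL11, hsL12, hsL13, hsL14, hsL15, hsL16, hsL17, hsL18, hsL19, hsL20]
noncomputable def hat0 : ℕ := (nat_lit 0x16e94df08d1a7a8ca66212450820)
noncomputable def hat1 : ℕ := (nat_lit 0x2435d5302a9a69ba27431e4a0820)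
noncomputable def hat2 : ℕ := (nat_lit 0x72750f064daf52d09894c4a8820)
noncomputable def hat3 : ℕ := (nat_lit 0x11161e9073db33147592d4448820)
noncomputable def hat4 : ℕ := (nat_lit 0x1e894d6da9a0c8a8b43b92418820)
noncomputable def hat5 : ℕ := (nat_lit 0x2ab446501b88ca19332a8ed78820)
noncomputable def hat6 : ℕ := (nat_lit 0x2145c91511d8d9a551718a323c20)
noncomputable def hat7 : ℕ := (nat_lit 0x2a9c1d21c5ac5d0a41192879ea0)
noncomputable def hat8 : ℕ := (nat_lit 0x1ec999b0aba345a8201486429d28)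
noncomputable def haT : Tr ℕ := (.node (nat_lit 4) (.node (nat_lit 2) (.node (nat_lit 1) (.leaf hat0) (.leaf hat1)) (.node (nat_lit 3) (.leaf hat2) (.leaf hat3)))
 (.node (nat_lit 6) (.node (nat_lit 5) (.leaf hat4) (.leaf hat5)) (.node (nat_lit 7) (.leaf hat6) (.node (nat_lit 8) (.leaf hat7) (.leaf hat8)))))
noncomputable def haL0 : Lev := ⟨(nat_lit 0), (nat_lit 9), (nat_lit 0x4050609070705050902040603090201030804080900), (nat_lit 0x2020203020303030303030302010202030203030300),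
 (.leaf 0),
 (.leaf 0)⟩
noncomputable def haL1 : Lev := ⟨(nat_lit 1), (nat_lit 8), (nat_lit 0x8060202050705040503010304040404020703070000), (nat_lit 0x1030302030202030303020303020303030302030000),
 (.leaf 0),
 (.leaf 0)⟩
noncomputable def haL2 : Lev := ⟨(nat_lit 2), (nat_lit 7), (nat_lit 0x5040406010707040703050402070303020706000000), (nat_lit 0x2030303020301020302030303030303020302000000),
 (.leaf 0),
 (.leaf 0)⟩
noncomputable def haL3 : Lev := ⟨(nat_lit 4), (nat_lit 6), (nat_lit 0x500000600000000000000000000000000), (nat_lit 0x200000100000000000000000000000000),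
 (.leaf 0),
 (.leaf 0)⟩
noncomputable def haL4 : Lev := ⟨(nat_lit 13), (nat_lit 5), (nat_lit 0x500000000000000000000000000000000), (nat_lit 0x100000000000000000000000000000000),
 (.leaf 0),
 (.leaf 0)⟩
noncomputable def haL5 : Lev := ⟨(nat_lit 3), (nat_lit 4), (nat_lit 0x3020303040004020004030104040404040000000000), (nat_lit 0x1010302020003020004020101020303020000000000),
 (.leaf 0),
 (.leaf 0)⟩
noncomputable def haL6 : Lev := ⟨(nat_lit 5), (nat_lit 0), (nat_lit 0x0), (nat_lit 0x0),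
 (.leaf 0),
 (.leaf 0)⟩
noncomputable def haL7 : Lev := ⟨(nat_lit 6), (nat_lit 0), (nat_lit 0x0), (nat_lit 0x0),
 (.leaf 0),
 (.leaf 0)⟩
noncomputable def haL8 : Lev := ⟨(nat_lit 7), (nat_lit 0), (nat_lit 0x0), (nat_lit 0x0),
 (.leaf 0),
 (.leaf 0)⟩
noncomputable def haL9 : Lev := ⟨(nat_lit 8), (nat_lit 0), (nat_lit 0x0), (nat_lit 0x0),
 (.leaf 0),
 (.leaf 0)⟩
noncomputable def haL10 : Lev := ⟨(nat_lit 9), (nat_lit 0), (nat_lit 0x0), (nat_lit 0x0),
 (.leaf 0),
 (.leaf 0)⟩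
noncomputable def haL11 : Lev := ⟨(nat_lit 10), (nat_lit 0), (nat_lit 0x0), (nat_lit 0x0),
 (.leaf 0),
 (.leaf 0)⟩
noncomputable def haL12 : Lev := ⟨(nat_lit 11), (nat_lit 0), (nat_lit 0x0), (nat_lit 0x0),
 (.leaf 0),
 (.leaf 0)⟩
noncomputable def haL13 : Lev := ⟨(nat_lit 12), (nat_lit 0), (nat_lit 0x0), (nat_lit 0x0),
 (.leaf 0),
 (.leaf 0)⟩
noncomputable def haL14 : Lev := ⟨(nat_lit 14), (nat_lit 0), (nat_lit 0x0), (nat_lit 0x0),
 (.leaf 0),
 (.leaf 0)⟩
noncomputable def haL15 : Lev := ⟨(nat_lit 15), (nat_lit 0), (nat_lit 0x0), (nat_lit 0x0),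
 (.leaf 0),
 (.leaf 0)⟩
noncomputable def haL16 : Lev := ⟨(nat_lit 16), (nat_lit 0), (nat_lit 0x0), (nat_lit 0x0),
 (.leaf 0),
 (.leaf 0)⟩
noncomputable def haL17 : Lev := ⟨(nat_lit 17), (nat_lit 0), (nat_lit 0x0), (nat_lit 0x0),
 (.leaf 0),
 (.leaf 0)⟩
noncomputable def haL18 : Lev := ⟨(nat_lit 18), (nat_lit 0), (nat_lit 0x0), (nat_lit 0x0),
 (.leaf 0),
 (.leaf 0)⟩
noncomputable def haL19 : Lev := ⟨(nat_lit 19), (nat_lit 0), (nat_lit 0x0), (nat_lit 0x0),
 (.leaf 0),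
 (.leaf 0)⟩
noncomputable def haL20 : Lev := ⟨(nat_lit 20), (nat_lit 0), (nat_lit 0x0), (nat_lit 0x0),
 (.leaf 0),
 (.leaf 0)⟩
noncomputable def haL : List Lev := [haL0, haL1, haL2, haL3, haL4, haL5, haL6, haL7, haL8, haL9, haL10, haL11, haL12, haL13, haL14, haL15, haL16, haL17, haL18, haL19, haL20]
theorem hm : mskC 22 StA.hL = true := by decide +kernel
theorem hs1 : band (hsT.all fun c => surjF 22 (ap (nat_lit 5) (nat_lit 31) c)) (band (tchainChk 22 (nat_lit 5) (nat_lit 31) hsT hsL) (Nat.ble (Nat.factorial 22) (chainOrd 22 hsL))) = true := by decide +kernel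
theorem hs2 : haT.all (fun c => surjF 22 (ap (nat_lit 5) (nat_lit 31) c)) = true := by decide +kernel
theorem hs3 : haT.all (fun c => fxF 22 StA.hL (ap (nat_lit 5) (nat_lit 31) c)) = true := by decide +kernel
theorem hatc : tchainChk 22 (nat_lit 5) (nat_lit 31) haT haL = true := by decide +kernel
noncomputable def haJ : List Pr := [(prS 22 3 StA.hL)]
noncomputable def haF0 : ℕ × ℕ := ((nat_lit 0), (nat_lit 0))
theorem hab0 : allR 0 22 (ptB 22 (nat_lit 5) (nat_lit 31) hsT haT haJ hsL0 [hsL1, hsL2, hsL3, hsL4, hsL5, hsL6, hsL7, hsL8, hsL9, hsL10, hsL11, hsL12, hsL13, hsL14, hsL15, hsL16, hsL17, hsL18, hsL19, hsL20] haL0 (dg []) haF0.1 haF0.2) = true := by decide +kernel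
noncomputable def haF1 : ℕ × ℕ := ((nat_lit 0), (nat_lit 0))
theorem hab1 : allR 0 22 (ptB 22 (nat_lit 5) (nat_lit 31) hsT haT haJ hsL1 [hsL2, hsL3, hsL4, hsL5, hsL6, hsL7, hsL8, hsL9, hsL10, hsL11, hsL12, hsL13, hsL14, hsL15, hsL16, hsL17, hsL18, hsL19, hsL20] haL1 (dg [hsL0.b]) haF1.1 haF1.2) = true := by decide +kernel
noncomputable def haF2 : ℕ × ℕ := ((nat_lit 0), (nat_lit 0))
theorem hab2 : allR 0 22 (ptB 22 (nat_lit 5) (nat_lit 31) hsT haT haJ hsL2 [hsL3, hsL4, hsL5, hsL6, hsL7, hsL8, hsL9, hsL10, hsL11, hsL12, hsL13, hsL14, hsL15, hsL16, hsL17, hsL18, hsL19, hsL20] haL2 (dg [hsL1.b, hsL0.b]) haF2.1 haF2.2) = true := by decide +kernel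
noncomputable def haF3 : ℕ × ℕ := ((nat_lit 0xffffffffff00ffff00ffffffffffffffff00ff000000), (nat_lit 0))
theorem hab3 : allR 0 22 (ptB 22 (nat_lit 5) (nat_lit 31) hsT haT haJ hsL3 [hsL4, hsL5, hsL6, hsL7, hsL8, hsL9, hsL10, hsL11, hsL12, hsL13, hsL14, hsL15, hsL16, hsL17, hsL18, hsL19, hsL20] haL3 (dg [hsL2.b, hsL1.b, hsL0.b]) haF3.1 haF3.2) = true := by decide +kernel
noncomputable def haF4 : ℕ × ℕ := ((nat_lit 0xffffffffff00ffff00ffffffffffffffff00ff000000), (nat_lit 0))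
theorem hab4 : allR 0 22 (ptB 22 (nat_lit 5) (nat_lit 31) hsT haT haJ hsL4 [hsL5, hsL6, hsL7, hsL8, hsL9, hsL10, hsL11, hsL12, hsL13, hsL14, hsL15, hsL16, hsL17, hsL18, hsL19, hsL20] haL4 (dg [hsL3.b, hsL2.b, hsL1.b, hsL0.b]) haF4.1 haF4.2) = true := by decide +kernel
noncomputable def haF5 : ℕ × ℕ := ((nat_lit 0xff00000000000000000000000000000000), (nat_lit 0))
theorem hab5 : allR 0 22 (ptB 22 (nat_lit 5) (nat_lit 31) hsT haT haJ hsL5 [hsL6, hsL7, hsL8, hsL9, hsL10, hsL11, hsL12, hsL13, hsL14, hsL15, hsL16, hsL17, hsL18, hsL19, hsL20] haL5 (dg [hsL4.b, hsL3.b, hsL2.b, hsL1.b, hsL0.b]) haF5.1 haF5.2) = true := by decide +kernel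
noncomputable def haF6 : ℕ × ℕ := ((nat_lit 0xffffffffffffffff00ffffffffffffff000000000000), (nat_lit 0))
theorem hab6 : allR 0 22 (ptB 22 (nat_lit 5) (nat_lit 31) hsT haT haJ hsL6 [hsL7, hsL8, hsL9, hsL10, hsL11, hsL12, hsL13, hsL14, hsL15, hsL16, hsL17, hsL18, hsL19, hsL20] haL6 (dg [hsL5.b, hsL4.b, hsL3.b, hsL2.b, hsL1.b, hsL0.b]) haF6.1 haF6.2) = true := by decide +kernel
noncomputable def haF7 : ℕ × ℕ := ((nat_lit 0xffffffffffffffff00ffffffffffff00000000000000), (nat_lit 0))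
theorem hab7 : allR 0 22 (ptB 22 (nat_lit 5) (nat_lit 31) hsT haT haJ hsL7 [hsL8, hsL9, hsL10, hsL11, hsL12, hsL13, hsL14, hsL15, hsL16, hsL17, hsL18, hsL19, hsL20] haL7 (dg [hsL6.b, hsL5.b, hsL4.b, hsL3.b, hsL2.b, hsL1.b, hsL0.b]) haF7.1 haF7.2) = true := by decide +kernel
noncomputable def haF8 : ℕ × ℕ := ((nat_lit 0xffffffffffffffff00ffffffffff0000000000000000), (nat_lit 0))
theorem hab8 : allR 0 22 (ptB 22 (nat_lit 5) (nat_lit 31) hsT haT haJ hsL8 [hsL9, hsL10, hsL11, hsL12, hsL13, hsL14, hsL15, hsL16, hsL17, hsL18, hsL19, hsL20] haL8 (dg [hsL7.b, hsL6.b, hsL5.b, hsL4.b, hsL3.b, hsL2.b, hsL1.b, hsL0.b]) haF8.1 haF8.2) = true := by decide +kernel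
noncomputable def haF9 : ℕ × ℕ := ((nat_lit 0xffffffffffffffff00ffffffff000000000000000000), (nat_lit 0))
theorem hab9 : allR 0 22 (ptB 22 (nat_lit 5) (nat_lit 31) hsT haT haJ hsL9 [hsL10, hsL11, hsL12, hsL13, hsL14, hsL15, hsL16, hsL17, hsL18, hsL19, hsL20] haL9 (dg [hsL8.b, hsL7.b, hsL6.b, hsL5.b, hsL4.b, hsL3.b, hsL2.b, hsL1.b, hsL0.b]) haF9.1 haF9.2) = true := by decide +kernel
noncomputable def haF10 : ℕ × ℕ := ((nat_lit 0xffffffffffffffff00ffffff00000000000000000000), (nat_lit 0))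
theorem hab10 : allR 0 22 (ptB 22 (nat_lit 5) (nat_lit 31) hsT haT haJ hsL10 [hsL11, hsL12, hsL13, hsL14, hsL15, hsL16, hsL17, hsL18, hsL19, hsL20] haL10 (dg [hsL9.b, hsL8.b, hsL7.b, hsL6.b, hsL5.b, hsL4.b, hsL3.b, hsL2.b, hsL1.b, hsL0.b]) haF10.1 haF10.2) = true := by decide +kernel
noncomputable def haF11 : ℕ × ℕ := ((nat_lit 0xffffffffffffffff00ffff0000000000000000000000), (nat_lit 0))
theorem hab11 : allR 0 22 (ptB 22 (nat_lit 5) (nat_lit 31) hsT haT haJ hsL11 [hsL12, hsL13, hsL14, hsL15, hsL16, hsL17, hsL18, hsL19, hsL20] haL11 (dg [hsL10.b, hsL9.b, hsL8.b, hsL7.b, hsL6.b, hsL5.b, hsL4.b, hsL3.b, hsL2.b, hsL1.b, hsL0.b]) haF11.1 haF11.2) = true := by decide +kernel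
noncomputable def haF12 : ℕ × ℕ := ((nat_lit 0xffffffffffffffff00ff000000000000000000000000), (nat_lit 0))
theorem hab12 : allR 0 22 (ptB 22 (nat_lit 5) (nat_lit 31) hsT haT haJ hsL12 [hsL13, hsL14, hsL15, hsL16, hsL17, hsL18, hsL19, hsL20] haL12 (dg [hsL11.b, hsL10.b, hsL9.b, hsL8.b, hsL7.b, hsL6.b, hsL5.b, hsL4.b, hsL3.b, hsL2.b, hsL1.b, hsL0.b]) haF12.1 haF12.2) = true := by decide +kernel
noncomputable def haF13 : ℕ × ℕ := ((nat_lit 0xffffffffffffffff0000000000000000000000000000), (nat_lit 0))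
theorem hab13 : allR 0 22 (ptB 22 (nat_lit 5) (nat_lit 31) hsT haT haJ hsL13 [hsL14, hsL15, hsL16, hsL17, hsL18, hsL19, hsL20] haL13 (dg [hsL12.b, hsL11.b, hsL10.b, hsL9.b, hsL8.b, hsL7.b, hsL6.b, hsL5.b, hsL4.b, hsL3.b, hsL2.b, hsL1.b, hsL0.b]) haF13.1 haF13.2) = true := by decide +kernel
noncomputable def haF14 : ℕ × ℕ := ((nat_lit 0xffffffffffffff000000000000000000000000000000), (nat_lit 0))
theorem hab14 : allR 0 22 (ptB 22 (nat_lit 5) (nat_lit 31) hsT haT haJ hsL14 [hsL15, hsL16, hsL17, hsL18, hsL19, hsL20] haL14 (dg [hsL13.b, hsL12.b, hsL11.b, hsL10.b, hsL9.b, hsL8.b, hsL7.b, hsL6.b, hsL5.b, hsL4.b, hsL3.b, hsL2.b, hsL1.b, hsL0.b]) haF14.1 haF14.2) = true := by decide +kernel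
noncomputable def haF15 : ℕ × ℕ := ((nat_lit 0xffffffffffff00000000000000000000000000000000), (nat_lit 0))
theorem hab15 : allR 0 22 (ptB 22 (nat_lit 5) (nat_lit 31) hsT haT haJ hsL15 [hsL16, hsL17, hsL18, hsL19, hsL20] haL15 (dg [hsL14.b, hsL13.b, hsL12.b, hsL11.b, hsL10.b, hsL9.b, hsL8.b, hsL7.b, hsL6.b, hsL5.b, hsL4.b, hsL3.b, hsL2.b, hsL1.b, hsL0.b]) haF15.1 haF15.2) = true := by decide +kernel
noncomputable def haF16 : ℕ × ℕ := ((nat_lit 0xffffffffff0000000000000000000000000000000000), (nat_lit 0))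
theorem hab16 : allR 0 22 (ptB 22 (nat_lit 5) (nat_lit 31) hsT haT haJ hsL16 [hsL17, hsL18, hsL19, hsL20] haL16 (dg [hsL15.b, hsL14.b, hsL13.b, hsL12.b, hsL11.b, hsL10.b, hsL9.b, hsL8.b, hsL7.b, hsL6.b, hsL5.b, hsL4.b, hsL3.b, hsL2.b, hsL1.b, hsL0.b]) haF16.1 haF16.2) = true := by decide +kernel
noncomputable def haF17 : ℕ × ℕ := ((nat_lit 0xffffffff000000000000000000000000000000000000), (nat_lit 0))
theorem hab17 : allR 0 22 (ptB 22 (nat_lit 5) (nat_lit 31) hsT haT haJ hsL17 [hsL18, hsL19, hsL20] haL17 (dg [hsL16.b, hsL15.b, hsL14.b, hsL13.b, hsL12.b, hsL11.b, hsL10.b, hsL9.b, hsL8.b, hsL7.b, hsL6.b, hsL5.b, hsL4.b, hsL3.b, hsL2.b, hsL1.b, hsL0.b]) haF17.1 haF17.2) = true := by decide +kernel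
noncomputable def haF18 : ℕ × ℕ := ((nat_lit 0xffffff00000000000000000000000000000000000000), (nat_lit 0))
theorem hab18 : allR 0 22 (ptB 22 (nat_lit 5) (nat_lit 31) hsT haT haJ hsL18 [hsL19, hsL20] haL18 (dg [hsL17.b, hsL16.b, hsL15.b, hsL14.b, hsL13.b, hsL12.b, hsL11.b, hsL10.b, hsL9.b, hsL8.b, hsL7.b, hsL6.b, hsL5.b, hsL4.b, hsL3.b, hsL2.b, hsL1.b, hsL0.b]) haF18.1 haF18.2) = true := by decide +kernel
noncomputable def haF19 : ℕ × ℕ := ((nat_lit 0xffff0000000000000000000000000000000000000000), (nat_lit 0))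
theorem hab19 : allR 0 22 (ptB 22 (nat_lit 5) (nat_lit 31) hsT haT haJ hsL19 [hsL20] haL19 (dg [hsL18.b, hsL17.b, hsL16.b, hsL15.b, hsL14.b, hsL13.b, hsL12.b, hsL11.b, hsL10.b, hsL9.b, hsL8.b, hsL7.b, hsL6.b, hsL5.b, hsL4.b, hsL3.b, hsL2.b, hsL1.b, hsL0.b]) haF19.1 haF19.2) = true := by decide +kernel
noncomputable def haF20 : ℕ × ℕ := ((nat_lit 0xff000000000000000000000000000000000000000000), (nat_lit 0))
theorem hab20 : allR 0 22 (ptB 22 (nat_lit 5) (nat_lit 31) hsT haT haJ hsL20 [] haL20 (dg [hsL19.b, hsL18.b, hsL17.b, hsL16.b, hsL15.b, hsL14.b, hsL13.b, hsL12.b, hsL11.b, hsL10.b, hsL9.b, hsL8.b, hsL7.b, hsL6.b, hsL5.b, hsL4.b, hsL3.b, hsL2.b, hsL1.b, hsL0.b]) haF20.1 haF20.2) = true := by decide +kernel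
theorem habk : Bk 22 (nat_lit 5) (nat_lit 31) hsT haT haJ hsL haL [haF0, haF1, haF2, haF3, haF4, haF5, haF6, haF7, haF8, haF9, haF10, haF11, haF12, haF13, haF14, haF15, haF16, haF17, haF18, haF19, haF20] [] :=
  ⟨rfl, hab0, rfl, hab1, rfl, hab2, rfl, hab3, rfl, hab4, rfl, hab5, rfl, hab6, rfl, hab7, rfl, hab8, rfl, hab9, rfl, hab10, rfl, hab11, rfl, hab12, rfl, hab13, rfl, hab14, rfl, hab15, rfl, hab16, rfl, hab17, rfl, hab18, rfl, hab19, rfl, hab20, trivial⟩
noncomputable def hbt0 : ℕ := (nat_lit 0x26aaacb048da8951ec31e2470820)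
noncomputable def hbt1 : ℕ := (nat_lit 0x16e94df08d1a7a8ca66212450820)
noncomputable def hbt2 : ℕ := (nat_lit 0x1277c6509b1ae29aa3a296440820)
noncomputable def hbt3 : ℕ := (nat_lit 0x1cb1a8d0455a9a498f2c4e498820)
noncomputable def hbt4 : ℕ := (nat_lit 0x2ae2a62d7d20359e465226460820)
noncomputable def hbt5 : ℕ := (nat_lit 0x29598ce42b9a65a9098b1f090820)
noncomputable def hbt6 : ℕ := (nat_lit 0x212451756b9e28a933398a323020)
noncomputable def hbt7 : ℕ := (nat_lit 0x18781233795554b568a19d208860)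
noncomputable def hbt8 : ℕ := (nat_lit 0x268a95ea8818d4c174192463844e)
noncomputable def hbT : Tr ℕ := (.node (nat_lit 4) (.node (nat_lit 2) (.node (nat_lit 1) (.leaf hbt0) (.leaf hbt1)) (.node (nat_lit 3) (.leaf hbt2) (.leaf hbt3)))
 (.node (nat_lit 6) (.node (nat_lit 5) (.leaf hbt4) (.leaf hbt5)) (.node (nat_lit 7) (.leaf hbt6) (.node (nat_lit 8) (.leaf hbt7) (.leaf hbt8)))))
noncomputable def hbL0 : Lev := ⟨(nat_lit 0), (nat_lit 9), (nat_lit 0x4020406010706090903040204030906080701070800), (nat_lit 0x2020303030303010302030303030303020302030300),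
 (.leaf 0),
 (.leaf 0)⟩
noncomputable def hbL1 : Lev := ⟨(nat_lit 1), (nat_lit 8), (nat_lit 0x4020406030804010805010206030503080708070000), (nat_lit 0x3030202030303020302030203020303030201030000),
 (.leaf 0),
 (.leaf 0)⟩
noncomputable def hbL2 : Lev := ⟨(nat_lit 2), (nat_lit 7), (nat_lit 0x4030705060704030707040504010206040705000000), (nat_lit 0x3030303030403020401040302020202030302000000),
 (.leaf 0),
 (.leaf 0)⟩
noncomputable def hbL3 : Lev := ⟨(nat_lit 4), (nat_lit 6), (nat_lit 0x600000500000000000000000000000000), (nat_lit 0x100000200000000000000000000000000),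
 (.leaf 0),
 (.leaf 0)⟩
noncomputable def hbL4 : Lev := ⟨(nat_lit 13), (nat_lit 5), (nat_lit 0x500000000000000000000000000000000), (nat_lit 0x100000000000000000000000000000000),
 (.leaf 0),
 (.leaf 0)⟩
noncomputable def hbL5 : Lev := ⟨(nat_lit 3), (nat_lit 4), (nat_lit 0x4020404040004010003040204030303040000000000), (nat_lit 0x2020102030002010002030103010302040000000000),
 (.leaf 0),
 (.leaf 0)⟩
noncomputable def hbL : List Lev := [hbL0, hbL1, hbL2, hbL3, hbL4, hbL5]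
noncomputable def hbE : Tr (List ℕ) := (.node (nat_lit 4) (.node (nat_lit 2) (.node (nat_lit 1) (.leaf [nat_lit 1, nat_lit 0]) (.leaf [nat_lit 0])) (.node (nat_lit 3) (.leaf [nat_lit 3, nat_lit 2]) (.leaf [nat_lit 2, nat_lit 1, nat_lit 0])))
 (.node (nat_lit 6) (.node (nat_lit 5) (.leaf [nat_lit 4, nat_lit 3, nat_lit 2, nat_lit 1, nat_lit 0]) (.leaf [nat_lit 4, nat_lit 5, nat_lit 4, nat_lit 1])) (.node (nat_lit 7) (.leaf [nat_lit 2, nat_lit 6, nat_lit 4, nat_lit 5, nat_lit 4, nat_lit 2]) (.node (nat_lit 8) (.leaf [nat_lit 2, nat_lit 7, nat_lit 2, nat_lit 0, nat_lit 6, nat_lit 4, nat_lit 5, nat_lit 3, nat_lit 2, nat_lit 1]) (.leaf [nat_lit 4, nat_lit 0, nat_lit 8, nat_lit 3, nat_lit 1, nat_lit 7, nat_lit 3, nat_lit 1, nat_lit 6, nat_lit 5, nat_lit 4, nat_lit 3])))))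
theorem hbw_0 : hbT.all2 (fun c w => isProd 22 (nat_lit 5) (nat_lit 31) haT c w) hbE = true := by decide +kernel
theorem hbw : hbT.all2 (fun c w => isProd 22 (nat_lit 5) (nat_lit 31) haT c w) hbE = true := hbw_0
theorem hbc : band (tchainChk 22 (nat_lit 5) (nat_lit 31) hbT hbL) (Nat.ble (chainOrd 22 haL) (chainOrd 22 hbL)) = true := by decide +kernel
theorem hch {C : H7.Coding X} (hn : C.n = 22) : Ch (setSystemAut (blk C StA.hL)) 22 (nat_lit 5) (nat_lit 31) C.dec hbT hbL :=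
  have C1 := (ch_sym hn hs1).aut hn hm 3 (lets_sym hn hs2) hs3 hatc habk
  (C1.ch (lets_words C1.lets hbE hbw) hbc)
theorem hmv : mvChk 22 ([0, 1, 2].map fun b => (H7.ones 22, b)) hbL [] = true := by decide +kernel
noncomputable def hnt0 : ℕ := (nat_lit 0x11161e9073db33147592d4448820)
noncomputable def hnt1 : ℕ := (nat_lit 0x2435d5302a9a69ba27431e4a0820)
noncomputable def hnt2 : ℕ := (nat_lit 0x16e94df08d1a7a8ca66212450820)
noncomputable def hnt3 : ℕ := (nat_lit 0x1e649570aa1a389e6e5524460820)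
noncomputable def hnt4 : ℕ := (nat_lit 0xa91cd6da30863a9f58b91090820)
noncomputable def hnt5 : ℕ := (nat_lit 0x10f90ce449a0e8aa855b2ad98820)
noncomputable def hnt6 : ℕ := (nat_lit 0x1a56496913d04544753d0d383820)
noncomputable def hnt7 : ℕ := (nat_lit 0x1062494370ab38ae0d3968c4bc20)
noncomputable def hnt8 : ℕ := (nat_lit 0x3194e9061d2f589a8710a61aaa0)
noncomputable def hnt9 : ℕ := (nat_lit 0x2b482a330248c2c9c23996d0a06f)
noncomputable def hnT : Tr ℕ := (.node (nat_lit 5) (.node (nat_lit 2) (.node (nat_lit 1) (.leaf hnt0) (.leaf hnt1)) (.node (nat_lit 3) (.leaf hnt2) (.node (nat_lit 4) (.leaf hnt3) (.leaf hnt4))))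
 (.node (nat_lit 7) (.node (nat_lit 6) (.leaf hnt5) (.leaf hnt6)) (.node (nat_lit 8) (.leaf hnt7) (.node (nat_lit 9) (.leaf hnt8) (.leaf hnt9)))))
noncomputable def hnL0 : Lev := ⟨(nat_lit 0), (nat_lit 10), (nat_lit 0x406040403070a0108090a0205040905020801080900), (nat_lit 0x2020303020301020302030302030303020303020300),
 (.leaf 0),
 (.leaf 0)⟩
noncomputable def hnL1 : Lev := ⟨(nat_lit 1), (nat_lit 9), (nat_lit 0x9060302040504040809030805010203060605080000), (nat_lit 0x1030302030302030203020303020303020303030000),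
 (.leaf 0),
 (.leaf 0)⟩
noncomputable def hnL2 : Lev := ⟨(nat_lit 2), (nat_lit 8), (nat_lit 0x4060404030707080806040205040505020801000000), (nat_lit 0x2020303020301010302030202020302020303000000),
 (.leaf 0),
 (.leaf 0)⟩
noncomputable def hnL3 : Lev := ⟨(nat_lit 4), (nat_lit 6), (nat_lit 0x600000500000000000000000000000000), (nat_lit 0x100000100000000000000000000000000),
 (.leaf 0),
 (.leaf 0)⟩
noncomputable def hnL4 : Lev := ⟨(nat_lit 13), (nat_lit 4), (nat_lit 0x0), (nat_lit 0x0),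
 (.leaf 0),
 (.leaf 0)⟩
noncomputable def hnL5 : Lev := ⟨(nat_lit 3), (nat_lit 4), (nat_lit 0x4020404020003030004040301040404030000000000), (nat_lit 0x4010203020003020001030101030202020000000000),
 (.leaf 0),
 (.leaf 0)⟩
noncomputable def hnL : List Lev := [hnL0, hnL1, hnL2, hnL3, hnL4, hnL5]
noncomputable def hnE : Tr (List ℕ) := (.node (nat_lit 5) (.node (nat_lit 2) (.node (nat_lit 1) (.leaf [nat_lit 3, nat_lit 2, nat_lit 0]) (.leaf [nat_lit 1, nat_lit 0])) (.node (nat_lit 3) (.leaf [nat_lit 1]) (.node (nat_lit 4) (.leaf [nat_lit 2, nat_lit 0]) (.leaf [nat_lit 5, nat_lit 4, nat_lit 2, nat_lit 0]))))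
 (.node (nat_lit 7) (.node (nat_lit 6) (.leaf [nat_lit 4, nat_lit 5, nat_lit 3, nat_lit 2]) (.leaf [nat_lit 2, nat_lit 6, nat_lit 4, nat_lit 5, nat_lit 4, nat_lit 0])) (.node (nat_lit 8) (.leaf [nat_lit 3, nat_lit 0, nat_lit 6, nat_lit 4, nat_lit 5, nat_lit 4, nat_lit 3, nat_lit 2]) (.node (nat_lit 9) (.leaf [nat_lit 3, nat_lit 0, nat_lit 7, nat_lit 3, nat_lit 6, nat_lit 5, nat_lit 2]) (.leaf [nat_lit 5, nat_lit 7, nat_lit 8, nat_lit 2, nat_lit 1, nat_lit 7, nat_lit 3, nat_lit 6, nat_lit 4, nat_lit 1])))))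
theorem hnw_0 : hnT.all2 (fun c w => isProd 22 (nat_lit 5) (nat_lit 31) hbT c w) hnE = true := by decide +kernel
theorem hnw : hnT.all2 (fun c w => isProd 22 (nat_lit 5) (nat_lit 31) hbT c w) hnE = true := hnw_0
noncomputable def heI : Tr (List ℕ) := (.node (nat_lit 3) (.node (nat_lit 1) (.leaf [nat_lit 5, nat_lit 0, nat_lit 9, nat_lit 3, nat_lit 0, nat_lit 8, nat_lit 4, nat_lit 6, nat_lit 2, nat_lit 0]) (.node (nat_lit 2) (.leaf [nat_lit 9, nat_lit 1, nat_lit 8, nat_lit 6, nat_lit 4, nat_lit 3, nat_lit 2, nat_lit 0]) (.leaf [nat_lit 8, nat_lit 3, nat_lit 8, nat_lit 6, nat_lit 4, nat_lit 2, nat_lit 0])))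
 (.node (nat_lit 5) (.node (nat_lit 4) (.leaf [nat_lit 2, nat_lit 8, nat_lit 1, nat_lit 6, nat_lit 2, nat_lit 1]) (.leaf [nat_lit 4, nat_lit 9, nat_lit 3, nat_lit 0, nat_lit 8, nat_lit 4, nat_lit 6, nat_lit 4, nat_lit 2, nat_lit 0])) (.node (nat_lit 6) (.leaf [nat_lit 8, nat_lit 9, nat_lit 8, nat_lit 3, nat_lit 5, nat_lit 7, nat_lit 4, nat_lit 3]) (.leaf [nat_lit 9, nat_lit 0, nat_lit 8, nat_lit 6, nat_lit 3, nat_lit 7, nat_lit 5, nat_lit 3, nat_lit 2]))))
theorem heh : M22.RL.all (fun w => eqB (hbL.map Lev.b) (apF (fun y => apL (nat_lit 5) (nat_lit 31) hnT (heI.get y)) w) fun a => a) = true := by decide +kernel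
noncomputable def heD : Tr (List ℕ) := (.node (nat_lit 5) (.node (nat_lit 2) (.node (nat_lit 1) (.leaf [nat_lit 2, nat_lit 0, nat_lit 5, nat_lit 3, nat_lit 1, nat_lit 4, nat_lit 2, nat_lit 0]) (.leaf [nat_lit 0, nat_lit 3, nat_lit 0, nat_lit 5, nat_lit 2, nat_lit 1, nat_lit 4, nat_lit 3, nat_lit 1, nat_lit 2, nat_lit 1])) (.node (nat_lit 3) (.leaf [nat_lit 5, nat_lit 4, nat_lit 1, nat_lit 5, nat_lit 3, nat_lit 1, nat_lit 2, nat_lit 1]) (.node (nat_lit 4) (.leaf [nat_lit 0, nat_lit 2, nat_lit 5, nat_lit 3, nat_lit 1, nat_lit 4, nat_lit 0]) (.leaf [nat_lit 2, nat_lit 0, nat_lit 5, nat_lit 0, nat_lit 3, nat_lit 4, nat_lit 3, nat_lit 1]))))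
 (.node (nat_lit 7) (.node (nat_lit 6) (.leaf [nat_lit 1, nat_lit 2, nat_lit 5, nat_lit 1, nat_lit 2, nat_lit 1, nat_lit 4, nat_lit 0]) (.leaf [nat_lit 2, nat_lit 1, nat_lit 6, nat_lit 5, nat_lit 4, nat_lit 1, nat_lit 5, nat_lit 1, nat_lit 3, nat_lit 4, nat_lit 0, nat_lit 2, nat_lit 1])) (.node (nat_lit 8) (.leaf [nat_lit 4, nat_lit 6, nat_lit 1, nat_lit 2, nat_lit 5, nat_lit 4, nat_lit 1, nat_lit 2, nat_lit 4, nat_lit 0, nat_lit 3, nat_lit 1]) (.node (nat_lit 9) (.leaf [nat_lit 1, nat_lit 6, nat_lit 0, nat_lit 5, nat_lit 3, nat_lit 2, nat_lit 1]) (.leaf [nat_lit 5, nat_lit 3, nat_lit 6, nat_lit 3, nat_lit 5, nat_lit 4, nat_lit 0, nat_lit 3, nat_lit 4, nat_lit 0, nat_lit 3, nat_lit 2])))))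
theorem hes : band (surChk (nat_lit 5) (nat_lit 31) (hbL.map Lev.b) hnT heI (topN M22.L) heD (topN hnL)) (band (tchainChk 22 (nat_lit 5) (nat_lit 31) hnT hnL) (Nat.ble (chainOrd 24 M22.L) (chainOrd 22 hnL))) = true := by decide +kernel
theorem hsub {C : H7.Coding X} (hn : C.n = 22) : ∃ N : Subgroup (setSystemAut (blk C StA.hL)), N.index = 2 ∧ Nonempty (M22.P ≃* N) := by
  obtain ⟨N, h1, h2, -⟩ := (M22.std.emb (lets_words (hch hn).lets hnE hnw) (hch hn).base (hch hn).inj (by decide +kernel) heh hes)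
  have := (hch hn).index h1
  rw [show chainOrd 22 hnL = 443520 by decide +kernel, show chainOrd 22 hbL = 887040 by decide +kernel] at this
  exact ⟨N, by omega, h2⟩
noncomputable def wst0 : ℕ := (nat_lit 0x56d49ca307b9ac5a928398a418820)
noncomputable def wst1 : ℕ := (nat_lit 0x52b69ca307b9ac5a928398a418820)
noncomputable def wst2 : ℕ := (nat_lit 0x4e95b4a307b9ac5a928398a418820)
noncomputable def wst3 : ℕ := (nat_lit 0x4a959da307b9ac5a928398a418820)
noncomputable def wst4 : ℕ := (nat_lit 0x469594ed07b9ac5a928398a418820)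
noncomputable def wst5 : ℕ := (nat_lit 0x52569d6117b9ac5a928398a418820)
noncomputable def wst6 : ℕ := (nat_lit 0x59f09ca34ab9ac5a928398a418820)
noncomputable def wst7 : ℕ := (nat_lit 0x51d67c6509d5ac5a928398a418820)
noncomputable def wst8 : ℕ := (nat_lit 0x51b67464f84eac5a928398a418820)
noncomputable def wst9 : ℕ := (nat_lit 0x3a309b6b465a4f5a928398a418820)
noncomputable def wst10 : ℕ := (nat_lit 0x4d71b3e90931aeaa928398a418820)
noncomputable def wst11 : ℕ := (nat_lit 0x5a0c54a355b9b47cd28398a418820)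
noncomputable def wst12 : ℕ := (nat_lit 0x25d2852337d56c6aac8398a418820)
noncomputable def wst13 : ℕ := (nat_lit 0x296d8ba7044a89ad98f398a418820)
noncomputable def wst14 : ℕ := (nat_lit 0x5ab461e305393343dab918a418820)
noncomputable def wst15 : ℕ := (nat_lit 0x38cf94e2aa598d4c1683d4a418820)
noncomputable def wst16 : ℕ := (nat_lit 0x1aa49b5283ae4a732307d8b418820)
noncomputable def wst17 : ℕ := (nat_lit 0x5ab49ca262b9ac5a9283c1e418820)
noncomputable def wst18 : ℕ := (nat_lit 0x5ab49c9501adac745263a0a478820)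
noncomputable def wst19 : ℕ := (nat_lit 0x58549ca307b9ac5a928398a41d420)
noncomputable def wst20 : ℕ := (nat_lit 0x4e41b56227b8ec52ca66a1241c280)
noncomputable def wst21 : ℕ := (nat_lit 0x46b4682c943a6c3aa0f598a418832)
noncomputable def wsT : Tr ℕ := (.node (nat_lit 11) (.node (nat_lit 5) (.node (nat_lit 2) (.node (nat_lit 1) (.leaf wst0) (.leaf wst1)) (.node (nat_lit 3) (.leaf wst2) (.node (nat_lit 4) (.leaf wst3) (.leaf wst4))))
 (.node (nat_lit 8) (.node (nat_lit 6) (.leaf wst5) (.node (nat_lit 7) (.leaf wst6) (.leaf wst7))) (.node (nat_lit 9) (.leaf wst8) (.node (nat_lit 10) (.leaf wst9) (.leaf wst10)))))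
 (.node (nat_lit 16) (.node (nat_lit 13) (.node (nat_lit 12) (.leaf wst11) (.leaf wst12)) (.node (nat_lit 14) (.leaf wst13) (.node (nat_lit 15) (.leaf wst14) (.leaf wst15))))
 (.node (nat_lit 19) (.node (nat_lit 17) (.leaf wst16) (.node (nat_lit 18) (.leaf wst17) (.leaf wst18))) (.node (nat_lit 20) (.leaf wst19) (.node (nat_lit 21) (.leaf wst20) (.leaf wst21))))))
noncomputable def wsL0 : Lev := ⟨(nat_lit 0), (nat_lit 22), (nat_lit 0x4060d0516080d0b0e0a0f0b0e0d0e0f11121113141500), (nat_lit 0x202020201020302020203030303030203030303030300),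
 (.leaf 0),
 (.leaf 0)⟩
noncomputable def wsL1 : Lev := ⟨(nat_lit 1), (nat_lit 21), (nat_lit 0x20315030d0b07100a0e0c0b0e0d110f11121113140000), (nat_lit 0x202010302020202030202030303030303030203030000),
 (.leaf 0),
 (.leaf 0)⟩
noncomputable def wsL2 : Lev := ⟨(nat_lit 2), (nat_lit 20), (nat_lit 0x1140303060a0c0708090c0b0e0d0e0f10121113000000), (nat_lit 0x201020302020202020203020303030302030303000000),
 (.leaf 0),
 (.leaf 0)⟩
noncomputable def wsL3 : Lev := ⟨(nat_lit 3), (nat_lit 19), (nat_lit 0x10710080b0a091308090a0c0f0e0e1110121100000000), (nat_lit 0x302020202030201030302020203020203020300000000),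
 (.leaf 0),
 (.leaf 0)⟩
noncomputable def wsL4 : Lev := ⟨(nat_lit 5), (nat_lit 18), (nat_lit 0x10710080b0a091208090a0c0f0e0e1110001100000000), (nat_lit 0x302020202030201030302020203020203000300000000),
 (.leaf 0),
 (.leaf 0)⟩
noncomputable def wsL5 : Lev := ⟨(nat_lit 4), (nat_lit 17), (nat_lit 0x20311030d0b07100a0e0c0b0e0d110f11000000000000), (nat_lit 0x202010302020202030202030303030303000000000000),
 (.leaf 0),
 (.leaf 0)⟩
noncomputable def wsL6 : Lev := ⟨(nat_lit 6), (nat_lit 16), (nat_lit 0x1100303060a0c0708090c0b0e0d0e0f00000000000000), (nat_lit 0x201020302020202020203020303030300000000000000),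
 (.leaf 0),
 (.leaf 0)⟩
noncomputable def wsL7 : Lev := ⟨(nat_lit 7), (nat_lit 15), (nat_lit 0x4060d050f080d0b0e0a0f0b0e0d0e0000000000000000), (nat_lit 0x202020201020302020203030303030000000000000000),
 (.leaf 0),
 (.leaf 0)⟩
noncomputable def wsL8 : Lev := ⟨(nat_lit 8), (nat_lit 14), (nat_lit 0x10703080b0a090e08090a0c0c0e000000000000000000), (nat_lit 0x302030202030201030302020303000000000000000000),
 (.leaf 0),
 (.leaf 0)⟩
noncomputable def wsL9 : Lev := ⟨(nat_lit 9), (nat_lit 13), (nat_lit 0xd01020304050c070a090c0b0c00000000000000000000), (nat_lit 0x102020202020303020303030300000000000000000000),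
 (.leaf 0),
 (.leaf 0)⟩
noncomputable def wsL10 : Lev := ⟨(nat_lit 10), (nat_lit 12), (nat_lit 0x301020c05050908090a0a0c0000000000000000000000), (nat_lit 0x203030102030302020303030000000000000000000000),
 (.leaf 0),
 (.leaf 0)⟩
noncomputable def wsL11 : Lev := ⟨(nat_lit 11), (nat_lit 11), (nat_lit 0x10b0303060a070708090a000000000000000000000000), (nat_lit 0x201020302020302020203000000000000000000000000),
 (.leaf 0),
 (.leaf 0)⟩
noncomputable def wsL12 : Lev := ⟨(nat_lit 12), (nat_lit 10), (nat_lit 0x1070308060a090a080900000000000000000000000000), (nat_lit 0x302030203030201030300000000000000000000000000),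
 (.leaf 0),
 (.leaf 0)⟩
noncomputable def wsL13 : Lev := ⟨(nat_lit 13), (nat_lit 9), (nat_lit 0x109030306050707080000000000000000000000000000), (nat_lit 0x201020302030302020000000000000000000000000000),
 (.leaf 0),
 (.leaf 0)⟩
noncomputable def wsL14 : Lev := ⟨(nat_lit 14), (nat_lit 8), (nat_lit 0x108030306050707000000000000000000000000000000), (nat_lit 0x201020302030302000000000000000000000000000000),
 (.leaf 0),
 (.leaf 0)⟩
noncomputable def wsL15 : Lev := ⟨(nat_lit 15), (nat_lit 7), (nat_lit 0x107030306050700000000000000000000000000000000), (nat_lit 0x201020302030300000000000000000000000000000000),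
 (.leaf 0),
 (.leaf 0)⟩
noncomputable def wsL16 : Lev := ⟨(nat_lit 16), (nat_lit 6), (nat_lit 0x501020304060000000000000000000000000000000000), (nat_lit 0x203030303010000000000000000000000000000000000),
 (.leaf 0),
 (.leaf 0)⟩
noncomputable def wsL17 : Lev := ⟨(nat_lit 17), (nat_lit 5), (nat_lit 0x501020304000000000000000000000000000000000000), (nat_lit 0x102020202000000000000000000000000000000000000),
 (.leaf 0),
 (.leaf 0)⟩
noncomputable def wsL18 : Lev := ⟨(nat_lit 18), (nat_lit 4), (nat_lit 0x401020300000000000000000000000000000000000000), (nat_lit 0x102020200000000000000000000000000000000000000),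
 (.leaf 0),
 (.leaf 0)⟩
noncomputable def wsL19 : Lev := ⟨(nat_lit 19), (nat_lit 3), (nat_lit 0x301020000000000000000000000000000000000000000), (nat_lit 0x102020000000000000000000000000000000000000000),
 (.leaf 0),
 (.leaf 0)⟩
noncomputable def wsL20 : Lev := ⟨(nat_lit 20), (nat_lit 2), (nat_lit 0x201000000000000000000000000000000000000000000), (nat_lit 0x102000000000000000000000000000000000000000000),
 (.leaf 0),
 (.leaf 0)⟩
noncomputable def wsL21 : Lev := ⟨(nat_lit 21), (nat_lit 1), (nat_lit 0x100000000000000000000000000000000000000000000), (nat_lit 0x100000000000000000000000000000000000000000000),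
 (.leaf 0),
 (.leaf 0)⟩
noncomputable def wsL : List Lev := [wsL0, wsL1, wsL2, wsL3, wsL4, wsL5, wsL6, wsL7, wsL8, wsL9, wsL10, wsL11, wsL12, wsL13, wsL14, wsL15, wsL16, wsL17, wsL18, wsL19, wsL20, wsL21]
noncomputable def wat0 : ℕ := (nat_lit 0x4c8cb2a265b8f47c9096c0b518820)
noncomputable def wat1 : ℕ := (nat_lit 0x21474922b3398d85676a3cb218820)
noncomputable def wat2 : ℕ := (nat_lit 0x34c93ae2453ac893e8c9d4b018820)
noncomputable def wat3 : ℕ := (nat_lit 0x19b28523343aaa4b16f258a718820)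
noncomputable def wat4 : ℕ := (nat_lit 0x558a410b37c4f66a6905c9c618820)
noncomputable def wat5 : ℕ := (nat_lit 0x32c9819c8795753d1536923218820)
noncomputable def wat6 : ℕ := (nat_lit 0x4db4b0d877a2b12a92e8116690820)
noncomputable def wat7 : ℕ := (nat_lit 0x592418a2673ca85aaac3c1b49c820)
noncomputable def wat8 : ℕ := (nat_lit 0x59419944941dac5d60f71a4324680)
noncomputable def wat9 : ℕ := (nat_lit 0x4a67ad9a17ba2302928a18446160b)
noncomputable def waT : Tr ℕ := (.node (nat_lit 5) (.node (nat_lit 2) (.node (nat_lit 1) (.leaf wat0) (.leaf wat1)) (.node (nat_lit 3) (.leaf wat2) (.node (nat_lit 4) (.leaf wat3) (.leaf wat4))))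
 (.node (nat_lit 7) (.node (nat_lit 6) (.leaf wat5) (.leaf wat6)) (.node (nat_lit 8) (.leaf wat7) (.node (nat_lit 9) (.leaf wat8) (.leaf wat9)))))
noncomputable def waL0 : Lev := ⟨(nat_lit 0), (nat_lit 10), (nat_lit 0xa080404030a02010806020a0304040502070307080a00), (nat_lit 0x303030302030202030203010302030203020303030300),
 (.leaf 0),
 (.leaf 0)⟩
noncomputable def waL1 : Lev := ⟨(nat_lit 1), (nat_lit 9), (nat_lit 0x605090304070703090201060603030205090807080000), (nat_lit 0x303010302030303030302030202030203030203030000),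
 (.leaf 0),
 (.leaf 0)⟩
noncomputable def waL2 : Lev := ⟨(nat_lit 2), (nat_lit 8), (nat_lit 0x402040808070303080604030106040405070207000000), (nat_lit 0x303020301040303040303020203040302030202000000),
 (.leaf 0),
 (.leaf 0)⟩
noncomputable def waL3 : Lev := ⟨(nat_lit 3), (nat_lit 7), (nat_lit 0x402040207070303060604030106040405070200000000), (nat_lit 0x303020401040303040303020203040302030200000000),
 (.leaf 0),
 (.leaf 0)⟩
noncomputable def waL4 : Lev := ⟨(nat_lit 5), (nat_lit 6), (nat_lit 0x50000060000000000000000000000000000), (nat_lit 0x10000010000000000000000000000000000),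
 (.leaf 0),
 (.leaf 0)⟩
noncomputable def waL5 : Lev := ⟨(nat_lit 4), (nat_lit 4), (nat_lit 0x401040402000303000404030204040403000000000000), (nat_lit 0x301020201000103000203020203040102000000000000),
 (.leaf 0),
 (.leaf 0)⟩
noncomputable def waL6 : Lev := ⟨(nat_lit 6), (nat_lit 0), (nat_lit 0x0), (nat_lit 0x0),
 (.leaf 0),
 (.leaf 0)⟩
noncomputable def waL7 : Lev := ⟨(nat_lit 7), (nat_lit 0), (nat_lit 0x0), (nat_lit 0x0),
 (.leaf 0),
 (.leaf 0)⟩
noncomputable def waL8 : Lev := ⟨(nat_lit 8), (nat_lit 0), (nat_lit 0x0), (nat_lit 0x0),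
 (.leaf 0),
 (.leaf 0)⟩
noncomputable def waL9 : Lev := ⟨(nat_lit 9), (nat_lit 0), (nat_lit 0x0), (nat_lit 0x0),
 (.leaf 0),
 (.leaf 0)⟩
noncomputable def waL10 : Lev := ⟨(nat_lit 10), (nat_lit 0), (nat_lit 0x0), (nat_lit 0x0),
 (.leaf 0),
 (.leaf 0)⟩
noncomputable def waL11 : Lev := ⟨(nat_lit 11), (nat_lit 0), (nat_lit 0x0), (nat_lit 0x0),
 (.leaf 0),
 (.leaf 0)⟩
noncomputable def waL12 : Lev := ⟨(nat_lit 12), (nat_lit 0), (nat_lit 0x0), (nat_lit 0x0),
 (.leaf 0),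
 (.leaf 0)⟩
noncomputable def waL13 : Lev := ⟨(nat_lit 13), (nat_lit 0), (nat_lit 0x0), (nat_lit 0x0),
 (.leaf 0),
 (.leaf 0)⟩
noncomputable def waL14 : Lev := ⟨(nat_lit 14), (nat_lit 0), (nat_lit 0x0), (nat_lit 0x0),
 (.leaf 0),
 (.leaf 0)⟩
noncomputable def waL15 : Lev := ⟨(nat_lit 15), (nat_lit 0), (nat_lit 0x0), (nat_lit 0x0),
 (.leaf 0),
 (.leaf 0)⟩
noncomputable def waL16 : Lev := ⟨(nat_lit 16), (nat_lit 0), (nat_lit 0x0), (nat_lit 0x0),
 (.leaf 0),
 (.leaf 0)⟩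
noncomputable def waL17 : Lev := ⟨(nat_lit 17), (nat_lit 0), (nat_lit 0x0), (nat_lit 0x0),
 (.leaf 0),
 (.leaf 0)⟩
noncomputable def waL18 : Lev := ⟨(nat_lit 18), (nat_lit 0), (nat_lit 0x0), (nat_lit 0x0),
 (.leaf 0),
 (.leaf 0)⟩
noncomputable def waL19 : Lev := ⟨(nat_lit 19), (nat_lit 0), (nat_lit 0x0), (nat_lit 0x0),
 (.leaf 0),
 (.leaf 0)⟩
noncomputable def waL20 : Lev := ⟨(nat_lit 20), (nat_lit 0), (nat_lit 0x0), (nat_lit 0x0),
 (.leaf 0),
 (.leaf 0)⟩
noncomputable def waL21 : Lev := ⟨(nat_lit 21), (nat_lit 0), (nat_lit 0x0), (nat_lit 0x0),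
 (.leaf 0),
 (.leaf 0)⟩
noncomputable def waL : List Lev := [waL0, waL1, waL2, waL3, waL4, waL5, waL6, waL7, waL8, waL9, waL10, waL11, waL12, waL13, waL14, waL15, waL16, waL17, waL18, waL19, waL20, waL21]
theorem wm : mskC 23 StB.wL = true := by decide +kernel
theorem ws1 : band (wsT.all fun c => surjF 23 (ap (nat_lit 5) (nat_lit 31) c)) (band (tchainChk 23 (nat_lit 5) (nat_lit 31) wsT wsL) (Nat.ble (Nat.factorial 23) (chainOrd 23 wsL))) = true := by decide +kernel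
theorem ws2 : waT.all (fun c => surjF 23 (ap (nat_lit 5) (nat_lit 31) c)) = true := by decide +kernel
theorem ws3 : waT.all (fun c => fxF 23 StB.wL (ap (nat_lit 5) (nat_lit 31) c)) = true := by decide +kernel
theorem watc : tchainChk 23 (nat_lit 5) (nat_lit 31) waT waL = true := by decide +kernel
noncomputable def waJ : List Pr := [(prS 23 4 StB.wL)]
noncomputable def waF0 : ℕ × ℕ := ((nat_lit 0), (nat_lit 0))
theorem wab0 : allR 0 23 (ptB 23 (nat_lit 5) (nat_lit 31) wsT waT waJ wsL0 [wsL1, wsL2, wsL3, wsL4, wsL5, wsL6, wsL7, wsL8, wsL9, wsL10, wsL11, wsL12, wsL13, wsL14, wsL15, wsL16, wsL17, wsL18, wsL19, wsL20, wsL21] waL0 (dg []) waF0.1 waF0.2) = true := by decide +kernel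
noncomputable def waF1 : ℕ × ℕ := ((nat_lit 0), (nat_lit 0))
theorem wab1 : allR 0 23 (ptB 23 (nat_lit 5) (nat_lit 31) wsT waT waJ wsL1 [wsL2, wsL3, wsL4, wsL5, wsL6, wsL7, wsL8, wsL9, wsL10, wsL11, wsL12, wsL13, wsL14, wsL15, wsL16, wsL17, wsL18, wsL19, wsL20, wsL21] waL1 (dg [wsL0.b]) waF1.1 waF1.2) = true := by decide +kernel
noncomputable def waF2 : ℕ × ℕ := ((nat_lit 0), (nat_lit 0))
theorem wab2 : allR 0 23 (ptB 23 (nat_lit 5) (nat_lit 31) wsT waT waJ wsL2 [wsL3, wsL4, wsL5, wsL6, wsL7, wsL8, wsL9, wsL10, wsL11, wsL12, wsL13, wsL14, wsL15, wsL16, wsL17, wsL18, wsL19, wsL20, wsL21] waL2 (dg [wsL1.b, wsL0.b]) waF2.1 waF2.2) = true := by decide +kernel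
noncomputable def waF3 : ℕ × ℕ := ((nat_lit 0), (nat_lit 0))
theorem wab3 : allR 0 23 (ptB 23 (nat_lit 5) (nat_lit 31) wsT waT waJ wsL3 [wsL4, wsL5, wsL6, wsL7, wsL8, wsL9, wsL10, wsL11, wsL12, wsL13, wsL14, wsL15, wsL16, wsL17, wsL18, wsL19, wsL20, wsL21] waL3 (dg [wsL2.b, wsL1.b, wsL0.b]) waF3.1 waF3.2) = true := by decide +kernel
noncomputable def waF4 : ℕ × ℕ := ((nat_lit 0xffffffffff00ffff00ffffffffffffffff00ff00000000), (nat_lit 0))
theorem wab4 : allR 0 23 (ptB 23 (nat_lit 5) (nat_lit 31) wsT waT waJ wsL4 [wsL5, wsL6, wsL7, wsL8, wsL9, wsL10, wsL11, wsL12, wsL13, wsL14, wsL15, wsL16, wsL17, wsL18, wsL19, wsL20, wsL21] waL4 (dg [wsL3.b, wsL2.b, wsL1.b, wsL0.b]) waF4.1 waF4.2) = true := by decide +kernel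
noncomputable def waF5 : ℕ × ℕ := ((nat_lit 0xff0000ff0000000000000000000000000000), (nat_lit 0))
theorem wab5 : allR 0 23 (ptB 23 (nat_lit 5) (nat_lit 31) wsT waT waJ wsL5 [wsL6, wsL7, wsL8, wsL9, wsL10, wsL11, wsL12, wsL13, wsL14, wsL15, wsL16, wsL17, wsL18, wsL19, wsL20, wsL21] waL5 (dg [wsL4.b, wsL3.b, wsL2.b, wsL1.b, wsL0.b]) waF5.1 waF5.2) = true := by decide +kernel
noncomputable def waF6 : ℕ × ℕ := ((nat_lit 0xffffffffffffffffffffffffffffffff00000000000000), (nat_lit 0))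
theorem wab6 : allR 0 23 (ptB 23 (nat_lit 5) (nat_lit 31) wsT waT waJ wsL6 [wsL7, wsL8, wsL9, wsL10, wsL11, wsL12, wsL13, wsL14, wsL15, wsL16, wsL17, wsL18, wsL19, wsL20, wsL21] waL6 (dg [wsL5.b, wsL4.b, wsL3.b, wsL2.b, wsL1.b, wsL0.b]) waF6.1 waF6.2) = true := by decide +kernel
noncomputable def waF7 : ℕ × ℕ := ((nat_lit 0xffffffffffffffffffffffffffffff0000000000000000), (nat_lit 0))
theorem wab7 : allR 0 23 (ptB 23 (nat_lit 5) (nat_lit 31) wsT waT waJ wsL7 [wsL8, wsL9, wsL10, wsL11, wsL12, wsL13, wsL14, wsL15, wsL16, wsL17, wsL18, wsL19, wsL20, wsL21] waL7 (dg [wsL6.b, wsL5.b, wsL4.b, wsL3.b, wsL2.b, wsL1.b, wsL0.b]) waF7.1 waF7.2) = true := by decide +kernel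
noncomputable def waF8 : ℕ × ℕ := ((nat_lit 0xffffffffffffffffffffffffffff000000000000000000), (nat_lit 0))
theorem wab8 : allR 0 23 (ptB 23 (nat_lit 5) (nat_lit 31) wsT waT waJ wsL8 [wsL9, wsL10, wsL11, wsL12, wsL13, wsL14, wsL15, wsL16, wsL17, wsL18, wsL19, wsL20, wsL21] waL8 (dg [wsL7.b, wsL6.b, wsL5.b, wsL4.b, wsL3.b, wsL2.b, wsL1.b, wsL0.b]) waF8.1 waF8.2) = true := by decide +kernel
noncomputable def waF9 : ℕ × ℕ := ((nat_lit 0xffffffffffffffffffffffffff00000000000000000000), (nat_lit 0))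
theorem wab9 : allR 0 23 (ptB 23 (nat_lit 5) (nat_lit 31) wsT waT waJ wsL9 [wsL10, wsL11, wsL12, wsL13, wsL14, wsL15, wsL16, wsL17, wsL18, wsL19, wsL20, wsL21] waL9 (dg [wsL8.b, wsL7.b, wsL6.b, wsL5.b, wsL4.b, wsL3.b, wsL2.b, wsL1.b, wsL0.b]) waF9.1 waF9.2) = true := by decide +kernel
noncomputable def waF10 : ℕ × ℕ := ((nat_lit 0xffffffffffffffffffffffff0000000000000000000000), (nat_lit 0))
theorem wab10 : allR 0 23 (ptB 23 (nat_lit 5) (nat_lit 31) wsT waT waJ wsL10 [wsL11, wsL12, wsL13, wsL14, wsL15, wsL16, wsL17, wsL18, wsL19, wsL20, wsL21] waL10 (dg [wsL9.b, wsL8.b, wsL7.b, wsL6.b, wsL5.b, wsL4.b, wsL3.b, wsL2.b, wsL1.b, wsL0.b]) waF10.1 waF10.2) = true := by decide +kernel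
noncomputable def waF11 : ℕ × ℕ := ((nat_lit 0xffffffffffffffffffffff000000000000000000000000), (nat_lit 0))
theorem wab11 : allR 0 23 (ptB 23 (nat_lit 5) (nat_lit 31) wsT waT waJ wsL11 [wsL12, wsL13, wsL14, wsL15, wsL16, wsL17, wsL18, wsL19, wsL20, wsL21] waL11 (dg [wsL10.b, wsL9.b, wsL8.b, wsL7.b, wsL6.b, wsL5.b, wsL4.b, wsL3.b, wsL2.b, wsL1.b, wsL0.b]) waF11.1 waF11.2) = true := by decide +kernel
noncomputable def waF12 : ℕ × ℕ := ((nat_lit 0xffffffffffffffffffff00000000000000000000000000), (nat_lit 0))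
theorem wab12 : allR 0 23 (ptB 23 (nat_lit 5) (nat_lit 31) wsT waT waJ wsL12 [wsL13, wsL14, wsL15, wsL16, wsL17, wsL18, wsL19, wsL20, wsL21] waL12 (dg [wsL11.b, wsL10.b, wsL9.b, wsL8.b, wsL7.b, wsL6.b, wsL5.b, wsL4.b, wsL3.b, wsL2.b, wsL1.b, wsL0.b]) waF12.1 waF12.2) = true := by decide +kernel
noncomputable def waF13 : ℕ × ℕ := ((nat_lit 0xffffffffffffffffff0000000000000000000000000000), (nat_lit 0))
theorem wab13 : allR 0 23 (ptB 23 (nat_lit 5) (nat_lit 31) wsT waT waJ wsL13 [wsL14, wsL15, wsL16, wsL17, wsL18, wsL19, wsL20, wsL21] waL13 (dg [wsL12.b, wsL11.b, wsL10.b, wsL9.b, wsL8.b, wsL7.b, wsL6.b, wsL5.b, wsL4.b, wsL3.b, wsL2.b, wsL1.b, wsL0.b]) waF13.1 waF13.2) = true := by decide +kernel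
noncomputable def waF14 : ℕ × ℕ := ((nat_lit 0xffffffffffffffff000000000000000000000000000000), (nat_lit 0))
theorem wab14 : allR 0 23 (ptB 23 (nat_lit 5) (nat_lit 31) wsT waT waJ wsL14 [wsL15, wsL16, wsL17, wsL18, wsL19, wsL20, wsL21] waL14 (dg [wsL13.b, wsL12.b, wsL11.b, wsL10.b, wsL9.b, wsL8.b, wsL7.b, wsL6.b, wsL5.b, wsL4.b, wsL3.b, wsL2.b, wsL1.b, wsL0.b]) waF14.1 waF14.2) = true := by decide +kernel
noncomputable def waF15 : ℕ × ℕ := ((nat_lit 0xffffffffffffff00000000000000000000000000000000), (nat_lit 0))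
theorem wab15 : allR 0 23 (ptB 23 (nat_lit 5) (nat_lit 31) wsT waT waJ wsL15 [wsL16, wsL17, wsL18, wsL19, wsL20, wsL21] waL15 (dg [wsL14.b, wsL13.b, wsL12.b, wsL11.b, wsL10.b, wsL9.b, wsL8.b, wsL7.b, wsL6.b, wsL5.b, wsL4.b, wsL3.b, wsL2.b, wsL1.b, wsL0.b]) waF15.1 waF15.2) = true := by decide +kernel
noncomputable def waF16 : ℕ × ℕ := ((nat_lit 0xffffffffffff0000000000000000000000000000000000), (nat_lit 0))
theorem wab16 : allR 0 23 (ptB 23 (nat_lit 5) (nat_lit 31) wsT waT waJ wsL16 [wsL17, wsL18, wsL19, wsL20, wsL21] waL16 (dg [wsL15.b, wsL14.b, wsL13.b, wsL12.b, wsL11.b, wsL10.b, wsL9.b, wsL8.b, wsL7.b, wsL6.b, wsL5.b, wsL4.b, wsL3.b, wsL2.b, wsL1.b, wsL0.b]) waF16.1 waF16.2) = true := by decide +kernel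
noncomputable def waF17 : ℕ × ℕ := ((nat_lit 0xffffffffff000000000000000000000000000000000000), (nat_lit 0))
theorem wab17 : allR 0 23 (ptB 23 (nat_lit 5) (nat_lit 31) wsT waT waJ wsL17 [wsL18, wsL19, wsL20, wsL21] waL17 (dg [wsL16.b, wsL15.b, wsL14.b, wsL13.b, wsL12.b, wsL11.b, wsL10.b, wsL9.b, wsL8.b, wsL7.b, wsL6.b, wsL5.b, wsL4.b, wsL3.b, wsL2.b, wsL1.b, wsL0.b]) waF17.1 waF17.2) = true := by decide +kernel
noncomputable def waF18 : ℕ × ℕ := ((nat_lit 0xffffffff00000000000000000000000000000000000000), (nat_lit 0))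
theorem wab18 : allR 0 23 (ptB 23 (nat_lit 5) (nat_lit 31) wsT waT waJ wsL18 [wsL19, wsL20, wsL21] waL18 (dg [wsL17.b, wsL16.b, wsL15.b, wsL14.b, wsL13.b, wsL12.b, wsL11.b, wsL10.b, wsL9.b, wsL8.b, wsL7.b, wsL6.b, wsL5.b, wsL4.b, wsL3.b, wsL2.b, wsL1.b, wsL0.b]) waF18.1 waF18.2) = true := by decide +kernel
noncomputable def waF19 : ℕ × ℕ := ((nat_lit 0xffffff0000000000000000000000000000000000000000), (nat_lit 0))
theorem wab19 : allR 0 23 (ptB 23 (nat_lit 5) (nat_lit 31) wsT waT waJ wsL19 [wsL20, wsL21] waL19 (dg [wsL18.b, wsL17.b, wsL16.b, wsL15.b, wsL14.b, wsL13.b, wsL12.b, wsL11.b, wsL10.b, wsL9.b, wsL8.b, wsL7.b, wsL6.b, wsL5.b, wsL4.b, wsL3.b, wsL2.b, wsL1.b, wsL0.b]) waF19.1 waF19.2) = true := by decide +kernel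
noncomputable def waF20 : ℕ × ℕ := ((nat_lit 0xffff000000000000000000000000000000000000000000), (nat_lit 0))
theorem wab20 : allR 0 23 (ptB 23 (nat_lit 5) (nat_lit 31) wsT waT waJ wsL20 [wsL21] waL20 (dg [wsL19.b, wsL18.b, wsL17.b, wsL16.b, wsL15.b, wsL14.b, wsL13.b, wsL12.b, wsL11.b, wsL10.b, wsL9.b, wsL8.b, wsL7.b, wsL6.b, wsL5.b, wsL4.b, wsL3.b, wsL2.b, wsL1.b, wsL0.b]) waF20.1 waF20.2) = true := by decide +kernel
noncomputable def waF21 : ℕ × ℕ := ((nat_lit 0xff00000000000000000000000000000000000000000000), (nat_lit 0))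
theorem wab21 : allR 0 23 (ptB 23 (nat_lit 5) (nat_lit 31) wsT waT waJ wsL21 [] waL21 (dg [wsL20.b, wsL19.b, wsL18.b, wsL17.b, wsL16.b, wsL15.b, wsL14.b, wsL13.b, wsL12.b, wsL11.b, wsL10.b, wsL9.b, wsL8.b, wsL7.b, wsL6.b, wsL5.b, wsL4.b, wsL3.b, wsL2.b, wsL1.b, wsL0.b]) waF21.1 waF21.2) = true := by decide +kernel
theorem wabk : Bk 23 (nat_lit 5) (nat_lit 31) wsT waT waJ wsL waL [waF0, waF1, waF2, waF3, waF4, waF5, waF6, waF7, waF8, waF9, waF10, waF11, waF12, waF13, waF14, waF15, waF16, waF17, waF18, waF19, waF20, waF21] [] :=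
  ⟨rfl, wab0, rfl, wab1, rfl, wab2, rfl, wab3, rfl, wab4, rfl, wab5, rfl, wab6, rfl, wab7, rfl, wab8, rfl, wab9, rfl, wab10, rfl, wab11, rfl, wab12, rfl, wab13, rfl, wab14, rfl, wab15, rfl, wab16, rfl, wab17, rfl, wab18, rfl, wab19, rfl, wab20, rfl, wab21, trivial⟩
noncomputable def wbt0 : ℕ := (nat_lit 0x2e957b6289ba44b1cd0524ac18820)
noncomputable def wbt1 : ℕ := (nat_lit 0x1e086be3593a6952d94b10a618820)
noncomputable def wbt2 : ℕ := (nat_lit 0x3d8459e29b39559b606920b418820)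
noncomputable def wbt3 : ℕ := (nat_lit 0x40ea332364b892451ebaccad18820)
noncomputable def wbt4 : ℕ := (nat_lit 0x2613220aa3c5f25d4cc6d9d418820)
noncomputable def wbt5 : ℕ := (nat_lit 0x1944a31d5694e85c2d27a63318820)
noncomputable def wbt6 : ℕ := (nat_lit 0x15467c9a39922c5d4e84d2ce80820)
noncomputable def wbt7 : ℕ := (nat_lit 0xaab1c92d3ba06a2a257b1049d820)
noncomputable def wbt8 : ℕ := (nat_lit 0x6069c955138645c5093d0ac6bec0)
noncomputable def wbt9 : ℕ := (nat_lit 0x2aab285d07c58da580839a6219249)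
noncomputable def wbT : Tr ℕ := (.node (nat_lit 5) (.node (nat_lit 2) (.node (nat_lit 1) (.leaf wbt0) (.leaf wbt1)) (.node (nat_lit 3) (.leaf wbt2) (.node (nat_lit 4) (.leaf wbt3) (.leaf wbt4))))
 (.node (nat_lit 7) (.node (nat_lit 6) (.leaf wbt5) (.leaf wbt6)) (.node (nat_lit 8) (.leaf wbt7) (.node (nat_lit 9) (.leaf wbt8) (.leaf wbt9)))))
noncomputable def wbL0 : Lev := ⟨(nat_lit 0), (nat_lit 10), (nat_lit 0x503070404080304050a0201060a090701070207090900), (nat_lit 0x203030303020202030302030301020202030303030300),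
 (.leaf 0),
 (.leaf 0)⟩
noncomputable def wbL1 : Lev := ⟨(nat_lit 1), (nat_lit 9), (nat_lit 0x904080303080403060608010206040205070207080000), (nat_lit 0x103030303030202030303020302030202020303020000),
 (.leaf 0),
 (.leaf 0)⟩
noncomputable def wbL2 : Lev := ⟨(nat_lit 2), (nat_lit 8), (nat_lit 0x804080303080403060608010206040205070207000000), (nat_lit 0x103030303030202030303020302030202020303000000),
 (.leaf 0),
 (.leaf 0)⟩
noncomputable def wbL3 : Lev := ⟨(nat_lit 3), (nat_lit 7), (nat_lit 0x402020605050704060306040603010403070300000000), (nat_lit 0x202030403040103040303030202020303030400000000),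
 (.leaf 0),
 (.leaf 0)⟩
noncomputable def wbL4 : Lev := ⟨(nat_lit 5), (nat_lit 6), (nat_lit 0x50000060000000000000000000000000000), (nat_lit 0x10000010000000000000000000000000000),
 (.leaf 0),
 (.leaf 0)⟩
noncomputable def wbL5 : Lev := ⟨(nat_lit 4), (nat_lit 4), (nat_lit 0x403030404000304000401040402030402000000000000), (nat_lit 0x402010202000303000101030202020301000000000000),
 (.leaf 0),
 (.leaf 0)⟩
noncomputable def wbL : List Lev := [wbL0, wbL1, wbL2, wbL3, wbL4, wbL5]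
noncomputable def wbE : Tr (List ℕ) := (.node (nat_lit 5) (.node (nat_lit 2) (.node (nat_lit 1) (.leaf [nat_lit 3, nat_lit 1, nat_lit 0]) (.leaf [nat_lit 2, nat_lit 0])) (.node (nat_lit 3) (.leaf [nat_lit 3, nat_lit 1]) (.node (nat_lit 4) (.leaf [nat_lit 3, nat_lit 0]) (.leaf [nat_lit 4, nat_lit 3, nat_lit 2, nat_lit 1]))))
 (.node (nat_lit 7) (.node (nat_lit 6) (.leaf [nat_lit 5, nat_lit 3, nat_lit 2, nat_lit 1, nat_lit 0]) (.leaf [nat_lit 2, nat_lit 1, nat_lit 6, nat_lit 5, nat_lit 2])) (.node (nat_lit 8) (.leaf [nat_lit 3, nat_lit 5, nat_lit 7, nat_lit 4, nat_lit 3]) (.node (nat_lit 9) (.leaf [nat_lit 4, nat_lit 0, nat_lit 8, nat_lit 2, nat_lit 7, nat_lit 3, nat_lit 2, nat_lit 0, nat_lit 6, nat_lit 4, nat_lit 2, nat_lit 1]) (.leaf [nat_lit 3, nat_lit 9, nat_lit 1, nat_lit 8, nat_lit 7, nat_lit 2, nat_lit 0, nat_lit 7, nat_lit 4, nat_lit 2, nat_lit 6, nat_lit 5, nat_lit 3])))))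
theorem wbw_0 : wbT.all2 (fun c w => isProd 23 (nat_lit 5) (nat_lit 31) waT c w) wbE = true := by decide +kernel
theorem wbw : wbT.all2 (fun c w => isProd 23 (nat_lit 5) (nat_lit 31) waT c w) wbE = true := wbw_0
theorem wbc : band (tchainChk 23 (nat_lit 5) (nat_lit 31) wbT wbL) (Nat.ble (chainOrd 23 waL) (chainOrd 23 wbL)) = true := by decide +kernel
theorem wch {C : H7.Coding X} (hn : C.n = 23) : Ch (setSystemAut (blk C StB.wL)) 23 (nat_lit 5) (nat_lit 31) C.dec wbT wbL :=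
  have C1 := (ch_sym hn ws1).aut hn wm 4 (lets_sym hn ws2) ws3 watc wabk
  (C1.ch (lets_words C1.lets wbE wbw) wbc)
theorem wmv : mvChk 23 ([0, 1, 2, 3].map fun b => (H7.ones 23, b)) wbL [] = true := by decide +kernel
noncomputable def wiI : Tr (List ℕ) := (.node (nat_lit 4) (.node (nat_lit 2) (.node (nat_lit 1) (.leaf [nat_lit 4, nat_lit 3, nat_lit 1]) (.leaf [nat_lit 5, nat_lit 2])) (.node (nat_lit 3) (.leaf [nat_lit 3, nat_lit 1]) (.leaf [nat_lit 3, nat_lit 2, nat_lit 1, nat_lit 0])))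
 (.node (nat_lit 6) (.node (nat_lit 5) (.leaf [nat_lit 1, nat_lit 0, nat_lit 6, nat_lit 4, nat_lit 0]) (.leaf [nat_lit 7, nat_lit 5, nat_lit 7, nat_lit 3, nat_lit 1, nat_lit 6, nat_lit 5, nat_lit 3, nat_lit 1])) (.node (nat_lit 7) (.leaf [nat_lit 1, nat_lit 5, nat_lit 8, nat_lit 7, nat_lit 5, nat_lit 7, nat_lit 2, nat_lit 6, nat_lit 5]) (.leaf [nat_lit 2, nat_lit 1, nat_lit 9, nat_lit 4, nat_lit 1, nat_lit 8, nat_lit 3, nat_lit 1, nat_lit 7, nat_lit 5, nat_lit 0, nat_lit 6, nat_lit 5, nat_lit 3]))))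
theorem wih : M23.RL.all (fun w => eqB (wbL.map Lev.b) (apF (fun y => apL (nat_lit 5) (nat_lit 31) wbT (wiI.get y)) w) fun a => a) = true := by decide +kernel
noncomputable def wiD : Tr (List ℕ) := (.node (nat_lit 5) (.node (nat_lit 2) (.node (nat_lit 1) (.leaf [nat_lit 3, nat_lit 1, nat_lit 2, nat_lit 0]) (.leaf [nat_lit 2, nat_lit 1, nat_lit 3, nat_lit 0])) (.node (nat_lit 3) (.leaf [nat_lit 0, nat_lit 2, nat_lit 1]) (.node (nat_lit 4) (.leaf [nat_lit 1, nat_lit 3, nat_lit 0]) (.leaf [nat_lit 0, nat_lit 2]))))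
 (.node (nat_lit 7) (.node (nat_lit 6) (.leaf [nat_lit 2, nat_lit 1]) (.leaf [nat_lit 4, nat_lit 1, nat_lit 3, nat_lit 4, nat_lit 1, nat_lit 3, nat_lit 2, nat_lit 0])) (.node (nat_lit 8) (.leaf [nat_lit 4, nat_lit 0, nat_lit 5, nat_lit 3, nat_lit 1, nat_lit 4, nat_lit 0, nat_lit 3]) (.node (nat_lit 9) (.leaf [nat_lit 3, nat_lit 6, nat_lit 0, nat_lit 5, nat_lit 3, nat_lit 2, nat_lit 1, nat_lit 4, nat_lit 2, nat_lit 0, nat_lit 3]) (.leaf [nat_lit 0, nat_lit 7, nat_lit 6, nat_lit 2, nat_lit 6, nat_lit 1, nat_lit 4, nat_lit 3, nat_lit 4, nat_lit 2, nat_lit 1])))))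
theorem wis : band (surChk (nat_lit 5) (nat_lit 31) (wbL.map Lev.b) wbT wiI (topN M23.L) wiD (topN wbL)) (Nat.ble (chainOrd 24 M23.L) (chainOrd 23 wbL)) = true := by decide +kernel
theorem wiso {C : H7.Coding X} (hn : C.n = 23) : Nonempty (M23.P ≃* (setSystemAut (blk C StB.wL))) :=
  (M23.std.isoW (wch hn) wih wis)
noncomputable def ost0 : ℕ := (nat_lit 0xb5eb49ca307b9ac5a928398a418820)
noncomputable def ost1 : ℕ := (nat_lit 0xbd6d49ca307b9ac5a928398a418820)
noncomputable def ost2 : ℕ := (nat_lit 0xbd2b69ca307b9ac5a928398a418820)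
noncomputable def ost3 : ℕ := (nat_lit 0xa4eb7b4a307b9ac5a928398a418820)
noncomputable def ost4 : ℕ := (nat_lit 0xa4a77ada307b9ac5a928398a418820)
noncomputable def ost5 : ℕ := (nat_lit 0x9c654bd6d07b9ac5a928398a418820)
noncomputable def ost6 : ℕ := (nat_lit 0x9c295bca367b9ac5a928398a418820)
noncomputable def ost7 : ℕ := (nat_lit 0xbda74aca2f839ac5a928398a418820)
noncomputable def ost8 : ℕ := (nat_lit 0x9bab2bd2307d9ac5a928398a418820)
noncomputable def ost9 : ℕ := (nat_lit 0xbd9b19be9093aac5a928398a418820)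
noncomputable def ost10 : ℕ := (nat_lit 0x7b22e6c2b2bd2765a928398a418820)
noncomputable def ost11 : ℕ := (nat_lit 0x75ab482e337ddac92928398a418820)
noncomputable def ost12 : ℕ := (nat_lit 0xbaab49ca2e7c1ac5d928398a418820)
noncomputable def ost13 : ℕ := (nat_lit 0xbdab49a6307b9ac5aa48398a418820)
noncomputable def ost14 : ℕ := (nat_lit 0x5a1b153a8f84aa9bcd96398a418820)
noncomputable def ost15 : ℕ := (nat_lit 0xbdaad829f389a8c4492b3b8a418820)
noncomputable def ost16 : ℕ := (nat_lit 0xbda959ca257b8cc4a9683b60418820)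
noncomputable def ost17 : ℕ := (nat_lit 0x2bd079c64bb314e834d5a26e418820)
noncomputable def ost18 : ℕ := (nat_lit 0xb92a9649d07c5b35aa88394d618820)
noncomputable def ost19 : ℕ := (nat_lit 0x245942a6cb50d1583e4d31e7770820)
noncomputable def ost20 : ℕ := (nat_lit 0x1d8e58099373db132928aae84bc820)
noncomputable def ost21 : ℕ := (nat_lit 0x9a08db85307ba8c28a36399751aa40)
noncomputable def ost22 : ℕ := (nat_lit 0x5590694db03962c05c357d1c32092b)
noncomputable def osT : Tr ℕ := (.node (nat_lit 11) (.node (nat_lit 5) (.node (nat_lit 2) (.node (nat_lit 1) (.leaf ost0) (.leaf ost1)) (.node (nat_lit 3) (.leaf ost2) (.node (nat_lit 4) (.leaf ost3) (.leaf ost4))))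
 (.node (nat_lit 8) (.node (nat_lit 6) (.leaf ost5) (.node (nat_lit 7) (.leaf ost6) (.leaf ost7))) (.node (nat_lit 9) (.leaf ost8) (.node (nat_lit 10) (.leaf ost9) (.leaf ost10)))))
 (.node (nat_lit 17) (.node (nat_lit 14) (.node (nat_lit 12) (.leaf ost11) (.node (nat_lit 13) (.leaf ost12) (.leaf ost13))) (.node (nat_lit 15) (.leaf ost14) (.node (nat_lit 16) (.leaf ost15) (.leaf ost16))))
 (.node (nat_lit 20) (.node (nat_lit 18) (.leaf ost17) (.node (nat_lit 19) (.leaf ost18) (.leaf ost19))) (.node (nat_lit 21) (.leaf ost20) (.node (nat_lit 22) (.leaf ost21) (.leaf ost22))))))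
noncomputable def osL0 : Lev := ⟨(nat_lit 0), (nat_lit 23), (nat_lit 0xf050609170c12120a0f140f171011101415161415151600), (nat_lit 0x20303030302030203030303010302020302020303030300),
 (.leaf 0),
 (.leaf 0)⟩
noncomputable def osL1 : Lev := ⟨(nat_lit 1), (nat_lit 22), (nat_lit 0x10506090416120b0a0f0a0b0c100e0f1515151314150000), (nat_lit 0x30202020301020202020303020202030303030303020000),
 (.leaf 0),
 (.leaf 0)⟩
noncomputable def osL2 : Lev := ⟨(nat_lit 2), (nat_lit 21), (nat_lit 0x10506090415120b0a0f0a0b0c100e0f1515151314000000), (nat_lit 0x30202020301020202020303020202030303030303000000),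
 (.leaf 0),
 (.leaf 0)⟩
noncomputable def osL3 : Lev := ⟨(nat_lit 3), (nat_lit 20), (nat_lit 0xc09020b040f130d121410120f0d130f1210121300000000), (nat_lit 0x20203020302020203010302030303030302030300000000),
 (.leaf 0),
 (.leaf 0)⟩
noncomputable def osL4 : Lev := ⟨(nat_lit 4), (nat_lit 19), (nat_lit 0x11302030405060712090a0b0f0d130f1210120000000000), (nat_lit 0x20102020202020202020302030203020303030000000000),
 (.leaf 0),
 (.leaf 0)⟩
noncomputable def osL5 : Lev := ⟨(nat_lit 7), (nat_lit 18), (nat_lit 0x403071204090a07120b100b0f0d0e0f0010120000000000), (nat_lit 0x20202010302020303020203030303030003030000000000),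
 (.leaf 0),
 (.leaf 0)⟩
noncomputable def osL6 : Lev := ⟨(nat_lit 5), (nat_lit 17), (nat_lit 0x10702030c0b0611080d0b0b0c0d0e0f0010000000000000), (nat_lit 0x30203030202030102020303030303030003000000000000),
 (.leaf 0),
 (.leaf 0)⟩
noncomputable def osL7 : Lev := ⟨(nat_lit 6), (nat_lit 16), (nat_lit 0xc09020b040f060d0b10100b0f0d0e0f0000000000000000), (nat_lit 0x20203020302030203010303030303030000000000000000),
 (.leaf 0),
 (.leaf 0)⟩
noncomputable def osL8 : Lev := ⟨(nat_lit 8), (nat_lit 15), (nat_lit 0x10f0203040506070b090a0b0f0d0e000000000000000000), (nat_lit 0x20102020202020203020302030203000000000000000000),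
 (.leaf 0),
 (.leaf 0)⟩
noncomputable def osL9 : Lev := ⟨(nat_lit 9), (nat_lit 14), (nat_lit 0x1050609040e060b0a090a0b0c0d00000000000000000000), (nat_lit 0x30202020301030202030303020300000000000000000000),
 (.leaf 0),
 (.leaf 0)⟩
noncomputable def osL10 : Lev := ⟨(nat_lit 10), (nat_lit 13), (nat_lit 0x10d0203040506070b090a0b0c0000000000000000000000), (nat_lit 0x20102020202020203020302030000000000000000000000),
 (.leaf 0),
 (.leaf 0)⟩
noncomputable def osL11 : Lev := ⟨(nat_lit 11), (nat_lit 12), (nat_lit 0x1050609040c060b0a090a0b000000000000000000000000), (nat_lit 0x30202020301030202030303000000000000000000000000),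
 (.leaf 0),
 (.leaf 0)⟩
noncomputable def osL12 : Lev := ⟨(nat_lit 12), (nat_lit 11), (nat_lit 0x10b0203040506070b090a00000000000000000000000000), (nat_lit 0x20102020202020203020300000000000000000000000000),
 (.leaf 0),
 (.leaf 0)⟩
noncomputable def osL13 : Lev := ⟨(nat_lit 13), (nat_lit 10), (nat_lit 0x1020a07050606070a090000000000000000000000000000), (nat_lit 0x30201020202030303030000000000000000000000000000),
 (.leaf 0),
 (.leaf 0)⟩
noncomputable def osL14 : Lev := ⟨(nat_lit 14), (nat_lit 9), (nat_lit 0x10902030405060708000000000000000000000000000000), (nat_lit 0x20102020202020203000000000000000000000000000000),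
 (.leaf 0),
 (.leaf 0)⟩
noncomputable def osL15 : Lev := ⟨(nat_lit 15), (nat_lit 8), (nat_lit 0x10702030405060800000000000000000000000000000000), (nat_lit 0x30203030303030100000000000000000000000000000000),
 (.leaf 0),
 (.leaf 0)⟩
noncomputable def osL16 : Lev := ⟨(nat_lit 16), (nat_lit 7), (nat_lit 0x10702030405060000000000000000000000000000000000), (nat_lit 0x20102020202020000000000000000000000000000000000),
 (.leaf 0),
 (.leaf 0)⟩
noncomputable def osL17 : Lev := ⟨(nat_lit 17), (nat_lit 6), (nat_lit 0x10602030405000000000000000000000000000000000000), (nat_lit 0x20102020202000000000000000000000000000000000000),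
 (.leaf 0),
 (.leaf 0)⟩
noncomputable def osL18 : Lev := ⟨(nat_lit 18), (nat_lit 5), (nat_lit 0x10502030400000000000000000000000000000000000000), (nat_lit 0x20102020200000000000000000000000000000000000000),
 (.leaf 0),
 (.leaf 0)⟩
noncomputable def osL19 : Lev := ⟨(nat_lit 19), (nat_lit 4), (nat_lit 0x10402030000000000000000000000000000000000000000), (nat_lit 0x20102020000000000000000000000000000000000000000),
 (.leaf 0),
 (.leaf 0)⟩
noncomputable def osL20 : Lev := ⟨(nat_lit 20), (nat_lit 3), (nat_lit 0x10302000000000000000000000000000000000000000000), (nat_lit 0x20102000000000000000000000000000000000000000000),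
 (.leaf 0),
 (.leaf 0)⟩
noncomputable def osL21 : Lev := ⟨(nat_lit 21), (nat_lit 2), (nat_lit 0x10200000000000000000000000000000000000000000000), (nat_lit 0x20100000000000000000000000000000000000000000000),
 (.leaf 0),
 (.leaf 0)⟩
noncomputable def osL22 : Lev := ⟨(nat_lit 22), (nat_lit 1), (nat_lit 0x10000000000000000000000000000000000000000000000), (nat_lit 0x10000000000000000000000000000000000000000000000),
 (.leaf 0),
 (.leaf 0)⟩
noncomputable def osL : List Lev := [osL0, osL1, osL2, osL3, osL4, osL5, osL6, osL7, osL8, osL9, osL10, osL11, osL12, osL13, osL14, osL15, osL16, osL17, osL18, osL19, osL20, osL21, osL22]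
noncomputable def oat0 : ℕ := (nat_lit 0x7d6c971a11bcd6c6aa853c90418820)
noncomputable def oat1 : ℕ := (nat_lit 0xabee5339abb4a2c829093ce8418820)
noncomputable def oat2 : ℕ := (nat_lit 0x4950f6c0d2a2e6c72af53c6c418820)
noncomputable def oat3 : ℕ := (nat_lit 0x5c613a22d56a5ecba9d2394c418820)
noncomputable def oat4 : ℕ := (nat_lit 0xa3acb9a5a8854cab9caf6464418820)
noncomputable def oat5 : ℕ := (nat_lit 0x5d5d7994cf45a27a32505352418820)
noncomputable def oat6 : ℕ := (nat_lit 0x63eb44c946b1db74466b7408518820)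
noncomputable def oat7 : ℕ := (nat_lit 0x6d9549be2491eec3546572d1048820)
noncomputable def oat8 : ℕ := (nat_lit 0xbd9aa99cc313aa42d1289456c83c20)
noncomputable def oat9 : ℕ := (nat_lit 0x68c5422e30406ec9292f394d3b55c0)
noncomputable def oat10 : ℕ := (nat_lit 0xc5a71b2c602eb271109a404a996ef)
noncomputable def oaT : Tr ℕ := (.node (nat_lit 5) (.node (nat_lit 2) (.node (nat_lit 1) (.leaf oat0) (.leaf oat1)) (.node (nat_lit 3) (.leaf oat2) (.node (nat_lit 4) (.leaf oat3) (.leaf oat4))))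
 (.node (nat_lit 8) (.node (nat_lit 6) (.leaf oat5) (.node (nat_lit 7) (.leaf oat6) (.leaf oat7))) (.node (nat_lit 9) (.leaf oat8) (.node (nat_lit 10) (.leaf oat9) (.leaf oat10)))))
noncomputable def oaL0 : Lev := ⟨(nat_lit 0), (nat_lit 11), (nat_lit 0x1020203040804060b060407040903050b0603080a090b00), (nat_lit 0x20203020302030201030203030303020303030303020300),
 (.leaf 0),
 (.leaf 0)⟩
noncomputable def oaL1 : Lev := ⟨(nat_lit 1), (nat_lit 10), (nat_lit 0x405060401020403080a0306030804040702050a080a0000), (nat_lit 0x30202030202030303010303020302030203030303030000),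
 (.leaf 0),
 (.leaf 0)⟩
noncomputable def oaL2 : Lev := ⟨(nat_lit 2), (nat_lit 9), (nat_lit 0x10202030408040609060407040903050906030809000000), (nat_lit 0x20203020302030201030203030303020303030303000000),
 (.leaf 0),
 (.leaf 0)⟩
noncomputable def oaL3 : Lev := ⟨(nat_lit 3), (nat_lit 8), (nat_lit 0x30503010705010503040807060808020701060700000000), (nat_lit 0x20303020202040303020303030401020303020300000000),
 (.leaf 0),
 (.leaf 0)⟩
noncomputable def oaL4 : Lev := ⟨(nat_lit 4), (nat_lit 7), (nat_lit 0x50303020406040506060507070705010704070000000000), (nat_lit 0x30203020302030303030304030402020402010000000000),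
 (.leaf 0),
 (.leaf 0)⟩
noncomputable def oaL5 : Lev := ⟨(nat_lit 7), (nat_lit 6), (nat_lit 0x6000500000000000000000000), (nat_lit 0x1000100000000000000000000),
 (.leaf 0),
 (.leaf 0)⟩
noncomputable def oaL6 : Lev := ⟨(nat_lit 5), (nat_lit 4), (nat_lit 0x30303020404040403040400040002010004000000000000), (nat_lit 0x30102010202020302030300040002010001000000000000),
 (.leaf 0),
 (.leaf 0)⟩
noncomputable def oaL7 : Lev := ⟨(nat_lit 6), (nat_lit 0), (nat_lit 0x0), (nat_lit 0x0),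
 (.leaf 0),
 (.leaf 0)⟩
noncomputable def oaL8 : Lev := ⟨(nat_lit 8), (nat_lit 0), (nat_lit 0x0), (nat_lit 0x0),
 (.leaf 0),
 (.leaf 0)⟩
noncomputable def oaL9 : Lev := ⟨(nat_lit 9), (nat_lit 0), (nat_lit 0x0), (nat_lit 0x0),
 (.leaf 0),
 (.leaf 0)⟩
noncomputable def oaL10 : Lev := ⟨(nat_lit 10), (nat_lit 0), (nat_lit 0x0), (nat_lit 0x0),
 (.leaf 0),
 (.leaf 0)⟩
noncomputable def oaL11 : Lev := ⟨(nat_lit 11), (nat_lit 0), (nat_lit 0x0), (nat_lit 0x0),
 (.leaf 0),
 (.leaf 0)⟩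
noncomputable def oaL12 : Lev := ⟨(nat_lit 12), (nat_lit 0), (nat_lit 0x0), (nat_lit 0x0),
 (.leaf 0),
 (.leaf 0)⟩
noncomputable def oaL13 : Lev := ⟨(nat_lit 13), (nat_lit 0), (nat_lit 0x0), (nat_lit 0x0),
 (.leaf 0),
 (.leaf 0)⟩
noncomputable def oaL14 : Lev := ⟨(nat_lit 14), (nat_lit 0), (nat_lit 0x0), (nat_lit 0x0),
 (.leaf 0),
 (.leaf 0)⟩
noncomputable def oaL15 : Lev := ⟨(nat_lit 15), (nat_lit 0), (nat_lit 0x0), (nat_lit 0x0),
 (.leaf 0),
 (.leaf 0)⟩
noncomputable def oaL16 : Lev := ⟨(nat_lit 16), (nat_lit 0), (nat_lit 0x0), (nat_lit 0x0),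
 (.leaf 0),
 (.leaf 0)⟩
noncomputable def oaL17 : Lev := ⟨(nat_lit 17), (nat_lit 0), (nat_lit 0x0), (nat_lit 0x0),
 (.leaf 0),
 (.leaf 0)⟩
noncomputable def oaL18 : Lev := ⟨(nat_lit 18), (nat_lit 0), (nat_lit 0x0), (nat_lit 0x0),
 (.leaf 0),
 (.leaf 0)⟩
noncomputable def oaL19 : Lev := ⟨(nat_lit 19), (nat_lit 0), (nat_lit 0x0), (nat_lit 0x0),
 (.leaf 0),
 (.leaf 0)⟩
noncomputable def oaL20 : Lev := ⟨(nat_lit 20), (nat_lit 0), (nat_lit 0x0), (nat_lit 0x0),
 (.leaf 0),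
 (.leaf 0)⟩
noncomputable def oaL21 : Lev := ⟨(nat_lit 21), (nat_lit 0), (nat_lit 0x0), (nat_lit 0x0),
 (.leaf 0),
 (.leaf 0)⟩
noncomputable def oaL22 : Lev := ⟨(nat_lit 22), (nat_lit 0), (nat_lit 0x0), (nat_lit 0x0),
 (.leaf 0),
 (.leaf 0)⟩
noncomputable def oaL : List Lev := [oaL0, oaL1, oaL2, oaL3, oaL4, oaL5, oaL6, oaL7, oaL8, oaL9, oaL10, oaL11, oaL12, oaL13, oaL14, oaL15, oaL16, oaL17, oaL18, oaL19, oaL20, oaL21, oaL22]
theorem om : mskC 24 StB.oL = true := by decide +kernel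
theorem os1 : band (osT.all fun c => surjF 24 (ap (nat_lit 5) (nat_lit 31) c)) (band (tchainChk 24 (nat_lit 5) (nat_lit 31) osT osL) (Nat.ble (Nat.factorial 24) (chainOrd 24 osL))) = true := by decide +kernel
theorem os2 : oaT.all (fun c => surjF 24 (ap (nat_lit 5) (nat_lit 31) c)) = true := by decide +kernel
theorem os3_0 : oaT.l.l.all (fun c => fxF 24 StB.oL (ap (nat_lit 5) (nat_lit 31) c)) = true := by decide +kernel
theorem os3_1 : oaT.l.r.all (fun c => fxF 24 StB.oL (ap (nat_lit 5) (nat_lit 31) c)) = true := by decide +kernel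
theorem os3_2 : oaT.r.l.all (fun c => fxF 24 StB.oL (ap (nat_lit 5) (nat_lit 31) c)) = true := by decide +kernel
theorem os3_3 : oaT.r.r.all (fun c => fxF 24 StB.oL (ap (nat_lit 5) (nat_lit 31) c)) = true := by decide +kernel
theorem os3 : oaT.all (fun c => fxF 24 StB.oL (ap (nat_lit 5) (nat_lit 31) c)) = true := (Tr.all_lr (Tr.all_lr os3_0 os3_1) (Tr.all_lr os3_2 os3_3))
theorem oatc : tchainChk 24 (nat_lit 5) (nat_lit 31) oaT oaL = true := by decide +kernel
noncomputable def oaJ : List Pr := [(prS 24 5 StB.oL)]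
noncomputable def oaF0 : ℕ × ℕ := ((nat_lit 0), (nat_lit 0))
theorem oab0 : allR 0 24 (ptB 24 (nat_lit 5) (nat_lit 31) osT oaT oaJ osL0 [osL1, osL2, osL3, osL4, osL5, osL6, osL7, osL8, osL9, osL10, osL11, osL12, osL13, osL14, osL15, osL16, osL17, osL18, osL19, osL20, osL21, osL22] oaL0 (dg []) oaF0.1 oaF0.2) = true := by decide +kernel
noncomputable def oaF1 : ℕ × ℕ := ((nat_lit 0), (nat_lit 0))
theorem oab1 : allR 0 24 (ptB 24 (nat_lit 5) (nat_lit 31) osT oaT oaJ osL1 [osL2, osL3, osL4, osL5, osL6, osL7, osL8, osL9, osL10, osL11, osL12, osL13, osL14, osL15, osL16, osL17, osL18, osL19, osL20, osL21, osL22] oaL1 (dg [osL0.b]) oaF1.1 oaF1.2) = true := by decide +kernel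
noncomputable def oaF2 : ℕ × ℕ := ((nat_lit 0), (nat_lit 0))
theorem oab2 : allR 0 24 (ptB 24 (nat_lit 5) (nat_lit 31) osT oaT oaJ osL2 [osL3, osL4, osL5, osL6, osL7, osL8, osL9, osL10, osL11, osL12, osL13, osL14, osL15, osL16, osL17, osL18, osL19, osL20, osL21, osL22] oaL2 (dg [osL1.b, osL0.b]) oaF2.1 oaF2.2) = true := by decide +kernel
noncomputable def oaF3 : ℕ × ℕ := ((nat_lit 0), (nat_lit 0))
theorem oab3 : allR 0 24 (ptB 24 (nat_lit 5) (nat_lit 31) osT oaT oaJ osL3 [osL4, osL5, osL6, osL7, osL8, osL9, osL10, osL11, osL12, osL13, osL14, osL15, osL16, osL17, osL18, osL19, osL20, osL21, osL22] oaL3 (dg [osL2.b, osL1.b, osL0.b]) oaF3.1 oaF3.2) = true := by decide +kernel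
noncomputable def oaF4 : ℕ × ℕ := ((nat_lit 0), (nat_lit 0))
theorem oab4 : allR 0 24 (ptB 24 (nat_lit 5) (nat_lit 31) osT oaT oaJ osL4 [osL5, osL6, osL7, osL8, osL9, osL10, osL11, osL12, osL13, osL14, osL15, osL16, osL17, osL18, osL19, osL20, osL21, osL22] oaL4 (dg [osL3.b, osL2.b, osL1.b, osL0.b]) oaF4.1 oaF4.2) = true := by decide +kernel
noncomputable def oaF5 : ℕ × ℕ := ((nat_lit 0xffffffffffffffffffffff00ff00ffff00ffff0000000000), (nat_lit 0))
theorem oab5 : allR 0 24 (ptB 24 (nat_lit 5) (nat_lit 31) osT oaT oaJ osL5 [osL6, osL7, osL8, osL9, osL10, osL11, osL12, osL13, osL14, osL15, osL16, osL17, osL18, osL19, osL20, osL21, osL22] oaL5 (dg [osL4.b, osL3.b, osL2.b, osL1.b, osL0.b]) oaF5.1 oaF5.2) = true := by decide +kernel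
noncomputable def oaF6 : ℕ × ℕ := ((nat_lit 0xff00ff00000000000000000000), (nat_lit 0))
theorem oab6 : allR 0 24 (ptB 24 (nat_lit 5) (nat_lit 31) osT oaT oaJ osL6 [osL7, osL8, osL9, osL10, osL11, osL12, osL13, osL14, osL15, osL16, osL17, osL18, osL19, osL20, osL21, osL22] oaL6 (dg [osL5.b, osL4.b, osL3.b, osL2.b, osL1.b, osL0.b]) oaF6.1 oaF6.2) = true := by decide +kernel
noncomputable def oaF7 : ℕ × ℕ := ((nat_lit 0xffffffffffffffffffffffffffffffff0000000000000000), (nat_lit 0))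
theorem oab7 : allR 0 24 (ptB 24 (nat_lit 5) (nat_lit 31) osT oaT oaJ osL7 [osL8, osL9, osL10, osL11, osL12, osL13, osL14, osL15, osL16, osL17, osL18, osL19, osL20, osL21, osL22] oaL7 (dg [osL6.b, osL5.b, osL4.b, osL3.b, osL2.b, osL1.b, osL0.b]) oaF7.1 oaF7.2) = true := by decide +kernel
noncomputable def oaF8 : ℕ × ℕ := ((nat_lit 0xffffffffffffffffffffffffffffff000000000000000000), (nat_lit 0))
theorem oab8 : allR 0 24 (ptB 24 (nat_lit 5) (nat_lit 31) osT oaT oaJ osL8 [osL9, osL10, osL11, osL12, osL13, osL14, osL15, osL16, osL17, osL18, osL19, osL20, osL21, osL22] oaL8 (dg [osL7.b, osL6.b, osL5.b, osL4.b, osL3.b, osL2.b, osL1.b, osL0.b]) oaF8.1 oaF8.2) = true := by decide +kernel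
noncomputable def oaF9 : ℕ × ℕ := ((nat_lit 0xffffffffffffffffffffffffffff00000000000000000000), (nat_lit 0))
theorem oab9 : allR 0 24 (ptB 24 (nat_lit 5) (nat_lit 31) osT oaT oaJ osL9 [osL10, osL11, osL12, osL13, osL14, osL15, osL16, osL17, osL18, osL19, osL20, osL21, osL22] oaL9 (dg [osL8.b, osL7.b, osL6.b, osL5.b, osL4.b, osL3.b, osL2.b, osL1.b, osL0.b]) oaF9.1 oaF9.2) = true := by decide +kernel
noncomputable def oaF10 : ℕ × ℕ := ((nat_lit 0xffffffffffffffffffffffffff0000000000000000000000), (nat_lit 0))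
theorem oab10 : allR 0 24 (ptB 24 (nat_lit 5) (nat_lit 31) osT oaT oaJ osL10 [osL11, osL12, osL13, osL14, osL15, osL16, osL17, osL18, osL19, osL20, osL21, osL22] oaL10 (dg [osL9.b, osL8.b, osL7.b, osL6.b, osL5.b, osL4.b, osL3.b, osL2.b, osL1.b, osL0.b]) oaF10.1 oaF10.2) = true := by decide +kernel
noncomputable def oaF11 : ℕ × ℕ := ((nat_lit 0xffffffffffffffffffffffff000000000000000000000000), (nat_lit 0))
theorem oab11 : allR 0 24 (ptB 24 (nat_lit 5) (nat_lit 31) osT oaT oaJ osL11 [osL12, osL13, osL14, osL15, osL16, osL17, osL18, osL19, osL20, osL21, osL22] oaL11 (dg [osL10.b, osL9.b, osL8.b, osL7.b, osL6.b, osL5.b, osL4.b, osL3.b, osL2.b, osL1.b, osL0.b]) oaF11.1 oaF11.2) = true := by decide +kernel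
noncomputable def oaF12 : ℕ × ℕ := ((nat_lit 0xffffffffffffffffffffff00000000000000000000000000), (nat_lit 0))
theorem oab12 : allR 0 24 (ptB 24 (nat_lit 5) (nat_lit 31) osT oaT oaJ osL12 [osL13, osL14, osL15, osL16, osL17, osL18, osL19, osL20, osL21, osL22] oaL12 (dg [osL11.b, osL10.b, osL9.b, osL8.b, osL7.b, osL6.b, osL5.b, osL4.b, osL3.b, osL2.b, osL1.b, osL0.b]) oaF12.1 oaF12.2) = true := by decide +kernel
noncomputable def oaF13 : ℕ × ℕ := ((nat_lit 0xffffffffffffffffffff0000000000000000000000000000), (nat_lit 0))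
theorem oab13 : allR 0 24 (ptB 24 (nat_lit 5) (nat_lit 31) osT oaT oaJ osL13 [osL14, osL15, osL16, osL17, osL18, osL19, osL20, osL21, osL22] oaL13 (dg [osL12.b, osL11.b, osL10.b, osL9.b, osL8.b, osL7.b, osL6.b, osL5.b, osL4.b, osL3.b, osL2.b, osL1.b, osL0.b]) oaF13.1 oaF13.2) = true := by decide +kernel
noncomputable def oaF14 : ℕ × ℕ := ((nat_lit 0xffffffffffffffffff000000000000000000000000000000), (nat_lit 0))
theorem oab14 : allR 0 24 (ptB 24 (nat_lit 5) (nat_lit 31) osT oaT oaJ osL14 [osL15, osL16, osL17, osL18, osL19, osL20, osL21, osL22] oaL14 (dg [osL13.b, osL12.b, osL11.b, osL10.b, osL9.b, osL8.b, osL7.b, osL6.b, osL5.b, osL4.b, osL3.b, osL2.b, osL1.b, osL0.b]) oaF14.1 oaF14.2) = true := by decide +kernel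
noncomputable def oaF15 : ℕ × ℕ := ((nat_lit 0xffffffffffffffff00000000000000000000000000000000), (nat_lit 0))
theorem oab15 : allR 0 24 (ptB 24 (nat_lit 5) (nat_lit 31) osT oaT oaJ osL15 [osL16, osL17, osL18, osL19, osL20, osL21, osL22] oaL15 (dg [osL14.b, osL13.b, osL12.b, osL11.b, osL10.b, osL9.b, osL8.b, osL7.b, osL6.b, osL5.b, osL4.b, osL3.b, osL2.b, osL1.b, osL0.b]) oaF15.1 oaF15.2) = true := by decide +kernel
noncomputable def oaF16 : ℕ × ℕ := ((nat_lit 0xffffffffffffff0000000000000000000000000000000000), (nat_lit 0))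
theorem oab16 : allR 0 24 (ptB 24 (nat_lit 5) (nat_lit 31) osT oaT oaJ osL16 [osL17, osL18, osL19, osL20, osL21, osL22] oaL16 (dg [osL15.b, osL14.b, osL13.b, osL12.b, osL11.b, osL10.b, osL9.b, osL8.b, osL7.b, osL6.b, osL5.b, osL4.b, osL3.b, osL2.b, osL1.b, osL0.b]) oaF16.1 oaF16.2) = true := by decide +kernel
noncomputable def oaF17 : ℕ × ℕ := ((nat_lit 0xffffffffffff000000000000000000000000000000000000), (nat_lit 0))
theorem oab17 : allR 0 24 (ptB 24 (nat_lit 5) (nat_lit 31) osT oaT oaJ osL17 [osL18, osL19, osL20, osL21, osL22] oaL17 (dg [osL16.b, osL15.b, osL14.b, osL13.b, osL12.b, osL11.b, osL10.b, osL9.b, osL8.b, osL7.b, osL6.b, osL5.b, osL4.b, osL3.b, osL2.b, osL1.b, osL0.b]) oaF17.1 oaF17.2) = true := by decide +kernel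
noncomputable def oaF18 : ℕ × ℕ := ((nat_lit 0xffffffffff00000000000000000000000000000000000000), (nat_lit 0))
theorem oab18 : allR 0 24 (ptB 24 (nat_lit 5) (nat_lit 31) osT oaT oaJ osL18 [osL19, osL20, osL21, osL22] oaL18 (dg [osL17.b, osL16.b, osL15.b, osL14.b, osL13.b, osL12.b, osL11.b, osL10.b, osL9.b, osL8.b, osL7.b, osL6.b, osL5.b, osL4.b, osL3.b, osL2.b, osL1.b, osL0.b]) oaF18.1 oaF18.2) = true := by decide +kernel
noncomputable def oaF19 : ℕ × ℕ := ((nat_lit 0xffffffff0000000000000000000000000000000000000000), (nat_lit 0))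
theorem oab19 : allR 0 24 (ptB 24 (nat_lit 5) (nat_lit 31) osT oaT oaJ osL19 [osL20, osL21, osL22] oaL19 (dg [osL18.b, osL17.b, osL16.b, osL15.b, osL14.b, osL13.b, osL12.b, osL11.b, osL10.b, osL9.b, osL8.b, osL7.b, osL6.b, osL5.b, osL4.b, osL3.b, osL2.b, osL1.b, osL0.b]) oaF19.1 oaF19.2) = true := by decide +kernel
noncomputable def oaF20 : ℕ × ℕ := ((nat_lit 0xffffff000000000000000000000000000000000000000000), (nat_lit 0))
theorem oab20 : allR 0 24 (ptB 24 (nat_lit 5) (nat_lit 31) osT oaT oaJ osL20 [osL21, osL22] oaL20 (dg [osL19.b, osL18.b, osL17.b, osL16.b, osL15.b, osL14.b, osL13.b, osL12.b, osL11.b, osL10.b, osL9.b, osL8.b, osL7.b, osL6.b, osL5.b, osL4.b, osL3.b, osL2.b, osL1.b, osL0.b]) oaF20.1 oaF20.2) = true := by decide +kernel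
noncomputable def oaF21 : ℕ × ℕ := ((nat_lit 0xffff00000000000000000000000000000000000000000000), (nat_lit 0))
theorem oab21 : allR 0 24 (ptB 24 (nat_lit 5) (nat_lit 31) osT oaT oaJ osL21 [osL22] oaL21 (dg [osL20.b, osL19.b, osL18.b, osL17.b, osL16.b, osL15.b, osL14.b, osL13.b, osL12.b, osL11.b, osL10.b, osL9.b, osL8.b, osL7.b, osL6.b, osL5.b, osL4.b, osL3.b, osL2.b, osL1.b, osL0.b]) oaF21.1 oaF21.2) = true := by decide +kernel
noncomputable def oaF22 : ℕ × ℕ := ((nat_lit 0xff0000000000000000000000000000000000000000000000), (nat_lit 0))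
theorem oab22 : allR 0 24 (ptB 24 (nat_lit 5) (nat_lit 31) osT oaT oaJ osL22 [] oaL22 (dg [osL21.b, osL20.b, osL19.b, osL18.b, osL17.b, osL16.b, osL15.b, osL14.b, osL13.b, osL12.b, osL11.b, osL10.b, osL9.b, osL8.b, osL7.b, osL6.b, osL5.b, osL4.b, osL3.b, osL2.b, osL1.b, osL0.b]) oaF22.1 oaF22.2) = true := by decide +kernel
theorem oabk : Bk 24 (nat_lit 5) (nat_lit 31) osT oaT oaJ osL oaL [oaF0, oaF1, oaF2, oaF3, oaF4, oaF5, oaF6, oaF7, oaF8, oaF9, oaF10, oaF11, oaF12, oaF13, oaF14, oaF15, oaF16, oaF17, oaF18, oaF19, oaF20, oaF21, oaF22] [] :=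
  ⟨rfl, oab0, rfl, oab1, rfl, oab2, rfl, oab3, rfl, oab4, rfl, oab5, rfl, oab6, rfl, oab7, rfl, oab8, rfl, oab9, rfl, oab10, rfl, oab11, rfl, oab12, rfl, oab13, rfl, oab14, rfl, oab15, rfl, oab16, rfl, oab17, rfl, oab18, rfl, oab19, rfl, oab20, rfl, oab21, rfl, oab22, trivial⟩
noncomputable def obt0 : ℕ := (nat_lit 0x71a4d7d4a89de8c4a9703da2418820)
noncomputable def obt1 : ℕ := (nat_lit 0xb5de894d6da9a0c8a8b43b92418820)
noncomputable def obt2 : ℕ := (nat_lit 0x4950f6c0d2a2e6c72af53c6c418820)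
noncomputable def obt3 : ℕ := (nat_lit 0xa20b75c6464b5cc9a9f63c2a418820)
noncomputable def obt4 : ℕ := (nat_lit 0x9157641ab37b52a89dd065e8418820)
noncomputable def obt5 : ℕ := (nat_lit 0x3522585d687a5c7ab1b354ac418820)
noncomputable def obt6 : ℕ := (nat_lit 0xbd6cb22627638cfa224a834b318820)
noncomputable def obt7 : ℕ := (nat_lit 0x532548d6674b8762dde88196468820)
noncomputable def obt8 : ℕ := (nat_lit 0x25256156237b96c6a8c82a4f784c20)
noncomputable def obt9 : ℕ := (nat_lit 0xbdaab8ca6a089a3a40c83a485639e0)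
noncomputable def obt10 : ℕ := (nat_lit 0x3322794ea1114764100ba5dca6be09)
noncomputable def obT : Tr ℕ := (.node (nat_lit 5) (.node (nat_lit 2) (.node (nat_lit 1) (.leaf obt0) (.leaf obt1)) (.node (nat_lit 3) (.leaf obt2) (.node (nat_lit 4) (.leaf obt3) (.leaf obt4))))
 (.node (nat_lit 8) (.node (nat_lit 6) (.leaf obt5) (.node (nat_lit 7) (.leaf obt6) (.leaf obt7))) (.node (nat_lit 9) (.leaf obt8) (.node (nat_lit 10) (.leaf obt9) (.leaf obt10)))))
noncomputable def obL0 : Lev := ⟨(nat_lit 0), (nat_lit 11), (nat_lit 0x3030507040702020406050701080b0b0909020a080b0a00), (nat_lit 0x20303030302030302020203020301030302020303030300),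
 (.leaf 0),
 (.leaf 0)⟩
noncomputable def obL1 : Lev := ⟨(nat_lit 1), (nat_lit 10), (nat_lit 0x4070203010208050a06030704060406050904070a090000), (nat_lit 0x30302020203030301030302030302030303030303030000),
 (.leaf 0),
 (.leaf 0)⟩
noncomputable def obL2 : Lev := ⟨(nat_lit 2), (nat_lit 9), (nat_lit 0x50402030902080501040307040704060706080708000000), (nat_lit 0x30303030102020202030203020303020303030203000000),
 (.leaf 0),
 (.leaf 0)⟩
noncomputable def obL3 : Lev := ⟨(nat_lit 3), (nat_lit 8), (nat_lit 0x40603010303080203040807070706020707050700000000), (nat_lit 0x30304020203030203020104030402030302030300000000),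
 (.leaf 0),
 (.leaf 0)⟩
noncomputable def obL4 : Lev := ⟨(nat_lit 4), (nat_lit 7), (nat_lit 0x50402030702040501040307040704060706040000000000), (nat_lit 0x30303030102030202030203020303020303040000000000),
 (.leaf 0),
 (.leaf 0)⟩
noncomputable def obL5 : Lev := ⟨(nat_lit 7), (nat_lit 6), (nat_lit 0x6000500000000000000000000), (nat_lit 0x1000100000000000000000000),
 (.leaf 0),
 (.leaf 0)⟩
noncomputable def obL6 : Lev := ⟨(nat_lit 5), (nat_lit 4), (nat_lit 0x30304040404010404030400020002040003000000000000), (nat_lit 0x20101030302010302030400020001020002000000000000),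
 (.leaf 0),
 (.leaf 0)⟩
noncomputable def obL : List Lev := [obL0, obL1, obL2, obL3, obL4, obL5, obL6]
noncomputable def obE : Tr (List ℕ) := (.node (nat_lit 5) (.node (nat_lit 2) (.node (nat_lit 1) (.leaf [nat_lit 3, nat_lit 2]) (.leaf [nat_lit 1, nat_lit 0])) (.node (nat_lit 3) (.leaf [nat_lit 2]) (.node (nat_lit 4) (.leaf [nat_lit 2, nat_lit 0]) (.leaf [nat_lit 4, nat_lit 2, nat_lit 1, nat_lit 0]))))
 (.node (nat_lit 8) (.node (nat_lit 6) (.leaf [nat_lit 5, nat_lit 3, nat_lit 1, nat_lit 0]) (.node (nat_lit 7) (.leaf [nat_lit 3, nat_lit 1, nat_lit 6, nat_lit 4, nat_lit 3, nat_lit 0]) (.leaf [nat_lit 7, nat_lit 2, nat_lit 7, nat_lit 4, nat_lit 0, nat_lit 6, nat_lit 4]))) (.node (nat_lit 9) (.leaf [nat_lit 3, nat_lit 2, nat_lit 8, nat_lit 1, nat_lit 7, nat_lit 4, nat_lit 0, nat_lit 6, nat_lit 3, nat_lit 2]) (.node (nat_lit 10) (.leaf [nat_lit 7, nat_lit 1, nat_lit 9, nat_lit 8, nat_lit 7, nat_lit 8, nat_lit 5, nat_lit 0, nat_lit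 6, nat_lit 4, nat_lit 0]) (.leaf [nat_lit 2, nat_lit 0, nat_lit 10, nat_lit 2, nat_lit 1, nat_lit 9, nat_lit 3, nat_lit 8, nat_lit 2, nat_lit 7, nat_lit 2, nat_lit 0, nat_lit 6, nat_lit 3])))))
theorem obw_0 : obT.all2 (fun c w => isProd 24 (nat_lit 5) (nat_lit 31) oaT c w) obE = true := by decide +kernel
theorem obw : obT.all2 (fun c w => isProd 24 (nat_lit 5) (nat_lit 31) oaT c w) obE = true := obw_0
theorem obc : band (tchainChk 24 (nat_lit 5) (nat_lit 31) obT obL) (Nat.ble (chainOrd 24 oaL) (chainOrd 24 obL)) = true := by decide +kernel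
theorem och {C : H7.Coding X} (hn : C.n = 24) : Ch (setSystemAut (blk C StB.oL)) 24 (nat_lit 5) (nat_lit 31) C.dec obT obL :=
  have C1 := (ch_sym hn os1).aut hn om 5 (lets_sym hn os2) os3 oatc oabk
  (C1.ch (lets_words C1.lets obE obw) obc)
theorem omv : mvChk 24 ([0, 1, 2, 3, 4].map fun b => (H7.ones 24, b)) obL [] = true := by decide +kernel
noncomputable def oiI : Tr (List ℕ) := (.node (nat_lit 4) (.node (nat_lit 2) (.node (nat_lit 1) (.leaf [nat_lit 4, nat_lit 2]) (.leaf [nat_lit 5, nat_lit 3, nat_lit 2, nat_lit 1])) (.node (nat_lit 3) (.leaf [nat_lit 2]) (.leaf [nat_lit 3, nat_lit 0])))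
 (.node (nat_lit 6) (.node (nat_lit 5) (.leaf [nat_lit 3, nat_lit 4, nat_lit 6, nat_lit 4, nat_lit 3, nat_lit 0]) (.leaf [nat_lit 3, nat_lit 7, nat_lit 5, nat_lit 2, nat_lit 0])) (.node (nat_lit 7) (.leaf [nat_lit 3, nat_lit 2, nat_lit 8, nat_lit 6, nat_lit 2, nat_lit 7, nat_lit 1, nat_lit 0, nat_lit 6, nat_lit 5, nat_lit 3, nat_lit 1, nat_lit 0]) (.node (nat_lit 8) (.leaf [nat_lit 3, nat_lit 0, nat_lit 9, nat_lit 5, nat_lit 1, nat_lit 8, nat_lit 6, nat_lit 1, nat_lit 0, nat_lit 7, nat_lit 5, nat_lit 1, nat_lit 6, nat_lit 4, nat_lit 3, nat_lit 1, nat_lit 0]) (.leaf [nat_lit 0, nat_lit 10, nat_lit 6, nat_lit 0, nat_lit 9, nat_lit 7, nat_lit 2, nat_lit 8, nat_lit 2, nat_lit 0, nat_lit 7, nat_lit 4, nat_lit 2])))))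
theorem oih : M24.RL.all (fun w => eqB (obL.map Lev.b) (apF (fun y => apL (nat_lit 5) (nat_lit 31) obT (oiI.get y)) w) fun a => a) = true := by decide +kernel
noncomputable def oiD : Tr (List ℕ) := (.node (nat_lit 5) (.node (nat_lit 2) (.node (nat_lit 1) (.leaf [nat_lit 0, nat_lit 3, nat_lit 0, nat_lit 2, nat_lit 0]) (.leaf [nat_lit 1, nat_lit 3, nat_lit 0])) (.node (nat_lit 3) (.leaf [nat_lit 2]) (.node (nat_lit 4) (.leaf [nat_lit 1, nat_lit 3, nat_lit 2, nat_lit 0]) (.leaf [nat_lit 0, nat_lit 2]))))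
 (.node (nat_lit 8) (.node (nat_lit 6) (.leaf [nat_lit 2, nat_lit 1]) (.node (nat_lit 7) (.leaf [nat_lit 4, nat_lit 3, nat_lit 0, nat_lit 4, nat_lit 0, nat_lit 3, nat_lit 0, nat_lit 2]) (.leaf [nat_lit 3, nat_lit 1, nat_lit 5, nat_lit 1, nat_lit 3, nat_lit 2, nat_lit 0]))) (.node (nat_lit 9) (.leaf [nat_lit 4, nat_lit 6, nat_lit 1, nat_lit 3, nat_lit 5, nat_lit 2, nat_lit 4, nat_lit 3, nat_lit 1, nat_lit 2]) (.node (nat_lit 10) (.leaf [nat_lit 3, nat_lit 7, nat_lit 1, nat_lit 6, nat_lit 3, nat_lit 5, nat_lit 1, nat_lit 4, nat_lit 3, nat_lit 1, nat_lit 2, nat_lit 0]) (.leaf [nat_lit 6, nat_lit 5, nat_lit 8, nat_lit 5, nat_lit 7, nat_lit 5, nat_lit 6, nat_lit 3, nat_lit 1, nat_lit 5, nat_lit 4, nat_lit 0, nat_lit 3])))))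
theorem ois : band (surChk (nat_lit 5) (nat_lit 31) (obL.map Lev.b) obT oiI (topN M24.L) oiD (topN obL)) (Nat.ble (chainOrd 24 M24.L) (chainOrd 24 obL)) = true := by decide +kernel
theorem oiso {C : H7.Coding X} (hn : C.n = 24) : Nonempty (M24.P ≃* (setSystemAut (blk C StB.oL))) :=
  (M24.std.isoW (och hn) oih ois)

end H8.StC
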