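import Cfsg.Agent.H8.U6a

/-! H8.U6b: two generators of U6(2) (generated certificate) -/

set_option autoImplicit false
set_option maxRecDepth 200000

set_option linter.all false
open Subgroup 

namespace H8.U6

noncomputable def xE : Tr (List ℕ) := (.node (nat_lit 13) (.node (nat_lit 6) (.node (nat_lit 3) (.node (nat_lit 1) (.leaf [nat_lit 1, nat_lit 9, nat_lit 6, nat_lit 0, nat_lit 9, nat_lit 6, nat_lit 1, nat_lit 8, nat_lit 6, nat_lit 4, nat_lit 8, nat_lit 1, nat_lit 3, nat_lit 7, nat_lit 4, nat_lit 7, nat_lit 5, nat_lit 4, nat_lit 5, nat_lit 2, nat_lit 0]) (.node (nat_lit 2) (.leaf [nat_lit 3, nat_lit 9, nat_lit 1, nat_lit 8, nat_lit 5, nat_lit 8, nat_lit 0, nat_lit 8, nat_lit 1, nat_lit 7, nat_lit 6, nat_lit 4, nat_lit 7, nat_lit 6, nat_lit 6, nat_lit 1]) (.leaf [nat_lit 0, nat_lit 9, nat_lit 6, nat_lit 0, nat_lit 9, nat_lit 0, nat_lit 5, nat_lit 1, nat_lit 8, nat_lit 7,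 nat_lit 3, nat_lit 7, nat_lit 5, nat_lit 3, nat_lit 5, nat_lit 1]))) (.node (nat_lit 4) (.leaf [nat_lit 3, nat_lit 8, nat_lit 2, nat_lit 1, nat_lit 9, nat_lit 3, nat_lit 7, nat_lit 3, nat_lit 8, nat_lit 1, nat_lit 8, nat_lit 3, nat_lit 7, nat_lit 4, nat_lit 7, nat_lit 1, nat_lit 6, nat_lit 2, nat_lit 0]) (.node (nat_lit 5) (.leaf [nat_lit 0, nat_lit 3, nat_lit 8, nat_lit 5, nat_lit 1, nat_lit 7, nat_lit 4, nat_lit 7, nat_lit 3, nat_lit 0, nat_lit 3, nat_lit 2, nat_lit 1]) (.leaf [nat_lit 1, nat_lit 4, nat_lit 4, nat_lit 7, nat_lit 8, nat_lit 1, nat_lit 7, nat_lit 6, nat_lit 7, nat_lit 5, nat_lit 3, nat_lit 2]))))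
 (.node (nat_lit 9) (.node (nat_lit 7) (.leaf [nat_lit 0, nat_lit 8, nat_lit 5, nat_lit 7, nat_lit 8, nat_lit 6, nat_lit 7, nat_lit 4, nat_lit 7, nat_lit 3, nat_lit 1, nat_lit 4, nat_lit 0]) (.node (nat_lit 8) (.leaf [nat_lit 7, nat_lit 8, nat_lit 7, nat_lit 4, nat_lit 8, nat_lit 5, nat_lit 7, nat_lit 3, nat_lit 0, nat_lit 7, nat_lit 6, nat_lit 6]) (.leaf [nat_lit 4, nat_lit 7, nat_lit 1, nat_lit 4, nat_lit 7, nat_lit 3, nat_lit 5, nat_lit 0])))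
 (.node (nat_lit 11) (.node (nat_lit 10) (.leaf [nat_lit 6, nat_lit 1, nat_lit 7, nat_lit 5, nat_lit 3, nat_lit 5, nat_lit 2]) (.leaf [nat_lit 1, nat_lit 3, nat_lit 7, nat_lit 4, nat_lit 6, nat_lit 4, nat_lit 2, nat_lit 1])) (.node (nat_lit 12) (.leaf [nat_lit 1, nat_lit 5, nat_lit 2, nat_lit 0]) (.leaf [nat_lit 0, nat_lit 6, nat_lit 2, nat_lit 1])))))
 (.node (nat_lit 19) (.node (nat_lit 16) (.node (nat_lit 14) (.leaf [nat_lit 1, nat_lit 3, nat_lit 2, nat_lit 1]) (.node (nat_lit 15) (.leaf [nat_lit 4, nat_lit 2, nat_lit 1]) (.leaf [nat_lit 2]))) (.node (nat_lit 17) (.leaf [nat_lit 2, nat_lit 0]) (.node (nat_lit 18) (.leaf [nat_lit 0]) (.leaf [nat_lit 1]))))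
 (.node (nat_lit 22) (.node (nat_lit 20) (.leaf [nat_lit 3]) (.node (nat_lit 21) (.leaf [nat_lit 4]) (.leaf [nat_lit 5])))
 (.node (nat_lit 24) (.node (nat_lit 23) (.leaf [nat_lit 6]) (.leaf [nat_lit 7])) (.node (nat_lit 25) (.leaf [nat_lit 8]) (.leaf [nat_lit 9]))))))
theorem xw_0 : xS.all2 (fun c w => isProd 693 (nat_lit 10) (nat_lit 1023) U62.T c w) xE = true := by decide +kernel
theorem xw : xS.all2 (fun c w => isProd 693 (nat_lit 10) (nat_lit 1023) U62.T c w) xE = true := xw_0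
theorem xl {G : Type*} [Group G] [Finite G] {X : Type*} [MulAction G X] {pt : ℕ → X} (C : Ch G 693 (nat_lit 10) (nat_lit 1023) pt U62.T U62.L) : Lets G 693 (nat_lit 10) (nat_lit 1023) pt xS := lets_words C.lets xE xw

end H8.U6
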